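import Mathlib

set_option autoImplicit false

namespace Cfsg.Agent.Helper25

variable {G : Type*} [Group G]

/-- `K ∩ H` is a Sylow `p`-subgroup of `H` (phrased as in the statements). -/
def IsSylowIn (p : ℕ) (K H : Subgroup G) : Prop :=
  ∃ R : Sylow p H, (R : Subgroup H) = K.subgroupOf H

theorem card_subgroupOf_eq_card_inf (K H : Subgroup G) :
    Nat.card (K.subgroupOf H) = Nat.card ↥(K ⊓ H) := by
  rw [← Subgroup.inf_subgroupOf_right K H]
  exact Nat.card_congr (Subgroup.subgroupOfEquivOfLe (inf_le_right : K ⊓ H ≤ H)).toEquiv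

theorem isPGroup_subgroupOf_iff (p : ℕ) (K H : Subgroup G) :
    IsPGroup p (K.subgroupOf H) ↔ IsPGroup p ↥(K ⊓ H) := by
  rw [← Subgroup.inf_subgroupOf_right K H]
  constructor
  · intro h
    exact h.of_equiv (Subgroup.subgroupOfEquivOfLe (inf_le_right : K ⊓ H ≤ H))
  · intro h
    exact h.of_equiv (Subgroup.subgroupOfEquivOfLe (inf_le_right : K ⊓ H ≤ H)).symm

/-- the `p`-part of a natural number -/
def pPart (p n : ℕ) : ℕ := p ^ n.factorization p

theorem isSylowIn_iff_card [Finite G] (p : ℕ) [Fact p.Prime] (K H : Subgroup G) :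
    IsSylowIn p K H ↔ Nat.card ↥(K ⊓ H) = pPart p (Nat.card H) := by
  constructor
  · rintro ⟨R, hR⟩
    have h1 := R.card_eq_multiplicity
    rw [← card_subgroupOf_eq_card_inf, ← hR]
    exact h1
  · intro h
    rw [← card_subgroupOf_eq_card_inf] at h
    exact ⟨Sylow.ofCard (K.subgroupOf H) h, rfl⟩

/-- The order of a `p`-subgroup of `H` is at most the `p`-part of the order of `H`. -/
theorem card_le_pPart_of_isPGroup [Finite G] (p : ℕ) [Fact p.Prime] {U H : Subgroup G}
    (hU : IsPGroup p U) (hUH : U ≤ H) : Nat.card U ≤ pPart p (Nat.card H) := by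
  obtain ⟨n, hn⟩ := IsPGroup.iff_card.mp hU
  have hdvd : Nat.card U ∣ Nat.card H := Subgroup.card_dvd_of_le hUH
  rw [hn] at hdvd ⊢
  have hpos : Nat.card H ≠ 0 := Nat.card_pos.ne'
  have hp : p.Prime := Fact.out
  have : n ≤ (Nat.card H).factorization p := (hp.pow_dvd_iff_le_factorization hpos).mp hdvd
  exact Nat.pow_le_pow_right hp.pos this

theorem isPGroup_of_le {p : ℕ} {U V : Subgroup G} (hV : IsPGroup p V) (hUV : U ≤ V) : IsPGroup p U :=
  hV.of_injective (Subgroup.inclusion hUV) (Subgroup.inclusion_injective hUV)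

/-- A `p`-subgroup of a finite group is conjugate into a given Sylow `p`-subgroup. -/
theorem exists_conj_le_sylow [Finite G] (p : ℕ) [Fact p.Prime] (S : Sylow p G) {U : Subgroup G}
    (hU : IsPGroup p U) : ∃ g : G, U.map (MulAut.conj g).toMonoidHom ≤ (S : Subgroup G) := by
  obtain ⟨Q, hQ⟩ := hU.exists_le_sylow
  obtain ⟨g, rfl⟩ := MulAction.exists_smul_eq G Q S
  refine ⟨g, ?_⟩
  rintro _ ⟨x, hx, rfl⟩
  rw [Sylow.coe_subgroup_smul, Subgroup.mem_pointwise_smul_iff_inv_smul_mem]
  have hxQ : x ∈ (Q : Subgroup G) := hQ hx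
  have he : (MulAut.conj g)⁻¹ • (MulEquiv.toMonoidHom (MulAut.conj g)) x = x := by
    simp [MulAut.smul_def]
    group
  rw [he]
  exact hxQ

/-- There is a `p`-subgroup of `H` containing a given `p`-subgroup of `H`, of order the `p`-part. -/
theorem exists_pSubgroup_card_eq_pPart [Finite G] (p : ℕ) [Fact p.Prime] {U H : Subgroup G}
    (hU : IsPGroup p U) (hUH : U ≤ H) :
    ∃ T : Subgroup G, U ≤ T ∧ T ≤ H ∧ IsPGroup p T ∧ Nat.card T = pPart p (Nat.card H) := by
  have hU' : IsPGroup p (U.subgroupOf H) :=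
    hU.of_equiv (Subgroup.subgroupOfEquivOfLe hUH).symm
  obtain ⟨R, hR⟩ := hU'.exists_le_sylow
  refine ⟨(R : Subgroup H).map H.subtype, ?_, ?_, ?_, ?_⟩
  · intro x hx
    exact ⟨⟨x, hUH hx⟩, hR hx, rfl⟩
  · rintro _ ⟨x, -, rfl⟩
    exact x.2
  · exact R.2.map H.subtype
  · have h1 := R.card_eq_multiplicity
    unfold pPart
    rw [← h1]
    exact Nat.card_congr ((R : Subgroup H).equivMapOfInjective H.subtype H.subtype_injective).symm.toEquiv

theorem card_map_conj [Finite G] (U : Subgroup G) (g : G) :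
    Nat.card (U.map (MulAut.conj g).toMonoidHom) = Nat.card U :=
  Nat.card_congr (U.equivMapOfInjective (MulAut.conj g).toMonoidHom (MulAut.conj g).injective).symm.toEquiv

end Cfsg.Agent.Helper25
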