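import Mathlib
import Cfsg.Prelude.Def_FusionSystem

set_option autoImplicit false

namespace Cfsg.Agent.Helper25

open Cfsg Cfsg.FusionSystem

variable {Ω : Type*} [Group Ω] {S : Subgroup Ω}

/-- Restriction of a map of the system to a smaller subgroup is a map of the system. -/
theorem restrict_mem (F : FusionSystem S) {P Q : Subgroup Ω} (hPQ : P ≤ Q) {φ : Q →* Ω}
    (hφ : φ ∈ F.Hom Q) : φ.comp (Subgroup.inclusion hPQ) ∈ F.Hom P := by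
  have hQS : Q ≤ S := (F.le_of_mem hφ).1
  have h1 : conjHom P (1 : Ω) ∈ F.Hom P := F.conj_mem (hPQ.trans hQS) S.one_mem
  have hv : ∀ x : P, conjHom P (1 : Ω) x ∈ Q := by
    intro x
    have : conjHom P (1 : Ω) x = (x : Ω) := by simp [conjHom]
    rw [this]
    exact hPQ x.2
  have h2 := F.comp_mem h1 hφ hv
  have he : φ.comp ((conjHom P (1 : Ω)).codRestrict Q hv) = φ.comp (Subgroup.inclusion hPQ) := by
    ext x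
    simp only [MonoidHom.comp_apply]
    congr 1
    apply Subtype.ext
    simp [conjHom]
  rw [he] at h2
  exact h2

/-- The inclusion of a subgroup of `S` is a map of the system. -/
theorem subtype_mem (F : FusionSystem S) {P : Subgroup Ω} (hP : P ≤ S) : P.subtype ∈ F.Hom P := by
  have h1 : conjHom P (1 : Ω) ∈ F.Hom P := F.conj_mem hP S.one_mem
  have he : conjHom P (1 : Ω) = P.subtype := by
    ext x
    simp [conjHom]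
  rw [he] at h1
  exact h1

/-- Transport of a map of the system along an equality of subgroups. -/
theorem cast_mem (F : FusionSystem S) {P Q : Subgroup Ω} (h : P = Q) {φ : Q →* Ω}
    (hφ : φ ∈ F.Hom Q) : φ.comp (Subgroup.inclusion h.le) ∈ F.Hom P :=
  restrict_mem F h.le hφ

theorem bot_isCentral (F : FusionSystem S) : F.IsCentral (⊥ : Subgroup Ω) := by
  refine ⟨bot_le, ?_⟩
  intro P φ hφ
  have hPS : P ≤ S := (F.le_of_mem hφ).1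
  have h : P ⊔ ⊥ = P := sup_bot_eq P
  refine ⟨φ.comp (Subgroup.inclusion h.le), cast_mem F h hφ, ?_, ?_⟩
  · intro x
    simp only [MonoidHom.comp_apply]
    congr 1
  · rintro ⟨x, hx⟩
    have hx1 : x = 1 := by simpa using hx
    subst hx1
    have : (Subgroup.inclusion (le_sup_right : (⊥ : Subgroup Ω) ≤ P ⊔ ⊥) ⟨1, hx⟩) = 1 := by
      apply Subtype.ext
      rfl
    rw [this]
    simp

theorem bot_isNormal (F : FusionSystem S) : F.IsNormal (⊥ : Subgroup Ω) := by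
  refine ⟨bot_le, ?_⟩
  intro P φ hφ
  have h : P ⊔ ⊥ = P := sup_bot_eq P
  refine ⟨φ.comp (Subgroup.inclusion h.le), cast_mem F h hφ, ?_, ?_⟩
  · intro x
    simp only [MonoidHom.comp_apply]
    congr 1
  · have : (⊥ : Subgroup Ω).subgroupOf (P ⊔ ⊥) = ⊥ := by
      simp
    rw [this]
    simp



theorem sSup_mem_of_sup_closed [Finite S] {C : Set (Subgroup Ω)} (hbot : ⊥ ∈ C)
    (hS : ∀ Q ∈ C, Q ≤ S) (hsup : ∀ Q₁ ∈ C, ∀ Q₂ ∈ C, Q₁ ⊔ Q₂ ∈ C) : sSup C ∈ C := by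
  classical
  -- choose a member of maximal cardinality
  have hfin : ∀ Q ∈ C, Finite Q := fun Q hQ => Finite.of_injective (Subgroup.inclusion (hS Q hQ))
    (Subgroup.inclusion_injective _)
  have hbound : ∀ Q ∈ C, Nat.card Q ≤ Nat.card S := fun Q hQ =>
    Nat.card_le_card_of_injective (Subgroup.inclusion (hS Q hQ)) (Subgroup.inclusion_injective _)
  let T : Set ℕ := (fun Q : Subgroup Ω => Nat.card Q) '' C
  have hTne : T.Nonempty := ⟨_, ⟨⊥, hbot, rfl⟩⟩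
  have hTbdd : BddAbove T := ⟨Nat.card S, by rintro _ ⟨Q, hQ, rfl⟩; exact hbound Q hQ⟩
  obtain ⟨Q₀, hQ₀, hmax⟩ : ∃ Q₀ ∈ C, ∀ Q ∈ C, Nat.card Q ≤ Nat.card Q₀ := by
    have hm := Nat.sSup_mem hTne hTbdd
    obtain ⟨Q₀, hQ₀, hQ₀eq⟩ := hm
    refine ⟨Q₀, hQ₀, fun Q hQ => ?_⟩
    show Nat.card Q ≤ Nat.card Q₀
    have : Nat.card Q ≤ sSup T := le_csSup hTbdd ⟨Q, hQ, rfl⟩
    simpa [hQ₀eq] using this
  have hle : ∀ Q ∈ C, Q ≤ Q₀ := by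
    intro Q hQ
    have h1 : Q ⊔ Q₀ ∈ C := hsup Q hQ Q₀ hQ₀
    have h2 : Nat.card ↥(Q ⊔ Q₀) ≤ Nat.card Q₀ := hmax _ h1
    have := hfin _ h1
    have h3 : Q₀ = Q ⊔ Q₀ := Subgroup.eq_of_le_of_card_ge le_sup_right h2
    rw [h3]
    exact le_sup_left
  have : sSup C = Q₀ := le_antisymm (sSup_le hle) (le_sSup hQ₀)
  rw [this]
  exact hQ₀



theorem isCentral_sup (F : FusionSystem S) {Q₁ Q₂ : Subgroup Ω} (h₁ : F.IsCentral Q₁)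
    (h₂ : F.IsCentral Q₂) : F.IsCentral (Q₁ ⊔ Q₂) := by
  refine ⟨sup_le h₁.1 h₂.1, ?_⟩
  intro P φ hφ
  obtain ⟨ψ₁, hψ₁, hψ₁P, hψ₁Q⟩ := h₁.2 P φ hφ
  obtain ⟨ψ₂, hψ₂, hψ₂P, hψ₂Q⟩ := h₂.2 (P ⊔ Q₁) ψ₁ hψ₁
  have e : P ⊔ (Q₁ ⊔ Q₂) = (P ⊔ Q₁) ⊔ Q₂ := (sup_assoc P Q₁ Q₂).symm
  refine ⟨ψ₂.comp (Subgroup.inclusion e.le), cast_mem F e hψ₂, ?_, ?_⟩
  · intro x
    rw [← hψ₁P x, ← hψ₂P]
    rfl
  · -- the fixed points form a subgroup containing Q₁ and Q₂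
    let ψ := ψ₂.comp (Subgroup.inclusion e.le)
    let K : Subgroup Ω := (MonoidHom.eqLocus ψ (P ⊔ (Q₁ ⊔ Q₂)).subtype).map (P ⊔ (Q₁ ⊔ Q₂)).subtype
    have hK₁ : Q₁ ≤ K := by
      intro x hx
      have hx' : x ∈ P ⊔ (Q₁ ⊔ Q₂) := (le_sup_right : Q₁ ⊔ Q₂ ≤ _) ((le_sup_left : Q₁ ≤ _) hx)
      refine ⟨⟨x, hx'⟩, ?_, rfl⟩
      show ψ ⟨x, hx'⟩ = x
      have := hψ₁Q ⟨x, hx⟩
      rw [← hψ₂P] at this
      exact this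
    have hK₂ : Q₂ ≤ K := by
      intro x hx
      have hx' : x ∈ P ⊔ (Q₁ ⊔ Q₂) := (le_sup_right : Q₁ ⊔ Q₂ ≤ _) ((le_sup_right : Q₂ ≤ _) hx)
      refine ⟨⟨x, hx'⟩, ?_, rfl⟩
      show ψ ⟨x, hx'⟩ = x
      exact hψ₂Q ⟨x, hx⟩
    rintro ⟨x, hx⟩
    obtain ⟨y, hy, hyx⟩ := (sup_le hK₁ hK₂) hx
    have hy' : ψ y = (y : Ω) := hy
    have : y = Subgroup.inclusion (le_sup_right : Q₁ ⊔ Q₂ ≤ P ⊔ (Q₁ ⊔ Q₂)) ⟨x, hx⟩ := by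
      apply Subtype.ext
      exact hyx
    rw [← this]
    show ψ y = x
    rw [hy']
    exact hyx

theorem isNormal_sup (F : FusionSystem S) {Q₁ Q₂ : Subgroup Ω} (h₁ : F.IsNormal Q₁)
    (h₂ : F.IsNormal Q₂) : F.IsNormal (Q₁ ⊔ Q₂) := by
  refine ⟨sup_le h₁.1 h₂.1, ?_⟩
  intro P φ hφ
  obtain ⟨ψ₁, hψ₁, hψ₁P, hψ₁Q⟩ := h₁.2 P φ hφ
  obtain ⟨ψ₂, hψ₂, hψ₂P, hψ₂Q⟩ := h₂.2 (P ⊔ Q₁) ψ₁ hψ₁
  have e : P ⊔ (Q₁ ⊔ Q₂) = (P ⊔ Q₁) ⊔ Q₂ := (sup_assoc P Q₁ Q₂).symm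
  refine ⟨ψ₂.comp (Subgroup.inclusion e.le), cast_mem F e hψ₂, ?_, ?_⟩
  · intro x
    rw [← hψ₁P x, ← hψ₂P]
    rfl
  · set ψ := ψ₂.comp (Subgroup.inclusion e.le) with hψdef
    -- image of Q₁
    have hQ₁ : (Q₁.subgroupOf (P ⊔ (Q₁ ⊔ Q₂))).map ψ = Q₁ := by
      refine Eq.trans ?_ hψ₁Q
      ext y
      constructor
      · rintro ⟨x, hx, rfl⟩
        have hx1 : (x : Ω) ∈ Q₁ := hx
        refine ⟨⟨x, (le_sup_right : Q₁ ≤ P ⊔ Q₁) hx1⟩, hx1, ?_⟩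
        rw [← hψ₂P]
        rfl
      · rintro ⟨x, hx, rfl⟩
        have hx1 : (x : Ω) ∈ Q₁ := hx
        refine ⟨⟨x, (le_sup_right : Q₁ ⊔ Q₂ ≤ _) ((le_sup_left : Q₁ ≤ _) hx1)⟩, hx1, ?_⟩
        rw [← hψ₂P]
        rfl
    have hQ₂ : (Q₂.subgroupOf (P ⊔ (Q₁ ⊔ Q₂))).map ψ = Q₂ := by
      refine Eq.trans ?_ hψ₂Q
      ext y
      constructor
      · rintro ⟨x, hx, rfl⟩
        have hx1 : (x : Ω) ∈ Q₂ := hx
        exact ⟨⟨x, (le_sup_right : Q₂ ≤ (P ⊔ Q₁) ⊔ Q₂) hx1⟩, hx1, rfl⟩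
      · rintro ⟨x, hx, rfl⟩
        have hx1 : (x : Ω) ∈ Q₂ := hx
        exact ⟨⟨x, (le_sup_right : Q₁ ⊔ Q₂ ≤ _) ((le_sup_right : Q₂ ≤ _) hx1)⟩, hx1, rfl⟩
    have hsub : (Q₁ ⊔ Q₂).subgroupOf (P ⊔ (Q₁ ⊔ Q₂)) =
        Q₁.subgroupOf (P ⊔ (Q₁ ⊔ Q₂)) ⊔ Q₂.subgroupOf (P ⊔ (Q₁ ⊔ Q₂)) := by
      have hl₁ : Q₁ ≤ P ⊔ (Q₁ ⊔ Q₂) := le_sup_left.trans le_sup_right
      have hl₂ : Q₂ ≤ P ⊔ (Q₁ ⊔ Q₂) := le_sup_right.trans le_sup_right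
      exact Subgroup.subgroupOf_sup hl₁ hl₂
    rw [hsub, Subgroup.map_sup, hQ₁, hQ₂]

end Cfsg.Agent.Helper25
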