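import Mathlib
import Cfsg.Agent.Helper25.FusionBasic

set_option autoImplicit false

namespace Cfsg.Agent.Helper25

open Cfsg Cfsg.FusionSystem

variable {Ω : Type*} [Group Ω] {S : Subgroup Ω}

/-- the map `P →* Ω` attached to an automorphism of `P` -/
abbrev autHom {P : Subgroup Ω} (α : MulAut P) : P →* Ω := P.subtype.comp α.toMonoidHom

theorem autHom_range {P : Subgroup Ω} (α : MulAut P) : (autHom α).range = P := by
  ext y
  constructor
  · rintro ⟨x, rfl⟩
    exact (α x).2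
  · intro hy
    exact ⟨α.symm ⟨y, hy⟩, by simp [autHom]⟩

/-- Composition of maps of the system, unbundled version. -/
theorem comp_mem' (F : FusionSystem S) {P Q : Subgroup Ω} {φ : P →* Ω} {ψ : Q →* Ω}
    (hφ : φ ∈ F.Hom P) (hψ : ψ ∈ F.Hom Q) (h : ∀ x : P, φ x ∈ Q) {χ : P →* Ω}
    (hχ : ∀ x : P, χ x = ψ ⟨φ x, h x⟩) : χ ∈ F.Hom P := by
  have := F.comp_mem hφ hψ h
  have e : χ = ψ.comp (φ.codRestrict Q h) := by
    ext x
    exact hχ x
  rw [e]
  exact this

/-- Inverse of a map of the system with prescribed range. -/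
theorem exists_inv_mem (F : FusionSystem S) {P Q : Subgroup Ω} {φ : P →* Ω} (hφ : φ ∈ F.Hom P)
    (hQ : φ.range = Q) :
    ∃ ψ ∈ F.Hom Q, (∀ x : P, ∀ h : φ x ∈ Q, ψ ⟨φ x, h⟩ = (x : Ω)) ∧ ψ.range = P := by
  subst hQ
  obtain ⟨ψ, hψ, hinv⟩ := F.inv_mem hφ
  refine ⟨ψ, hψ, fun x h => hinv x, ?_⟩
  ext y
  constructor
  · rintro ⟨⟨_, x, rfl⟩, rfl⟩
    rw [hinv x]
    exact x.2
  · intro hy
    exact ⟨⟨φ ⟨y, hy⟩, ⟨⟨y, hy⟩, rfl⟩⟩, hinv ⟨y, hy⟩⟩

theorem autSet_mul (F : FusionSystem S) {P : Subgroup Ω} {α β : MulAut P}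
    (hα : autHom α ∈ F.Hom P) (hβ : autHom β ∈ F.Hom P) : autHom (α * β) ∈ F.Hom P := by
  refine comp_mem' F hβ hα (fun x => (β x).2) (fun x => ?_)
  rfl

theorem autSet_inv (F : FusionSystem S) {P : Subgroup Ω} {α : MulAut P}
    (hα : autHom α ∈ F.Hom P) : autHom α⁻¹ ∈ F.Hom P := by
  obtain ⟨ψ, hψ, hinv, -⟩ := exists_inv_mem F hα (autHom_range α)
  have e : autHom α⁻¹ = ψ := by
    ext x
    have := hinv (α⁻¹ x) (α (α⁻¹ x)).2
    have h2 : (autHom α) (α⁻¹ x) = (x : Ω) := by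
      simp [autHom]
    show ((α⁻¹ x : P) : Ω) = ψ x
    rw [← this]
    congr 1
    exact Subtype.ext h2
  rw [e]
  exact hψ

theorem autSet_one (F : FusionSystem S) {P : Subgroup Ω} (hP : P ≤ S) :
    autHom (1 : MulAut P) ∈ F.Hom P := by
  have := subtype_mem F hP
  exact this

/-- For `P ≤ S`, membership in `Aut_F(P)` means being a map of the system. -/
theorem mem_autGroup_iff (F : FusionSystem S) {P : Subgroup Ω} (hP : P ≤ S) (α : MulAut P) :
    α ∈ F.autGroup P ↔ autHom α ∈ F.Hom P := by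
  constructor
  · intro h
    unfold FusionSystem.autGroup at h
    induction h using Subgroup.closure_induction with
    | mem x hx => exact hx
    | one => exact autSet_one F hP
    | mul x y _ _ hx hy => exact autSet_mul F hx hy
    | inv x _ hx => exact autSet_inv F hx
  · intro h
    exact Subgroup.subset_closure h

/-- The isomorphism `Q ≃* P` attached to a map of the system with source `Q` and range `P`. -/
noncomputable def isoOfHom {Q P : Subgroup Ω} (ψ : Q →* Ω) (hinj : Function.Injective ψ)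
    (hr : ψ.range = P) : Q ≃* P :=
  MulEquiv.ofBijective (ψ.codRestrict P (fun x => hr ▸ ⟨x, rfl⟩))
    ⟨fun x y hxy => hinj (congrArg Subtype.val hxy), by
      rintro ⟨y, hy⟩
      have hy' : y ∈ ψ.range := hr.symm ▸ hy
      obtain ⟨x, rfl⟩ := hy'
      exact ⟨x, rfl⟩⟩

theorem isoOfHom_coe {Q P : Subgroup Ω} (ψ : Q →* Ω) (hinj : Function.Injective ψ)
    (hr : ψ.range = P) (x : Q) : ((isoOfHom ψ hinj hr x : P) : Ω) = ψ x := rfl

/-- The inverse iso, as a map of the system. -/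
theorem isoOfHom_symm_mem (F : FusionSystem S) {Q P : Subgroup Ω} {ψ : Q →* Ω} (hψ : ψ ∈ F.Hom Q)
    (hr : ψ.range = P) :
    Q.subtype.comp (isoOfHom ψ (F.injective_of_mem hψ) hr).symm.toMonoidHom ∈ F.Hom P := by
  obtain ⟨χ, hχ, hinv, -⟩ := exists_inv_mem F hψ hr
  have e : Q.subtype.comp (isoOfHom ψ (F.injective_of_mem hψ) hr).symm.toMonoidHom = χ := by
    ext y
    set e' := isoOfHom ψ (F.injective_of_mem hψ) hr
    have h1 := hinv (e'.symm y) (by rw [← isoOfHom_coe ψ (F.injective_of_mem hψ) hr]; exact (e' (e'.symm y)).2)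
    show ((e'.symm y : Q) : Ω) = χ y
    rw [← h1]
    congr 1
    apply Subtype.ext
    show ψ (e'.symm y) = y
    rw [← isoOfHom_coe ψ (F.injective_of_mem hψ) hr, MulEquiv.apply_symm_apply]
  rw [e]
  exact hχ

/-- Transport of an `F`-automorphism along an `F`-isomorphism. -/
theorem congr_mem_autGroup (F : FusionSystem S) {Q P : Subgroup Ω} {ψ : Q →* Ω} (hψ : ψ ∈ F.Hom Q)
    (hr : ψ.range = P) {α : MulAut Q} (hα : α ∈ F.autGroup Q) :
    MulAut.congr (isoOfHom ψ (F.injective_of_mem hψ) hr) α ∈ F.autGroup P := by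
  have hQS : Q ≤ S := (F.le_of_mem hψ).1
  have hPS : P ≤ S := by
    rw [← hr]
    rintro _ ⟨x, rfl⟩
    exact (F.le_of_mem hψ).2 x
  rw [mem_autGroup_iff F hQS] at hα
  rw [mem_autGroup_iff F hPS]
  set e' := isoOfHom ψ (F.injective_of_mem hψ) hr
  have h1 := isoOfHom_symm_mem F hψ hr
  have h2 : autHom α ∈ F.Hom Q := hα
  -- P → Q → Q
  have h3 : (Q.subtype.comp (α.toMonoidHom.comp e'.symm.toMonoidHom)) ∈ F.Hom P := by
    refine comp_mem' F h1 h2 (fun x => (e'.symm x).2) (fun x => ?_)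
    rfl
  refine comp_mem' F h3 hψ (fun x => (α (e'.symm x)).2) (fun x => ?_)
  rfl

end Cfsg.Agent.Helper25
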