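import Mathlib
import Cfsg.Prelude.Def_RootSubgroups

set_option autoImplicit false

/-! Quadratic pairs: the subgroups `E(σ)` (Timmesfeld). -/

namespace Cfsg.Agent.Helper25.QuadPair

open Cfsg

variable {k : Type*} [Field k] {M : Type*} [AddCommGroup M] [Module k M]

local notation "GLkM" => LinearMap.GeneralLinearGroup k M

/-- The unit `1 + N` for `N * N = 0`. -/
def unipUnit (N : Module.End k M) (hN : N * N = 0) : GLkM :=
  ⟨1 + N, 1 - N, by
    have : (1 + N) * (1 - N) = 1 - N * N := by noncomm_ring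
    rw [this, hN, sub_zero], by
    have : (1 - N) * (1 + N) = 1 - N * N := by noncomm_ring
    rw [this, hN, sub_zero]⟩

@[simp] theorem val_unipUnit (N : Module.End k M) (hN : N * N = 0) :
    ((unipUnit N hN : GLkM) : Module.End k M) = 1 + N := rfl

theorem val_inv_of_sq_zero {τ : GLkM}
    (h : ((τ : Module.End k M) - 1) * ((τ : Module.End k M) - 1) = 0) :
    ((τ⁻¹ : GLkM) : Module.End k M) = 1 - ((τ : Module.End k M) - 1) := by
  have h1 : (τ : Module.End k M) * (1 - ((τ : Module.End k M) - 1)) = 1 := by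
    have e : (τ : Module.End k M) * (1 - ((τ : Module.End k M) - 1))
        = 1 - ((τ : Module.End k M) - 1) * ((τ : Module.End k M) - 1) := by noncomm_ring
    rw [e, h, sub_zero]
  calc ((τ⁻¹ : GLkM) : Module.End k M)
      = ((τ⁻¹ : GLkM) : Module.End k M) * ((τ : Module.End k M) *
          (1 - ((τ : Module.End k M) - 1))) := by rw [h1, mul_one]
    _ = 1 - ((τ : Module.End k M) - 1) := by rw [Units.inv_mul_cancel_left]

theorem one_add_pow_of_sq_zero (N : Module.End k M) (hN : N * N = 0) (n : ℕ) :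
    (1 + N) ^ n = 1 + (n : k) • N := by
  induction n with
  | zero => simp
  | succ n ih =>
    rw [pow_succ, ih]
    have : (1 + (n : k) • N) * (1 + N) = 1 + ((n : k) + 1) • N + (n : k) • (N * N) := by
      rw [add_smul, one_smul, add_mul, mul_add, mul_add, smul_mul_assoc, smul_mul_assoc]
      simp only [mul_one, one_mul]
      abel
    rw [this, hN, smul_zero, add_zero, Nat.cast_succ]

section main

variable [FiniteDimensional k M] {G : Subgroup (LinearMap.GeneralLinearGroup k M)}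
  {σ : LinearMap.GeneralLinearGroup k M}

theorem range_le_ker_of_mem (hσ : σ ∈ minimalQuadraticElements G) :
    LinearMap.range ((σ : M →ₗ[k] M) - 1) ≤ LinearMap.ker ((σ : M →ₗ[k] M) - 1) := by
  rintro _ ⟨m, rfl⟩
  rw [LinearMap.mem_ker]
  have := hσ.1.2.1.1
  exact LinearMap.congr_fun this m

theorem mul_eq_zero_of_mem (hσ : σ ∈ minimalQuadraticElements G) {τ ρ : GLkM}
    (hτ : τ ∈ sameActionClass G σ) (hρ : ρ ∈ sameActionClass G σ) :
    ((τ : Module.End k M) - 1) * ((ρ : Module.End k M) - 1) = 0 := by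
  apply LinearMap.ext
  intro m
  have h1 : ((ρ : M →ₗ[k] M) - 1) m ∈ LinearMap.range ((ρ : M →ₗ[k] M) - 1) := ⟨m, rfl⟩
  rw [hρ.2.2] at h1
  have h2 := range_le_ker_of_mem hσ h1
  rw [← hτ.2.1, LinearMap.mem_ker] at h2
  exact h2

theorem val_mul_of_mem (hσ : σ ∈ minimalQuadraticElements G) {τ ρ : GLkM}
    (hτ : τ ∈ sameActionClass G σ) (hρ : ρ ∈ sameActionClass G σ) :
    (((τ * ρ : GLkM) : Module.End k M) - 1)
      = ((τ : Module.End k M) - 1) + ((ρ : Module.End k M) - 1) := by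
  have e : (((τ * ρ : GLkM) : Module.End k M) - 1)
      = ((τ : Module.End k M) - 1) * ((ρ : Module.End k M) - 1)
        + ((τ : Module.End k M) - 1) + ((ρ : Module.End k M) - 1) := by
    rw [Units.val_mul]; noncomm_ring
  rw [e, mul_eq_zero_of_mem hσ hτ hρ, zero_add]

theorem commute_of_mem (hσ : σ ∈ minimalQuadraticElements G) {τ ρ : GLkM}
    (hτ : τ ∈ sameActionClass G σ) (hρ : ρ ∈ sameActionClass G σ) : τ * ρ = ρ * τ := by
  apply Units.ext
  have h1 := val_mul_of_mem hσ hτ hρ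
  have h2 := val_mul_of_mem hσ hρ hτ
  rw [add_comm] at h2
  have := h1.trans h2.symm
  exact sub_left_injective this

theorem mul_mem_or (hσ : σ ∈ minimalQuadraticElements G) {τ ρ : GLkM}
    (hτ : τ ∈ sameActionClass G σ) (hρ : ρ ∈ sameActionClass G σ) :
    τ * ρ = 1 ∨ τ * ρ ∈ sameActionClass G σ := by
  by_cases h1 : τ * ρ = 1
  · exact Or.inl h1
  right
  have hval := val_mul_of_mem hσ hτ hρ
  have hττ := mul_eq_zero_of_mem hσ hτ hτ
  have hτρ := mul_eq_zero_of_mem hσ hτ hρ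
  have hρτ := mul_eq_zero_of_mem hσ hρ hτ
  have hρρ := mul_eq_zero_of_mem hσ hρ hρ
  have hsq : (((τ * ρ : GLkM) : Module.End k M) - 1) * (((τ * ρ : GLkM) : Module.End k M) - 1)
      = 0 := by
    rw [hval, add_mul, mul_add, mul_add, hττ, hτρ, hρτ, hρρ]; simp
  have hne : (((τ * ρ : GLkM) : Module.End k M) - 1) ≠ 0 := by
    intro h0
    apply h1
    apply Units.ext
    rw [Units.val_one]
    exact sub_eq_zero.1 h0
  -- membership in 𝒬(G)
  have hQ : τ * ρ ∈ quadraticElements G := by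
    refine ⟨G.mul_mem hτ.1.1.1 hρ.1.1.1, ⟨hsq, hne⟩, ?_⟩
    rintro x ⟨c, hx⟩
    have hcτ : (c • ((τ : Module.End k M) - 1)) * (c • ((τ : Module.End k M) - 1)) = 0 := by
      rw [smul_mul_smul_comm, hττ, smul_zero]
    have hcρ : (c • ((ρ : Module.End k M) - 1)) * (c • ((ρ : Module.End k M) - 1)) = 0 := by
      rw [smul_mul_smul_comm, hρρ, smul_zero]
    have h1' : unipUnit _ hcτ ∈ G := hτ.1.1.2.2 ⟨c, rfl⟩
    have h2' : unipUnit _ hcρ ∈ G := hρ.1.1.2.2 ⟨c, rfl⟩
    have hx' : x = unipUnit _ hcτ * unipUnit _ hcρ := by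
      apply Units.ext
      have e1 : ((unipUnit _ hcτ * unipUnit _ hcρ : GLkM) : Module.End k M)
          = (1 + c • ((τ : Module.End k M) - 1)) * (1 + c • ((ρ : Module.End k M) - 1)) := rfl
      have e0 : ((τ * ρ : GLkM) : M →ₗ[k] M) - 1
          = ((τ : Module.End k M) - 1) + ((ρ : Module.End k M) - 1) := hval
      rw [hx, e1, e0, add_mul, mul_add, mul_add, smul_mul_smul_comm, hτρ, smul_zero, smul_add]
      simp only [mul_one, one_mul]
      abel
    rw [hx']
    exact G.mul_mem h1' h2'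
  -- the range
  have hrange_le : LinearMap.range (((τ * ρ : GLkM) : M →ₗ[k] M) - 1)
      ≤ LinearMap.range ((σ : M →ₗ[k] M) - 1) := by
    rintro _ ⟨m, rfl⟩
    have e0 : (((τ * ρ : GLkM) : M →ₗ[k] M) - 1) m
        = ((τ : M →ₗ[k] M) - 1) m + ((ρ : M →ₗ[k] M) - 1) m := by
      have := LinearMap.congr_fun hval m
      exact this
    rw [e0]
    refine Submodule.add_mem _ ?_ ?_
    · rw [← hτ.2.2]; exact ⟨m, rfl⟩
    · rw [← hρ.2.2]; exact ⟨m, rfl⟩
  have hrk : commutatorRank σ ≤ commutatorRank (τ * ρ) := hσ.2 _ hQ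
  have hrange : LinearMap.range (((τ * ρ : GLkM) : M →ₗ[k] M) - 1)
      = LinearMap.range ((σ : M →ₗ[k] M) - 1) :=
    Submodule.eq_of_le_of_finrank_le hrange_le hrk
  have hker_le : LinearMap.ker ((σ : M →ₗ[k] M) - 1)
      ≤ LinearMap.ker (((τ * ρ : GLkM) : M →ₗ[k] M) - 1) := by
    intro m hm
    rw [LinearMap.mem_ker]
    have e0 : (((τ * ρ : GLkM) : M →ₗ[k] M) - 1) m
        = ((τ : M →ₗ[k] M) - 1) m + ((ρ : M →ₗ[k] M) - 1) m := LinearMap.congr_fun hval m
    have h1' : ((τ : M →ₗ[k] M) - 1) m = 0 := by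
      rw [← LinearMap.mem_ker, hτ.2.1]; exact hm
    have h2' : ((ρ : M →ₗ[k] M) - 1) m = 0 := by
      rw [← LinearMap.mem_ker, hρ.2.1]; exact hm
    rw [e0, h1', h2', add_zero]
  have hker : LinearMap.ker (((τ * ρ : GLkM) : M →ₗ[k] M) - 1)
      = LinearMap.ker ((σ : M →ₗ[k] M) - 1) := by
    refine (Submodule.eq_of_le_of_finrank_le hker_le ?_).symm
    have r1 := LinearMap.finrank_range_add_finrank_ker (((τ * ρ : GLkM) : M →ₗ[k] M) - 1)
    have r2 := LinearMap.finrank_range_add_finrank_ker ((σ : M →ₗ[k] M) - 1)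
    rw [hrange] at r1
    omega
  refine ⟨⟨hQ, ?_⟩, hker, hrange⟩
  intro τ' hτ'
  have : commutatorRank (τ * ρ) = commutatorRank σ := by
    unfold commutatorRank
    rw [hrange]
  rw [this]
  exact hσ.2 τ' hτ'

theorem inv_mem (hσ : σ ∈ minimalQuadraticElements G) {τ : GLkM}
    (hτ : τ ∈ sameActionClass G σ) : τ⁻¹ ∈ sameActionClass G σ := by
  have hττ := mul_eq_zero_of_mem hσ hτ hτ
  have hval : (((τ⁻¹ : GLkM) : Module.End k M) - 1) = -((τ : Module.End k M) - 1) := by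
    rw [val_inv_of_sq_zero hττ]; abel
  have hrange : LinearMap.range (((τ⁻¹ : GLkM) : M →ₗ[k] M) - 1)
      = LinearMap.range ((τ : M →ₗ[k] M) - 1) := by
    have : (((τ⁻¹ : GLkM) : M →ₗ[k] M) - 1) = -((τ : M →ₗ[k] M) - 1) := hval
    rw [this, LinearMap.range_neg]
  have hker : LinearMap.ker (((τ⁻¹ : GLkM) : M →ₗ[k] M) - 1)
      = LinearMap.ker ((τ : M →ₗ[k] M) - 1) := by
    have : (((τ⁻¹ : GLkM) : M →ₗ[k] M) - 1) = -((τ : M →ₗ[k] M) - 1) := hval
    rw [this, LinearMap.ker_neg]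
  have hQ : τ⁻¹ ∈ quadraticElements G := by
    refine ⟨G.inv_mem hτ.1.1.1, ⟨?_, ?_⟩, ?_⟩
    · have : (((τ⁻¹ : GLkM) : M →ₗ[k] M) - 1) = -((τ : M →ₗ[k] M) - 1) := hval
      rw [this, neg_mul_neg]
      exact hττ
    · have : (((τ⁻¹ : GLkM) : M →ₗ[k] M) - 1) = -((τ : M →ₗ[k] M) - 1) := hval
      rw [this, neg_ne_zero]
      exact hτ.1.1.2.1.2
    · rintro x ⟨c, hx⟩
      refine hτ.1.1.2.2 ⟨-c, ?_⟩
      have : (((τ⁻¹ : GLkM) : M →ₗ[k] M) - 1) = -((τ : M →ₗ[k] M) - 1) := hval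
      rw [hx, this, smul_neg, neg_smul]
  refine ⟨⟨hQ, ?_⟩, hker.trans hτ.2.1, hrange.trans hτ.2.2⟩
  intro τ' hτ'
  have : commutatorRank τ⁻¹ = commutatorRank τ := by
    unfold commutatorRank
    rw [hrange]
  rw [this]
  exact hτ.1.2 τ' hτ'

/-- `E_σ ∪ {1}` as a subgroup. -/
def classSubgroup (hσ : σ ∈ minimalQuadraticElements G) : Subgroup GLkM where
  carrier := sameActionClass G σ ∪ {1}
  one_mem' := Or.inr rfl
  mul_mem' := by
    rintro a b (ha | ha) (hb | hb)
    · rcases mul_mem_or hσ ha hb with h | h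
      · exact Or.inr h
      · exact Or.inl h
    · rw [Set.mem_singleton_iff.1 hb, mul_one]; exact Or.inl ha
    · rw [Set.mem_singleton_iff.1 ha, one_mul]; exact Or.inl hb
    · rw [Set.mem_singleton_iff.1 ha, Set.mem_singleton_iff.1 hb, mul_one]; exact Or.inr rfl
  inv_mem' := by
    rintro a (ha | ha)
    · exact Or.inl (inv_mem hσ ha)
    · rw [Set.mem_singleton_iff.1 ha, inv_one]; exact Or.inr rfl

theorem sameActionSubgroup_eq (hσ : σ ∈ minimalQuadraticElements G) :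
    sameActionSubgroup G σ = classSubgroup hσ := by
  apply le_antisymm
  · unfold sameActionSubgroup
    rw [Subgroup.closure_le]
    exact fun x hx => Or.inl hx
  · rintro x (hx | hx)
    · exact Subgroup.subset_closure hx
    · rw [Set.mem_singleton_iff.1 hx]; exact Subgroup.one_mem _

end main

end Cfsg.Agent.Helper25.QuadPair
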