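import Mathlib
import Cfsg.Prelude.Def_RootSubgroups
import Cfsg.Agent.Helper25.QuadPair

set_option autoImplicit false

/-! Quadratic pairs (Timmesfeld): basic closure properties of the nilpotent parts of the
quadratic elements whose scalar family lies in `G`. -/

namespace Cfsg.Agent.Helper25.QP

open Cfsg Cfsg.Agent.Helper25.QuadPair

variable {k : Type*} [Field k] {M : Type*} [AddCommGroup M] [Module k M]

local notation "GLkM" => LinearMap.GeneralLinearGroup k M

/-- the endomorphism `x` is (the value of) an element of `G` -/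
def InG (G : Subgroup GLkM) (x : Module.End k M) : Prop := ∃ g ∈ G, (g : Module.End k M) = x

theorem InG.one (G : Subgroup GLkM) : InG G (1 : Module.End k M) := ⟨1, G.one_mem, rfl⟩

theorem InG.mul {G : Subgroup GLkM} {x y : Module.End k M} (hx : InG G x) (hy : InG G y) :
    InG G (x * y) := by
  obtain ⟨g, hg, rfl⟩ := hx
  obtain ⟨h, hh, rfl⟩ := hy
  exact ⟨g * h, G.mul_mem hg hh, rfl⟩

theorem InG.of_mem {G : Subgroup GLkM} {g : GLkM} (hg : g ∈ G) : InG G (g : Module.End k M) :=
  ⟨g, hg, rfl⟩

theorem InG.mem {G : Subgroup GLkM} {g : GLkM} (hg : InG G (g : Module.End k M)) : g ∈ G := by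
  obtain ⟨h, hh, e⟩ := hg
  have : h = g := Units.ext e
  rwa [← this]

/-- if `x * y = 1 = y * x` and `x` is in `G` then so is `y` -/
theorem InG.inv_of_mul_eq_one {G : Subgroup GLkM} {x y : Module.End k M} (hx : InG G x)
    (h1 : x * y = 1) : InG G y := by
  obtain ⟨g, hg, rfl⟩ := hx
  refine ⟨g⁻¹, G.inv_mem hg, ?_⟩
  calc ((g⁻¹ : GLkM) : Module.End k M) = ((g⁻¹ : GLkM) : Module.End k M) * ((g : Module.End k M) * y) := by
        rw [h1, mul_one]
    _ = y := by rw [Units.inv_mul_cancel_left]

/-- `a` is zero or the nilpotent part of a member of `𝒬(G)`: `a² = 0` and `1 + c a ∈ G` for all `c`. -/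
def QFam (G : Subgroup GLkM) (a : Module.End k M) : Prop :=
  a * a = 0 ∧ ∀ c : k, InG G (1 + c • a)

theorem QFam.sq {G : Subgroup GLkM} {a : Module.End k M} (h : QFam G a) : a * a = 0 := h.1

theorem QFam.zero (G : Subgroup GLkM) : QFam G (0 : Module.End k M) :=
  ⟨by simp, fun c => by simpa using InG.one G⟩

theorem QFam.smul {G : Subgroup GLkM} {a : Module.End k M} (h : QFam G a) (t : k) :
    QFam G (t • a) := by
  refine ⟨by rw [smul_mul_smul_comm, h.1, smul_zero], fun c => ?_⟩
  rw [smul_smul]
  exact h.2 _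

theorem QFam.neg {G : Subgroup GLkM} {a : Module.End k M} (h : QFam G a) : QFam G (-a) := by
  have := h.smul (-1)
  simpa using this

/-- (T2): two members with product zero both ways may be added -/
theorem QFam.add {G : Subgroup GLkM} {a b : Module.End k M} (ha : QFam G a) (hb : QFam G b)
    (hab : a * b = 0) (hba : b * a = 0) : QFam G (a + b) := by
  refine ⟨?_, fun c => ?_⟩
  · rw [mul_add, add_mul, add_mul, ha.1, hb.1, hab, hba]; simp
  · have e : (1 + c • (a + b) : Module.End k M) = (1 + c • a) * (1 + c • b) := by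
      rw [mul_add, add_mul, add_mul, smul_mul_smul_comm, hab]
      simp only [mul_one, one_mul, smul_zero, add_zero, smul_add]
      abel
    rw [e]
    exact (ha.2 c).mul (hb.2 c)

theorem QFam.sub {G : Subgroup GLkM} {a b : Module.End k M} (ha : QFam G a) (hb : QFam G b)
    (hab : a * b = 0) (hba : b * a = 0) : QFam G (a - b) := by
  rw [sub_eq_add_neg]
  exact ha.add hb.neg (by rw [mul_neg, hab, neg_zero]) (by rw [neg_mul, hba, neg_zero])

/-- (T1): conjugation by an element of `G` given with its inverse -/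
theorem QFam.conj {G : Subgroup GLkM} {a h h' : Module.End k M} (ha : QFam G a) (hh : InG G h)
    (h1 : h * h' = 1) (h2 : h' * h = 1) : QFam G (h' * a * h) := by
  have hh' : InG G h' := hh.inv_of_mul_eq_one h1
  refine ⟨?_, fun c => ?_⟩
  · calc h' * a * h * (h' * a * h) = h' * a * (h * h') * a * h := by simp only [mul_assoc]
      _ = 0 := by rw [h1, mul_one, mul_assoc h' a a, ha.1]; simp
  · have e : (1 + c • (h' * a * h) : Module.End k M) = h' * (1 + c • a) * h := by
      rw [mul_add, add_mul, mul_one, h2, mul_smul_comm, smul_mul_assoc]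
    rw [e]
    exact (hh'.mul (ha.2 c)).mul hh

/-- conjugation of a member `a` by `1 + c b`, `b` another member -/
theorem QFam.conj_fam {G : Subgroup GLkM} {a b : Module.End k M} (ha : QFam G a) (hb : QFam G b)
    (c : k) : QFam G ((1 - c • b) * a * (1 + c • b)) := by
  have hN0 := hb.2 c
  revert hN0
  have hbb : (c • b) * (c • b) = 0 := (hb.smul c).1
  generalize c • b = N at hbb ⊢
  intro hN
  refine ha.conj hN ?_ ?_
  · have : (1 + N) * (1 - N) = 1 - N * N := by noncomm_ring
    rw [this, hbb, sub_zero]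
  · have : (1 - N) * (1 + N) = 1 - N * N := by noncomm_ring
    rw [this, hbb, sub_zero]

/-- a nonzero member gives an element of `𝒬(G)` -/
theorem QFam.mem_quadraticElements {G : Subgroup GLkM} {a : Module.End k M} (ha : QFam G a)
    (h0 : a ≠ 0) : unipUnit a ha.1 ∈ quadraticElements G := by
  have hval : ((unipUnit a ha.1 : GLkM) : Module.End k M) - 1 = a := by
    rw [val_unipUnit]; abel
  have hval' : (((unipUnit a ha.1 : GLkM) : M →ₗ[k] M) - 1) = a := hval
  refine ⟨?_, ⟨?_, ?_⟩, ?_⟩
  · apply InG.mem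
    rw [val_unipUnit]
    simpa using ha.2 1
  · rw [hval']; exact ha.1
  · rw [hval']; exact h0
  · rintro τ ⟨c, hc⟩
    rw [hval'] at hc
    apply InG.mem
    show InG G (τ : Module.End k M)
    have e : (τ : Module.End k M) = 1 + c • a := hc
    rw [e]
    exact ha.2 c

/-- conversely the nilpotent part of a member of `𝒬(G)` is a member -/
theorem QFam.of_mem_quadraticElements {G : Subgroup GLkM} {σ : GLkM}
    (hσ : σ ∈ quadraticElements G) : QFam G ((σ : Module.End k M) - 1) := by
  refine ⟨hσ.2.1.1, fun c => ?_⟩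
  -- the unit 1 + c (σ - 1)
  have hN : (c • ((σ : Module.End k M) - 1)) * (c • ((σ : Module.End k M) - 1)) = 0 := by
    rw [smul_mul_smul_comm]
    have := hσ.2.1.1
    rw [show ((σ : Module.End k M) - 1) * ((σ : Module.End k M) - 1) = 0 from this, smul_zero]
  have hmem : unipUnit (c • ((σ : Module.End k M) - 1)) hN ∈ scalarFamily σ := ⟨c, rfl⟩
  have := hσ.2.2 hmem
  exact ⟨_, this, rfl⟩

end Cfsg.Agent.Helper25.QP
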