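import Mathlib
import Cfsg.Agent.Helper25.QPBase

set_option autoImplicit false
set_option linter.unusedSimpArgs false
set_option linter.unusedVariables false

/-! Quadratic pairs: the unipotent pair lemma, base case (all words of length 5 vanish). -/

namespace Cfsg.Agent.Helper25.QP

open Cfsg Cfsg.Agent.Helper25.QuadPair

section ring

variable {k : Type*} [Field k] {R : Type*} [Ring R] [Algebra k R]

/-- conjugate of `a` by `1 + c b` -/
theorem conj_formula {a b : R} (haa : a * a = 0) (hbb : b * b = 0) (c : k) :
    (1 - c • b) * a * (1 + c • b) = a + c • (a * b - b * a) - (c * c) • (b * a * b) := by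
  simp only [mul_add, add_mul, mul_sub, sub_mul, mul_one, one_mul, smul_mul_assoc, mul_smul_comm,
    smul_sub, smul_smul, mul_assoc]
  module

/-- second conjugate, when all words of length `5` vanish -/
theorem conj2_formula {a b : R} (haa : a * a = 0) (hbb : b * b = 0)
    (h5a : a * b * a * b * a = 0) (c c' : k) :
    (1 - c' • a) * (a + c • (a * b - b * a) - (c * c) • (b * a * b)) * (1 + c' • a)
      = (a + c • (a * b - b * a) - (c * c) • (b * a * b))
        + (2 * c * c') • (a * b * a) + (c * c * c') • (a * b * a * b - b * a * b * a) := by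
  have haa' : ∀ x : R, a * (a * x) = 0 := fun x => by rw [← mul_assoc, haa, zero_mul]
  have h5a' : a * (b * (a * (b * a))) = 0 := by simpa only [mul_assoc] using h5a
  simp only [mul_add, add_mul, mul_sub, sub_mul, mul_one, one_mul, smul_mul_assoc, mul_smul_comm,
    smul_sub, smul_add, smul_smul, mul_assoc, haa, haa', h5a', mul_zero, smul_zero, sub_zero,
    add_zero, zero_add, zero_sub]
  module

/-- the element `W` has product zero with the first conjugate -/
theorem conj_mul_W {a b : R} (haa : a * a = 0) (hbb : b * b = 0)
    (h5a : a * b * a * b * a = 0) (h5b : b * a * b * a * b = 0) (c s t : k) :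
    (a + c • (a * b - b * a) - (c * c) • (b * a * b))
      * (s • (a * b * a) + t • (a * b * a * b - b * a * b * a)) = 0 := by
  have haa' : ∀ x : R, a * (a * x) = 0 := fun x => by rw [← mul_assoc, haa, zero_mul]
  have hbb' : ∀ x : R, b * (b * x) = 0 := fun x => by rw [← mul_assoc, hbb, zero_mul]
  have h5a' : a * (b * (a * (b * a))) = 0 := by simpa only [mul_assoc] using h5a
  have h5b' : b * (a * (b * (a * b))) = 0 := by simpa only [mul_assoc] using h5b
  have h5a'' : ∀ x : R, a * (b * (a * (b * (a * x)))) = 0 := fun x => by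
    have := congrArg (· * x) h5a'
    simpa only [mul_assoc, zero_mul] using this
  have h5b'' : ∀ x : R, b * (a * (b * (a * (b * x)))) = 0 := fun x => by
    have := congrArg (· * x) h5b'
    simpa only [mul_assoc, zero_mul] using this
  simp only [mul_add, add_mul, mul_sub, sub_mul, mul_one, one_mul, smul_mul_assoc, mul_smul_comm,
    smul_sub, smul_add, smul_smul, mul_assoc, haa, haa', hbb, hbb', h5a', h5b', h5a'', h5b'',
    mul_zero, smul_zero, sub_zero, add_zero, zero_add, zero_sub, neg_zero, sub_self]

theorem W_mul_conj {a b : R} (haa : a * a = 0) (hbb : b * b = 0)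
    (h5a : a * b * a * b * a = 0) (h5b : b * a * b * a * b = 0) (c s t : k) :
    (s • (a * b * a) + t • (a * b * a * b - b * a * b * a))
      * (a + c • (a * b - b * a) - (c * c) • (b * a * b)) = 0 := by
  have haa' : ∀ x : R, a * (a * x) = 0 := fun x => by rw [← mul_assoc, haa, zero_mul]
  have hbb' : ∀ x : R, b * (b * x) = 0 := fun x => by rw [← mul_assoc, hbb, zero_mul]
  have h5a' : a * (b * (a * (b * a))) = 0 := by simpa only [mul_assoc] using h5a
  have h5b' : b * (a * (b * (a * b))) = 0 := by simpa only [mul_assoc] using h5b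
  have h5a'' : ∀ x : R, a * (b * (a * (b * (a * x)))) = 0 := fun x => by
    have := congrArg (· * x) h5a'
    simpa only [mul_assoc, zero_mul] using this
  have h5b'' : ∀ x : R, b * (a * (b * (a * (b * x)))) = 0 := fun x => by
    have := congrArg (· * x) h5b'
    simpa only [mul_assoc, zero_mul] using this
  simp only [mul_add, add_mul, mul_sub, sub_mul, mul_one, one_mul, smul_mul_assoc, mul_smul_comm,
    smul_sub, smul_add, smul_smul, mul_assoc, haa, haa', hbb, hbb', h5a', h5b', h5a'', h5b'',
    mul_zero, smul_zero, sub_zero, add_zero, zero_add, zero_sub, neg_zero, sub_self]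

theorem W_mul_W {a b : R} (haa : a * a = 0) (hbb : b * b = 0)
    (h5a : a * b * a * b * a = 0) (h5b : b * a * b * a * b = 0) (s t s' t' : k) :
    (s • (a * b * a) + t • (a * b * a * b - b * a * b * a))
      * (s' • (a * b * a) + t' • (a * b * a * b - b * a * b * a)) = 0 := by
  have haa' : ∀ x : R, a * (a * x) = 0 := fun x => by rw [← mul_assoc, haa, zero_mul]
  have hbb' : ∀ x : R, b * (b * x) = 0 := fun x => by rw [← mul_assoc, hbb, zero_mul]
  have h5a' : a * (b * (a * (b * a))) = 0 := by simpa only [mul_assoc] using h5a
  have h5b' : b * (a * (b * (a * b))) = 0 := by simpa only [mul_assoc] using h5b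
  have h5a'' : ∀ x : R, a * (b * (a * (b * (a * x)))) = 0 := fun x => by
    have := congrArg (· * x) h5a'
    simpa only [mul_assoc, zero_mul] using this
  have h5b'' : ∀ x : R, b * (a * (b * (a * (b * x)))) = 0 := fun x => by
    have := congrArg (· * x) h5b'
    simpa only [mul_assoc, zero_mul] using this
  simp only [mul_add, add_mul, mul_sub, sub_mul, mul_one, one_mul, smul_mul_assoc, mul_smul_comm,
    smul_sub, smul_add, smul_smul, mul_assoc, haa, haa', hbb, hbb', h5a', h5b', h5a'', h5b'',
    mul_zero, smul_zero, sub_zero, add_zero, zero_add, zero_sub, neg_zero, sub_self]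

end ring

end Cfsg.Agent.Helper25.QP

namespace Cfsg.Agent.Helper25.QP

open Cfsg Cfsg.Agent.Helper25.QuadPair

section mod

variable {k : Type*} [Field k] {M : Type*} [AddCommGroup M] [Module k M]

local notation "GLkM" => LinearMap.GeneralLinearGroup k M

/-- `d` is a lower bound for the ranks of the nilpotent parts of the members of `𝒬(G)` -/
def MinRank (G : Subgroup GLkM) (d : ℕ) : Prop :=
  ∀ a : Module.End k M, QFam G a → a ≠ 0 → d ≤ Module.finrank k (LinearMap.range a)

/-- if all words of length five in `a`, `b` vanish then `1 + t a b a ∈ G` for all `t` -/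
theorem QFam_aba {G : Subgroup GLkM} {a b : Module.End k M} (h2 : (2 : k) ≠ 0)
    (ha : QFam G a) (hb : QFam G b)
    (h5a : a * b * a * b * a = 0) (h5b : b * a * b * a * b = 0) : QFam G (a * b * a) := by
  have haa := ha.1
  have hbb := hb.1
  -- first conjugates
  have h1 : ∀ c : k, QFam G (a + c • (a * b - b * a) - (c * c) • (b * a * b)) := fun c => by
    rw [← conj_formula haa hbb c]
    exact ha.conj_fam hb c
  -- second conjugates
  have h2' : ∀ c c' : k, QFam G ((a + c • (a * b - b * a) - (c * c) • (b * a * b))
        + (2 * c * c') • (a * b * a) + (c * c * c') • (a * b * a * b - b * a * b * a)) := fun c c' => by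
    rw [← conj2_formula haa hbb h5a c c']
    exact (h1 c).conj_fam ha c'
  -- the difference
  have hW : ∀ c c' : k, QFam G ((2 * c * c') • (a * b * a)
      + (c * c * c') • (a * b * a * b - b * a * b * a)) := fun c c' => by
    have e : (2 * c * c') • (a * b * a) + (c * c * c') • (a * b * a * b - b * a * b * a)
        = ((a + c • (a * b - b * a) - (c * c) • (b * a * b))
          + (2 * c * c') • (a * b * a) + (c * c * c') • (a * b * a * b - b * a * b * a))
          - (a + c • (a * b - b * a) - (c * c) • (b * a * b)) := by abel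
    rw [e]
    refine (h2' c c').sub (h1 c) ?_ ?_
    · rw [add_assoc, add_mul, (h1 c).1, zero_add]
      exact W_mul_conj haa hbb h5a h5b c _ _
    · rw [add_assoc, mul_add, (h1 c).1, zero_add]
      exact conj_mul_W haa hbb h5a h5b c _ _
  have h4 : QFam G ((4 : k) • (a * b * a)) := by
    have e : (4 : k) • (a * b * a)
        = ((2 * 1 * 1 : k) • (a * b * a) + (1 * 1 * 1 : k) • (a * b * a * b - b * a * b * a))
          - ((2 * (-1) * 1 : k) • (a * b * a) + ((-1) * (-1) * 1 : k) • (a * b * a * b - b * a * b * a)) := by
      module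
    rw [e]
    exact (hW 1 1).sub (hW (-1) 1) (W_mul_W haa hbb h5a h5b _ _ _ _)
      (W_mul_W haa hbb h5a h5b _ _ _ _)
  have h40 : (4 : k) ≠ 0 := by
    have : (4 : k) = 2 * 2 := by norm_num
    rw [this]; exact mul_ne_zero h2 h2
  have := h4.smul (4 : k)⁻¹
  rwa [smul_smul, inv_mul_cancel₀ h40, one_smul] at this

/-- Lemma (α): if all words of length five vanish then `a b a = 0`. -/
theorem alpha [FiniteDimensional k M] {G : Subgroup GLkM} {d : ℕ} (h2 : (2 : k) ≠ 0)
    (hmin : MinRank G d) {a b : Module.End k M} (ha : QFam G a) (hb : QFam G b)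
    (hra : Module.finrank k (LinearMap.range a) = d)
    (h5a : a * b * a * b * a = 0) (h5b : b * a * b * a * b = 0) : a * b * a = 0 := by
  by_contra h
  have hq := QFam_aba h2 ha hb h5a h5b
  have h1 := hmin _ hq h
  have hle : LinearMap.range (a * b * a) ≤ LinearMap.range a := by
    rw [mul_assoc]
    exact LinearMap.range_comp_le_range _ _
  have heq : LinearMap.range (a * b * a) = LinearMap.range a :=
    Submodule.eq_of_le_of_finrank_le hle (by rw [hra]; exact h1)
  have hz : (a * b) * (a * b * a) = 0 := by simpa only [mul_assoc] using h5a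
  apply h
  apply LinearMap.ext
  intro m
  have hm : a m ∈ LinearMap.range (a * b * a) := by rw [heq]; exact ⟨m, rfl⟩
  obtain ⟨m', hm'⟩ := hm
  have : (a * b * a) m = (a * b) (a m) := rfl
  rw [this, ← hm']
  have := LinearMap.congr_fun hz m'
  simpa using this

end mod

end Cfsg.Agent.Helper25.QP
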