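import Mathlib
import Cfsg.Agent.Helper25.QPAlpha

set_option autoImplicit false
set_option linter.unusedSimpArgs false
set_option linter.unusedVariables false

/-! Quadratic pairs: the unipotent pair lemma `(∗)`. -/

namespace Cfsg.Agent.Helper25.QP

open Cfsg Cfsg.Agent.Helper25.QuadPair

section ring

variable {R : Type*} [Ring R]

theorem mul_pow_succ_shift (x y : R) (n : ℕ) : (x * y) ^ (n + 1) = x * (y * x) ^ n * y := by
  induction n with
  | zero => simp
  | succ n ih =>
    rw [pow_succ, ih, pow_succ]
    simp only [mul_assoc]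

/-- `a a' = -(p (a + p))` for `a' = a + (ab - ba) - bab`, `p = ab` -/
theorem a_mul_conj {a b : R} (haa : a * a = 0) :
    a * (a + (a * b - b * a) - b * a * b) = -((a * b) * (a + a * b)) := by
  have haa' : ∀ x : R, a * (a * x) = 0 := fun x => by rw [← mul_assoc, haa, zero_mul]
  simp only [mul_add, add_mul, mul_sub, sub_mul, mul_assoc, haa, haa', zero_sub, sub_zero,
    zero_add]
  abel

theorem conj_pow_eq_zero {a b : R} (haa : a * a = 0) {n : ℕ} (hn : 2 ≤ n)
    (hp : (a * b) ^ (n + 1) = 0) : (a * (a + (a * b - b * a) - b * a * b)) ^ n = 0 := by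
  have haa' : ∀ x : R, a * (a * x) = 0 := fun x => by rw [← mul_assoc, haa, zero_mul]
  rw [a_mul_conj haa, neg_pow]
  obtain ⟨j, rfl⟩ : ∃ j, n = j + 1 := ⟨n - 1, by omega⟩
  rw [mul_pow_succ_shift]
  have e : (a + a * b) * (a * b) = (a * b) ^ 2 := by
    rw [add_mul, haa', zero_add, pow_two]
  rw [e, ← pow_mul]
  have : (a * b) * (a * b) ^ (2 * j) = 0 := by
    rw [← pow_succ']
    exact pow_eq_zero_of_le (by omega) hp
  rw [this, zero_mul, mul_zero]

/-- `a a' a = -(ab)² a` -/
theorem a_conj_a {a b : R} (haa : a * a = 0) :
    a * (a + (a * b - b * a) - b * a * b) * a = -(a * b * a * b * a) := by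
  have haa' : ∀ x : R, a * (a * x) = 0 := fun x => by rw [← mul_assoc, haa, zero_mul]
  simp only [mul_add, add_mul, mul_sub, sub_mul, mul_assoc, haa, haa', zero_sub, sub_zero,
    zero_add, mul_zero, sub_self, neg_zero, neg_mul, mul_neg]

theorem pow_mul_shift (x y : R) (n : ℕ) : (x * y) ^ n * x = x * (y * x) ^ n := by
  induction n with
  | zero => simp
  | succ n ih =>
    rw [pow_succ, mul_assoc, mul_assoc, ← mul_assoc, ih, pow_succ, mul_assoc]

end ring

section mod

variable {k : Type*} [Field k] {M : Type*} [AddCommGroup M] [Module k M]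

local notation "GLkM" => LinearMap.GeneralLinearGroup k M

theorem finrank_range_conj [FiniteDimensional k M] {a h h' : Module.End k M} (h1 : h * h' = 1)
    (h2 : h' * h = 1) :
    Module.finrank k (LinearMap.range (h' * a * h)) = Module.finrank k (LinearMap.range a) := by
  let e : M ≃ₗ[k] M := LinearEquiv.ofLinearMap h' h h2 h1
  have hs : LinearMap.range h = ⊤ := by
    rw [LinearMap.range_eq_top]
    intro m
    exact ⟨h' m, by
      have := LinearMap.congr_fun h1 m
      simpa using this⟩
  have e1 : LinearMap.range (h' * a * h) = Submodule.map (e : M →ₗ[k] M) (LinearMap.range a) := by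
    have : h' * a * h = (e : M →ₗ[k] M) ∘ₗ (a ∘ₗ h) := by
      rw [mul_assoc]; rfl
    rw [this, LinearMap.range_comp, LinearMap.range_comp_of_range_eq_top _ hs]
  rw [e1]
  exact LinearEquiv.finrank_map_eq e _

/-- the conjugate `a' = (1 - b) a (1 + b)` of `a` is again a member of the same rank -/
theorem conj_one_mem [FiniteDimensional k M] {G : Subgroup GLkM} {a b : Module.End k M}
    (ha : QFam G a) (hb : QFam G b) :
    QFam G (a + (a * b - b * a) - b * a * b) ∧
      Module.finrank k (LinearMap.range (a + (a * b - b * a) - b * a * b))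
        = Module.finrank k (LinearMap.range a) := by
  have hf := conj_formula (k := k) ha.1 hb.1 1
  simp only [one_smul, mul_one] at hf
  constructor
  · rw [← hf]
    have := ha.conj_fam hb 1
    simpa only [one_smul] using this
  · rw [← hf]
    apply finrank_range_conj
    · have : (1 + b) * (1 - b) = 1 - b * b := by noncomm_ring
      rw [this, hb.1, sub_zero]
    · have : (1 - b) * (1 + b) = 1 - b * b := by noncomm_ring
      rw [this, hb.1, sub_zero]

/-- The unipotent pair lemma `(∗)`, first half: `a b a = 0 = b a b`. -/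
theorem star [FiniteDimensional k M] {G : Subgroup GLkM} {d : ℕ} (h2 : (2 : k) ≠ 0)
    (hmin : MinRank G d) :
    ∀ (n : ℕ) {a b : Module.End k M}, QFam G a → QFam G b →
      Module.finrank k (LinearMap.range a) = d → Module.finrank k (LinearMap.range b) = d →
      (a * b) ^ n = 0 → a * b * a = 0 ∧ b * a * b = 0 := by
  intro n
  induction n with
  | zero =>
    intro a b ha hb hra hrb h0
    have h10 : (1 : Module.End k M) = 0 := by simpa using h0
    have : ∀ x : Module.End k M, x = 0 := fun x => by rw [← mul_one x, h10, mul_zero]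
    exact ⟨this _, this _⟩
  | succ n ih =>
    intro a b ha hb hra hrb hn
    -- it suffices to kill the words of length five
    have key : a * b * a * b * a = 0 ∧ b * a * b * a * b = 0 := by
      by_cases hn2 : n + 1 ≤ 2
      · have h22 : (a * b) ^ 2 = 0 := pow_eq_zero_of_le hn2 hn
        rw [pow_two] at h22
        constructor
        · have : a * b * a * b * a = (a * b) * (a * b) * a := by simp only [mul_assoc]
          rw [this, h22, zero_mul]
        · have : b * a * b * a * b = b * ((a * b) * (a * b)) := by simp only [mul_assoc]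
          rw [this, h22, mul_zero]
      · have hn2' : 2 ≤ n := by omega
        -- the pair (a, a')
        obtain ⟨hq, hr⟩ := conj_one_mem ha hb
        have hz := conj_pow_eq_zero ha.1 hn2' hn
        have h1 := (ih ha hq hra (hr.trans hra) hz).1
        rw [a_conj_a ha.1, neg_eq_zero] at h1
        -- the pair (b, b')
        have hn' : (b * a) ^ (n + 1 + 1) = 0 := by
          rw [mul_pow_succ_shift, hn, mul_zero, zero_mul]
        -- we need (b a)^(n+1) = 0 for the same argument; use a slightly weaker exponent
        obtain ⟨hq', hr'⟩ := conj_one_mem hb ha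
        have hz' : (b * (b + (b * a - a * b) - a * b * a)) ^ n = 0 := by
          have hbb' : ∀ x : Module.End k M, b * (b * x) = 0 := fun x => by
            rw [← mul_assoc, hb.1, zero_mul]
          rw [a_mul_conj hb.1, neg_pow]
          obtain ⟨j, rfl⟩ : ∃ j, n = j + 1 := ⟨n - 1, by omega⟩
          rw [mul_pow_succ_shift]
          have e : (b + b * a) * (b * a) = (b * a) ^ 2 := by
            rw [add_mul, hbb', zero_add, pow_two]
          rw [e, ← pow_mul, ← pow_succ', mul_add, ← mul_assoc _ b a, pow_mul_shift]
          have : (a * b) ^ (2 * j + 1) = 0 := pow_eq_zero_of_le (by omega) hn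
          rw [this, mul_zero, zero_mul, add_zero, mul_zero]
        have h1' := (ih hb hq' hrb (hr'.trans hrb) hz').1
        rw [a_conj_a hb.1, neg_eq_zero] at h1'
        exact ⟨h1, h1'⟩
    exact ⟨alpha h2 hmin ha hb hra key.1 key.2, alpha h2 hmin hb ha hrb key.2 key.1⟩

end mod

end Cfsg.Agent.Helper25.QP
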