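import Mathlib
import Cfsg.Agent.Helper25.QPStar

set_option autoImplicit false
set_option linter.unusedSimpArgs false
set_option linter.unusedVariables false

/-! Quadratic pairs: rank statements in the unipotent pair lemma. -/

namespace Cfsg.Agent.Helper25.QP

open Cfsg Cfsg.Agent.Helper25.QuadPair

variable {k : Type*} [Field k] {M : Type*} [AddCommGroup M] [Module k M]

local notation "GLkM" => LinearMap.GeneralLinearGroup k M

/-- `rank (f restricted to p) + dim (p ∩ ker f) = dim p` -/
theorem finrank_map_add_finrank_inf_ker [FiniteDimensional k M] (f : Module.End k M)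
    (p : Submodule k M) :
    Module.finrank k (Submodule.map f p) + Module.finrank k (p ⊓ LinearMap.ker f : Submodule k M)
      = Module.finrank k p := by
  have h := LinearMap.finrank_range_add_finrank_ker (f.domRestrict p)
  have e1 : LinearMap.range (f.domRestrict p) = Submodule.map f p := by
    ext x
    constructor
    · rintro ⟨⟨y, hy⟩, rfl⟩
      exact ⟨y, hy, rfl⟩
    · rintro ⟨y, hy, rfl⟩
      exact ⟨⟨y, hy⟩, rfl⟩
  have e2 : Module.finrank k (LinearMap.ker (f.domRestrict p))
      = Module.finrank k (p ⊓ LinearMap.ker f : Submodule k M) := by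
    have : LinearMap.ker (f.domRestrict p) = Submodule.comap p.subtype (p ⊓ LinearMap.ker f) := by
      ext ⟨y, hy⟩
      simp [LinearMap.mem_ker, hy]
    rw [this]
    exact (Submodule.comapSubtypeEquivOfLe (inf_le_left : p ⊓ LinearMap.ker f ≤ p)).finrank_eq
  rw [e1, e2] at h
  exact h

theorem range_mul (f g : Module.End k M) :
    LinearMap.range (f * g) = Submodule.map f (LinearMap.range g) :=
  LinearMap.range_comp g f

/-- (P3) `a b a = 0` gives `rank (a b) + rank (b a) ≤ rank b`. -/
theorem rank_mul_add_le [FiniteDimensional k M] {a b : Module.End k M} (h : a * b * a = 0) :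
    Module.finrank k (LinearMap.range (a * b)) + Module.finrank k (LinearMap.range (b * a))
      ≤ Module.finrank k (LinearMap.range b) := by
  have h1 := finrank_map_add_finrank_inf_ker a (LinearMap.range b)
  rw [← range_mul] at h1
  have h2 : LinearMap.range (b * a) ≤ LinearMap.range b ⊓ LinearMap.ker a := by
    rintro _ ⟨m, rfl⟩
    refine ⟨⟨a m, rfl⟩, ?_⟩
    show (b * a) m ∈ LinearMap.ker a
    rw [LinearMap.mem_ker]
    have := LinearMap.congr_fun h m
    simpa using this
  have h3 := Submodule.finrank_mono h2
  omega

theorem range_sub_le (f g : Module.End k M) :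
    LinearMap.range (f - g) ≤ LinearMap.range f ⊔ LinearMap.range g := by
  rintro _ ⟨m, rfl⟩
  rw [LinearMap.sub_apply]
  exact Submodule.sub_mem _ (Submodule.mem_sup_left ⟨m, rfl⟩) (Submodule.mem_sup_right ⟨m, rfl⟩)

theorem rank_sub_le [FiniteDimensional k M] (f g : Module.End k M) :
    Module.finrank k (LinearMap.range (f - g))
      ≤ Module.finrank k (LinearMap.range f) + Module.finrank k (LinearMap.range g) :=
  (Submodule.finrank_mono (range_sub_le f g)).trans (Submodule.finrank_add_le_finrank_add_finrank _ _)

/-- under `a b a = 0 = b a b` the commutator `a b - b a` is again a member -/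
theorem QFam_comm {G : Subgroup GLkM} {a b : Module.End k M} (ha : QFam G a) (hb : QFam G b)
    (h1 : a * b * a = 0) (h2 : b * a * b = 0) : QFam G (a * b - b * a) := by
  have hf := conj_formula (k := k) ha.1 hb.1 1
  simp only [one_smul, mul_one] at hf
  have hq : QFam G (a + (a * b - b * a) - b * a * b) := by
    rw [← hf]
    have := ha.conj_fam hb 1
    simpa only [one_smul] using this
  rw [h2, sub_zero] at hq
  have haa' : ∀ x : Module.End k M, a * (a * x) = 0 := fun x => by
    rw [← mul_assoc, ha.1, zero_mul]
  have h1' : a * (b * a) = 0 := by simpa only [mul_assoc] using h1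
  have e : a * b - b * a = (a + (a * b - b * a)) - a := by abel
  rw [e]
  refine hq.sub ha ?_ ?_
  · simp only [add_mul, sub_mul, mul_assoc, ha.1, h1', mul_zero, sub_zero, add_zero]
  · simp only [mul_add, mul_sub, mul_assoc, ha.1, haa', h1', sub_zero, add_zero]

/-- The unipotent pair lemma `(∗)`, second half: the commutator has rank `d` and the ranks of
`a b` and `b a` add up to `d`. -/
theorem star_rank [FiniteDimensional k M] {G : Subgroup GLkM} {d : ℕ}
    (hmin : MinRank G d) {a b : Module.End k M} (ha : QFam G a) (hb : QFam G b)
    (hra : Module.finrank k (LinearMap.range a) = d) (hrb : Module.finrank k (LinearMap.range b) = d)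
    (h1 : a * b * a = 0) (h2 : b * a * b = 0) (hne : a * b ≠ b * a) :
    Module.finrank k (LinearMap.range (a * b - b * a)) = d ∧
      Module.finrank k (LinearMap.range (a * b)) + Module.finrank k (LinearMap.range (b * a)) = d := by
  have hq := QFam_comm ha hb h1 h2
  have h3 := hmin _ hq (sub_ne_zero.mpr hne)
  have h4 := rank_sub_le (a * b) (b * a)
  have h5 := rank_mul_add_le h1
  constructor <;> omega

end Cfsg.Agent.Helper25.QP
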