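import Mathlib
import Cfsg.Prelude.Def_RootSubgroups
import Cfsg.Agent.Helper25.QPRank

set_option autoImplicit false

/-! Quadratic pairs (Timmesfeld V.1): definitions for the analysis of a pair `σ = 1 + a`, `τ = 1 + b`
of quadratic elements (`a² = 0 = b²`). Board `qppieces`. -/

noncomputable section

namespace Cfsg.Agent.QPP

open Cfsg Cfsg.Agent.Helper25.QP Cfsg.Agent.Helper25.QuadPair Polynomial

variable {k : Type*} [Field k] {M : Type*} [AddCommGroup M] [Module k M]

local notation "GLkM" => LinearMap.GeneralLinearGroup k M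

/-- `z = a b + b a` (central in the algebra generated by `a`, `b` when `a² = 0 = b²`) -/
def zz (a b : Module.End k M) : Module.End k M := a * b + b * a

/-- `1 + c a` as an element of `GL(M)` -/
def uu (a : Module.End k M) (ha : a * a = 0) (c : k) : GLkM :=
  unipUnit (c • a) (by rw [smul_mul_smul_comm, ha, smul_zero])

@[simp] theorem val_uu (a : Module.End k M) (ha : a * a = 0) (c : k) :
    ((uu a ha c : GLkM) : Module.End k M) = 1 + c • a := rfl

/-- `H = ⟨1 + c a, 1 + c b : c ∈ k⟩` -/
def Hgrp (a b : Module.End k M) (ha : a * a = 0) (hb : b * b = 0) : Subgroup GLkM :=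
  Subgroup.closure (Set.range (uu a ha) ∪ Set.range (uu b hb))

/-- elementary matrices of `SL₂(R)` -/
def e12 {R : Type*} [CommRing R] (x : R) : Matrix.SpecialLinearGroup (Fin 2) R :=
  ⟨!![1, x; 0, 1], by simp [Matrix.det_fin_two]⟩

def e21 {R : Type*} [CommRing R] (x : R) : Matrix.SpecialLinearGroup (Fin 2) R :=
  ⟨!![1, 0; x, 1], by simp [Matrix.det_fin_two]⟩

/-- the subgroup `⟨e₁₂(c), e₂₁(c lam) : c ∈ k⟩` of `SL₂(R)` for a `k`-algebra `R` -/
def Hmat (k : Type*) [Field k] {R : Type*} [CommRing R] [Algebra k R] (lam : R) :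
    Subgroup (Matrix.SpecialLinearGroup (Fin 2) R) :=
  Subgroup.closure (Set.range (fun c : k => e12 (algebraMap k R c)) ∪
    Set.range (fun c : k => e21 (algebraMap k R c * lam)))

/-- the formal group `H̃ = ⟨e₁₂(c), e₂₁(c X)⟩ ≤ SL₂(k[X])` -/
def Htil (k : Type*) [Field k] : Subgroup (Matrix.SpecialLinearGroup (Fin 2) k[X]) :=
  Hmat k (X : k[X])

/-- the pair group: the subgroup of `GL(M) × SL₂(k[X])` generated by the pairs of generators -/
def Hpair (a b : Module.End k M) (ha : a * a = 0) (hb : b * b = 0) :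
    Subgroup (GLkM × Matrix.SpecialLinearGroup (Fin 2) k[X]) :=
  Subgroup.closure (Set.range (fun c : k => (uu a ha c, e12 (C c))) ∪
    Set.range (fun c : k => (uu b hb c, e21 (C c * X))))

/-- polynomial coordinates `(p, q, s, t)`: the endomorphism `p(z) ab + q(z) a + s(z) b + t(z) ba`,
matching the matrix `[[X p, q], [X s, X t]]` under `a ↦ e₁₂`, `b ↦ X e₂₁` -/
@[ext] structure Co (k : Type*) [Field k] where
  p : k[X]
  q : k[X]
  s : k[X]
  t : k[X]

namespace Co

variable {k : Type*} [Field k]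

instance : Zero (Co k) := ⟨⟨0, 0, 0, 0⟩⟩
instance : Add (Co k) := ⟨fun P Q => ⟨P.p + Q.p, P.q + Q.q, P.s + Q.s, P.t + Q.t⟩⟩
instance : Neg (Co k) := ⟨fun P => ⟨-P.p, -P.q, -P.s, -P.t⟩⟩
/-- the product matching matrix multiplication -/
instance : Mul (Co k) := ⟨fun P Q =>
  ⟨X * P.p * Q.p + P.q * Q.s, X * P.p * Q.q + X * P.q * Q.t,
   X * P.s * Q.p + X * P.t * Q.s, P.s * Q.q + X * P.t * Q.t⟩⟩

@[simp] theorem zero_p : (0 : Co k).p = 0 := rfl
@[simp] theorem zero_q : (0 : Co k).q = 0 := rfl
@[simp] theorem zero_s : (0 : Co k).s = 0 := rfl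
@[simp] theorem zero_t : (0 : Co k).t = 0 := rfl
@[simp] theorem add_p (P Q : Co k) : (P + Q).p = P.p + Q.p := rfl
@[simp] theorem add_q (P Q : Co k) : (P + Q).q = P.q + Q.q := rfl
@[simp] theorem add_s (P Q : Co k) : (P + Q).s = P.s + Q.s := rfl
@[simp] theorem add_t (P Q : Co k) : (P + Q).t = P.t + Q.t := rfl
@[simp] theorem neg_p (P : Co k) : (-P).p = -P.p := rfl
@[simp] theorem neg_q (P : Co k) : (-P).q = -P.q := rfl
@[simp] theorem neg_s (P : Co k) : (-P).s = -P.s := rfl
@[simp] theorem neg_t (P : Co k) : (-P).t = -P.t := rfl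
@[simp] theorem mul_p (P Q : Co k) : (P * Q).p = X * P.p * Q.p + P.q * Q.s := rfl
@[simp] theorem mul_q (P Q : Co k) : (P * Q).q = X * P.p * Q.q + X * P.q * Q.t := rfl
@[simp] theorem mul_s (P Q : Co k) : (P * Q).s = X * P.s * Q.p + X * P.t * Q.s := rfl
@[simp] theorem mul_t (P Q : Co k) : (P * Q).t = P.s * Q.q + X * P.t * Q.t := rfl

/-- the matrix `[[X p, q], [X s, X t]]` -/
def matn (P : Co k) : Matrix (Fin 2) (Fin 2) k[X] :=
  !![X * P.p, P.q; X * P.s, X * P.t]

/-- the coordinates of `a` and of `b` -/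
def ca : Co k := ⟨0, 1, 0, 0⟩
def cb : Co k := ⟨0, 0, 1, 0⟩

end Co

/-- the endomorphism `p(z) ab + q(z) a + s(z) b + t(z) ba` -/
def opn (a b : Module.End k M) (P : Co k) : Module.End k M :=
  aeval (zz a b) P.p * (a * b) + aeval (zz a b) P.q * a + aeval (zz a b) P.s * b
    + aeval (zz a b) P.t * (b * a)

/-- Fitting null component of an endomorphism -/
def F0 (z : Module.End k M) : Submodule k M := ⨆ n : ℕ, LinearMap.ker (z ^ n)

/-- Fitting one component of an endomorphism -/
def F1 (z : Module.End k M) : Submodule k M := ⨅ n : ℕ, LinearMap.range (z ^ n)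

/-- Fitting null component of `z = ab + ba` -/
def M0 (a b : Module.End k M) : Submodule k M := F0 (zz a b)

/-- Fitting one component of `z = ab + ba` -/
def M1 (a b : Module.End k M) : Submodule k M := F1 (zz a b)

/-- `A₁ = M₁ ∩ ker a` -/
def A1 (a b : Module.End k M) : Submodule k M := M1 a b ⊓ LinearMap.ker a

/-- `B₁ = M₁ ∩ ker b` -/
def B1 (a b : Module.End k M) : Submodule k M := M1 a b ⊓ LinearMap.ker b

/-- the ideal of polynomials `q` with `q(z) = 0` on the submodule `W` -/
def Van (z : Module.End k M) (W : Submodule k M) : Ideal k[X] where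
  carrier := {q | ∀ m ∈ W, aeval z q m = 0}
  add_mem' := by
    intro p q hp hq m hm
    simp [hp m hm, hq m hm]
  zero_mem' := by intro m _; simp
  smul_mem' := by
    intro c q hq m hm
    simp only [smul_eq_mul, map_mul, Module.End.mul_apply, hq m hm, map_zero]

theorem mem_Van {z : Module.End k M} {W : Submodule k M} {q : k[X]} :
    q ∈ Van z W ↔ ∀ m ∈ W, aeval z q m = 0 := Iff.rfl

/-- the ideal of polynomials vanishing at `z` on `M₁` -/
def Van1 (a b : Module.End k M) : Ideal k[X] := Van (zz a b) (M1 a b)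

/-- the pair `(a, b)` is unipotent: `a b` is nilpotent -/
def UnipPair (a b : Module.End k M) : Prop := IsNilpotent (a * b)

/-- `a` is the nilpotent part of a member of `𝒬_d(G)` -/
def Qd (G : Subgroup GLkM) (d : ℕ) (a : Module.End k M) : Prop :=
  QFam G a ∧ Module.finrank k (LinearMap.range a) = d

/-- conclusion (A) of the structure theorem -/
def StrA (a b : Module.End k M) : Prop :=
  LinearMap.ker a ⊓ LinearMap.range b = ⊥ ∧ LinearMap.ker b ⊓ LinearMap.range a = ⊥

/-- conclusion (B) of the structure theorem: an irreducible polynomial kills `z` on `A + B` -/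
def StrB (a b : Module.End k M) : Prop :=
  ∃ p : k[X], Irreducible p ∧ aeval (zz a b) p * a = 0 ∧ aeval (zz a b) p * b = 0

/-- the standing hypotheses on a pair -/
structure QPair (G : Subgroup GLkM) (d : ℕ) (a b : Module.End k M) : Prop where
  min : MinRank G d
  qa : Qd G d a
  qb : Qd G d b

/-- conclusion (A') of the structure theorem: `a` and `b` vanish on the Fitting null component -/
def VanM0 (a b : Module.End k M) : Prop := ∀ m ∈ M0 a b, a m = 0 ∧ b m = 0

/-- the induction hypothesis for Theorem A at level `n` -/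
def IHA (G : Subgroup GLkM) (d n : ℕ) : Prop :=
  ∀ a b : Module.End k M, Qd G d a → Qd G d b → ¬ UnipPair a b →
    Module.finrank k (M1 a b) < n → VanM0 a b

/-- `P` are coordinates of the element `x` of the pair group -/
def Coords (a b : Module.End k M) (x : GLkM × Matrix.SpecialLinearGroup (Fin 2) k[X]) (P : Co k) :
    Prop :=
  ((x.2 : Matrix.SpecialLinearGroup (Fin 2) k[X]) : Matrix (Fin 2) (Fin 2) k[X]) = 1 + Co.matn P ∧
    ((x.1 : GLkM) : Module.End k M) = 1 + opn a b P

/-- depth of an endomorphism with respect to a flag `V` -/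
def Dep (V : ℕ → Submodule k M) (s : ℕ) (w : Module.End k M) : Prop :=
  ∀ i : ℕ, (V (i + s)).map w ≤ V i

/-- iterated commutator `[g, h, …, h]` -/
def icomm {Γ : Type*} [Group Γ] (h : Γ) : ℕ → Γ → Γ
  | 0, g => g
  | (n + 1), g => icomm h n g * h * (icomm h n g)⁻¹ * h⁻¹

end Cfsg.Agent.QPP

end
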