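import Mathlib
import Cfsg.Prelude.Def_RootSubgroups

set_option autoImplicit false

/-! Rank one groups (Timmesfeld, Abstract root subgroups, I §1): basic lemmas. -/

namespace Cfsg.Agent.Helper25

open Cfsg

variable {G : Type*} [Group G]

theorem mem_conjBy_iff {A : Subgroup G} {g x : G} : x ∈ conjBy A g ↔ g⁻¹ * x * g ∈ A := by
  constructor
  · rintro ⟨a, ha, rfl⟩
    have : g⁻¹ * ((MulAut.conj g).toMonoidHom a) * g = a := by
      simp [MulAut.conj_apply, mul_assoc]
    rw [this]; exact ha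
  · intro h
    refine ⟨g⁻¹ * x * g, h, ?_⟩
    simp [MulAut.conj_apply, mul_assoc]

theorem conj_mem_conjBy {A : Subgroup G} {g a : G} (ha : a ∈ A) : g * a * g⁻¹ ∈ conjBy A g := by
  rw [mem_conjBy_iff]; simpa [mul_assoc] using ha

theorem conjBy_one (A : Subgroup G) : conjBy A 1 = A := by
  ext x; rw [mem_conjBy_iff]; simp

theorem conjBy_conjBy (A : Subgroup G) (g h : G) : conjBy (conjBy A g) h = conjBy A (h * g) := by
  ext x; rw [mem_conjBy_iff, mem_conjBy_iff, mem_conjBy_iff]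
  simp [mul_assoc]

theorem conjBy_eq_self_iff {A : Subgroup G} {g : G} :
    conjBy A g = A ↔ g ∈ Subgroup.normalizer (A : Set G) := by
  rw [Subgroup.mem_normalizer_iff'']
  constructor
  · intro h x
    rw [← mem_conjBy_iff, h]
  · intro h; ext x; rw [mem_conjBy_iff]; exact (h x).symm

theorem conjBy_eq_self_of_mem {A : Subgroup G} {g : G} (hg : g ∈ A) : conjBy A g = A :=
  conjBy_eq_self_iff.mpr (Subgroup.le_normalizer hg)

theorem conjBy_eq_iff {A B : Subgroup G} {g : G} : conjBy A g = B ↔ A = conjBy B g⁻¹ := by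
  constructor
  · rintro rfl; rw [conjBy_conjBy]; simp [conjBy_one]
  · rintro rfl; rw [conjBy_conjBy]; simp [conjBy_one]

theorem conjBy_eq_conjBy_iff {A : Subgroup G} {g h : G} :
    conjBy A g = conjBy A h ↔ h⁻¹ * g ∈ Subgroup.normalizer (A : Set G) := by
  rw [← conjBy_eq_self_iff, ← conjBy_conjBy, conjBy_eq_iff (g := h⁻¹), inv_inv]

theorem conjBy_le_of_mem {A K : Subgroup G} {g : G} (hA : A ≤ K) (hg : g ∈ K) : conjBy A g ≤ K := by
  intro x hx
  rw [mem_conjBy_iff] at hx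
  have : x = g * (g⁻¹ * x * g) * g⁻¹ := by simp [mul_assoc]
  rw [this]
  exact K.mul_mem (K.mul_mem hg (hA hx)) (K.inv_mem hg)

theorem conjBy_inf (A B : Subgroup G) (g : G) : conjBy (A ⊓ B) g = conjBy A g ⊓ conjBy B g := by
  ext x; simp only [mem_conjBy_iff, Subgroup.mem_inf]

theorem conjBy_mono {A B : Subgroup G} (h : A ≤ B) (g : G) : conjBy A g ≤ conjBy B g :=
  Subgroup.map_mono h

theorem conjBy_injective (g : G) : Function.Injective (fun A : Subgroup G => conjBy A g) := by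
  intro A B h
  have h' : conjBy A g = conjBy B g := h
  rw [conjBy_eq_iff, conjBy_conjBy] at h'
  simpa [conjBy_one] using h'

/-- The conjugate is isomorphic to the original. -/
noncomputable def conjByEquiv (A : Subgroup G) (g : G) : A ≃* conjBy A g :=
  A.equivMapOfInjective (MulAut.conj g).toMonoidHom (MulAut.conj g).injective

theorem conjBy_isNilpotent {A : Subgroup G} (h : Group.IsNilpotent A) (g : G) :
    Group.IsNilpotent (conjBy A g) :=
  (Group.isNilpotent_congr (conjByEquiv A g)).mp h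

/-! ### Rank one pairs -/

section Pair

variable {A B : Subgroup G}

theorem rankOne_inf_normalizer (h : IsRankOnePair A B) :
    A ⊓ Subgroup.normalizer (B : Set G) = ⊥ := by
  rw [eq_bot_iff]
  intro a ha
  rw [Subgroup.mem_bot]
  by_contra ha1
  obtain ⟨b, hb, -, hab⟩ := h.cond_left a ha.1 ha1
  have h1 : conjBy B a⁻¹ = B := conjBy_eq_self_iff.mpr (Subgroup.inv_mem _ ha.2)
  rw [h1, conjBy_eq_iff, inv_inv, conjBy_eq_self_of_mem hb] at hab
  exact h.ne hab

theorem rankOne_inf_normalizer' (h : IsRankOnePair A B) :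
    B ⊓ Subgroup.normalizer (A : Set G) = ⊥ :=
  rankOne_inf_normalizer (RankOnePair_symm h)

theorem rankOne_eq_one_of_normalizes (h : IsRankOnePair A B) {a : G} (ha : a ∈ A)
    (hn : a ∈ Subgroup.normalizer (B : Set G)) : a = 1 := by
  have : a ∈ A ⊓ Subgroup.normalizer (B : Set G) := ⟨ha, hn⟩
  rw [rankOne_inf_normalizer h] at this
  exact this

theorem rankOne_exists_ne_one (h : IsRankOnePair A B) : ∃ a ∈ A, a ≠ 1 := by
  by_contra hcon
  push Not at hcon
  have hB : ∀ b ∈ B, b = 1 := by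
    intro b hb
    by_contra hb1
    obtain ⟨a, ha, ha1, -⟩ := h.cond_right b hb hb1
    exact ha1 (hcon a ha)
  apply h.ne
  ext x
  constructor
  · intro hx; rw [hcon x hx]; exact B.one_mem
  · intro hx; rw [hB x hx]; exact A.one_mem

theorem rankOne_conjBy_left_injOn (h : IsRankOnePair A B) {b b' : G} (hb : b ∈ B) (hb' : b' ∈ B)
    (he : conjBy A b = conjBy A b') : b = b' := by
  rw [conjBy_eq_conjBy_iff] at he
  have := rankOne_eq_one_of_normalizes (RankOnePair_symm h) (B.mul_mem (B.inv_mem hb') hb) he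
  exact (inv_mul_eq_one.mp this).symm

theorem rankOne_conjBy_right_injOn (h : IsRankOnePair A B) {a a' : G} (ha : a ∈ A) (ha' : a' ∈ A)
    (he : conjBy B a = conjBy B a') : a = a' :=
  rankOne_conjBy_left_injOn (RankOnePair_symm h) ha ha' he

/-- `B` is a conjugate of `A` inside `A ⊔ B`. -/
theorem rankOne_exists_conj (h : IsRankOnePair A B) : ∃ x ∈ A ⊔ B, B = conjBy A x := by
  obtain ⟨a, ha, ha1⟩ := rankOne_exists_ne_one h
  obtain ⟨b, hb, -, hab⟩ := h.cond_left a ha ha1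
  refine ⟨a * b⁻¹, ?_, ?_⟩
  · exact Subgroup.mul_mem _ (Subgroup.mem_sup_left ha)
      (Subgroup.inv_mem _ (Subgroup.mem_sup_right hb))
  · rw [← conjBy_conjBy, hab, conjBy_conjBy]; simp [conjBy_one]

/-- For `x ∈ B`, the conjugate `x A x⁻¹` is `A` or of the form `a B a⁻¹` with `a ∈ A`. -/
theorem rankOne_conjBy_left_of_mem_right (h : IsRankOnePair A B) {x : G} (hx : x ∈ B) :
    conjBy A x = A ∨ ∃ a ∈ A, conjBy A x = conjBy B a := by
  by_cases hx1 : x = 1
  · left; rw [hx1, conjBy_one]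
  · right
    have hx1' : x⁻¹ ≠ 1 := by simpa using hx1
    obtain ⟨a, ha, -, hab⟩ := h.cond_right x⁻¹ (B.inv_mem hx) hx1'
    rw [inv_inv] at hab
    exact ⟨a⁻¹, A.inv_mem ha, hab.symm⟩

/-- The set `{A} ∪ {a B a⁻¹ | a ∈ A}` is stable under conjugation by elements of `A ⊔ B`. -/
theorem rankOne_conjBy_mem_aux (h : IsRankOnePair A B) {x : G} (hx : x ∈ A ⊔ B) :
    ∀ C : Subgroup G, (C = A ∨ ∃ a ∈ A, C = conjBy B a) →
      (conjBy C x = A ∨ ∃ a ∈ A, conjBy C x = conjBy B a) := by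
  have key : ∀ x ∈ A ⊔ B, (∀ C : Subgroup G, (C = A ∨ ∃ a ∈ A, C = conjBy B a) →
      (conjBy C x = A ∨ ∃ a ∈ A, conjBy C x = conjBy B a)) := by
    intro x hx
    rw [Subgroup.sup_eq_closure] at hx
    induction hx using Subgroup.closure_induction'' with
    | one => intro C hC; rw [conjBy_one]; exact hC
    | mem y hy =>
      intro C hC
      rcases hy with hy | hy
      · -- y ∈ A
        rcases hC with rfl | ⟨a, ha, rfl⟩
        · left; exact conjBy_eq_self_of_mem hy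
        · right; exact ⟨y * a, A.mul_mem hy ha, conjBy_conjBy _ _ _⟩
      · -- y ∈ B
        rcases hC with rfl | ⟨a, ha, rfl⟩
        · exact rankOne_conjBy_left_of_mem_right h hy
        · by_cases ha1 : a = 1
          · right; refine ⟨1, A.one_mem, ?_⟩
            rw [ha1, conjBy_conjBy, mul_one, conjBy_one]; exact conjBy_eq_self_of_mem hy
          · have ha1' : a⁻¹ ≠ 1 := by simpa using ha1
            obtain ⟨b, hb, -, hab⟩ := h.cond_left a⁻¹ (A.inv_mem ha) ha1'
            rw [inv_inv] at hab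
            rw [← hab, conjBy_conjBy]
            exact rankOne_conjBy_left_of_mem_right h (B.mul_mem hy (B.inv_mem hb))
    | inv_mem y hy =>
      intro C hC
      have hy' : y⁻¹ ∈ (A : Set G) ∪ B := by
        rcases hy with hy | hy
        · left; exact A.inv_mem hy
        · right; exact B.inv_mem hy
      clear hy
      rcases hy' with hyi | hyi
      · rcases hC with rfl | ⟨a, ha, rfl⟩
        · left; exact conjBy_eq_self_of_mem hyi
        · right; exact ⟨y⁻¹ * a, A.mul_mem hyi ha, conjBy_conjBy _ _ _⟩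
      · rcases hC with rfl | ⟨a, ha, rfl⟩
        · exact rankOne_conjBy_left_of_mem_right h hyi
        · by_cases ha1 : a = 1
          · right; refine ⟨1, A.one_mem, ?_⟩
            rw [ha1, conjBy_conjBy, mul_one, conjBy_one]; exact conjBy_eq_self_of_mem hyi
          · have ha1' : a⁻¹ ≠ 1 := by simpa using ha1
            obtain ⟨b, hb, -, hab⟩ := h.cond_left a⁻¹ (A.inv_mem ha) ha1'
            rw [inv_inv] at hab
            rw [← hab, conjBy_conjBy]
            exact rankOne_conjBy_left_of_mem_right h (B.mul_mem hyi (B.inv_mem hb))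
    | mul y z _ _ ihy ihz =>
      intro C hC
      rw [← conjBy_conjBy]
      exact ihy _ (ihz C hC)
  exact key x hx

/-- Every unipotent subgroup is `A` or `a B a⁻¹` with `a ∈ A`. -/
theorem rankOne_unipotent_cases (h : IsRankOnePair A B) {C : Subgroup G}
    (hC : C ∈ unipotentSubgroups A B) : C = A ∨ ∃ a ∈ A, C = conjBy B a := by
  obtain ⟨x, hx, rfl⟩ := hC
  exact rankOne_conjBy_mem_aux h hx A (Or.inl rfl)

theorem rankOne_left_mem_unipotent (A B : Subgroup G) : A ∈ unipotentSubgroups A B :=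
  ⟨1, Subgroup.one_mem _, (conjBy_one A).symm⟩

theorem rankOne_right_mem_unipotent (h : IsRankOnePair A B) : B ∈ unipotentSubgroups A B :=
  rankOne_exists_conj h

theorem rankOne_conjBy_mem_unipotent {C : Subgroup G} (hC : C ∈ unipotentSubgroups A B) {x : G}
    (hx : x ∈ A ⊔ B) : conjBy C x ∈ unipotentSubgroups A B := by
  obtain ⟨y, hy, rfl⟩ := hC
  exact ⟨x * y, Subgroup.mul_mem _ hx hy, conjBy_conjBy _ _ _⟩

theorem rankOne_conjBy_right_ne_left (h : IsRankOnePair A B) {a : G} (ha : a ∈ A) :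
    conjBy B a ≠ A := by
  intro he
  rw [conjBy_eq_iff, conjBy_eq_self_of_mem (A.inv_mem ha)] at he
  exact h.ne he.symm

/-- Any ordered pair of distinct unipotent subgroups is conjugate (inside `A ⊔ B`) to `(A, B)`. -/
theorem rankOne_two_trans_aux (h : IsRankOnePair A B) {C₁ C₂ : Subgroup G}
    (h₁ : C₁ ∈ unipotentSubgroups A B) (h₂ : C₂ ∈ unipotentSubgroups A B) (hne : C₁ ≠ C₂) :
    ∃ x ∈ A ⊔ B, conjBy C₁ x = A ∧ conjBy C₂ x = B := by
  obtain ⟨g, hg, rfl⟩ := h₁
  have hg' : g⁻¹ ∈ A ⊔ B := Subgroup.inv_mem _ hg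
  have hC' : conjBy C₂ g⁻¹ ∈ unipotentSubgroups A B := rankOne_conjBy_mem_unipotent h₂ hg'
  rcases rankOne_unipotent_cases h hC' with hA | ⟨a, ha, hBa⟩
  · exfalso; apply hne
    rw [conjBy_eq_iff, inv_inv] at hA
    exact hA.symm
  · refine ⟨a⁻¹ * g⁻¹, Subgroup.mul_mem _ (Subgroup.mem_sup_left (A.inv_mem ha)) hg', ?_, ?_⟩
    · rw [conjBy_conjBy, inv_mul_cancel_right]
      exact conjBy_eq_self_of_mem (A.inv_mem ha)
    · rw [← conjBy_conjBy, hBa, conjBy_conjBy, inv_mul_cancel, conjBy_one]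

theorem rankOne_two_trans (h : IsRankOnePair A B) {C₁ C₂ D₁ D₂ : Subgroup G}
    (hC₁ : C₁ ∈ unipotentSubgroups A B) (hC₂ : C₂ ∈ unipotentSubgroups A B)
    (hD₁ : D₁ ∈ unipotentSubgroups A B) (hD₂ : D₂ ∈ unipotentSubgroups A B)
    (hC : C₁ ≠ C₂) (hD : D₁ ≠ D₂) :
    ∃ x ∈ A ⊔ B, conjBy C₁ x = D₁ ∧ conjBy C₂ x = D₂ := by
  obtain ⟨x, hx, hx₁, hx₂⟩ := rankOne_two_trans_aux h hC₁ hC₂ hC
  obtain ⟨y, hy, hy₁, hy₂⟩ := rankOne_two_trans_aux h hD₁ hD₂ hD
  refine ⟨y⁻¹ * x, Subgroup.mul_mem _ (Subgroup.inv_mem _ hy) hx, ?_, ?_⟩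
  · rw [← conjBy_conjBy, hx₁]; rw [conjBy_eq_iff] at hy₁; exact hy₁.symm
  · rw [← conjBy_conjBy, hx₂]; rw [conjBy_eq_iff] at hy₂; exact hy₂.symm

theorem rankOne_regular (h : IsRankOnePair A B) {C D : Subgroup G}
    (hC : C ∈ unipotentSubgroups A B) (hD : D ∈ unipotentSubgroups A B) (hCA : C ≠ A) (hDA : D ≠ A) :
    ∃! a : G, a ∈ A ∧ conjBy C a = D := by
  rcases rankOne_unipotent_cases h hC with hA | ⟨a₁, ha₁, rfl⟩
  · exact absurd hA hCA
  rcases rankOne_unipotent_cases h hD with hA | ⟨a₂, ha₂, rfl⟩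
  · exact absurd hA hDA
  refine ⟨a₂ * a₁⁻¹, ⟨A.mul_mem ha₂ (A.inv_mem ha₁), ?_⟩, ?_⟩
  · rw [conjBy_conjBy, inv_mul_cancel_right]
  · rintro a' ⟨ha', he⟩
    rw [conjBy_conjBy] at he
    have := rankOne_conjBy_right_injOn h (A.mul_mem ha' ha₁) ha₂ he
    rw [← this, mul_inv_cancel_right]

theorem rankOne_three (h : IsRankOnePair A B) :
    ∃ C₁ ∈ unipotentSubgroups A B, ∃ C₂ ∈ unipotentSubgroups A B, ∃ C₃ ∈ unipotentSubgroups A B,
      C₁ ≠ C₂ ∧ C₁ ≠ C₃ ∧ C₂ ≠ C₃ := by
  obtain ⟨a, ha, ha1⟩ := rankOne_exists_ne_one h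
  refine ⟨A, rankOne_left_mem_unipotent A B, B, rankOne_right_mem_unipotent h, conjBy B a,
    rankOne_conjBy_mem_unipotent (rankOne_right_mem_unipotent h) (Subgroup.mem_sup_left ha),
    h.ne, (rankOne_conjBy_right_ne_left h ha).symm, ?_⟩
  intro he
  exact ha1 (rankOne_eq_one_of_normalizes h ha (conjBy_eq_self_iff.mp he.symm))

end Pair

end Cfsg.Agent.Helper25
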