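import Mathlib
import Cfsg.Prelude.Def_RootSubgroups
import Cfsg.Agent.Helper25.RankOne

set_option autoImplicit false

/-! Abstract root subgroups: first lemmas (Timmesfeld II §2). -/

namespace Cfsg.Agent.Helper25

open Cfsg

variable {G : Type*} [Group G]

theorem conj_mem_normalizer_conjBy {E : Subgroup G} {e : G}
    (he : e ∈ Subgroup.normalizer (E : Set G)) (x : G) :
    x * e * x⁻¹ ∈ Subgroup.normalizer ((conjBy E x : Subgroup G) : Set G) := by
  rw [← conjBy_eq_self_iff, conjBy_conjBy]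
  have : x * e * x⁻¹ * x = x * e := by simp [mul_assoc]
  rw [this, ← conjBy_conjBy, conjBy_eq_self_iff.mpr he]

theorem conjBy_eq_self_of_commute {K : Subgroup G} {z : G} (hz : ∀ x ∈ K, z * x = x * z) :
    conjBy K z = K := by
  ext x
  rw [mem_conjBy_iff]
  constructor
  · intro hx
    have h1 := hz _ hx
    have : x = z⁻¹ * x * z := by
      have h2 : x * z = z⁻¹ * x * z * z := by simpa [mul_assoc] using h1
      exact mul_right_cancel h2
    rw [this]; exact hx
  · intro hx
    have : z⁻¹ * x * z = x := by rw [mul_assoc, ← hz x hx]; simp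
    rw [this]; exact hx

theorem commute_of_mem_centralizer {K : Subgroup G} {z : G}
    (hz : z ∈ Subgroup.centralizer (K : Set G)) : ∀ x ∈ K, z * x = x * z := by
  intro x hx
  exact (Subgroup.mem_centralizer_iff.mp hz x hx).symm

section Pair

variable {A B : Subgroup G}

/-- Distinct unipotent subgroups of a rank one group: no non-identity element of one normalizes
the other. -/
theorem rankOne_unipotent_inf_normalizer (h : IsRankOnePair A B) {E E' : Subgroup G}
    (hE : E ∈ unipotentSubgroups A B) (hE' : E' ∈ unipotentSubgroups A B) (hne : E ≠ E') :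
    E ⊓ Subgroup.normalizer (E' : Set G) = ⊥ := by
  obtain ⟨x, -, hx₁, hx₂⟩ := rankOne_two_trans_aux h hE hE' hne
  rw [eq_bot_iff]
  intro e he
  rw [Subgroup.mem_bot]
  have h1 : x * e * x⁻¹ ∈ A := by rw [← hx₁]; exact conj_mem_conjBy he.1
  have h2 : x * e * x⁻¹ ∈ Subgroup.normalizer (B : Set G) := by
    rw [← hx₂]; exact conj_mem_normalizer_conjBy he.2 x
  have h3 := rankOne_eq_one_of_normalizes h h1 h2
  have : e = x⁻¹ * (x * e * x⁻¹) * x := by simp [mul_assoc]
  rw [this, h3]; simp

theorem rankOne_unipotent_inf (h : IsRankOnePair A B) {E E' : Subgroup G}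
    (hE : E ∈ unipotentSubgroups A B) (hE' : E' ∈ unipotentSubgroups A B) (hne : E ≠ E') :
    E ⊓ E' = ⊥ := by
  rw [eq_bot_iff, ← rankOne_unipotent_inf_normalizer h hE hE' hne]
  exact inf_le_inf_left _ Subgroup.le_normalizer

theorem rankOne_unipotent_ne_bot (h : IsRankOnePair A B) {E : Subgroup G}
    (hE : E ∈ unipotentSubgroups A B) : E ≠ ⊥ := by
  obtain ⟨x, -, rfl⟩ := hE
  intro he
  obtain ⟨a, ha, ha1⟩ := rankOne_exists_ne_one h
  have h1 : x * a * x⁻¹ ∈ conjBy A x := conj_mem_conjBy ha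
  rw [he, Subgroup.mem_bot] at h1
  apply ha1
  have : a = x⁻¹ * (x * a * x⁻¹) * x := by simp [mul_assoc]
  rw [this, h1]; simp

/-- Distinct unipotent subgroups of a rank one group do not commute elementwise. -/
theorem rankOne_unipotent_not_commute (h : IsRankOnePair A B) {E E' : Subgroup G}
    (hE : E ∈ unipotentSubgroups A B) (hE' : E' ∈ unipotentSubgroups A B) (hne : E ≠ E')
    (hcomm : ∀ x ∈ E, ∀ y ∈ E', x * y = y * x) : False := by
  apply rankOne_unipotent_ne_bot h hE
  rw [eq_bot_iff, ← rankOne_unipotent_inf_normalizer h hE hE' hne]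
  intro x hx
  refine ⟨hx, Subgroup.mem_normalizer_iff.mpr ?_⟩
  intro y
  constructor
  · intro hy
    have : x * y * x⁻¹ = y := by rw [hcomm x hx y hy]; simp
    rw [this]; exact hy
  · intro hy
    have h1 := hcomm x hx _ hy
    have : y = x * y * x⁻¹ := by
      have h2 : x * (x * y * x⁻¹) = x * y := by rw [h1]; simp [mul_assoc]
      exact (mul_left_cancel h2).symm
    rw [this]; exact hy

end Pair

/-- Rank one pairs are preserved by conjugation. -/
theorem rankOnePair_conjBy {A B : Subgroup G} (h : IsRankOnePair A B) (x : G) :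
    IsRankOnePair (conjBy A x) (conjBy B x) := by
  have cond : ∀ {A B : Subgroup G}, RankOneCondition A B →
      RankOneCondition (conjBy A x) (conjBy B x) := by
    intro A B hc a' ha' ha'1
    rw [mem_conjBy_iff] at ha'
    have ha1 : x⁻¹ * a' * x ≠ 1 := by
      intro he
      apply ha'1
      have : a' = x * (x⁻¹ * a' * x) * x⁻¹ := by simp [mul_assoc]
      rw [this, he]; simp
    obtain ⟨b, hb, hb1, hab⟩ := hc _ ha' ha1
    refine ⟨x * b * x⁻¹, conj_mem_conjBy hb, ?_, ?_⟩
    · intro he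
      apply hb1
      have : b = x⁻¹ * (x * b * x⁻¹) * x := by simp [mul_assoc]
      rw [this, he]; simp
    · rw [conjBy_conjBy, conjBy_conjBy]
      have e1 : (x * b * x⁻¹)⁻¹ * x = x * b⁻¹ := by simp [mul_assoc]
      have e2 : a'⁻¹ * x = x * (x⁻¹ * a' * x)⁻¹ := by simp [mul_assoc]
      rw [e1, e2, ← conjBy_conjBy, ← conjBy_conjBy B, hab]
  refine ⟨fun he => h.ne (conjBy_injective x he), conjBy_isNilpotent h.nilpotent_left x,
    conjBy_isNilpotent h.nilpotent_right x, cond h.cond_left, cond h.cond_right⟩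

/-! ### Root subgroup sets -/

section Root

variable {S : Set (Subgroup G)}

theorem root_comm_of_mem (hS : IsRootSubgroupSet S) {A : Subgroup G} (hA : A ∈ S) {x y : G}
    (hx : x ∈ A) (hy : y ∈ A) : x * y = y * x := by
  have := hS.commutative A hA
  have h := mul_comm' (⟨x, hx⟩ : A) ⟨y, hy⟩
  exact congrArg Subtype.val h

/-- In the commutator case, `a B a⁻¹` commutes elementwise with `B` for `a ∈ A`. -/
theorem root_commutatorCase_conj_commute (hS : IsRootSubgroupSet S) {A B : Subgroup G}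
    (hB : B ∈ S) (hc : RootCommutatorCase S A B) {a : G} (ha : a ∈ A) :
    ∀ x ∈ conjBy B a, ∀ y ∈ B, x * y = y * x := by
  intro x hx y hy
  rw [mem_conjBy_iff] at hx
  have hf : a * (a⁻¹ * x * a) * a⁻¹ * (a⁻¹ * x * a)⁻¹ ∈ ⁅A, B⁆ :=
    Subgroup.commutator_mem_commutator ha hx
  have hxe : x = (a * (a⁻¹ * x * a) * a⁻¹ * (a⁻¹ * x * a)⁻¹) * (a⁻¹ * x * a) := by
    simp [mul_assoc]
  have h1 := hc.2.1 _ hf y (Subgroup.mem_sup_right hy)
  have h2 := root_comm_of_mem hS hB hx hy
  rw [hxe, mul_assoc, h2, ← mul_assoc, h1, mul_assoc]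

theorem root_commutator_eq_bot_iff {A B : Subgroup G} :
    ⁅A, B⁆ = ⊥ ↔ ∀ x ∈ A, ∀ y ∈ B, x * y = y * x := by
  rw [Subgroup.commutator_eq_bot_iff_le_centralizer]
  constructor
  · intro h x hx y hy
    have := Subgroup.mem_centralizer_iff.mp (h hx) y hy
    exact this.symm
  · intro h x hx
    rw [Subgroup.mem_centralizer_iff]
    intro y hy
    exact (h x hx y hy).symm

theorem root_exists_partner_of_not_isolated {A : Subgroup G}
    (hA : ¬ IsIsolatedIn (FAdj S) S A) (hAS : A ∈ S) : ∃ C ∈ S, IsRankOnePair A C := by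
  unfold IsIsolatedIn at hA
  push Not at hA
  obtain ⟨C, hC⟩ := hA hAS
  by_cases h1 : FAdj S A C
  · exact ⟨C, h1.2.1, h1.2.2⟩
  · have h2 := hC h1
    exact ⟨C, h2.1, RankOnePair_symm h2.2.2⟩

/-- A member of `S` with a rank one partner meets every other member trivially
(Timmesfeld II (2.3)). -/
theorem root_inf_eq_bot_or_eq (hS : IsRootSubgroupSet S) {A C : Subgroup G} (hC : C ∈ S)
    (hAC : IsRankOnePair A C) {B : Subgroup G} (hB : B ∈ S) : A ⊓ B = ⊥ ∨ A = B := by
  by_cases hbot : A ⊓ B = ⊥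
  · exact Or.inl hbot
  right
  obtain ⟨a, ha, ha1⟩ : ∃ a ∈ A ⊓ B, a ≠ 1 := by
    by_contra hcon
    push Not at hcon
    exact hbot ((Subgroup.eq_bot_iff_forall _).mpr hcon)
  have hCmem : C ∈ unipotentSubgroups A C := rankOne_right_mem_unipotent hAC
  rcases hS.pair B hB C hC with h1 | h1 | h1
  · -- B and C commute
    exfalso
    apply ha1
    apply rankOne_eq_one_of_normalizes hAC ha.1
    rw [Subgroup.commutator_eq_bot_iff_le_centralizer] at h1
    exact Subgroup.centralizer_le_normalizer _ (h1 ha.2)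
  · -- (B, C) a rank one pair
    obtain ⟨c', hc', -, hBc⟩ := h1.cond_left a ha.2 ha1
    obtain ⟨c, hc, -, hAc⟩ := hAC.cond_left a ha.1 ha1
    have hBA : B = conjBy A (c' * c⁻¹) := by
      rw [← conjBy_conjBy, hAc, ← hBc, conjBy_conjBy, mul_inv_cancel, conjBy_one]
    have hmem : conjBy A (c' * c⁻¹) ∈ unipotentSubgroups A C :=
      ⟨c' * c⁻¹, Subgroup.mul_mem _ (Subgroup.mem_sup_right hc')
        (Subgroup.inv_mem _ (Subgroup.mem_sup_right hc)), rfl⟩
    by_contra hne
    have hne' : A ≠ conjBy A (c' * c⁻¹) := by rw [← hBA]; exact hne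
    have := rankOne_unipotent_inf hAC (rankOne_left_mem_unipotent A C) hmem hne'
    rw [← hBA] at this
    exact hbot this
  · -- commutator case
    exfalso
    have hcomm := root_commutatorCase_conj_commute hS hC h1 ha.2
    have hmem : conjBy C a ∈ unipotentSubgroups A C :=
      rankOne_conjBy_mem_unipotent hCmem (Subgroup.mem_sup_left ha.1)
    have hne : conjBy C a ≠ C := by
      intro he
      exact ha1 (rankOne_eq_one_of_normalizes hAC ha.1 (conjBy_eq_self_iff.mp he))
    exact rankOne_unipotent_not_commute hAC hmem hCmem hne hcomm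

/-- Timmesfeld II (2.2): if `z ≠ 1` centralizes the rank one group `⟨A, B⟩` (`A, B ∈ S`), then no
`z a` with `a ∈ A#` is a root element. -/
theorem root_central_mul_not_root (hS : IsRootSubgroupSet S) {A B : Subgroup G}
    (hB : B ∈ S) (hAB : IsRankOnePair A B) {z : G}
    (hz : z ∈ Subgroup.centralizer ((A ⊔ B : Subgroup G) : Set G)) (hz1 : z ≠ 1)
    {a : G} (ha : a ∈ A) (ha1 : a ≠ 1) : z * a ∉ rootElements S := by
  rintro ⟨-, E, hE, hzaE⟩
  have hzc : ∀ x ∈ A ⊔ B, z * x = x * z := commute_of_mem_centralizer hz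
  have hzK : ∀ K : Subgroup G, K ≤ A ⊔ B → conjBy K z = K := fun K hK =>
    conjBy_eq_self_of_commute (fun x hx => hzc x (hK hx))
  have hzinvK : ∀ K : Subgroup G, K ≤ A ⊔ B → conjBy K z⁻¹ = K := by
    intro K hK
    have := hzK K hK
    rw [conjBy_eq_iff] at this
    exact this.symm
  have hBmem : B ∈ unipotentSubgroups A B := rankOne_right_mem_unipotent hAB
  have hAmem : A ∈ unipotentSubgroups A B := rankOne_left_mem_unipotent A B
  have hza : z * a = a * z := hzc a (Subgroup.mem_sup_left ha)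
  have hBa_mem : conjBy B a ∈ unipotentSubgroups A B :=
    rankOne_conjBy_mem_unipotent hBmem (Subgroup.mem_sup_left ha)
  have hBa_ne : conjBy B a ≠ B := by
    intro he
    exact ha1 (rankOne_eq_one_of_normalizes hAB ha (conjBy_eq_self_iff.mp he))
  rcases hS.pair E hE B hB with h1 | h1 | h1
  · -- E and B commute
    apply ha1
    apply rankOne_eq_one_of_normalizes hAB ha
    apply Subgroup.centralizer_le_normalizer
    rw [Subgroup.mem_centralizer_iff]
    intro y hy
    have h2 := (root_commutator_eq_bot_iff.mp h1) _ hzaE y hy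
    have h3 := hzc y (Subgroup.mem_sup_right hy)
    -- z a y = y z a = z y a
    have h4 : z * (a * y) = z * (y * a) := by
      rw [← mul_assoc, h2, ← mul_assoc, ← h3, mul_assoc]
    exact (mul_left_cancel h4).symm
  · -- (E, B) a rank one pair
    have hza1 : z * a ≠ 1 := by
      intro he
      -- a = z⁻¹ centralizes B
      apply ha1
      apply rankOne_eq_one_of_normalizes hAB ha
      have : a = z⁻¹ := by rw [eq_inv_iff_mul_eq_one, ← hza]; exact he
      rw [this]
      exact Subgroup.inv_mem _ (Subgroup.centralizer_le_normalizer _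
        (Subgroup.centralizer_le (by exact_mod_cast (le_sup_right : B ≤ A ⊔ B)) hz))
    obtain ⟨b', hb', -, hEb⟩ := h1.cond_left (z * a) hzaE hza1
    obtain ⟨b, hb, -, hAb⟩ := hAB.cond_left a ha ha1
    have h5 : conjBy B (z * a)⁻¹ = conjBy B a⁻¹ := by
      rw [mul_inv_rev, ← conjBy_conjBy, hzinvK B le_sup_right]
    rw [h5, ← hAb] at hEb
    have hEA : E = conjBy A (b' * b⁻¹) := by
      rw [← conjBy_conjBy, ← hEb, conjBy_conjBy, mul_inv_cancel, conjBy_one]
    have hb''B : b' * b⁻¹ ∈ B := B.mul_mem hb' (B.inv_mem hb)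
    have hb'' : b' * b⁻¹ ∈ A ⊔ B := Subgroup.mem_sup_right hb''B
    have hb''inv : (b' * b⁻¹)⁻¹ ∈ A ⊔ B := Subgroup.inv_mem _ hb''
    -- a'' := z * a' ∈ A with a' := b''⁻¹ a b''
    have ha'' : z * ((b' * b⁻¹)⁻¹ * a * (b' * b⁻¹)) ∈ A := by
      rw [hEA, mem_conjBy_iff] at hzaE
      have : (b' * b⁻¹)⁻¹ * (z * a) * (b' * b⁻¹) = z * ((b' * b⁻¹)⁻¹ * a * (b' * b⁻¹)) := by
        rw [← mul_assoc (b' * b⁻¹)⁻¹ z a, ← hzc _ hb''inv]; simp [mul_assoc]
      rw [← this]; exact hzaE
    have ha'mem : (b' * b⁻¹)⁻¹ * a * (b' * b⁻¹) ∈ conjBy A (b' * b⁻¹)⁻¹ := by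
      have := conj_mem_conjBy (A := A) (g := (b' * b⁻¹)⁻¹) ha
      rwa [inv_inv] at this
    have ha'1 : (b' * b⁻¹)⁻¹ * a * (b' * b⁻¹) ≠ 1 := by
      intro he
      apply ha1
      have : a = (b' * b⁻¹) * ((b' * b⁻¹)⁻¹ * a * (b' * b⁻¹)) * (b' * b⁻¹)⁻¹ := by
        simp [mul_assoc]
      rw [this, he]; simp
    have hA'mem : conjBy A (b' * b⁻¹)⁻¹ ∈ unipotentSubgroups A B := ⟨_, hb''inv, rfl⟩
    have hA'le : conjBy A (b' * b⁻¹)⁻¹ ≤ A ⊔ B := conjBy_le_of_mem le_sup_left hb''inv
    by_cases hA' : conjBy A (b' * b⁻¹)⁻¹ = A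
    · -- then z ∈ A
      rw [hA'] at ha'mem
      have hzA : z ∈ A := by
        have := A.mul_mem ha'' (A.inv_mem ha'mem)
        simpa [mul_assoc] using this
      apply hz1
      apply rankOne_eq_one_of_normalizes hAB hzA
      exact Subgroup.centralizer_le_normalizer _
        (Subgroup.centralizer_le (by exact_mod_cast (le_sup_right : B ≤ A ⊔ B)) hz)
    · -- a'' normalizes A'
      have hnorm : z * ((b' * b⁻¹)⁻¹ * a * (b' * b⁻¹)) ∈
          Subgroup.normalizer ((conjBy A (b' * b⁻¹)⁻¹ : Subgroup G) : Set G) := by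
        rw [← conjBy_eq_self_iff, ← conjBy_conjBy, conjBy_eq_self_of_mem ha'mem, hzK _ hA'le]
      have h6 : z * ((b' * b⁻¹)⁻¹ * a * (b' * b⁻¹)) = 1 := by
        have : z * ((b' * b⁻¹)⁻¹ * a * (b' * b⁻¹)) ∈
            A ⊓ Subgroup.normalizer ((conjBy A (b' * b⁻¹)⁻¹ : Subgroup G) : Set G) := ⟨ha'', hnorm⟩
        rw [rankOne_unipotent_inf_normalizer hAB hAmem hA'mem (Ne.symm hA')] at this
        exact this
      -- a' = z⁻¹ ∈ A' normalizes A
      have h7 : (b' * b⁻¹)⁻¹ * a * (b' * b⁻¹) = z⁻¹ := by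
        rw [eq_inv_iff_mul_eq_one, ← h6]
        have := hzc _ (hA'le ha'mem)
        exact this.symm
      apply ha'1
      have : (b' * b⁻¹)⁻¹ * a * (b' * b⁻¹) ∈
          conjBy A (b' * b⁻¹)⁻¹ ⊓ Subgroup.normalizer (A : Set G) := by
        refine ⟨ha'mem, ?_⟩
        rw [h7]
        exact Subgroup.inv_mem _ (Subgroup.centralizer_le_normalizer _
          (Subgroup.centralizer_le (by exact_mod_cast (le_sup_left : A ≤ A ⊔ B)) hz))
      rw [rankOne_unipotent_inf_normalizer hAB hA'mem hAmem hA'] at this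
      exact this
  · -- commutator case
    have hcomm := root_commutatorCase_conj_commute hS hB h1 hzaE
    have h5 : conjBy B (z * a) = conjBy B a := by
      rw [hza, ← conjBy_conjBy, hzK B le_sup_right]
    rw [h5] at hcomm
    exact rankOne_unipotent_not_commute hAB hBa_mem hBmem hBa_ne hcomm

/-- Timmesfeld II (2.3)': if every member of `S` has a rank one partner, `Z₂(G) = Z(G)`. -/
theorem root_upperCentralSeries_two (hS : IsRootSubgroupSet S)
    (hF : ∀ A ∈ S, ∃ B ∈ S, IsRankOnePair A B) :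
    Subgroup.upperCentralSeries G 2 = Subgroup.center G := by
  apply le_antisymm
  · intro z hz
    have hcomm : ∀ A ∈ S, ∀ a ∈ A, z * a = a * z := by
      intro A hA a ha
      obtain ⟨B, hB, hAB⟩ := hF A hA
      by_cases ha1 : a = 1
      · rw [ha1]; simp
      have hζ : z * a * z⁻¹ * a⁻¹ ∈ Subgroup.center G := by
        have := (Subgroup.mem_upperCentralSeries_succ_iff (G := G) (n := 1)).mp hz a
        rw [Subgroup.upperCentralSeries_one] at this
        exact this
      by_cases hζ1 : z * a * z⁻¹ * a⁻¹ = 1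
      · have : z * a * z⁻¹ * a⁻¹ * a * z = a * z := by rw [hζ1, one_mul]
        rw [← this]; simp [mul_assoc]
      · exfalso
        have hζc : z * a * z⁻¹ * a⁻¹ ∈ Subgroup.centralizer ((A ⊔ B : Subgroup G) : Set G) :=
          Subgroup.center_le_centralizer _ hζ
        apply root_central_mul_not_root hS hB hAB hζc hζ1 ha ha1
        refine ⟨?_, conjBy A z, hS.conj_mem A hA z, ?_⟩
        · intro he
          apply ha1
          have h2 : z * a * z⁻¹ = 1 := by simpa [mul_assoc] using he
          have h3 : a = z⁻¹ * (z * a * z⁻¹) * z := by simp [mul_assoc]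
          rw [h3, h2]; simp
        · have : z * a * z⁻¹ * a⁻¹ * a = z * a * z⁻¹ := by simp [mul_assoc]
          rw [this]; exact conj_mem_conjBy ha
    have hle : ∀ A ∈ S, A ≤ Subgroup.centralizer ({z} : Set G) := by
      intro A hA a ha
      rw [Subgroup.mem_centralizer_iff]
      intro x hx
      rw [Set.mem_singleton_iff] at hx
      rw [hx]; exact hcomm A hA a ha
    have htop : (⊤ : Subgroup G) ≤ Subgroup.centralizer ({z} : Set G) := by
      rw [← hS.generates]
      exact iSup₂_le hle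
    rw [Subgroup.mem_center_iff]
    intro g
    have := htop (Subgroup.mem_top g)
    rw [Subgroup.mem_centralizer_iff] at this
    exact (this z rfl).symm
  · rw [← Subgroup.upperCentralSeries_one]
    exact Subgroup.upperCentralSeries_mono G one_le_two

/-- Timmesfeld II (2.1), key step: a member `A` of `S` with a rank one partner `B` in `S`, both
inside the rank one group `⟨C, D⟩` (`C, D ∈ S`), is a unipotent subgroup of `⟨C, D⟩`. -/
theorem root_mem_unipotent_of_le (hS : IsRootSubgroupSet S) {A B C D : Subgroup G}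
    (hA : A ∈ S) (hAB : IsRankOnePair A B) (hC : C ∈ S) (hD : D ∈ S)
    (hCD : IsRankOnePair C D) (hAle : A ≤ C ⊔ D) (hBle : B ≤ C ⊔ D) :
    A ∈ unipotentSubgroups C D := by
  by_contra hAΩ
  -- A commutes with every unipotent subgroup of ⟨C, D⟩
  have hcomm : ∀ E ∈ unipotentSubgroups C D, ∀ a ∈ A, ∀ e ∈ E, a * e = e * a := by
    intro E hE
    have hES : E ∈ S := by
      obtain ⟨x, -, rfl⟩ := hE
      exact hS.conj_mem C hC x
    have hEle : E ≤ C ⊔ D := by
      obtain ⟨x, hx, rfl⟩ := hE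
      exact conjBy_le_of_mem le_sup_left hx
    rcases hS.pair A hA E hES with h1 | h1 | h1
    · exact root_commutator_eq_bot_iff.mp h1
    · exfalso
      obtain ⟨a, ha, ha1⟩ := rankOne_exists_ne_one h1
      obtain ⟨e, he, -, hae⟩ := h1.cond_left a ha ha1
      apply hAΩ
      have h2 : conjBy E a⁻¹ ∈ unipotentSubgroups C D :=
        rankOne_conjBy_mem_unipotent hE (Subgroup.inv_mem _ (hAle ha))
      rw [← hae] at h2
      have h3 := rankOne_conjBy_mem_unipotent h2 (hEle he)
      rwa [conjBy_conjBy, mul_inv_cancel, conjBy_one] at h3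
    · exfalso
      -- A normalizes E
      have hnorm : ∀ a ∈ A, conjBy E a = E := by
        intro a ha
        by_contra hne
        exact rankOne_unipotent_not_commute hCD
          (rankOne_conjBy_mem_unipotent hE (hAle ha)) hE hne
          (root_commutatorCase_conj_commute hS hES h1 ha)
      have hFle : ⁅A, E⁆ ≤ E := by
        rw [Subgroup.commutator_le]
        intro a ha e he
        rw [commutatorElement_def]
        refine E.mul_mem ?_ (E.inv_mem he)
        have := conj_mem_conjBy (A := E) (g := a) he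
        rwa [hnorm a ha] at this
      -- E has a rank one partner in S
      obtain ⟨x, -, hx⟩ := hE
      have hpair : IsRankOnePair E (conjBy D x) := by
        rw [hx]; exact rankOnePair_conjBy hCD x
      rcases root_inf_eq_bot_or_eq hS (hS.conj_mem D hD x) hpair h1.1 with h2 | h2
      · apply hS.ne_bot _ h1.1
        rw [← h2]; exact (inf_eq_right.mpr hFle).symm
      · apply hS.ne_bot _ h1.1
        rw [root_commutator_eq_bot_iff]
        intro a ha e he
        have he' : e ∈ ⁅A, E⁆ := by rw [← h2]; exact he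
        exact (h1.2.1 e he' a (Subgroup.mem_sup_left ha)).symm
  -- hence A centralizes B, a contradiction
  obtain ⟨a, ha, ha1⟩ := rankOne_exists_ne_one hAB
  apply ha1
  apply rankOne_eq_one_of_normalizes hAB ha
  apply Subgroup.centralizer_le_normalizer
  have hC' : C ≤ Subgroup.centralizer ({a} : Set G) := by
    intro c hc
    rw [Subgroup.mem_centralizer_iff]
    intro y hy
    rw [Set.mem_singleton_iff] at hy
    rw [hy]; exact hcomm C (rankOne_left_mem_unipotent C D) a ha c hc
  have hD' : D ≤ Subgroup.centralizer ({a} : Set G) := by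
    intro c hc
    rw [Subgroup.mem_centralizer_iff]
    intro y hy
    rw [Set.mem_singleton_iff] at hy
    rw [hy]; exact hcomm D (rankOne_right_mem_unipotent hCD) a ha c hc
  rw [Subgroup.mem_centralizer_iff]
  intro b hb
  have := (sup_le hC' hD') (hBle hb)
  rw [Subgroup.mem_centralizer_iff] at this
  exact (this a rfl).symm

/-- Timmesfeld II (2.1). -/
theorem root_rankOne_le (hS : IsRootSubgroupSet S) {A B C D : Subgroup G}
    (hA : A ∈ S) (hB : B ∈ S) (hAB : IsRankOnePair A B) (hC : C ∈ S) (hD : D ∈ S)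
    (hCD : IsRankOnePair C D) (hle : A ⊔ B ≤ C ⊔ D) :
    A ⊔ B = C ⊔ D ∧ C ∈ unipotentSubgroups A B ∧ D ∈ unipotentSubgroups A B := by
  have hAle : A ≤ C ⊔ D := le_sup_left.trans hle
  have hBle : B ≤ C ⊔ D := le_sup_right.trans hle
  have hAΩ := root_mem_unipotent_of_le hS hA hAB hC hD hCD hAle hBle
  have hBΩ := root_mem_unipotent_of_le hS hB (RankOnePair_symm hAB) hC hD hCD hBle hAle
  obtain ⟨x, hx, hx₁, hx₂⟩ := rankOne_two_trans hCD (rankOne_left_mem_unipotent C D)
    (rankOne_right_mem_unipotent hCD) hAΩ hBΩ hCD.ne hAB.ne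
  have heq : A ⊔ B = C ⊔ D := by
    rw [← hx₁, ← hx₂]
    have : conjBy C x ⊔ conjBy D x = conjBy (C ⊔ D) x := (Subgroup.map_sup C D _).symm
    rw [this]
    exact conjBy_eq_self_of_mem hx
  have hxinv : x⁻¹ ∈ A ⊔ B := by rw [heq]; exact Subgroup.inv_mem _ hx
  refine ⟨heq, ⟨x⁻¹, hxinv, ?_⟩, ?_⟩
  · rw [← hx₁, conjBy_conjBy, inv_mul_cancel, conjBy_one]
  · have h1 : D = conjBy B x⁻¹ := by rw [← hx₂, conjBy_conjBy, inv_mul_cancel, conjBy_one]
    rw [h1]
    exact rankOne_conjBy_mem_unipotent (rankOne_right_mem_unipotent hAB) hxinv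

/-- Timmesfeld II (2.?): degenerate case, `a ∈ A#`, `b ∈ B#` commuting with `ab ≠ 1`: a member `C`
of `S` centralizing `ab` centralizes `a`. -/
theorem root_centralizes_left_of_mul (hS : IsRootSubgroupSet S) (hdeg : IsDegenerateRootSet S)
    {A B C : Subgroup G} (hA : A ∈ S) (hB : B ∈ S) (hC : C ∈ S) {a b : G} (ha : a ∈ A)
    (ha1 : a ≠ 1) (hb : b ∈ B) (hb1 : b ≠ 1) (hab : a * b = b * a) (hab1 : a * b ≠ 1)
    (hCab : ∀ c ∈ C, c * (a * b) = (a * b) * c) : ∀ c ∈ C, c * a = a * c := by
  -- Step 0: A and B commute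
  have hAB : ∀ x ∈ A, ∀ y ∈ B, x * y = y * x := by
    rcases hS.pair A hA B hB with h1 | h1 | h1
    · exact root_commutator_eq_bot_iff.mp h1
    · exfalso
      have hBmem := rankOne_right_mem_unipotent h1
      have hBa : conjBy B a ∈ unipotentSubgroups A B :=
        rankOne_conjBy_mem_unipotent hBmem (Subgroup.mem_sup_left ha)
      have hne : conjBy B a ≠ B := fun he =>
        ha1 (rankOne_eq_one_of_normalizes h1 ha (conjBy_eq_self_iff.mp he))
      have hbmem : b ∈ conjBy B a ⊓ B := by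
        refine ⟨?_, hb⟩
        have : b = a * b * a⁻¹ := by rw [hab]; simp
        rw [this]; exact conj_mem_conjBy hb
      rw [rankOne_unipotent_inf h1 hBa hBmem hne] at hbmem
      exact hb1 hbmem
    · exact absurd h1 (hdeg A hA B hB)
  by_contra hcon
  push Not at hcon
  obtain ⟨c₀, hc₀, hc₀a⟩ := hcon
  have hAC : IsRankOnePair A C := by
    rcases hS.pair A hA C hC with h1 | h1 | h1
    · exact absurd ((root_commutator_eq_bot_iff.mp h1) a ha c₀ hc₀).symm hc₀a
    · exact h1
    · exact absurd h1 (hdeg A hA C hC)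
  -- u = ab centralizes C
  have huC : conjBy C (a * b) = C :=
    conjBy_eq_self_of_commute (fun c hc => (hCab c hc).symm)
  have hCb : conjBy C b = conjBy C a⁻¹ := by
    rw [← conjBy_conjBy, conjBy_eq_iff] at huC
    exact huC
  have hCa_ne : conjBy C a⁻¹ ≠ C := by
    intro he
    have := rankOne_eq_one_of_normalizes hAC (A.inv_mem ha) (conjBy_eq_self_iff.mp he)
    exact ha1 (inv_eq_one.mp this)
  have hBC : IsRankOnePair B C := by
    rcases hS.pair B hB C hC with h1 | h1 | h1
    · exfalso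
      apply hCa_ne
      rw [← hCb]
      exact conjBy_eq_self_of_commute (fun c hc => (root_commutator_eq_bot_iff.mp h1) b hb c hc)
    · exact h1
    · exact absurd h1 (hdeg B hB C hC)
  obtain ⟨c, hc, -, hAc⟩ := hAC.cond_left a ha ha1
  have hb1' : b⁻¹ ≠ 1 := by simpa using hb1
  obtain ⟨c', hc', -, hBc'⟩ := hBC.cond_left b⁻¹ (B.inv_mem hb) hb1'
  rw [inv_inv, hCb, ← hAc] at hBc'
  have hAeq : A = conjBy B (c * c'⁻¹) := by
    rw [← conjBy_conjBy, hBc', conjBy_conjBy, mul_inv_cancel, conjBy_one]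
  by_cases hBB : conjBy B (c * c'⁻¹) = B
  · -- A = B, so ab ∈ A centralizes C
    rw [hBB] at hAeq
    apply hab1
    apply rankOne_eq_one_of_normalizes hAC (A.mul_mem ha (hAeq ▸ hb))
    exact conjBy_eq_self_iff.mp huC
  · have hmem : conjBy B (c * c'⁻¹) ∈ unipotentSubgroups B C :=
      ⟨c * c'⁻¹, Subgroup.mul_mem _ (Subgroup.mem_sup_right hc)
        (Subgroup.inv_mem _ (Subgroup.mem_sup_right hc')), rfl⟩
    refine rankOne_unipotent_not_commute hBC hmem (rankOne_left_mem_unipotent B C) hBB ?_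
    rw [← hAeq]
    exact hAB

end Root

end Cfsg.Agent.Helper25
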