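import Mathlib
import Cfsg.Prelude.Def_RootSubgroups
import Cfsg.Agent.Helper25.RankOne

set_option autoImplicit false

/-! `SL₂(k)` is a special rank one group with abelian unipotent subgroups (Timmesfeld I (1.5)). -/

namespace Cfsg.Agent.Helper25

open Cfsg Matrix

variable {k : Type*} [Field k]

local notation "SL2" => Matrix.SpecialLinearGroup (Fin 2) k

theorem sl2_mul_apply (x y : SL2) (i j : Fin 2) :
    (x * y : SL2) i j = x i 0 * y 0 j + x i 1 * y 1 j := by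
  rw [Matrix.SpecialLinearGroup.coe_mul, Matrix.mul_apply, Fin.sum_univ_two]

theorem sl2_inv_00 (x : SL2) : (x⁻¹ : SL2) 0 0 = x 1 1 := by
  rw [Matrix.SpecialLinearGroup.coe_inv, Matrix.adjugate_fin_two]; simp

theorem sl2_inv_01 (x : SL2) : (x⁻¹ : SL2) 0 1 = - x 0 1 := by
  rw [Matrix.SpecialLinearGroup.coe_inv, Matrix.adjugate_fin_two]; simp

theorem sl2_inv_10 (x : SL2) : (x⁻¹ : SL2) 1 0 = - x 1 0 := by
  rw [Matrix.SpecialLinearGroup.coe_inv, Matrix.adjugate_fin_two]; simp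

theorem sl2_inv_11 (x : SL2) : (x⁻¹ : SL2) 1 1 = x 0 0 := by
  rw [Matrix.SpecialLinearGroup.coe_inv, Matrix.adjugate_fin_two]; simp

theorem sl2_det (x : SL2) : x 0 0 * x 1 1 - x 0 1 * x 1 0 = 1 := by
  have := x.2
  rw [Matrix.det_fin_two] at this
  exact this

theorem sl2_ext {x y : SL2} (h00 : x 0 0 = y 0 0) (h01 : x 0 1 = y 0 1) (h10 : x 1 0 = y 1 0)
    (h11 : x 1 1 = y 1 1) : x = y := by
  apply Matrix.SpecialLinearGroup.ext
  intro i j
  fin_cases i <;> fin_cases j <;> assumption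

/-- The lower unitriangular matrix with entry `t`. -/
def sl2Lower (t : k) : SL2 := ⟨!![1, 0; t, 1], by simp [Matrix.det_fin_two]⟩

/-- The upper unitriangular matrix with entry `s`. -/
def sl2Upper (s : k) : SL2 := ⟨!![1, s; 0, 1], by simp [Matrix.det_fin_two]⟩

@[simp] theorem sl2Lower_00 (t : k) : (sl2Lower t) 0 0 = 1 := rfl
@[simp] theorem sl2Lower_01 (t : k) : (sl2Lower t) 0 1 = 0 := rfl
@[simp] theorem sl2Lower_10 (t : k) : (sl2Lower t) 1 0 = t := rfl
@[simp] theorem sl2Lower_11 (t : k) : (sl2Lower t) 1 1 = 1 := rfl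
@[simp] theorem sl2Upper_00 (t : k) : (sl2Upper t) 0 0 = 1 := rfl
@[simp] theorem sl2Upper_01 (t : k) : (sl2Upper t) 0 1 = t := rfl
@[simp] theorem sl2Upper_10 (t : k) : (sl2Upper t) 1 0 = 0 := rfl
@[simp] theorem sl2Upper_11 (t : k) : (sl2Upper t) 1 1 = 1 := rfl

theorem mem_lowerUnipotentSL2 {g : SL2} :
    g ∈ lowerUnipotentSL2 k ↔ g 0 1 = 0 ∧ g 0 0 = 1 ∧ g 1 1 = 1 := by
  constructor
  · intro hg
    unfold lowerUnipotentSL2 at hg
    induction hg using Subgroup.closure_induction with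
    | mem x hx => exact hx
    | one => simp
    | mul x y _ _ hx hy =>
      obtain ⟨hx1, hx2, hx3⟩ := hx
      obtain ⟨hy1, hy2, hy3⟩ := hy
      refine ⟨?_, ?_, ?_⟩ <;> rw [sl2_mul_apply] <;> simp [hx1, hx2, hx3, hy1, hy2, hy3]
    | inv x _ hx =>
      obtain ⟨hx1, hx2, hx3⟩ := hx
      refine ⟨?_, ?_, ?_⟩
      · rw [sl2_inv_01, hx1, neg_zero]
      · rw [sl2_inv_00, hx3]
      · rw [sl2_inv_11, hx2]
  · intro hg
    exact Subgroup.subset_closure hg

theorem mem_upperUnipotentSL2 {g : SL2} :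
    g ∈ upperUnipotentSL2 k ↔ g 1 0 = 0 ∧ g 0 0 = 1 ∧ g 1 1 = 1 := by
  constructor
  · intro hg
    unfold upperUnipotentSL2 at hg
    induction hg using Subgroup.closure_induction with
    | mem x hx => exact hx
    | one => simp
    | mul x y _ _ hx hy =>
      obtain ⟨hx1, hx2, hx3⟩ := hx
      obtain ⟨hy1, hy2, hy3⟩ := hy
      refine ⟨?_, ?_, ?_⟩ <;> rw [sl2_mul_apply] <;> simp [hx1, hx2, hx3, hy1, hy2, hy3]
    | inv x _ hx =>
      obtain ⟨hx1, hx2, hx3⟩ := hx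
      refine ⟨?_, ?_, ?_⟩
      · rw [sl2_inv_10, hx1, neg_zero]
      · rw [sl2_inv_00, hx3]
      · rw [sl2_inv_11, hx2]
  · intro hg
    exact Subgroup.subset_closure hg

theorem sl2Lower_mem (t : k) : sl2Lower t ∈ lowerUnipotentSL2 k :=
  mem_lowerUnipotentSL2.mpr ⟨rfl, rfl, rfl⟩

theorem sl2Upper_mem (t : k) : sl2Upper t ∈ upperUnipotentSL2 k :=
  mem_upperUnipotentSL2.mpr ⟨rfl, rfl, rfl⟩

theorem eq_sl2Lower_of_mem {g : SL2} (hg : g ∈ lowerUnipotentSL2 k) : g = sl2Lower (g 1 0) := by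
  obtain ⟨h1, h2, h3⟩ := mem_lowerUnipotentSL2.mp hg
  exact sl2_ext (by simp [h2]) (by simp [h1]) (by simp) (by simp [h3])

theorem eq_sl2Upper_of_mem {g : SL2} (hg : g ∈ upperUnipotentSL2 k) : g = sl2Upper (g 0 1) := by
  obtain ⟨h1, h2, h3⟩ := mem_upperUnipotentSL2.mp hg
  exact sl2_ext (by simp [h2]) (by simp) (by simp [h1]) (by simp [h3])

theorem sl2_conj_cond (t : k) (ht : t ≠ 0) :
    conjBy (lowerUnipotentSL2 k) (sl2Upper t⁻¹)⁻¹ = conjBy (upperUnipotentSL2 k) (sl2Lower t)⁻¹ := by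
  ext x
  rw [mem_conjBy_iff, mem_conjBy_iff, inv_inv, inv_inv, mem_lowerUnipotentSL2, mem_upperUnipotentSL2]
  simp only [sl2_mul_apply, sl2_inv_00, sl2_inv_01, sl2_inv_10, sl2_inv_11, sl2Lower_00,
    sl2Lower_01, sl2Lower_10, sl2Lower_11, sl2Upper_00, sl2Upper_01, sl2Upper_10, sl2Upper_11]
  have hs : t⁻¹ * t = 1 := inv_mul_cancel₀ ht
  generalize (x : Matrix (Fin 2) (Fin 2) k) 0 0 = a at *
  generalize (x : Matrix (Fin 2) (Fin 2) k) 0 1 = b at *
  generalize (x : Matrix (Fin 2) (Fin 2) k) 1 0 = c at *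
  generalize (x : Matrix (Fin 2) (Fin 2) k) 1 1 = d at *
  generalize t⁻¹ = s at *
  constructor
  · rintro ⟨h1, h2, h3⟩
    refine ⟨?_, ?_, ?_⟩
    · linear_combination (-t^2) * h1 - (t * a - t * d + c * (t * s + 1)) * hs
    · linear_combination (-t) * h1 + h3 - (a + s * c - d) * hs
    · linear_combination t * h1 + h2 + (a + s * c - d) * hs
  · rintro ⟨g1, g2, g3⟩
    refine ⟨?_, ?_, ?_⟩
    · linear_combination (-s^2) * g1 + (s * a - b * (s * t + 1) - s * d) * hs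
    · linear_combination s * g1 + g3 + (-a + t * b + d) * hs
    · linear_combination (-s) * g1 + g2 + (a - t * b - d) * hs

theorem sl2Lower_eq_one_iff {t : k} : sl2Lower t = 1 ↔ t = 0 := by
  constructor
  · intro h
    have : (sl2Lower t) 1 0 = (1 : SL2) 1 0 := by rw [h]
    simpa using this
  · rintro rfl
    exact sl2_ext (by simp) (by simp) (by simp) (by simp)

theorem sl2Upper_eq_one_iff {t : k} : sl2Upper t = 1 ↔ t = 0 := by
  constructor
  · intro h
    have : (sl2Upper t) 0 1 = (1 : SL2) 0 1 := by rw [h]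
    simpa using this
  · rintro rfl
    exact sl2_ext (by simp) (by simp) (by simp) (by simp)

theorem sl2_lower_ne_upper : lowerUnipotentSL2 k ≠ upperUnipotentSL2 k := by
  intro h
  have h1 : sl2Lower (1 : k) ∈ upperUnipotentSL2 k := by rw [← h]; exact sl2Lower_mem 1
  have := (mem_upperUnipotentSL2.mp h1).1
  simp at this

theorem sl2_lower_comm (x y : SL2) (hx : x ∈ lowerUnipotentSL2 k) (hy : y ∈ lowerUnipotentSL2 k) :
    x * y = y * x := by
  obtain ⟨hx1, hx2, hx3⟩ := mem_lowerUnipotentSL2.mp hx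
  obtain ⟨hy1, hy2, hy3⟩ := mem_lowerUnipotentSL2.mp hy
  apply sl2_ext <;> rw [sl2_mul_apply, sl2_mul_apply] <;>
    simp [hx1, hx2, hx3, hy1, hy2, hy3, add_comm]

theorem sl2_upper_comm (x y : SL2) (hx : x ∈ upperUnipotentSL2 k) (hy : y ∈ upperUnipotentSL2 k) :
    x * y = y * x := by
  obtain ⟨hx1, hx2, hx3⟩ := mem_upperUnipotentSL2.mp hx
  obtain ⟨hy1, hy2, hy3⟩ := mem_upperUnipotentSL2.mp hy
  apply sl2_ext <;> rw [sl2_mul_apply, sl2_mul_apply] <;>
    simp [hx1, hx2, hx3, hy1, hy2, hy3, add_comm]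

theorem sl2_lower_isMulCommutative : IsMulCommutative (lowerUnipotentSL2 k) :=
  ⟨⟨fun x y => Subtype.ext (sl2_lower_comm x.1 y.1 x.2 y.2)⟩⟩

theorem sl2_upper_isMulCommutative : IsMulCommutative (upperUnipotentSL2 k) :=
  ⟨⟨fun x y => Subtype.ext (sl2_upper_comm x.1 y.1 x.2 y.2)⟩⟩

theorem sl2_isRankOnePair : IsRankOnePair (lowerUnipotentSL2 k) (upperUnipotentSL2 k) := by
  refine ⟨sl2_lower_ne_upper, ?_, ?_, ?_, ?_⟩
  · have := sl2_lower_isMulCommutative (k := k)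
    let _ : CommGroup (lowerUnipotentSL2 k) := { mul_comm := fun x y => mul_comm' x y }
    exact CommGroup.isNilpotent
  · have := sl2_upper_isMulCommutative (k := k)
    let _ : CommGroup (upperUnipotentSL2 k) := { mul_comm := fun x y => mul_comm' x y }
    exact CommGroup.isNilpotent
  · intro a ha ha1
    rw [eq_sl2Lower_of_mem ha] at ha1 ⊢
    have ht : (a : Matrix (Fin 2) (Fin 2) k) 1 0 ≠ 0 := fun h => ha1 (sl2Lower_eq_one_iff.mpr h)
    refine ⟨sl2Upper ((a : Matrix (Fin 2) (Fin 2) k) 1 0)⁻¹, sl2Upper_mem _, ?_, sl2_conj_cond _ ht⟩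
    intro h
    exact inv_ne_zero ht (sl2Upper_eq_one_iff.mp h)
  · intro b hb hb1
    rw [eq_sl2Upper_of_mem hb] at hb1 ⊢
    have ht : (b : Matrix (Fin 2) (Fin 2) k) 0 1 ≠ 0 := fun h => hb1 (sl2Upper_eq_one_iff.mpr h)
    refine ⟨sl2Lower ((b : Matrix (Fin 2) (Fin 2) k) 0 1)⁻¹, sl2Lower_mem _, ?_, ?_⟩
    · intro h
      exact inv_ne_zero ht (sl2Lower_eq_one_iff.mp h)
    · have := sl2_conj_cond ((b : Matrix (Fin 2) (Fin 2) k) 0 1)⁻¹ (inv_ne_zero ht)
      rw [inv_inv] at this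
      exact this.symm

theorem sl2_special (t : k) (ht : t ≠ 0) :
    (sl2Upper t⁻¹)⁻¹ * sl2Lower t * sl2Upper t⁻¹ = (sl2Lower t)⁻¹ * (sl2Upper t⁻¹)⁻¹ * sl2Lower t := by
  have hs : t⁻¹ * t = 1 := inv_mul_cancel₀ ht
  apply sl2_ext <;>
    simp only [sl2_mul_apply, sl2_inv_00, sl2_inv_01, sl2_inv_10, sl2_inv_11, sl2Lower_00,
      sl2Lower_01, sl2Lower_10, sl2Lower_11, sl2Upper_00, sl2Upper_01, sl2Upper_10, sl2Upper_11]
  · ring
  · linear_combination (-t⁻¹) * hs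
  · linear_combination (-t) * hs
  · ring

theorem sl2_isSpecialRankOnePair :
    IsSpecialRankOnePair (lowerUnipotentSL2 k) (upperUnipotentSL2 k) := by
  refine ⟨sl2_isRankOnePair, ?_⟩
  intro a ha ha1 b hb hb1 hab
  have ha' := eq_sl2Lower_of_mem ha
  have ht : (a : Matrix (Fin 2) (Fin 2) k) 1 0 ≠ 0 := by
    intro h; apply ha1; rw [ha']; exact sl2Lower_eq_one_iff.mpr h
  have hcond := sl2_conj_cond _ ht
  rw [← ha'] at hcond
  have hb' : b⁻¹ = (sl2Upper ((a : Matrix (Fin 2) (Fin 2) k) 1 0)⁻¹)⁻¹ :=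
    rankOne_conjBy_left_injOn sl2_isRankOnePair (Subgroup.inv_mem _ hb)
      (Subgroup.inv_mem _ (sl2Upper_mem _)) (hab.trans hcond.symm)
  have hb'' : b = sl2Upper ((a : Matrix (Fin 2) (Fin 2) k) 1 0)⁻¹ := inv_injective hb'
  rw [hb'']
  have := sl2_special _ ht
  rw [← ha'] at this
  exact this

theorem sl2_generation : lowerUnipotentSL2 k ⊔ upperUnipotentSL2 k = ⊤ := by
  rw [eq_top_iff]
  have key : ∀ g : SL2, (g : Matrix (Fin 2) (Fin 2) k) 1 0 ≠ 0 →
      g ∈ lowerUnipotentSL2 k ⊔ upperUnipotentSL2 k := by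
    intro g hc
    have hd := sl2_det g
    have : g = sl2Upper ((g 0 0 - 1) / g 1 0) * sl2Lower (g 1 0) * sl2Upper ((g 1 1 - 1) / g 1 0) := by
      apply sl2_ext <;>
        simp only [sl2_mul_apply, sl2Lower_00, sl2Lower_01, sl2Lower_10, sl2Lower_11, sl2Upper_00,
          sl2Upper_01, sl2Upper_10, sl2Upper_11]
      · field_simp; ring
      · field_simp; linear_combination (-1 : k) * hd
      · ring
      · field_simp; ring
    rw [this]
    exact Subgroup.mul_mem _ (Subgroup.mul_mem _ (Subgroup.mem_sup_right (sl2Upper_mem _))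
      (Subgroup.mem_sup_left (sl2Lower_mem _))) (Subgroup.mem_sup_right (sl2Upper_mem _))
  intro g _
  by_cases hc : (g : Matrix (Fin 2) (Fin 2) k) 1 0 = 0
  · have hd := sl2_det g
    have h11 : (g : Matrix (Fin 2) (Fin 2) k) 1 1 ≠ 0 := by
      intro h; rw [hc, h] at hd; simp at hd
    have h1 : g * sl2Lower 1 ∈ lowerUnipotentSL2 k ⊔ upperUnipotentSL2 k := by
      apply key
      rw [sl2_mul_apply]; simp [hc, h11]
    have h2 : g = g * sl2Lower 1 * (sl2Lower 1)⁻¹ := by simp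
    rw [h2]
    exact Subgroup.mul_mem _ h1 (Subgroup.inv_mem _ (Subgroup.mem_sup_left (sl2Lower_mem _)))
  · exact key g hc

theorem sl2_isRankOneGroup :
    IsRankOneGroup SL2 (lowerUnipotentSL2 k) (upperUnipotentSL2 k) :=
  ⟨sl2_generation, sl2_isRankOnePair⟩

end Cfsg.Agent.Helper25
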