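import Mathlib
import Cfsg.Prelude.Def_RootSubgroups
import Cfsg.Agent.Helper25.RankOne
import Cfsg.Agent.Helper25.RootBasic

set_option autoImplicit false

/-! The commutator case for abstract root subgroups: basic toolkit (Timmesfeld II (2.7)). -/

namespace Cfsg.Agent.Helper25

open Cfsg
open scoped commutatorElement

variable {G : Type*} [Group G] {S : Set (Subgroup G)} {A B : Subgroup G}

theorem mem_sup_of_commute {A C : Subgroup G} (h : ∀ a ∈ A, ∀ c ∈ C, a * c = c * a) {x : G}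
    (hx : x ∈ A ⊔ C) : ∃ a ∈ A, ∃ c ∈ C, x = a * c := by
  have hle : A ≤ Subgroup.normalizer (C : Set G) := by
    intro a ha
    apply Subgroup.centralizer_le_normalizer
    rw [Subgroup.mem_centralizer_iff]
    intro c hc
    exact (h a ha c hc).symm
  have h1 := Subgroup.coe_mul_of_left_le_normalizer_right A C hle
  have hx' : x ∈ ((A ⊔ C : Subgroup G) : Set G) := hx
  rw [h1] at hx'
  obtain ⟨a, ha, c, hc, rfl⟩ := Set.mem_mul.mp hx'
  exact ⟨a, ha, c, hc, rfl⟩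

theorem comm_image_eq_inv (x : G) (T : Subgroup G) :
    (fun u : G => x * u * x⁻¹ * u⁻¹) '' (T : Set G) =
      ((fun v : G => v * x * v⁻¹ * x⁻¹) '' (T : Set G))⁻¹ := by
  ext y
  simp only [Set.mem_image, Set.mem_inv, SetLike.mem_coe]
  constructor
  · rintro ⟨u, hu, rfl⟩
    exact ⟨u, hu, by group⟩
  · rintro ⟨v, hv, hvy⟩
    refine ⟨v, hv, ?_⟩
    rw [← inv_inv y, ← hvy]; group

theorem rootCommutatorCase_symm (hc : RootCommutatorCase S A B) : RootCommutatorCase S B A := by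
  obtain ⟨h1, h2, h3, h4⟩ := hc
  have e : ⁅B, A⁆ = ⁅A, B⁆ := Subgroup.commutator_comm B A
  refine ⟨by rw [e]; exact h1, ?_, ?_, ?_⟩
  · intro c hc x hx
    rw [e] at hc; rw [sup_comm] at hx
    exact h2 c hc x hx
  · intro b hb hb1
    rw [e, ← h4 b hb hb1, comm_image_eq_inv, Subgroup.closure_inv]
  · intro a ha ha1
    rw [e, ← h3 a ha ha1, comm_image_eq_inv a B, Subgroup.closure_inv]

theorem cc_comm_mem {a b : G} (ha : a ∈ A) (hb : b ∈ B) : a * b * a⁻¹ * b⁻¹ ∈ ⁅A, B⁆ :=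
  Subgroup.commutator_mem_commutator ha hb

theorem cc_comm_mem' {a b : G} (ha : a ∈ A) (hb : b ∈ B) : b * a * b⁻¹ * a⁻¹ ∈ ⁅A, B⁆ := by
  rw [Subgroup.commutator_comm]
  exact Subgroup.commutator_mem_commutator hb ha

theorem cc_mul_right (hc : RootCommutatorCase S A B) {a b b' : G} (ha : a ∈ A) (hb : b ∈ B)
    (hb' : b' ∈ B) :
    a * (b * b') * a⁻¹ * (b * b')⁻¹ = (a * b * a⁻¹ * b⁻¹) * (a * b' * a⁻¹ * b'⁻¹) := by
  have hcm : a * b' * a⁻¹ * b'⁻¹ ∈ ⁅A, B⁆ := cc_comm_mem ha hb'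
  have h1 := hc.2.1 _ hcm b⁻¹ (Subgroup.mem_sup_right (B.inv_mem hb))
  calc a * (b * b') * a⁻¹ * (b * b')⁻¹
      = a * b * a⁻¹ * ((a * b' * a⁻¹ * b'⁻¹) * b⁻¹) := by group
    _ = a * b * a⁻¹ * (b⁻¹ * (a * b' * a⁻¹ * b'⁻¹)) := by rw [h1]
    _ = _ := by group

/-- In the commutator case every element of `⁅A, B⁆` is a commutator `[a, b]` for fixed `a ≠ 1`. -/
theorem cc_exists_right (hc : RootCommutatorCase S A B) {a : G} (ha : a ∈ A) (ha1 : a ≠ 1) {c : G}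
    (hcm : c ∈ ⁅A, B⁆) : ∃ b ∈ B, a * b * a⁻¹ * b⁻¹ = c := by
  let φ : ↥B →* G :=
    { toFun := fun b => a * (b : G) * a⁻¹ * (b : G)⁻¹
      map_one' := by simp
      map_mul' := fun x y => by
        simpa using cc_mul_right hc ha x.2 y.2 }
  have hle : Subgroup.closure ((fun b : G => a * b * a⁻¹ * b⁻¹) '' (B : Set G)) ≤ φ.range := by
    rw [Subgroup.closure_le]
    rintro _ ⟨b, hb, rfl⟩
    exact ⟨⟨b, hb⟩, rfl⟩
  rw [hc.2.2.1 a ha ha1] at hle
  obtain ⟨b, hb⟩ := hle hcm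
  exact ⟨b, b.2, hb⟩

theorem cc_exists_left (hc : RootCommutatorCase S A B) {b : G} (hb : b ∈ B) (hb1 : b ≠ 1) {c : G}
    (hcm : c ∈ ⁅A, B⁆) : ∃ a ∈ A, a * b * a⁻¹ * b⁻¹ = c := by
  have hc' := rootCommutatorCase_symm hc
  have hcm' : c⁻¹ ∈ ⁅B, A⁆ := by
    rw [Subgroup.commutator_comm]; exact Subgroup.inv_mem _ hcm
  obtain ⟨a, ha, hab⟩ := cc_exists_right hc' hb hb1 hcm'
  refine ⟨a, ha, ?_⟩
  rw [← inv_inv c, ← hab]; group

/-- `a⁻¹ b⁻¹ a b = a b a⁻¹ b⁻¹` in the commutator case. -/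
theorem cc_comm_inv (hc : RootCommutatorCase S A B) {a b : G} (ha : a ∈ A) (hb : b ∈ B) :
    a⁻¹ * b⁻¹ * a * b = a * b * a⁻¹ * b⁻¹ := by
  have hcm : a * b * a⁻¹ * b⁻¹ ∈ ⁅A, B⁆ := cc_comm_mem ha hb
  have h1 := hc.2.1 _ hcm (a⁻¹ * b⁻¹)
    (Subgroup.mul_mem _ (Subgroup.mem_sup_left (A.inv_mem ha)) (Subgroup.mem_sup_right (B.inv_mem hb)))
  calc a⁻¹ * b⁻¹ * a * b = (a⁻¹ * b⁻¹) * (a * b * a⁻¹ * b⁻¹) * (a⁻¹ * b⁻¹)⁻¹ := by group
    _ = (a * b * a⁻¹ * b⁻¹) * (a⁻¹ * b⁻¹) * (a⁻¹ * b⁻¹)⁻¹ := by rw [h1]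
    _ = _ := by group

theorem cc_ne (hS : IsRootSubgroupSet S) (hc : RootCommutatorCase S A B) : A ≠ ⁅A, B⁆ := by
  intro h
  apply hS.ne_bot _ hc.1
  rw [root_commutator_eq_bot_iff]
  intro x hx y hy
  have hx' : x ∈ ⁅A, B⁆ := by rw [← h]; exact hx
  exact hc.2.1 x hx' y (Subgroup.mem_sup_right hy)

theorem cc_ne' (hS : IsRootSubgroupSet S) (hc : RootCommutatorCase S A B) : B ≠ ⁅A, B⁆ := by
  have := cc_ne hS (rootCommutatorCase_symm hc)
  rwa [Subgroup.commutator_comm] at this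

/-- In the commutator case, with `A` having a rank one partner, no non-identity elements of `A` and
`B` commute. -/
theorem cc_not_commute (hS : IsRootSubgroupSet S) (hA : A ∈ S) (hc : RootCommutatorCase S A B)
    {E : Subgroup G} (hE : E ∈ S) (hAE : IsRankOnePair A E) {a b : G} (ha : a ∈ A) (ha1 : a ≠ 1)
    (hb : b ∈ B) (hb1 : b ≠ 1) : a * b ≠ b * a := by
  intro hab
  have hmem : a ∈ A ⊓ conjBy A b := by
    refine Subgroup.mem_inf.mpr ⟨ha, ?_⟩
    rw [mem_conjBy_iff]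
    have : b⁻¹ * a * b = a := by rw [mul_assoc, hab, ← mul_assoc, inv_mul_cancel, one_mul]
    rw [this]; exact ha
  rcases root_inf_eq_bot_or_eq hS hE hAE (hS.conj_mem A hA b) with h1 | h1
  · rw [h1] at hmem; exact ha1 hmem
  · have hle : ⁅A, B⁆ ≤ A := by
      rw [← hc.2.2.2 b hb hb1, Subgroup.closure_le]
      rintro _ ⟨a', ha', rfl⟩
      have h2 : b * a'⁻¹ * b⁻¹ ∈ conjBy A b := conj_mem_conjBy (A.inv_mem ha')
      rw [← h1] at h2
      have : a' * b * a'⁻¹ * b⁻¹ = a' * (b * a'⁻¹ * b⁻¹) := by group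
      show a' * b * a'⁻¹ * b⁻¹ ∈ A
      rw [this]; exact A.mul_mem ha' h2
    rcases root_inf_eq_bot_or_eq hS hE hAE hc.1 with h2 | h2
    · apply hS.ne_bot _ hc.1; rw [← h2]; exact (inf_eq_right.mpr hle).symm
    · exact cc_ne hS hc h2

theorem cc_not_commute' (hS : IsRootSubgroupSet S) (hB : B ∈ S) (hc : RootCommutatorCase S A B)
    {E : Subgroup G} (hE : E ∈ S) (hBE : IsRankOnePair B E) {a b : G} (ha : a ∈ A) (ha1 : a ≠ 1)
    (hb : b ∈ B) (hb1 : b ≠ 1) : a * b ≠ b * a := fun h =>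
  cc_not_commute hS hB (rootCommutatorCase_symm hc) hE hBE hb hb1 ha ha1 h.symm

theorem commutator_conj_mem {a c : G} (ha : a ∈ A) (hc : c ∈ ⁅A, B⁆) : a * c * a⁻¹ ∈ ⁅A, B⁆ := by
  rw [Subgroup.commutator_def] at hc ⊢
  induction hc using Subgroup.closure_induction with
  | mem x hx =>
    obtain ⟨g₁, hg₁, g₂, hg₂, rfl⟩ := hx
    have : a * ⁅g₁, g₂⁆ * a⁻¹ = ⁅a * g₁, g₂⁆ * ⁅a, g₂⁆⁻¹ := by
      simp only [commutatorElement_def]; group
    rw [this]
    exact Subgroup.mul_mem _ (Subgroup.subset_closure ⟨_, A.mul_mem ha hg₁, _, hg₂, rfl⟩)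
      (Subgroup.inv_mem _ (Subgroup.subset_closure ⟨_, ha, _, hg₂, rfl⟩))
  | one => simp
  | mul x y _ _ hx hy =>
    have : a * (x * y) * a⁻¹ = (a * x * a⁻¹) * (a * y * a⁻¹) := by group
    rw [this]; exact Subgroup.mul_mem _ hx hy
  | inv x _ hx =>
    have : a * x⁻¹ * a⁻¹ = (a * x * a⁻¹)⁻¹ := by group
    rw [this]; exact Subgroup.inv_mem _ hx

theorem left_le_normalizer_commutator :
    A ≤ Subgroup.normalizer ((⁅A, B⁆ : Subgroup G) : Set G) := by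
  intro a ha
  rw [Subgroup.mem_normalizer_iff]
  intro c
  constructor
  · exact fun hc => commutator_conj_mem ha hc
  · intro hc
    have := commutator_conj_mem (A.inv_mem ha) hc
    simpa [mul_assoc] using this

/-- If `⁅A, B⁆ ∈ S` then `(A, B)` is not a rank one pair. -/
theorem root_not_rankOne_of_commutator_mem (hS : IsRootSubgroupSet S) (hA : A ∈ S)
    (hC : ⁅A, B⁆ ∈ S) : ¬ IsRankOnePair A B := by
  intro h
  obtain ⟨b, hb, hb1⟩ := rankOne_exists_ne_one (RankOnePair_symm h)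
  have hRmem : conjBy A b ∈ unipotentSubgroups A B := ⟨b, Subgroup.mem_sup_right hb, rfl⟩
  have hRne : conjBy A b ≠ A := fun he =>
    hb1 (rankOne_eq_one_of_normalizes (RankOnePair_symm h) hb (conjBy_eq_self_iff.mp he))
  have hR : ∀ x ∈ conjBy A b, ∃ c ∈ ⁅A, B⁆, ∃ a ∈ A, x = c * a := by
    intro x hx
    rw [mem_conjBy_iff] at hx
    exact ⟨b * (b⁻¹ * x * b) * b⁻¹ * (b⁻¹ * x * b)⁻¹, cc_comm_mem' hx hb, b⁻¹ * x * b, hx,
      by group⟩
  rcases hS.pair A hA _ hC with h1 | h1 | h1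
  · apply rankOne_unipotent_not_commute h hRmem (rankOne_left_mem_unipotent A B) hRne
    intro x hx y hy
    obtain ⟨c, hc, a, ha, rfl⟩ := hR x hx
    have e1 := root_commutator_eq_bot_iff.mp h1 y hy c hc
    have e2 := root_comm_of_mem hS hA ha hy
    rw [mul_assoc, e2, ← mul_assoc, ← e1, mul_assoc]
  · obtain ⟨a, ha, ha1⟩ := rankOne_exists_ne_one h
    exact ha1 (rankOne_eq_one_of_normalizes h1 ha (left_le_normalizer_commutator ha))
  · obtain ⟨x, -, hx1, hx2⟩ := rankOne_two_trans h (rankOne_left_mem_unipotent A B)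
      (rankOne_right_mem_unipotent h) (rankOne_left_mem_unipotent A B) hRmem h.ne hRne.symm
    have hAR : IsRankOnePair A (conjBy A b) := by
      have := rankOnePair_conjBy h x
      rwa [hx1, hx2] at this
    obtain ⟨r, hr, hr1⟩ := rankOne_exists_ne_one (RankOnePair_symm hAR)
    have hR'mem : conjBy A r ∈ unipotentSubgroups A (conjBy A b) :=
      ⟨r, Subgroup.mem_sup_right hr, rfl⟩
    have hR'ne : conjBy A r ≠ A := fun he =>
      hr1 (rankOne_eq_one_of_normalizes (RankOnePair_symm hAR) hr (conjBy_eq_self_iff.mp he))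
    apply rankOne_unipotent_not_commute hAR hR'mem (rankOne_left_mem_unipotent _ _) hR'ne
    intro x hx y hy
    rw [mem_conjBy_iff] at hx
    obtain ⟨c, hc, a₁, ha₁, rfl⟩ := hR r hr
    obtain ⟨a', ha', rfl⟩ : ∃ a' ∈ A, x = (c * a₁) * a' * (c * a₁)⁻¹ := ⟨_, hx, by group⟩
    have e := root_comm_of_mem hS hA ha₁ ha'
    have hx_eq : (c * a₁) * a' * (c * a₁)⁻¹ = (c * a' * c⁻¹ * a'⁻¹) * a' := by
      have : (c * a₁) * a' * (c * a₁)⁻¹ = c * (a₁ * a') * a₁⁻¹ * c⁻¹ := by group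
      rw [this, e]; group
    have hf : c * a' * c⁻¹ * a'⁻¹ ∈ ⁅A, ⁅A, B⁆⁆ := cc_comm_mem' ha' hc
    have e1 := h1.2.1 _ hf y (Subgroup.mem_sup_left hy)
    have e2 := root_comm_of_mem hS hA ha' hy
    rw [hx_eq, mul_assoc, e2, ← mul_assoc, e1, mul_assoc]

theorem root_commutatorCase_of_mem (hS : IsRootSubgroupSet S) (hA : A ∈ S) (hB : B ∈ S)
    (hC : ⁅A, B⁆ ∈ S) : RootCommutatorCase S A B := by
  rcases hS.pair A hA B hB with h | h | h
  · exact absurd h (hS.ne_bot _ hC)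
  · exact absurd h (root_not_rankOne_of_commutator_mem hS hA hC)
  · exact h

end Cfsg.Agent.Helper25
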