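import Mathlib
import Cfsg.Prelude.Def_RootSubgroups
import Cfsg.Agent.Helper25.RankOne
import Cfsg.Agent.Helper25.RootBasic
import Cfsg.Agent.Helper25.RootComm

set_option autoImplicit false

/-! The commutator case with a non-isolated member: partition of `A C` (Timmesfeld II (2.7)). -/

namespace Cfsg.Agent.Helper25

open Cfsg
open scoped commutatorElement

variable {G : Type*} [Group G] {S : Set (Subgroup G)} {A B : Subgroup G}

theorem root_exists_ne_one (hS : IsRootSubgroupSet S) (hA : A ∈ S) : ∃ a ∈ A, a ≠ 1 := by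
  obtain ⟨a, ha⟩ := (Subgroup.ne_bot_iff_exists_ne_one).mp (hS.ne_bot A hA)
  exact ⟨a, a.2, fun h => ha (Subtype.ext h)⟩

theorem cc_inf_left (hS : IsRootSubgroupSet S) (hc : RootCommutatorCase S A B)
    {E : Subgroup G} (hE : E ∈ S) (hAE : IsRankOnePair A E) : A ⊓ ⁅A, B⁆ = ⊥ := by
  rcases root_inf_eq_bot_or_eq hS hE hAE hc.1 with h | h
  · exact h
  · exact absurd h (cc_ne hS hc)

theorem cc_conjBy_le {b : G} (hb : b ∈ B) : conjBy A b ≤ A ⊔ ⁅A, B⁆ := by
  intro x hx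
  rw [mem_conjBy_iff] at hx
  have : x = (b * (b⁻¹ * x * b) * b⁻¹ * (b⁻¹ * x * b)⁻¹) * (b⁻¹ * x * b) := by group
  rw [this]
  exact Subgroup.mul_mem _ (Subgroup.mem_sup_right (cc_comm_mem' hx hb)) (Subgroup.mem_sup_left hx)

theorem cc_central_left (hc : RootCommutatorCase S A B) {a c : G} (ha : a ∈ A) (hcm : c ∈ ⁅A, B⁆) :
    a * c = c * a := (hc.2.1 c hcm a (Subgroup.mem_sup_left ha)).symm

theorem cc_central_right (hc : RootCommutatorCase S A B) {b c : G} (hb : b ∈ B)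
    (hcm : c ∈ ⁅A, B⁆) : b * c = c * b := (hc.2.1 c hcm b (Subgroup.mem_sup_right hb)).symm

/-- `a c` lies in a `B`-conjugate of `A`, for `a ∈ A#`, `c ∈ ⁅A, B⁆`. -/
theorem cc_mul_mem_conjBy (hc : RootCommutatorCase S A B) {a c : G} (ha : a ∈ A) (ha1 : a ≠ 1)
    (hcm : c ∈ ⁅A, B⁆) : ∃ b ∈ B, a * c = b * a * b⁻¹ := by
  obtain ⟨b, hb, hab⟩ := cc_exists_right hc ha ha1 (Subgroup.inv_mem _ hcm)
  refine ⟨b, hb, ?_⟩
  have h1 : c = b * a * b⁻¹ * a⁻¹ := by
    rw [← inv_inv c, ← hab]; group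
  rw [cc_central_left hc ha hcm, h1]; group

/-- A member of `S` inside `⁅A, B⁆` equals `⁅A, B⁆`, when `A` has a rank one partner. -/
theorem cc_eq_of_le (hS : IsRootSubgroupSet S) (hA : A ∈ S) (hc : RootCommutatorCase S A B)
    {E : Subgroup G} (hE : E ∈ S) (hAE : IsRankOnePair A E) {D₁ : Subgroup G} (hD₁ : D₁ ∈ S)
    (hle : D₁ ≤ ⁅A, B⁆) : D₁ = ⁅A, B⁆ := by
  have hEA : IsRankOnePair E A := RankOnePair_symm hAE
  obtain ⟨d, hd, hd1⟩ := root_exists_ne_one hS hD₁
  have hdC : d ∈ ⁅A, B⁆ := hle hd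
  obtain ⟨a, ha, ha1⟩ := rankOne_exists_ne_one hAE
  obtain ⟨e, he, he1⟩ := rankOne_exists_ne_one hEA
  -- `D₁` does not commute with `E`
  have hDE : ⁅D₁, E⁆ ≠ ⊥ := by
    intro h
    rw [root_commutator_eq_bot_iff] at h
    have hz : d ∈ Subgroup.centralizer ((A ⊔ E : Subgroup G) : Set G) := by
      have hA' : A ≤ Subgroup.centralizer ({d} : Set G) := by
        intro x hx
        rw [Subgroup.mem_centralizer_iff]
        intro y hy
        rw [Set.mem_singleton_iff] at hy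
        rw [hy]; exact (cc_central_left hc hx hdC).symm
      have hE' : E ≤ Subgroup.centralizer ({d} : Set G) := by
        intro x hx
        rw [Subgroup.mem_centralizer_iff]
        intro y hy
        rw [Set.mem_singleton_iff] at hy
        rw [hy]; exact h d hd x hx
      rw [Subgroup.mem_centralizer_iff]
      intro x hx
      have := (sup_le hA' hE') hx
      rw [Subgroup.mem_centralizer_iff] at this
      exact (this d rfl).symm
    apply root_central_mul_not_root hS hE hAE hz hd1 ha ha1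
    obtain ⟨b, hb, hab⟩ := cc_mul_mem_conjBy hc ha ha1 hdC
    refine ⟨?_, conjBy A b, hS.conj_mem A hA b, ?_⟩
    · intro h1
      have h2 : d = a⁻¹ := eq_inv_of_mul_eq_one_left h1
      have h3 : d ∈ A ⊓ ⁅A, B⁆ := Subgroup.mem_inf.mpr ⟨by rw [h2]; exact A.inv_mem ha, hdC⟩
      rw [cc_inf_left hS hc hE hAE] at h3
      exact hd1 h3
    · rw [← cc_central_left hc ha hdC, hab]
      exact conj_mem_conjBy ha
  have hCE : ⁅⁅A, B⁆, E⁆ ≠ ⊥ := by
    intro h
    apply hDE
    rw [root_commutator_eq_bot_iff] at h ⊢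
    intro x hx y hy
    exact h x (hle hx) y hy
  rcases hS.pair D₁ hD₁ E hE with h₁ | h₁ | h₁
  · exact absurd h₁ hDE
  · rcases hS.pair _ hc.1 E hE with h₂ | h₂ | h₂
    · exact absurd h₂ hCE
    · -- both rank one
      obtain ⟨-, hCmem, -⟩ := root_rankOne_le hS hD₁ hE h₁ hc.1 hE h₂ (sup_le_sup_right hle E)
      by_contra hne
      have := rankOne_unipotent_inf h₁ (rankOne_left_mem_unipotent D₁ E) hCmem hne
      rw [inf_eq_left.mpr hle] at this
      exact hS.ne_bot _ hD₁ this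
    · -- (D₁, E) rank one, (C, E) commutator case
      exfalso
      have hmem : conjBy D₁ e ∈ unipotentSubgroups D₁ E := ⟨e, Subgroup.mem_sup_right he, rfl⟩
      have hne : conjBy D₁ e ≠ D₁ := fun h =>
        he1 (rankOne_eq_one_of_normalizes (RankOnePair_symm h₁) he (conjBy_eq_self_iff.mp h))
      apply rankOne_unipotent_not_commute h₁ hmem (rankOne_left_mem_unipotent D₁ E) hne
      intro x hx y hy
      rw [mem_conjBy_iff] at hx
      obtain ⟨d', hd', rfl⟩ : ∃ d' ∈ D₁, x = e * d' * e⁻¹ := ⟨_, hx, by group⟩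
      have hf : e * d' * e⁻¹ * d'⁻¹ ∈ ⁅⁅A, B⁆, E⁆ := cc_comm_mem' (hle hd') he
      have e1 := h₂.2.1 _ hf y (Subgroup.mem_sup_left (hle hy))
      have e2 := root_comm_of_mem hS hD₁ hd' hy
      have hx_eq : e * d' * e⁻¹ = (e * d' * e⁻¹ * d'⁻¹) * d' := by group
      rw [hx_eq, mul_assoc, e2, ← mul_assoc, e1, mul_assoc]
  · rcases hS.pair _ hc.1 E hE with h₂ | h₂ | h₂
    · exact absurd h₂ hCE
    · -- (D₁, E) commutator case, (C, E) rank one
      exfalso
      have hcomm := root_commutatorCase_conj_commute hS hE h₁ hd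
      have hmem : conjBy E d ∈ unipotentSubgroups ⁅A, B⁆ E :=
        rankOne_conjBy_mem_unipotent (rankOne_right_mem_unipotent h₂) (Subgroup.mem_sup_left hdC)
      have hne : conjBy E d ≠ E := fun h =>
        hd1 (rankOne_eq_one_of_normalizes h₂ hdC (conjBy_eq_self_iff.mp h))
      exact rankOne_unipotent_not_commute h₂ hmem (rankOne_right_mem_unipotent h₂) hne hcomm
    · -- both commutator cases
      have hM : ⁅D₁, E⁆ = ⁅⁅A, B⁆, E⁆ := by
        rw [← h₁.2.2.1 d hd hd1, ← h₂.2.2.1 d hdC hd1]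
      apply le_antisymm hle
      intro c hcC
      have hmem : c * e * c⁻¹ * e⁻¹ ∈ ⁅D₁, E⁆ := by rw [hM]; exact cc_comm_mem hcC he
      obtain ⟨d', hd', hd'e⟩ := cc_exists_left h₁ he he1 hmem
      -- c⁻¹ d' commutes with e
      have hcomm : (c⁻¹ * d') * e = e * (c⁻¹ * d') := by
        have h3 : d' * e * d'⁻¹ = c * e * c⁻¹ := by
          have := congrArg (· * e) hd'e
          simpa [mul_assoc] using this
        have h4 : c⁻¹ * d' * e = c⁻¹ * (d' * e * d'⁻¹) * d' := by group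
        rw [h4, h3]; group
      have hmemC : c⁻¹ * d' ∈ ⁅A, B⁆ := Subgroup.mul_mem _ (Subgroup.inv_mem _ hcC) (hle hd')
      by_cases h5 : c⁻¹ * d' = 1
      · have : c = d' := by
          have := congrArg (c * ·) h5
          simpa using this.symm
        rw [this]; exact hd'
      · exact absurd hcomm (cc_not_commute' hS hE h₂ hA hEA hmemC h5 he he1)

section Partition

variable (hS : IsRootSubgroupSet S) (hA : A ∈ S) (hc : RootCommutatorCase S A B)
  {E : Subgroup G} (hE : E ∈ S) (hAE : IsRankOnePair A E)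

include hS hA hc hE hAE

theorem cc_members :
    membersIn S (A ⊔ ⁅A, B⁆) = (fun b : G => conjBy A b) '' (B : Set G) ∪ {⁅A, B⁆} := by
  ext D₁
  constructor
  · rintro ⟨hD₁S, hD₁le⟩
    by_cases h : D₁ ≤ ⁅A, B⁆
    · right
      exact cc_eq_of_le hS hA hc hE hAE hD₁S h
    · left
      obtain ⟨d, hd, hdC⟩ := SetLike.not_le_iff_exists.mp h
      obtain ⟨a, ha, c, hcm, rfl⟩ :=
        mem_sup_of_commute (fun a ha c hcm => cc_central_left hc ha hcm) (hD₁le hd)
      have ha1 : a ≠ 1 := by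
        rintro rfl
        apply hdC; simpa using hcm
      obtain ⟨b, hb, hab⟩ := cc_mul_mem_conjBy hc ha ha1 hcm
      refine ⟨b, hb, ?_⟩
      rcases root_inf_eq_bot_or_eq hS (hS.conj_mem E hE b) (rankOnePair_conjBy hAE b) hD₁S
        with h1 | h1
      · exfalso
        have : a * c ∈ conjBy A b ⊓ D₁ :=
          Subgroup.mem_inf.mpr ⟨by rw [hab]; exact conj_mem_conjBy ha, hd⟩
        rw [h1, Subgroup.mem_bot] at this
        apply hdC; rw [this]; exact Subgroup.one_mem _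
      · exact h1
  · rintro (⟨b, hb, rfl⟩ | rfl)
    · exact ⟨hS.conj_mem A hA b, cc_conjBy_le hb⟩
    · exact ⟨hc.1, le_sup_right⟩

theorem cc_partition : IsSubgroupPartition (A ⊔ ⁅A, B⁆) (membersIn S (A ⊔ ⁅A, B⁆)) := by
  refine ⟨fun C hC => hC.2, ?_, ?_⟩
  · intro x hx hx1
    obtain ⟨a, ha, c, hcm, rfl⟩ :=
      mem_sup_of_commute (fun a ha c hcm => cc_central_left hc ha hcm) hx
    by_cases ha1 : a = 1
    · exact ⟨⁅A, B⁆, ⟨hc.1, le_sup_right⟩, by simpa [ha1] using hcm⟩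
    · obtain ⟨b, hb, hab⟩ := cc_mul_mem_conjBy hc ha ha1 hcm
      exact ⟨conjBy A b, ⟨hS.conj_mem A hA b, cc_conjBy_le hb⟩,
        by rw [hab]; exact conj_mem_conjBy ha⟩
  · intro D₁ hD₁ D₂ hD₂ hne
    have hTI : ∀ b : G, ∀ D' ∈ S, conjBy A b ≠ D' → conjBy A b ⊓ D' = ⊥ := by
      intro b D' hD' hne'
      rcases root_inf_eq_bot_or_eq hS (hS.conj_mem E hE b) (rankOnePair_conjBy hAE b) hD'
        with h1 | h1
      · exact h1
      · exact absurd h1 hne'
    have hD₁' := hD₁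
    have hD₂' := hD₂
    rw [cc_members hS hA hc hE hAE] at hD₁' hD₂'
    rcases hD₁' with ⟨b, -, rfl⟩ | h1
    · exact hTI b D₂ hD₂.1 hne
    · rcases hD₂' with ⟨b, -, rfl⟩ | h2
      · rw [inf_comm]; exact hTI b D₁ hD₁.1 hne.symm
      · rw [Set.mem_singleton_iff] at h1 h2
        exact absurd (h1.trans h2.symm) hne

theorem cc_linePartner : A ∈ linePartners S ⁅A, B⁆ := by
  refine ⟨⟨hA, cc_ne hS hc, ?_⟩, ?_⟩
  · rw [root_commutator_eq_bot_iff]
    intro x hx y hy
    exact (cc_central_left hc hy hx).symm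
  · rw [sup_comm]
    exact cc_partition hS hA hc hE hAE

theorem cc_equiv {a : G} (ha : a ∈ A) (ha1 : a ≠ 1) :
    ∃ φ : ↥B ≃* ↥⁅A, B⁆, ∀ b : ↥B, (φ b : G) = a⁻¹ * (b : G)⁻¹ * a * b := by
  let φ₀ : ↥B →* ↥⁅A, B⁆ :=
    { toFun := fun b => ⟨a⁻¹ * (b : G)⁻¹ * a * b, by
        rw [cc_comm_inv hc ha b.2]; exact cc_comm_mem ha b.2⟩
      map_one' := by
        apply Subtype.ext; simp
      map_mul' := fun x y => by
        apply Subtype.ext
        show a⁻¹ * ((x : G) * (y : G))⁻¹ * a * ((x : G) * (y : G)) =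
          (a⁻¹ * (x : G)⁻¹ * a * x) * (a⁻¹ * (y : G)⁻¹ * a * y)
        rw [cc_comm_inv hc ha (B.mul_mem x.2 y.2), cc_comm_inv hc ha x.2, cc_comm_inv hc ha y.2]
        exact cc_mul_right hc ha x.2 y.2 }
  have hinj : Function.Injective φ₀ := by
    rw [injective_iff_map_eq_one]
    intro b hb
    have h1 : a⁻¹ * (b : G)⁻¹ * a * b = 1 := congrArg Subtype.val hb
    by_contra hb1
    have hcomm : a * (b : G) = b * a := by
      have : a * (b : G) = (b : G) * a * (a⁻¹ * (b : G)⁻¹ * a * b) := by group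
      rw [this, h1, mul_one]
    exact cc_not_commute hS hA hc hE hAE ha ha1 b.2 (fun h => hb1 (Subtype.ext h)) hcomm
  have hsurj : Function.Surjective φ₀ := by
    intro c
    obtain ⟨b, hb, hab⟩ := cc_exists_right hc ha ha1 c.2
    refine ⟨⟨b, hb⟩, Subtype.ext ?_⟩
    show a⁻¹ * b⁻¹ * a * b = c
    rw [cc_comm_inv hc ha hb]; exact hab
  exact ⟨MulEquiv.ofBijective φ₀ ⟨hinj, hsurj⟩, fun b => rfl⟩

end Partition

end Cfsg.Agent.Helper25
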