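import Mathlib
import Cfsg.Prelude.Def_RootSubgroups
import Cfsg.Agent.Helper25.RankOne
import Cfsg.Agent.Helper25.RootBasic
import Cfsg.Agent.Helper25.RootComm
import Cfsg.Agent.Helper25.RootComm2

set_option autoImplicit false

/-! Line partners in different components of the rank one graph (Timmesfeld II (2.9)): the main
configuration lemma. -/

namespace Cfsg.Agent.Helper25

open Cfsg
open scoped commutatorElement

variable {G : Type*} [Group G] {S : Set (Subgroup G)}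

theorem mem_centralizer_sup {A E : Subgroup G} {z : G} (hA : ∀ a ∈ A, z * a = a * z)
    (hE : ∀ e ∈ E, z * e = e * z) : z ∈ Subgroup.centralizer ((A ⊔ E : Subgroup G) : Set G) := by
  have hA' : A ≤ Subgroup.centralizer ({z} : Set G) := by
    intro x hx
    rw [Subgroup.mem_centralizer_iff]
    intro y hy
    rw [Set.mem_singleton_iff] at hy
    rw [hy]; exact hA x hx
  have hE' : E ≤ Subgroup.centralizer ({z} : Set G) := by
    intro x hx
    rw [Subgroup.mem_centralizer_iff]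
    intro y hy
    rw [Set.mem_singleton_iff] at hy
    rw [hy]; exact hE x hx
  rw [Subgroup.mem_centralizer_iff]
  intro x hx
  have := (sup_le hA' hE') hx
  rw [Subgroup.mem_centralizer_iff] at this
  exact (this z rfl).symm

/-- In the commutator case with `A` non-isolated, no non-identity element of `B` normalizes `A`. -/
theorem cc_not_normalize {A B : Subgroup G} (hS : IsRootSubgroupSet S)
    (hc : RootCommutatorCase S A B) {E : Subgroup G} (hE : E ∈ S) (hAE : IsRankOnePair A E)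
    {b : G} (hb : b ∈ B) (hb1 : b ≠ 1) : conjBy A b ≠ A := by
  intro h1
  have hle : ⁅A, B⁆ ≤ A := by
    rw [← hc.2.2.2 b hb hb1, Subgroup.closure_le]
    rintro _ ⟨a', ha', rfl⟩
    have h2 : b * a'⁻¹ * b⁻¹ ∈ conjBy A b := conj_mem_conjBy (A.inv_mem ha')
    rw [h1] at h2
    have : a' * b * a'⁻¹ * b⁻¹ = a' * (b * a'⁻¹ * b⁻¹) := by group
    show a' * b * a'⁻¹ * b⁻¹ ∈ A
    rw [this]; exact A.mul_mem ha' h2
  rcases root_inf_eq_bot_or_eq hS hE hAE hc.1 with h2 | h2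
  · apply hS.ne_bot _ hc.1; rw [← h2]; exact (inf_eq_right.mpr hle).symm
  · exact cc_ne hS hc h2

section ML

variable {A E B K : Subgroup G} (hS : IsRootSubgroupSet S) (hA : A ∈ S) (hE : E ∈ S)
  (hAE : IsRankOnePair A E) (hB : B ∈ S) (hK : K ∈ S) (hBK : IsRankOnePair B K)
  (hcomm : ∀ a ∈ A, ∀ b ∈ B, a * b = b * a)
  (hroot : ∀ a ∈ A, ∀ b ∈ B, a ≠ 1 → b ≠ 1 → a * b ∈ rootElements S)
  (hnr : ¬ IsRankOnePair E B)

include hS hA hE hAE hB hcomm hroot hnr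

theorem ml_cc1 : RootCommutatorCase S E B := by
  rcases hS.pair E hE B hB with h | h | h
  · exfalso
    rw [root_commutator_eq_bot_iff] at h
    obtain ⟨b, hb, hb1⟩ := root_exists_ne_one hS hB
    obtain ⟨a, ha, ha1⟩ := rankOne_exists_ne_one hAE
    have hz : b ∈ Subgroup.centralizer ((A ⊔ E : Subgroup G) : Set G) :=
      mem_centralizer_sup (fun a ha => (hcomm a ha b hb).symm) (fun e he => (h e he b hb).symm)
    apply root_central_mul_not_root hS hE hAE hz hb1 ha ha1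
    rw [← hcomm a ha b hb]
    exact hroot a ha b hb ha1 hb1
  · exact absurd h hnr
  · exact h

theorem ml_cc2 : RootCommutatorCase S A ⁅E, B⁆ := by
  have hc1 := ml_cc1 hS hA hE hAE hB hcomm hroot hnr
  have hEA : IsRankOnePair E A := RankOnePair_symm hAE
  obtain ⟨b, hb, hb1⟩ := root_exists_ne_one hS hB
  obtain ⟨a, ha, ha1⟩ := rankOne_exists_ne_one hAE
  rcases hS.pair A hA _ hc1.1 with h | h | h
  · exfalso
    rw [root_commutator_eq_bot_iff] at h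
    obtain ⟨e, he, he1, hae⟩ := hAE.cond_left a ha ha1
    have hd₀ : b * e * b⁻¹ * e⁻¹ ∈ ⁅E, B⁆ := cc_comm_mem' he hb
    apply cc_not_normalize hS hc1 hA hEA hb hb1
    have h1 : conjBy (conjBy A e⁻¹) b = conjBy (conjBy E a⁻¹) b := by rw [hae]
    rw [conjBy_conjBy, conjBy_conjBy] at h1
    have e1 : b * e⁻¹ = e⁻¹ * ((b * e * b⁻¹ * e⁻¹)⁻¹ * b) := by group
    have e2 : b * a⁻¹ = a⁻¹ * b := by
      have := hcomm a⁻¹ (A.inv_mem ha) b hb
      exact this.symm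
    have e3 : conjBy A ((b * e * b⁻¹ * e⁻¹)⁻¹ * b) = A := by
      apply conjBy_eq_self_of_commute
      intro x hx
      have h2 := h x hx _ hd₀
      have h3 := hcomm x hx b hb
      have h4 : x * (b * e * b⁻¹ * e⁻¹)⁻¹ = (b * e * b⁻¹ * e⁻¹)⁻¹ * x := by
        rw [eq_inv_mul_iff_mul_eq, ← mul_assoc, ← h2, mul_assoc, mul_inv_cancel, mul_one]
      rw [mul_assoc, ← h3, ← mul_assoc, ← h4, mul_assoc]
    rw [e1, e2, ← conjBy_conjBy, e3, ← conjBy_conjBy E b a⁻¹, hae] at h1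
    exact (conjBy_injective a⁻¹ h1).symm
  · exfalso
    have hz : b ∈ Subgroup.centralizer ((A ⊔ ⁅E, B⁆ : Subgroup G) : Set G) :=
      mem_centralizer_sup (fun a ha => (hcomm a ha b hb).symm)
        (fun d hd => cc_central_right hc1 hb hd)
    apply root_central_mul_not_root hS hc1.1 h hz hb1 ha ha1
    rw [← hcomm a ha b hb]
    exact hroot a ha b hb ha1 hb1
  · exact h

include hK hBK in
theorem ml_eq : ⁅A, ⁅E, B⁆⁆ = B := by
  have hc1 := ml_cc1 hS hA hE hAE hB hcomm hroot hnr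
  have hc2 := ml_cc2 hS hA hE hAE hB hcomm hroot hnr
  obtain ⟨b, hb, hb1⟩ := root_exists_ne_one hS hB
  obtain ⟨a, ha, ha1⟩ := rankOne_exists_ne_one hAE
  obtain ⟨e, he, he1, hae⟩ := hAE.cond_left a ha ha1
  -- `w = a e⁻¹` conjugates `A` to `E`
  have hw : conjBy A (a * e⁻¹) = E := by
    rw [← conjBy_conjBy, hae, conjBy_conjBy, mul_inv_cancel, conjBy_one]
  have hd₁ : b⁻¹ * e⁻¹ * b * e ∈ ⁅E, B⁆ := by
    have h1 : e⁻¹ * b⁻¹ * e * b ∈ ⁅E, B⁆ := by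
      have := cc_comm_mem (A := E) (B := B) (E.inv_mem he) (B.inv_mem hb)
      simpa using this
    have h2 := Subgroup.inv_mem _ h1
    have : (e⁻¹ * b⁻¹ * e * b)⁻¹ = b⁻¹ * e⁻¹ * b * e := by group
    rwa [this] at h2
  have hf₁ : a * (b⁻¹ * e⁻¹ * b * e) * a⁻¹ * (b⁻¹ * e⁻¹ * b * e)⁻¹ ∈ ⁅A, ⁅E, B⁆⁆ :=
    cc_comm_mem ha hd₁
  -- generalize
  obtain ⟨d₁, hd₁', hd₁⟩ : ∃ d₁, d₁ = b⁻¹ * e⁻¹ * b * e ∧ d₁ ∈ ⁅E, B⁆ := ⟨_, rfl, hd₁⟩
  rw [← hd₁'] at hf₁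
  obtain ⟨f₁, hf₁', hf₁⟩ : ∃ f₁, f₁ = a * d₁ * a⁻¹ * d₁⁻¹ ∧ f₁ ∈ ⁅A, ⁅E, B⁆⁆ := ⟨_, rfl, hf₁⟩
  have hwb : (a * e⁻¹) * b * (a * e⁻¹)⁻¹ = b * f₁ * d₁ := by
    have h1 : (a * e⁻¹) * b * (a * e⁻¹)⁻¹ = a * (b * d₁) * a⁻¹ := by rw [hd₁']; group
    have h2 : a * b = b * a := hcomm a ha b hb
    have h3 : a * (b * d₁) * a⁻¹ = (a * b) * d₁ * a⁻¹ := by group
    rw [h1, h3, h2, hf₁']; group
  -- `w b w⁻¹` commutes with `E`
  have hcE : ∀ e' ∈ E, (b * f₁ * d₁) * e' = e' * (b * f₁ * d₁) := by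
    intro e' he'
    rw [← hwb]
    have h1 : (a * e⁻¹)⁻¹ * e' * (a * e⁻¹) ∈ A := by
      rw [← mem_conjBy_iff, hw]; exact he'
    have h2 := hcomm _ h1 b hb
    have h3 : a * e⁻¹ * b * (a * e⁻¹)⁻¹ * e' =
        (a * e⁻¹) * (b * ((a * e⁻¹)⁻¹ * e' * (a * e⁻¹))) * (a * e⁻¹)⁻¹ := by group
    rw [h3, ← h2]; group
  have hzE : ∀ e' ∈ E, (b * f₁) * e' = e' * (b * f₁) := by
    intro e' he'
    have h1 := hcE e' he'
    have h2 : e' * d₁ = d₁ * e' := cc_central_left hc1 he' hd₁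
    have h3 : (b * f₁) * e' * d₁ = e' * (b * f₁) * d₁ := by
      rw [mul_assoc (b * f₁), h2, ← mul_assoc (b * f₁)]
      rw [mul_assoc e']; exact h1
    exact mul_right_cancel h3
  have hzA : ∀ x ∈ A, (b * f₁) * x = x * (b * f₁) := by
    intro x hx
    have h1 := hcomm x hx b hb
    have h2 : x * f₁ = f₁ * x := cc_central_left hc2 hx hf₁
    rw [mul_assoc, ← h2, ← mul_assoc, ← h1, mul_assoc]
  have hz : b * f₁ ∈ Subgroup.centralizer ((A ⊔ E : Subgroup G) : Set G) :=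
    mem_centralizer_sup hzA hzE
  have hz1 : b * f₁ = 1 := by
    by_contra hz1
    obtain ⟨d₂, hd₂, had₂⟩ := cc_exists_right hc2 ha ha1 hf₁
    -- `d₂ a d₂⁻¹ = a f₁⁻¹`
    have haf : a * f₁ = f₁ * a := cc_central_left hc2 ha hf₁
    have ha₂ : d₂ * a * d₂⁻¹ = a * f₁⁻¹ := by
      have h1 : d₂ * a * d₂⁻¹ = (a * d₂ * a⁻¹ * d₂⁻¹)⁻¹ * a := by group
      rw [h1, had₂]
      rw [inv_mul_eq_iff_eq_mul, ← mul_assoc, ← haf, mul_assoc, mul_inv_cancel, mul_one]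
    have hzd : (b * f₁) * d₂ = d₂ * (b * f₁) := by
      have h1 : b * d₂ = d₂ * b := cc_central_right hc1 hb hd₂
      have h2 : d₂ * f₁ = f₁ * d₂ := cc_central_right hc2 hd₂ hf₁
      rw [mul_assoc, ← h2, ← mul_assoc, h1, mul_assoc]
    have hconj : ∀ (L : Subgroup G), (∀ x ∈ L, (b * f₁) * x = x * (b * f₁)) →
        ∀ x ∈ conjBy L d₂, (b * f₁) * x = x * (b * f₁) := by
      intro L hL x hx
      rw [mem_conjBy_iff] at hx
      have h1 := hL _ hx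
      have h2 : x = d₂ * (d₂⁻¹ * x * d₂) * d₂⁻¹ := by group
      have hzd' : (b * f₁) * d₂⁻¹ = d₂⁻¹ * (b * f₁) := by
        rw [eq_inv_mul_iff_mul_eq, ← mul_assoc, ← hzd, mul_assoc, mul_inv_cancel, mul_one]
      calc b * f₁ * x = b * f₁ * (d₂ * (d₂⁻¹ * x * d₂) * d₂⁻¹) := by rw [← h2]
        _ = (b * f₁ * d₂) * (d₂⁻¹ * x * d₂) * d₂⁻¹ := by group
        _ = d₂ * ((b * f₁) * (d₂⁻¹ * x * d₂)) * d₂⁻¹ := by rw [hzd]; group
        _ = d₂ * (d₂⁻¹ * x * d₂) * ((b * f₁) * d₂⁻¹) := by rw [h1]; group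
        _ = d₂ * (d₂⁻¹ * x * d₂) * (d₂⁻¹ * (b * f₁)) := by rw [hzd']
        _ = x * (b * f₁) := by group
    have hz₂ : b * f₁ ∈ Subgroup.centralizer ((conjBy A d₂ ⊔ conjBy E d₂ : Subgroup G) : Set G) :=
      mem_centralizer_sup (hconj A hzA) (hconj E hzE)
    have ha₂mem : a * f₁⁻¹ ∈ conjBy A d₂ := by rw [← ha₂]; exact conj_mem_conjBy ha
    have ha₂1 : a * f₁⁻¹ ≠ 1 := by
      rw [← ha₂]
      intro h1
      apply ha1
      have : a = d₂⁻¹ * (d₂ * a * d₂⁻¹) * d₂ := by group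
      rw [this, h1]; group
    apply root_central_mul_not_root hS (hS.conj_mem E hE d₂) (rankOnePair_conjBy hAE d₂) hz₂ hz1
      ha₂mem ha₂1
    have h5 : b * f₁ * (a * f₁⁻¹) = a * b := by
      rw [hcomm a ha b hb]
      have : b * f₁ * (a * f₁⁻¹) = b * (f₁ * a) * f₁⁻¹ := by group
      rw [this, ← haf]; group
    rw [h5]
    exact hroot a ha b hb ha1 hb1
  have hbF : b ∈ ⁅A, ⁅E, B⁆⁆ := by
    have : b = f₁⁻¹ := eq_inv_of_mul_eq_one_left hz1
    rw [this]; exact Subgroup.inv_mem _ hf₁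
  rcases root_inf_eq_bot_or_eq hS hK hBK hc2.1 with h | h
  · exfalso
    have : b ∈ B ⊓ ⁅A, ⁅E, B⁆⁆ := Subgroup.mem_inf.mpr ⟨hb, hbF⟩
    rw [h] at this
    exact hb1 this
  · exact h.symm

end ML

end Cfsg.Agent.Helper25
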