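import Mathlib
import Cfsg.Prelude.Def_RootSubgroups
import Cfsg.Agent.Helper25.RankOne
import Cfsg.Agent.Helper25.RootBasic
import Cfsg.Agent.Helper25.RootComm
import Cfsg.Agent.Helper25.RootComm2
import Cfsg.Agent.Helper25.RootComm3

set_option autoImplicit false

/-! Line partners lie in the same component of the rank one graph (Timmesfeld II (2.9)). -/

namespace Cfsg.Agent.Helper25

open Cfsg
open scoped commutatorElement

variable {G : Type*} [Group G] {S : Set (Subgroup G)}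

theorem fadj_symm {A B : Subgroup G} (h : FAdj S A B) : FAdj S B A :=
  ⟨h.2.1, h.1, RankOnePair_symm h.2.2⟩

theorem fadj_reach_symm {A B : Subgroup G} (h : Relation.ReflTransGen (FAdj S) A B) :
    Relation.ReflTransGen (FAdj S) B A := by
  induction h with
  | refl => exact Relation.ReflTransGen.refl
  | tail _ hbc ih => exact Relation.ReflTransGen.head (fadj_symm hbc) ih

theorem fin_aux {n e₂ e₁ X : G} (hXeq : X = n * e₂) (hX : X * e₁ = e₁ * X) :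
    e₂ * e₁ * e₂⁻¹ = n⁻¹ * e₁ * n := by
  subst hXeq
  have : e₂ * e₁ = n⁻¹ * ((n * e₂) * e₁) := by group
  rw [this, hX]; group

theorem fin_commute (hS : IsRootSubgroupSet S) {A E B : Subgroup G} (hE : E ∈ S)
    (hc1 : RootCommutatorCase S E B)
    (hAD : ∀ a ∈ A, ∀ d ∈ ⁅E, B⁆, a * d * a⁻¹ * d⁻¹ ∈ B) {a'' b : G} (ha'' : a'' ∈ A) (hb : b ∈ B)
    (hcomm : ∀ x ∈ conjBy E (a'' * b), ∀ y ∈ E, x * y = y * x) :
    ∀ g ∈ conjBy E a'', ∀ x ∈ conjBy E g, ∀ y ∈ E, x * y = y * x := by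
  intro g hg x hx y hy
  rw [mem_conjBy_iff] at hg hx
  obtain ⟨e, he, rfl⟩ : ∃ e ∈ E, g = a'' * e * a''⁻¹ := ⟨_, hg, by group⟩
  obtain ⟨e₁, he₁, rfl⟩ : ∃ e₁ ∈ E, x = (a'' * e * a''⁻¹) * e₁ * (a'' * e * a''⁻¹)⁻¹ :=
    ⟨_, hx, by group⟩
  have hd₀ : b * e * b⁻¹ * e⁻¹ ∈ ⁅E, B⁆ := cc_comm_mem' he hb
  have hb₀ := hAD a'' ha'' _ hd₀
  obtain ⟨d₀, hd₀', hd₀⟩ : ∃ d₀, d₀ = b * e * b⁻¹ * e⁻¹ ∧ d₀ ∈ ⁅E, B⁆ := ⟨_, rfl, hd₀⟩
  rw [← hd₀'] at hb₀
  obtain ⟨b₀, hb₀', hb₀⟩ : ∃ b₀, b₀ = a'' * d₀ * a''⁻¹ * d₀⁻¹ ∧ b₀ ∈ B := ⟨_, rfl, hb₀⟩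
  have hXeq : (a'' * b) * e * (a'' * b)⁻¹ = (b₀ * d₀) * (a'' * e * a''⁻¹) := by
    rw [hb₀', hd₀']; group
  have hX := hcomm _ (conj_mem_conjBy he) e₁ he₁
  have h1 := fin_aux hXeq hX
  have hδ₁ : b₀⁻¹ * e₁ * b₀ * e₁⁻¹ ∈ ⁅E, B⁆ := by
    have := cc_comm_mem' (A := E) (B := B) he₁ (B.inv_mem hb₀)
    simpa using this
  have hD : ⁅E, B⁆ ∈ S := hc1.1
  have h2 : (b₀ * d₀)⁻¹ * e₁ * (b₀ * d₀) = (b₀⁻¹ * e₁ * b₀ * e₁⁻¹) * e₁ := by
    have e1 : e₁ * d₀ = d₀ * e₁ := cc_central_left hc1 he₁ hd₀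
    have e2 := root_comm_of_mem hS hD hδ₁ hd₀
    have e3 : (b₀ * d₀)⁻¹ * e₁ * (b₀ * d₀) = d₀⁻¹ * ((b₀⁻¹ * e₁ * b₀ * e₁⁻¹) * (e₁ * d₀)) := by
      group
    rw [e3, e1, ← mul_assoc (b₀⁻¹ * e₁ * b₀ * e₁⁻¹), e2]; group
  rw [h1, h2]
  have e4 : (b₀⁻¹ * e₁ * b₀ * e₁⁻¹) * y = y * (b₀⁻¹ * e₁ * b₀ * e₁⁻¹) :=
    (cc_central_left hc1 hy hδ₁).symm
  have e5 := root_comm_of_mem hS hE he₁ hy
  rw [mul_assoc, e5, ← mul_assoc, e4, mul_assoc]

/-- Timmesfeld II (2.9): if `A` and `B` both have rank one partners and `B` is a line partner of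
`A`, then `A` and `B` are joined in the rank one graph. -/
theorem root_line_reach (hS : IsRootSubgroupSet S) {A B E K : Subgroup G} (hA : A ∈ S)
    (hB : B ∈ S) (hE : E ∈ S) (hK : K ∈ S) (hAE : IsRankOnePair A E) (hBK : IsRankOnePair B K)
    (hBA : B ∈ linePartners S A) : Relation.ReflTransGen (FAdj S) A B := by
  by_contra hnp
  obtain ⟨⟨-, hBneA, hcommAB⟩, hpart⟩ := hBA
  rw [root_commutator_eq_bot_iff] at hcommAB
  have hinf : A ⊓ B = ⊥ := by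
    rcases root_inf_eq_bot_or_eq hS hE hAE hB with h | h
    · exact h
    · exact absurd h.symm hBneA
  have hne1 : ∀ a ∈ A, ∀ b ∈ B, b ≠ 1 → a * b ≠ 1 := by
    intro a ha b hb hb1 h
    have h1 : b = a⁻¹ := eq_inv_of_mul_eq_one_right h
    have : b ∈ A ⊓ B := Subgroup.mem_inf.mpr ⟨by rw [h1]; exact A.inv_mem ha, hb⟩
    rw [hinf] at this
    exact hb1 this
  have hroot : ∀ a ∈ A, ∀ b ∈ B, a ≠ 1 → b ≠ 1 → a * b ∈ rootElements S := by
    intro a ha b hb _ hb1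
    have hne := hne1 a ha b hb hb1
    obtain ⟨C, hC, hxC⟩ := hpart.2.1 (a * b)
      (Subgroup.mul_mem _ (Subgroup.mem_sup_left ha) (Subgroup.mem_sup_right hb)) hne
    exact ⟨hne, C, hC.1, hxC⟩
  have hAE' : FAdj S A E := ⟨hA, hE, hAE⟩
  have hBK' : FAdj S B K := ⟨hB, hK, hBK⟩
  have hnr1 : ¬ IsRankOnePair E B := fun h =>
    hnp (Relation.ReflTransGen.head hAE' (Relation.ReflTransGen.single ⟨hE, hB, h⟩))
  have hnr2 : ¬ IsRankOnePair K A := fun h =>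
    hnp (fadj_reach_symm
      (Relation.ReflTransGen.head hBK' (Relation.ReflTransGen.single ⟨hK, hA, h⟩)))
  have hc1 := ml_cc1 hS hA hE hAE hB hcommAB hroot hnr1
  have heq := ml_eq hS hA hE hAE hB hK hBK hcommAB hroot hnr1
  have hcommBA : ∀ b ∈ B, ∀ a ∈ A, b * a = a * b := fun b hb a ha => (hcommAB a ha b hb).symm
  have hroot' : ∀ b ∈ B, ∀ a ∈ A, b ≠ 1 → a ≠ 1 → b * a ∈ rootElements S := by
    intro b hb a ha hb1 ha1
    rw [hcommBA b hb a ha]; exact hroot a ha b hb ha1 hb1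
  have hc1' := ml_cc1 hS hB hK hBK hA hcommBA hroot' hnr2
  have hc2' := ml_cc2 hS hB hK hBK hA hcommBA hroot' hnr2
  have heq' := ml_eq hS hB hK hBK hA hE hAE hcommBA hroot' hnr2
  obtain ⟨d', hd', hd'1⟩ := root_exists_ne_one hS hc1'.1
  -- some `b ∈ B` does not commute with `d'`
  obtain ⟨b, hb, hbd⟩ : ∃ b ∈ B, b * d' * b⁻¹ * d'⁻¹ ≠ 1 := by
    by_contra hcon
    push Not at hcon
    apply hS.ne_bot _ hc2'.1
    rw [← hc2'.2.2.2 d' hd' hd'1, Subgroup.closure_eq_bot_iff]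
    rintro _ ⟨b, hb, rfl⟩
    exact hcon b hb
  have hb1 : b ≠ 1 := by
    rintro rfl
    apply hbd; group
  have ha''A : d' * b * d'⁻¹ * b⁻¹ ∈ A := by
    have := cc_comm_mem' (A := B) (B := ⁅K, A⁆) hb hd'
    rwa [heq'] at this
  have ha''1 : d' * b * d'⁻¹ * b⁻¹ ≠ 1 := by
    intro h
    apply hbd
    have : b * d' * b⁻¹ * d'⁻¹ = (d' * b * d'⁻¹ * b⁻¹)⁻¹ := by group
    rw [this, h, inv_one]
  have ht : (d' * b * d'⁻¹ * b⁻¹) * b ∈ conjBy B d' := by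
    have : (d' * b * d'⁻¹ * b⁻¹) * b = d' * b * d'⁻¹ := by group
    rw [this]; exact conj_mem_conjBy hb
  obtain ⟨a'', -, ha'', ha''1, ht⟩ : ∃ a'', a'' = d' * b * d'⁻¹ * b⁻¹ ∧ a'' ∈ A ∧ a'' ≠ 1 ∧
      a'' * b ∈ conjBy B d' := ⟨_, rfl, ha''A, ha''1, ht⟩
  have hT : conjBy B d' ∈ S := hS.conj_mem B hB d'
  have hKd' : conjBy K d' = K :=
    conjBy_eq_self_of_commute (fun x hx => hc1'.2.1 d' hd' x (Subgroup.mem_sup_left hx))
  have hTK : IsRankOnePair (conjBy B d') K := by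
    have := rankOnePair_conjBy hBK d'
    rwa [hKd'] at this
  have hab : a'' * b = b * a'' := hcommAB a'' ha'' b hb
  rcases hS.pair E hE _ hT with h | h | h
  · -- `T` commutes with `E`
    rw [root_commutator_eq_bot_iff] at h
    have hz : a'' * b ∈ Subgroup.centralizer ((A ⊔ E : Subgroup G) : Set G) := by
      apply mem_centralizer_sup
      · intro x hx
        have e1 := hcommAB x hx b hb
        have e2 := root_comm_of_mem hS hA ha'' hx
        rw [mul_assoc, ← e1, ← mul_assoc, e2, mul_assoc]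
      · intro e he
        exact (h e he _ ht).symm
    have hz1 : a'' * b ≠ 1 := hne1 a'' ha'' b hb hb1
    have ha''inv1 : a''⁻¹ ≠ 1 := fun h1 => ha''1 (inv_eq_one.mp h1)
    apply root_central_mul_not_root hS hE hAE hz hz1 (A.inv_mem ha'') ha''inv1
    have : a'' * b * a''⁻¹ = b := by rw [hab]; group
    rw [this]
    exact ⟨hb1, B, hB, hb⟩
  · -- `(E, T)` a rank one pair: a path from `A` to `B`
    exact hnp (Relation.ReflTransGen.head hAE' (Relation.ReflTransGen.head ⟨hE, hT, h⟩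
      (Relation.ReflTransGen.head ⟨hT, hK, hTK⟩ (Relation.ReflTransGen.single (fadj_symm hBK')))))
  · -- commutator case
    have hcomm_t := root_commutatorCase_conj_commute hS hE (rootCommutatorCase_symm h) ht
    have hAD : ∀ a ∈ A, ∀ d ∈ ⁅E, B⁆, a * d * a⁻¹ * d⁻¹ ∈ B := by
      intro a ha d hd
      have := cc_comm_mem (A := A) (B := ⁅E, B⁆) ha hd
      rwa [heq] at this
    have hfin := fin_commute hS hE hc1 hAD ha'' hb hcomm_t
    have hEmem : E ∈ unipotentSubgroups A E := rankOne_right_mem_unipotent hAE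
    have hE₂mem : conjBy E a'' ∈ unipotentSubgroups A E :=
      rankOne_conjBy_mem_unipotent hEmem (Subgroup.mem_sup_left ha'')
    have hE₂ne : E ≠ conjBy E a'' := fun he =>
      ha''1 (rankOne_eq_one_of_normalizes hAE ha'' (conjBy_eq_self_iff.mp he.symm))
    obtain ⟨x, -, hx1, hx2⟩ := rankOne_two_trans hAE (rankOne_left_mem_unipotent A E) hEmem
      hEmem hE₂mem hAE.ne hE₂ne
    have hEE₂ : IsRankOnePair E (conjBy E a'') := by
      have := rankOnePair_conjBy hAE x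
      rwa [hx1, hx2] at this
    obtain ⟨g, hg, hg1⟩ := rankOne_exists_ne_one (RankOnePair_symm hEE₂)
    have hmem : conjBy E g ∈ unipotentSubgroups E (conjBy E a'') :=
      ⟨g, Subgroup.mem_sup_right hg, rfl⟩
    have hne : conjBy E g ≠ E := fun he =>
      hg1 (rankOne_eq_one_of_normalizes (RankOnePair_symm hEE₂) hg (conjBy_eq_self_iff.mp he))
    exact rankOne_unipotent_not_commute hEE₂ hmem (rankOne_left_mem_unipotent _ _) hne
      (hfin g hg)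

end Cfsg.Agent.Helper25
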