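import Mathlib
import Cfsg.Prelude.Def_RootSubgroups
import Cfsg.Agent.Helper25.RankOne
import Cfsg.Agent.Helper25.RootBasic
import Cfsg.Agent.Helper25.RootComm
import Cfsg.Agent.Helper25.RootComm2
import Cfsg.Agent.Helper25.RootComm3
import Cfsg.Agent.Helper25.RootComm4

set_option autoImplicit false

/-! Connectedness of the rank one graph (Timmesfeld II (2.10)). -/

namespace Cfsg.Agent.Helper25

open Cfsg
open scoped commutatorElement

variable {G : Type*} [Group G] {S : Set (Subgroup G)}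

theorem rankOne_conj_adj {A D : Subgroup G} (h : IsRankOnePair A D) {d : G} (hd : d ∈ D)
    (hd1 : d ≠ 1) : IsRankOnePair A (conjBy A d) := by
  have hmem : conjBy A d ∈ unipotentSubgroups A D := ⟨d, Subgroup.mem_sup_right hd, rfl⟩
  have hne : A ≠ conjBy A d := fun he =>
    hd1 (rankOne_eq_one_of_normalizes (RankOnePair_symm h) hd (conjBy_eq_self_iff.mp he.symm))
  obtain ⟨x, -, hx1, hx2⟩ := rankOne_two_trans h (rankOne_left_mem_unipotent A D)
    (rankOne_right_mem_unipotent h) (rankOne_left_mem_unipotent A D) hmem h.ne hne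
  have := rankOnePair_conjBy h x
  rwa [hx1, hx2] at this

/-- In the commutator case (with `A` non-isolated), `d A d⁻¹` is again a line partner of
`⁅A, D⁆`. -/
theorem cc_linePartner_conj (hS : IsRootSubgroupSet S) {A D E : Subgroup G} (hA : A ∈ S)
    (hc : RootCommutatorCase S A D) (hE : E ∈ S) (hAE : IsRankOnePair A E) {d : G} (hd : d ∈ D) :
    conjBy A d ∈ linePartners S ⁅A, D⁆ := by
  have hdC : ∀ c ∈ ⁅A, D⁆, d * c = c * d := fun c hcm => cc_central_right hc hd hcm
  have hsup : conjBy A d ⊔ ⁅A, D⁆ = A ⊔ ⁅A, D⁆ := by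
    apply le_antisymm
    · exact sup_le (cc_conjBy_le hd) le_sup_right
    · refine sup_le ?_ le_sup_right
      intro a ha
      have h1 : d * a * d⁻¹ ∈ conjBy A d := conj_mem_conjBy ha
      have h2 : d * a * d⁻¹ * a⁻¹ ∈ ⁅A, D⁆ := cc_comm_mem' ha hd
      have : a = (d * a * d⁻¹ * a⁻¹)⁻¹ * (d * a * d⁻¹) := by group
      rw [this]
      exact Subgroup.mul_mem _ (Subgroup.mem_sup_right (Subgroup.inv_mem _ h2))
        (Subgroup.mem_sup_left h1)
  refine ⟨⟨hS.conj_mem A hA d, ?_, ?_⟩, ?_⟩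
  · intro he
    apply cc_ne hS hc
    have h1 : conjBy ⁅A, D⁆ d⁻¹ = ⁅A, D⁆ := by
      apply conjBy_eq_self_of_commute
      intro x hx
      have h3 : d⁻¹ * x = d⁻¹ * (x * d) * d⁻¹ := by group
      rw [h3, ← hdC x hx]; group
    rw [conjBy_eq_iff] at he
    exact he.trans h1
  · rw [root_commutator_eq_bot_iff]
    intro x hx y hy
    have hy' := cc_conjBy_le (A := A) (B := D) hd hy
    obtain ⟨a, ha, c, hcm, rfl⟩ :=
      mem_sup_of_commute (fun a ha c hcm => cc_central_left hc ha hcm) hy'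
    have e1 := (cc_central_left hc ha hx).symm
    have e2 := root_comm_of_mem hS hc.1 hx hcm
    rw [← mul_assoc, e1, mul_assoc, e2, ← mul_assoc]
  · rw [sup_comm, hsup]
    exact cc_partition hS hA hc hE hAE

section Connected

variable (hS : IsRootSubgroupSet S) (hF : ∀ A ∈ S, ∃ E ∈ S, IsRankOnePair A E)

include hS hF

theorem root_reach_conj_elem {A D : Subgroup G} (hA : A ∈ S) (hD : D ∈ S) {d : G} (hd : d ∈ D) :
    Relation.ReflTransGen (FAdj S) A (conjBy A d) := by
  by_cases hd1 : d = 1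
  · rw [hd1, conjBy_one]
  rcases hS.pair A hA D hD with h | h | h
  · rw [root_commutator_eq_bot_iff] at h
    rw [conjBy_eq_self_of_commute (fun x hx => (h x hx d hd).symm)]
  · exact Relation.ReflTransGen.single ⟨hA, hS.conj_mem A hA d, rankOne_conj_adj h hd hd1⟩
  · obtain ⟨E, hE, hAE⟩ := hF A hA
    obtain ⟨K, hK, hCK⟩ := hF _ h.1
    have hAd : conjBy A d ∈ S := hS.conj_mem A hA d
    have r1 := root_line_reach hS h.1 hA hK hE hCK hAE (cc_linePartner hS hA h hE hAE)
    have r2 := root_line_reach hS h.1 hAd hK (hS.conj_mem E hE d) hCK (rankOnePair_conjBy hAE d)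
      (cc_linePartner_conj hS hA h hE hAE hd)
    exact (fadj_reach_symm r1).trans r2

theorem root_reach_conj {A : Subgroup G} (hA : A ∈ S) (g : G) :
    Relation.ReflTransGen (FAdj S) A (conjBy A g) := by
  let H : Subgroup G :=
    { carrier := {g | ∀ A ∈ S, Relation.ReflTransGen (FAdj S) A (conjBy A g)}
      one_mem' := by
        intro A _
        rw [conjBy_one]
      mul_mem' := by
        intro g h hg hh A hA
        rw [← conjBy_conjBy]
        exact (hh A hA).trans (hg _ (hS.conj_mem A hA h))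
      inv_mem' := by
        intro g hg A hA
        have h1 := hg _ (hS.conj_mem A hA g⁻¹)
        rw [conjBy_conjBy, mul_inv_cancel, conjBy_one] at h1
        exact fadj_reach_symm h1 }
  have hle : ∀ D ∈ S, D ≤ H := by
    intro D hD d hd A hA
    exact root_reach_conj_elem hS hF hA hD hd
  have htop : (⊤ : Subgroup G) ≤ H := by
    rw [← hS.generates]
    exact iSup₂_le hle
  exact htop (Subgroup.mem_top g) A hA

end Connected

theorem fadj_reach_conj {A B : Subgroup G} (h : Relation.ReflTransGen (FAdj S) A B) :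
    ∃ g : G, B = conjBy A g := by
  induction h with
  | refl => exact ⟨1, (conjBy_one A).symm⟩
  | tail _ hbc ih =>
    obtain ⟨g, rfl⟩ := ih
    obtain ⟨x, -, hx⟩ := rankOne_exists_conj hbc.2.2
    exact ⟨x * g, by rw [hx, conjBy_conjBy]⟩

/-- Timmesfeld II (2.10). -/
theorem root_connected_iff (hS : IsRootSubgroupSet S) (h2 : ∃ A ∈ S, ∃ B ∈ S, A ≠ B) :
    IsConnectedFamily (FAdj S) S ↔
      (IsConjClassOfSubgroups S ∧ ∃ A ∈ S, ¬ IsIsolatedIn (FAdj S) S A) := by
  obtain ⟨A₀, hA₀, B₀, hB₀, hne⟩ := h2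
  constructor
  · intro hconn
    refine ⟨⟨⟨A₀, hA₀⟩, fun A hA B hB => fadj_reach_conj (hconn A hA B hB)⟩, A₀, hA₀, ?_⟩
    rintro ⟨-, hiso⟩
    rcases (hconn A₀ hA₀ B₀ hB₀).cases_head with h | ⟨C, hAC, -⟩
    · exact hne h
    · exact (hiso C).1 hAC
  · rintro ⟨⟨-, hconj⟩, A₁, hA₁, hniso⟩
    obtain ⟨E₁, hE₁, hAE₁⟩ := root_exists_partner_of_not_isolated hniso hA₁
    have hF : ∀ A ∈ S, ∃ E ∈ S, IsRankOnePair A E := by
      intro A hA
      obtain ⟨g, rfl⟩ := hconj A₁ hA₁ A hA
      exact ⟨conjBy E₁ g, hS.conj_mem E₁ hE₁ g, rankOnePair_conjBy hAE₁ g⟩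
    intro A hA B hB
    obtain ⟨g, rfl⟩ := hconj A hA B hB
    exact root_reach_conj hS hF hA g

end Cfsg.Agent.Helper25
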