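import Mathlib
import Cfsg.Prelude.Def_RootSubgroups
import Cfsg.Agent.Helper25.RankOne

set_option autoImplicit false

/-! Rank one groups: normal subgroups, centre (Timmesfeld I (1.3), (1.10)). -/

namespace Cfsg.Agent.Helper25

open Cfsg

variable {G : Type*} [Group G] {A B : Subgroup G}

/-- If some element of a normal subgroup `N` of `⟨A, B⟩ = G` moves `A`, then `G = N A`. -/
theorem rankOne_sup_eq_top_of_moves (hX : A ⊔ B = ⊤) (h : IsRankOnePair A B) (N : Subgroup G)
    {n : G} (hn : n ∈ N) (hmove : conjBy A n ≠ A) : N ⊔ A = ⊤ := by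
  have hmem : conjBy A n ∈ unipotentSubgroups A B :=
    ⟨n, by rw [hX]; exact Subgroup.mem_top n, rfl⟩
  rcases rankOne_unipotent_cases h hmem with hA | ⟨a, ha, hBa⟩
  · exact absurd hA hmove
  · have hB : B = conjBy A (a⁻¹ * n) := by
      rw [← conjBy_conjBy, hBa, conjBy_conjBy, inv_mul_cancel, conjBy_one]
    have hBle : B ≤ N ⊔ A := by
      rw [hB]
      exact conjBy_le_of_mem le_sup_right
        (Subgroup.mul_mem _ (Subgroup.mem_sup_right (A.inv_mem ha)) (Subgroup.mem_sup_left hn))
    rw [eq_top_iff, ← hX]
    exact sup_le le_sup_right hBle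

/-- A normal subgroup of a rank one group `G = ⟨A, B⟩` either satisfies `G = N A` or normalizes
both `A` and `B`. -/
theorem rankOne_normal_dichotomy (hX : A ⊔ B = ⊤) (h : IsRankOnePair A B) (N : Subgroup G)
    [hN : N.Normal] :
    N ⊔ A = ⊤ ∨ (N ≤ Subgroup.normalizer (A : Set G) ∧ N ≤ Subgroup.normalizer (B : Set G)) := by
  by_cases hA : N ≤ Subgroup.normalizer (A : Set G)
  · by_cases hB : N ≤ Subgroup.normalizer (B : Set G)
    · exact Or.inr ⟨hA, hB⟩
    · left
      obtain ⟨n, hn, hnB⟩ := SetLike.not_le_iff_exists.mp hB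
      obtain ⟨g, -, hg⟩ := rankOne_exists_conj h
      have hn' : g⁻¹ * n * g ∈ N := by
        have := hN.conj_mem n hn g⁻¹
        simpa using this
      refine rankOne_sup_eq_top_of_moves hX h N hn' ?_
      intro he
      apply hnB
      rw [← conjBy_eq_self_iff]
      have h2 : conjBy A (n * g) = conjBy A g := by
        have : n * g = g * (g⁻¹ * n * g) := by simp [mul_assoc]
        rw [this, ← conjBy_conjBy, he]
      rw [hg, conjBy_conjBy, h2]
  · left
    obtain ⟨n, hn, hnA⟩ := SetLike.not_le_iff_exists.mp hA
    exact rankOne_sup_eq_top_of_moves hX h N hn (fun he => hnA (conjBy_eq_self_iff.mp he))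

/-- A normal subgroup normalizing `A` and `B` is central. -/
theorem rankOne_le_center (hX : A ⊔ B = ⊤) (h : IsRankOnePair A B) (N : Subgroup G)
    [hN : N.Normal] (hA : N ≤ Subgroup.normalizer (A : Set G))
    (hB : N ≤ Subgroup.normalizer (B : Set G)) : N ≤ Subgroup.center G := by
  intro n hn
  -- n commutes with A
  have comm : ∀ {A B : Subgroup G}, IsRankOnePair A B → N ≤ Subgroup.normalizer (A : Set G) →
      N ≤ Subgroup.normalizer (B : Set G) → ∀ a ∈ A, a * n = n * a := by
    intro A B h hA hB a ha
    have h1 : n * a * n⁻¹ * a⁻¹ ∈ A := by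
      refine A.mul_mem ?_ (A.inv_mem ha)
      exact ((Subgroup.mem_normalizer_iff).mp (hA hn) a).mp ha
    have h2 : n * a * n⁻¹ * a⁻¹ ∈ N := by
      have : n * a * n⁻¹ * a⁻¹ = n * (a * n⁻¹ * a⁻¹) := by simp [mul_assoc]
      rw [this]
      exact N.mul_mem hn (hN.conj_mem _ (N.inv_mem hn) a)
    have h3 := rankOne_eq_one_of_normalizes h h1 (hB h2)
    have : n * a = a * n := by
      have : n * a * n⁻¹ * a⁻¹ * a * n = a * n := by rw [h3, one_mul]
      rw [← this]; simp [mul_assoc]
    exact this.symm
  have hA' : A ≤ Subgroup.centralizer ({n} : Set G) := by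
    intro a ha
    rw [Subgroup.mem_centralizer_iff]
    intro x hx
    rw [Set.mem_singleton_iff] at hx
    rw [hx]; exact (comm h hA hB a ha).symm
  have hB' : B ≤ Subgroup.centralizer ({n} : Set G) := by
    intro b hb
    rw [Subgroup.mem_centralizer_iff]
    intro x hx
    rw [Set.mem_singleton_iff] at hx
    rw [hx]; exact (comm (RankOnePair_symm h) hB hA b hb).symm
  have htop : (⊤ : Subgroup G) ≤ Subgroup.centralizer ({n} : Set G) := by
    rw [← hX]; exact sup_le hA' hB'
  rw [Subgroup.mem_center_iff]
  intro g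
  have := htop (Subgroup.mem_top g)
  rw [Subgroup.mem_centralizer_iff] at this
  exact (this n rfl).symm

theorem rankOne_normal_cases (hX : A ⊔ B = ⊤) (h : IsRankOnePair A B) (N : Subgroup G)
    [hN : N.Normal] : N ⊔ A = ⊤ ∨ N ≤ Subgroup.center G := by
  rcases rankOne_normal_dichotomy hX h N with h1 | ⟨h1, h2⟩
  · exact Or.inl h1
  · exact Or.inr (rankOne_le_center hX h N h1 h2)

/-- A rank one group is not abelian. -/
theorem rankOne_center_ne_top (_hX : A ⊔ B = ⊤) (h : IsRankOnePair A B) :
    Subgroup.center G ≠ ⊤ := by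
  intro hc
  obtain ⟨a, ha, ha1⟩ := rankOne_exists_ne_one h
  apply ha1
  apply rankOne_eq_one_of_normalizes h ha
  have : a ∈ Subgroup.center G := by rw [hc]; exact Subgroup.mem_top a
  exact Subgroup.center_le_normalizer _ this

/-- In a rank one group `A` is not normal. -/
theorem rankOne_left_not_normal (h : IsRankOnePair A B) : ¬ A.Normal := by
  intro hn
  obtain ⟨g, -, hg⟩ := rankOne_exists_conj h
  apply h.ne
  rw [hg]
  symm
  rw [conjBy_eq_self_iff]
  rw [Subgroup.normalizer_eq_top]
  exact Subgroup.mem_top g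

theorem rankOne_upperCentralSeries_two (hX : A ⊔ B = ⊤) (h : IsRankOnePair A B) :
    Subgroup.upperCentralSeries G 2 = Subgroup.center G := by
  apply le_antisymm
  · rcases rankOne_normal_dichotomy hX h (Subgroup.upperCentralSeries G 2) with h1 | ⟨h1, h2⟩
    · exfalso
      -- some element of Z₂ moves A
      have hex : ∃ n ∈ Subgroup.upperCentralSeries G 2, conjBy A n ≠ A := by
        by_contra hcon
        push Not at hcon
        apply rankOne_left_not_normal h
        have hle : Subgroup.upperCentralSeries G 2 ≤ Subgroup.normalizer (A : Set G) :=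
          fun n hn => conjBy_eq_self_iff.mp (hcon n hn)
        have hle2 : A ≤ Subgroup.normalizer (A : Set G) := Subgroup.le_normalizer
        have : Subgroup.normalizer (A : Set G) = ⊤ := by
          rw [eq_top_iff, ← h1]; exact sup_le hle hle2
        exact Subgroup.normalizer_eq_top_iff.mp this
      obtain ⟨n, hn, hmove⟩ := hex
      have hmem : conjBy A n ∈ unipotentSubgroups A B :=
        ⟨n, by rw [hX]; exact Subgroup.mem_top n, rfl⟩
      rcases rankOne_unipotent_cases h hmem with hA | ⟨a, ha, hBa⟩
      · exact hmove hA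
      · have hB : B = conjBy A (a⁻¹ * n) := by
          rw [← conjBy_conjBy, hBa, conjBy_conjBy, inv_mul_cancel, conjBy_one]
        -- conjBy A n ≤ Z(G) ⊔ A
        have hAn : conjBy A n ≤ Subgroup.center G ⊔ A := by
          intro x hx
          rw [mem_conjBy_iff] at hx
          have hx' : x = (n * (n⁻¹ * x * n) * n⁻¹ * (n⁻¹ * x * n)⁻¹) * (n⁻¹ * x * n) := by
            simp [mul_assoc]
          rw [hx']
          refine Subgroup.mul_mem _ (Subgroup.mem_sup_left ?_) (Subgroup.mem_sup_right hx)
          have := (Subgroup.mem_upperCentralSeries_succ_iff (G := G) (n := 1)).mp hn (n⁻¹ * x * n)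
          rw [Subgroup.upperCentralSeries_one] at this
          exact this
        have hBle : B ≤ Subgroup.center G ⊔ A := by
          rw [hB, ← conjBy_conjBy]
          exact conjBy_le_of_mem hAn (Subgroup.mem_sup_right (A.inv_mem ha))
        have htop : Subgroup.center G ⊔ A = ⊤ := by
          rw [eq_top_iff, ← hX]; exact sup_le le_sup_right hBle
        apply rankOne_left_not_normal h
        have : Subgroup.normalizer (A : Set G) = ⊤ := by
          rw [eq_top_iff, ← htop]
          exact sup_le (Subgroup.center_le_normalizer _) Subgroup.le_normalizer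
        exact Subgroup.normalizer_eq_top_iff.mp this
    · exact rankOne_le_center hX h _ h1 h2
  · rw [← Subgroup.upperCentralSeries_one]
    exact Subgroup.upperCentralSeries_mono G one_le_two

theorem rankOne_not_isNilpotent (hX : A ⊔ B = ⊤) (h : IsRankOnePair A B) :
    ¬ Group.IsNilpotent G := by
  intro hnil
  obtain ⟨n, hn⟩ := hnil.nilpotent'
  have h12 : Subgroup.upperCentralSeries G 1 = Subgroup.upperCentralSeries G (1 + 1) := by
    rw [Subgroup.upperCentralSeries_one]; exact (rankOne_upperCentralSeries_two hX h).symm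
  have h1 : Subgroup.upperCentralSeries G 1 = Subgroup.upperCentralSeries G (n + 1) :=
    Subgroup.upperCentralSeries.eq_ge_of_eq_succ (by omega) h12
  have h2 : Subgroup.upperCentralSeries G (n + 1) = ⊤ := by
    rw [eq_top_iff, ← hn]; exact Subgroup.upperCentralSeries_mono G (Nat.le_succ n)
  rw [h2, Subgroup.upperCentralSeries_one] at h1
  exact rankOne_center_ne_top hX h h1

/-- A perfect rank one group is quasisimple. -/
theorem rankOne_isQuasisimple (hX : A ⊔ B = ⊤) (h : IsRankOnePair A B) (hperf : Group.IsPerfect G) :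
    IsQuasisimple G := by
  refine ⟨hperf, ?_⟩
  have hnt : Nontrivial (G ⧸ Subgroup.center G) := by
    rw [← not_subsingleton_iff_nontrivial, QuotientGroup.subsingleton_iff]
    exact rankOne_center_ne_top hX h
  refine { exists_pair_ne := hnt.exists_pair_ne, eq_bot_or_eq_top_of_normal := ?_ }
  intro M hM
  have hNn : (M.comap (QuotientGroup.mk' (Subgroup.center G))).Normal := hM.comap _
  have hMeq : M = (M.comap (QuotientGroup.mk' (Subgroup.center G))).map
      (QuotientGroup.mk' (Subgroup.center G)) :=
    (Subgroup.map_comap_eq_self_of_surjective (QuotientGroup.mk'_surjective _) M).symm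
  rcases rankOne_normal_cases hX h (M.comap (QuotientGroup.mk' (Subgroup.center G))) with h1 | h1
  · right
    -- G ⧸ N is nilpotent and perfect, hence trivial
    have hsurj : Function.Surjective
        ((QuotientGroup.mk' (M.comap (QuotientGroup.mk' (Subgroup.center G)))).comp A.subtype) := by
      intro q
      obtain ⟨x, rfl⟩ := QuotientGroup.mk'_surjective _ q
      have hx : x ∈ M.comap (QuotientGroup.mk' (Subgroup.center G)) ⊔ A := by
        rw [h1]; exact Subgroup.mem_top x
      rw [← SetLike.mem_coe, Subgroup.normal_mul, Set.mem_mul] at hx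
      obtain ⟨n, hn, a, ha, rfl⟩ := hx
      refine ⟨⟨a, ha⟩, ?_⟩
      simp only [MonoidHom.comp_apply, Subgroup.subtype_apply, QuotientGroup.mk'_apply]
      rw [QuotientGroup.mk_mul, (QuotientGroup.eq_one_iff n).mpr hn, one_mul]
    have hnilA : Group.IsNilpotent A := h.nilpotent_left
    have hnilQ : Group.IsNilpotent (G ⧸ M.comap (QuotientGroup.mk' (Subgroup.center G))) :=
      Group.nilpotent_of_surjective _ hsurj
    have hsub : Subsingleton (G ⧸ M.comap (QuotientGroup.mk' (Subgroup.center G))) := by
      by_contra hns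
      rw [not_subsingleton_iff_nontrivial] at hns
      exact Group.IsPerfect.not_isNilpotent _ hnilQ
    rw [QuotientGroup.subsingleton_iff] at hsub
    rw [hMeq, hsub, ← MonoidHom.range_eq_map]
    exact MonoidHom.range_eq_top_of_surjective _ (QuotientGroup.mk'_surjective _)
  · left
    rw [hMeq, eq_bot_iff]
    calc (M.comap (QuotientGroup.mk' (Subgroup.center G))).map (QuotientGroup.mk' (Subgroup.center G))
        ≤ (Subgroup.center G).map (QuotientGroup.mk' (Subgroup.center G)) := Subgroup.map_mono h1
      _ = ⊥ := by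
        rw [eq_bot_iff]
        rintro _ ⟨z, hz, rfl⟩
        rw [Subgroup.mem_bot, QuotientGroup.mk'_apply]
        exact (QuotientGroup.eq_one_iff z).mpr hz

end Cfsg.Agent.Helper25
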