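import Mathlib
import Cfsg.Prelude.Def_RootSubgroups

set_option autoImplicit false

/-! Unipotent linear groups via the augmentation span `aug H = span {h - 1 | h ∈ H}` inside `End M`. -/

namespace Cfsg.Agent.Helper25.Unip

open Cfsg

variable {k : Type*} [Field k] {M : Type*} [AddCommGroup M] [Module k M]

/-- The span of the endomorphisms `h - 1`, `h ∈ H`. -/
def aug (H : Subgroup (LinearMap.GeneralLinearGroup k M)) : Submodule k (Module.End k M) :=
  Submodule.span k ((fun g : LinearMap.GeneralLinearGroup k M => ((g : Module.End k M) - 1)) ''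
    (H : Set (LinearMap.GeneralLinearGroup k M)))

theorem sub_one_mem_aug {H : Subgroup (LinearMap.GeneralLinearGroup k M)}
    {g : LinearMap.GeneralLinearGroup k M} (hg : g ∈ H) : ((g : Module.End k M) - 1) ∈ aug H :=
  Submodule.subset_span ⟨g, hg, rfl⟩

theorem aug_mono {H K : Subgroup (LinearMap.GeneralLinearGroup k M)} (h : H ≤ K) : aug H ≤ aug K :=
  Submodule.span_mono (Set.image_mono h)

theorem aug_le_iff {H : Subgroup (LinearMap.GeneralLinearGroup k M)} {R : Submodule k (Module.End k M)} :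
    aug H ≤ R ↔ ∀ g ∈ H, ((g : Module.End k M) - 1) ∈ R := by
  unfold aug
  rw [Submodule.span_le]
  constructor
  · intro h g hg
    exact h ⟨g, hg, rfl⟩
  · rintro h _ ⟨g, hg, rfl⟩
    exact h g hg

theorem aug_mul_le (H : Subgroup (LinearMap.GeneralLinearGroup k M)) : aug H * aug H ≤ aug H := by
  unfold aug
  rw [Submodule.span_mul_span, Submodule.span_le]
  rintro _ ⟨_, ⟨g, hg, rfl⟩, _, ⟨h, hh, rfl⟩, rfl⟩
  have e : ((g : Module.End k M) - 1) * ((h : Module.End k M) - 1)
      = (((g * h : LinearMap.GeneralLinearGroup k M) : Module.End k M) - 1)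
        - ((g : Module.End k M) - 1) - ((h : Module.End k M) - 1) := by
    rw [Units.val_mul]; noncomm_ring
  show ((g : Module.End k M) - 1) * ((h : Module.End k M) - 1) ∈ _
  rw [e]
  exact Submodule.sub_mem _ (Submodule.sub_mem _ (sub_one_mem_aug (H.mul_mem hg hh))
    (sub_one_mem_aug hg)) (sub_one_mem_aug hh)

/-- The subgroup of all `g` with `g - 1` and `g⁻¹ - 1` in a multiplicatively closed subspace. -/
def subgroupOf (R : Submodule k (Module.End k M)) (hR : R * R ≤ R) :
    Subgroup (LinearMap.GeneralLinearGroup k M) where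
  carrier := {g | ((g : Module.End k M) - 1) ∈ R ∧
    (((g⁻¹ : LinearMap.GeneralLinearGroup k M) : Module.End k M) - 1) ∈ R}
  one_mem' := by simp
  mul_mem' := by
    rintro g h ⟨hg, hg'⟩ ⟨hh, hh'⟩
    have key : ∀ a b : LinearMap.GeneralLinearGroup k M, ((a : Module.End k M) - 1) ∈ R →
        ((b : Module.End k M) - 1) ∈ R → (((a * b : LinearMap.GeneralLinearGroup k M) :
          Module.End k M) - 1) ∈ R := by
      intro a b ha hb
      have e : (((a * b : LinearMap.GeneralLinearGroup k M) : Module.End k M) - 1)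
          = ((a : Module.End k M) - 1) * ((b : Module.End k M) - 1)
            + ((a : Module.End k M) - 1) + ((b : Module.End k M) - 1) := by
        rw [Units.val_mul]; noncomm_ring
      rw [e]
      exact R.add_mem (R.add_mem (hR (Submodule.mul_mem_mul ha hb)) ha) hb
    refine ⟨key g h hg hh, ?_⟩
    rw [mul_inv_rev]
    exact key _ _ hh' hg'
  inv_mem' := by
    rintro g ⟨hg, hg'⟩
    exact ⟨hg', by simpa using hg⟩

theorem mem_subgroupOf {R : Submodule k (Module.End k M)} {hR : R * R ≤ R}
    {g : LinearMap.GeneralLinearGroup k M} : g ∈ subgroupOf R hR ↔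
      ((g : Module.End k M) - 1) ∈ R ∧
        (((g⁻¹ : LinearMap.GeneralLinearGroup k M) : Module.End k M) - 1) ∈ R := Iff.rfl

theorem le_subgroupOf {R : Submodule k (Module.End k M)} (hR : R * R ≤ R)
    {A : Subgroup (LinearMap.GeneralLinearGroup k M)}
    (hA : ∀ a ∈ A, ((a : Module.End k M) - 1) ∈ R) : A ≤ subgroupOf R hR :=
  fun a ha => ⟨hA a ha, hA _ (A.inv_mem ha)⟩

/-- If every member of a family has its augmentation inside a multiplicatively closed `R`, so does
the join. -/
theorem aug_sSup_le {R : Submodule k (Module.End k M)} (hR : R * R ≤ R)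
    {𝒜 : Set (Subgroup (LinearMap.GeneralLinearGroup k M))}
    (h : ∀ A ∈ 𝒜, ∀ a ∈ A, ((a : Module.End k M) - 1) ∈ R) : aug (sSup 𝒜) ≤ R := by
  rw [aug_le_iff]
  intro g hg
  have : sSup 𝒜 ≤ subgroupOf R hR := sSup_le fun A hA => le_subgroupOf hR (h A hA)
  exact (this hg).1

theorem aug_sup_le {R : Submodule k (Module.End k M)} (hR : R * R ≤ R)
    {A B : Subgroup (LinearMap.GeneralLinearGroup k M)}
    (hA : aug A ≤ R) (hB : aug B ≤ R) : aug (A ⊔ B) ≤ R := by
  rw [aug_le_iff]
  intro g hg
  have : A ⊔ B ≤ subgroupOf R hR :=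
    sup_le (le_subgroupOf hR (aug_le_iff.1 hA)) (le_subgroupOf hR (aug_le_iff.1 hB))
  exact (this hg).1

/-! ### Powers of multiplicatively closed subspaces -/

theorem pow_succ_le {R : Submodule k (Module.End k M)} (hR : R * R ≤ R) (j : ℕ) :
    R ^ (j + 2) ≤ R ^ (j + 1) := by
  induction j with
  | zero => simpa [pow_two] using hR
  | succ j ih =>
    rw [pow_succ R (j + 2), pow_succ R (j + 1)]
    exact mul_le_mul_left ih R

theorem pow_le_self {R : Submodule k (Module.End k M)} (hR : R * R ≤ R) (j : ℕ) :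
    R ^ (j + 1) ≤ R := by
  induction j with
  | zero => simp
  | succ j ih => exact (pow_succ_le hR j).trans ih

theorem pow_eq_bot_of_le {R : Submodule k (Module.End k M)} {n m : ℕ} (h : R ^ n = ⊥)
    (hnm : n ≤ m) : R ^ m = ⊥ := by
  obtain ⟨c, rfl⟩ := Nat.exists_eq_add_of_le hnm
  rw [pow_add, h, Submodule.bot_mul]

/-! ### Unipotency in terms of `aug` -/

theorem list_prod_mem_pow {R : Submodule k (Module.End k M)}
    (l : List (Module.End k M)) (h : ∀ x ∈ l, x ∈ R) : l.prod ∈ R ^ l.length := by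
  induction l with
  | nil => simp [Submodule.one_le.1 le_rfl]
  | cons a l ih =>
    rw [List.prod_cons, List.length_cons, pow_succ']
    exact Submodule.mul_mem_mul (h a (by simp)) (ih fun x hx => h x (by simp [hx]))

theorem isUnipotentOn_def' {H : Subgroup (LinearMap.GeneralLinearGroup k M)} :
    IsUnipotentOn H ↔ ∃ n : ℕ, ∀ l : List (LinearMap.GeneralLinearGroup k M),
      (∀ g ∈ l, g ∈ H) → l.length = n →
        (l.map fun g : LinearMap.GeneralLinearGroup k M => ((g : Module.End k M) - 1)).prod = 0 := by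
  unfold IsUnipotentOn
  have e : ∀ l : List (LinearMap.GeneralLinearGroup k M),
      (List.map (fun g : M →ₗ[k] M => g - 1) (l >>= fun a => pure (a : M →ₗ[k] M)))
        = l.map fun g : LinearMap.GeneralLinearGroup k M => ((g : Module.End k M) - 1) := by
    intro l
    induction l with
    | nil => rfl
    | cons a l ih =>
      simp only [List.bind_eq_flatMap, List.flatMap_cons, List.map_append, List.map_cons] at ih ⊢
      rw [ih]
      rfl
  simp only [e]

theorem isUnipotentOn_of_aug_pow {H : Subgroup (LinearMap.GeneralLinearGroup k M)} {n : ℕ}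
    (h : aug H ^ n = ⊥) : IsUnipotentOn H := by
  rw [isUnipotentOn_def']
  refine ⟨n, fun l hl hn => ?_⟩
  have := list_prod_mem_pow (R := aug H)
    (l.map fun g : LinearMap.GeneralLinearGroup k M => ((g : Module.End k M) - 1)) (by
    intro x hx
    rw [List.mem_map] at hx
    obtain ⟨g, hg, rfl⟩ := hx
    exact sub_one_mem_aug (hl g hg))
  rw [List.length_map, hn, h, Submodule.mem_bot] at this
  exact this

theorem aug_pow_of_isUnipotentOn {H : Subgroup (LinearMap.GeneralLinearGroup k M)}
    (h : IsUnipotentOn H) : ∃ n, aug H ^ n = ⊥ := by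
  rw [isUnipotentOn_def'] at h
  obtain ⟨n, hn⟩ := h
  refine ⟨n, ?_⟩
  unfold aug
  rw [Submodule.span_pow, eq_bot_iff, Submodule.span_le]
  intro a ha
  rw [Set.mem_pow] at ha
  obtain ⟨f, rfl⟩ := ha
  choose g hg hfg using fun i => (f i).2
  have := hn (List.ofFn g) (by
    intro x hx
    rw [List.mem_ofFn] at hx
    obtain ⟨i, rfl⟩ := hx
    exact hg i) (by simp)
  rw [List.map_ofFn] at this
  have e : (fun i => ((f i : Module.End k M))) = ((fun g : LinearMap.GeneralLinearGroup k M =>
      ((g : Module.End k M) - 1)) ∘ g) := by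
    funext i
    exact (hfg i).symm
  rw [e]
  exact this

theorem isUnipotentOn_iff {H : Subgroup (LinearMap.GeneralLinearGroup k M)} :
    IsUnipotentOn H ↔ ∃ n, aug H ^ n = ⊥ :=
  ⟨aug_pow_of_isUnipotentOn, fun ⟨_, h⟩ => isUnipotentOn_of_aug_pow h⟩

theorem isUnipotentOn_of_aug_le {H K : Subgroup (LinearMap.GeneralLinearGroup k M)}
    (hKH : aug K ≤ aug H) (h : IsUnipotentOn H) : IsUnipotentOn K := by
  obtain ⟨n, hn⟩ := aug_pow_of_isUnipotentOn h
  refine isUnipotentOn_of_aug_pow (n := n) ?_
  rw [eq_bot_iff, ← hn]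
  exact pow_le_pow_left' hKH n

end Cfsg.Agent.Helper25.Unip
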