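import Mathlib
import Cfsg.Prelude.Def_RootSubgroups
import Cfsg.Agent.Helper25.UnipAlg

set_option autoImplicit false

/-! A unipotent group normalized by a unipotent group: the join is unipotent. -/

namespace Cfsg.Agent.Helper25.Unip

open Cfsg

variable {k : Type*} [Field k] {M : Type*} [AddCommGroup M] [Module k M]

theorem aug_mul_aug_le {D Y : Subgroup (LinearMap.GeneralLinearGroup k M)}
    (hN : ∀ y ∈ Y, ∀ d ∈ D, y * d * y⁻¹ ∈ D) :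
    aug Y * aug D ≤ aug D ⊔ aug D * aug Y := by
  unfold aug
  rw [Submodule.span_mul_span, Submodule.span_le]
  rintro _ ⟨_, ⟨y, hy, rfl⟩, _, ⟨d, hd, rfl⟩, rfl⟩
  have hd' := hN y hy d hd
  have e : (((y * d * y⁻¹ : LinearMap.GeneralLinearGroup k M)) : Module.End k M)
      * (y : Module.End k M) = (y : Module.End k M) * (d : Module.End k M) := by
    rw [← Units.val_mul, ← Units.val_mul]
    congr 1
    group
  have e2 : ((y : Module.End k M) - 1) * ((d : Module.End k M) - 1)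
      = ((((y * d * y⁻¹ : LinearMap.GeneralLinearGroup k M)) : Module.End k M) - 1)
          * ((y : Module.End k M) - 1)
        + ((((y * d * y⁻¹ : LinearMap.GeneralLinearGroup k M)) : Module.End k M) - 1)
        - ((d : Module.End k M) - 1) := by
    have e3 : ((((y * d * y⁻¹ : LinearMap.GeneralLinearGroup k M)) : Module.End k M) - 1)
          * ((y : Module.End k M) - 1)
        = (y : Module.End k M) * (d : Module.End k M)
          - (((y * d * y⁻¹ : LinearMap.GeneralLinearGroup k M)) : Module.End k M)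
          - (y : Module.End k M) + 1 := by
      rw [← e]; noncomm_ring
    rw [e3]
    noncomm_ring
  show ((y : Module.End k M) - 1) * ((d : Module.End k M) - 1) ∈ _
  rw [e2]
  have h1 : ((((y * d * y⁻¹ : LinearMap.GeneralLinearGroup k M)) : Module.End k M) - 1) ∈ aug D :=
    sub_one_mem_aug hd'
  have h2 : ((d : Module.End k M) - 1) ∈ aug D := sub_one_mem_aug hd
  have h3 : ((y : Module.End k M) - 1) ∈ aug Y := sub_one_mem_aug hy
  refine Submodule.sub_mem _ (Submodule.add_mem _ ?_ ?_) ?_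
  · exact (le_sup_right : _ ≤ aug D ⊔ aug D * aug Y) (Submodule.mul_mem_mul h1 h3)
  · exact (le_sup_left : _ ≤ aug D ⊔ aug D * aug Y) h1
  · exact (le_sup_left : _ ≤ aug D ⊔ aug D * aug Y) h2

section semiring

variable {P Q : Submodule k (Module.End k M)}

theorem sup_mul_sup_le {A B C D X : Submodule k (Module.End k M)} (h1 : A * C ≤ X)
    (h2 : A * D ≤ X) (h3 : B * C ≤ X) (h4 : B * D ≤ X) : (A ⊔ B) * (C ⊔ D) ≤ X := by
  rw [Submodule.sup_mul, Submodule.mul_sup, Submodule.mul_sup]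
  exact sup_le (sup_le h1 h2) (sup_le h3 h4)

theorem one_sup_mul_self (hQ : Q * Q ≤ Q) : (1 ⊔ Q) * (1 ⊔ Q) ≤ 1 ⊔ Q := by
  rw [Submodule.sup_mul, Submodule.mul_sup, Submodule.mul_sup, one_mul, one_mul, mul_one]
  exact sup_le (sup_le le_sup_left le_sup_right) (sup_le le_sup_right (hQ.trans le_sup_right))

theorem one_sup_mul_le (hQP : Q * P ≤ P ⊔ P * Q) : (1 ⊔ Q) * P ≤ P * (1 ⊔ Q) := by
  rw [Submodule.sup_mul, Submodule.mul_sup, one_mul, mul_one]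
  exact sup_le le_sup_left hQP

theorem ideal_pow_le (hQ : Q * Q ≤ Q) (hQP : Q * P ≤ P ⊔ P * Q) (j : ℕ) :
    (P * (1 ⊔ Q)) ^ (j + 1) ≤ P ^ (j + 1) * (1 ⊔ Q) := by
  induction j with
  | zero => simp
  | succ j ih =>
    rw [pow_succ (P * (1 ⊔ Q)) (j + 1)]
    calc (P * (1 ⊔ Q)) ^ (j + 1) * (P * (1 ⊔ Q))
        ≤ (P ^ (j + 1) * (1 ⊔ Q)) * (P * (1 ⊔ Q)) := mul_le_mul_left ih _
      _ = P ^ (j + 1) * (((1 ⊔ Q) * P) * (1 ⊔ Q)) := by simp only [mul_assoc]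
      _ ≤ P ^ (j + 1) * ((P * (1 ⊔ Q)) * (1 ⊔ Q)) :=
          mul_le_mul_right (mul_le_mul_left (one_sup_mul_le hQP) _) _
      _ = P ^ (j + 1 + 1) * ((1 ⊔ Q) * (1 ⊔ Q)) := by rw [pow_succ P (j + 1)]; simp only [mul_assoc]
      _ ≤ P ^ (j + 1 + 1) * (1 ⊔ Q) := mul_le_mul_right (one_sup_mul_self hQ) _

theorem ideal_mul_self (hP : P * P ≤ P) (hQ : Q * Q ≤ Q) (hQP : Q * P ≤ P ⊔ P * Q) :
    (P * (1 ⊔ Q)) * (P * (1 ⊔ Q)) ≤ P * (1 ⊔ Q) := by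
  calc (P * (1 ⊔ Q)) * (P * (1 ⊔ Q)) = P * (((1 ⊔ Q) * P) * (1 ⊔ Q)) := by simp only [mul_assoc]
    _ ≤ P * ((P * (1 ⊔ Q)) * (1 ⊔ Q)) :=
        mul_le_mul_right (mul_le_mul_left (one_sup_mul_le hQP) _) _
    _ = (P * P) * ((1 ⊔ Q) * (1 ⊔ Q)) := by simp only [mul_assoc]
    _ ≤ P * (1 ⊔ Q) := mul_le_mul' hP (one_sup_mul_self hQ)

theorem ideal_mul_right (hQ : Q * Q ≤ Q) : (P * (1 ⊔ Q)) * Q ≤ P * (1 ⊔ Q) := by
  calc (P * (1 ⊔ Q)) * Q ≤ (P * (1 ⊔ Q)) * (1 ⊔ Q) := mul_le_mul_right le_sup_right _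
    _ = P * ((1 ⊔ Q) * (1 ⊔ Q)) := by rw [mul_assoc]
    _ ≤ P * (1 ⊔ Q) := mul_le_mul_right (one_sup_mul_self hQ) _

theorem ideal_mul_left (hQ : Q * Q ≤ Q) (hQP : Q * P ≤ P ⊔ P * Q) :
    Q * (P * (1 ⊔ Q)) ≤ P * (1 ⊔ Q) := by
  calc Q * (P * (1 ⊔ Q)) ≤ (1 ⊔ Q) * (P * (1 ⊔ Q)) := mul_le_mul_left le_sup_right _
    _ = ((1 ⊔ Q) * P) * (1 ⊔ Q) := by rw [mul_assoc]
    _ ≤ (P * (1 ⊔ Q)) * (1 ⊔ Q) := mul_le_mul_left (one_sup_mul_le hQP) _
    _ = P * ((1 ⊔ Q) * (1 ⊔ Q)) := by rw [mul_assoc]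
    _ ≤ P * (1 ⊔ Q) := mul_le_mul_right (one_sup_mul_self hQ) _

theorem total_mul_self (hP : P * P ≤ P) (hQ : Q * Q ≤ Q) (hQP : Q * P ≤ P ⊔ P * Q) :
    (P * (1 ⊔ Q) ⊔ Q) * (P * (1 ⊔ Q) ⊔ Q) ≤ P * (1 ⊔ Q) ⊔ Q := by
  refine sup_mul_sup_le ?_ ?_ ?_ ?_
  · exact (ideal_mul_self hP hQ hQP).trans le_sup_left
  · exact (ideal_mul_right hQ).trans le_sup_left
  · exact (ideal_mul_left hQ hQP).trans le_sup_left
  · exact hQ.trans le_sup_right

theorem total_pow_le (hP : P * P ≤ P) (hQ : Q * Q ≤ Q) (hQP : Q * P ≤ P ⊔ P * Q) (j : ℕ) :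
    (P * (1 ⊔ Q) ⊔ Q) ^ (j + 1) ≤ P * (1 ⊔ Q) ⊔ Q ^ (j + 1) := by
  induction j with
  | zero => simp
  | succ j ih =>
    rw [pow_succ (P * (1 ⊔ Q) ⊔ Q) (j + 1)]
    refine (mul_le_mul_left ih _).trans ?_
    refine sup_mul_sup_le ?_ ?_ ?_ ?_
    · exact (ideal_mul_self hP hQ hQP).trans le_sup_left
    · exact (ideal_mul_right hQ).trans le_sup_left
    · exact ((mul_le_mul_left (pow_le_self hQ j) _).trans (ideal_mul_left hQ hQP)).trans le_sup_left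
    · rw [← pow_succ]
      exact le_sup_right

theorem total_nilpotent (hP : P * P ≤ P) (hQ : Q * Q ≤ Q) (hQP : Q * P ≤ P ⊔ P * Q) {n m : ℕ}
    (hPn : P ^ n = ⊥) (hQm : Q ^ m = ⊥) : (P * (1 ⊔ Q) ⊔ Q) ^ ((m + 1) * (n + 1)) = ⊥ := by
  rw [eq_bot_iff, pow_mul]
  have h1 : (P * (1 ⊔ Q) ⊔ Q) ^ (m + 1) ≤ P * (1 ⊔ Q) := by
    refine (total_pow_le hP hQ hQP m).trans ?_
    rw [pow_eq_bot_of_le hQm (Nat.le_succ m)]
    simp
  refine (pow_le_pow_left' h1 (n + 1)).trans ?_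
  refine (ideal_pow_le hQ hQP n).trans ?_
  rw [pow_eq_bot_of_le hPn (Nat.le_succ n), Submodule.bot_mul]

end semiring

/-- A unipotent group `D` normalized by a unipotent group `Y`: the join is unipotent. -/
theorem isUnipotentOn_sup {D Y : Subgroup (LinearMap.GeneralLinearGroup k M)}
    (hD : IsUnipotentOn D) (hY : IsUnipotentOn Y)
    (hN : ∀ y ∈ Y, ∀ d ∈ D, y * d * y⁻¹ ∈ D) : IsUnipotentOn (D ⊔ Y) := by
  obtain ⟨n, hn⟩ := aug_pow_of_isUnipotentOn hD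
  obtain ⟨m, hm⟩ := aug_pow_of_isUnipotentOn hY
  have hP := aug_mul_le D
  have hQ := aug_mul_le Y
  have hQP := aug_mul_aug_le hN
  have hle : aug (D ⊔ Y) ≤ aug D * (1 ⊔ aug Y) ⊔ aug Y := by
    refine aug_sup_le (total_mul_self hP hQ hQP) ?_ le_sup_right
    refine le_trans ?_ le_sup_left
    rw [Submodule.mul_sup, mul_one]
    exact le_sup_left
  refine isUnipotentOn_of_aug_pow (n := (m + 1) * (n + 1)) ?_
  rw [eq_bot_iff, ← total_nilpotent hP hQ hQP hn hm]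
  exact pow_le_pow_left' hle _

end Cfsg.Agent.Helper25.Unip
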