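import Mathlib
import Cfsg.Prelude.Def_RootSubgroups
import Cfsg.Agent.Helper25.UnipAlg
import Cfsg.Agent.Helper25.UnipSup

set_option autoImplicit false

/-! Baer–Suzuki for families of unipotent subgroups of `GL(M)` (Alperin–Lyons style argument). -/

namespace Cfsg.Agent.Helper25.Unip

open Cfsg

variable {k : Type*} [Field k] {M : Type*} [AddCommGroup M] [Module k M]

local notation "GLkM" => LinearMap.GeneralLinearGroup k M

/-- A subfamily of `W` generating a unipotent group. -/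
def Good (W 𝒰 : Set (Subgroup GLkM)) : Prop := 𝒰 ⊆ W ∧ IsUnipotentOn (sSup 𝒰)

/-- A maximal good subfamily. -/
def MaxGood (W 𝒰 : Set (Subgroup GLkM)) : Prop :=
  Good W 𝒰 ∧ ∀ 𝒱, Good W 𝒱 → 𝒰 ⊆ 𝒱 → 𝒱 ⊆ 𝒰

/-- The closure of a family: all members of `W` whose augmentation lies in that of the join. -/
def cl (W 𝒰 : Set (Subgroup GLkM)) : Set (Subgroup GLkM) :=
  {A | A ∈ W ∧ aug A ≤ aug (sSup 𝒰)}

theorem subset_cl {W 𝒰 : Set (Subgroup GLkM)} (h : 𝒰 ⊆ W) : 𝒰 ⊆ cl W 𝒰 :=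
  fun _ hA => ⟨h hA, aug_mono (le_sSup hA)⟩

theorem aug_sSup_cl (W 𝒰 : Set (Subgroup GLkM)) : aug (sSup (cl W 𝒰)) ≤ aug (sSup 𝒰) :=
  aug_sSup_le (aug_mul_le _) fun _ hA _ ha => hA.2 (sub_one_mem_aug ha)

theorem good_cl {W 𝒰 : Set (Subgroup GLkM)} (h : Good W 𝒰) : Good W (cl W 𝒰) :=
  ⟨fun _ hA => hA.1, isUnipotentOn_of_aug_le (aug_sSup_cl W 𝒰) h.2⟩

theorem maxGood_closed {W 𝒰 : Set (Subgroup GLkM)} (h : MaxGood W 𝒰) {A : Subgroup GLkM}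
    (hA : A ∈ W) (hle : aug A ≤ aug (sSup 𝒰)) : A ∈ 𝒰 :=
  h.2 _ (good_cl h.1) (subset_cl h.1.1) ⟨hA, hle⟩

/-- Conjugation identity in `End M`. -/
theorem conj_sub_one (a b : GLkM) :
    (((a * b * a⁻¹ : GLkM) : Module.End k M) - 1)
      = ((b : Module.End k M) - 1) + ((a : Module.End k M) - 1) * ((b : Module.End k M) - 1)
        + ((b : Module.End k M) - 1) * (((a⁻¹ : GLkM) : Module.End k M) - 1)
        + ((a : Module.End k M) - 1) * (((b : Module.End k M) - 1)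
            * (((a⁻¹ : GLkM) : Module.End k M) - 1)) := by
  have haa : (a : Module.End k M) * ((a⁻¹ : GLkM) : Module.End k M) = 1 := by
    rw [← Units.val_mul, mul_inv_cancel, Units.val_one]
  have e : ((b : Module.End k M) - 1) + ((a : Module.End k M) - 1) * ((b : Module.End k M) - 1)
        + ((b : Module.End k M) - 1) * (((a⁻¹ : GLkM) : Module.End k M) - 1)
        + ((a : Module.End k M) - 1) * (((b : Module.End k M) - 1)
            * (((a⁻¹ : GLkM) : Module.End k M) - 1))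
      = (a : Module.End k M) * (b : Module.End k M) * ((a⁻¹ : GLkM) : Module.End k M)
        - (a : Module.End k M) * ((a⁻¹ : GLkM) : Module.End k M) := by
    noncomm_ring
  rw [e, haa, Units.val_mul, Units.val_mul]

/-- The chain `P ⊔ S^j`: the next term is an ideal of the previous one. -/
theorem chain_mul_le {P S : Submodule k (Module.End k M)} (hP : P * P ≤ P) (hS : S * S ≤ S)
    (hPS : P ≤ S) (j : ℕ) :
    (P ⊔ S ^ (j + 1)) * (P ⊔ S ^ (j + 2)) ≤ P ⊔ S ^ (j + 2) ∧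
      (P ⊔ S ^ (j + 2)) * (P ⊔ S ^ (j + 1)) ≤ P ⊔ S ^ (j + 2) := by
  have h1 : S ^ (j + 1) ≤ S := pow_le_self hS j
  have h3 : S ^ (j + 3) ≤ S ^ (j + 2) := pow_succ_le hS (j + 1)
  have e1 : S * S ^ (j + 2) = S ^ (j + 3) := (pow_succ' S (j + 2)).symm
  have e2 : S ^ (j + 1) * S = S ^ (j + 2) := (pow_succ S (j + 1)).symm
  have e3 : S ^ (j + 2) * S = S ^ (j + 3) := (pow_succ S (j + 2)).symm
  have e4 : S * S ^ (j + 1) = S ^ (j + 2) := (pow_succ' S (j + 1)).symm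
  constructor
  · refine sup_mul_sup_le ?_ ?_ ?_ ?_
    · exact hP.trans le_sup_left
    · exact ((mul_le_mul_left hPS _).trans (e1.le.trans h3)).trans le_sup_right
    · exact ((mul_le_mul_right hPS _).trans e2.le).trans le_sup_right
    · exact ((mul_le_mul_left h1 _).trans (e1.le.trans h3)).trans le_sup_right
  · refine sup_mul_sup_le ?_ ?_ ?_ ?_
    · exact hP.trans le_sup_left
    · exact ((mul_le_mul_left hPS _).trans e4.le).trans le_sup_right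
    · exact ((mul_le_mul_right hPS _).trans (e3.le.trans h3)).trans le_sup_right
    · exact ((mul_le_mul_right h1 _).trans (e3.le.trans h3)).trans le_sup_right

variable [FiniteDimensional k M]

theorem exists_maxGood {W : Set (Subgroup GLkM)} :
    ∀ {𝒰 : Set (Subgroup GLkM)}, Good W 𝒰 → ∃ 𝒱, 𝒰 ⊆ 𝒱 ∧ MaxGood W 𝒱 := by
  have key : ∀ r : ℕ, ∀ 𝒰 : Set (Subgroup GLkM), Good W 𝒰 →
      Module.finrank k (Module.End k M) - Module.finrank k (aug (sSup 𝒰)) = r →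
        ∃ 𝒱, 𝒰 ⊆ 𝒱 ∧ MaxGood W 𝒱 := by
    intro r
    induction r using Nat.strong_induction_on with
    | _ r ih =>
      intro 𝒰 h hr
      by_cases hmax : MaxGood W (cl W 𝒰)
      · exact ⟨cl W 𝒰, subset_cl h.1, hmax⟩
      · unfold MaxGood at hmax
        push Not at hmax
        obtain ⟨𝒱, h𝒱, hsub, hne⟩ := hmax (good_cl h)
        obtain ⟨A, hA𝒱, hAcl⟩ := Set.not_subset.1 hne
        have hlt : aug (sSup 𝒰) < aug (sSup 𝒱) := by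
          refine lt_of_le_of_ne (aug_mono (sSup_le_sSup ((subset_cl h.1).trans hsub))) ?_
          intro heq
          exact hAcl ⟨h𝒱.1 hA𝒱, heq ▸ aug_mono (le_sSup hA𝒱)⟩
        have h1 := Submodule.finrank_lt_finrank_of_lt hlt
        have h2 : Module.finrank k (aug (sSup 𝒱)) ≤ Module.finrank k (Module.End k M) :=
          Submodule.finrank_le _
        obtain ⟨𝒵, h𝒱𝒵, h𝒵⟩ := ih (Module.finrank k (Module.End k M)
          - Module.finrank k (aug (sSup 𝒱))) (by omega) 𝒱 h𝒱 rfl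
        exact ⟨𝒵, ((subset_cl h.1).trans hsub).trans h𝒱𝒵, h𝒵⟩
  intro 𝒰 h
  exact key _ 𝒰 h rfl

omit [FiniteDimensional k M] in
/-- Conjugating a subgroup of `X` by an element of `X` stays inside `X`. -/
theorem conjBy_le_of_mem {X B : Subgroup GLkM} {a : GLkM} (hB : B ≤ X) (ha : a ∈ X) :
    conjBy B a ≤ X := by
  rintro _ ⟨b, hb, rfl⟩
  exact X.mul_mem (X.mul_mem ha (hB hb)) (X.inv_mem ha)

omit [FiniteDimensional k M] in
/-- Normalizer growth: a closed proper subfamily `𝒟₀` of a maximal good family `𝒰` is normalized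
by some member of `𝒰` outside of it. -/
theorem exists_normalizing {G : Subgroup GLkM} {W : Set (Subgroup GLkM)}
    (hWG : ∀ A ∈ W, A ≤ G) (hWconj : ∀ A ∈ W, ∀ g ∈ G, conjBy A g ∈ W)
    {𝒰 𝒟₀ : Set (Subgroup GLkM)} (h𝒰 : MaxGood W 𝒰) (hsub : 𝒟₀ ⊆ 𝒰)
    (hclosed : ∀ C ∈ 𝒰, aug C ≤ aug (sSup 𝒟₀) → C ∈ 𝒟₀)
    (hne : ∃ A ∈ 𝒰, A ∉ 𝒟₀) :
    ∃ A ∈ 𝒰, A ∉ 𝒟₀ ∧ ∀ a ∈ A, ∀ B ∈ 𝒟₀, conjBy B a ∈ 𝒟₀ := by
  by_contra hcon
  push Not at hcon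
  obtain ⟨n, hn⟩ := aug_pow_of_isUnipotentOn h𝒰.1.2
  have hP := aug_mul_le (sSup 𝒟₀)
  have hS := aug_mul_le (sSup 𝒰)
  have hPS : aug (sSup 𝒟₀) ≤ aug (sSup 𝒰) := aug_mono (sSup_le_sSup hsub)
  have key : ∀ j : ℕ, ∃ A ∈ 𝒰, A ∉ 𝒟₀ ∧ aug A ≤ aug (sSup 𝒟₀) ⊔ aug (sSup 𝒰) ^ (j + 1) := by
    intro j
    induction j with
    | zero =>
      obtain ⟨A, hA, hAD⟩ := hne
      refine ⟨A, hA, hAD, ?_⟩
      rw [zero_add, pow_one]
      exact (aug_mono (le_sSup hA)).trans le_sup_right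
    | succ j ih =>
      obtain ⟨A, hA, hAD, hAle⟩ := ih
      obtain ⟨a, ha, B, hB, hBa⟩ := hcon A hA hAD
      have hBU : B ∈ 𝒰 := hsub hB
      have hC : conjBy B a ∈ 𝒰 := by
        refine maxGood_closed h𝒰 (hWconj B (h𝒰.1.1 hBU) a (hWG A (h𝒰.1.1 hA) ha)) ?_
        exact aug_mono (conjBy_le_of_mem (le_sSup hBU) ((le_sSup hA : A ≤ sSup 𝒰) ha))
      refine ⟨conjBy B a, hC, hBa, ?_⟩
      rw [aug_le_iff]
      rintro _ ⟨b, hb, rfl⟩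
      obtain ⟨c1, c2⟩ := chain_mul_le hP hS hPS j
      have hα : ((a : Module.End k M) - 1) ∈ aug (sSup 𝒟₀) ⊔ aug (sSup 𝒰) ^ (j + 1) :=
        hAle (sub_one_mem_aug ha)
      have hα' : (((a⁻¹ : GLkM) : Module.End k M) - 1) ∈
          aug (sSup 𝒟₀) ⊔ aug (sSup 𝒰) ^ (j + 1) :=
        hAle (sub_one_mem_aug (A.inv_mem ha))
      have hβ : ((b : Module.End k M) - 1) ∈ aug (sSup 𝒟₀) ⊔ aug (sSup 𝒰) ^ (j + 2) :=
        le_sup_left (a := aug (sSup 𝒟₀)) (sub_one_mem_aug ((le_sSup hB : B ≤ sSup 𝒟₀) hb))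
      show (((a * b * a⁻¹ : GLkM) : Module.End k M) - 1) ∈ _
      rw [conj_sub_one]
      have hβα' := c2 (Submodule.mul_mem_mul hβ hα')
      refine Submodule.add_mem _ (Submodule.add_mem _ (Submodule.add_mem _ hβ ?_) hβα') ?_
      · exact c1 (Submodule.mul_mem_mul hα hβ)
      · exact c1 (Submodule.mul_mem_mul hα hβα')
  obtain ⟨A, hA, hAD, hAle⟩ := key n
  rw [pow_eq_bot_of_le hn (Nat.le_succ n), sup_bot_eq] at hAle
  exact hAD (hclosed A hA hAle)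

omit [FiniteDimensional k M] in
theorem normalizes_sSup {𝒟₀ : Set (Subgroup GLkM)} {A : Subgroup GLkM}
    (h : ∀ a ∈ A, ∀ B ∈ 𝒟₀, conjBy B a ∈ 𝒟₀) :
    A ≤ Subgroup.normalizer ((sSup 𝒟₀ : Subgroup GLkM) : Set GLkM) := by
  have h1 : ∀ a ∈ A, ∀ d ∈ sSup 𝒟₀, a * d * a⁻¹ ∈ sSup 𝒟₀ := by
    intro a ha
    have : sSup 𝒟₀ ≤ (sSup 𝒟₀).comap (MulAut.conj a).toMonoidHom := by
      refine sSup_le fun B hB b hb => ?_
      rw [Subgroup.mem_comap]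
      exact (le_sSup (h a ha B hB) : conjBy B a ≤ sSup 𝒟₀) (Subgroup.mem_map_of_mem _ hb)
    intro d hd
    simpa using this hd
  intro a ha
  rw [Subgroup.mem_normalizer_iff]
  intro d
  constructor
  · exact h1 a ha d
  · intro hd
    have := h1 a⁻¹ (A.inv_mem ha) _ hd
    simpa [mul_assoc] using this

/-- Any two maximal good families coincide. -/
theorem maxGood_unique {G : Subgroup GLkM} {W : Set (Subgroup GLkM)}
    (hWG : ∀ A ∈ W, A ≤ G) (hWW : ∀ A ∈ W, ∀ B ∈ W, IsUnipotentOn (A ⊔ B))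
    (hWconj : ∀ A ∈ W, ∀ g ∈ G, conjBy A g ∈ W) :
    ∀ {𝒰 𝒱 : Set (Subgroup GLkM)}, MaxGood W 𝒰 → MaxGood W 𝒱 → 𝒰 = 𝒱 := by
  have key : ∀ r : ℕ, ∀ 𝒰 𝒱 : Set (Subgroup GLkM), MaxGood W 𝒰 → MaxGood W 𝒱 →
      Module.finrank k (Module.End k M) - Module.finrank k (aug (sSup (𝒰 ∩ 𝒱))) = r →
        𝒰 = 𝒱 := by
    intro r
    induction r using Nat.strong_induction_on with
    | _ r ih =>
      intro 𝒰 𝒱 h𝒰 h𝒱 hr
      by_contra hne
      have hcl𝒰 : ∀ C ∈ 𝒰, aug C ≤ aug (sSup (𝒰 ∩ 𝒱)) → C ∈ 𝒰 ∩ 𝒱 := fun C hC hle =>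
        ⟨hC, maxGood_closed h𝒱 (h𝒰.1.1 hC)
          (hle.trans (aug_mono (sSup_le_sSup Set.inter_subset_right)))⟩
      have hcl𝒱 : ∀ C ∈ 𝒱, aug C ≤ aug (sSup (𝒰 ∩ 𝒱)) → C ∈ 𝒰 ∩ 𝒱 := fun C hC hle =>
        ⟨maxGood_closed h𝒰 (h𝒱.1.1 hC)
          (hle.trans (aug_mono (sSup_le_sSup Set.inter_subset_left))), hC⟩
      have hne𝒰 : ∃ A ∈ 𝒰, A ∉ 𝒰 ∩ 𝒱 := by
        by_contra hcon
        push Not at hcon
        have h1 : 𝒰 ⊆ 𝒱 := fun A hA => (hcon A hA).2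
        exact hne (Set.Subset.antisymm h1 (h𝒰.2 𝒱 h𝒱.1 h1))
      have hne𝒱 : ∃ A ∈ 𝒱, A ∉ 𝒰 ∩ 𝒱 := by
        by_contra hcon
        push Not at hcon
        have h1 : 𝒱 ⊆ 𝒰 := fun A hA => (hcon A hA).1
        exact hne (Set.Subset.antisymm (h𝒱.2 𝒰 h𝒰.1 h1) h1)
      obtain ⟨A, hA, hAD, hAn⟩ := exists_normalizing hWG hWconj h𝒰 Set.inter_subset_left
        hcl𝒰 hne𝒰
      obtain ⟨B, hB, hBD, hBn⟩ := exists_normalizing hWG hWconj h𝒱 Set.inter_subset_right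
        hcl𝒱 hne𝒱
      have hAB : A ⊔ B ≤ Subgroup.normalizer ((sSup (𝒰 ∩ 𝒱) : Subgroup GLkM) : Set GLkM) :=
        sup_le (normalizes_sSup hAn) (normalizes_sSup hBn)
      have hDunip : IsUnipotentOn (sSup (𝒰 ∩ 𝒱)) :=
        isUnipotentOn_of_aug_le (aug_mono (sSup_le_sSup Set.inter_subset_left)) h𝒰.1.2
      have hunip : IsUnipotentOn (sSup (𝒰 ∩ 𝒱) ⊔ (A ⊔ B)) := by
        refine isUnipotentOn_sup hDunip (hWW A (h𝒰.1.1 hA) B (h𝒱.1.1 hB)) ?_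
        intro y hy d hd
        exact ((Subgroup.mem_normalizer_iff.1 (hAB hy)) d).1 hd
      have hgood : Good W ((𝒰 ∩ 𝒱) ∪ {A, B}) := by
        refine ⟨?_, ?_⟩
        · rintro C (hC | hC | hC)
          · exact h𝒰.1.1 hC.1
          · rw [hC]; exact h𝒰.1.1 hA
          · rw [Set.mem_singleton_iff.1 hC]; exact h𝒱.1.1 hB
        · rw [sSup_union, sSup_pair]
          exact hunip
      obtain ⟨𝒵, hsub𝒵, h𝒵⟩ := exists_maxGood hgood
      have hD𝒵 : 𝒰 ∩ 𝒱 ⊆ 𝒵 := fun C hC => hsub𝒵 (Or.inl hC)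
      have hA𝒵 : A ∈ 𝒵 := hsub𝒵 (Or.inr (Or.inl rfl))
      have hB𝒵 : B ∈ 𝒵 := hsub𝒵 (Or.inr (Or.inr rfl))
      have step : ∀ (𝒯 : Set (Subgroup GLkM)) (C : Subgroup GLkM), MaxGood W 𝒯 → 𝒰 ∩ 𝒱 ⊆ 𝒯 →
          C ∈ 𝒯 → C ∈ 𝒵 → ¬ aug C ≤ aug (sSup (𝒰 ∩ 𝒱)) → 𝒵 = 𝒯 := by
        intro 𝒯 C h𝒯 hD𝒯 hC𝒯 hC𝒵 hCn
        have hlt : aug (sSup (𝒰 ∩ 𝒱)) < aug (sSup (𝒵 ∩ 𝒯)) := by
          refine lt_of_le_of_ne (aug_mono (sSup_le_sSup (Set.subset_inter hD𝒵 hD𝒯))) ?_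
          intro heq
          exact hCn (heq ▸ aug_mono (le_sSup ⟨hC𝒵, hC𝒯⟩))
        have h1 := Submodule.finrank_lt_finrank_of_lt hlt
        have h2 : Module.finrank k (aug (sSup (𝒵 ∩ 𝒯))) ≤ Module.finrank k (Module.End k M) :=
          Submodule.finrank_le _
        exact ih (Module.finrank k (Module.End k M) - Module.finrank k (aug (sSup (𝒵 ∩ 𝒯))))
          (by omega) 𝒵 𝒯 h𝒵 h𝒯 rfl
      have e1 : 𝒵 = 𝒰 := step 𝒰 A h𝒰 Set.inter_subset_left hA hA𝒵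
        (fun hle => hAD (hcl𝒰 A hA hle))
      have e2 : 𝒵 = 𝒱 := step 𝒱 B h𝒱 Set.inter_subset_right hB hB𝒵
        (fun hle => hBD (hcl𝒱 B hB hle))
      exact hne (e1.symm.trans e2)
  intro 𝒰 𝒱 h𝒰 h𝒱
  exact key _ 𝒰 𝒱 h𝒰 h𝒱 rfl

omit [FiniteDimensional k M] in
theorem isUnipotentOn_bot : IsUnipotentOn (⊥ : Subgroup GLkM) := by
  refine isUnipotentOn_of_aug_pow (n := 1) ?_
  rw [pow_one, eq_bot_iff, aug_le_iff]
  intro g hg
  rw [Subgroup.mem_bot] at hg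
  simp [hg]

/-- Baer–Suzuki for unipotent linear groups: the whole family generates a unipotent group. -/
theorem isUnipotentOn_sSup {G : Subgroup GLkM} {W : Set (Subgroup GLkM)}
    (hWG : ∀ A ∈ W, A ≤ G) (hWW : ∀ A ∈ W, ∀ B ∈ W, IsUnipotentOn (A ⊔ B))
    (hWconj : ∀ A ∈ W, ∀ g ∈ G, conjBy A g ∈ W) : IsUnipotentOn (sSup W) := by
  have h0 : Good W (∅ : Set (Subgroup GLkM)) := by
    refine ⟨Set.empty_subset _, ?_⟩
    rw [sSup_empty]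
    exact isUnipotentOn_bot
  obtain ⟨𝒰₀, -, h𝒰₀⟩ := exists_maxGood h0
  have hW : W ⊆ 𝒰₀ := by
    intro B hB
    have hgB : Good W {B} := by
      refine ⟨Set.singleton_subset_iff.2 hB, ?_⟩
      rw [sSup_singleton]
      simpa using hWW B hB B hB
    obtain ⟨𝒰, hsub, h𝒰⟩ := exists_maxGood hgB
    rw [← maxGood_unique hWG hWW hWconj h𝒰 h𝒰₀]
    exact hsub rfl
  rw [Set.Subset.antisymm hW h𝒰₀.1.1]
  exact h𝒰₀.1.2


end Cfsg.Agent.Helper25.Unip
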