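import Mathlib
import Cfsg.Agent.Helper25.QPDefs

set_option autoImplicit false
set_option linter.unusedSimpArgs false
set_option linter.unusedVariables false

/-! Quadratic pairs: the coordinate calculus `Co`, `opn`, `matn` and the pair group. -/

noncomputable section

namespace Cfsg.Agent.QPP

open Cfsg Cfsg.Agent.Helper25.QP Cfsg.Agent.Helper25.QuadPair Polynomial

variable {k : Type*} [Field k] {M : Type*} [AddCommGroup M] [Module k M]

local notation "GLkM" => LinearMap.GeneralLinearGroup k M

theorem commute_aeval_of_commute {A : Type*} [Ring A] [Algebra k A] {Z a : A} (h : Commute Z a)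
    (f : k[X]) : Commute (aeval Z f) a := by
  induction f using Polynomial.induction_on with
  | C c => rw [aeval_C]; exact Algebra.commute_algebraMap_left c a
  | add p q hp hq => rw [map_add]; exact hp.add_left hq
  | monomial n c ih =>
    rw [pow_succ, ← mul_assoc, map_mul, aeval_X]
    exact ih.mul_left h

theorem zz_mul_a {a b : Module.End k M} (ha : a * a = 0) : zz a b * a = a * zz a b := by
  unfold zz
  rw [add_mul, mul_add, mul_assoc b a a, ha, mul_zero, ← mul_assoc a a b, ha, zero_mul,
    add_zero, zero_add, mul_assoc]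

theorem zz_mul_b {a b : Module.End k M} (hb : b * b = 0) : zz a b * b = b * zz a b := by
  unfold zz
  rw [add_mul, mul_add, mul_assoc a b b, hb, mul_zero, ← mul_assoc b b a, hb, zero_mul,
    add_zero, zero_add, mul_assoc]

theorem commute_aeval_a {a b : Module.End k M} (ha : a * a = 0) (f : k[X]) :
    Commute (aeval (zz a b) f) a := commute_aeval_of_commute (zz_mul_a ha) f

theorem commute_aeval_b {a b : Module.End k M} (hb : b * b = 0) (f : k[X]) :
    Commute (aeval (zz a b) f) b := commute_aeval_of_commute (zz_mul_b hb) f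

/-! the multiplication table of `ab, a, b, ba` -/
section table

variable {a b : Module.End k M} (ha : a * a = 0) (hb : b * b = 0)

include ha hb

theorem t_aba : a * b * a = zz a b * a := by
  unfold zz; rw [add_mul, mul_assoc b a a, ha, mul_zero, add_zero]

theorem t_bab : b * a * b = zz a b * b := by
  unfold zz; rw [add_mul, mul_assoc a b b, hb, mul_zero, zero_add]

theorem t_abab : a * b * (a * b) = zz a b * (a * b) := by
  rw [← mul_assoc, t_aba ha hb, mul_assoc]

theorem t_baba : b * a * (b * a) = zz a b * (b * a) := by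
  rw [← mul_assoc, t_bab ha hb, mul_assoc]

end table

theorem opn_zero (a b : Module.End k M) : opn a b (0 : Co k) = 0 := by
  simp [opn]

theorem opn_add (a b : Module.End k M) (P Q : Co k) : opn a b (P + Q) = opn a b P + opn a b Q := by
  simp only [opn, Co.add_p, Co.add_q, Co.add_s, Co.add_t, map_add, add_mul]
  abel

theorem opn_neg (a b : Module.End k M) (P : Co k) : opn a b (-P) = -opn a b P := by
  simp only [opn, Co.neg_p, Co.neg_q, Co.neg_s, Co.neg_t, map_neg, neg_mul]
  abel

theorem opn_ca (a b : Module.End k M) : opn a b (Co.ca : Co k) = a := by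
  simp [opn, Co.ca]

theorem opn_cb (a b : Module.End k M) : opn a b (Co.cb : Co k) = b := by
  simp [opn, Co.cb]

/-- `opn` is multiplicative -/
theorem opn_mul {a b : Module.End k M} (ha : a * a = 0) (hb : b * b = 0) (P Q : Co k) :
    opn a b (P * Q) = opn a b P * opn a b Q := by
  have ca := fun f : k[X] => (commute_aeval_a (b := b) ha f).eq
  have cb := fun f : k[X] => (commute_aeval_b (a := a) hb f).eq
  -- move a polynomial coefficient through a word
  have key : ∀ (f g : k[X]) (w w' : Module.End k M), Commute (aeval (zz a b) g) w →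
      (aeval (zz a b) f * w) * (aeval (zz a b) g * w') = aeval (zz a b) (f * g) * (w * w') := by
    intro f g w w' h
    rw [map_mul, mul_assoc, ← mul_assoc w, ← h.eq, mul_assoc, mul_assoc]
  have cab : ∀ g : k[X], Commute (aeval (zz a b) g) (a * b) := fun g =>
    (commute_aeval_a ha g).mul_right (commute_aeval_b hb g)
  have cba : ∀ g : k[X], Commute (aeval (zz a b) g) (b * a) := fun g =>
    (commute_aeval_b hb g).mul_right (commute_aeval_a ha g)
  have haa' : ∀ x : Module.End k M, a * (a * x) = 0 := fun x => by rw [← mul_assoc, ha, zero_mul]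
  have hbb' : ∀ x : Module.End k M, b * (b * x) = 0 := fun x => by rw [← mul_assoc, hb, zero_mul]
  have zX : ∀ (f : k[X]) (w : Module.End k M), aeval (zz a b) f * (zz a b * w)
      = aeval (zz a b) (X * f) * w := by
    intro f w
    rw [map_mul, aeval_X, ← mul_assoc, (commute_aeval_of_commute (Commute.refl (zz a b)) f).eq]
  simp only [opn, mul_add, add_mul]
  rw [key _ _ _ _ (cab _), key _ _ _ _ (commute_aeval_a ha _), key _ _ _ _ (commute_aeval_b hb _),
    key _ _ _ _ (cba _), key _ _ _ _ (cab _), key _ _ _ _ (commute_aeval_a ha _),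
    key _ _ _ _ (commute_aeval_b hb _), key _ _ _ _ (cba _), key _ _ _ _ (cab _),
    key _ _ _ _ (commute_aeval_a ha _), key _ _ _ _ (commute_aeval_b hb _), key _ _ _ _ (cba _),
    key _ _ _ _ (cab _), key _ _ _ _ (commute_aeval_a ha _), key _ _ _ _ (commute_aeval_b hb _),
    key _ _ _ _ (cba _)]
  -- the table
  have e1 : a * b * (a * b) = zz a b * (a * b) := t_abab ha hb
  have e2 : a * b * a = zz a b * a := t_aba ha hb
  have e3 : a * b * b = 0 := by rw [mul_assoc, hb, mul_zero]
  have e4 : a * b * (b * a) = 0 := by rw [mul_assoc, hbb', mul_zero]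
  have e5 : a * (a * b) = 0 := haa' b
  have e7 : a * (b * a) = zz a b * a := by rw [← mul_assoc, e2]
  have e8 : b * (a * b) = zz a b * b := by rw [← mul_assoc, t_bab ha hb]
  have e9 : b * (b * a) = 0 := hbb' a
  have e10 : b * a * (a * b) = 0 := by rw [mul_assoc, haa', mul_zero]
  have e11 : b * a * a = 0 := by rw [mul_assoc, ha, mul_zero]
  have e12' : b * a * b = zz a b * b := t_bab ha hb
  have e13 : b * a * (b * a) = zz a b * (b * a) := t_baba ha hb
  rw [e1, e2, e3, e4, e5, ha, e7, e8, hb, e9, e10, e11, e12', e13]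
  simp only [mul_zero, add_zero, zero_add, zX, Co.mul_p, Co.mul_q, Co.mul_s, Co.mul_t, map_add,
    add_mul]
  have r1 : X * (P.p * Q.p) = X * P.p * Q.p := by ring
  have r2 : X * (P.p * Q.q) = X * P.p * Q.q := by ring
  have r3 : X * (P.q * Q.t) = X * P.q * Q.t := by ring
  have r4 : X * (P.s * Q.p) = X * P.s * Q.p := by ring
  have r5 : X * (P.t * Q.s) = X * P.t * Q.s := by ring
  have r6 : X * (P.t * Q.t) = X * P.t * Q.t := by ring
  rw [r1, r2, r3, r4, r5, r6]
  abel

/-! matrices -/

theorem matn_zero : Co.matn (0 : Co k) = 0 := by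
  refine Matrix.ext fun i j => ?_
  fin_cases i <;> fin_cases j <;> simp [Co.matn]

theorem matn_add (P Q : Co k) : Co.matn (P + Q) = Co.matn P + Co.matn Q := by
  refine Matrix.ext fun i j => ?_
  fin_cases i <;> fin_cases j <;> simp [Co.matn, mul_add]

theorem matn_mul (P Q : Co k) : Co.matn (P * Q) = Co.matn P * Co.matn Q := by
  refine Matrix.ext fun i j => ?_
  fin_cases i <;> fin_cases j <;>
    simp [Co.matn, Matrix.mul_apply, Fin.sum_univ_two] <;> ring

theorem matn_injective : Function.Injective (Co.matn : Co k → Matrix (Fin 2) (Fin 2) k[X]) := by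
  intro P Q h
  have h00 := congrFun (congrFun h 0) 0
  have h01 := congrFun (congrFun h 0) 1
  have h10 := congrFun (congrFun h 1) 0
  have h11 := congrFun (congrFun h 1) 1
  simp [Co.matn] at h00 h01 h10 h11
  exact Co.ext h00 h01 h10 h11

/-- the adjugate coordinates -/
def Co.adj (P : Co k) : Co k := ⟨P.t, -P.q, -P.s, P.p⟩

theorem matn_adj (P : Co k) : 1 + Co.matn (Co.adj P) = Matrix.adjugate (1 + Co.matn P) := by
  rw [Matrix.adjugate_fin_two]
  refine Matrix.ext fun i j => ?_
  fin_cases i <;> fin_cases j <;> simp [Co.matn, Co.adj, Matrix.one_apply]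

theorem opn_C_a (a b : Module.End k M) (c : k) : opn a b (⟨0, C c, 0, 0⟩ : Co k) = c • a := by
  simp only [opn, map_zero, zero_mul, aeval_C, add_zero, zero_add]
  rw [Algebra.algebraMap_eq_smul_one, smul_mul_assoc, one_mul]

theorem opn_C_b (a b : Module.End k M) (c : k) : opn a b (⟨0, 0, C c, 0⟩ : Co k) = c • b := by
  simp only [opn, map_zero, zero_mul, aeval_C, add_zero, zero_add]
  rw [Algebra.algebraMap_eq_smul_one, smul_mul_assoc, one_mul]

/-- COORD: every element of the pair group has polynomial coordinates -/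
theorem COORD {a b : Module.End k M} (ha : a * a = 0) (hb : b * b = 0) :
    ∀ x ∈ Hpair a b ha hb, ∃ P : Co k, Coords a b x P := by
  intro x hx
  induction hx using Subgroup.closure_induction with
  | mem x hx =>
    rcases hx with ⟨c, rfl⟩ | ⟨c, rfl⟩
    · refine ⟨⟨0, C c, 0, 0⟩, ?_, ?_⟩
      · refine Matrix.ext fun i j => ?_
        fin_cases i <;> fin_cases j <;> simp [Co.matn, e12, Matrix.one_apply]
      · rw [opn_C_a]; rfl
    · refine ⟨⟨0, 0, C c, 0⟩, ?_, ?_⟩
      · refine Matrix.ext fun i j => ?_
        fin_cases i <;> fin_cases j <;> simp [Co.matn, e21, Matrix.one_apply]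
      · rw [opn_C_b]; rfl
  | one =>
    exact ⟨0, by simp [matn_zero], by simp [opn_zero]⟩
  | mul x y _ _ hx hy =>
    obtain ⟨P, hP1, hP2⟩ := hx
    obtain ⟨Q, hQ1, hQ2⟩ := hy
    refine ⟨P + Q + P * Q, ?_, ?_⟩
    · show ((x.2 * y.2 : Matrix.SpecialLinearGroup (Fin 2) k[X]) : Matrix (Fin 2) (Fin 2) k[X]) = _
      rw [Matrix.SpecialLinearGroup.coe_mul, hP1, hQ1, matn_add, matn_add, matn_mul]
      noncomm_ring
    · show ((x.1 * y.1 : GLkM) : Module.End k M) = _
      rw [Units.val_mul, hP2, hQ2, opn_add, opn_add, opn_mul ha hb]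
      noncomm_ring
  | inv x _ hx =>
    obtain ⟨P, hP1, hP2⟩ := hx
    refine ⟨Co.adj P, ?_, ?_⟩
    · show ((x.2⁻¹ : Matrix.SpecialLinearGroup (Fin 2) k[X]) : Matrix (Fin 2) (Fin 2) k[X]) = _
      rw [Matrix.SpecialLinearGroup.coe_inv, hP1, matn_adj]
    · -- the coordinates of the product vanish
      have hdet : (1 + Co.matn P) * (1 + Co.matn (Co.adj P)) = 1 := by
        rw [matn_adj, Matrix.mul_adjugate, ← hP1, x.2.det_coe, one_smul]
      have hz : P + Co.adj P + P * Co.adj P = 0 := by
        apply matn_injective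
        rw [matn_add, matn_add, matn_mul, matn_zero]
        have : (1 + Co.matn P) * (1 + Co.matn (Co.adj P))
            = 1 + (Co.matn P + Co.matn (Co.adj P) + Co.matn P * Co.matn (Co.adj P)) := by
          noncomm_ring
        rw [this] at hdet
        exact add_eq_left.mp hdet
      have hop : (1 + opn a b P) * (1 + opn a b (Co.adj P)) = 1 := by
        have : (1 + opn a b P) * (1 + opn a b (Co.adj P))
            = 1 + opn a b (P + Co.adj P + P * Co.adj P) := by
          rw [opn_add, opn_add, opn_mul ha hb]; noncomm_ring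
        rw [this, hz, opn_zero, add_zero]
      show ((x.1⁻¹ : GLkM) : Module.End k M) = _
      rw [← hP2] at hop
      calc ((x.1⁻¹ : GLkM) : Module.End k M)
          = ((x.1⁻¹ : GLkM) : Module.End k M) * ((x.1 : Module.End k M) * (1 + opn a b (Co.adj P))) := by
            rw [hop, mul_one]
        _ = 1 + opn a b (Co.adj P) := by rw [Units.inv_mul_cancel_left]

/-- PROJ: the first projection of the pair group is `H` -/
theorem map_fst_Hpair (a b : Module.End k M) (ha : a * a = 0) (hb : b * b = 0) :
    (Hpair a b ha hb).map (MonoidHom.fst GLkM (Matrix.SpecialLinearGroup (Fin 2) k[X]))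
      = Hgrp a b ha hb := by
  unfold Hpair Hgrp
  rw [MonoidHom.map_closure, Set.image_union, ← Set.range_comp, ← Set.range_comp]
  rfl

/-- PROJ: the second projection of the pair group is the formal group `H̃` -/
theorem map_snd_Hpair (a b : Module.End k M) (ha : a * a = 0) (hb : b * b = 0) :
    (Hpair a b ha hb).map (MonoidHom.snd GLkM (Matrix.SpecialLinearGroup (Fin 2) k[X]))
      = Htil k := by
  unfold Hpair Htil Hmat
  rw [MonoidHom.map_closure, Set.image_union, ← Set.range_comp, ← Set.range_comp]
  rfl

end Cfsg.Agent.QPP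

end
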