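import Mathlib
import Cfsg.Agent.Helper25.QPCoord

set_option autoImplicit false
set_option linter.unusedSimpArgs false
set_option linter.unusedVariables false
set_option linter.unusedSectionVars false

/-! Quadratic pairs: conjugation formulas in the coordinate calculus (`ZETA`). -/

noncomputable section

namespace Cfsg.Agent.QPP

open Cfsg Cfsg.Agent.Helper25.QP Cfsg.Agent.Helper25.QuadPair Polynomial

variable {k : Type*} [Field k] {M : Type*} [AddCommGroup M] [Module k M]

local notation "GLkM" => LinearMap.GeneralLinearGroup k M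

namespace Co

/-- the entries `α, β, γ, δ` of the matrix `1 + matn P` -/
def al (P : Co k) : k[X] := 1 + X * P.p
def be (P : Co k) : k[X] := P.q
def ga (P : Co k) : k[X] := X * P.s
def de (P : Co k) : k[X] := 1 + X * P.t

/-- coordinates of `h a h⁻¹` -/
def conjA (P : Co k) : Co k := ⟨-(al P * P.s), al P ^ 2, -(X * P.s ^ 2), al P * P.s⟩

/-- coordinates of `h b h⁻¹` -/
def conjB (P : Co k) : Co k := ⟨P.q * de P, -(X * P.q ^ 2), de P ^ 2, -(P.q * de P)⟩

theorem conjA_eq (P : Co k) :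
    ca + P * ca + ca * adj P + P * ca * adj P = conjA P := by
  apply Co.ext <;> simp [ca, adj, conjA, al] <;> ring

theorem conjB_eq (P : Co k) :
    cb + P * cb + cb * adj P + P * cb * adj P = conjB P := by
  apply Co.ext <;> simp [cb, adj, conjB, de] <;> ring

end Co

theorem matn_entries (P : Co k) :
    (1 + Co.matn P) 0 0 = Co.al P ∧ (1 + Co.matn P) 0 1 = Co.be P ∧
      (1 + Co.matn P) 1 0 = Co.ga P ∧ (1 + Co.matn P) 1 1 = Co.de P := by
  simp [Co.matn, Co.al, Co.be, Co.ga, Co.de]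

/-- determinant one in coordinates -/
theorem Coords.det {a b : Module.End k M} {x : GLkM × Matrix.SpecialLinearGroup (Fin 2) k[X]}
    {P : Co k} (h : Coords a b x P) : Co.al P * Co.de P - Co.be P * Co.ga P = 1 := by
  have hd := x.2.det_coe
  rw [h.1, Matrix.det_fin_two] at hd
  obtain ⟨h00, h01, h10, h11⟩ := matn_entries P
  rw [h00, h01, h10, h11] at hd
  exact hd

/-- coordinates of the inverse -/
theorem Coords.inv {a b : Module.End k M} (ha : a * a = 0) (hb : b * b = 0)
    {x : GLkM × Matrix.SpecialLinearGroup (Fin 2) k[X]}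
    {P : Co k} (h : Coords a b x P) : Coords a b x⁻¹ (Co.adj P) := by
  obtain ⟨hP1, hP2⟩ := h
  refine ⟨?_, ?_⟩
  · show ((x.2⁻¹ : Matrix.SpecialLinearGroup (Fin 2) k[X]) : Matrix (Fin 2) (Fin 2) k[X]) = _
    rw [Matrix.SpecialLinearGroup.coe_inv, hP1, matn_adj]
  · have hdet : (1 + Co.matn P) * (1 + Co.matn (Co.adj P)) = 1 := by
      rw [matn_adj, Matrix.mul_adjugate, ← hP1, x.2.det_coe, one_smul]
    have hz : P + Co.adj P + P * Co.adj P = 0 := by
      apply matn_injective
      rw [matn_add, matn_add, matn_mul, matn_zero]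
      have : (1 + Co.matn P) * (1 + Co.matn (Co.adj P))
          = 1 + (Co.matn P + Co.matn (Co.adj P) + Co.matn P * Co.matn (Co.adj P)) := by
        noncomm_ring
      rw [this] at hdet
      exact add_eq_left.mp hdet
    have hop : (1 + opn a b P) * (1 + opn a b (Co.adj P)) = 1 := by
      have : (1 + opn a b P) * (1 + opn a b (Co.adj P))
          = 1 + opn a b (P + Co.adj P + P * Co.adj P) := by
        rw [opn_add, opn_add, opn_mul ha hb]; noncomm_ring
      rw [this, hz, opn_zero, add_zero]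
    show ((x.1⁻¹ : GLkM) : Module.End k M) = _
    rw [← hP2] at hop
    calc ((x.1⁻¹ : GLkM) : Module.End k M)
        = ((x.1⁻¹ : GLkM) : Module.End k M) * ((x.1 : Module.End k M) * (1 + opn a b (Co.adj P))) := by
          rw [hop, mul_one]
      _ = 1 + opn a b (Co.adj P) := by rw [Units.inv_mul_cancel_left]

section formulas

variable {a b : Module.End k M} (ha : a * a = 0) (hb : b * b = 0)

include ha hb

/-- `h a h⁻¹` in coordinates -/
theorem conj_a_eq {x : GLkM × Matrix.SpecialLinearGroup (Fin 2) k[X]} {P : Co k}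
    (h : Coords a b x P) :
    (x.1 : Module.End k M) * a * ((x.1⁻¹ : GLkM) : Module.End k M) = opn a b (Co.conjA P) := by
  have hi := (h.inv ha hb).2
  have e1 : ((x⁻¹).1 : GLkM) = x.1⁻¹ := rfl
  rw [e1] at hi
  rw [h.2, hi, ← Co.conjA_eq, opn_add, opn_add, opn_add, opn_mul ha hb, opn_mul ha hb,
    opn_mul ha hb, opn_mul ha hb, opn_ca]
  noncomm_ring

/-- `h b h⁻¹` in coordinates -/
theorem conj_b_eq {x : GLkM × Matrix.SpecialLinearGroup (Fin 2) k[X]} {P : Co k}
    (h : Coords a b x P) :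
    (x.1 : Module.End k M) * b * ((x.1⁻¹ : GLkM) : Module.End k M) = opn a b (Co.conjB P) := by
  have hi := (h.inv ha hb).2
  have e1 : ((x⁻¹).1 : GLkM) = x.1⁻¹ := rfl
  rw [e1] at hi
  rw [h.2, hi, ← Co.conjB_eq, opn_add, opn_add, opn_add, opn_mul ha hb, opn_mul ha hb,
    opn_mul ha hb, opn_mul ha hb, opn_cb]
  noncomm_ring

/-- `opn ⟨p, 0, 0, p⟩ = p(z) z` -/
theorem opn_diag (p : k[X]) : opn a b ⟨p, 0, 0, p⟩ = aeval (zz a b) (X * p) := by
  simp only [opn, map_zero, zero_mul, add_zero, map_mul, aeval_X]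
  rw [← mul_add, ← (commute_aeval_of_commute (Commute.refl (zz a b)) p).eq]
  rfl

/-- `ζ = a ν + ν a = -γ(z)²` for `ν = h a h⁻¹` -/
theorem zeta_aa (P : Co k) :
    a * opn a b (Co.conjA P) + opn a b (Co.conjA P) * a = -(aeval (zz a b) (Co.ga P)) ^ 2 := by
  have e : (Co.ca * Co.conjA P + Co.conjA P * Co.ca : Co k) = ⟨-(X * P.s ^ 2), 0, 0, -(X * P.s ^ 2)⟩ := by
    apply Co.ext <;> simp [Co.ca, Co.conjA, Co.al]
  have : a * opn a b (Co.conjA P) + opn a b (Co.conjA P) * a
      = opn a b (Co.ca * Co.conjA P + Co.conjA P * Co.ca) := by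
    rw [opn_add, opn_mul ha hb, opn_mul ha hb, opn_ca]
  rw [this, e, opn_diag ha hb, ← map_pow, ← map_neg]
  congr 1
  simp only [Co.ga]; ring

/-- `a ν a = -γ(z)² a` -/
theorem zeta_aca (P : Co k) :
    a * opn a b (Co.conjA P) * a = -((aeval (zz a b) (Co.ga P)) ^ 2 * a) := by
  have e : (Co.ca * Co.conjA P * Co.ca : Co k) = ⟨0, -(Co.ga P ^ 2), 0, 0⟩ := by
    apply Co.ext <;> simp [Co.ca, Co.conjA, Co.al, Co.ga] <;> ring
  have : a * opn a b (Co.conjA P) * a = opn a b (Co.ca * Co.conjA P * Co.ca) := by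
    rw [opn_mul ha hb, opn_mul ha hb, opn_ca]
  rw [this, e]
  simp only [opn, map_zero, zero_mul, add_zero, zero_add, map_neg, map_pow, neg_mul]

/-- `a ν - ν a` -/
theorem zeta_comm (P : Co k) :
    a * opn a b (Co.conjA P) - opn a b (Co.conjA P) * a
      = opn a b ⟨-(X * P.s ^ 2), 2 * Co.al P * Co.ga P, 0, X * P.s ^ 2⟩ := by
  have e : (Co.ca * Co.conjA P + -(Co.conjA P * Co.ca) : Co k)
      = ⟨-(X * P.s ^ 2), 2 * Co.al P * Co.ga P, 0, X * P.s ^ 2⟩ := by
    apply Co.ext <;> simp [Co.ca, Co.conjA, Co.al, Co.ga] <;> ring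
  have : a * opn a b (Co.conjA P) - opn a b (Co.conjA P) * a
      = opn a b (Co.ca * Co.conjA P + -(Co.conjA P * Co.ca)) := by
    rw [opn_add, opn_neg, opn_mul ha hb, opn_mul ha hb, opn_ca, sub_eq_add_neg]
  rw [this, e]

end formulas

end Cfsg.Agent.QPP

end
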