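import Mathlib
import Cfsg.Agent.Helper25.QPZeta

set_option autoImplicit false

/-! Quadratic pairs: the symmetry `a ↔ b`. -/

noncomputable section

namespace Cfsg.Agent.QPP

open Cfsg Cfsg.Agent.Helper25.QP Cfsg.Agent.Helper25.QuadPair Polynomial

variable {k : Type*} [Field k] {M : Type*} [AddCommGroup M] [Module k M]

local notation "GLkM" => LinearMap.GeneralLinearGroup k M

theorem zz_swap (a b : Module.End k M) : zz b a = zz a b := by
  unfold zz; exact add_comm _ _

theorem M0_swap (a b : Module.End k M) : M0 b a = M0 a b := by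
  unfold M0; rw [zz_swap]

theorem M1_swap (a b : Module.End k M) : M1 b a = M1 a b := by
  unfold M1; rw [zz_swap]

theorem Van1_swap (a b : Module.End k M) : Van1 b a = Van1 a b := by
  unfold Van1; rw [zz_swap, M1_swap]

theorem A1_swap (a b : Module.End k M) : A1 b a = B1 a b := by
  unfold A1 B1; rw [M1_swap]

theorem B1_swap (a b : Module.End k M) : B1 b a = A1 a b := by
  unfold A1 B1; rw [M1_swap]

theorem Hgrp_swap (a b : Module.End k M) (ha : a * a = 0) (hb : b * b = 0) :
    Hgrp b a hb ha = Hgrp a b ha hb := by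
  unfold Hgrp; rw [Set.union_comm]

theorem UnipPair_swap {a b : Module.End k M} (h : UnipPair a b) : UnipPair b a := by
  obtain ⟨n, hn⟩ := h
  refine ⟨n + 1, ?_⟩
  rw [mul_pow_succ_shift, hn, mul_zero, zero_mul]

theorem UnipPair_swap_iff (a b : Module.End k M) : UnipPair b a ↔ UnipPair a b :=
  ⟨UnipPair_swap, UnipPair_swap⟩

theorem QPair.swap {G : Subgroup GLkM} {d : ℕ} {a b : Module.End k M} (h : QPair G d a b) :
    QPair G d b a := ⟨h.min, h.qb, h.qa⟩

theorem VanM0_swap {a b : Module.End k M} (h : VanM0 a b) : VanM0 b a := by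
  intro m hm
  rw [M0_swap] at hm
  exact ⟨(h m hm).2, (h m hm).1⟩

end Cfsg.Agent.QPP

end
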