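import Mathlib
import Cfsg.Agent.Helper25.QPSwap

set_option autoImplicit false
set_option linter.unusedSectionVars false
set_option linter.unusedVariables false

/-! Quadratic pairs: action formulas for `opn` on vectors killed by `a` or by `b`, and
`Hgrp ≤ G`. -/

noncomputable section

namespace Cfsg.Agent.QPP

open Cfsg Cfsg.Agent.Helper25.QP Cfsg.Agent.Helper25.QuadPair Polynomial

variable {k : Type*} [Field k] {M : Type*} [AddCommGroup M] [Module k M]

local notation "GLkM" => LinearMap.GeneralLinearGroup k M

/-- the members `1 + c a` are in `G` -/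
theorem uu_mem {G : Subgroup GLkM} {a : Module.End k M} (ha : QFam G a) (c : k) :
    uu a ha.1 c ∈ G := by
  apply InG.mem
  rw [val_uu]
  exact ha.2 c

theorem Hgrp_le {G : Subgroup GLkM} {a b : Module.End k M} (ha : QFam G a) (hb : QFam G b) :
    Hgrp a b ha.1 hb.1 ≤ G := by
  unfold Hgrp
  rw [Subgroup.closure_le]
  rintro x (⟨c, rfl⟩ | ⟨c, rfl⟩)
  · exact uu_mem ha c
  · exact uu_mem hb c

/-- every element of `Hgrp` comes from the pair group -/
theorem exists_Hpair {a b : Module.End k M} (ha : a * a = 0) (hb : b * b = 0) {h : GLkM}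
    (hh : h ∈ Hgrp a b ha hb) : ∃ x ∈ Hpair a b ha hb, x.1 = h := by
  rw [← map_fst_Hpair] at hh
  obtain ⟨x, hx, rfl⟩ := hh
  exact ⟨x, hx, rfl⟩

theorem exists_coords {a b : Module.End k M} (ha : a * a = 0) (hb : b * b = 0) {h : GLkM}
    (hh : h ∈ Hgrp a b ha hb) : ∃ x ∈ Hpair a b ha hb, x.1 = h ∧ ∃ P : Co k, Coords a b x P := by
  obtain ⟨x, hx, rfl⟩ := exists_Hpair ha hb hh
  exact ⟨x, hx, rfl, COORD ha hb x hx⟩

/-- `opn P` commutes with `z` -/
theorem commute_opn_zz {a b : Module.End k M} (ha : a * a = 0) (hb : b * b = 0) (P : Co k) :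
    Commute (opn a b P) (zz a b) := by
  have cz : ∀ f : k[X], Commute (aeval (zz a b) f) (zz a b) := fun f =>
    commute_aeval_of_commute (Commute.refl _) f
  have c1 : Commute a (zz a b) := (zz_mul_a ha).symm
  have c2 : Commute b (zz a b) := (zz_mul_b hb).symm
  unfold opn
  exact ((((cz _).mul_left (c1.mul_left c2)).add_left ((cz _).mul_left c1)).add_left
    ((cz _).mul_left c2)).add_left ((cz _).mul_left (c2.mul_left c1))

section act

variable {a b : Module.End k M} (ha : a * a = 0) (hb : b * b = 0)

include ha hb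

theorem ab_apply_of_a {u : M} (hu : a u = 0) : a (b u) = zz a b u := by
  simp [zz, hu]

theorem ba_apply_of_b {u : M} (hu : b u = 0) : b (a u) = zz a b u := by
  simp [zz, hu]

theorem aeval_a_apply (f : k[X]) (u : M) : aeval (zz a b) f (a u) = a (aeval (zz a b) f u) := by
  have := LinearMap.congr_fun (commute_aeval_a (b := b) ha f).eq u
  simpa using this

theorem aeval_b_apply (f : k[X]) (u : M) : aeval (zz a b) f (b u) = b (aeval (zz a b) f u) := by
  have := LinearMap.congr_fun (commute_aeval_b (a := a) hb f).eq u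
  simpa using this

omit ha hb in
theorem aeval_zz_apply (f : k[X]) (u : M) :
    aeval (zz a b) f (zz a b u) = zz a b (aeval (zz a b) f u) := by
  have := LinearMap.congr_fun (commute_aeval_of_commute (Commute.refl (zz a b)) f).eq u
  simpa using this

omit ha hb in
theorem aeval_X_mul_apply (f : k[X]) (u : M) :
    aeval (zz a b) (X * f) u = aeval (zz a b) f (zz a b u) := by
  rw [map_mul, aeval_X, Module.End.mul_apply, aeval_zz_apply]

/-- action on a vector killed by `a` -/
theorem opn_apply_A (P : Co k) {u : M} (hu : a u = 0) :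
    opn a b P u = aeval (zz a b) (X * P.p) u + aeval (zz a b) P.s (b u) := by
  simp only [opn, LinearMap.add_apply, Module.End.mul_apply, hu, map_zero, add_zero,
    ab_apply_of_a ha hb hu, aeval_X_mul_apply]

theorem a_opn_apply_A (P : Co k) {u : M} (hu : a u = 0) :
    a (opn a b P u) = aeval (zz a b) (X * P.s) u := by
  rw [opn_apply_A ha hb P hu, map_add, ← aeval_a_apply ha hb, hu, map_zero, zero_add,
    ← aeval_a_apply ha hb, ab_apply_of_a ha hb hu, aeval_X_mul_apply]

/-- action on a vector killed by `b` -/
theorem opn_apply_B (P : Co k) {u : M} (hu : b u = 0) :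
    opn a b P u = aeval (zz a b) P.q (a u) + aeval (zz a b) (X * P.t) u := by
  simp only [opn, LinearMap.add_apply, Module.End.mul_apply, hu, map_zero, add_zero, zero_add,
    ba_apply_of_b ha hb hu, aeval_X_mul_apply]

theorem b_opn_apply_B (P : Co k) {u : M} (hu : b u = 0) :
    b (opn a b P u) = aeval (zz a b) (X * P.q) u := by
  rw [opn_apply_B ha hb P hu, map_add, ← aeval_b_apply ha hb _ u, hu, map_zero, add_zero,
    ← aeval_b_apply ha hb, ba_apply_of_b ha hb hu, aeval_X_mul_apply]

/-- action of a group element with coordinates `P` on a vector killed by `a` -/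
theorem h_apply_A {x : GLkM × Matrix.SpecialLinearGroup (Fin 2) k[X]} {P : Co k}
    (hP : Coords a b x P) {u : M} (hu : a u = 0) :
    (x.1 : Module.End k M) u = aeval (zz a b) (Co.al P) u + aeval (zz a b) P.s (b u) := by
  rw [hP.2, LinearMap.add_apply, Module.End.one_apply, opn_apply_A ha hb P hu, ← add_assoc]
  congr 1
  simp only [Co.al, map_add, map_one, LinearMap.add_apply, Module.End.one_apply]

theorem a_h_apply_A {x : GLkM × Matrix.SpecialLinearGroup (Fin 2) k[X]} {P : Co k}
    (hP : Coords a b x P) {u : M} (hu : a u = 0) :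
    a ((x.1 : Module.End k M) u) = aeval (zz a b) (Co.ga P) u := by
  rw [hP.2, LinearMap.add_apply, Module.End.one_apply, map_add, hu, zero_add,
    a_opn_apply_A ha hb P hu]
  rfl

/-- action of a group element with coordinates `P` on a vector killed by `b` -/
theorem h_apply_B {x : GLkM × Matrix.SpecialLinearGroup (Fin 2) k[X]} {P : Co k}
    (hP : Coords a b x P) {u : M} (hu : b u = 0) :
    (x.1 : Module.End k M) u = aeval (zz a b) (Co.be P) (a u) + aeval (zz a b) (Co.de P) u := by
  rw [hP.2, LinearMap.add_apply, Module.End.one_apply, opn_apply_B ha hb P hu, add_comm u,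
    add_assoc]
  congr 1
  simp only [Co.de, map_add, map_one, LinearMap.add_apply, Module.End.one_apply]
  exact add_comm _ _

theorem b_h_apply_B {x : GLkM × Matrix.SpecialLinearGroup (Fin 2) k[X]} {P : Co k}
    (hP : Coords a b x P) {u : M} (hu : b u = 0) :
    b ((x.1 : Module.End k M) u) = aeval (zz a b) (X * Co.be P) u := by
  rw [hP.2, LinearMap.add_apply, Module.End.one_apply, map_add, hu, zero_add,
    b_opn_apply_B ha hb P hu]
  rfl

end act

end Cfsg.Agent.QPP

end
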