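import Mathlib
import Cfsg.Agent.Helper25.QPSwap

set_option autoImplicit false

/-! Quadratic pairs: definitions for the root-subgroup level (second batch of the board `qppieces`). -/

noncomputable section

namespace Cfsg.Agent.QPP

open Cfsg Cfsg.Agent.Helper25.QP Cfsg.Agent.Helper25.QuadPair Polynomial

variable {k : Type*} [Field k] {M : Type*} [AddCommGroup M] [Module k M]

local notation "GLkM" => LinearMap.GeneralLinearGroup k M

/-- `a` and `b` are opposite: `M = ker a ⊕ range b = ker b ⊕ range a` -/
def OppPair (a b : Module.End k M) : Prop :=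
  IsCompl (LinearMap.ker a) (LinearMap.range b) ∧ IsCompl (LinearMap.ker b) (LinearMap.range a)

theorem OppPair.symm {a b : Module.End k M} (h : OppPair a b) : OppPair b a := ⟨h.2, h.1⟩

/-- every pair of elements of the two root subgroups is unipotent -/
def AllUnip (E F : Subgroup GLkM) : Prop :=
  ∀ e ∈ E, ∀ f ∈ F, UnipPair ((e : Module.End k M) - 1) ((f : Module.End k M) - 1)

end Cfsg.Agent.QPP

end
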