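import Mathlib
import Cfsg.Agent.Helper25.QPAct
import Cfsg.Agent.Helper19.QPFIT
import Cfsg.Agent.Helper20.QPIDEM
import Cfsg.Agent.Helper21.QPFAITH
import Cfsg.Agent.Helper7.QPP3W

set_option autoImplicit false
set_option linter.unusedSectionVars false
set_option linter.unusedVariables false

/-! Quadratic pairs: the rigidity lemma `LEMG`. -/

noncomputable section

namespace Cfsg.Agent.QPP

open Cfsg Cfsg.Agent.Helper25.QP Cfsg.Agent.Helper25.QuadPair Polynomial

variable {k : Type*} [Field k] {M : Type*} [AddCommGroup M] [Module k M]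

local notation "GLkM" => LinearMap.GeneralLinearGroup k M


/-- polynomials in `z` preserve `A1` -/
theorem aeval_mem_A1 {a b : Module.End k M} (ha : a * a = 0) (hb : b * b = 0) (f : k[X]) {u : M}
    (hu : u ∈ A1 a b) : aeval (zz a b) f u ∈ A1 a b := by
  refine ⟨FIT_inv1 (zz a b) _ (commute_aeval_of_commute (Commute.refl _) f) u hu.1, ?_⟩
  show a (aeval (zz a b) f u) = 0
  rw [← aeval_a_apply ha hb, LinearMap.mem_ker.1 hu.2, map_zero]

/-- an element of `Van1` kills `M1` -/
theorem Van1_apply {a b : Module.End k M} {q : k[X]} (hq : q ∈ Van1 a b) {m : M} (hm : m ∈ M1 a b) :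
    aeval (zz a b) q m = 0 := hq m hm

/-- `a` maps `M1` into `A1` -/
theorem a_mem_A1 [FiniteDimensional k M] {a b : Module.End k M} (ha : a * a = 0) (hb : b * b = 0)
    {m : M} (hm : m ∈ M1 a b) : a m ∈ A1 a b := by
  rw [← IDEM_mapa a b ha hb]
  exact ⟨m, hm, rfl⟩

/-- a power of `X` times a polynomial, evaluated at `z`, applied to a vector -/
theorem aeval_Xpow_mul_apply (z : Module.End k M) (n : ℕ) (r : k[X]) (m : M) :
    aeval z (X ^ n * r) m = aeval z r ((z ^ n) m) := by
  rw [mul_comm, map_mul, map_pow, aeval_X, Module.End.mul_apply]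

/-- the rank bound in the unipotent case -/
theorem LEMG_rank [FiniteDimensional k M] {a b ν : Module.End k M} (ha : a * a = 0)
    (hb : b * b = 0) (g : GLkM) (hgz : Commute (g : Module.End k M) (zz a b))
    (hν : ν = (g : Module.End k M) * a * ((g⁻¹ : GLkM) : Module.End k M))
    (h1 : a * ν * a = 0) (γ : k[X])
    (hA : ∀ u ∈ A1 a b, (a * ν - ν * a) u = 0)
    (hB : ∀ u ∈ B1 a b, ∃ v ∈ A1 a b, (a * ν - ν * a) u = aeval (zz a b) γ v)
    (u0 : M) (hu0 : u0 ∈ A1 a b) (hu0ne : u0 ≠ 0) (hγu0 : aeval (zz a b) γ u0 = 0) :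
    Module.finrank k (LinearMap.range (a * ν - ν * a)) < Module.finrank k (LinearMap.range a) := by
  set c : Module.End k M := a * ν - ν * a with hc
  have htop : M0 a b ⊔ M1 a b = ⊤ := (FIT_compl (zz a b)).sup_eq_top
  have hr : LinearMap.range c = (M0 a b).map c ⊔ (M1 a b).map c := by
    rw [← Submodule.map_sup, htop, Submodule.map_top]
  -- the part on M1
  have hM1 : (M1 a b).map c ≤ (A1 a b).map (aeval (zz a b) γ) := by
    rw [← IDEM_sup a b ha hb, Submodule.map_sup]
    apply sup_le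
    · rintro _ ⟨u, hu, rfl⟩
      rw [hA u hu]; exact Submodule.zero_mem _
    · rintro _ ⟨u, hu, rfl⟩
      obtain ⟨v, hv, e⟩ := hB u hu
      rw [e]; exact ⟨v, hv, rfl⟩
  have hlt : Module.finrank k ((A1 a b).map (aeval (zz a b) γ)) < Module.finrank k (A1 a b) := by
    have h := finrank_map_add_finrank_inf_ker (aeval (zz a b) γ) (A1 a b)
    have hpos : 0 < Module.finrank k (A1 a b ⊓ LinearMap.ker (aeval (zz a b) γ) : Submodule k M) := by
      rw [Module.finrank_pos_iff_exists_ne_zero]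
      exact ⟨⟨u0, hu0, hγu0⟩, fun h => hu0ne (congrArg Subtype.val h)⟩
    omega
  -- the part on M0
  have hzg : Commute ((g⁻¹ : GLkM) : Module.End k M) (zz a b) := by
    have := hgz.units_inv_left (u := g)
    simpa using this
  have hM0a : (M0 a b).map a ≤ M0 a b := by
    rintro _ ⟨m, hm, rfl⟩
    exact FIT_inv0 (zz a b) a (zz_mul_a ha).symm m hm
  have hM0 : Module.finrank k ((M0 a b).map c) ≤ Module.finrank k ((M0 a b).map a) := by
    have h3 := P3W h1 (M0 a b) hM0a
    have hle : (M0 a b).map c ≤ (M0 a b).map (a * ν) ⊔ (M0 a b).map (ν * a) := by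
      rintro _ ⟨m, hm, rfl⟩
      rw [hc, LinearMap.sub_apply]
      exact Submodule.sub_mem _ (Submodule.mem_sup_left ⟨m, hm, rfl⟩)
        (Submodule.mem_sup_right ⟨m, hm, rfl⟩)
    have h4 := (Submodule.finrank_mono hle).trans (Submodule.finrank_add_le_finrank_add_finrank _ _)
    have h5 : (M0 a b).map ν ≤ ((M0 a b).map a).map (g : Module.End k M) := by
      rintro _ ⟨m, hm, rfl⟩
      refine ⟨a (((g⁻¹ : GLkM) : Module.End k M) m), ⟨_, FIT_inv0 (zz a b) _ hzg m hm, rfl⟩, ?_⟩
      rw [hν]; rfl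
    have h6 := (Submodule.finrank_mono h5).trans (Submodule.finrank_map_le _ _)
    omega
  have h7 : Module.finrank k (LinearMap.range c)
      ≤ Module.finrank k ((M0 a b).map c) + Module.finrank k ((M1 a b).map c) := by
    rw [hr]; exact Submodule.finrank_add_le_finrank_add_finrank _ _
  have h8 := Submodule.finrank_mono hM1
  rw [IDEM_rank_a a b ha hb]
  omega

/-- LEMG: the rigidity lemma -/
theorem LEMG [FiniteDimensional k M] (h2 : (2 : k) ≠ 0) {G : Subgroup GLkM} {d : ℕ}
    {a b : Module.End k M} (hp : QPair G d a b) (hnu : ¬ UnipPair a b)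
    (ih : IHA G d (Module.finrank k (M1 a b)))
    (h : GLkM) (hh : h ∈ Hgrp a b hp.qa.1.1 hp.qb.1.1)
    (hex : ∃ u ∈ A1 a b, u ≠ 0 ∧ a ((h : Module.End k M) u) = 0) :
    ∀ u ∈ A1 a b, a ((h : Module.End k M) u) = 0 := by
  have ha := hp.qa.1.1
  have hb := hp.qb.1.1
  obtain ⟨x, hx, rfl, P, hP⟩ := exists_coords ha hb hh
  -- the key formula `a (h u) = γ(z) u` on `A1`
  have hform : ∀ u ∈ A1 a b, a ((x.1 : Module.End k M) u) = aeval (zz a b) (Co.ga P) u := by
    intro u hu
    have hau : a u = 0 := hu.2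
    rw [hP.2, LinearMap.add_apply, Module.End.one_apply, map_add, hau, zero_add,
      a_opn_apply_A ha hb P hau]
    rfl
  obtain ⟨u0, hu0, hu0ne, hu0a⟩ := hex
  rw [hform u0 hu0] at hu0a
  suffices hga : Co.ga P ∈ Van1 a b by
    intro u hu
    rw [hform u hu]
    exact hga u hu.1
  -- the conjugate `ν = h a h⁻¹`
  obtain ⟨ν, hν⟩ : ∃ ν : Module.End k M,
      ν = (x.1 : Module.End k M) * a * ((x.1⁻¹ : GLkM) : Module.End k M) := ⟨_, rfl⟩
  have hνP : ν = opn a b (Co.conjA P) := by rw [hν]; exact conj_a_eq ha hb hP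
  have hxG : x.1 ∈ G := Hgrp_le hp.qa.1 hp.qb.1 hh
  have hi1 : ((x.1⁻¹ : GLkM) : Module.End k M) * (x.1 : Module.End k M) = 1 := by
    rw [← Units.val_mul, inv_mul_cancel]; rfl
  have hi2 : (x.1 : Module.End k M) * ((x.1⁻¹ : GLkM) : Module.End k M) = 1 := by
    rw [← Units.val_mul, mul_inv_cancel]; rfl
  have hQν : QFam G ν := by
    rw [hν]
    exact hp.qa.1.conj (InG.of_mem (G.inv_mem hxG)) hi1 hi2
  have hrν : Module.finrank k (LinearMap.range ν) = d := by
    rw [hν, finrank_range_conj hi1 hi2]; exact hp.qa.2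
  have hxz : Commute (x.1 : Module.End k M) (zz a b) := by
    rw [hP.2]
    exact (Commute.one_left _).add_left (commute_opn_zz ha hb P)
  by_cases hU : UnipPair a ν
  · -- the unipotent case
    obtain ⟨n, hn⟩ := hU
    obtain ⟨h1, h1'⟩ := star h2 hp.min n hp.qa.1 hQν hp.qa.2 hrν hn
    have hg2a : (aeval (zz a b) (Co.ga P)) ^ 2 * a = 0 := by
      have := zeta_aca ha hb P
      rw [← hνP, h1] at this
      exact neg_eq_zero.mp this.symm
    have hg2 : Co.ga P ^ 2 ∈ Van1 a b := by
      apply FAITH_A a b ha hb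
      intro u hu
      have : u ∈ (M1 a b).map a := by rw [IDEM_mapa a b ha hb]; exact hu
      obtain ⟨u', _, rfl⟩ := this
      have := LinearMap.congr_fun hg2a u'
      simpa [map_pow] using this
    -- the commutator in coordinates
    have hc : a * ν - ν * a
        = opn a b ⟨-(X * P.s ^ 2), 2 * Co.al P * Co.ga P, 0, X * P.s ^ 2⟩ := by
      rw [hνP]; exact zeta_comm ha hb P
    have hcA : ∀ u ∈ A1 a b, (a * ν - ν * a) u = 0 := by
      intro u hu
      rw [hc, opn_apply_A ha hb _ hu.2]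
      simp only [map_zero, LinearMap.zero_apply, add_zero]
      have e : (X * -(X * P.s ^ 2) : k[X]) = -(Co.ga P ^ 2) := by simp only [Co.ga]; ring
      rw [e, map_neg, LinearMap.neg_apply, hg2 u hu.1, neg_zero]
    have hcB : ∀ u ∈ B1 a b, (a * ν - ν * a) u
        = aeval (zz a b) (Co.ga P) (aeval (zz a b) (2 * Co.al P) (a u)) := by
      intro u hu
      rw [hc, opn_apply_B ha hb _ hu.2]
      have e : (X * (X * P.s ^ 2) : k[X]) = Co.ga P ^ 2 := by simp only [Co.ga]; ring
      simp only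
      rw [e, hg2 u hu.1, add_zero, show (2 * Co.al P * Co.ga P : k[X]) = Co.ga P * (2 * Co.al P) by ring,
        map_mul, Module.End.mul_apply]
    have hcomm : a * ν = ν * a := by
      by_contra hne
      have hr := (star_rank hp.min hp.qa.1 hQν hp.qa.2 hrν h1 h1' hne).1
      have hlt := LEMG_rank ha hb x.1 hxz hν h1 (Co.ga P) hcA
        (fun u hu => ⟨_, aeval_mem_A1 ha hb _ (a_mem_A1 ha hb hu.1), hcB u hu⟩)
        u0 hu0 hu0ne hu0a
      rw [hr, hp.qa.2] at hlt
      exact lt_irrefl _ hlt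
    -- `2 α γ ∈ Van1`
    have h2ag : 2 * Co.al P * Co.ga P ∈ Van1 a b := by
      apply FAITH_A a b ha hb
      intro u hu
      have : u ∈ (B1 a b).map a := by rw [IDEM_a_B1 a b ha hb]; exact hu
      obtain ⟨u', hu', rfl⟩ := this
      have e := hcB u' hu'
      rw [hcomm, sub_self, LinearMap.zero_apply, ← Module.End.mul_apply, ← map_mul] at e
      rw [mul_comm]
      exact e.symm
    -- `2 γ = (2 α γ) δ - 2 β γ²`
    have hdet := hP.det
    have e2 : (C (2 : k)) * Co.ga P
        = (2 * Co.al P * Co.ga P) * Co.de P - (2 * Co.be P) * Co.ga P ^ 2 := by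
      have : (C (2 : k) : k[X]) = 2 := map_ofNat C 2
      rw [this]
      linear_combination (-(2 * Co.ga P)) * hdet
    have h2g : C (2 : k) * Co.ga P ∈ Van1 a b := by
      rw [e2]
      exact (Van1 a b).sub_mem ((Van1 a b).mul_mem_right _ h2ag) ((Van1 a b).mul_mem_left _ hg2)
    have : Co.ga P = C (2 : k)⁻¹ * (C (2 : k) * Co.ga P) := by
      rw [← mul_assoc, ← C_mul, inv_mul_cancel₀ h2, C_1, one_mul]
    rw [this]
    exact (Van1 a b).mul_mem_left _ h2g
  · -- the non-unipotent case is impossible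
    exfalso
    have hζ : zz a ν = -(aeval (zz a b) (Co.ga P)) ^ 2 := by
      show a * ν + ν * a = _
      rw [hνP]; exact zeta_aa ha hb P
    have hζc : Commute (zz a ν) (zz a b) := by
      rw [hζ]
      exact ((commute_aeval_of_commute (Commute.refl (zz a b)) _).pow_left 2).neg_left
    have hζq : zz a ν = aeval (zz a b) (X * (-(X * P.s ^ 2))) := by
      rw [hζ, ← map_pow, ← map_neg]
      congr 1
      simp only [Co.ga]; ring
    obtain ⟨n, hn⟩ := FIT_nil (zz a b)
    have hnil : ∃ n : ℕ, ∀ m ∈ F0 (zz a b), ((zz a ν) ^ n) m = 0 := by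
      refine ⟨n, fun m hm => ?_⟩
      rw [hζq, ← map_pow, mul_pow, aeval_Xpow_mul_apply, hn m hm, map_zero]
    obtain ⟨h01, h10⟩ := FIT_le (zz a b) (zz a ν) hζc hnil
    have hu0ζ : u0 ∈ F0 (zz a ν) := by
      apply Submodule.mem_iSup_of_mem 1
      rw [pow_one, LinearMap.mem_ker, hζ, LinearMap.neg_apply, pow_two, Module.End.mul_apply, hu0a,
        map_zero, neg_zero]
    have hlt : Module.finrank k (M1 a ν) < Module.finrank k (M1 a b) := by
      apply Submodule.finrank_lt_finrank_of_lt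
      refine lt_of_le_of_ne h10 ?_
      intro heq
      have hmem : u0 ∈ F0 (zz a ν) ⊓ F1 (zz a ν) := ⟨hu0ζ, by
        show u0 ∈ M1 a ν
        rw [heq]; exact hu0.1⟩
      rw [(FIT_compl (zz a ν)).inf_eq_bot] at hmem
      exact hu0ne ((Submodule.mem_bot k).1 hmem)
    have hv := ih a ν hp.qa ⟨hQν, hrν⟩ hU hlt
    -- `b u0 ∈ M0 a ν`
    have hbζ : Commute b (zz a ν) := by
      rw [hζ]
      exact ((commute_aeval_b hb _).symm.pow_right 2).neg_right
    have hbu0 : b u0 ∈ M0 a ν := FIT_inv0 (zz a ν) b hbζ u0 hu0ζ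
    have habu0 : a (b u0) = 0 := (hv _ hbu0).1
    have hzu0 : zz a b u0 = 0 := by
      rw [← ab_apply_of_a ha hb hu0.2, habu0]
    exact hu0ne (FIT_inj (zz a b) u0 hu0.1 hzu0)

end Cfsg.Agent.QPP

end
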