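import Mathlib
import Cfsg.Agent.Helper25.QPDefs2
import Cfsg.Agent.Helper25.QPAct
import Cfsg.Agent.Helper12.QPTHMA
import Cfsg.Agent.Helper17.QPKER
import Cfsg.Agent.Helper14.QPSURJ
import Cfsg.Agent.Helper11.QPTHMB

set_option autoImplicit false
set_option linter.unusedSectionVars false
set_option linter.unusedVariables false

/-! Quadratic pairs: the explicit homomorphism `φ : SL₂(K) → GL(M)` (piece PHI). -/

noncomputable section

universe u v

namespace Cfsg.Agent.QPP

open Cfsg Cfsg.Agent.Helper25.QP Cfsg.Agent.Helper25.QuadPair Polynomial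

variable {k : Type u} [Field k] {M : Type v} [AddCommGroup M] [Module k M]

local notation "GLkM" => LinearMap.GeneralLinearGroup k M


/-- the action of an element of the pair group is determined by its matrix modulo `Van1` -/
theorem act_of_congr [FiniteDimensional k M] {a b : Module.End k M} (ha : a * a = 0)
    (hb : b * b = 0) (hv : VanM0 a b) {x : GLkM × Matrix.SpecialLinearGroup (Fin 2) k[X]}
    (hx : x ∈ Hpair a b ha hb) (Q : Co k)
    (hQ : ∀ i j, Ideal.Quotient.mk (Van1 a b) ((x.2 : Matrix (Fin 2) (Fin 2) k[X]) i j)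
      = Ideal.Quotient.mk (Van1 a b) ((1 + Co.matn Q) i j)) :
    (∀ m ∈ M0 a b, (x.1 : Module.End k M) m = m) ∧
      (∀ m ∈ M1 a b, (x.1 : Module.End k M) m = m + opn a b Q m) := by
  obtain ⟨P, hP1, hP2⟩ := COORD ha hb x hx
  constructor
  · intro m hm
    rw [hP2, LinearMap.add_apply, Module.End.one_apply, KER_aux_M0 a b hv P m hm, add_zero]
  · intro m hm
    have h00 := hQ 0 0
    have h01 := hQ 0 1
    have h10 := hQ 1 0
    have h11 := hQ 1 1
    rw [hP1] at h00 h01 h10 h11
    simp only [Co.matn, Matrix.add_apply, Matrix.one_apply_eq, Matrix.one_apply_ne, ne_eq,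
      zero_ne_one, one_ne_zero, not_false_eq_true, Matrix.of_apply, Matrix.cons_val',
      Matrix.cons_val_zero, Matrix.cons_val_one, Matrix.empty_val', Matrix.cons_val_fin_one,
      map_add, map_one, zero_add, Fin.isValue, add_right_inj] at h00 h01 h10 h11
    rw [Ideal.Quotient.eq, ← mul_sub] at h00 h10 h11
    rw [Ideal.Quotient.eq] at h01
    rw [KER_aux_X] at h00 h10 h11
    have hD : ∀ m ∈ M1 a b, opn a b (P + -Q) m = 0 := by
      rw [ACT1 a b ha hb]
      refine ⟨?_, ?_, ?_, ?_⟩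
      · simpa [sub_eq_add_neg] using h00
      · simpa [sub_eq_add_neg] using h01
      · simpa [sub_eq_add_neg] using h10
      · simpa [sub_eq_add_neg] using h11
    have := hD m hm
    rw [opn_add, opn_neg, LinearMap.add_apply, LinearMap.neg_apply, add_neg_eq_zero] at this
    rw [hP2, LinearMap.add_apply, Module.End.one_apply, this]

/-- entries of the image of a matrix in the quotient -/
theorem map_mk_apply (I : Ideal k[X]) (g : Matrix.SpecialLinearGroup (Fin 2) k[X]) (i j : Fin 2) :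
    (Matrix.SpecialLinearGroup.map (Ideal.Quotient.mk I) g : Matrix (Fin 2) (Fin 2) (k[X] ⧸ I)) i j
      = Ideal.Quotient.mk I ((g : Matrix (Fin 2) (Fin 2) k[X]) i j) := rfl

/-- PHI, for the plain commutative ring structure of the quotient -/
theorem PHI0 [FiniteDimensional k M] (hk2 : ringChar k ≠ 2) (hk3 : Nat.card k ≠ 3)
    {G : Subgroup GLkM} {d : ℕ} {a b : Module.End k M} (hp : QPair G d a b)
    (hnu : ¬ UnipPair a b) :
    ∃ φ : Matrix.SpecialLinearGroup (Fin 2) (k[X] ⧸ Van1 a b) →* GLkM,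
      Function.Injective φ ∧ φ.range = Hgrp a b hp.qa.1.1 hp.qb.1.1 ∧
      (∀ q : k[X], ((φ (e12 (Ideal.Quotient.mk (Van1 a b) q)) : GLkM) : Module.End k M)
        = 1 + aeval (zz a b) q * a) ∧
      (∀ q : k[X], ((φ (e21 (Ideal.Quotient.mk (Van1 a b) (X * q))) : GLkM) : Module.End k M)
        = 1 + aeval (zz a b) q * b) := by
  have ha := hp.qa.1.1
  have hb := hp.qb.1.1
  have hv : VanM0 a b := THMA hk2 hk3 hp hnu
  have hc := FIT_compl (zz a b)
  -- the two homomorphisms on the pair group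
  let ψ : ↥(Hpair a b ha hb) →* Matrix.SpecialLinearGroup (Fin 2) (k[X] ⧸ Van1 a b) :=
    (Matrix.SpecialLinearGroup.map (Ideal.Quotient.mk (Van1 a b))).comp
      ((MonoidHom.snd GLkM (Matrix.SpecialLinearGroup (Fin 2) k[X])).comp (Hpair a b ha hb).subtype)
  let f₁ : ↥(Hpair a b ha hb) →* GLkM :=
    (MonoidHom.fst GLkM (Matrix.SpecialLinearGroup (Fin 2) k[X])).comp (Hpair a b ha hb).subtype
  have hψ : ∀ x : ↥(Hpair a b ha hb),
      ψ x = Matrix.SpecialLinearGroup.map (Ideal.Quotient.mk (Van1 a b)) x.1.2 := fun _ => rfl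
  have hf₁ : ∀ x : ↥(Hpair a b ha hb), f₁ x = x.1.1 := fun _ => rfl
  have hsurj : Function.Surjective ψ := by
    intro g
    obtain ⟨x, hx, hxg⟩ := SURJ hk2 hk3 hp hnu g
    exact ⟨⟨x, hx⟩, hxg⟩
  have hker : ψ.ker ≤ f₁.ker := by
    intro x hx
    rw [MonoidHom.mem_ker, hψ] at hx
    rw [MonoidHom.mem_ker, hf₁]
    exact (KER a b ha hb hv x.1 x.2).2 hx
  let e := QuotientGroup.quotientKerEquivOfSurjective ψ hsurj
  let φ : Matrix.SpecialLinearGroup (Fin 2) (k[X] ⧸ Van1 a b) →* GLkM :=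
    (QuotientGroup.lift ψ.ker f₁ hker).comp e.symm.toMonoidHom
  have key : ∀ x : ↥(Hpair a b ha hb), φ (ψ x) = f₁ x := by
    intro x
    have h1 : e (QuotientGroup.mk x) = ψ x := rfl
    show (QuotientGroup.lift ψ.ker f₁ hker) (e.symm (ψ x)) = f₁ x
    rw [← h1, MulEquiv.symm_apply_apply, QuotientGroup.lift_mk]
  -- every value of φ is of the form `x.1`
  have hval : ∀ g, ∃ x : ↥(Hpair a b ha hb), ψ x = g ∧ φ g = x.1.1 := by
    intro g
    obtain ⟨x, rfl⟩ := hsurj g
    exact ⟨x, rfl, key x⟩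
  -- determination of an endomorphism by its action on M0 and M1
  have hext : ∀ {f g : Module.End k M}, (∀ m ∈ M0 a b, f m = g m) → (∀ m ∈ M1 a b, f m = g m) →
      f = g := by
    intro f g h0 h1
    apply LinearMap.ext
    intro m
    have hm : m ∈ F0 (zz a b) ⊔ F1 (zz a b) := by rw [hc.sup_eq_top]; trivial
    obtain ⟨m0, hm0, m1, hm1, rfl⟩ := Submodule.mem_sup.1 hm
    rw [map_add, map_add, h0 m0 hm0, h1 m1 hm1]
  refine ⟨φ, ?_, ?_, ?_, ?_⟩
  · -- injective
    rw [injective_iff_map_eq_one]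
    intro g hg
    obtain ⟨x, rfl, hx⟩ := hval g
    rw [hg] at hx
    rw [hψ]
    exact (KER a b ha hb hv x.1 x.2).1 hx.symm
  · -- range
    ext h
    constructor
    · rintro ⟨g, rfl⟩
      obtain ⟨x, -, hx⟩ := hval g
      rw [hx, ← map_fst_Hpair a b ha hb]
      exact ⟨x.1, x.2, rfl⟩
    · intro hh
      obtain ⟨x, hx, rfl⟩ := exists_Hpair ha hb hh
      exact ⟨ψ ⟨x, hx⟩, key ⟨x, hx⟩⟩
  · -- upper unitriangular
    intro q
    obtain ⟨x, hxg, hx⟩ := hval (e12 (Ideal.Quotient.mk (Van1 a b) q))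
    rw [hx]
    have hcong : ∀ i j, Ideal.Quotient.mk (Van1 a b) ((x.1.2 : Matrix (Fin 2) (Fin 2) k[X]) i j)
        = Ideal.Quotient.mk (Van1 a b) ((1 + Co.matn ⟨0, q, 0, 0⟩) i j) := by
      intro i j
      rw [← map_mk_apply, ← hψ, hxg]
      fin_cases i <;> fin_cases j <;> simp [e12, Co.matn]
    obtain ⟨h0, h1⟩ := act_of_congr ha hb hv x.2 ⟨0, q, 0, 0⟩ hcong
    apply hext
    · intro m hm
      rw [h0 m hm, LinearMap.add_apply, Module.End.one_apply, Module.End.mul_apply, (hv m hm).1,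
        map_zero, add_zero]
    · intro m hm
      rw [h1 m hm, LinearMap.add_apply, Module.End.one_apply]
      simp only [opn, map_zero, zero_mul, add_zero, zero_add]
  · -- lower unitriangular
    intro q
    obtain ⟨x, hxg, hx⟩ := hval (e21 (Ideal.Quotient.mk (Van1 a b) (X * q)))
    rw [hx]
    have hcong : ∀ i j, Ideal.Quotient.mk (Van1 a b) ((x.1.2 : Matrix (Fin 2) (Fin 2) k[X]) i j)
        = Ideal.Quotient.mk (Van1 a b) ((1 + Co.matn ⟨0, 0, q, 0⟩) i j) := by
      intro i j
      rw [← map_mk_apply, ← hψ, hxg]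
      fin_cases i <;> fin_cases j <;> simp [e21, Co.matn]
    obtain ⟨h0, h1⟩ := act_of_congr ha hb hv x.2 ⟨0, 0, q, 0⟩ hcong
    apply hext
    · intro m hm
      rw [h0 m hm, LinearMap.add_apply, Module.End.one_apply, Module.End.mul_apply, (hv m hm).2,
        map_zero, add_zero]
    · intro m hm
      rw [h1 m hm, LinearMap.add_apply, Module.End.one_apply]
      simp only [opn, map_zero, zero_mul, add_zero, zero_add]

end Cfsg.Agent.QPP

end
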