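import Mathlib
import Cfsg.Agent.Helper25.QPPHI
import Cfsg.Agent.Helper25.SL2RankOne
import Cfsg.Agent.Helper4.QPROOT
import Cfsg.Agent.Helper23.QPTRANS
import Cfsg.Agent.Helper14.QPVANU

set_option autoImplicit false
set_option linter.unusedSectionVars false
set_option linter.unusedVariables false

/-! Quadratic pairs: the `PSL₂`-pair inside `⟨E(σ), E(τ)⟩` (interface lemma IF3 for QUADPAIR-2). -/

noncomputable section

universe u v

namespace Cfsg.Agent.QPP

open Cfsg Cfsg.Agent.Helper25.QP Cfsg.Agent.Helper25.QuadPair Polynomial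

variable {k : Type u} [Field k] {M : Type v} [AddCommGroup M] [Module k M]

local notation "GLkM" => LinearMap.GeneralLinearGroup k M

/-- four distinct elements -/
theorem three_lt_card_of {K : Type*} (x0 x1 x2 x3 : K) (h01 : x0 ≠ x1) (h02 : x0 ≠ x2)
    (h03 : x0 ≠ x3) (h12 : x1 ≠ x2) (h13 : x1 ≠ x3) (h23 : x2 ≠ x3) : 3 < ENat.card K := by
  classical
  rcases finite_or_infinite K with h | h
  · have := Fintype.ofFinite K
    rw [ENat.card_eq_coe_fintype_card]
    have h4 : ({x0, x1, x2, x3} : Finset K).card = 4 := by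
      rw [Finset.card_insert_of_notMem, Finset.card_insert_of_notMem, Finset.card_insert_of_notMem,
        Finset.card_singleton]
      · simpa using h23
      · simp [h12, h13]
      · simp [h01, h02, h03]
    have := Finset.card_le_univ ({x0, x1, x2, x3} : Finset K)
    have h5 : 3 < Fintype.card K := by omega
    exact_mod_cast h5
  · rw [ENat.card_eq_top_of_infinite]; exact ENat.natCast_lt_top 3

/-- a member `1 + q(z) a` of the root subgroup of `σ = 1 + a`, `q` invertible "modulo `a`" -/
theorem fam_mem_root [FiniteDimensional k M] {G : Subgroup GLkM} {σ : GLkM}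
    (hσ : σ ∈ minimalQuadraticElements G) {z : Module.End k M}
    (hz : Commute z ((σ : Module.End k M) - 1)) (q q' : k[X])
    (hqq' : aeval z (q * q') * ((σ : Module.End k M) - 1) = (σ : Module.End k M) - 1)
    (hG : ∀ c : k, InG G (1 + aeval z (C c * q) * ((σ : Module.End k M) - 1))) :
    ∃ e ∈ sameActionSubgroup G σ, (e : Module.End k M) = 1 + aeval z q * ((σ : Module.End k M) - 1) := by
  obtain ⟨a, hadef⟩ : ∃ a : Module.End k M, a = (σ : Module.End k M) - 1 := ⟨_, rfl⟩
  rw [← hadef] at hz hqq' hG ⊢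
  have haa : a * a = 0 := by rw [hadef]; exact hσ.1.2.1.1
  have ha0 : a ≠ 0 := by rw [hadef]; exact hσ.1.2.1.2
  have hc : ∀ f : k[X], Commute (aeval z f) a := fun f => commute_aeval_of_commute hz f
  have hx : QFam G (aeval z q * a) := by
    refine ⟨?_, fun c => ?_⟩
    · rw [mul_assoc, ← mul_assoc a, ← (hc q).eq, mul_assoc, haa, mul_zero, mul_zero]
    · have : (1 + c • (aeval z q * a) : Module.End k M) = 1 + aeval z (C c * q) * a := by
        rw [map_mul, aeval_C, Algebra.algebraMap_eq_smul_one, smul_mul_assoc, one_mul,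
          smul_mul_assoc]
      rw [this]; exact hG c
  have hq' : aeval z q' * (aeval z q * a) = a := by
    rw [← mul_assoc, ← map_mul, mul_comm q' q]; exact hqq'
  have hx0 : aeval z q * a ≠ 0 := by
    intro h0
    rw [h0, mul_zero] at hq'
    exact ha0 hq'.symm
  have hk : LinearMap.ker (aeval z q * a) = LinearMap.ker a := by
    ext m
    simp only [LinearMap.mem_ker, Module.End.mul_apply]
    constructor
    · intro h
      have := LinearMap.congr_fun hq' m
      simp only [Module.End.mul_apply] at this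
      rw [h, map_zero] at this
      exact this.symm
    · intro h
      rw [h, map_zero]
  have hr : LinearMap.range (aeval z q * a) = LinearMap.range a := by
    ext m
    constructor
    · rintro ⟨m', rfl⟩
      refine ⟨aeval z q m', ?_⟩
      have := LinearMap.congr_fun (hc q).eq m'
      simp only [Module.End.mul_apply] at this
      rw [Module.End.mul_apply]; exact this.symm
    · rintro ⟨m', rfl⟩
      refine ⟨aeval z q' m', ?_⟩
      have h2 := LinearMap.congr_fun (hc q').eq m'
      simp only [Module.End.mul_apply] at h2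
      rw [Module.End.mul_apply, ← h2, ← Module.End.mul_apply (aeval z q), ← map_mul]
      have := LinearMap.congr_fun hqq' m'
      rw [Module.End.mul_apply] at this
      exact this
  rw [hadef] at hk hr
  obtain ⟨e, he, -, hev⟩ := ROOT_of hσ hx hx0 (by rw [hadef]; exact hk) (by rw [hadef]; exact hr)
  exact ⟨e, he, hev⟩

/-- IF3 for a non-unipotent pair `σ, τ` -/
theorem IF3 [FiniteDimensional k M] (hk2 : ringChar k ≠ 2) (hk3 : Nat.card k ≠ 3)
    {G : Subgroup GLkM} {σ τ : GLkM} (hσ : σ ∈ minimalQuadraticElements G)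
    (hτ : τ ∈ minimalQuadraticElements G)
    (hnu : ¬ UnipPair ((σ : Module.End k M) - 1) ((τ : Module.End k M) - 1)) :
    ∃ A₀ B₀ : Subgroup GLkM, σ ∈ A₀ ∧ τ ∈ B₀ ∧ A₀ ≤ sameActionSubgroup G σ ∧
      B₀ ≤ sameActionSubgroup G τ ∧
      ∃ (K : Type u) (_ : Field K), 3 < ENat.card K ∧ IsPSL2PairOver K A₀ B₀ := by
  obtain ⟨a, hadef⟩ : ∃ a : Module.End k M, a = (σ : Module.End k M) - 1 := ⟨_, rfl⟩
  obtain ⟨b, hbdef⟩ : ∃ b : Module.End k M, b = (τ : Module.End k M) - 1 := ⟨_, rfl⟩
  have hσQ := TRANS_Qd hσ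
  have hτQ := TRANS_Qd hτ
  have hr := TRANS_rank hσ hτ
  have hp : QPair G (commutatorRank σ) a b := by
    rw [hadef, hbdef]; exact ⟨hσQ.1, hσQ.2, by rw [hr]; exact hτQ.2⟩
  rw [← hadef, ← hbdef] at hnu
  have ha := hp.qa.1.1
  have hb := hp.qb.1.1
  obtain ⟨φ, hinj, hrange, h12, h21⟩ := PHI0 hk2 hk3 hp hnu
  have hfield := THMB hk2 hk3 hp hnu
  have hmax : (Van1 a b).IsMaximal := Ideal.Quotient.maximal_of_isField _ hfield
  let _ : Field (k[X] ⧸ Van1 a b) := Ideal.Quotient.field (Van1 a b)
  have hza : Commute (zz a b) a := zz_mul_a ha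
  have hzb : Commute (zz a b) b := zz_mul_b hb
  have hHG : Hgrp a b ha hb ≤ G := Hgrp_le hp.qa.1 hp.qb.1
  have hφG : ∀ g, InG G ((φ g : GLkM) : Module.End k M) := by
    intro g
    apply InG.of_mem
    apply hHG
    rw [← hrange]
    exact ⟨g, rfl⟩
  obtain ⟨u, hu⟩ := FIT_invpoly (zz a b)
  have huX : Ideal.Quotient.mk (Van1 a b) (X * u) = 1 := by
    rw [← map_one (Ideal.Quotient.mk (Van1 a b)), Ideal.Quotient.eq]
    exact hu
  -- the key: elements e12 t and e21 t go into the root subgroups
  have hA : ∀ t : k[X] ⧸ Van1 a b, φ (e12 t) ∈ sameActionSubgroup G σ := by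
    intro t
    by_cases ht : t = 0
    · have : (e12 t : Matrix.SpecialLinearGroup (Fin 2) (k[X] ⧸ Van1 a b)) = 1 := by
        rw [ht]; apply Subtype.ext; simp [e12, Matrix.one_fin_two]
      rw [this, map_one]; exact Subgroup.one_mem _
    · obtain ⟨q, rfl⟩ := Ideal.Quotient.mk_surjective t
      obtain ⟨q', hq'⟩ := Ideal.Quotient.mk_surjective ((Ideal.Quotient.mk (Van1 a b) q)⁻¹)
      have hqq' : Ideal.Quotient.mk (Van1 a b) (q * q') = Ideal.Quotient.mk (Van1 a b) 1 := by
        rw [map_mul, hq', mul_inv_cancel₀ ht, map_one]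
      have h1 : aeval (zz a b) (q * q') * a = a := by
        have e1 := h12 (q * q')
        have e2 := h12 1
        rw [hqq'] at e1
        rw [e1] at e2
        have := add_left_cancel e2
        rw [this, map_one, one_mul]
      obtain ⟨e, he, hev⟩ := fam_mem_root hσ (z := zz a b) (by rw [← hadef]; exact hza) q q'
        (by rw [← hadef]; exact h1)
        (by
          intro c
          rw [← hadef, ← h12]
          exact hφG _)
      have : φ (e12 (Ideal.Quotient.mk (Van1 a b) q)) = e := by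
        apply Units.ext
        rw [hev, h12, hadef]
      rw [this]; exact he
  have hB : ∀ t : k[X] ⧸ Van1 a b, φ (e21 t) ∈ sameActionSubgroup G τ := by
    intro t
    by_cases ht : t = 0
    · have : (e21 t : Matrix.SpecialLinearGroup (Fin 2) (k[X] ⧸ Van1 a b)) = 1 := by
        rw [ht]; apply Subtype.ext; simp [e21, Matrix.one_fin_two]
      rw [this, map_one]; exact Subgroup.one_mem _
    · obtain ⟨q0, rfl⟩ := Ideal.Quotient.mk_surjective t
      -- t = mk (X * (u * q0))
      have ht' : Ideal.Quotient.mk (Van1 a b) q0 = Ideal.Quotient.mk (Van1 a b) (X * (u * q0)) := by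
        rw [← mul_assoc, map_mul, huX, one_mul]
      obtain ⟨q, hq⟩ : ∃ q : k[X], q = u * q0 := ⟨_, rfl⟩
      rw [← hq] at ht'
      rw [ht'] at ht ⊢
      have hq0 : Ideal.Quotient.mk (Van1 a b) q ≠ 0 := by
        intro h0
        apply ht
        rw [map_mul, h0, mul_zero]
      obtain ⟨q', hq'⟩ := Ideal.Quotient.mk_surjective ((Ideal.Quotient.mk (Van1 a b) q)⁻¹)
      have hqq' : Ideal.Quotient.mk (Van1 a b) (X * (q * q'))
          = Ideal.Quotient.mk (Van1 a b) (X * 1) := by
        rw [map_mul, map_mul, hq', mul_inv_cancel₀ hq0, map_mul, map_one]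
      have h1 : aeval (zz a b) (q * q') * b = b := by
        have e1 := h21 (q * q')
        have e2 := h21 1
        rw [hqq'] at e1
        rw [e1] at e2
        have := add_left_cancel e2
        rw [this, map_one, one_mul]
      obtain ⟨e, he, hev⟩ := fam_mem_root hτ (z := zz a b) (by rw [← hbdef]; exact hzb) q q'
        (by rw [← hbdef]; exact h1)
        (by
          intro c
          rw [← hbdef, ← h21]
          exact hφG _)
      have : φ (e21 (Ideal.Quotient.mk (Van1 a b) (X * q))) = e := by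
        apply Units.ext
        rw [hev, h21, hbdef]
      rw [this]; exact he
  refine ⟨(upperUnipotentSL2 (k[X] ⧸ Van1 a b)).map φ, (lowerUnipotentSL2 (k[X] ⧸ Van1 a b)).map φ,
    ?_, ?_, ?_, ?_, k[X] ⧸ Van1 a b, inferInstance, ?_, φ, ?_, ?_, rfl, rfl⟩
  · -- σ ∈ A₀
    refine ⟨e12 (Ideal.Quotient.mk (Van1 a b) 1), Cfsg.Agent.Helper25.sl2Upper_mem _, ?_⟩
    apply Units.ext
    rw [h12, map_one, one_mul, hadef]; abel
  · -- τ ∈ B₀
    refine ⟨e21 (Ideal.Quotient.mk (Van1 a b) (X * 1)), Cfsg.Agent.Helper25.sl2Lower_mem _, ?_⟩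
    apply Units.ext
    rw [h21, map_one, one_mul, hbdef]; abel
  · rintro _ ⟨g, hg, rfl⟩
    rw [Cfsg.Agent.Helper25.eq_sl2Upper_of_mem hg]
    exact hA _
  · rintro _ ⟨g, hg, rfl⟩
    rw [Cfsg.Agent.Helper25.eq_sl2Lower_of_mem hg]
    exact hB _
  · -- 3 < card
    obtain ⟨c, hc0, hc1, hc11⟩ := Cfsg.Agent.Helper18.SL2Ext.exists_good_of_card hk2 hk3
    have h20 : (2 : k) ≠ 0 := Ring.two_ne_zero hk2
    have hinjK : Function.Injective (algebraMap k (k[X] ⧸ Van1 a b)) :=
      (algebraMap k (k[X] ⧸ Van1 a b)).injective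
    have h1n : (1 : k) ≠ -1 := by
      intro h
      apply h20
      have : (2 : k) = 1 + 1 := by norm_num
      rw [this]; nth_rewrite 2 [h]; exact add_neg_cancel 1
    exact three_lt_card_of (algebraMap k (k[X] ⧸ Van1 a b) 0) (algebraMap k _ 1) (algebraMap k _ (-1))
      (algebraMap k _ c) (fun h => zero_ne_one (hinjK h))
      (fun h => by have := hinjK h; exact one_ne_zero (neg_eq_zero.mp this.symm))
      (fun h => hc0 (hinjK h).symm) (fun h => h1n (hinjK h)) (fun h => hc1 (hinjK h).symm)
      (fun h => hc11 (hinjK h).symm)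
  · -- range
    rw [← Subgroup.map_sup, sup_comm, Cfsg.Agent.Helper25.sl2_generation, ← MonoidHom.range_eq_map]
  · -- kernel
    rw [(MonoidHom.ker_eq_bot_iff φ).2 hinj]
    exact bot_le

end Cfsg.Agent.QPP

end
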