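import Mathlib
import Cfsg.Agent.Helper25.QPIF3
import Cfsg.Agent.Helper9.QPS5065U
import Cfsg.Agent.Helper7.QPOPP
import Cfsg.Agent.Helper17.QPNONU2

set_option autoImplicit false
set_option linter.unusedSectionVars false
set_option linter.unusedVariables false

/-! Quadratic pairs: the `PSL₂`-pairs inside a non-unipotent `⟨E(σ), E(τ)⟩`, in the shape of the
hypothesis `psl` of `Cfsg.Agent.QP2.QPHyp`. -/

noncomputable section

universe u v

namespace Cfsg.Agent.QPP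

open Cfsg Cfsg.Agent.Helper25.QP Cfsg.Agent.Helper25.QuadPair Polynomial

variable {k : Type u} [Field k] {M : Type v} [AddCommGroup M] [Module k M]

local notation "GLkM" => LinearMap.GeneralLinearGroup k M

/-- a non-identity member of `E(σ)` is a member of `𝒬_d(G)` with the same root subgroup -/
theorem root_member [FiniteDimensional k M] {G : Subgroup GLkM} {σ x : GLkM}
    (hσ : σ ∈ minimalQuadraticElements G) (hx : x ∈ sameActionSubgroup G σ) (hx1 : x ≠ 1) :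
    x ∈ minimalQuadraticElements G ∧ sameActionSubgroup G x = sameActionSubgroup G σ := by
  rcases (ROOT_mem hσ x).1 hx with h | h
  · exact (hx1 h).elim
  · exact ⟨h.1, ROOT_eq h.1 hσ h.2.1 h.2.2⟩

/-- the `psl` clause of `QPHyp` for `Σ(G)` -/
theorem PSL [FiniteDimensional k M] (hk2 : ringChar k ≠ 2) (hk3 : Nat.card k ≠ 3)
    {G : Subgroup GLkM} {σ τ : GLkM} (hσ : σ ∈ minimalQuadraticElements G)
    (hτ : τ ∈ minimalQuadraticElements G)
    (hN : ¬ IsUnipotentOn (sameActionSubgroup G σ ⊔ sameActionSubgroup G τ)) :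
    (∀ x ∈ sameActionSubgroup G σ, x ≠ 1 → ∃ A₀ B₀ : Subgroup GLkM,
      x ∈ A₀ ∧ A₀ ≤ sameActionSubgroup G σ ∧ B₀ ≤ sameActionSubgroup G τ ∧
      ∃ (K : Type u) (_ : Field K), 3 < ENat.card K ∧ IsPSL2PairOver K A₀ B₀) ∧
    (∀ y ∈ sameActionSubgroup G τ, y ≠ 1 → ∃ A₀ B₀ : Subgroup GLkM,
      y ∈ B₀ ∧ A₀ ≤ sameActionSubgroup G σ ∧ B₀ ≤ sameActionSubgroup G τ ∧
      ∃ (K : Type u) (_ : Field K), 3 < ENat.card K ∧ IsPSL2PairOver K A₀ B₀) := by
  have hNU : ¬ AllUnip (sameActionSubgroup G σ) (sameActionSubgroup G τ) :=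
    fun hU => hN (S5065U hk2 hk3 hσ hτ hU)
  -- every pair of non-identity members is non-unipotent
  have key : ∀ {x y : GLkM}, x ∈ sameActionSubgroup G σ → x ≠ 1 → y ∈ sameActionSubgroup G τ →
      y ≠ 1 → x ∈ minimalQuadraticElements G ∧ y ∈ minimalQuadraticElements G ∧
        sameActionSubgroup G x = sameActionSubgroup G σ ∧
        sameActionSubgroup G y = sameActionSubgroup G τ ∧
        ¬ UnipPair ((x : Module.End k M) - 1) ((y : Module.End k M) - 1) := by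
    intro x y hx hx1 hy hy1
    obtain ⟨hxm, hxE⟩ := root_member hσ hx hx1
    obtain ⟨hym, hyE⟩ := root_member hτ hy hy1
    refine ⟨hxm, hym, hxE, hyE, ?_⟩
    have hNU' : ¬ AllUnip (sameActionSubgroup G x) (sameActionSubgroup G y) := by
      rw [hxE, hyE]; exact hNU
    have hO := OPP hk2 hk3 hxm hym hNU'
    exact NONU2 hO hxm.1.2.1.1 hym.1.2.1.1 hxm.1.2.1.2
  obtain ⟨hσE, hσ1⟩ := ROOT_self hσ
  obtain ⟨hτE, hτ1⟩ := ROOT_self hτ
  constructor
  · intro x hx hx1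
    obtain ⟨hxm, -, hxE, -, hnu⟩ := key hx hx1 hτE hτ1
    obtain ⟨A₀, B₀, hxA, -, hA, hB, hK⟩ := IF3 hk2 hk3 hxm hτ hnu
    exact ⟨A₀, B₀, hxA, by rw [← hxE]; exact hA, hB, hK⟩
  · intro y hy hy1
    obtain ⟨-, hym, -, hyE, hnu⟩ := key hσE hσ1 hy hy1
    obtain ⟨A₀, B₀, -, hyB, hA, hB, hK⟩ := IF3 hk2 hk3 hσ hym hnu
    exact ⟨A₀, B₀, hyB, hA, by rw [← hyE]; exact hB, hK⟩

end Cfsg.Agent.QPP

end
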