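import Mathlib
import Cfsg.Agent.Helper27.S0429Defs
import Cfsg.Prelude.Def_Sporadic_a

/-! Board `s0429pieces` (S0429), row K33_4: three pairwise non-adjacent vertices do not have 4 common
neighbours. Also two small lemmas on `E` used by K33_3. -/

set_option autoImplicit false

namespace Cfsg.Agent.S0429P

open Finset

variable {V : Type*} [Fintype V] [DecidableEq V] {G : SimpleGraph V} [DecidableRel G.Adj]

/-- no edges between `S` and `T`. -/
theorem K33_aux_E_zero (S T : Finset V) (hST : ∀ v ∈ S, ∀ y ∈ T, ¬ G.Adj v y) : E G S T = 0 := by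
  unfold E
  apply Finset.sum_eq_zero
  intro v hv
  have : G.neighborFinset v ∩ T = ∅ := by
    rw [Finset.eq_empty_iff_forall_notMem]
    intro y hy
    rw [Finset.mem_inter, SimpleGraph.mem_neighborFinset] at hy
    exact hST v hv y hy.2 hy.1
  rw [this, Finset.card_empty, Nat.cast_zero]

/-- every vertex of `S` is adjacent to every vertex of `T`. -/
theorem K33_aux_E_full (S T : Finset V) (hST : ∀ v ∈ S, ∀ y ∈ T, G.Adj v y) :
    E G S T = (S.card : ℚ) * (T.card : ℚ) := by
  unfold E
  have : ∀ v ∈ S, ((G.neighborFinset v ∩ T).card : ℚ) = (T.card : ℚ) := by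
    intro v hv
    have h1 : G.neighborFinset v ∩ T = T := by
      apply Finset.inter_eq_right.2
      intro y hy
      rw [SimpleGraph.mem_neighborFinset]
      exact hST v hv y hy
    rw [h1]
  rw [Finset.sum_congr rfl this, Finset.sum_const, nsmul_eq_mul]

/-- K33_4 (M): three pairwise non-adjacent vertices do not have 4 common neighbours
(`Q2 (1_{a,b,c} + 1_M) = 14 - 24 + 98/11 < 0`). -/
theorem K33_4 (h : G.IsSRGWith 77 16 0 4) {a b c : V} (hab : a ≠ b) (hac : a ≠ c) (hbc : b ≠ c)
    (nab : ¬ G.Adj a b) (nac : ¬ G.Adj a c) (nbc : ¬ G.Adj b c) : m3 G a b c ≠ 4 := by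
  intro h4
  set T : Finset V := {a, b, c} with hT
  set M : Finset V := G.neighborFinset a ∩ G.neighborFinset b ∩ G.neighborFinset c with hM
  have hTcard : T.card = 3 := Finset.card_eq_three.2 ⟨a, b, c, hab, hac, hbc, rfl⟩
  have hMcard : M.card = 4 := h4
  have hmemT : ∀ v, v ∈ T ↔ v = a ∨ v = b ∨ v = c := by
    intro v
    rw [hT]
    simp
  have hmemM : ∀ x, x ∈ M ↔ G.Adj a x ∧ G.Adj b x ∧ G.Adj c x := by
    intro x
    rw [hM]
    simp
  -- adjacency facts
  have hTT : ∀ v ∈ T, ∀ y ∈ T, ¬ G.Adj v y := by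
    intro v hv y hy hadj
    rcases (hmemT v).1 hv with rfl | rfl | rfl <;> rcases (hmemT y).1 hy with rfl | rfl | rfl
    · exact G.loopless.irrefl _ hadj
    · exact nab hadj
    · exact nac hadj
    · exact nab hadj.symm
    · exact G.loopless.irrefl _ hadj
    · exact nbc hadj
    · exact nac hadj.symm
    · exact nbc hadj.symm
    · exact G.loopless.irrefl _ hadj
  have hTM : ∀ v ∈ T, ∀ y ∈ M, G.Adj v y := by
    intro v hv y hy
    obtain ⟨h1, h2, h3⟩ := (hmemM y).1 hy
    rcases (hmemT v).1 hv with rfl | rfl | rfl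
    · exact h1
    · exact h2
    · exact h3
  have hMT : ∀ v ∈ M, ∀ y ∈ T, G.Adj v y := fun v hv y hy => (hTM y hy v hv).symm
  have hMM : ∀ v ∈ M, ∀ y ∈ M, ¬ G.Adj v y := by
    intro v hv y hy
    exact nadj_of_common h ((hmemM v).1 hv).1 ((hmemM y).1 hy).1
  have hdisjTM : Disjoint T M := by
    rw [Finset.disjoint_left]
    intro v hv hvM
    exact hTT v hv v hv (hTM v hv v hvM)
  -- the vector
  set S : Fin 2 → Finset V := ![T, M] with hS
  set w : Fin 2 → ℚ := ![1, 1] with hw
  have hdisj : ∀ i j : Fin 2, i ≠ j → Disjoint (S i) (S j) := by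
    intro i j hij
    fin_cases i <;> fin_cases j
    · exact absurd rfl hij
    · exact hdisjTM
    · exact hdisjTM.symm
    · exact absurd rfl hij
  have hsum : ∑ v, ind S w v = 7 := by
    rw [sum_ind, Fin.sum_univ_two]
    simp only [hS, hw, Matrix.cons_val_zero, Matrix.cons_val_one, hTcard, hMcard]
    norm_num
  have hsq : ∑ v, ind S w v ^ 2 = 7 := by
    rw [sum_sq_ind S w hdisj, Fin.sum_univ_two]
    simp only [hS, hw, Matrix.cons_val_zero, Matrix.cons_val_one, hTcard, hMcard]
    norm_num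
  have hadj : adjSum G (ind S w) = 24 := by
    rw [adjSum_ind, Fin.sum_univ_two, Fin.sum_univ_two, Fin.sum_univ_two]
    simp only [hS, hw, Matrix.cons_val_zero, Matrix.cons_val_one]
    rw [K33_aux_E_zero T T hTT, K33_aux_E_full T M hTM, K33_aux_E_full M T hMT,
      K33_aux_E_zero M M hMM, hTcard, hMcard]
    norm_num
  have hQ := Q2_nonneg h (ind S w)
  unfold Q2 at hQ
  rw [hsum, hsq, hadj] at hQ
  norm_num at hQ

end Cfsg.Agent.S0429P
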