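import Mathlib
import Cfsg.Agent.Helper1.S4504MDefs

set_option autoImplicit false

universe u

namespace Cfsg.Agent.S4504P

open Cfsg.Agent.Helper5.GC Module

section LA
variable {k : Type*} [Field k] [IsAlgClosed k] {U : Type*} [AddCommGroup U] [Module k U]

-- M-LACENT
theorem scalar_of_commute_regular (hU : finrank k U = 3) (T S : Module.End k U)
    (hn3 : (T - 1) ^ 3 = 0) (hn2 : (T - 1) ^ 2 ≠ 0) (hST : Commute S T) (m : ℕ) (hm : S ^ m = 1)
    (hmk : (m : k) ≠ 0) : ∃ c : k, S = c • (1 : Module.End k U) := by
  classical
  have : FiniteDimensional k U := Module.finite_of_finrank_pos (by omega)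
  set N : Module.End k U := T - 1 with hN
  have hSN : Commute S N := hST.sub_right (Commute.one_right S)
  have hSNv : ∀ w : U, S (N w) = N (S w) := fun w => LinearMap.congr_fun hSN.eq w
  have hN3 : ∀ w : U, N (N (N w)) = 0 := by
    intro w
    have := LinearMap.congr_fun hn3 w
    simpa [pow_succ, Module.End.mul_apply] using this
  obtain ⟨v, hv⟩ : ∃ v, N (N v) ≠ 0 := by
    by_contra h
    push Not at h
    apply hn2
    ext w
    simpa [pow_succ, Module.End.mul_apply] using h w
  -- linear independence of v, N v, N² v
  have hli : LinearIndependent k ![v, N v, N (N v)] := by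
    rw [Fintype.linearIndependent_iff]
    intro g hg
    rw [Fin.sum_univ_three] at hg
    simp only [Matrix.cons_val_zero, Matrix.cons_val_one, Matrix.cons_val_two, Matrix.head_cons,
      Matrix.tail_cons] at hg
    have h0 : g 0 = 0 := by
      have := congrArg (fun w => N (N w)) hg
      simp only [map_add, map_smul, hN3, smul_zero, add_zero, map_zero] at this
      rcases smul_eq_zero.mp this with h | h
      · exact h
      · exact absurd h hv
    rw [h0, zero_smul, zero_add] at hg
    have h1 : g 1 = 0 := by
      have := congrArg (fun w => N w) hg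
      simp only [map_add, map_smul, hN3, smul_zero, add_zero, map_zero] at this
      rcases smul_eq_zero.mp this with h | h
      · exact h
      · exact absurd h hv
    rw [h1, zero_smul, zero_add] at hg
    have h2 : g 2 = 0 := by
      rcases smul_eq_zero.mp hg with h | h
      · exact h
      · exact absurd h hv
    intro i
    fin_cases i
    · exact h0
    · exact h1
    · exact h2
  let b : Basis (Fin 3) k U := basisOfLinearIndependentOfCardEqFinrank hli (by rw [hU]; rfl)
  have hb : ∀ i, b i = ![v, N v, N (N v)] i := fun i => by
    show (basisOfLinearIndependentOfCardEqFinrank hli _) i = _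
    rw [coe_basisOfLinearIndependentOfCardEqFinrank]
  set a := b.repr (S v) 0 with ha
  set b' := b.repr (S v) 1 with hb'
  set c := b.repr (S v) 2 with hc
  have hSv : S v = a • v + b' • N v + c • N (N v) := by
    have := b.sum_repr (S v)
    rw [Fin.sum_univ_three, hb 0, hb 1, hb 2] at this
    simpa using this.symm
  -- S = a + b' N + c N²
  let N' : Module.End k U := b' • N + c • (N * N)
  have e0 : S v = (algebraMap k (Module.End k U) a + N') v := by
    simp only [LinearMap.add_apply, Module.algebraMap_end_apply, N',
      LinearMap.smul_apply, Module.End.mul_apply]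
    rw [hSv]
    abel
  have e1 : S (N v) = (algebraMap k (Module.End k U) a + N') (N v) := by
    simp only [LinearMap.add_apply, Module.algebraMap_end_apply, N', LinearMap.smul_apply,
      Module.End.mul_apply]
    rw [hSNv, hSv]
    simp only [map_add, map_smul]
    abel
  have e2 : S (N (N v)) = (algebraMap k (Module.End k U) a + N') (N (N v)) := by
    simp only [LinearMap.add_apply, Module.algebraMap_end_apply, N', LinearMap.smul_apply,
      Module.End.mul_apply]
    rw [hSNv, hSNv, hSv]
    simp only [map_add, map_smul]
    abel
  have hS : S = algebraMap k (Module.End k U) a + N' := by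
    apply b.ext
    intro i
    rw [hb i]
    fin_cases i
    · exact e0
    · exact e1
    · exact e2
  -- N' is nilpotent
  have hN'nil : IsNilpotent N' := by
    refine ⟨3, ?_⟩
    ext w
    simp only [pow_succ, pow_zero, one_mul, Module.End.mul_apply, N', LinearMap.add_apply,
      LinearMap.smul_apply, map_add, map_smul, hN3, smul_zero, add_zero, LinearMap.zero_apply,
      map_zero]
  -- S is semisimple
  have hSss : S.IsSemisimple := by
    apply Module.End.isSemisimple_of_squarefree_aeval_eq_zero
      (p := Polynomial.X ^ m - Polynomial.C (1 : k))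
    · exact (Polynomial.separable_X_pow_sub_C (1 : k) hmk one_ne_zero).squarefree
    · simp [hm]
  have hN'ss : N'.IsSemisimple := by
    have : N' = S - algebraMap k (Module.End k U) a := by rw [hS]; abel
    rw [this, Module.End.isSemisimple_sub_algebraMap_iff]
    exact hSss
  have hN'0 : N' = 0 := Module.End.eq_zero_of_isNilpotent_isSemisimple hN'nil hN'ss
  refine ⟨a, ?_⟩
  rw [hS, hN'0, add_zero]
  ext w
  simp

end LA

end Cfsg.Agent.S4504P
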