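import Mathlib
import Cfsg.Agent.Helper1.S4504MDefs

set_option autoImplicit false

universe u

namespace Cfsg.Agent.S4504P

open Cfsg.Agent.Helper5.GC Module

section LA
variable {k : Type*} [Field k] [IsAlgClosed k] {U : Type*} [AddCommGroup U] [Module k U]

omit [IsAlgClosed k] in
/-- A unipotent isometry fixing the isotropic vector `z` shifts every vector of `z^⊥` by a
multiple of `z`. -/
theorem lacomm_shift (hU : finrank k U = 3)
    (B : LinearMap.BilinForm k U) (hBn : B.Nondegenerate)
    (T : Module.End k U) (hT : ∀ v w, B (T v) (T w) = B v w)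
    (hn3 : (T - 1) ^ 3 = 0)
    (z : U) (hz : z ≠ 0) (hzz : B z z = 0) (hTz : T z = z) :
    ∀ x, B z x = 0 → ∃ c : k, T x = x + c • z := by
  classical
  have : FiniteDimensional k U := Module.finite_of_finrank_pos (by omega)
  set W : Submodule k U := B.orthogonal (k ∙ z) with hW
  have hmemW : ∀ x, x ∈ W ↔ B z x = 0 := by
    intro x
    rw [hW, LinearMap.BilinForm.mem_orthogonal_iff]
    constructor
    · intro h
      exact h z (Submodule.mem_span_singleton_self z)
    · intro h n hn
      obtain ⟨a, rfl⟩ := Submodule.mem_span_singleton.mp hn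
      rw [map_smul, LinearMap.smul_apply, h, smul_zero]
  have hWrank : finrank k W = 2 := by
    rw [hW, LinearMap.BilinForm.finrank_orthogonal hBn, hU, finrank_span_singleton hz]
  have hzW : z ∈ W := (hmemW z).mpr hzz
  obtain ⟨y₀, hy₀W, hy₀⟩ : ∃ y₀ ∈ W, y₀ ∉ (k ∙ z) := by
    by_contra h
    push Not at h
    have hle : W ≤ k ∙ z := fun y hy => h y hy
    have := Submodule.finrank_mono hle
    rw [hWrank, finrank_span_singleton hz] at this
    omega
  set N : Module.End k U := T - 1 with hN
  have hNz : N z = 0 := by simp [hN, hTz]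
  have hzT : ∀ u, B z (T u) = B z u := fun u => by
    conv_lhs => rw [← hTz]
    exact hT z u
  have hNW : ∀ x ∈ W, N x ∈ W := by
    intro x hx
    rw [hmemW] at hx ⊢
    simp only [hN, LinearMap.sub_apply, Module.End.one_apply, map_sub, hx, sub_zero, hzT]
  have hli : LinearIndependent k ![z, y₀] := by
    rw [LinearIndependent.pair_iff' hz]
    intro a ha
    apply hy₀
    rw [← ha]
    exact Submodule.smul_mem _ _ (Submodule.mem_span_singleton_self z)
  have hspan : Submodule.span k {z, y₀} = W := by
    apply Submodule.eq_of_le_of_finrank_eq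
    · rw [Submodule.span_le]
      rintro x (rfl | rfl)
      · exact hzW
      · exact hy₀W
    · rw [hWrank]
      have := finrank_span_eq_card hli
      have hr : Set.range ![z, y₀] = {z, y₀} := by
        ext w
        simp [eq_comm]
        tauto
      rw [hr] at this
      simpa using this
  have hN3 : ∀ w : U, N (N (N w)) = 0 := by
    intro w
    have := LinearMap.congr_fun hn3 w
    simpa [pow_succ, Module.End.mul_apply] using this
  -- N y₀ = β z + α y₀
  have hNy₀ : N y₀ ∈ Submodule.span k {z, y₀} := by rw [hspan]; exact hNW y₀ hy₀W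
  obtain ⟨β, α, hβα⟩ := Submodule.mem_span_pair.mp hNy₀
  have hα : α = 0 := by
    have h2 : N (N y₀) = α • N y₀ := by
      conv_lhs => rw [← hβα]
      rw [map_add, map_smul, map_smul, hNz, smul_zero, zero_add]
    have h3 : N (N (N y₀)) = (α * α) • N y₀ := by
      rw [h2, map_smul, h2, smul_smul]
    rw [hN3, ← hβα, smul_add, smul_smul, smul_smul] at h3
    have := (LinearIndependent.pair_iff.mp hli _ _ h3.symm).2
    have : α ^ 3 = 0 := by rw [← this]; ring
    exact pow_eq_zero_iff (by norm_num) |>.mp this
  rw [hα, zero_smul, add_zero] at hβα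
  intro x hx
  have hxW : x ∈ Submodule.span k {z, y₀} := by rw [hspan]; exact (hmemW x).mpr hx
  obtain ⟨a, b, hab⟩ := Submodule.mem_span_pair.mp hxW
  refine ⟨b * β, ?_⟩
  have hTN : ∀ w, T w = w + N w := fun w => by simp [hN]
  rw [hTN, ← hab, map_add, map_smul, map_smul, hNz, ← hβα, smul_zero, zero_add, smul_smul]

-- M-LACOMM
theorem commute_of_common_fixed (h2 : (2 : k) ≠ 0) (hU : finrank k U = 3)
    (B : LinearMap.BilinForm k U) (hBs : B.IsSymm) (hBn : B.Nondegenerate)
    (T T' : Module.End k U) (hT : ∀ v w, B (T v) (T w) = B v w)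
    (hT' : ∀ v w, B (T' v) (T' w) = B v w) (hn3 : (T - 1) ^ 3 = 0) (hn3' : (T' - 1) ^ 3 = 0)
    (z : U) (hz : z ≠ 0) (hzz : B z z = 0) (hTz : T z = z) (hT'z : T' z = z) : Commute T T' := by
  classical
  have : FiniteDimensional k U := Module.finite_of_finrank_pos (by omega)
  have key := lacomm_shift hU B hBn T hT hn3 z hz hzz hTz
  have key' := lacomm_shift hU B hBn T' hT' hn3' z hz hzz hT'z
  have hW2 : ∀ x, B z x = 0 → T (T' x) = T' (T x) := by
    intro x hx
    obtain ⟨c, hc⟩ := key x hx
    obtain ⟨c', hc'⟩ := key' x hx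
    rw [hc, hc', map_add, map_add, map_smul, map_smul, hTz, hT'z, hc, hc']
    abel
  have hzT : ∀ u, B z (T u) = B z u := fun u => by
    conv_lhs => rw [← hTz]
    exact hT z u
  have hzT' : ∀ u, B z (T' u) = B z u := fun u => by
    conv_lhs => rw [← hT'z]
    exact hT' z u
  show T * T' = T' * T
  ext u
  simp only [Module.End.mul_apply]
  by_cases hu : B z u = 0
  · exact hW2 u hu
  · set d := T (T' u) - T' (T u) with hd
    have hdW : d ∈ B.orthogonal (B.orthogonal (k ∙ z)) := by
      rw [LinearMap.BilinForm.mem_orthogonal_iff]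
      intro x hx
      have hx' : B z x = 0 := by
        rw [LinearMap.BilinForm.mem_orthogonal_iff] at hx
        exact hx z (Submodule.mem_span_singleton_self z)
      obtain ⟨c, hc⟩ := key x hx'
      obtain ⟨c', hc'⟩ := key' x hx'
      have e1 : T (T' x) = x + (c + c') • z := by
        rw [hc', map_add, map_smul, hTz, hc]; module
      have e2 : T' (T x) = x + (c + c') • z := by
        rw [hc, map_add, map_smul, hT'z, hc']; module
      have e1' : T (T' (x - (c + c') • z)) = x := by
        rw [map_sub, map_sub, map_smul, map_smul, hT'z, hTz, e1]; abel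
      have e2' : T' (T (x - (c + c') • z)) = x := by
        rw [map_sub, map_sub, map_smul, map_smul, hTz, hT'z, e2]; abel
      have f1 : B x (T (T' u)) = B (x - (c + c') • z) u := by
        conv_lhs => rw [← e1']
        rw [hT, hT']
      have f2 : B x (T' (T u)) = B (x - (c + c') • z) u := by
        conv_lhs => rw [← e2']
        rw [hT', hT]
      rw [hd, map_sub, f1, f2, sub_self]
    rw [LinearMap.BilinForm.orthogonal_orthogonal hBn hBs.isRefl] at hdW
    obtain ⟨μ, hμ⟩ := Submodule.mem_span_singleton.mp hdW
    have e : T (T' u) = T' (T u) + μ • z := by rw [hμ, hd]; abel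
    have q1 : B (T (T' u)) (T (T' u)) = B u u := by rw [hT, hT']
    have q2 : B (T' (T u)) (T' (T u)) = B u u := by rw [hT', hT]
    rw [e] at q1
    simp only [map_add, LinearMap.add_apply, map_smul, LinearMap.smul_apply] at q1
    rw [q2, hzz, hBs.eq (T' (T u)) z, hzT', hzT] at q1
    have h3 : 2 * μ * B z u = 0 := by
      simp only [smul_eq_mul] at q1
      linear_combination q1
    have hμ0 : μ = 0 := by
      rcases mul_eq_zero.mp h3 with h | h
      · rcases mul_eq_zero.mp h with h | h
        · exact absurd h h2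
        · exact h
      · exact absurd h hu
    rw [e, hμ0, zero_smul, add_zero]

end LA

end Cfsg.Agent.S4504P
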