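import Mathlib
import Cfsg.Agent.Helper13.S2276Defs

set_option autoImplicit false
set_option linter.unusedSectionVars false
set_option linter.unusedVariables false

/-! # S2276 piece GLUEALG (algebra of `glue`) — helper25, design helper13 -/

namespace Cfsg.Agent.S2276P

open Equiv Equiv.Perm

theorem GLUEALG.apply_castAdd {a b : ℕ} (x : Perm (Fin a)) (y : Perm (Fin b)) (i : Fin a) :
    glue x y (Fin.castAdd b i) = Fin.castAdd b (x i) := by
  unfold glue
  rw [Equiv.permCongr_apply]
  have : finSumFinEquiv.symm (Fin.castAdd b i) = Sum.inl i := by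
    rw [Equiv.symm_apply_eq]; rfl
  rw [this]
  simp

theorem GLUEALG.apply_natAdd {a b : ℕ} (x : Perm (Fin a)) (y : Perm (Fin b)) (i : Fin b) :
    glue x y (Fin.natAdd a i) = Fin.natAdd a (y i) := by
  unfold glue
  rw [Equiv.permCongr_apply]
  have : finSumFinEquiv.symm (Fin.natAdd a i) = Sum.inr i := by
    rw [Equiv.symm_apply_eq]; rfl
  rw [this]
  simp

theorem GLUEALG.mul {a b : ℕ} (x x' : Perm (Fin a)) (y y' : Perm (Fin b)) :
    glue (x * x') (y * y') = glue x y * glue x' y' := by
  unfold glue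
  rw [← Equiv.Perm.sumCongr_mul]
  exact map_mul (finSumFinEquiv.permCongrHom) _ _

theorem GLUEALG.one {a b : ℕ} : glue (1 : Perm (Fin a)) (1 : Perm (Fin b)) = 1 := by
  unfold glue
  rw [Equiv.Perm.sumCongr_one]
  exact map_one (finSumFinEquiv.permCongrHom)

theorem GLUEALG.inv {a b : ℕ} (x : Perm (Fin a)) (y : Perm (Fin b)) :
    (glue x y)⁻¹ = glue x⁻¹ y⁻¹ := by
  rw [inv_eq_iff_mul_eq_one, ← GLUEALG.mul, mul_inv_cancel, mul_inv_cancel, GLUEALG.one]

theorem GLUEALG.pow {a b : ℕ} (x : Perm (Fin a)) (y : Perm (Fin b)) (k : ℕ) :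
    (glue x y) ^ k = glue (x ^ k) (y ^ k) := by
  induction k with
  | zero => simp [GLUEALG.one]
  | succ k ih => rw [pow_succ, ih, pow_succ, pow_succ, GLUEALG.mul]

theorem GLUEALG.sign {a b : ℕ} (x : Perm (Fin a)) (y : Perm (Fin b)) :
    Perm.sign (glue x y) = Perm.sign x * Perm.sign y := by
  unfold glue
  rw [Equiv.Perm.sign_permCongr, Equiv.Perm.sign_sumCongr]

theorem GLUEALG.swap_left {a : ℕ} (b : ℕ) (i j : Fin a) :
    glue (swap i j) (1 : Perm (Fin b)) = swap (Fin.castAdd b i) (Fin.castAdd b j) := by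
  ext k
  refine Fin.addCases (fun k' => ?_) (fun k' => ?_) k
  · rw [GLUEALG.apply_castAdd]
    by_cases h1 : k' = i
    · subst h1; simp
    · by_cases h2 : k' = j
      · subst h2; simp
      · rw [swap_apply_of_ne_of_ne h1 h2, swap_apply_of_ne_of_ne]
        · intro h; exact h1 (Fin.castAdd_injective _ _ h)
        · intro h; exact h2 (Fin.castAdd_injective _ _ h)
  · rw [GLUEALG.apply_natAdd, Perm.one_apply, swap_apply_of_ne_of_ne]
    · intro h
      have := congrArg Fin.val h
      simp at this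
      omega
    · intro h
      have := congrArg Fin.val h
      simp at this
      omega

end Cfsg.Agent.S2276P
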