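import Mathlib
import Cfsg.Agent.Helper13.S2276Defs
import Cfsg.Agent.Helper25.S2276GLUEALG

set_option autoImplicit false
set_option linter.unusedSectionVars false
set_option linter.unusedVariables false

/-! # S2276 piece GLUECT (cycle type of `glue`) — helper25, design helper13 -/

namespace Cfsg.Agent.S2276P

open Equiv Equiv.Perm

/-- a permutation `τ` of `β` which acts as `σ` along an injection `ι : α → β` and fixes every point
outside the range of `ι` has the cycle type of `σ`. -/
theorem GLUECT.cycleType_of_embed {α β : Type*} [Fintype α] [DecidableEq α] [Fintype β]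
    [DecidableEq β] (ι : α → β) (hι : Function.Injective ι) (σ : Perm α) (τ : Perm β)
    (h1 : ∀ i, τ (ι i) = ι (σ i)) (h2 : ∀ k, k ∉ Set.range ι → τ k = k) :
    τ.cycleType = σ.cycleType := by
  classical
  have key : τ = σ.extendDomain (Equiv.ofInjective ι hι) := by
    ext k
    by_cases hk : k ∈ Set.range ι
    · obtain ⟨i, rfl⟩ := hk
      rw [h1]
      have := Perm.extendDomain_apply_image σ (Equiv.ofInjective ι hι) i
      simp only [Equiv.ofInjective_apply] at this
      exact this.symm
    · rw [h2 k hk, Perm.extendDomain_apply_not_subtype _ _ hk]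
  rw [key, cycleType_extendDomain]

theorem GLUECT.left {a b : ℕ} (x : Perm (Fin a)) :
    (glue x (1 : Perm (Fin b))).cycleType = x.cycleType := by
  refine GLUECT.cycleType_of_embed (Fin.castAdd b) (Fin.castAdd_injective a b) x _
    (fun i => GLUEALG.apply_castAdd x 1 i) ?_
  intro k hk
  refine Fin.addCases (motive := fun k => k ∉ Set.range (Fin.castAdd b) →
    glue x (1 : Perm (Fin b)) k = k) (fun k' h => ?_) (fun k' _ => ?_) k hk
  · exact absurd ⟨k', rfl⟩ h
  · rw [GLUEALG.apply_natAdd, Perm.one_apply]

theorem GLUECT.right {a b : ℕ} (y : Perm (Fin b)) :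
    (glue (1 : Perm (Fin a)) y).cycleType = y.cycleType := by
  refine GLUECT.cycleType_of_embed (Fin.natAdd a) (Fin.natAdd_injective b a) y _
    (fun i => GLUEALG.apply_natAdd 1 y i) ?_
  intro k hk
  refine Fin.addCases (motive := fun k => k ∉ Set.range (Fin.natAdd a) →
    glue (1 : Perm (Fin a)) y k = k) (fun k' _ => ?_) (fun k' h => ?_) k hk
  · rw [GLUEALG.apply_castAdd, Perm.one_apply]
  · exact absurd ⟨k', rfl⟩ h

theorem GLUECT.disjoint {a b : ℕ} (x : Perm (Fin a)) (y : Perm (Fin b)) :
    Perm.Disjoint (glue x (1 : Perm (Fin b))) (glue (1 : Perm (Fin a)) y) := by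
  intro k
  refine Fin.addCases (fun k' => ?_) (fun k' => ?_) k
  · right; rw [GLUEALG.apply_castAdd, Perm.one_apply]
  · left; rw [GLUEALG.apply_natAdd, Perm.one_apply]

/-- GLUECT [M]: cycle type of `glue`. -/
theorem GLUECT.main {a b : ℕ} (x : Perm (Fin a)) (y : Perm (Fin b)) :
    (glue x y).cycleType = x.cycleType + y.cycleType := by
  have h : glue x y = glue x (1 : Perm (Fin b)) * glue (1 : Perm (Fin a)) y := by
    rw [← GLUEALG.mul, mul_one, one_mul]
  rw [h, (GLUECT.disjoint x y).cycleType_mul, GLUECT.left, GLUECT.right]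

end Cfsg.Agent.S2276P
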