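import Cfsg.Prelude.Def_LocalStructure
import Cfsg.Agent.Helper14.Amalgam6
import Cfsg.Agent.Helper14.Irreducible2

/-!
S2856 piece DISTSMUL: the group acts on the coset graph by automorphisms, so distances are preserved.
-/

set_option autoImplicit false

namespace Cfsg.Agent.S2856P

open Cfsg Cfsg.Agent.Helper14

variable {X : Type*} [Group X] {p : ℕ} [Fact p.Prime] (M₁ M₂ : Subgroup X)

/-- left multiplication by `g` as a graph homomorphism of the coset graph -/
def DISTSMUL.smulHom (g : X) : cosetGraph M₁ M₂ →g cosetGraph M₁ M₂ where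
  toFun v := g • v
  map_rel' h := adj_smul M₁ M₂ g h

theorem DISTSMUL.dist_smul_le (g : X) (a b : CosetVertex M₁ M₂)
    (hr : (cosetGraph M₁ M₂).Reachable a b) :
    (cosetGraph M₁ M₂).dist (g • a) (g • b) ≤ (cosetGraph M₁ M₂).dist a b := by
  obtain ⟨w, hw⟩ := hr.exists_walk_length_eq_dist
  have h1 := SimpleGraph.dist_le (w.map (DISTSMUL.smulHom M₁ M₂ g))
  rw [SimpleGraph.Walk.length_map, hw] at h1
  exact h1

/-- piece DISTSMUL: the group acts on the coset graph by automorphisms, so distances are preserved. -/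
theorem dist_smul (g : X) (a b : CosetVertex M₁ M₂) :
    (cosetGraph M₁ M₂).dist (g • a) (g • b) = (cosetGraph M₁ M₂).dist a b := by
  by_cases hr : (cosetGraph M₁ M₂).Reachable a b
  · apply le_antisymm (DISTSMUL.dist_smul_le M₁ M₂ g a b hr)
    have hr' : (cosetGraph M₁ M₂).Reachable (g • a) (g • b) := reachable_smul M₁ M₂ g hr
    have := DISTSMUL.dist_smul_le M₁ M₂ g⁻¹ (g • a) (g • b) hr'
    rwa [inv_smul_smul, inv_smul_smul] at this
  · have hr' : ¬ (cosetGraph M₁ M₂).Reachable (g • a) (g • b) := by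
      intro h
      apply hr
      have := reachable_smul M₁ M₂ g⁻¹ h
      rwa [inv_smul_smul, inv_smul_smul] at this
    rw [SimpleGraph.dist_eq_zero_of_not_reachable hr, SimpleGraph.dist_eq_zero_of_not_reachable hr']

end Cfsg.Agent.S2856P
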