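import Cfsg.Prelude.Def_LocalStructure
import Cfsg.Agent.Helper14.Amalgam6
import Cfsg.Agent.Helper14.Irreducible2

/-!
S2856 piece ZSMUL: `Z_{gν} = g Z_ν g⁻¹`.
-/

set_option autoImplicit false

namespace Cfsg.Agent.S2856P

open Cfsg Cfsg.Agent.Helper14

variable {X : Type*} [Group X] {p : ℕ} [Fact p.Prime] (M₁ M₂ : Subgroup X)

omit [Fact p.Prime] in
theorem ZSMUL.map_le (H : Subgroup X) (g : X) :
    (sylowCenterClosure p H).map (cj g) ≤ sylowCenterClosure p (H.map (cj g)) := by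
  rw [sylowCenterClosure_eq, Subgroup.map_iSup]
  apply iSup_le
  intro S
  rw [map_cj_ozc]
  have hU : IsSylowIn p ((S : Subgroup ↥H).map H.subtype) H := isSylowIn_iff.mpr ⟨S, rfl⟩
  have hU' := hU.map_cj g
  rw [← hU'.toSylow_map]
  exact ozc_le_sylowCenterClosure p (H.map (cj g)) hU'.toSylow

omit [Fact p.Prime] in
theorem ZSMUL.map_eq (H : Subgroup X) (g : X) :
    sylowCenterClosure p (H.map (cj g)) = (sylowCenterClosure p H).map (cj g) := by
  apply le_antisymm
  · have h1 := ZSMUL.map_le (p := p) (H.map (cj g)) g⁻¹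
    rw [map_cj_map_cj_inv] at h1
    have h2 := Subgroup.map_mono (f := cj g) h1
    rwa [map_cj_inv_map_cj] at h2
  · exact ZSMUL.map_le H g

/-- piece ZSMUL: `Z_{gν} = g Z_ν g⁻¹`. -/
theorem vertexZ_smul (g : X) (ν : CosetVertex M₁ M₂) :
    vertexZ p (g • ν) = (vertexZ p ν).map (cj g) := by
  show sylowCenterClosure p (MulAction.stabilizer X (g • ν)) =
    (sylowCenterClosure p (MulAction.stabilizer X ν)).map (cj g)
  rw [MulAction.stabilizer_smul_eq_stabilizer_map_conj]
  exact ZSMUL.map_eq _ g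

end Cfsg.Agent.S2856P
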