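import Mathlib
import Cfsg.Agent.Helper28.S3000DefsS
import Cfsg.Agent.Helper12.S3000OFFQ

/-! S2981 part (B) (driver helper25): definitions for the board `s2981pieces`
(blueprint `departures/helper25_S2981_blueprint.md`).  Setting of S3000: `Hyp p V P T M` (helper12), `Pack`, `Based`, `Tool`, `ConclFam` (helper28). -/

set_option autoImplicit false

namespace Cfsg.Agent.S2981P

open Cfsg.Agent.S2789P Cfsg.Agent.S2999P Cfsg.Agent.S3000P
open scoped commutatorElement

variable {G : Type*} [Group G]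

/-- the subgroup generated by the `Tg`-conjugates of `E` (the product of the components) -/
def Ncomp (Tg E : Subgroup G) : Subgroup G := ⨆ t : ↥Tg, cjs (t : G) E

/-- a package `(A, E)` inside `T` based at `M` (the output of `PKG3`) -/
structure PkgT (p : ℕ) (V P : Subgroup G) (T : Sylow p ↥P) (M : Subgroup ↥P) (q : ℕ) (A E : Subgroup G) : Prop where
  hAT : A ≤ TT T
  hK : Pack p V P q A E
  hB : Based (MM M) A E

/-- the conclusion of part (B) for a family: the S3000 conclusion, normality of `N = ⨆ E i` in `P`,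
(B2) every exact offender of `P` lies in `N`, (B3) `N` lies in the normal closure (in `P`) of every strict offender of `P`. -/
def PartBFam (p : ℕ) (V P Tg : Subgroup G) (r : ℕ) (E : Fin r → Subgroup G) : Prop :=
  ConclFam p V P Tg r E ∧
    (∀ x ∈ P, cjs x (⨆ i, E i) = ⨆ i, E i) ∧
    (∀ B : Subgroup G, Off p V P B → B ≤ ⨆ i, E i) ∧
    (∀ B₁ : Subgroup G, B₁ ≤ P → StrictOff p V B₁ → (⨆ i, E i) ≤ ⨆ x : ↥P, cjs (x : G) B₁)

theorem le_Ncomp {Tg E : Subgroup G} {t : G} (ht : t ∈ Tg) : cjs t E ≤ Ncomp Tg E :=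
  le_iSup (fun t : ↥Tg => cjs (t : G) E) ⟨t, ht⟩

theorem Ncomp_le {Tg E K : Subgroup G} (h : ∀ t ∈ Tg, cjs t E ≤ K) : Ncomp Tg E ≤ K :=
  iSup_le fun t => h t t.2

end Cfsg.Agent.S2981P
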