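import Mathlib
import Cfsg.Agent.Helper25.S2981BDefs

/-! Board `s2981pieces`, row BOREL2 (core): a `p`-element `b` normalising `E`, `ʷA` and centralising `A` centralises the torus `H`.
Abstract form: the coordinate facts T2, T3 and the TOOLa facts are hypotheses. -/

set_option autoImplicit false

namespace Cfsg.Agent.S2981P

open Cfsg.Agent.S2789P Cfsg.Agent.S2999P Cfsg.Agent.S3000P
open scoped commutatorElement

variable {G : Type*} [Group G]

/-- `cjs g X = X` gives `cjs g⁻¹ X = X` -/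
theorem BOREL2_aux_cj_inv {g : G} {X : Subgroup G} (h : cjs g X = X) : cjs g⁻¹ X = X := by
  have := cj_inv_cj g X
  rw [h] at this
  exact this

/-- conjugation by `b h b⁻¹` -/
theorem BOREL2_aux_cj_conj {b h : G} {X : Subgroup G} (hb : cjs b X = X) (hh : cjs h X = X) :
    cjs (b * h * b⁻¹) X = X := by
  rw [← cj_mul, ← cj_mul, BOREL2_aux_cj_inv hb, hh, hb]

/-- a centralising element normalises -/
theorem BOREL2_aux_cj_of_comm {b : G} {A : Subgroup G} (hbA : ∀ a ∈ A, b * a = a * b) : cjs b A = A := by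
  ext x
  rw [cj_mem]
  constructor
  · intro hx
    have h1 := hbA _ hx
    have : x = b * (b⁻¹ * x * b) * b⁻¹ := by group
    rw [this, h1]
    have : b⁻¹ * x * b * b * b⁻¹ = b⁻¹ * x * b := by group
    rw [this]; exact hx
  · intro hx
    have h1 := hbA _ hx
    have : b⁻¹ * x * b = b⁻¹ * (x * b) := by group
    rw [this, ← h1]
    have : b⁻¹ * (b * x) = x := by group
    rw [this]; exact hx

variable [Finite G]

/-- BOREL2, abstract core. -/
theorem BOREL2_core {p : ℕ} {A E H : Subgroup G} {w b : G}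
    (hHE : H ≤ E) (hHA : ∀ h ∈ H, cjs h A = A) (hwH : cjs w H = H) (hcop : (Nat.card ↥H).Coprime p)
    (hT2 : ∀ e ∈ E, cjs e A = A → cjs e (cjs w A) = cjs w A → e ∈ H)
    (hT3 : ∀ h ∈ H, ∀ h' ∈ H, (∀ a ∈ A, h * a = a * h) → (∀ a ∈ A, h' * a = a * h') → h ≠ 1 → h' ≠ 1 → h = h')
    (hbp : ∃ k : ℕ, b ^ p ^ k = 1) (hbE : cjs b E = E) (hbA : ∀ a ∈ A, b * a = a * b)
    (hbw : cjs b (cjs w A) = cjs w A) : ∀ h ∈ H, b * h = h * b := by
  have hbA' : cjs b A = A := BOREL2_aux_cj_of_comm hbA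
  -- `H` normalises `ʷA`
  have hHw : ∀ h ∈ H, cjs h (cjs w A) = cjs w A := by
    intro h hh
    have h1 : w⁻¹ * h * w ∈ H := by
      have : h ∈ cjs w H := by rw [hwH]; exact hh
      exact cj_mem.mp this
    have h2 : h * w = w * (w⁻¹ * h * w) := by group
    rw [cj_mul, h2, ← cj_mul, hHA _ h1]
  -- `θ h = b h b⁻¹ ∈ H`
  have hθ : ∀ h ∈ H, b * h * b⁻¹ ∈ H := by
    intro h hh
    apply hT2
    · have : b * h * b⁻¹ ∈ cjs b E := cj_mem_conj.mpr (hHE hh)
      rwa [hbE] at this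
    · exact BOREL2_aux_cj_conj hbA' (hHA h hh)
    · exact BOREL2_aux_cj_conj hbw (hHw h hh)
  -- `b⁻¹` centralises `A`
  have hbA2 : ∀ a ∈ A, b⁻¹ * a = a * b⁻¹ := by
    intro a ha
    have := hbA a ha
    calc b⁻¹ * a = b⁻¹ * (a * b) * b⁻¹ := by group
      _ = b⁻¹ * (b * a) * b⁻¹ := by rw [this]
      _ = a * b⁻¹ := by group
  -- `θ` preserves `C_H(A)`
  have hθc : ∀ k : G, (∀ a ∈ A, k * a = a * k) → ∀ a ∈ A, (b * k * b⁻¹) * a = a * (b * k * b⁻¹) := by
    intro k hk a ha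
    calc b * k * b⁻¹ * a = b * k * (b⁻¹ * a) := by group
      _ = b * k * (a * b⁻¹) := by rw [hbA2 a ha]
      _ = b * (k * a) * b⁻¹ := by group
      _ = b * (a * k) * b⁻¹ := by rw [hk a ha]
      _ = (b * a) * k * b⁻¹ := by group
      _ = (a * b) * k * b⁻¹ := by rw [hbA a ha]
      _ = a * (b * k * b⁻¹) := by group
  intro h hh
  -- `k = h θ(h)⁻¹`
  set k : G := h * (b * h * b⁻¹)⁻¹ with hkdef
  have hkH : k ∈ H := H.mul_mem hh (H.inv_mem (hθ h hh))
  have hkA : ∀ a ∈ A, k * a = a * k := by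
    intro a ha
    have ha' : h⁻¹ * a * h ∈ A := by
      have : a ∈ cjs h A := by rw [hHA h hh]; exact ha
      exact cj_mem.mp this
    have e1 : k = h * b * h⁻¹ * b⁻¹ := by rw [hkdef]; group
    rw [e1]
    calc h * b * h⁻¹ * b⁻¹ * a = h * b * h⁻¹ * (b⁻¹ * a) := by group
      _ = h * b * h⁻¹ * (a * b⁻¹) := by rw [hbA2 a ha]
      _ = h * (b * (h⁻¹ * a * h)) * h⁻¹ * b⁻¹ := by group
      _ = h * ((h⁻¹ * a * h) * b) * h⁻¹ * b⁻¹ := by rw [hbA _ ha']
      _ = a * (h * b * h⁻¹ * b⁻¹) := by group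
  -- it suffices to show `k = 1`
  suffices hk1 : k = 1 by
    have : h = b * h * b⁻¹ := by
      have e : h = k * (b * h * b⁻¹) := by rw [hkdef]; group
      rw [hk1, one_mul] at e
      exact e
    calc b * h = (b * h * b⁻¹) * b := by group
      _ = h * b := by rw [← this]
  by_contra hk1
  -- `θ k = k`
  have hθk1 : b * k * b⁻¹ ≠ 1 := by
    intro h0
    apply hk1
    have : k = b⁻¹ * (b * k * b⁻¹) * b := by group
    rw [this, h0]; group
  have hbk : b * k * b⁻¹ = k := hT3 _ (hθ k hkH) _ hkH (hθc k hkA) hkA hθk1 hk1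
  have hbk' : b * k = k * b := by
    calc b * k = (b * k * b⁻¹) * b := by group
      _ = k * b := by rw [hbk]
  -- `b h b⁻¹ = k⁻¹ h`
  have hbh : b * h * b⁻¹ = k⁻¹ * h := by rw [hkdef]; group
  have hbkinv : b * k⁻¹ = k⁻¹ * b := by
    calc b * k⁻¹ = k⁻¹ * (k * b) * k⁻¹ := by group
      _ = k⁻¹ * (b * k) * k⁻¹ := by rw [hbk']
      _ = k⁻¹ * b := by group
  have hpow : ∀ j : ℕ, b ^ j * h * (b ^ j)⁻¹ = (k⁻¹) ^ j * h := by
    intro j
    induction j with
    | zero => simp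
    | succ j ih =>
      have hcomm : b * (k⁻¹) ^ j = (k⁻¹) ^ j * b := by
        have : Commute b k⁻¹ := hbkinv
        exact (this.pow_right j).eq
      calc b ^ (j + 1) * h * (b ^ (j + 1))⁻¹ = b * (b ^ j * h * (b ^ j)⁻¹) * b⁻¹ := by
            rw [pow_succ']; group
        _ = b * ((k⁻¹) ^ j * h) * b⁻¹ := by rw [ih]
        _ = (b * (k⁻¹) ^ j) * h * b⁻¹ := by group
        _ = ((k⁻¹) ^ j * b) * h * b⁻¹ := by rw [hcomm]
        _ = (k⁻¹) ^ j * (b * h * b⁻¹) := by group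
        _ = (k⁻¹) ^ j * (k⁻¹ * h) := by rw [hbh]
        _ = (k⁻¹) ^ (j + 1) * h := by rw [pow_succ]; group
  obtain ⟨m, hm⟩ := hbp
  have h1 := hpow (p ^ m)
  rw [hm] at h1
  have h2 : (k⁻¹) ^ (p ^ m) = 1 := by
    have : h = (k⁻¹) ^ (p ^ m) * h := by simpa using h1
    calc (k⁻¹) ^ (p ^ m) = ((k⁻¹) ^ (p ^ m) * h) * h⁻¹ := by group
      _ = h * h⁻¹ := by rw [← this]
      _ = 1 := by group
  have h3 : k ^ (p ^ m) = 1 := by
    rw [inv_pow, inv_eq_one] at h2
    exact h2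
  -- the order of `k` divides `p ^ m` and `|H|`
  have d1 : orderOf k ∣ p ^ m := orderOf_dvd_of_pow_eq_one h3
  have d2 : orderOf k ∣ Nat.card ↥H := by
    have := orderOf_dvd_natCard (⟨k, hkH⟩ : ↥H)
    rwa [← Subgroup.orderOf_coe] at this
  have hco : (Nat.card ↥H).Coprime (p ^ m) := Nat.Coprime.pow_right m hcop
  have d3 : orderOf k ∣ 1 := by
    have := Nat.dvd_gcd d2 d1
    rwa [hco] at this
  apply hk1
  exact orderOf_eq_one_iff.mp (Nat.dvd_one.mp d3)

end Cfsg.Agent.S2981P
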