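import Mathlib
import Cfsg.Agent.Helper25.S2981BDefs
import Cfsg.Agent.Helper25.S2981BOREL2core
import Cfsg.Agent.Helper20.S3000TOOLa
import Cfsg.Agent.Helper8.S2981T2
import Cfsg.Agent.Helper8.S2981T137

/-! Board `s2981pieces`, row BOREL2: wrapper of `BOREL2_core` (TOOLa, T2, T3). -/

set_option autoImplicit false
set_option linter.unusedVariables false

namespace Cfsg.Agent.S2981P

open Cfsg.Agent.S2789P Cfsg.Agent.S2999P Cfsg.Agent.S3000P
open scoped commutatorElement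

variable {G : Type*} [Group G] [Finite G] {p : ℕ} [Fact p.Prime] {V P : Subgroup G} {T : Sylow p ↥P} {M : Subgroup ↥P} {q : ℕ}
variable {A E : Subgroup G} {F : Type} [Field F] [Fintype F]

/-- BOREL2 (M/L): a `p`-element normalising `E`, `ʷA` and centralising `A` centralises the torus (T2, T3, coprime). -/
theorem BOREL2 (Hy : Hyp p V P T M) (hq2 : 2 < q) (hK : Pack p V P q A E) (hF : Fintype.card F = q) (c : Coord F V A E)
    {b : G} (hbP : b ∈ P) (hbp : ∃ k : ℕ, b ^ p ^ k = 1) (hbE : cjs b E = E) (hbA : ∀ a ∈ A, b * a = a * b)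
    (hbw : cjs b (cjs c.weyl A) = cjs c.weyl A) : ∀ h ∈ c.torus, b * h = h * b := by
  obtain ⟨a1, -, a3, a4, -, a6, -, -⟩ := TOOLa Hy hq2 hK.hA hK.hAE hK.hEP hF c
  exact BOREL2_core a1 a3 a4 a6 (T2 c hK.hAE) (T3 c hK.hAE).2 hbp hbE hbA hbw

end Cfsg.Agent.S2981P
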