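import Mathlib
import Cfsg.Agent.Helper25.S2981BDefs
import Cfsg.Agent.Helper25.S2981BOREL2core
import Cfsg.Agent.Helper14.S3000TKD3
import Cfsg.Agent.Helper2.S3000TKD4
import Cfsg.Agent.Helper20.S3000TOOLa
import Cfsg.Agent.Helper28.S3000Cm

/-! Board `s2981pieces`, row BOREL3: a `p`-element normalising `E`, `A`, `ʷA` and centralising the torus `H` centralises `E`. -/

set_option autoImplicit false

namespace Cfsg.Agent.S2981P

open Cfsg.Agent.S2789P Cfsg.Agent.S2999P Cfsg.Agent.S3000P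
open scoped commutatorElement

variable {G : Type*} [Group G] [Finite G] {p : ℕ} [Fact p.Prime] {V P : Subgroup G} {T : Sylow p ↥P} {M : Subgroup ↥P} {q : ℕ}
variable {A E H : Subgroup G} {w : G}

/-- a `p`-element normalising a subgroup `R` whose order is divisible by `p` fixes a nonidentity element of `R` -/
theorem BOREL3_aux_fixed {R : Subgroup G} {b : G} (hbR : cjs b R = R) (hbp : ∃ k : ℕ, b ^ p ^ k = 1)
    (hdvd : p ∣ Nat.card ↥R) : ∃ r ∈ R, r ≠ 1 ∧ b * r * b⁻¹ = r := by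
  classical
  have hbR' : cjs b⁻¹ R = R := BOREL2_aux_cj_inv hbR
  have hmem : ∀ x ∈ R, b * x * b⁻¹ ∈ R := by
    intro x hx
    have : b * x * b⁻¹ ∈ cjs b R := cj_mem_conj.mpr hx
    rwa [hbR] at this
  have hmem' : ∀ x ∈ R, b⁻¹ * x * b ∈ R := by
    intro x hx
    have : b⁻¹ * x * b⁻¹⁻¹ ∈ cjs b⁻¹ R := cj_mem_conj.mpr hx
    rw [hbR', inv_inv] at this
    exact this
  let σ : Equiv.Perm ↥R :=
    { toFun := fun x => ⟨b * x * b⁻¹, hmem x x.2⟩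
      invFun := fun x => ⟨b⁻¹ * x * b, hmem' x x.2⟩
      left_inv := fun x => by apply Subtype.ext; simp only []; group
      right_inv := fun x => by apply Subtype.ext; simp only []; group }
  have hσpow : ∀ (j : ℕ) (x : ↥R), (((σ ^ j) x : ↥R) : G) = b ^ j * x * (b ^ j)⁻¹ := by
    intro j
    induction j with
    | zero => intro x; simp
    | succ j ih =>
      intro x
      rw [pow_succ', Equiv.Perm.mul_apply]
      show b * ((σ ^ j) x : ↥R) * b⁻¹ = _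
      rw [ih, pow_succ']; group
  obtain ⟨m, hm⟩ := hbp
  have hσ : σ ^ p ^ m = 1 := by
    ext x
    rw [hσpow, hm]; simp
  letI : Fintype ↥R := Fintype.ofFinite _
  have hdvd' : p ∣ Fintype.card ↥R := by rwa [← Nat.card_eq_fintype_card]
  have h1 : σ (1 : ↥R) = 1 := by
    apply Subtype.ext
    show b * ((1 : ↥R) : G) * b⁻¹ = ((1 : ↥R) : G)
    simp
  obtain ⟨r, hr1, hr2⟩ := Equiv.Perm.exists_fixed_point_of_prime' hdvd' hσ h1
  refine ⟨r, r.2, ?_, ?_⟩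
  · intro h
    apply hr2
    exact Subtype.ext h
  · exact congrArg Subtype.val hr1

/-- a `p`-element commuting with `H` and normalising `C_V(A)` centralises `Ř_A = [C_V(A), H]` -/
theorem BOREL3_aux_fixR (Hy : Hyp p V P T M) (hq2 : 2 < q) (K : Tool p V P q A E H w)
    {b : G} (hbp : ∃ k : ℕ, b ^ p ^ k = 1) (hbU : cjs b (fixV V A) = fixV V A) (hbH : ∀ h ∈ H, b * h = h * b) :
    ∀ r ∈ ⁅fixV V A, H⁆, b * r * b⁻¹ = r := by
  obtain ⟨-, -, -, hcard⟩ := Tool.Rc Hy K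
  obtain ⟨htr, -⟩ := Tool.Rc_act Hy hq2 K
  have hbH' : cjs b H = H := BOREL2_aux_cj_of_comm hbH
  have hbR : cjs b ⁅fixV V A, H⁆ = ⁅fixV V A, H⁆ := by rw [cj_comm, hbU, hbH']
  obtain ⟨k, hk0, hqk⟩ := TOOLa_aux_p_dvd K.hA
  have hdvd : p ∣ Nat.card ↥⁅fixV V A, H⁆ := by
    rw [hcard, hqk]
    exact dvd_pow_self p hk0
  obtain ⟨r, hr, hr1, hrfix⟩ := BOREL3_aux_fixed hbR hbp hdvd
  intro r' hr'
  by_cases h1 : r' = 1
  · rw [h1]; group
  · obtain ⟨h, hh, hhr⟩ := htr r hr hr1 r' hr' h1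
    have hbh := hbH h hh
    have hbh' : b * h⁻¹ = h⁻¹ * b := by
      calc b * h⁻¹ = h⁻¹ * (h * b) * h⁻¹ := by group
        _ = h⁻¹ * (b * h) * h⁻¹ := by rw [hbh]
        _ = h⁻¹ * b := by group
    rw [← hhr]
    calc b * (h * r * h⁻¹) * b⁻¹ = (b * h) * r * (h⁻¹ * b⁻¹) := by group
      _ = (h * b) * r * (h⁻¹ * b⁻¹) := by rw [hbh]
      _ = h * (b * r * b⁻¹) * (b * h⁻¹) * b⁻¹ := by group
      _ = h * r * (h⁻¹ * b) * b⁻¹ := by rw [hrfix, hbh']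
      _ = h * r * h⁻¹ := by group

/-- BOREL3 (M/L): a `p`-element normalising `E`, `A`, `ʷA` and centralising `H` centralises `E`. -/
theorem BOREL3 (Hy : Hyp p V P T M) (hq2 : 2 < q) {H : Subgroup G} {w : G} (K : Tool p V P q A E H w)
    {b : G} (hbP : b ∈ P) (hbp : ∃ k : ℕ, b ^ p ^ k = 1) (hbE : cjs b E = E) (hbA : cjs b A = A)
    (hbw : cjs b (cjs w A) = cjs w A) (hbH : ∀ h ∈ H, b * h = h * b) : ∀ e ∈ E, b * e = e * b := by
  have hVab : ∀ x ∈ V, ∀ y ∈ V, x * y = y * x := fun x hx y hy =>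
    congrArg Subtype.val (Hy.hV.1.is_comm.comm ⟨x, hx⟩ ⟨y, hy⟩)
  have hbV : b ∈ Subgroup.normalizer (V : Set G) := Hy.hPV hbP
  have hwP : w ∈ P := K.hEP K.hwE
  have hwV : w ∈ Subgroup.normalizer (V : Set G) := Hy.hPV hwP
  obtain ⟨hRc1, -, -, -⟩ := Tool.Rc Hy K
  obtain ⟨-, -, hRi3, -, -⟩ := Tool.Ri Hy K
  -- `b` fixes `Ř_A` pointwise
  have hbU : cjs b (fixV V A) = fixV V A := by rw [← cj_fix A hbV, hbA]
  have hfixA := BOREL3_aux_fixR Hy hq2 K hbp hbU hbH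
  -- `b' = w⁻¹ b w` fixes `Ř_A` pointwise, so `b` fixes `Ř_∞ = cjs w Ř_A` pointwise
  have hwH' : cjs w⁻¹ H = H := BOREL2_aux_cj_inv K.hwH
  have hb'p : ∃ k : ℕ, (w⁻¹ * b * w) ^ p ^ k = 1 := by
    obtain ⟨k, hk⟩ := hbp
    refine ⟨k, ?_⟩
    have : (w⁻¹ * b * w) ^ p ^ k = w⁻¹ * b ^ p ^ k * w := by
      have := conj_pow (a := w⁻¹) (b := b) (i := p ^ k)
      simpa using this
    rw [this, hk]; group
  have hb'U : cjs (w⁻¹ * b * w) (fixV V A) = fixV V A := by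
    have h1 : cjs w (fixV V A) = fixV V (cjs w A) := (cj_fix A hwV).symm
    have h2 : cjs b (fixV V (cjs w A)) = fixV V (cjs w A) := by rw [← cj_fix _ hbV, hbw]
    rw [← cj_mul, ← cj_mul, h1, h2, ← h1, cj_inv_cj]
  have hb'H : ∀ h ∈ H, (w⁻¹ * b * w) * h = h * (w⁻¹ * b * w) := by
    intro h hh
    have h1 : w * h * w⁻¹ ∈ H := by
      have : w * h * w⁻¹ ∈ cjs w H := cj_mem_conj.mpr hh
      rwa [K.hwH] at this
    have h2 := hbH _ h1
    calc w⁻¹ * b * w * h = w⁻¹ * (b * (w * h * w⁻¹)) * w := by group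
      _ = w⁻¹ * ((w * h * w⁻¹) * b) * w := by rw [h2]
      _ = h * (w⁻¹ * b * w) := by group
  have hfixA' := BOREL3_aux_fixR Hy hq2 K hb'p hb'U hb'H
  have hRI : cjs w ⁅fixV V A, H⁆ = ⁅fixV V (cjs w A), H⁆ := by
    rw [cj_comm, ← cj_fix A hwV, K.hwH]
  have hfixI : ∀ y ∈ ⁅fixV V (cjs w A), H⁆, b * y * b⁻¹ = y := by
    intro y hy
    rw [← hRI, cj_mem] at hy
    have := hfixA' _ hy
    calc b * y * b⁻¹ = w * ((w⁻¹ * b * w) * (w⁻¹ * y * w) * (w⁻¹ * b * w)⁻¹) * w⁻¹ := by group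
      _ = w * (w⁻¹ * y * w) * w⁻¹ := by rw [this]
      _ = y := by group
  -- `b` normalises `C = C_V(E)`
  have hbC : cjs b (fixV V E) = fixV V E := by rw [← cj_fix E hbV, hbE]
  have hbCmem : ∀ c ∈ fixV V E, b * c * b⁻¹ ∈ fixV V E := by
    intro c hc
    have : b * c * b⁻¹ ∈ cjs b (fixV V E) := cj_mem_conj.mpr hc
    rwa [hbC] at this
  -- `[V, b] ≤ C`
  have hRA_V : ⁅fixV V A, H⁆ ≤ V := by
    have := le_sup_left (a := ⁅fixV V A, H⁆) (b := fixV V E)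
    rw [hRc1] at this
    exact this.trans (fix_le V A)
  have hRI_V : ⁅fixV V (cjs w A), H⁆ ≤ V := by
    have := le_sup_right (a := fixV V A) (b := ⁅fixV V (cjs w A), H⁆)
    rw [hRi3] at this
    exact this
  have htriv : ∀ v ∈ V, b * v * b⁻¹ * v⁻¹ ∈ fixV V E := by
    intro v hv
    have hv' : v ∈ fixV V A ⊔ ⁅fixV V (cjs w A), H⁆ := by rw [hRi3]; exact hv
    obtain ⟨u, hu, y, hy, rfl⟩ := mem_sup_of_abelian hVab (fix_le V A) hRI_V hv'
    have hu' : u ∈ ⁅fixV V A, H⁆ ⊔ fixV V E := by rw [hRc1]; exact hu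
    obtain ⟨r, hr, c, hc, rfl⟩ := mem_sup_of_abelian hVab hRA_V (fix_le V E) hu'
    have e1 : b * (r * c * y) * b⁻¹ = (b * r * b⁻¹) * (b * c * b⁻¹) * (b * y * b⁻¹) := by group
    rw [e1, hfixA r hr, hfixI y hy]
    have hrV := hRA_V hr
    have hcV := fix_le V E hc
    have hyV := hRI_V hy
    have hc'V : b * c * b⁻¹ ∈ V := fix_le V E (hbCmem c hc)
    -- in the abelian group `V`
    have e2 : r * (b * c * b⁻¹) * y * (r * c * y)⁻¹ = (b * c * b⁻¹) * c⁻¹ := by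
      have a1 : r * (b * c * b⁻¹) = (b * c * b⁻¹) * r := hVab r hrV _ hc'V
      have a2 : r * y = y * r := hVab r hrV y hyV
      have a3 : c * y = y * c := hVab c hcV y hyV
      have a4 : r * c = c * r := hVab r hrV c hcV
      calc r * (b * c * b⁻¹) * y * (r * c * y)⁻¹ = (r * (b * c * b⁻¹)) * y * (y⁻¹ * c⁻¹ * r⁻¹) := by group
        _ = ((b * c * b⁻¹) * r) * y * (y⁻¹ * c⁻¹ * r⁻¹) := by rw [a1]
        _ = (b * c * b⁻¹) * (r * c⁻¹ * r⁻¹) := by group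
        _ = (b * c * b⁻¹) * c⁻¹ := by
          have : r * c⁻¹ * r⁻¹ = c⁻¹ := by
            calc r * c⁻¹ * r⁻¹ = c⁻¹ * (c * r) * c⁻¹ * r⁻¹ := by group
              _ = c⁻¹ * (r * c) * c⁻¹ * r⁻¹ := by rw [a4]
              _ = c⁻¹ := by group
          rw [this]
    rw [e2]
    exact (fixV V E).mul_mem (hbCmem c hc) ((fixV V E).inv_mem hc)
  -- the same for `b⁻¹`
  have htriv' : ∀ v ∈ V, b⁻¹ * v * b * v⁻¹ ∈ fixV V E := by
    intro v hv
    have hv1 : b⁻¹ * v * b ∈ V := by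
      have := Cfsg.Agent.Helper26.conj_mem_of_mem_normalizer (Subgroup.inv_mem _ hbV) hv
      simpa using this
    have h1 := htriv _ hv1
    have e : b * (b⁻¹ * v * b) * b⁻¹ * (b⁻¹ * v * b)⁻¹ = (b⁻¹ * v * b * v⁻¹)⁻¹ := by group
    rw [e] at h1
    have := (fixV V E).inv_mem h1
    rwa [inv_inv] at this
  -- conclusion via `hker`
  intro e he
  have hkE : b * e * b⁻¹ * e⁻¹ ∈ E := by
    have : b * e * b⁻¹ ∈ cjs b E := cj_mem_conj.mpr he
    rw [hbE] at this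
    exact E.mul_mem this (E.inv_mem he)
  have heV : e ∈ Subgroup.normalizer (V : Set G) := Hy.hPV (K.hEP he)
  have hk1 : b * e * b⁻¹ * e⁻¹ = 1 := by
    apply K.hker _ hkE
    intro v hv
    -- `v₁ = e⁻¹ v e`, `b⁻¹ v₁ b = v₁ c₁`
    have hv1 : e⁻¹ * v * e ∈ V := by
      have := Cfsg.Agent.Helper26.conj_mem_of_mem_normalizer (Subgroup.inv_mem _ heV) hv
      simpa using this
    have hc1 := htriv' _ hv1
    set c₁ := b⁻¹ * (e⁻¹ * v * e) * b * (e⁻¹ * v * e)⁻¹ with hc1def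
    have hc1e : e * c₁ * e⁻¹ = c₁ := by
      have := (mem_fix.mp hc1).2 e he
      calc e * c₁ * e⁻¹ = (e * c₁) * e⁻¹ := by group
        _ = (c₁ * e) * e⁻¹ := by rw [this]
        _ = c₁ := by group
    have hc2 := htriv v hv
    have hc1' := hbCmem c₁ hc1
    have hc1V : c₁ ∈ V := fix_le V E hc1
    -- `k v k⁻¹ v⁻¹ = (b c₁ b⁻¹) (b v b⁻¹ v⁻¹)`
    have key : (b * e * b⁻¹ * e⁻¹) * v * (b * e * b⁻¹ * e⁻¹)⁻¹ * v⁻¹ = (b * c₁ * b⁻¹) * (b * v * b⁻¹ * v⁻¹) := by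
      have e1 : (b * e * b⁻¹ * e⁻¹) * v * (b * e * b⁻¹ * e⁻¹)⁻¹ = b * (e * (b⁻¹ * (e⁻¹ * v * e) * b) * e⁻¹) * b⁻¹ := by group
      have e2 : b⁻¹ * (e⁻¹ * v * e) * b = c₁ * (e⁻¹ * v * e) := by rw [hc1def]; group
      have e3 : e * (c₁ * (e⁻¹ * v * e)) * e⁻¹ = (e * c₁ * e⁻¹) * v := by group
      rw [e1, e2, e3, hc1e]
      group
    rw [key]
    exact (fixV V E).mul_mem hc1' hc2
  calc b * e = (b * e * b⁻¹ * e⁻¹) * (e * b) := by group
    _ = e * b := by rw [hk1, one_mul]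

end Cfsg.Agent.S2981P
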