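import Mathlib

set_option autoImplicit false

/-!
Burnside's "table of marks" theorem for two permutation representations of a group on finite
sets, phrased with explicit homomorphisms into permutation groups.
-/

namespace Cfsg.Agent.Helper25.Park

variable {H : Type*} [Group H] {X Y : Type*}

/-- Stabilizer of a point under a permutation representation. -/
def stab (a : H →* Equiv.Perm X) (x : X) : Subgroup H where
  carrier := {g | a g x = x}
  mul_mem' := by
    intro g h hg hh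
    simp only [Set.mem_ofPred_eq] at *
    rw [map_mul, Equiv.Perm.mul_apply, hh, hg]
  one_mem' := by simp
  inv_mem' := by
    intro g hg
    simp only [Set.mem_ofPred_eq] at *
    rw [map_inv, Equiv.Perm.inv_eq_iff_eq]
    exact hg.symm

theorem mem_stab {a : H →* Equiv.Perm X} {x : X} {g : H} : g ∈ stab a x ↔ a g x = x := Iff.rfl

theorem apply_eq_iff (a : H →* Equiv.Perm X) (x : X) (g g' : H) :
    a g x = a g' x ↔ g'⁻¹ * g ∈ stab a x := by
  rw [mem_stab, map_mul, map_inv, Equiv.Perm.mul_apply, Equiv.Perm.inv_eq_iff_eq]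

/-- Points of `A` fixed by all of `K`. -/
def fixIn (a : H →* Equiv.Perm X) (K : Subgroup H) (A : Set X) : Set X :=
  {x | x ∈ A ∧ ∀ k ∈ K, a k x = x}

/-- An equivariant bijection from `A` onto `B`, as a plain function. -/
def IsEquivBij (a : H →* Equiv.Perm X) (b : H →* Equiv.Perm Y) (A : Set X) (B : Set Y)
    (f : X → Y) : Prop :=
  (∀ x ∈ A, f x ∈ B) ∧ Set.InjOn f A ∧ (∀ y ∈ B, ∃ x ∈ A, f x = y) ∧
    ∀ g, ∀ x ∈ A, f (a g x) = b g (f x)

theorem ncard_fixIn_of_equivBij [Finite X] [Finite Y] {a : H →* Equiv.Perm X}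
    {b : H →* Equiv.Perm Y} {A : Set X} {B : Set Y}
    (hA : ∀ g x, x ∈ A → a g x ∈ A) {f : X → Y} (hf : IsEquivBij a b A B f) (K : Subgroup H) :
    (fixIn a K A).ncard = (fixIn b K B).ncard := by
  obtain ⟨hmap, hinj, hsurj, heq⟩ := hf
  refine Set.ncard_congr (fun x _ => f x) ?_ ?_ ?_
  · rintro x ⟨hxA, hx⟩
    refine ⟨hmap x hxA, fun k hk => ?_⟩
    rw [← heq k x hxA, hx k hk]
  · rintro x x' ⟨hxA, _⟩ ⟨hxA', _⟩ h
    exact hinj hxA hxA' h
  · rintro y ⟨hyB, hy⟩
    obtain ⟨x, hxA, rfl⟩ := hsurj y hyB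
    refine ⟨x, ⟨hxA, fun k hk => ?_⟩, rfl⟩
    apply hinj (hA k x hxA) hxA
    rw [heq k x hxA, hy k hk]

theorem fixIn_diff (a : H →* Equiv.Perm X) (K : Subgroup H) (A O : Set X) :
    fixIn a K (A \ O) = fixIn a K A \ fixIn a K O := by
  ext x
  simp only [fixIn, Set.mem_ofPred_eq, Set.mem_sdiff]
  tauto

theorem fixIn_mono (a : H →* Equiv.Perm X) (K : Subgroup H) {A O : Set X} (h : O ⊆ A) :
    fixIn a K O ⊆ fixIn a K A := fun _ hx => ⟨h hx.1, hx.2⟩

theorem marks_aux [Finite X] [Finite Y] [Nonempty Y] (a : H →* Equiv.Perm X)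
    (b : H →* Equiv.Perm Y) :
    ∀ n : ℕ, ∀ (A : Set X) (B : Set Y), A.ncard = n → (∀ g x, x ∈ A → a g x ∈ A) →
      (∀ g y, y ∈ B → b g y ∈ B) →
      (∀ K : Subgroup H, (fixIn a K A).ncard = (fixIn b K B).ncard) →
      ∃ f : X → Y, IsEquivBij a b A B f := by
  intro n
  induction n using Nat.strong_induction_on with
  | _ n ih =>
  intro A B hn hA hB hm
  rcases A.eq_empty_or_nonempty with hAe | hAne
  · have hB0 : B = ∅ := by
      have h1 := hm ⊥
      have h2 : fixIn a ⊥ A = ∅ := by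
        ext x
        simp [fixIn, hAe]
      have h3 : fixIn b ⊥ B = B := by
        ext y
        simp only [fixIn, Set.mem_ofPred_eq, Subgroup.mem_bot]
        constructor
        · exact fun h => h.1
        · intro h
          refine ⟨h, ?_⟩
          rintro k rfl
          simp
      rw [h2, h3, Set.ncard_empty] at h1
      exact (Set.ncard_eq_zero (Set.toFinite B)).1 h1.symm
    refine ⟨fun _ => Classical.arbitrary Y, ?_, ?_, ?_, ?_⟩
    · intro x hx
      rw [hAe] at hx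
      exact hx.elim
    · intro x hx
      rw [hAe] at hx
      exact hx.elim
    · intro y hy
      rw [hB0] at hy
      exact hy.elim
    · intro g x hx
      rw [hAe] at hx
      exact hx.elim
  · obtain ⟨x₀, hx₀A, hmax⟩ := Set.Finite.exists_maximalFor (stab a) A (Set.toFinite A) hAne
    have h1 : (fixIn a (stab a x₀) A).Nonempty := ⟨x₀, hx₀A, fun k hk => hk⟩
    have h2 : (fixIn b (stab a x₀) B).Nonempty := by
      rw [← Set.ncard_pos, ← hm (stab a x₀), Set.ncard_pos]
      exact h1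
    obtain ⟨y₀, hy₀B, hy₀fix⟩ := h2
    have h3 : (fixIn a (stab b y₀) A).Nonempty := by
      rw [← Set.ncard_pos, hm (stab b y₀), Set.ncard_pos]
      exact ⟨y₀, hy₀B, fun k hk => hk⟩
    obtain ⟨x₁, hx₁A, hx₁fix⟩ := h3
    have hle1 : stab a x₀ ≤ stab b y₀ := fun k hk => hy₀fix k hk
    have hle2 : stab b y₀ ≤ stab a x₁ := fun k hk => hx₁fix k hk
    have hle3 : stab a x₁ ≤ stab a x₀ := hmax hx₁A (hle1.trans hle2)
    have hstab : stab b y₀ = stab a x₀ := le_antisymm (hle2.trans hle3) hle1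
    -- the key equivalence
    have key : ∀ g g' : H, a g x₀ = a g' x₀ ↔ b g y₀ = b g' y₀ := by
      intro g g'
      rw [apply_eq_iff, apply_eq_iff, hstab]
    -- the orbits
    set O : Set X := {x | ∃ g, a g x₀ = x} with hO
    set O' : Set Y := {y | ∃ g, b g y₀ = y} with hO'
    have hOA : O ⊆ A := by
      rintro x ⟨g, rfl⟩
      exact hA g x₀ hx₀A
    have hOB : O' ⊆ B := by
      rintro y ⟨g, rfl⟩
      exact hB g y₀ hy₀B
    have hOinv : ∀ g x, x ∈ O → a g x ∈ O := by
      rintro g x ⟨g', rfl⟩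
      exact ⟨g * g', by rw [map_mul, Equiv.Perm.mul_apply]⟩
    have hOinv' : ∀ g x, a g x ∈ O → x ∈ O := by
      intro g x hx
      have := hOinv g⁻¹ _ hx
      have h2 : (a g)⁻¹ (a g x) = x := Equiv.Perm.inv_eq_iff_eq.2 rfl
      rw [map_inv, h2] at this
      exact this
    have hO'inv : ∀ g y, y ∈ O' → b g y ∈ O' := by
      rintro g y ⟨g', rfl⟩
      exact ⟨g * g', by rw [map_mul, Equiv.Perm.mul_apply]⟩
    have hO'inv' : ∀ g y, b g y ∈ O' → y ∈ O' := by
      intro g y hy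
      have := hO'inv g⁻¹ _ hy
      have h2 : (b g)⁻¹ (b g y) = y := Equiv.Perm.inv_eq_iff_eq.2 rfl
      rw [map_inv, h2] at this
      exact this
    -- the orbit map
    classical
    let f₁ : X → Y := fun x => if h : ∃ g, a g x₀ = x then b (Classical.choose h) y₀
      else Classical.arbitrary Y
    have hf₁ : ∀ g, f₁ (a g x₀) = b g y₀ := by
      intro g
      have h : ∃ g', a g' x₀ = a g x₀ := ⟨g, rfl⟩
      show (if h : ∃ g', a g' x₀ = a g x₀ then b (Classical.choose h) y₀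
        else Classical.arbitrary Y) = b g y₀
      rw [dif_pos h]
      exact (key _ _).1 (Classical.choose_spec h)
    have hbij₁ : IsEquivBij a b O O' f₁ := by
      refine ⟨?_, ?_, ?_, ?_⟩
      · rintro x ⟨g, rfl⟩
        exact ⟨g, (hf₁ g).symm⟩
      · rintro x ⟨g, rfl⟩ x' ⟨g', rfl⟩ h
        rw [hf₁, hf₁] at h
        exact (key _ _).2 h
      · rintro y ⟨g, rfl⟩
        exact ⟨a g x₀, ⟨g, rfl⟩, hf₁ g⟩
      · rintro g x ⟨g', rfl⟩
        rw [hf₁, ← Equiv.Perm.mul_apply, ← map_mul, hf₁, map_mul, Equiv.Perm.mul_apply]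
    -- complements
    have hA' : ∀ g x, x ∈ A \ O → a g x ∈ A \ O := by
      rintro g x ⟨hxA, hxO⟩
      exact ⟨hA g x hxA, fun h => hxO (hOinv' g x h)⟩
    have hB' : ∀ g y, y ∈ B \ O' → b g y ∈ B \ O' := by
      rintro g y ⟨hyB, hyO⟩
      exact ⟨hB g y hyB, fun h => hyO (hO'inv' g y h)⟩
    have hm' : ∀ K : Subgroup H, (fixIn a K (A \ O)).ncard = (fixIn b K (B \ O')).ncard := by
      intro K
      rw [fixIn_diff, fixIn_diff, Set.ncard_sdiff (fixIn_mono a K hOA) (Set.toFinite _),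
        Set.ncard_sdiff (fixIn_mono b K hOB) (Set.toFinite _), hm K,
        ncard_fixIn_of_equivBij hOinv hbij₁ K]
    have hlt : (A \ O).ncard < n := by
      rw [← hn]
      apply Set.ncard_lt_ncard _ (Set.toFinite A)
      refine ⟨Set.sdiff_subset, fun h => ?_⟩
      have hx₀O : x₀ ∈ O := ⟨1, by simp⟩
      exact (h hx₀A).2 hx₀O
    obtain ⟨f₂, hmap₂, hinj₂, hsurj₂, heq₂⟩ := ih _ hlt (A \ O) (B \ O') rfl hA' hB' hm'
    obtain ⟨hmap₁, hinj₁, hsurj₁, heq₁⟩ := hbij₁
    refine ⟨fun x => if x ∈ O then f₁ x else f₂ x, ?_, ?_, ?_, ?_⟩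
    · intro x hxA
      by_cases hxO : x ∈ O
      · simp only [if_pos hxO]
        exact hOB (hmap₁ x hxO)
      · simp only [if_neg hxO]
        exact (hmap₂ x ⟨hxA, hxO⟩).1
    · intro x hxA x' hx'A h
      by_cases hxO : x ∈ O <;> by_cases hx'O : x' ∈ O
      · simp only [if_pos hxO, if_pos hx'O] at h
        exact hinj₁ hxO hx'O h
      · simp only [if_pos hxO, if_neg hx'O] at h
        exact absurd (h ▸ hmap₁ x hxO) (hmap₂ x' ⟨hx'A, hx'O⟩).2
      · simp only [if_neg hxO, if_pos hx'O] at h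
        exact absurd (h ▸ hmap₁ x' hx'O) (hmap₂ x ⟨hxA, hxO⟩).2
      · simp only [if_neg hxO, if_neg hx'O] at h
        exact hinj₂ ⟨hxA, hxO⟩ ⟨hx'A, hx'O⟩ h
    · intro y hyB
      by_cases hyO : y ∈ O'
      · obtain ⟨x, hxO, rfl⟩ := hsurj₁ y hyO
        exact ⟨x, hOA hxO, by simp only [if_pos hxO]⟩
      · obtain ⟨x, hxA', rfl⟩ := hsurj₂ y ⟨hyB, hyO⟩
        exact ⟨x, hxA'.1, by simp only [if_neg hxA'.2]⟩
    · intro g x hxA
      by_cases hxO : x ∈ O
      · simp only [if_pos hxO, if_pos (hOinv g x hxO)]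
        exact heq₁ g x hxO
      · have : a g x ∉ O := fun h => hxO (hOinv' g x h)
        simp only [if_neg hxO, if_neg this]
        exact heq₂ g x ⟨hxA, hxO⟩

/-- Burnside's theorem on marks: two permutation representations of `H` on a finite set with
the same number of fixed points for every subgroup are conjugate by a permutation. -/
theorem marks_perm [Finite X] (a₁ a₂ : H →* Equiv.Perm X)
    (h : ∀ K : Subgroup H, Nat.card {x : X // ∀ k ∈ K, a₁ k x = x} =
      Nat.card {x : X // ∀ k ∈ K, a₂ k x = x}) :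
    ∃ e : Equiv.Perm X, ∀ g x, e (a₁ g x) = a₂ g (e x) := by
  rcases isEmpty_or_nonempty X with hX | hX
  · exact ⟨1, fun g x => (hX.false x).elim⟩
  · have hm : ∀ K : Subgroup H, (fixIn a₁ K Set.univ).ncard = (fixIn a₂ K Set.univ).ncard := by
      intro K
      have e1 : fixIn a₁ K Set.univ = {x : X | ∀ k ∈ K, a₁ k x = x} := by
        ext x; simp [fixIn]
      have e2 : fixIn a₂ K Set.univ = {x : X | ∀ k ∈ K, a₂ k x = x} := by
        ext x; simp [fixIn]
      rw [e1, e2, ← Nat.card_coe_set_eq, ← Nat.card_coe_set_eq]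
      exact h K
    obtain ⟨f, hmap, hinj, hsurj, heq⟩ := marks_aux a₁ a₂ _ Set.univ Set.univ rfl
      (fun _ _ _ => Set.mem_univ _) (fun _ _ _ => Set.mem_univ _) hm
    have hbij : Function.Bijective f := by
      refine ⟨fun x x' hxx' => hinj (Set.mem_univ _) (Set.mem_univ _) hxx', fun y => ?_⟩
      obtain ⟨x, _, rfl⟩ := hsurj y (Set.mem_univ _)
      exact ⟨x, rfl⟩
    exact ⟨Equiv.ofBijective f hbij, fun g x => heq g x (Set.mem_univ _)⟩

end Cfsg.Agent.Helper25.Park
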