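import Mathlib

set_option autoImplicit false

/-!
Weights on a finite poset whose upward sums are prescribed steeply decreasing powers.
-/

namespace Cfsg.Agent.Helper25.Park

open Classical in
theorem sum_le_split {I : Type*} [Fintype I] [PartialOrder I] (f : I → ℕ) (K : I) :
    (∑ D : I, if K ≤ D then f D else 0) = f K + ∑ D : I, if K < D then f D else 0 := by
  have h1 : ∀ D : I, (if K ≤ D then f D else 0) =
      (if D = K then f D else 0) + (if K < D then f D else 0) := by
    intro D
    by_cases hDK : D = K
    · subst hDK
      simp
    · by_cases hlt : K < D
      · simp [hDK, hlt, hlt.le]
      · have hle : ¬ K ≤ D := fun h => by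
          rcases lt_or_eq_of_le h with h' | h'
          · exact hlt h'
          · exact hDK h'.symm
        simp [hDK, hlt, hle]
  rw [Finset.sum_congr rfl (fun D _ => h1 D), Finset.sum_add_distrib, Finset.sum_ite_eq']
  simp

open Classical in
theorem exists_weights {I : Type*} [Fintype I] [PartialOrder I] (size : I → ℕ) (N : ℕ)
    (hsize : ∀ i, size i ≤ N) (hmono : ∀ i j, i < j → size i < size j) (B : ℕ)
    (hB : Fintype.card I ≤ B) (hB1 : 1 ≤ B) :
    ∃ v : I → ℕ, ∀ K : I, (∑ D : I, if K ≤ D then v D else 0) = B ^ (N - size K) := by
  have claim : ∀ j : ℕ, ∃ v : I → ℕ, (∀ D, v D ≤ B ^ (N - size D)) ∧
      ∀ K : I, N < size K + j → (∑ D : I, if K ≤ D then v D else 0) = B ^ (N - size K) := by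
    intro j
    induction j with
    | zero =>
      refine ⟨fun _ => 0, fun D => Nat.zero_le _, fun K hK => ?_⟩
      have := hsize K
      omega
    | succ j ih =>
      obtain ⟨v, hv, heq⟩ := ih
      set T : I → ℕ := fun K => ∑ D : I, if K < D then v D else 0 with hT
      refine ⟨fun D => if size D + j = N then B ^ (N - size D) - T D else v D, ?_, ?_⟩
      · intro D
        by_cases h : size D + j = N
        · simp only [if_pos h]
          exact Nat.sub_le _ _
        · simp only [if_neg h]
          exact hv D
      · intro K hK
        by_cases hKj : N < size K + j
        · rw [← heq K hKj]
          apply Finset.sum_congr rfl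
          intro D _
          by_cases hKD : K ≤ D
          · simp only [if_pos hKD]
            have hs : size K ≤ size D := by
              rcases lt_or_eq_of_le hKD with h' | h'
              · exact (hmono _ _ h').le
              · rw [h']
            have : ¬ size D + j = N := by omega
            simp only [if_neg this]
          · simp only [if_neg hKD]
        · have hKN : size K + j = N := by omega
          rw [sum_le_split]
          simp only [if_pos hKN]
          have h2 : (∑ D : I, if K < D then
              (if size D + j = N then B ^ (N - size D) - T D else v D) else 0) = T K := by
            apply Finset.sum_congr rfl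
            intro D _
            by_cases hKD : K < D
            · simp only [if_pos hKD]
              have := hmono _ _ hKD
              have : ¬ size D + j = N := by omega
              simp only [if_neg this]
            · simp only [if_neg hKD]
          rw [h2]
          apply Nat.sub_add_cancel
          -- T K ≤ B ^ (N - size K)
          by_cases hN : size K = N
          · have : T K = 0 := by
              apply Finset.sum_eq_zero
              intro D _
              by_cases hKD : K < D
              · have := hmono _ _ hKD
                have := hsize D
                omega
              · simp only [if_neg hKD]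
            rw [this]
            exact Nat.zero_le _
          · have hlt : size K < N := lt_of_le_of_ne (hsize K) hN
            have h3 : T K ≤ ∑ _D : I, B ^ (N - size K - 1) := by
              apply Finset.sum_le_sum
              intro D _
              by_cases hKD : K < D
              · simp only [if_pos hKD]
                refine (hv D).trans ?_
                apply Nat.pow_le_pow_right hB1
                have := hmono _ _ hKD
                omega
              · simp only [if_neg hKD]
                exact Nat.zero_le _
            rw [Finset.sum_const, Finset.card_univ, smul_eq_mul] at h3
            refine h3.trans ?_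
            have h4 : N - size K = (N - size K - 1) + 1 := by omega
            calc Fintype.card I * B ^ (N - size K - 1) ≤ B * B ^ (N - size K - 1) :=
                  Nat.mul_le_mul_right _ hB
              _ = B ^ (N - size K) := by
                  conv_rhs => rw [h4, pow_succ]
                  ring
  obtain ⟨v, _, heq⟩ := claim (N + 1)
  exact ⟨v, fun K => heq K (by omega)⟩

end Cfsg.Agent.Helper25.Park
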