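import Mathlib
import Cfsg.Agent.Helper25.ParkWeights

set_option autoImplicit false

/-!
A finite `H`-set all of whose point stabilizers lie in a given family `𝒟` of subgroups (closed
under conjugation and under passing to subgroups) and in which the number of fixed points of a
subgroup `K ∈ 𝒟` depends only on the order of `K`.
-/

namespace Cfsg.Agent.Helper25.Park

universe u

variable {H : Type u} [Group H]

/-- The `H`-set: for every `D` in the family, `v D * |D|` copies of `H ⧸ D`. -/
structure PSet (𝒟 : Subgroup H → Prop) (v : {D : Subgroup H // 𝒟 D} → ℕ) : Type u where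
  /-- the subgroup -/
  idx : {D : Subgroup H // 𝒟 D}
  /-- the copy -/
  cnt : Fin (v idx) × ↥(idx.1)
  /-- the coset -/
  coset : H ⧸ idx.1

variable {𝒟 : Subgroup H → Prop} {v : {D : Subgroup H // 𝒟 D} → ℕ}

instance PSet.instSMul : SMul H (PSet 𝒟 v) := ⟨fun h x => ⟨x.idx, x.cnt, h • x.coset⟩⟩

theorem PSet.smul_def (h : H) (x : PSet 𝒟 v) :
    h • x = (⟨x.idx, x.cnt, h • x.coset⟩ : PSet 𝒟 v) := rfl

instance PSet.instMulAction : MulAction H (PSet 𝒟 v) where
  one_smul x := by rw [PSet.smul_def, one_smul]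
  mul_smul g h x := by rw [PSet.smul_def, PSet.smul_def, PSet.smul_def, mul_smul]

/-- The `H`-set as a sigma type. -/
def PSet.equivSigma :
    PSet 𝒟 v ≃ Σ i : {D : Subgroup H // 𝒟 D}, (Fin (v i) × ↥(i.1)) × (H ⧸ i.1) where
  toFun x := ⟨x.idx, x.cnt, x.coset⟩
  invFun y := ⟨y.1, y.2.1, y.2.2⟩
  left_inv _ := rfl
  right_inv _ := rfl

instance PSet.instFinite [Finite H] : Finite (PSet 𝒟 v) :=
  Finite.of_equiv _ PSet.equivSigma.symm

/-- Fixed points of `K` in the `H`-set, fibrewise. -/
def PSet.fixEquiv (K : Subgroup H) :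
    {x : PSet 𝒟 v // ∀ k ∈ K, k • x = x} ≃
      Σ i : {D : Subgroup H // 𝒟 D},
        (Fin (v i) × ↥(i.1)) × {q : H ⧸ i.1 // ∀ k ∈ K, k • q = q} where
  toFun := fun ⟨⟨i, a, q⟩, hx⟩ => ⟨i, a, ⟨q, fun k hk => by
    have := hx k hk
    rw [PSet.smul_def] at this
    simpa using this⟩⟩
  invFun := fun ⟨i, a, ⟨q, hq⟩⟩ => ⟨⟨i, a, q⟩, fun k hk => by
    rw [PSet.smul_def]
    simp only [hq k hk]⟩
  left_inv := by
    rintro ⟨⟨i, a, q⟩, hx⟩
    rfl
  right_inv := by
    rintro ⟨i, a, ⟨q, hq⟩⟩
    rfl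

/-- The conjugate `h⁻¹ K h`. -/
def conjBy (K : Subgroup H) (h : H) : Subgroup H := K.map (MulAut.conj h⁻¹).toMonoidHom

theorem conjBy_le_iff (K D : Subgroup H) (h : H) :
    conjBy K h ≤ D ↔ ∀ k ∈ K, h⁻¹ * k * h ∈ D := by
  unfold conjBy
  rw [Subgroup.map_le_iff_le_comap]
  constructor
  · intro hle k hk
    have := hle hk
    simpa using this
  · intro hall k hk
    have := hall k hk
    simpa using this

theorem card_conjBy (K : Subgroup H) (h : H) : Nat.card (conjBy K h) = Nat.card K := by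
  unfold conjBy
  exact Nat.card_congr
    (K.equivMapOfInjective _ (MulAut.conj h⁻¹).injective).toEquiv.symm

theorem card_fixed_quotient (K D : Subgroup H) :
    Nat.card D * Nat.card {q : H ⧸ D // ∀ k ∈ K, k • q = q} =
      Nat.card {h : H // conjBy K h ≤ D} := by
  have h1 := QuotientGroup.card_preimage_mk D {q : H ⧸ D | ∀ k ∈ K, k • q = q}
  have h2 : (QuotientGroup.mk ⁻¹' {q : H ⧸ D | ∀ k ∈ K, k • q = q} : Set H) =
      {h : H | conjBy K h ≤ D} := by
    ext h
    simp only [Set.mem_preimage, Set.mem_ofPred_eq, conjBy_le_iff]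
    constructor
    · intro hfix k hk
      have := hfix k⁻¹ (K.inv_mem hk)
      rw [MulAction.Quotient.smul_coe, smul_eq_mul, QuotientGroup.eq] at this
      simpa [mul_assoc] using this
    · intro hall k hk
      have := hall k⁻¹ (K.inv_mem hk)
      rw [MulAction.Quotient.smul_coe, smul_eq_mul, QuotientGroup.eq]
      simpa [mul_assoc] using this
  rw [h2] at h1
  exact h1.symm

open Classical in
theorem card_subtype_eq_sum {A : Type*} [Fintype A] (P : A → Prop) :
    Nat.card {h : A // P h} = ∑ h : A, if P h then 1 else 0 := by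
  rw [Nat.card_eq_fintype_card, Fintype.card_subtype, Finset.card_filter]

open Classical in
theorem PSet.card_fixed [Fintype H] [Fintype {D : Subgroup H // 𝒟 D}] (K : Subgroup H) :
    Nat.card {x : PSet 𝒟 v // ∀ k ∈ K, k • x = x} =
      ∑ h : H, ∑ i : {D : Subgroup H // 𝒟 D}, if conjBy K h ≤ i.1 then v i else 0 := by
  rw [Nat.card_congr (PSet.fixEquiv K), Nat.card_sigma, Finset.sum_comm]
  apply Finset.sum_congr rfl
  intro i _
  rw [Nat.card_prod, Nat.card_prod, Nat.card_fin, mul_assoc, card_fixed_quotient,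
    card_subtype_eq_sum, Finset.mul_sum]
  apply Finset.sum_congr rfl
  intro h _
  by_cases hc : conjBy K h ≤ i.1
  · simp [hc]
  · simp [hc]

theorem exists_parkSet [Finite H] (𝒟 : Subgroup H → Prop)
    (hdown : ∀ K D : Subgroup H, K ≤ D → 𝒟 D → 𝒟 K)
    (hconj : ∀ (D : Subgroup H) (h : H), 𝒟 D → 𝒟 (D.map (MulAut.conj h).toMonoidHom)) :
    ∃ (X : Type u) (_ : Finite X) (a : H →* Equiv.Perm X) (c : ℕ → ℕ), (∀ n, 0 < c n) ∧
      ∀ K : Subgroup H, (𝒟 K → Nat.card {x : X // ∀ k ∈ K, a k x = x} = c (Nat.card K)) ∧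
        (¬ 𝒟 K → Nat.card {x : X // ∀ k ∈ K, a k x = x} = 0) := by
  classical
  letI : Fintype H := Fintype.ofFinite H
  letI : Fintype {D : Subgroup H // 𝒟 D} := Fintype.ofFinite _
  set B : ℕ := Fintype.card {D : Subgroup H // 𝒟 D} + 1 with hB
  set N : ℕ := Nat.card H with hN
  obtain ⟨v, hv⟩ := exists_weights (I := {D : Subgroup H // 𝒟 D}) (fun i => Nat.card i.1) N
    (fun i => Subgroup.card_le_card_group i.1) (by
      intro i j hij
      have hle : i.1 ≤ j.1 := hij.le
      by_contra hcon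
      have := Subgroup.eq_of_le_of_card_ge hle (not_lt.1 hcon)
      exact hij.ne (Subtype.ext this)) B (Nat.le_succ _) (Nat.succ_le_succ (Nat.zero_le _))
  have hconj' : ∀ (K : Subgroup H) (h : H), 𝒟 (conjBy K h) ↔ 𝒟 K := by
    intro K h
    constructor
    · intro hK
      have := hconj _ h hK
      have e : (conjBy K h).map (MulAut.conj h).toMonoidHom = K := by
        unfold conjBy
        rw [Subgroup.map_map]
        have : (MulAut.conj h).toMonoidHom.comp (MulAut.conj h⁻¹).toMonoidHom =
            MonoidHom.id H := by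
          ext x
          simp [mul_assoc]
        rw [this, Subgroup.map_id]
      rwa [e] at this
    · intro hK
      exact hconj K h⁻¹ hK
  refine ⟨PSet 𝒟 v, inferInstance, MulAction.toPermHom H (PSet 𝒟 v),
    fun n => Nat.card H * B ^ (N - n), ?_, ?_⟩
  · intro n
    have : 0 < Nat.card H := Nat.card_pos
    positivity
  · intro K
    have hcard : Nat.card {x : PSet 𝒟 v // ∀ k ∈ K, (MulAction.toPermHom H (PSet 𝒟 v)) k x = x} =
        ∑ h : H, ∑ i : {D : Subgroup H // 𝒟 D}, if conjBy K h ≤ i.1 then v i else 0 :=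
      PSet.card_fixed K
    constructor
    · intro hK
      rw [hcard]
      have : ∀ h : H, (∑ i : {D : Subgroup H // 𝒟 D}, if conjBy K h ≤ i.1 then v i else 0) =
          B ^ (N - Nat.card K) := by
        intro h
        have := hv ⟨conjBy K h, (hconj' K h).2 hK⟩
        simp only [card_conjBy] at this
        rw [← this]
        rfl
      rw [Finset.sum_congr rfl (fun h _ => this h), Finset.sum_const, Finset.card_univ,
        smul_eq_mul]
      show Fintype.card H * B ^ (N - Nat.card K) = Nat.card H * B ^ (N - Nat.card K)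
      rw [Nat.card_eq_fintype_card (α := H)]
    · intro hK
      rw [hcard]
      apply Finset.sum_eq_zero
      intro h _
      apply Finset.sum_eq_zero
      intro i _
      rw [if_neg]
      intro hle
      exact hK ((hconj' K h).1 (hdown _ _ hle i.2))

end Cfsg.Agent.Helper25.Park
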