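import Mathlib
import Cfsg.Prelude.Def_FusionSystem
import Cfsg.Agent.Helper25.FusionBasic
import Cfsg.Agent.Helper25.FusionAut

set_option autoImplicit false

/-!
Subgroups of `S × S` contained in a twisted diagonal subgroup `{(q, φ q)}` of a map `φ` of a
fusion system over `S`.
-/

namespace Cfsg.Agent.Helper25.Park

open Cfsg Cfsg.FusionSystem

variable {Ω : Type*} [Group Ω] {S : Subgroup Ω}

/-- `D` is contained in the twisted diagonal subgroup of some map of the system. -/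
def IsTD (F : FusionSystem S) (D : Subgroup (↥S × ↥S)) : Prop :=
  ∃ (Q : Subgroup Ω) (φ : Q →* Ω), φ ∈ F.Hom Q ∧
    ∀ x ∈ D, ∃ hq : ((x.1 : ↥S) : Ω) ∈ Q, φ ⟨((x.1 : ↥S) : Ω), hq⟩ = ((x.2 : ↥S) : Ω)

theorem isTD_mono (F : FusionSystem S) {K D : Subgroup (↥S × ↥S)} (h : K ≤ D) (hD : IsTD F D) :
    IsTD F K := by
  obtain ⟨Q, φ, hφ, hall⟩ := hD
  exact ⟨Q, φ, hφ, fun x hx => hall x (h hx)⟩

theorem isTD_conj (F : FusionSystem S) {D : Subgroup (↥S × ↥S)} (h : ↥S × ↥S) (hD : IsTD F D) :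
    IsTD F (D.map (MulAut.conj h).toMonoidHom) := by
  obtain ⟨Q, φ, hφ, hall⟩ := hD
  obtain ⟨a, b⟩ := h
  have hQS : Q ≤ S := (F.le_of_mem hφ).1
  set Q' : Subgroup Ω := Q.map (MulAut.conj (a : Ω)).toMonoidHom with hQ'
  have hQ'S : Q' ≤ S := by
    rintro _ ⟨q, hq, rfl⟩
    exact S.mul_mem (S.mul_mem a.2 (hQS hq)) (S.inv_mem a.2)
  have hc₁ : conjHom Q' ((a : Ω)⁻¹) ∈ F.Hom Q' := F.conj_mem hQ'S (S.inv_mem a.2)
  have hv₁ : ∀ y : Q', conjHom Q' ((a : Ω)⁻¹) y ∈ Q := by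
    rintro ⟨_, q, hq, rfl⟩
    have : conjHom Q' ((a : Ω)⁻¹) ⟨(MulAut.conj (a : Ω)).toMonoidHom q, ⟨q, hq, rfl⟩⟩ = q := by
      simp [conjHom, mul_assoc]
    rw [this]
    exact hq
  have h₁ := F.comp_mem hc₁ hφ hv₁
  have hv₂ : ∀ y : Q', (φ.comp ((conjHom Q' ((a : Ω)⁻¹)).codRestrict Q hv₁)) y ∈ S :=
    fun y => (F.le_of_mem h₁).2 y
  have hc₂ : conjHom S (b : Ω) ∈ F.Hom S := F.conj_mem le_rfl b.2
  have h₂ := F.comp_mem h₁ hc₂ hv₂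
  refine ⟨Q', _, h₂, ?_⟩
  rintro _ ⟨x, hx, rfl⟩
  obtain ⟨hq, hφx⟩ := hall x hx
  have hmem : (((MulAut.conj ((a, b) : ↥S × ↥S)).toMonoidHom x).1 : Ω) ∈ Q' :=
    ⟨(x.1 : Ω), hq, by simp⟩
  refine ⟨hmem, ?_⟩
  have e2 : (MonoidHom.codRestrict (φ.comp ((conjHom Q' ((a : Ω)⁻¹)).codRestrict Q hv₁)) S hv₂)
      ⟨(((MulAut.conj ((a, b) : ↥S × ↥S)).toMonoidHom x).1 : Ω), hmem⟩ =
      ⟨(x.2 : Ω), x.2.2⟩ := by
    apply Subtype.ext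
    simp only [MonoidHom.codRestrict_apply, MonoidHom.comp_apply]
    refine Eq.trans (congrArg φ ?_) hφx
    apply Subtype.ext
    simp [conjHom, mul_assoc]
  simp only [MonoidHom.comp_apply]
  rw [e2]
  simp [conjHom]

/-- The diagonal subgroup of `S × S`. -/
def diagS (S : Subgroup Ω) : Subgroup (↥S × ↥S) where
  carrier := {x | x.1 = x.2}
  mul_mem' := by
    intro x y hx hy
    simp only [Set.mem_ofPred_eq, Prod.fst_mul, Prod.snd_mul] at *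
    rw [hx, hy]
  one_mem' := rfl
  inv_mem' := by
    intro x hx
    simp only [Set.mem_ofPred_eq, Prod.fst_inv, Prod.snd_inv] at *
    rw [hx]

theorem mem_diagS {x : ↥S × ↥S} : x ∈ diagS S ↔ x.1 = x.2 := Iff.rfl

theorem isTD_diag (F : FusionSystem S) : IsTD F (diagS S) := by
  refine ⟨S, S.subtype, subtype_mem F le_rfl, ?_⟩
  intro x hx
  refine ⟨x.1.2, ?_⟩
  rw [mem_diagS] at hx
  simp [hx]

theorem fst_eq_snd_of_isTD (F : FusionSystem S) {D : Subgroup (↥S × ↥S)} (hD : IsTD F D)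
    (hdiag : diagS S ≤ D) : ∀ k ∈ D, k.1 = k.2 := by
  obtain ⟨Q, φ, hφ, hall⟩ := hD
  intro k hk
  obtain ⟨hq, h1⟩ := hall k hk
  obtain ⟨hq', h2⟩ := hall (k.1, k.1) (hdiag (by rw [mem_diagS]))
  apply Subtype.ext
  rw [← h1]
  exact h2.symm

/-- Stability of the family under the maps of the system on the left. -/
theorem isTD_map_iff (F : FusionSystem S) {P : Subgroup Ω} (hP : P ≤ S) {ψ : P →* Ω}
    (hψ : ψ ∈ F.Hom P) (hψS : ∀ x : P, ψ x ∈ S) (K : Subgroup (↥P × ↥S)) :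
    IsTD F (K.map ((Subgroup.inclusion hP).prodMap (MonoidHom.id ↥S))) ↔
      IsTD F (K.map ((ψ.codRestrict S hψS).prodMap (MonoidHom.id ↥S))) := by
  constructor
  · rintro ⟨Q, φ, hφ, hall⟩
    have hall' : ∀ k ∈ K, ∃ hq : ((k.1 : ↥P) : Ω) ∈ Q, φ ⟨((k.1 : ↥P) : Ω), hq⟩ = ((k.2 : ↥S) : Ω) := by
      intro k hk
      exact hall _ ⟨k, hk, rfl⟩
    have hψ₀ : ψ.comp (Subgroup.inclusion (inf_le_left : P ⊓ Q ≤ P)) ∈ F.Hom (P ⊓ Q) :=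
      restrict_mem F inf_le_left hψ
    obtain ⟨θ, hθ, hθinv, hθrange⟩ := exists_inv_mem F hψ₀ rfl
    have hθv : ∀ y, θ y ∈ Q := by
      intro y
      have : θ y ∈ θ.range := ⟨y, rfl⟩
      rw [hθrange] at this
      exact this.2
    have h₁ := F.comp_mem hθ hφ hθv
    refine ⟨_, _, h₁, ?_⟩
    rintro _ ⟨k, hk, rfl⟩
    obtain ⟨hq, hφk⟩ := hall' k hk
    have hmem : ψ k.1 ∈ (ψ.comp (Subgroup.inclusion (inf_le_left : P ⊓ Q ≤ P))).range :=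
      ⟨⟨(k.1 : Ω), ⟨k.1.2, hq⟩⟩, rfl⟩
    refine ⟨hmem, ?_⟩
    simp only [MonoidHom.comp_apply]
    refine Eq.trans (congrArg φ ?_) hφk
    apply Subtype.ext
    exact hθinv ⟨(k.1 : Ω), ⟨k.1.2, hq⟩⟩ hmem
  · rintro ⟨Q', φ', hφ', hall⟩
    have hall' : ∀ k ∈ K, ∃ hq : ψ k.1 ∈ Q', φ' ⟨ψ k.1, hq⟩ = ((k.2 : ↥S) : Ω) := by
      intro k hk
      exact hall _ ⟨k, hk, rfl⟩
    set R : Subgroup Ω := (Q'.comap ψ).map P.subtype with hR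
    have hRP : R ≤ P := by
      rintro _ ⟨y, _, rfl⟩
      exact y.2
    have hψ₀ : ψ.comp (Subgroup.inclusion hRP) ∈ F.Hom R := restrict_mem F hRP hψ
    have hv : ∀ y : R, (ψ.comp (Subgroup.inclusion hRP)) y ∈ Q' := by
      rintro ⟨_, y, hy, rfl⟩
      exact hy
    have h₁ := F.comp_mem hψ₀ hφ' hv
    refine ⟨R, _, h₁, ?_⟩
    rintro _ ⟨k, hk, rfl⟩
    obtain ⟨hq, hφk⟩ := hall' k hk
    have hmem : ((k.1 : ↥P) : Ω) ∈ R := ⟨k.1, hq, rfl⟩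
    refine ⟨hmem, ?_⟩
    simp only [MonoidHom.comp_apply]
    refine Eq.trans (congrArg φ' ?_) hφk
    apply Subtype.ext
    rfl

/-- A homomorphism whose reversed graph lies in a twisted diagonal subgroup of the system is a
map of the system. -/
theorem hom_of_isTD (F : FusionSystem S) {D : Subgroup (↥S × ↥S)} (hD : IsTD F D)
    {P : Subgroup Ω} (hP : P ≤ S) (ψ : P →* Ω) (hψS : ∀ x : P, ψ x ∈ S)
    (hgraph : ∀ u : P, ((⟨ψ u, hψS u⟩, ⟨(u : Ω), hP u.2⟩) : ↥S × ↥S) ∈ D) : ψ ∈ F.Hom P := by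
  obtain ⟨Q, φ, hφ, hall⟩ := hD
  have hall' : ∀ u : P, ∃ hq : ψ u ∈ Q, φ ⟨ψ u, hq⟩ = (u : Ω) := fun u => hall _ (hgraph u)
  have hRQ : ψ.range ≤ Q := by
    rintro _ ⟨u, rfl⟩
    exact (hall' u).1
  have hφ₀ : φ.comp (Subgroup.inclusion hRQ) ∈ F.Hom ψ.range := restrict_mem F hRQ hφ
  have hval : ∀ u : P, (φ.comp (Subgroup.inclusion hRQ)) ⟨ψ u, ⟨u, rfl⟩⟩ = (u : Ω) := by
    intro u
    obtain ⟨hq, h⟩ := hall' u
    exact h
  have hrange : (φ.comp (Subgroup.inclusion hRQ)).range = P := by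
    ext y
    constructor
    · rintro ⟨⟨_, u, rfl⟩, rfl⟩
      rw [hval u]
      exact u.2
    · intro hy
      exact ⟨⟨ψ ⟨y, hy⟩, ⟨⟨y, hy⟩, rfl⟩⟩, hval ⟨y, hy⟩⟩
  obtain ⟨θ, hθ, hθinv, _⟩ := exists_inv_mem F hφ₀ hrange
  have : θ = ψ := by
    ext u
    have h1 : θ ⟨(φ.comp (Subgroup.inclusion hRQ)) ⟨ψ u, ⟨u, rfl⟩⟩, _⟩ = ψ u :=
      hθinv ⟨ψ u, ⟨u, rfl⟩⟩ (by rw [hval u]; exact u.2)
    refine Eq.trans (congrArg θ ?_) h1
    apply Subtype.ext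
    exact (hval u).symm
  rw [← this]
  exact hθ

end Cfsg.Agent.Helper25.Park
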