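import Mathlib
import Cfsg.Prelude.Def_FusionSystem
import Cfsg.Agent.Helper25.ParkMarks
import Cfsg.Agent.Helper25.ParkSet
import Cfsg.Agent.Helper25.ParkTD

set_option autoImplicit false

/-!
Park's theorem: every fusion system over a finite `p`-group is realized inside a finite group.
-/

namespace Cfsg.Agent.Helper25.Park

open Cfsg Cfsg.FusionSystem

universe u

theorem card_fixed_comp {H H' : Type*} [Group H] [Group H'] {X : Type*}
    (a : H →* Equiv.Perm X) (f : H' →* H) (K : Subgroup H') :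
    Nat.card {x : X // ∀ k ∈ K, (a.comp f) k x = x} =
      Nat.card {x : X // ∀ k ∈ K.map f, a k x = x} := by
  apply Nat.card_congr
  apply Equiv.subtypeEquivRight
  intro x
  constructor
  · rintro h _ ⟨k, hk, rfl⟩
    exact h k hk
  · intro h k hk
    exact h (f k) ⟨k, hk, rfl⟩

theorem park_realization {Ω : Type u} [Group Ω] {S : Subgroup Ω} [Finite S]
    (F : FusionSystem S) :
    ∃ (G : Type u) (_ : Group G) (_ : Finite G) (ι : ↥S →* G), F.IsRealizedBy ι := by
  obtain ⟨X, hXfin, a, c, hc, hmarks⟩ := exists_parkSet (H := ↥S × ↥S) (IsTD F)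
    (fun K D h hD => isTD_mono F h hD) (fun D h hD => isTD_conj F h hD)
  have := hXfin
  -- stabilizers are twisted diagonal
  have hstabTD : ∀ x : X, IsTD F (stab a x) := by
    intro x
    by_contra hcon
    have h0 := (hmarks (stab a x)).2 hcon
    have : Nonempty {x' : X // ∀ k ∈ stab a x, a k x' = x'} := ⟨⟨x, fun k hk => hk⟩⟩
    have := Nat.card_pos (α := {x' : X // ∀ k ∈ stab a x, a k x' = x'})
    omega
  -- base point
  obtain ⟨x₀, hx₀⟩ : ∃ x₀ : X, ∀ k ∈ diagS S, a k x₀ = x₀ := by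
    have h1 := (hmarks (diagS S)).1 (isTD_diag F)
    have h2 := hc (Nat.card (diagS S))
    rw [← h1] at h2
    obtain ⟨⟨x₀, hx₀⟩⟩ := (Nat.card_pos_iff.1 h2).1
    exact ⟨x₀, hx₀⟩
  have hx₀stab : ∀ k ∈ stab a x₀, k.1 = k.2 :=
    fst_eq_snd_of_isTD F (hstabTD x₀) (fun k hk => hx₀ k hk)
  -- the group
  let C : Subgroup (Equiv.Perm X) :=
    Subgroup.centralizer (Set.range fun s : ↥S => a ((1 : ↥S), s))
  have hιmem : ∀ u : ↥S, (a.comp (MonoidHom.inl ↥S ↥S)) u ∈ C := by
    intro u
    rw [Subgroup.mem_centralizer_iff]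
    rintro _ ⟨s, rfl⟩
    rw [MonoidHom.comp_apply, ← map_mul, ← map_mul]
    congr 1
    ext <;> simp
  let ι : ↥S →* ↥C := (a.comp (MonoidHom.inl ↥S ↥S)).codRestrict C hιmem
  have hιval : ∀ u : ↥S, ((ι u : ↥C) : Equiv.Perm X) = a (u, 1) := fun u => rfl
  have hCcomm : ∀ (g : ↥C) (s : ↥S) (x : X), a ((1 : ↥S), s) ((g : Equiv.Perm X) x) =
      (g : Equiv.Perm X) (a ((1 : ↥S), s) x) := by
    intro g s x
    have := Subgroup.mem_centralizer_iff.1 g.2 (a ((1 : ↥S), s)) ⟨s, rfl⟩
    exact congrArg (fun e : Equiv.Perm X => e x) this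
  refine ⟨↥C, inferInstance, inferInstance, ι, ?_, ?_⟩
  · -- injectivity
    intro u u' huu'
    have h1 : a (u, 1) = a (u', 1) := congrArg Subtype.val huu'
    have h2 : ((u'⁻¹ * u, (1 : ↥S)) : ↥S × ↥S) ∈ stab a x₀ := by
      rw [mem_stab]
      have e : ((u'⁻¹ * u, (1 : ↥S)) : ↥S × ↥S) = (u', 1)⁻¹ * (u, 1) := by
        ext <;> simp
      rw [e, map_mul, map_inv, h1, inv_mul_cancel]
      rfl
    have h3 := hx₀stab _ h2
    simp only at h3
    exact (inv_mul_eq_one.1 h3).symm
  · intro P hP φ hφ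
    constructor
    · intro hφF
      set f₁ : ↥P × ↥S →* ↥S × ↥S := (Subgroup.inclusion hP).prodMap (MonoidHom.id ↥S) with hf₁
      set f₂ : ↥P × ↥S →* ↥S × ↥S := (φ.codRestrict S hφ).prodMap (MonoidHom.id ↥S) with hf₂
      have hf₁inj : Function.Injective f₁ := by
        rw [hf₁, MonoidHom.coe_prodMap]
        exact Function.Injective.prodMap (Subgroup.inclusion_injective hP) Function.injective_id
      have hf₂inj : Function.Injective f₂ := by
        rw [hf₂, MonoidHom.coe_prodMap]
        refine Function.Injective.prodMap ?_ Function.injective_id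
        intro x y hxy
        apply F.injective_of_mem hφF
        exact congrArg Subtype.val hxy
      have hm : ∀ K : Subgroup (↥P × ↥S),
          Nat.card {x : X // ∀ k ∈ K, (a.comp f₁) k x = x} =
            Nat.card {x : X // ∀ k ∈ K, (a.comp f₂) k x = x} := by
        intro K
        rw [card_fixed_comp, card_fixed_comp]
        have hiff := isTD_map_iff F hP hφF hφ K
        by_cases hK : IsTD F (K.map f₁)
        · rw [(hmarks _).1 hK, (hmarks _).1 (hiff.1 hK), Subgroup.card_map_of_injective hf₁inj,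
            Subgroup.card_map_of_injective hf₂inj]
        · rw [(hmarks _).2 hK, (hmarks _).2 (fun h => hK (hiff.2 h))]
      obtain ⟨e, he⟩ := marks_perm (a.comp f₁) (a.comp f₂) hm
      have heC : e ∈ C := by
        rw [Subgroup.mem_centralizer_iff]
        rintro _ ⟨s, rfl⟩
        ext x
        have := he ((1 : ↥P), s) x
        simp only [Equiv.Perm.mul_apply]
        have e1 : f₁ ((1 : ↥P), s) = ((1 : ↥S), s) := by
          ext <;> simp [hf₁]
        have e2 : f₂ ((1 : ↥P), s) = ((1 : ↥S), s) := by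
          ext <;> simp [hf₂]
        rw [MonoidHom.comp_apply, MonoidHom.comp_apply, e1, e2] at this
        exact this.symm
      refine ⟨⟨e, heC⟩, fun x => ?_⟩
      rw [eq_mul_inv_iff_mul_eq]
      apply Subtype.ext
      ext y
      have := he (x, (1 : ↥S)) y
      exact this.symm
    · rintro ⟨g, hg⟩
      apply hom_of_isTD F (hstabTD ((g : Equiv.Perm X) x₀)) hP φ hφ
      intro u
      rw [mem_stab]
      have e : ((⟨φ u, hφ u⟩, ⟨(u : Ω), hP u.2⟩) : ↥S × ↥S) =
          (⟨φ u, hφ u⟩, 1) * (1, ⟨(u : Ω), hP u.2⟩) := by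
        ext <;> simp
      rw [e, map_mul, Equiv.Perm.mul_apply, hCcomm]
      have h1 : a ((⟨φ u, hφ u⟩ : ↥S), (1 : ↥S)) * (g : Equiv.Perm X) =
          (g : Equiv.Perm X) * a ((⟨(u : Ω), hP u.2⟩ : ↥S), (1 : ↥S)) := by
        have := hg u
        rw [eq_mul_inv_iff_mul_eq] at this
        exact congrArg Subtype.val this
      have h2 := congrArg (fun e : Equiv.Perm X => e (a ((1 : ↥S), ⟨(u : Ω), hP u.2⟩) x₀)) h1
      simp only [Equiv.Perm.mul_apply] at h2
      rw [h2, ← Equiv.Perm.mul_apply (a _), ← map_mul]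
      congr 1
      apply hx₀
      rw [mem_diagS]
      simp

end Cfsg.Agent.Helper25.Park
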