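import Mathlib
import Cfsg.Prelude.Def_FusionSystem
import Cfsg.Agent.Helper25.SylowIn

set_option autoImplicit false

namespace Cfsg.Agent.Helper25

open Cfsg Cfsg.FusionSystem

variable {G : Type*} [Group G]

/-- `gPg⁻¹` -/
abbrev cj (P : Subgroup G) (g : G) : Subgroup G := P.map (MulAut.conj g).toMonoidHom

theorem mem_cj {P : Subgroup G} {g y : G} : y ∈ cj P g ↔ g⁻¹ * y * g ∈ P := by
  constructor
  · rintro ⟨x, hx, rfl⟩
    have : g⁻¹ * ((MulAut.conj g).toMonoidHom x) * g = x := by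
      simp [MulAut.conj_apply]
      group
    rw [this]
    exact hx
  · intro h
    refine ⟨g⁻¹ * y * g, h, ?_⟩
    simp [MulAut.conj_apply]
    group

theorem conj_mem_cj {P : Subgroup G} {g x : G} (hx : x ∈ P) : g * x * g⁻¹ ∈ cj P g :=
  ⟨x, hx, rfl⟩

theorem normalizer_cj (P : Subgroup G) (g : G) :
    Subgroup.normalizer ((cj P g : Subgroup G) : Set G) = cj (Subgroup.normalizer (P : Set G)) g := by
  ext y
  rw [mem_cj, Subgroup.mem_normalizer_iff, Subgroup.mem_normalizer_iff]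
  constructor
  · intro h x
    have := h (g * x * g⁻¹)
    rw [mem_cj, mem_cj] at this
    have e1 : g⁻¹ * (g * x * g⁻¹) * g = x := by group
    have e2 : g⁻¹ * (y * (g * x * g⁻¹) * y⁻¹) * g = g⁻¹ * y * g * x * (g⁻¹ * y * g)⁻¹ := by group
    rw [e1, e2] at this
    exact this
  · intro h x
    rw [mem_cj, mem_cj]
    have := h (g⁻¹ * x * g)
    have e2 : g⁻¹ * y * g * (g⁻¹ * x * g) * (g⁻¹ * y * g)⁻¹ = g⁻¹ * (y * x * y⁻¹) * g := by group
    rw [e2] at this
    exact this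

theorem centralizer_cj (P : Subgroup G) (g : G) :
    Subgroup.centralizer ((cj P g : Subgroup G) : Set G) = cj (Subgroup.centralizer (P : Set G)) g := by
  ext y
  rw [mem_cj, Subgroup.mem_centralizer_iff, Subgroup.mem_centralizer_iff]
  constructor
  · intro h x hx
    have := h (g * x * g⁻¹) (conj_mem_cj hx)
    calc x * (g⁻¹ * y * g) = g⁻¹ * ((g * x * g⁻¹) * y) * g := by group
      _ = g⁻¹ * (y * (g * x * g⁻¹)) * g := by rw [this]
      _ = g⁻¹ * y * g * x := by group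
  · intro h x hx
    have hx' : g⁻¹ * x * g ∈ P := mem_cj.mp hx
    have := h _ hx'
    calc x * y = g * ((g⁻¹ * x * g) * (g⁻¹ * y * g)) * g⁻¹ := by group
      _ = g * ((g⁻¹ * y * g) * (g⁻¹ * x * g)) * g⁻¹ := by rw [this]
      _ = y * x := by group

theorem cj_mono {P Q : Subgroup G} (h : P ≤ Q) (g : G) : cj P g ≤ cj Q g := Subgroup.map_mono h

theorem card_cj [Finite G] (U : Subgroup G) (g : G) : Nat.card (cj U g) = Nat.card U :=
  card_map_conj U g

/-- In `F_S(G)`, `P` is conjugate to `gPg⁻¹` whenever both lie in `S`. -/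
theorem groupFusion_isConj_cj {S : Subgroup G} {P : Subgroup G} (g : G) (hP : P ≤ S)
    (hQ : cj P g ≤ S) : (groupFusionSystem S).IsConj P (cj P g) := by
  refine ⟨conjHom P g, ⟨hP, fun x => hQ ⟨x, x.2, rfl⟩, g, fun x => rfl⟩, ?_⟩
  ext y
  constructor
  · rintro ⟨x, rfl⟩
    exact ⟨x, x.2, rfl⟩
  · rintro ⟨x, hx, rfl⟩
    exact ⟨⟨x, hx⟩, rfl⟩

theorem groupFusion_isConj_iff {S : Subgroup G} {P Q : Subgroup G} :
    (groupFusionSystem S).IsConj P Q ↔ P ≤ S ∧ Q ≤ S ∧ ∃ g : G, Q = cj P g := by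
  constructor
  · rintro ⟨φ, ⟨hP, hφS, g, hg⟩, rfl⟩
    refine ⟨hP, ?_, g, ?_⟩
    · rintro _ ⟨x, rfl⟩
      exact hφS x
    · ext y
      constructor
      · rintro ⟨x, rfl⟩
        exact ⟨x, x.2, (hg x).symm⟩
      · rintro ⟨x, hx, rfl⟩
        exact ⟨⟨x, hx⟩, hg ⟨x, hx⟩⟩
  · rintro ⟨hP, hQ, g, rfl⟩
    exact groupFusion_isConj_cj g hP hQ

/-- Generic "fully X-ized iff Sylow" criterion for an equivariant subgroup functor `X`
with `X P ≤ N_G(P)`. -/
theorem fully_iff_sylow [Finite G] (p : ℕ) [Fact p.Prime] (S : Sylow p G)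
    (X : Subgroup G → Subgroup G) (hX : ∀ P g, X (cj P g) = cj (X P) g)
    (hXN : ∀ P, X P ≤ Subgroup.normalizer (P : Set G)) (P : Subgroup G) (hP : P ≤ S) :
    (∀ Q : Subgroup G, (groupFusionSystem (S : Subgroup G)).IsConj P Q →
        Nat.card ↥((S : Subgroup G) ⊓ X Q) ≤ Nat.card ↥((S : Subgroup G) ⊓ X P)) ↔
      Nat.card ↥((S : Subgroup G) ⊓ X P) = pPart p (Nat.card (X P)) := by
  have hSp : ∀ Q : Subgroup G, IsPGroup p ↥((S : Subgroup G) ⊓ X Q) := fun Q =>
    isPGroup_of_le S.2 inf_le_left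
  have hle : ∀ Q : Subgroup G, Nat.card ↥((S : Subgroup G) ⊓ X Q) ≤ pPart p (Nat.card (X Q)) :=
    fun Q => card_le_pPart_of_isPGroup p (hSp Q) inf_le_right
  constructor
  · intro hfull
    obtain ⟨T, hT1, hT2, hT3, hT4⟩ :=
      exists_pSubgroup_card_eq_pPart p (hSp P) (inf_le_right : (S : Subgroup G) ⊓ X P ≤ X P)
    have hPp : IsPGroup p P := isPGroup_of_le S.2 hP
    have hU : IsPGroup p ↥(P ⊔ T) :=
      IsPGroup.to_sup_of_normal_left' hPp hT3 (hT2.trans (hXN P))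
    obtain ⟨g, hg⟩ := exists_conj_le_sylow p S hU
    have hQS : cj P g ≤ (S : Subgroup G) := (cj_mono le_sup_left g).trans hg
    have hconj := groupFusion_isConj_cj g hP hQS
    have h1 := hfull _ hconj
    have h2 : cj T g ≤ (S : Subgroup G) ⊓ X (cj P g) := by
      refine le_inf ((cj_mono le_sup_right g).trans hg) ?_
      rw [hX]
      exact cj_mono hT2 g
    have h3 : Nat.card (cj T g) ≤ Nat.card ↥((S : Subgroup G) ⊓ X (cj P g)) :=
      Nat.card_le_card_of_injective (Subgroup.inclusion h2) (Subgroup.inclusion_injective h2)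
    rw [card_cj, hT4] at h3
    exact le_antisymm (hle P) (h3.trans h1)
  · intro hcard Q hQ
    obtain ⟨-, -, g, rfl⟩ := groupFusion_isConj_iff.mp hQ
    rw [hcard]
    have := hle (cj P g)
    have e : Nat.card ↥(X (cj P g)) = Nat.card ↥(X P) := by rw [hX, card_cj]
    rw [e] at this
    exact this

end Cfsg.Agent.Helper25
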