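import Mathlib
import Cfsg.Prelude.Def_FusionSystem
import Cfsg.Agent.Helper25.FusionGroup

set_option autoImplicit false

namespace Cfsg.Agent.Helper25

open Cfsg Cfsg.FusionSystem

variable {G : Type*} [Group G]

theorem cj_eq_of_mem_normalizer {P : Subgroup G} {n : G} (hn : n ∈ Subgroup.normalizer (P : Set G)) :
    cj P n = P := by
  ext y
  rw [mem_cj]
  have h := Subgroup.mem_normalizer_iff.mp (Subgroup.inv_mem _ hn) y
  rw [inv_inv] at h
  exact h.symm

/-- Every `P ≤ S` has a conjugate `Q ≤ S` with `N_S(Q)` Sylow in `N_G(Q)`. -/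
theorem exists_cj_sylow_normalizer [Finite G] (p : ℕ) [Fact p.Prime] (S : Sylow p G)
    (P : Subgroup G) (hP : P ≤ S) :
    ∃ g : G, cj P g ≤ (S : Subgroup G) ∧
      Nat.card ↥((S : Subgroup G) ⊓ Subgroup.normalizer ((cj P g : Subgroup G) : Set G)) =
        pPart p (Nat.card (Subgroup.normalizer ((cj P g : Subgroup G) : Set G))) := by
  have hSp : IsPGroup p ↥((S : Subgroup G) ⊓ Subgroup.normalizer (P : Set G)) :=
    isPGroup_of_le S.2 inf_le_left
  obtain ⟨T, hT1, hT2, hT3, hT4⟩ := exists_pSubgroup_card_eq_pPart p hSp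
    (inf_le_right : (S : Subgroup G) ⊓ Subgroup.normalizer (P : Set G) ≤ _)
  obtain ⟨g, hg⟩ := exists_conj_le_sylow p S hT3
  have hPT : P ≤ T := (le_inf hP Subgroup.le_normalizer).trans hT1
  refine ⟨g, (cj_mono hPT g).trans hg, ?_⟩
  have h2 : cj T g ≤ (S : Subgroup G) ⊓ Subgroup.normalizer ((cj P g : Subgroup G) : Set G) := by
    refine le_inf hg ?_
    rw [normalizer_cj]
    exact cj_mono hT2 g
  have h3 : Nat.card (cj T g) ≤
      Nat.card ↥((S : Subgroup G) ⊓ Subgroup.normalizer ((cj P g : Subgroup G) : Set G)) :=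
    Nat.card_le_card_of_injective (Subgroup.inclusion h2) (Subgroup.inclusion_injective h2)
  have h4 : Nat.card ↥((S : Subgroup G) ⊓ Subgroup.normalizer ((cj P g : Subgroup G) : Set G)) ≤
      pPart p (Nat.card (Subgroup.normalizer ((cj P g : Subgroup G) : Set G))) :=
    card_le_pPart_of_isPGroup p (isPGroup_of_le S.2 inf_le_left) inf_le_right
  have e : Nat.card (Subgroup.normalizer ((cj P g : Subgroup G) : Set G)) =
      Nat.card (Subgroup.normalizer (P : Set G)) := by rw [normalizer_cj, card_cj]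
  rw [card_cj, hT4] at h3
  rw [e] at h4 ⊢
  exact le_antisymm h4 h3

/-- If `N_S(Q)` is Sylow in `N_G(Q)` then `C_S(Q)` is Sylow in `C_G(Q)`. -/
theorem card_centralizer_of_card_normalizer [Finite G] (p : ℕ) [Fact p.Prime] (S : Sylow p G)
    (Q : Subgroup G)
    (hN : Nat.card ↥((S : Subgroup G) ⊓ Subgroup.normalizer (Q : Set G)) =
      pPart p (Nat.card (Subgroup.normalizer (Q : Set G)))) :
    Nat.card ↥((S : Subgroup G) ⊓ Subgroup.centralizer (Q : Set G)) =
      pPart p (Nat.card (Subgroup.centralizer (Q : Set G))) := by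
  set N := Subgroup.normalizer (Q : Set G) with hNdef
  set C := Subgroup.centralizer (Q : Set G) with hCdef
  have hCN : C ≤ N := Subgroup.centralizer_le_normalizer _
  have hSp : IsPGroup p ↥((S : Subgroup G) ⊓ C) := isPGroup_of_le S.2 inf_le_left
  have hle : Nat.card ↥((S : Subgroup G) ⊓ C) ≤ pPart p (Nat.card C) :=
    card_le_pPart_of_isPGroup p hSp inf_le_right
  obtain ⟨T, hT1, hT2, hT3, hT4⟩ := exists_pSubgroup_card_eq_pPart p hSp
    (inf_le_right : (S : Subgroup G) ⊓ C ≤ C)
  -- the Sylow subgroup `S ∩ N` of `N`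
  obtain ⟨R, hR⟩ := (isSylowIn_iff_card p (S : Subgroup G) N).mpr hN
  have hTN : IsPGroup p (T.subgroupOf N) :=
    hT3.of_equiv (Subgroup.subgroupOfEquivOfLe (hT2.trans hCN)).symm
  obtain ⟨n, hn⟩ := exists_conj_le_sylow p R hTN
  have h2 : cj T (n : G) ≤ (S : Subgroup G) ⊓ C := by
    rintro _ ⟨t, ht, rfl⟩
    have htN : t ∈ N := hCN (hT2 ht)
    have h3 : (MulAut.conj n).toMonoidHom (⟨t, htN⟩ : N) ∈ (R : Subgroup N) :=
      hn ⟨⟨t, htN⟩, ht, rfl⟩
    rw [hR] at h3
    refine ⟨h3, ?_⟩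
    have h4 : (MulAut.conj (n : G)).toMonoidHom t ∈ cj C (n : G) := ⟨t, hT2 ht, rfl⟩
    rw [hCdef, ← centralizer_cj, cj_eq_of_mem_normalizer n.2] at h4
    exact h4
  have h3 : Nat.card (cj T (n : G)) ≤ Nat.card ↥((S : Subgroup G) ⊓ C) :=
    Nat.card_le_card_of_injective (Subgroup.inclusion h2) (Subgroup.inclusion_injective h2)
  rw [card_cj, hT4] at h3
  exact le_antisymm hle h3

end Cfsg.Agent.Helper25

namespace Cfsg.Agent.Helper25

open Cfsg Cfsg.FusionSystem

variable {G : Type*} [Group G]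

theorem normalizerMonoidHom_coe (P : Subgroup G) (n : Subgroup.normalizer (P : Set G)) (x : P) :
    ((P.normalizerMonoidHom n x : P) : G) = (n : G) * x * (n : G)⁻¹ := rfl

/-- `Aut_K(P)` is the image of `N_K(P)` in `Aut(P)`. -/
theorem autInducedBy_eq_map (K P : Subgroup G) :
    autInducedBy K P = (K.subgroupOf (Subgroup.normalizer (P : Set G))).map P.normalizerMonoidHom := by
  unfold autInducedBy
  have hset : {α : MulAut P | ∃ g ∈ K, ∀ x : P, ((α x : P) : G) = g * (x : G) * g⁻¹} =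
      ((K.subgroupOf (Subgroup.normalizer (P : Set G))).map P.normalizerMonoidHom : Set (MulAut P)) := by
    ext α
    constructor
    · rintro ⟨g, hgK, hg⟩
      have hgN : g ∈ Subgroup.normalizer (P : Set G) := by
        rw [Subgroup.mem_normalizer_iff]
        intro y
        constructor
        · intro hy
          have := hg ⟨y, hy⟩
          rw [← this]
          exact (α ⟨y, hy⟩).2
        · intro hy
          have h1 := hg (α.symm ⟨g * y * g⁻¹, hy⟩)
          rw [MulEquiv.apply_symm_apply] at h1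
          have h2 : y = ((α.symm ⟨g * y * g⁻¹, hy⟩ : P) : G) := by
            have h3 : g * y * g⁻¹ = g * ((α.symm ⟨g * y * g⁻¹, hy⟩ : P) : G) * g⁻¹ := h1
            exact mul_left_cancel (mul_right_cancel h3)
          rw [h2]
          exact (α.symm ⟨g * y * g⁻¹, hy⟩).2
      refine ⟨⟨g, hgN⟩, hgK, ?_⟩
      ext x
      rw [normalizerMonoidHom_coe]
      exact (hg x).symm
    · rintro ⟨n, hn, rfl⟩
      exact ⟨(n : G), hn, fun x => rfl⟩
  rw [hset, Subgroup.closure_eq]

/-- If `N_S(Q)` is Sylow in `N_G(Q)` then `Aut_S(Q)` is Sylow in `Aut_G(Q)`. -/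
theorem autInducedBy_sylow [Finite G] (p : ℕ) [Fact p.Prime] (S : Subgroup G) (Q : Subgroup G)
    (R : Sylow p ↥(Subgroup.normalizer (Q : Set G)))
    (hR : (R : Subgroup ↥(Subgroup.normalizer (Q : Set G))) =
      S.subgroupOf (Subgroup.normalizer (Q : Set G))) :
    ∃ R' : Sylow p ↥(autInducedBy ⊤ Q), (R' : Subgroup ↥(autInducedBy ⊤ Q)) =
      (autInducedBy S Q).subgroupOf (autInducedBy ⊤ Q) := by
  have hval : ∀ n : Subgroup.normalizer (Q : Set G), Q.normalizerMonoidHom n ∈ autInducedBy ⊤ Q := by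
    intro n
    rw [autInducedBy_eq_map]
    exact ⟨n, Subgroup.mem_top _, rfl⟩
  let f : Subgroup.normalizer (Q : Set G) →* autInducedBy ⊤ Q :=
    Q.normalizerMonoidHom.codRestrict (autInducedBy ⊤ Q) hval
  have hf : Function.Surjective f := by
    rintro ⟨β, hβ⟩
    rw [autInducedBy_eq_map] at hβ
    obtain ⟨n, -, rfl⟩ := hβ
    exact ⟨n, rfl⟩
  refine ⟨R.mapSurjective hf, ?_⟩
  rw [Sylow.coe_mapSurjective, hR]
  ext β
  constructor
  · rintro ⟨n, hn, rfl⟩
    show Q.normalizerMonoidHom n ∈ autInducedBy S Q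
    rw [autInducedBy_eq_map]
    exact ⟨n, hn, rfl⟩
  · intro hβ
    have hβ' : (β : MulAut Q) ∈ autInducedBy S Q := hβ
    rw [autInducedBy_eq_map] at hβ'
    obtain ⟨n, hn, hnβ⟩ := hβ'
    exact ⟨n, hn, Subtype.ext hnβ⟩

end Cfsg.Agent.Helper25

namespace Cfsg.Agent.Helper25

open Cfsg Cfsg.FusionSystem

variable {G : Type*} [Group G]

theorem isSylowIn_normalizerIn_iff [Finite G] (p : ℕ) [Fact p.Prime] (S Q : Subgroup G) :
    (∃ R : Sylow p ↥(Subgroup.normalizer (Q : Set G)),
        (R : Subgroup ↥(Subgroup.normalizer (Q : Set G))) =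
          (normalizerIn S Q).subgroupOf (Subgroup.normalizer (Q : Set G))) ↔
      Nat.card ↥(S ⊓ Subgroup.normalizer (Q : Set G)) =
        pPart p (Nat.card (Subgroup.normalizer (Q : Set G))) := by
  have h2 := isSylowIn_iff_card p (normalizerIn S Q) (Subgroup.normalizer (Q : Set G))
  have e : normalizerIn S Q ⊓ Subgroup.normalizer (Q : Set G) =
      S ⊓ Subgroup.normalizer (Q : Set G) := by
    unfold normalizerIn
    rw [inf_assoc, inf_idem]
  rw [e] at h2
  exact h2

theorem isSylowIn_centralizerIn_iff [Finite G] (p : ℕ) [Fact p.Prime] (S Q : Subgroup G) :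
    (∃ R : Sylow p ↥(Subgroup.centralizer (Q : Set G)),
        (R : Subgroup ↥(Subgroup.centralizer (Q : Set G))) =
          (centralizerIn S Q).subgroupOf (Subgroup.centralizer (Q : Set G))) ↔
      Nat.card ↥(S ⊓ Subgroup.centralizer (Q : Set G)) =
        pPart p (Nat.card (Subgroup.centralizer (Q : Set G))) := by
  have h2 := isSylowIn_iff_card p (centralizerIn S Q) (Subgroup.centralizer (Q : Set G))
  have e : centralizerIn S Q ⊓ Subgroup.centralizer (Q : Set G) =
      S ⊓ Subgroup.centralizer (Q : Set G) := by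
    unfold centralizerIn
    rw [inf_assoc, inf_idem]
  rw [e] at h2
  exact h2

theorem normalizerIn_subgroupOf (S Q : Subgroup G) :
    (normalizerIn S Q).subgroupOf (Subgroup.normalizer (Q : Set G)) =
      S.subgroupOf (Subgroup.normalizer (Q : Set G)) := by
  unfold normalizerIn
  exact Subgroup.inf_subgroupOf_right _ _

end Cfsg.Agent.Helper25
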