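import Mathlib
import Cfsg.Agent.Helper25.FusionAut
import Cfsg.Agent.Helper25.FusionGroup2

set_option autoImplicit false

namespace Cfsg.Agent.Helper25

open Cfsg Cfsg.FusionSystem

variable {Ω : Type*} [Group Ω] {S : Subgroup Ω}

theorem isConj_refl (F : FusionSystem S) {P : Subgroup Ω} (hP : P ≤ S) : F.IsConj P P :=
  ⟨P.subtype, subtype_mem F hP, Subgroup.range_subtype P⟩

theorem isConj_symm (F : FusionSystem S) {P Q : Subgroup Ω} (h : F.IsConj P Q) : F.IsConj Q P := by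
  obtain ⟨φ, hφ, hr⟩ := h
  obtain ⟨ψ, hψ, -, hψr⟩ := exists_inv_mem F hφ hr
  exact ⟨ψ, hψ, hψr⟩

theorem isConj_trans (F : FusionSystem S) {P Q R : Subgroup Ω} (h₁ : F.IsConj P Q)
    (h₂ : F.IsConj Q R) : F.IsConj P R := by
  obtain ⟨φ, hφ, hr⟩ := h₁
  obtain ⟨ψ, hψ, hr'⟩ := h₂
  have hval : ∀ x : P, φ x ∈ Q := fun x => hr ▸ ⟨x, rfl⟩
  refine ⟨ψ.comp (φ.codRestrict Q hval), F.comp_mem hφ hψ hval, ?_⟩
  ext y
  constructor
  · rintro ⟨x, rfl⟩
    rw [← hr']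
    exact ⟨_, rfl⟩
  · intro hy
    have hy' : y ∈ ψ.range := hr'.symm ▸ hy
    obtain ⟨z, rfl⟩ := hy'
    have hz : (z : Ω) ∈ φ.range := hr.symm ▸ z.2
    obtain ⟨x, hx⟩ := hz
    refine ⟨x, ?_⟩
    show ψ ⟨φ x, hval x⟩ = ψ z
    congr 1
    exact Subtype.ext hx

theorem isConj_le (F : FusionSystem S) {P Q : Subgroup Ω} (h : F.IsConj P Q) : P ≤ S ∧ Q ≤ S := by
  obtain ⟨φ, hφ, hr⟩ := h
  refine ⟨(F.le_of_mem hφ).1, ?_⟩
  rw [← hr]
  rintro _ ⟨x, rfl⟩
  exact (F.le_of_mem hφ).2 x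

theorem finite_of_le {P : Subgroup Ω} [Finite S] (hP : P ≤ S) : Finite P :=
  Finite.of_injective (Subgroup.inclusion hP) (Subgroup.inclusion_injective _)

/-- `|N_S(Q)| = |C_S(Q)| · |Aut_S(Q)|`. -/
theorem card_normalizerIn_eq (S Q : Subgroup Ω) :
    Nat.card (normalizerIn S Q) = Nat.card (centralizerIn S Q) * Nat.card (autInducedBy S Q) := by
  let f : ↥(normalizerIn S Q) →* MulAut Q :=
    Q.normalizerMonoidHom.comp (Subgroup.inclusion (inf_le_right : S ⊓ _ ≤ _))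
  have hrange : f.range = autInducedBy S Q := by
    rw [autInducedBy_eq_map]
    ext α
    constructor
    · rintro ⟨n, rfl⟩
      exact ⟨Subgroup.inclusion inf_le_right n, n.2.1, rfl⟩
    · rintro ⟨n, hn, rfl⟩
      exact ⟨⟨n, ⟨hn, n.2⟩⟩, rfl⟩
  have hCN : centralizerIn S Q ≤ normalizerIn S Q :=
    inf_le_inf_left S (Subgroup.centralizer_le_normalizer _)
  have hker : f.ker = (centralizerIn S Q).subgroupOf (normalizerIn S Q) := by
    ext n
    rw [MonoidHom.mem_ker, Subgroup.mem_subgroupOf]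
    constructor
    · intro h
      refine ⟨n.2.1, Subgroup.mem_centralizer_iff.mpr ?_⟩
      intro y hy
      have h1 := congrArg (fun α : MulAut Q => ((α ⟨y, hy⟩ : Q) : Ω)) h
      have h2 : (n : Ω) * y * (n : Ω)⁻¹ = y := h1
      calc y * n = ((n : Ω) * y * (n : Ω)⁻¹) * n := by rw [h2]
        _ = n * y := by group
    · intro h
      ext y
      have h1 := (Subgroup.mem_centralizer_iff.mp h.2) y y.2
      show (n : Ω) * y * (n : Ω)⁻¹ = y
      rw [← h1]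
      group
  have h1 := Subgroup.card_mul_index f.ker
  rw [Subgroup.index_ker, hrange, hker] at h1
  rw [← h1]
  congr 1
  exact Nat.card_congr (Subgroup.subgroupOfEquivOfLe hCN).toEquiv

end Cfsg.Agent.Helper25

namespace Cfsg.Agent.Helper25

open Cfsg Cfsg.FusionSystem

variable {Ω : Type*} [Group Ω] {S : Subgroup Ω}

theorem autInducedBy_le_autGroup (F : FusionSystem S) {Q : Subgroup Ω} (hQS : Q ≤ S) :
    autInducedBy S Q ≤ F.autGroup Q := by
  rw [autInducedBy_eq_map]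
  rintro _ ⟨n, hn, rfl⟩
  rw [mem_autGroup_iff F hQS]
  have hnS : (n : Ω) ∈ S := hn
  exact F.conj_mem hQS hnS

theorem autInducedBy_isPGroup {p : ℕ} (hS : IsPGroup p S) (Q : Subgroup Ω) :
    IsPGroup p (autInducedBy S Q) := by
  rw [autInducedBy_eq_map]
  have h1 : IsPGroup p (S.subgroupOf (Subgroup.normalizer (Q : Set Ω))) := hS.comap_subtype
  exact h1.map _

/-- Conjugate subgroups have automorphism groups of the same order. -/
theorem card_autGroup_le_of_isConj [Finite S] (F : FusionSystem S) {Q P : Subgroup Ω}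
    (h : F.IsConj Q P) : Nat.card (F.autGroup Q) ≤ Nat.card (F.autGroup P) := by
  obtain ⟨ψ, hψ, hr⟩ := h
  have hPS : P ≤ S := (isConj_le F ⟨ψ, hψ, hr⟩).2
  have : Finite P := finite_of_le hPS
  let e := isoOfHom ψ (F.injective_of_mem hψ) hr
  let f : F.autGroup Q → F.autGroup P := fun α =>
    ⟨MulAut.congr e α, congr_mem_autGroup F hψ hr α.2⟩
  have hf : Function.Injective f := by
    intro α β hαβ
    have h1 : MulAut.congr e (α : MulAut Q) = MulAut.congr e (β : MulAut Q) :=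
      congrArg Subtype.val hαβ
    exact Subtype.ext ((MulAut.congr e).injective h1)
  exact Nat.card_le_card_of_injective f hf

theorem card_autGroup_eq_of_isConj [Finite S] (F : FusionSystem S) {Q P : Subgroup Ω}
    (h : F.IsConj Q P) : Nat.card (F.autGroup Q) = Nat.card (F.autGroup P) :=
  le_antisymm (card_autGroup_le_of_isConj F h) (card_autGroup_le_of_isConj F (isConj_symm F h))

/-- Fully automized, in cardinality form. -/
theorem isFullyAutomized_iff_card [Finite S] (F : FusionSystem S) (p : ℕ) [Fact p.Prime]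
    {Q : Subgroup Ω} (hQS : Q ≤ S) :
    F.IsFullyAutomized p Q ↔
      Nat.card (autInducedBy S Q) = pPart p (Nat.card (F.autGroup Q)) := by
  have : Finite Q := finite_of_le hQS
  have h2 := isSylowIn_iff_card p (autInducedBy S Q) (F.autGroup Q)
  have e : autInducedBy S Q ⊓ F.autGroup Q = autInducedBy S Q :=
    inf_of_le_left (autInducedBy_le_autGroup F hQS)
  rw [e] at h2
  unfold IsSylowIn at h2
  unfold IsFullyAutomized
  rw [h2]
  exact ⟨fun h => h.2, fun h => ⟨hQS, h⟩⟩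

theorem card_autInducedBy_le [Finite S] (F : FusionSystem S) (p : ℕ) [Fact p.Prime]
    (hS : IsPGroup p S) {Q : Subgroup Ω} (hQS : Q ≤ S) :
    Nat.card (autInducedBy S Q) ≤ pPart p (Nat.card (F.autGroup Q)) := by
  have : Finite Q := finite_of_le hQS
  exact card_le_pPart_of_isPGroup p (autInducedBy_isPGroup hS Q) (autInducedBy_le_autGroup F hQS)

/-- Fully automized and receptive implies fully normalized. -/
theorem isFullyNormalized_of_automized_receptive [Finite S] (F : FusionSystem S) (p : ℕ)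
    [Fact p.Prime] (hS : IsPGroup p S) {P : Subgroup Ω} (h₁ : F.IsFullyAutomized p P)
    (hFC : F.IsFullyCentralized P) : F.IsFullyNormalized P := by
  refine ⟨h₁.1, ?_⟩
  intro Q hQ
  have hQS : Q ≤ S := (isConj_le F hQ).2
  rw [card_normalizerIn_eq, card_normalizerIn_eq]
  have h1 := hFC.2 Q hQ
  have h2 : Nat.card (autInducedBy S Q) ≤ Nat.card (autInducedBy S P) := by
    rw [(isFullyAutomized_iff_card F p h₁.1).mp h₁, card_autGroup_eq_of_isConj F hQ]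
    exact card_autInducedBy_le F p hS hQS
  exact Nat.mul_le_mul h1 h2

end Cfsg.Agent.Helper25

namespace Cfsg.Agent.Helper25

open Cfsg Cfsg.FusionSystem

variable {Ω : Type*} [Group Ω] {S : Subgroup Ω}

theorem le_extender {P : Subgroup Ω} (hP : P ≤ S) (φ : P →* Ω) (hφS : ∀ x, φ x ∈ S) :
    P ≤ extender S P φ := by
  intro g hg
  apply Subgroup.subset_closure
  refine ⟨hP hg, Subgroup.le_normalizer hg, φ ⟨g, hg⟩, hφS _, ?_⟩
  intro x hx
  have : (⟨g * (x : Ω) * g⁻¹, hx⟩ : P) = ⟨g, hg⟩ * x * ⟨g, hg⟩⁻¹ := by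
    apply Subtype.ext
    simp
  rw [this, map_mul, map_mul, map_inv]

theorem extender_le_normalizerIn (P : Subgroup Ω) (φ : P →* Ω) :
    extender S P φ ≤ normalizerIn S P := by
  unfold extender
  rw [Subgroup.closure_le]
  rintro g ⟨hgS, hgN, -⟩
  exact ⟨hgS, hgN⟩

/-- The witness `h` of a generator of `N_ψ` normalizes the range of `ψ`. -/
theorem witness_mem_normalizer {R Q : Subgroup Ω} (ψ : R →* Ω) (hψr : ψ.range = Q) {g h : Ω}
    (hgN : g ∈ Subgroup.normalizer (R : Set Ω))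
    (hh : ∀ (x : R) (hx : g * (x : Ω) * g⁻¹ ∈ R), ψ ⟨g * x * g⁻¹, hx⟩ = h * ψ x * h⁻¹) :
    h ∈ Subgroup.normalizer (Q : Set Ω) := by
  rw [Subgroup.mem_normalizer_iff]
  intro y
  constructor
  · intro hy
    have hy' : y ∈ ψ.range := hψr.symm ▸ hy
    obtain ⟨x, rfl⟩ := hy'
    have hx' : g * (x : Ω) * g⁻¹ ∈ R := (Subgroup.mem_normalizer_iff.mp hgN _).mp x.2
    rw [← hh x hx', ← hψr]
    exact ⟨_, rfl⟩
  · intro hy
    have hy' : h * y * h⁻¹ ∈ ψ.range := hψr.symm ▸ hy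
    obtain ⟨x', hx'⟩ := hy'
    have hx'' : g⁻¹ * (x' : Ω) * g⁻¹⁻¹ ∈ R :=
      (Subgroup.mem_normalizer_iff.mp (Subgroup.inv_mem _ hgN) _).mp x'.2
    have hx3 : g * ((⟨g⁻¹ * (x' : Ω) * g⁻¹⁻¹, hx''⟩ : R) : Ω) * g⁻¹ ∈ R := by
      have : g * (g⁻¹ * (x' : Ω) * g⁻¹⁻¹) * g⁻¹ = x' := by group
      rw [this]
      exact x'.2
    have h1 := hh ⟨_, hx''⟩ hx3
    have e1 : (⟨g * ((⟨g⁻¹ * (x' : Ω) * g⁻¹⁻¹, hx''⟩ : R) : Ω) * g⁻¹, hx3⟩ : R) = x' := by
      apply Subtype.ext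
      show g * (g⁻¹ * (x' : Ω) * g⁻¹⁻¹) * g⁻¹ = x'
      group
    rw [e1, hx'] at h1
    have h3 : y = ψ ⟨g⁻¹ * (x' : Ω) * g⁻¹⁻¹, hx''⟩ := mul_left_cancel (mul_right_cancel h1)
    rw [h3, ← hψr]
    exact ⟨_, rfl⟩

/-- Key step of the Roberts–Shpectorov argument: if `P` is receptive, `φ : N_S(Q) → N_S(P)` is a
map of the system carrying `Q` onto `P`, and `|C_S(P)| ≤ |C_S(Q)|`, then `Q` is receptive. -/
theorem receptive_of_card_centralizer_le [Finite S] (F : FusionSystem S) {P Q : Subgroup Ω}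
    (hrec : F.IsReceptive P)
    (φ : ↥(normalizerIn S Q) →* Ω) (hφ : φ ∈ F.Hom (normalizerIn S Q))
    (hφQ : (Q.subgroupOf (normalizerIn S Q)).map φ = P) (hQS : Q ≤ S)
    (hcard : Nat.card (centralizerIn S P) ≤ Nat.card (centralizerIn S Q)) :
    F.IsReceptive Q := by
  refine ⟨hQS, ?_⟩
  intro R ψ hψ hψr
  have hRS : R ≤ S := (F.le_of_mem hψ).1
  have hQN : Q ≤ normalizerIn S Q := le_inf hQS Subgroup.le_normalizer
  have hφinj := F.injective_of_mem hφ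
  have hφS : ∀ x, φ x ∈ S := (F.le_of_mem hφ).2
  have hCN : centralizerIn S Q ≤ normalizerIn S Q :=
    inf_le_inf_left S (Subgroup.centralizer_le_normalizer _)
  -- image of Q
  have hφQ' : ∀ y : Ω, y ∈ P ↔ ∃ x : Q, φ ⟨x, hQN x.2⟩ = y := by
    intro y
    rw [← hφQ]
    constructor
    · rintro ⟨x, hx, rfl⟩
      exact ⟨⟨x, hx⟩, rfl⟩
    · rintro ⟨x, rfl⟩
      exact ⟨⟨x, hQN x.2⟩, x.2, rfl⟩
  let φQ : Q →* Ω := φ.comp (Subgroup.inclusion hQN)
  have hφQmem : φQ ∈ F.Hom Q := restrict_mem F hQN hφ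
  have hψQ : ∀ x : R, ψ x ∈ Q := fun x => hψr ▸ ⟨x, rfl⟩
  let θ : R →* Ω := φQ.comp (ψ.codRestrict Q hψQ)
  have hθ : θ ∈ F.Hom R := F.comp_mem hψ hφQmem hψQ
  have hθdef : ∀ x : R, θ x = φ ⟨ψ x, hQN (hψQ x)⟩ := fun x => rfl
  have hθr : θ.range = P := by
    ext y
    rw [hφQ']
    constructor
    · rintro ⟨x, rfl⟩
      exact ⟨⟨ψ x, hψQ x⟩, rfl⟩
    · rintro ⟨z, rfl⟩
      have hz : (z : Ω) ∈ ψ.range := hψr.symm ▸ z.2
      obtain ⟨x, hx⟩ := hz
      refine ⟨x, ?_⟩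
      rw [hθdef]
      congr 1
      exact Subtype.ext hx
  have hθS : ∀ x, θ x ∈ S := fun x => hφS _
  -- generators of N_ψ are generators of N_θ
  have hgen : ∀ g : Ω, g ∈ S → g ∈ Subgroup.normalizer (R : Set Ω) → ∀ h : Ω, ∀ hhS : h ∈ S,
      (∀ (x : R) (hx : g * (x : Ω) * g⁻¹ ∈ R), ψ ⟨g * x * g⁻¹, hx⟩ = h * ψ x * h⁻¹) →
      ∃ hhN : h ∈ normalizerIn S Q, ∀ (x : R) (hx : g * (x : Ω) * g⁻¹ ∈ R),
        θ ⟨g * x * g⁻¹, hx⟩ = φ ⟨h, hhN⟩ * θ x * (φ ⟨h, hhN⟩)⁻¹ := by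
    intro g hgS hgN h hhS hh
    have hhN : h ∈ normalizerIn S Q := ⟨hhS, witness_mem_normalizer ψ hψr hgN hh⟩
    refine ⟨hhN, ?_⟩
    intro x hx
    rw [hθdef, hθdef, ← map_inv, ← map_mul, ← map_mul]
    congr 1
    apply Subtype.ext
    exact hh x hx
  have hext : extender S R ψ ≤ extender S R θ := by
    unfold extender
    rw [Subgroup.closure_le]
    rintro g ⟨hgS, hgN, h, hhS, hh⟩
    obtain ⟨hhN, hh'⟩ := hgen g hgS hgN h hhS hh
    exact Subgroup.subset_closure ⟨hgS, hgN, φ ⟨h, hhN⟩, hφS _, hh'⟩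
  obtain ⟨χ, hχ, hχext⟩ := hrec.2 R θ hθ hθr
  have hχS : ∀ x, χ x ∈ S := (F.le_of_mem hχ).2
  have hRNθ : R ≤ extender S R θ := le_extender hRS θ hθS
  -- C_S(P) = φ(C_S(Q))
  have hCmem : ∀ c : centralizerIn S Q, φ ⟨c, hCN c.2⟩ ∈ centralizerIn S P := by
    intro c
    refine ⟨hφS _, Subgroup.mem_centralizer_iff.mpr ?_⟩
    intro y hy
    obtain ⟨x, rfl⟩ := (hφQ' y).mp hy
    rw [← map_mul, ← map_mul]
    congr 1
    apply Subtype.ext
    exact (Subgroup.mem_centralizer_iff.mp c.2.2) x x.2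
  let fC : centralizerIn S Q → centralizerIn S P := fun c => ⟨φ ⟨c, hCN c.2⟩, hCmem c⟩
  have hfCinj : Function.Injective fC := by
    intro c d hcd
    have h1 : φ ⟨c, hCN c.2⟩ = φ ⟨d, hCN d.2⟩ := congrArg Subtype.val hcd
    have h2 := hφinj h1
    exact Subtype.ext (congrArg (fun z : normalizerIn S Q => (z : Ω)) h2)
  have hfinCP : Finite (centralizerIn S P) := finite_of_le (inf_le_left : centralizerIn S P ≤ S)
  have hfCsurj : Function.Surjective fC := (hfCinj.bijective_of_nat_card_le hcard).2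
  -- χ maps generators of N_ψ into φ.range
  have hχgen : ∀ g : Ω, ∀ hg : g ∈ extender S R θ, g ∈ S → g ∈ Subgroup.normalizer (R : Set Ω) →
      ∀ h : Ω, ∀ hhS : h ∈ S,
      (∀ (x : R) (hx : g * (x : Ω) * g⁻¹ ∈ R), ψ ⟨g * x * g⁻¹, hx⟩ = h * ψ x * h⁻¹) →
      χ ⟨g, hg⟩ ∈ φ.range := by
    intro g hg hgS hgN h hhS hh
    obtain ⟨hhN, hh'⟩ := hgen g hgS hgN h hhS hh
    set d := (φ ⟨h, hhN⟩)⁻¹ * χ ⟨g, hg⟩ with hd
    have hdC : d ∈ centralizerIn S P := by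
      refine ⟨S.mul_mem (S.inv_mem (hφS _)) (hχS _), Subgroup.mem_centralizer_iff.mpr ?_⟩
      intro y hy
      have hy' : y ∈ θ.range := hθr.symm ▸ hy
      obtain ⟨x, rfl⟩ := hy'
      have hx' : g * (x : Ω) * g⁻¹ ∈ R := (Subgroup.mem_normalizer_iff.mp hgN _).mp x.2
      have h1 := hh' x hx'
      have h2 : χ ⟨g * (x : Ω) * g⁻¹, hRNθ hx'⟩ = θ ⟨g * x * g⁻¹, hx'⟩ :=
        hχext _ hx' (hRNθ hx')
      have h3 : χ ⟨(x : Ω), hRNθ x.2⟩ = θ x := hχext _ x.2 (hRNθ x.2)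
      have e1 : (⟨g * (x : Ω) * g⁻¹, hRNθ hx'⟩ : extender S R θ) =
          ⟨g, hg⟩ * ⟨(x : Ω), hRNθ x.2⟩ * ⟨g, hg⟩⁻¹ := Subtype.ext rfl
      rw [e1, map_mul, map_mul, map_inv, h3, h1] at h2
      -- h2 : χ g * θ x * (χ g)⁻¹ = φ h * θ x * (φ h)⁻¹
      rw [hd]
      calc θ x * ((φ ⟨h, hhN⟩)⁻¹ * χ ⟨g, hg⟩)
          = (φ ⟨h, hhN⟩)⁻¹ * (φ ⟨h, hhN⟩ * θ x * (φ ⟨h, hhN⟩)⁻¹) * χ ⟨g, hg⟩ := by group
        _ = (φ ⟨h, hhN⟩)⁻¹ * (χ ⟨g, hg⟩ * θ x * (χ ⟨g, hg⟩)⁻¹) * χ ⟨g, hg⟩ := by rw [h2]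
        _ = (φ ⟨h, hhN⟩)⁻¹ * χ ⟨g, hg⟩ * θ x := by group
    obtain ⟨c, hc⟩ := hfCsurj ⟨d, hdC⟩
    have hc' : φ ⟨c, hCN c.2⟩ = d := congrArg Subtype.val hc
    refine ⟨⟨h, hhN⟩ * ⟨c, hCN c.2⟩, ?_⟩
    rw [map_mul, hc', hd]
    group
  have hχrange : ∀ g : extender S R ψ, (χ.comp (Subgroup.inclusion hext)) g ∈ φ.range := by
    rintro ⟨g, hg⟩
    have hle : extender S R ψ ≤ ((φ.range.comap χ).map (extender S R θ).subtype) := by
      unfold extender
      rw [Subgroup.closure_le]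
      rintro g ⟨hgS, hgN, h, hhS, hh⟩
      have hgθ : g ∈ extender S R θ := hext (Subgroup.subset_closure ⟨hgS, hgN, h, hhS, hh⟩)
      exact ⟨⟨g, hgθ⟩, hχgen g hgθ hgS hgN h hhS hh, rfl⟩
    obtain ⟨z, hz, hzg⟩ := hle hg
    have : z = Subgroup.inclusion hext ⟨g, hg⟩ := Subtype.ext hzg
    show χ (Subgroup.inclusion hext ⟨g, hg⟩) ∈ φ.range
    rw [← this]
    exact hz
  obtain ⟨φinv, hφinv, hinv⟩ := F.inv_mem hφ
  refine ⟨φinv.comp ((χ.comp (Subgroup.inclusion hext)).codRestrict φ.range hχrange),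
    F.comp_mem (restrict_mem F hext hχ) hφinv hχrange, ?_⟩
  intro x hxR hxN
  have h1 : χ ⟨x, hext hxN⟩ = θ ⟨x, hxR⟩ := hχext x hxR (hext hxN)
  have h2 := hinv ⟨ψ ⟨x, hxR⟩, hQN (hψQ _)⟩
  show φinv ⟨χ ⟨x, hext hxN⟩, _⟩ = ψ ⟨x, hxR⟩
  refine Eq.trans ?_ h2
  congr 1
  apply Subtype.ext
  show χ ⟨x, hext hxN⟩ = φ ⟨ψ ⟨x, hxR⟩, _⟩
  rw [h1, hθdef]

end Cfsg.Agent.Helper25

namespace Cfsg.Agent.Helper25

open Cfsg Cfsg.FusionSystem

variable {Ω : Type*} [Group Ω] {S : Subgroup Ω}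

/-- If `P` is fully automized and fully centralized, `Q` is fully normalized and conjugate to `P`,
and `φ : N_S(Q) → N_S(P)` is a map of the system carrying `Q` onto `P`, then `Q` is fully
centralized and fully automized. -/
theorem centralized_automized_of_normalized [Finite S] (F : FusionSystem S) (p : ℕ) [Fact p.Prime]
    {P Q : Subgroup Ω} (hFA : F.IsFullyAutomized p P) (hFC : F.IsFullyCentralized P)
    (hQP : F.IsConj Q P) (hFN : F.IsFullyNormalized Q)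
    (φ : ↥(normalizerIn S Q) →* Ω) (hφ : φ ∈ F.Hom (normalizerIn S Q))
    (hφN : ∀ x, φ x ∈ normalizerIn S P)
    (hφQ : (Q.subgroupOf (normalizerIn S Q)).map φ = P) :
    F.IsFullyCentralized Q ∧ F.IsFullyAutomized p Q := by
  have hQS : Q ≤ S := hFN.1
  have hPS : P ≤ S := hFA.1
  have hQN : Q ≤ normalizerIn S Q := le_inf hQS Subgroup.le_normalizer
  have hφinj := F.injective_of_mem hφ
  have hφS : ∀ x, φ x ∈ S := (F.le_of_mem hφ).2
  have hCN : centralizerIn S Q ≤ normalizerIn S Q :=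
    inf_le_inf_left S (Subgroup.centralizer_le_normalizer _)
  have hCNP : centralizerIn S P ≤ normalizerIn S P :=
    inf_le_inf_left S (Subgroup.centralizer_le_normalizer _)
  have hfinNP : Finite (normalizerIn S P) := finite_of_le (inf_le_left : normalizerIn S P ≤ S)
  have hfinNQ : Finite (normalizerIn S Q) := finite_of_le (inf_le_left : normalizerIn S Q ≤ S)
  have hfinCQ : Finite (centralizerIn S Q) := finite_of_le (inf_le_left : centralizerIn S Q ≤ S)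
  have hfinCP : Finite (centralizerIn S P) := finite_of_le (inf_le_left : centralizerIn S P ≤ S)
  have hφQ' : ∀ y : Ω, y ∈ P ↔ ∃ x : Q, φ ⟨x, hQN x.2⟩ = y := by
    intro y
    rw [← hφQ]
    constructor
    · rintro ⟨x, hx, rfl⟩
      exact ⟨⟨x, hx⟩, rfl⟩
    · rintro ⟨x, rfl⟩
      exact ⟨⟨x, hQN x.2⟩, x.2, rfl⟩
  -- φ : N_S(Q) → N_S(P) is bijective
  let fN : normalizerIn S Q → normalizerIn S P := fun n => ⟨φ n, hφN n⟩
  have hfNinj : Function.Injective fN := fun a b hab => hφinj (congrArg Subtype.val hab)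
  have hNcard : Nat.card (normalizerIn S P) ≤ Nat.card (normalizerIn S Q) := hFN.2 P hQP
  have hfNsurj : Function.Surjective fN := (hfNinj.bijective_of_nat_card_le hNcard).2
  have hNeq : Nat.card (normalizerIn S Q) = Nat.card (normalizerIn S P) :=
    le_antisymm (Nat.card_le_card_of_injective fN hfNinj) hNcard
  -- centralizers
  have hCle : Nat.card (centralizerIn S P) ≤ Nat.card (centralizerIn S Q) := by
    have hex : ∀ d : centralizerIn S P, ∃ c : centralizerIn S Q, φ ⟨c, hCN c.2⟩ = d := by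
      intro d
      obtain ⟨n, hn⟩ := hfNsurj ⟨d, hCNP d.2⟩
      have hn' : φ n = d := congrArg Subtype.val hn
      have hnC : (n : Ω) ∈ centralizerIn S Q := by
        refine ⟨n.2.1, Subgroup.mem_centralizer_iff.mpr ?_⟩
        intro x hx
        have hφx : φ ⟨x, hQN hx⟩ ∈ P := (hφQ' _).mpr ⟨⟨x, hx⟩, rfl⟩
        have h1 := (Subgroup.mem_centralizer_iff.mp d.2.2) _ hφx
        rw [← hn', ← map_mul, ← map_mul] at h1
        exact congrArg (fun z : normalizerIn S Q => (z : Ω)) (hφinj h1)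
      exact ⟨⟨n, hnC⟩, hn'⟩
    choose g hg using hex
    have hginj : Function.Injective g := by
      intro d d' hdd
      apply Subtype.ext
      rw [← hg d, ← hg d', hdd]
    exact Nat.card_le_card_of_injective g hginj
  have hCeq : Nat.card (centralizerIn S Q) = Nat.card (centralizerIn S P) :=
    le_antisymm (hFC.2 Q (isConj_symm F hQP)) hCle
  refine ⟨⟨hQS, ?_⟩, ?_⟩
  · intro Q' hQ'
    rw [hCeq]
    exact hFC.2 Q' (isConj_trans F (isConj_symm F hQP) hQ')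
  · rw [isFullyAutomized_iff_card F p hQS, card_autGroup_eq_of_isConj F hQP,
      ← (isFullyAutomized_iff_card F p hPS).mp hFA]
    have h1 := card_normalizerIn_eq S Q
    have h2 := card_normalizerIn_eq S P
    rw [hNeq, h2, hCeq] at h1
    exact (Nat.eq_of_mul_eq_mul_left Nat.card_pos h1).symm

/-- Every subgroup of `S` is conjugate to a fully normalized subgroup. -/
theorem exists_isConj_fullyNormalized [Finite S] (F : FusionSystem S) {P : Subgroup Ω} (hP : P ≤ S) :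
    ∃ Q, F.IsConj P Q ∧ F.IsFullyNormalized Q := by
  classical
  let T : Set ℕ := {n | ∃ Q, F.IsConj P Q ∧ Nat.card (normalizerIn S Q) = n}
  have hTne : T.Nonempty := ⟨_, P, isConj_refl F hP, rfl⟩
  have hTbdd : BddAbove T := by
    refine ⟨Nat.card S, ?_⟩
    rintro _ ⟨Q, -, rfl⟩
    exact Nat.card_le_card_of_injective (Subgroup.inclusion (inf_le_left : normalizerIn S Q ≤ S))
      (Subgroup.inclusion_injective _)
  obtain ⟨Q, hQ, hQmax⟩ := Nat.sSup_mem hTne hTbdd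
  refine ⟨Q, hQ, (isConj_le F hQ).2, ?_⟩
  intro Q' hQ'
  rw [hQmax]
  exact le_csSup hTbdd ⟨Q', isConj_trans F hQ hQ', rfl⟩

end Cfsg.Agent.Helper25
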