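import Mathlib
import Cfsg.Prelude.Def_FusionSystem

set_option autoImplicit false

namespace Cfsg.Agent.Helper25

open Cfsg

theorem not_pRankLE_zero {X : Type*} [Group X] (p : ℕ) [Fact p.Prime] (h : IsPGroup p X)
    (hne : ∃ x : X, x ≠ 1) : ¬ PRankLE p 0 X := by
  obtain ⟨u, hu⟩ := hne
  obtain ⟨k, hk⟩ := h u
  have hp : p.Prime := Fact.out
  obtain ⟨j, hj⟩ : ∃ j, orderOf u = p ^ j := by
    have := orderOf_dvd_of_pow_eq_one hk
    exact (Nat.dvd_prime_pow hp).mp this |>.imp fun j hj => hj.2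
  have hj0 : j ≠ 0 := by
    rintro rfl
    rw [pow_zero, orderOf_eq_one_iff] at hj
    exact hu hj
  obtain ⟨i, rfl⟩ := Nat.exists_eq_succ_of_ne_zero hj0
  set v := u ^ (p ^ i) with hv
  have hvord : orderOf v = p := by
    rw [hv, orderOf_pow' u (pow_ne_zero i hp.ne_zero), hj, Nat.gcd_eq_right (pow_dvd_pow p (Nat.le_succ i)),
      pow_succ, Nat.mul_div_cancel_left _ (pow_pos hp.pos i)]
  intro hrank
  have h1 := hrank (Subgroup.zpowers v) inferInstance (by
    intro a ha
    obtain ⟨n, rfl⟩ := Subgroup.mem_zpowers_iff.mp ha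
    rw [← zpow_natCast, ← zpow_mul, mul_comm, zpow_mul, zpow_natCast, ← hvord, pow_orderOf_eq_one, one_zpow])
  rw [Nat.card_zpowers, hvord, pow_zero] at h1
  exact absurd h1 (not_le.mpr hp.one_lt)

/-- The normalizer of a nontrivial subgroup of a Sylow subgroup lies in `Γ_{T,1}`. -/
theorem normalizer_le_kGeneratedCore {X : Type*} [Group X] (p : ℕ) [Fact p.Prime] (T : Sylow p X)
    (U : Subgroup X) (hUT : U ≤ (T : Subgroup X)) (hU : U ≠ ⊥) :
    Subgroup.normalizer (U : Set X) ≤ kGeneratedCore p 1 (T : Subgroup X) := by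
  have hUp : IsPGroup p U := T.2.of_injective (Subgroup.inclusion hUT) (Subgroup.inclusion_injective _)
  have hne : ∃ x : U, x ≠ 1 := by
    by_contra hcon
    push Not at hcon
    apply hU
    rw [Subgroup.eq_bot_iff_forall]
    intro x hx
    exact congrArg Subtype.val (hcon ⟨x, hx⟩)
  have h0 : ¬ PRankLE p (1 - 1) U := not_pRankLE_zero p hUp hne
  unfold kGeneratedCore
  exact le_iSup (fun Q : {Q : Subgroup X // Q ≤ (T : Subgroup X) ∧ ¬ PRankLE p (1 - 1) Q} =>
    Subgroup.normalizer ((Q : Subgroup X) : Set X)) ⟨U, hUT, h0⟩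

theorem normal_pSubgroup_eq_bot_of_stronglyPEmbedded {X : Type*} [Group X] (p : ℕ)
    [Fact p.Prime] {E : Subgroup X} (hE : IsStronglyPEmbedded p E) (N : Subgroup X) [N.Normal]
    (hN : IsPGroup p N) : N = ⊥ := by
  by_contra hne
  obtain ⟨-, hEtop, T, hT⟩ := hE
  have hNT : N ≤ (T : Subgroup X) := hN.le_sylow_of_normal T
  have h1 := normalizer_le_kGeneratedCore p T N hNT hne
  rw [Subgroup.normalizer_eq_top] at h1
  exact hEtop (top_le_iff.mp (h1.trans hT))

end Cfsg.Agent.Helper25
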