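import Mathlib
import Cfsg.Agent.Helper25.FusionSat
import Cfsg.Agent.Helper25.StronglyEmb
import Cfsg.Agent.S5104
import Cfsg.Agent.S5080

set_option autoImplicit false

namespace Cfsg.Agent.Helper25

open Cfsg Cfsg.FusionSystem

variable {Ω : Type*} [Group Ω] {S : Subgroup Ω}

/-- Normalizers grow in finite `p`-groups. -/
theorem exists_mem_normalizerIn_not_mem [Finite S] (p : ℕ) [Fact p.Prime] (hS : IsPGroup p S)
    {P : Subgroup Ω} (hPS : P ≤ S) (hne : P ≠ S) : ∃ g ∈ normalizerIn S P, g ∉ P := by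
  have hnil : Group.IsNilpotent S := hS.isNilpotent
  have hNC : NormalizerCondition S := Group.normalizerCondition_of_isNilpotent
  have hlt : P.subgroupOf S < ⊤ := by
    rw [lt_top_iff_ne_top]
    intro h
    apply hne
    apply le_antisymm hPS
    intro x hx
    have : (⟨x, hx⟩ : S) ∈ P.subgroupOf S := h ▸ Subgroup.mem_top _
    exact this
  have h2 := hNC _ hlt
  rw [← Subgroup.subgroupOf_normalizer_eq hPS] at h2
  obtain ⟨g, hgN, hgP⟩ := SetLike.exists_of_lt h2
  exact ⟨g, ⟨g.2, hgN⟩, hgP⟩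

/-- `α` extends to a map of the system on a strictly larger subgroup. -/
def ExtendsProperly (F : FusionSystem S) (R : Subgroup Ω) (α : MulAut R) : Prop :=
  ∃ (Q : Subgroup Ω) (hRQ : R < Q) (φ : Q →* Ω), φ ∈ F.Hom Q ∧
    ∀ x : R, φ (Subgroup.inclusion hRQ.le x) = α x

theorem extendsProperly_of_extender [Finite S] (F : FusionSystem S) {R : Subgroup Ω}
    (hrec : F.IsReceptive R) (α : MulAut R) (hα : autHom α ∈ F.Hom R) {g : Ω}
    (hg : g ∈ extender S R (autHom α)) (hgR : g ∉ R) : ExtendsProperly F R α := by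
  have hRS : R ≤ S := hrec.1
  have hle : R ≤ extender S R (autHom α) :=
    le_extender hRS (autHom α) (fun x => hRS (α x).2)
  have hlt : R < extender S R (autHom α) := lt_of_le_of_ne hle (fun h => hgR (h ▸ hg))
  obtain ⟨χ, hχ, hχext⟩ := hrec.2 R (autHom α) hα (autHom_range α)
  exact ⟨_, hlt, χ, hχ, fun x => hχext x x.2 (hle x.2)⟩

theorem inn_normal_in_autGroup (F : FusionSystem S) (R : Subgroup Ω) :
    ((Inn R).subgroupOf (F.autGroup R)).Normal := by
  constructor
  rintro ⟨n, hn⟩ ⟨x, hx⟩ ⟨g, hg⟩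
  show g * n * g⁻¹ ∈ Inn R
  have hn' : n = MulAut.conj x := hx.symm
  subst hn'
  refine ⟨g x, ?_⟩
  ext y
  simp [MulAut.conj_apply]

/-- Elements of `S ∩ N(R)` inducing an inner automorphism on a self-centralizing `R` lie in `R`. -/
theorem mem_of_normalizerMonoidHom_mem_inn {R : Subgroup Ω} (hRS : R ≤ S)
    (hC : centralizerIn S R ≤ R)
    (n : Subgroup.normalizer (R : Set Ω)) (hnS : (n : Ω) ∈ S)
    (h : R.normalizerMonoidHom n ∈ Inn R) : (n : Ω) ∈ R := by
  obtain ⟨x, hx⟩ := h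
  have hRS' : (x : Ω)⁻¹ * n ∈ Subgroup.centralizer (R : Set Ω) := by
    rw [Subgroup.mem_centralizer_iff]
    intro y hy
    have h1 := congrArg (fun β : MulAut R => ((β ⟨y, hy⟩ : R) : Ω)) hx
    have h2 : (x : Ω) * y * (x : Ω)⁻¹ = (n : Ω) * y * (n : Ω)⁻¹ := h1
    calc y * ((x : Ω)⁻¹ * n) = (x : Ω)⁻¹ * ((x : Ω) * y * (x : Ω)⁻¹) * n := by group
      _ = (x : Ω)⁻¹ * ((n : Ω) * y * (n : Ω)⁻¹) * n := by rw [h2]
      _ = (x : Ω)⁻¹ * n * y := by group
  have h3 : (x : Ω)⁻¹ * n ∈ R := hC ⟨S.mul_mem (S.inv_mem (hRS x.2)) hnS, hRS'⟩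
  have h4 : (x : Ω) * ((x : Ω)⁻¹ * n) ∈ R := R.mul_mem x.2 h3
  rwa [mul_inv_cancel_left] at h4

end Cfsg.Agent.Helper25

namespace Cfsg.Agent.Helper25

open Cfsg Cfsg.FusionSystem

variable {Ω : Type*} [Group Ω] {S : Subgroup Ω}

theorem inn_extendsProperly (F : FusionSystem S) {R : Subgroup Ω} (hRS : R ≤ S) (hne : R ≠ S)
    (x : R) : ExtendsProperly F R (MulAut.conj x) := by
  have hlt : R < S := lt_of_le_of_ne hRS hne
  exact ⟨S, hlt, conjHom S (x : Ω), F.conj_mem le_rfl (hRS x.2), fun y => rfl⟩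

/-- In a saturated system, for a fully normalized non-essential proper subgroup `R`, `Aut_F(R)` is
generated by the automorphisms extending to strictly larger subgroups. -/
theorem autGroup_le_closure_extendsProperly [Finite S] (p : ℕ) [Fact p.Prime] (hS : IsPGroup p S)
    (F : FusionSystem S) (hF : F.IsSaturated p) {R : Subgroup Ω} (hFN : F.IsFullyNormalized R)
    (hne : R ≠ S) (hness : ¬ F.IsEssential p R) :
    F.autGroup R ≤ Subgroup.closure {α : MulAut R | ExtendsProperly F R α} := by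
  have hRS : R ≤ S := hFN.1
  obtain ⟨hFC, hFA⟩ := Cfsg.Agent.S5077.sylow_axiom p hS F hF R hFN
  have hrec : F.IsReceptive R := Cfsg.Agent.S5077.extension_axiom p hS F hF R hFC
  have hfinR : Finite R := finite_of_le hRS
  set H := Subgroup.closure {α : MulAut R | ExtendsProperly F R α} with hH
  by_cases hC : centralizerIn S R ≤ R
  · -- centric case
    have hcen : F.IsCentric R := Cfsg.Agent.S5104.result p hS F hF R hFC hC
    set A := F.autGroup R with hA
    have hIn : ((Inn R).subgroupOf A).Normal := inn_normal_in_autGroup F R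
    set I := (Inn R).subgroupOf A with hI
    have hsurj : Function.Surjective (QuotientGroup.mk' I) := QuotientGroup.mk'_surjective I
    obtain ⟨-, R₀, hR₀⟩ := hFA
    let T : Sylow p (A ⧸ I) := R₀.mapSurjective hsurj
    have hTcoe : (T : Subgroup (A ⧸ I)) = (R₀ : Subgroup A).map (QuotientGroup.mk' I) := rfl
    -- an element of N_S(R) outside R
    obtain ⟨g, hgN, hgR⟩ := exists_mem_normalizerIn_not_mem p hS hRS hne
    let cg : MulAut R := R.normalizerMonoidHom ⟨g, hgN.2⟩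
    have hcgS : cg ∈ autInducedBy S R := by
      rw [autInducedBy_eq_map]
      exact ⟨⟨g, hgN.2⟩, hgN.1, rfl⟩
    have hcgA : cg ∈ A := autInducedBy_le_autGroup F hRS hcgS
    have hcgT : QuotientGroup.mk' I ⟨cg, hcgA⟩ ∈ (T : Subgroup (A ⧸ I)) := by
      rw [hTcoe]
      refine ⟨⟨cg, hcgA⟩, ?_, rfl⟩
      rw [hR₀]
      exact hcgS
    have hcgne : QuotientGroup.mk' I ⟨cg, hcgA⟩ ≠ 1 := by
      intro h1
      have h2 : (⟨cg, hcgA⟩ : A) ∈ I := (QuotientGroup.eq_one_iff _).mp h1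
      have h3 : cg ∈ Inn R := h2
      exact hgR (mem_of_normalizerMonoidHom_mem_inn hRS hC ⟨g, hgN.2⟩ hgN.1 h3)
    have hTne : (T : Subgroup (A ⧸ I)) ≠ ⊥ := by
      intro h
      rw [h, Subgroup.mem_bot] at hcgT
      exact hcgne hcgT
    -- p divides the order of Out
    have hpdvd : p ∣ Nat.card (A ⧸ I) := by
      have h1 : Nat.card (T : Subgroup (A ⧸ I)) ∣ Nat.card (A ⧸ I) := Subgroup.card_subgroup_dvd_card _
      obtain ⟨k, hk⟩ := IsPGroup.iff_card.mp T.2
      have hk0 : k ≠ 0 := by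
        rintro rfl
        rw [pow_zero] at hk
        exact hTne ((T : Subgroup (A ⧸ I)).card_eq_one.mp hk)
      rw [hk] at h1
      exact (dvd_pow_self p hk0).trans h1
    -- Γ = ⊤
    have hΓ : kGeneratedCore p 1 (T : Subgroup (A ⧸ I)) = ⊤ := by
      by_contra hΓ
      exact hness ⟨hcen, hFN, hIn, _, hpdvd, hΓ, T, le_rfl⟩
    -- the image of H contains Γ
    set Hbar : Subgroup (A ⧸ I) := (H.subgroupOf A).map (QuotientGroup.mk' I) with hHbar
    have hΓle : kGeneratedCore p 1 (T : Subgroup (A ⧸ I)) ≤ Hbar := by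
      unfold kGeneratedCore
      apply iSup_le
      rintro ⟨U, hUT, hUrank⟩
      -- U ≠ ⊥
      have hUne : ∃ u ∈ U, u ≠ 1 := by
        by_contra hcon
        push Not at hcon
        apply hUrank
        intro B _ _
        have : Nat.card B = 1 := by
          rw [Nat.card_eq_one_iff_unique]
          refine ⟨⟨fun a b => ?_⟩, ⟨1⟩⟩
          apply Subtype.ext
          apply Subtype.ext
          rw [hcon _ a.1.2, hcon _ b.1.2]
        rw [this]
        exact Nat.one_le_pow _ _ (Nat.Prime.pos Fact.out)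
      obtain ⟨u, huU, hu1⟩ := hUne
      intro abar habar
      obtain ⟨⟨α, hαA⟩, rfl⟩ := hsurj abar
      -- u = mk c with c in Aut_S(R)
      have huT : u ∈ (R₀ : Subgroup A).map (QuotientGroup.mk' I) := hUT huU
      obtain ⟨⟨c, hcA⟩, hcR₀, rfl⟩ := huT
      rw [SetLike.mem_coe, hR₀] at hcR₀
      have hcS : c ∈ autInducedBy S R := hcR₀
      -- conjugate
      have hconjU : QuotientGroup.mk' I ⟨α, hαA⟩ * QuotientGroup.mk' I ⟨c, hcA⟩ *
          (QuotientGroup.mk' I ⟨α, hαA⟩)⁻¹ ∈ U :=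
        (Subgroup.mem_normalizer_iff.mp habar _).mp huU
      have hconjT := hUT hconjU
      rw [hTcoe] at hconjT
      obtain ⟨⟨c', hc'A⟩, hc'R₀, hc'eq⟩ := hconjT
      rw [SetLike.mem_coe, hR₀] at hc'R₀
      have hc'S : c' ∈ autInducedBy S R := hc'R₀
      have hmem : α * c * α⁻¹ ∈ autInducedBy S R := by
        have h1 : QuotientGroup.mk' I (⟨c', hc'A⟩⁻¹ * (⟨α, hαA⟩ * ⟨c, hcA⟩ * ⟨α, hαA⟩⁻¹)) = 1 := by
          rw [map_mul, map_inv, hc'eq, map_mul, map_mul, map_inv]
          group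
        have h2 : (⟨c', hc'A⟩⁻¹ * (⟨α, hαA⟩ * ⟨c, hcA⟩ * ⟨α, hαA⟩⁻¹) : A) ∈ I :=
          (QuotientGroup.eq_one_iff _).mp h1
        have h3 : c'⁻¹ * (α * c * α⁻¹) ∈ Inn R := h2
        have h4 : Inn R ≤ autInducedBy S R := by
          rintro _ ⟨x, rfl⟩
          rw [autInducedBy_eq_map]
          exact ⟨⟨x, Subgroup.le_normalizer x.2⟩, hRS x.2, by ext y; rfl⟩
        have h5 := (autInducedBy S R).mul_mem hc'S (h4 h3)
        rwa [mul_inv_cancel_left] at h5
      rw [autInducedBy_eq_map] at hcS hmem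
      obtain ⟨n, hnS, hnc⟩ := hcS
      obtain ⟨m, hmS, hmc⟩ := hmem
      have hnS' : (n : Ω) ∈ S := hnS
      have hmS' : (m : Ω) ∈ S := hmS
      -- n is in the extender of α
      have hnext : (n : Ω) ∈ extender S R (autHom α) := by
        apply Subgroup.subset_closure
        refine ⟨hnS', n.2, (m : Ω), hmS', ?_⟩
        intro x hx
        have h1 := congrArg (fun β : MulAut R => ((β (α x) : R) : Ω)) hmc
        simp only [MulAut.mul_apply, MulAut.inv_apply_self] at h1
        rw [normalizerMonoidHom_coe, ← hnc] at h1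
        show ((α ⟨(n : Ω) * x * (n : Ω)⁻¹, hx⟩ : R) : Ω) = (m : Ω) * ((α x : R) : Ω) * (m : Ω)⁻¹
        rw [h1]
        rfl
      have hnR : (n : Ω) ∉ R := by
        intro hnR
        apply hu1
        have : (⟨c, hcA⟩ : A) ∈ I := by
          show c ∈ Inn R
          rw [← hnc]
          exact ⟨⟨n, hnR⟩, by ext y; rfl⟩
        exact (QuotientGroup.eq_one_iff _).mpr this
      have hαmem : autHom α ∈ F.Hom R := (mem_autGroup_iff F hRS α).mp hαA
      have hαH : α ∈ H :=
        Subgroup.subset_closure (extendsProperly_of_extender F hrec α hαmem hnext hnR)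
      exact ⟨⟨α, hαA⟩, hαH, rfl⟩
    rw [hΓ] at hΓle
    -- conclude
    intro α hαA
    have h1 : QuotientGroup.mk' I ⟨α, hαA⟩ ∈ Hbar := hΓle (Subgroup.mem_top _)
    obtain ⟨⟨β, hβA⟩, hβH, hβeq⟩ := h1
    have hβH' : β ∈ H := hβH
    have h2 : (⟨β, hβA⟩⁻¹ * ⟨α, hαA⟩ : A) ∈ I := by
      apply (QuotientGroup.eq_one_iff _).mp
      show QuotientGroup.mk' I (⟨β, hβA⟩⁻¹ * ⟨α, hαA⟩) = 1
      rw [map_mul, map_inv, hβeq]
      group
    have h3 : β⁻¹ * α ∈ Inn R := h2
    obtain ⟨x, hx⟩ := h3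
    have h4 : β⁻¹ * α ∈ H := by
      rw [← hx]
      exact Subgroup.subset_closure (inn_extendsProperly F hRS hne x)
    have h5 := H.mul_mem hβH' h4
    rwa [mul_inv_cancel_left] at h5
  · -- non-centric case: every automorphism extends to R C_S(R)
    obtain ⟨c, hcC, hcR⟩ := SetLike.not_le_iff_exists.mp hC
    intro α hαA
    have hαmem : autHom α ∈ F.Hom R := (mem_autGroup_iff F hRS α).mp hαA
    have hcext : c ∈ extender S R (autHom α) :=
      Cfsg.Agent.S5104.centralizerIn_le_extender R (autHom α) hcC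
    exact Subgroup.subset_closure (extendsProperly_of_extender F hrec α hαmem hcext hcR)

end Cfsg.Agent.Helper25
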