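import Mathlib
import Cfsg.Agent.Helper25.FusionAlperin
import Cfsg.Agent.S5079
import Cfsg.Agent.S5077

set_option autoImplicit false

namespace Cfsg.Agent.Helper25

open Cfsg Cfsg.FusionSystem

variable {Ω : Type*} [Group Ω] {S : Subgroup Ω}

/-- A map of the system defined on all of `S` is an automorphism of `S`. -/
theorem range_eq_of_hom_top [Finite S] (F : FusionSystem S) {φ : S →* Ω} (hφ : φ ∈ F.Hom S) :
    φ.range = S := by
  have hle : φ.range ≤ S := by
    rintro _ ⟨x, rfl⟩
    exact (F.le_of_mem hφ).2 x
  have hinj := F.injective_of_mem hφ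
  have hfin : Finite φ.range := finite_of_le hle
  have hcard : Nat.card S ≤ Nat.card φ.range :=
    Nat.card_le_card_of_injective (fun x => (⟨φ x, x, rfl⟩ : φ.range))
      (fun x y hxy => hinj (congrArg Subtype.val hxy))
  exact Subgroup.eq_of_le_of_card_ge hle hcard

/-- `F`-conjugate subgroups have the same order. -/
theorem card_eq_of_isConj [Finite S] (F : FusionSystem S) {P Q : Subgroup Ω} (h : F.IsConj P Q) :
    Nat.card P = Nat.card Q := by
  obtain ⟨ψ, hψ, hr⟩ := h
  exact Nat.card_congr (isoOfHom ψ (F.injective_of_mem hψ) hr).toEquiv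

theorem card_lt_of_lt [Finite S] {P Q : Subgroup Ω} (hQS : Q ≤ S) (h : P < Q) :
    Nat.card P < Nat.card Q := by
  have hfin : Finite Q := finite_of_le hQS
  by_contra hcon
  push Not at hcon
  exact h.ne (Subgroup.eq_of_le_of_card_ge h.le hcon)

/-- Alperin–Goldschmidt fusion theorem. -/
theorem alperin_le [Finite S] (p : ℕ) [Fact p.Prime] (hS : IsPGroup p S) (F : FusionSystem S)
    (hF : F.IsSaturated p) (E : FusionSystem S)
    (hE : ∀ P : Subgroup Ω, (P = S ∨ F.IsEssential p P) → F.autGroup P ≤ E.autGroup P) :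
    F ≤ E := by
  have key : ∀ n : ℕ, ∀ P : Subgroup Ω, P ≤ S → Nat.card S - Nat.card P = n →
      F.Hom P ⊆ E.Hom P := by
    intro n
    induction n using Nat.strong_induction_on with
    | _ n ih =>
      intro P hPS hn φ hφ
      have hcardle : ∀ Q : Subgroup Ω, Q ≤ S → Nat.card Q ≤ Nat.card S := fun Q hQS =>
        Nat.card_le_card_of_injective (Subgroup.inclusion hQS) (Subgroup.inclusion_injective _)
      have IH : ∀ Q : Subgroup Ω, Q ≤ S → Nat.card P < Nat.card Q → F.Hom Q ⊆ E.Hom Q := by
        intro Q hQS hlt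
        have hQle := hcardle Q hQS
        exact ih (Nat.card S - Nat.card Q) (by omega) Q hQS rfl
      by_cases hPeq : P = S
      · subst hPeq
        have hr := range_eq_of_hom_top F hφ
        set α : MulAut P := isoOfHom φ (F.injective_of_mem hφ) hr
        have hα : autHom α = φ := by ext x; rfl
        have h1 : α ∈ F.autGroup P := Subgroup.subset_closure (by
          show autHom α ∈ F.Hom P
          rw [hα]; exact hφ)
        have h2 := hE P (Or.inl rfl) h1
        rw [mem_autGroup_iff E le_rfl] at h2
        rwa [hα] at h2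
      · obtain ⟨R, hPR, hFN⟩ := exists_isConj_fullyNormalized F hPS
        have hRS : R ≤ S := hFN.1
        have hcardR : Nat.card R = Nat.card P := (card_eq_of_isConj F hPR).symm
        have hPcard : ¬ Nat.card S ≤ Nat.card P := fun h =>
          hPeq (Subgroup.eq_of_le_of_card_ge hPS h)
        have hRne : R ≠ S := by
          rintro rfl
          exact hPcard hcardR.le
        obtain ⟨hFC, hFA⟩ := Cfsg.Agent.S5077.sylow_axiom p hS F hF R hFN
        have hrec := Cfsg.Agent.S5077.extension_axiom p hS F hF R hFC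
        -- Sub-claim A
        have hA : F.autGroup R ≤ E.autGroup R := by
          by_cases hess : F.IsEssential p R
          · exact hE R (Or.inr hess)
          · refine (autGroup_le_closure_extendsProperly p hS F hF hFN hRne hess).trans ?_
            rw [Subgroup.closure_le]
            rintro α ⟨Q, hRQ, χ, hχ, hχα⟩
            have hQS : Q ≤ S := (F.le_of_mem hχ).1
            have hχE : χ ∈ E.Hom Q :=
              IH Q hQS (by rw [← hcardR]; exact card_lt_of_lt hQS hRQ) hχ
            have h1 := restrict_mem E hRQ.le hχE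
            have h2 : χ.comp (Subgroup.inclusion hRQ.le) = autHom α := by
              ext x; exact hχα x
            rw [h2] at h1
            exact Subgroup.subset_closure h1
        -- Sub-claim B
        have hB : ∀ P' : Subgroup Ω, F.IsConj P' R →
            ∃ ψ : P' →* Ω, ψ ∈ F.Hom P' ∧ ψ ∈ E.Hom P' ∧ ψ.range = R := by
          intro P' hP'R
          have hP'S : P' ≤ S := (isConj_le F hP'R).1
          have hcardP' : Nat.card P' = Nat.card P := (card_eq_of_isConj F hP'R).trans hcardR
          have hP'ne : P' ≠ S := by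
            rintro rfl
            exact hPcard hcardP'.le
          obtain ⟨χ, hχ, hχN, hχmap⟩ := Cfsg.Agent.S5079.result p hS F R P' hFA hrec hP'R
          obtain ⟨g, hgN, hgP'⟩ := exists_mem_normalizerIn_not_mem p hS hP'S hP'ne
          have hP'N : P' ≤ normalizerIn S P' := fun x hx => ⟨hP'S hx, Subgroup.le_normalizer hx⟩
          have hlt : P' < normalizerIn S P' := lt_of_le_of_ne hP'N (fun h => hgP' (h ▸ hgN))
          have hNS : normalizerIn S P' ≤ S := inf_le_left
          have hχE : χ ∈ E.Hom _ :=
            IH _ hNS (by rw [← hcardP']; exact card_lt_of_lt hNS hlt) hχ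
          refine ⟨χ.comp (Subgroup.inclusion hP'N), restrict_mem F hP'N hχ,
            restrict_mem E hP'N hχE, ?_⟩
          rw [← hχmap]
          ext y
          constructor
          · rintro ⟨x, rfl⟩
            exact ⟨Subgroup.inclusion hP'N x, x.2, rfl⟩
          · rintro ⟨x, hx, rfl⟩
            exact ⟨⟨x, hx⟩, rfl⟩
        -- apply
        have hPP' : F.IsConj P φ.range := ⟨φ, hφ, rfl⟩
        obtain ⟨ψ₁, hψ₁F, hψ₁E, hr₁⟩ := hB P hPR
        obtain ⟨ψ₂, hψ₂F, hψ₂E, hr₂⟩ := hB φ.range (isConj_trans F (isConj_symm F hPP') hPR)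
        let e₀ := isoOfHom φ (F.injective_of_mem hφ) rfl
        let e₁ := isoOfHom ψ₁ (F.injective_of_mem hψ₁F) hr₁
        let e₂ := isoOfHom ψ₂ (F.injective_of_mem hψ₂F) hr₂
        let α : MulAut R := e₁.symm.trans (e₀.trans e₂)
        have hαF : autHom α ∈ F.Hom R := by
          have h1 := isoOfHom_symm_mem F hψ₁F hr₁
          have h2 : φ.range.subtype.comp (e₀.toMonoidHom.comp e₁.symm.toMonoidHom) ∈ F.Hom R :=
            comp_mem' F h1 hφ (fun x => (e₁.symm x).2) (fun x => rfl)
          exact comp_mem' F h2 hψ₂F (fun x => (e₀ (e₁.symm x)).2) (fun x => rfl)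
        have hαE : autHom α ∈ E.Hom R :=
          (mem_autGroup_iff E hRS α).mp (hA ((mem_autGroup_iff F hRS α).mpr hαF))
        have h3 := isoOfHom_symm_mem E hψ₂E hr₂
        have h4 : (autHom α).comp e₁.toMonoidHom ∈ E.Hom P :=
          comp_mem' E hψ₁E hαE (fun x => (e₁ x).2) (fun x => rfl)
        refine comp_mem' E h4 h3 (fun x => (α (e₁ x)).2) (fun x => ?_)
        show φ x = ((e₂.symm (α (e₁ x)) : φ.range) : Ω)
        have h5 : α (e₁ x) = e₂ (e₀ x) := by
          show e₂ (e₀ (e₁.symm (e₁ x))) = _
          rw [MulEquiv.symm_apply_apply]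
        rw [h5, MulEquiv.symm_apply_apply]
        rfl
  intro P φ hφ
  exact key _ P (F.le_of_mem hφ).1 rfl hφ

end Cfsg.Agent.Helper25
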