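import Mathlib
import Cfsg.Agent.Helper25.FusionBasic

set_option autoImplicit false

namespace Cfsg.Agent.Helper25

open Cfsg Cfsg.FusionSystem

variable {Ω : Type*} [Group Ω] {S : Subgroup Ω}

/-- The range of a map on `P ⊔ Q` is the join of the images of `P` and `Q`. -/
theorem range_sup_eq {P Q : Subgroup Ω} (ψ : ↥(P ⊔ Q) →* Ω) :
    ψ.range = (P.subgroupOf (P ⊔ Q)).map ψ ⊔ (Q.subgroupOf (P ⊔ Q)).map ψ := by
  rw [← Subgroup.map_sup, ← Subgroup.subgroupOf_sup le_sup_left le_sup_right,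
    Subgroup.subgroupOf_self, MonoidHom.range_eq_map]

/-- The image of `P` under an extension `ψ` of `φ` is the range of `φ`. -/
theorem map_subgroupOf_eq_range {P Q : Subgroup Ω} (ψ : ↥(P ⊔ Q) →* Ω) (φ : P →* Ω)
    (h : ∀ x : P, ψ (Subgroup.inclusion le_sup_left x) = φ x) :
    (P.subgroupOf (P ⊔ Q)).map ψ = φ.range := by
  ext y
  constructor
  · rintro ⟨x, hx, rfl⟩
    exact ⟨⟨x, hx⟩, (h ⟨x, hx⟩).symm⟩
  · rintro ⟨x, rfl⟩
    exact ⟨Subgroup.inclusion le_sup_left x, x.2, h x⟩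

/-- The normalizer system exists. -/
def normalizerSystem (F : FusionSystem S) (Q : Subgroup Ω) (hQ : Q ≤ S) :
    FusionSystem (normalizerIn S Q) where
  Hom P := F.normalizerHom Q P
  le_of_mem := by
    rintro P φ ⟨-, hP, hφ, -⟩
    exact ⟨hP, hφ⟩
  injective_of_mem := by
    rintro P φ ⟨hφ, -⟩
    exact F.injective_of_mem hφ
  conj_mem := by
    intro P g hP hg
    have hPS : P ≤ S := hP.trans inf_le_left
    have hgS : g ∈ S := hg.1
    have hgN : g ∈ Subgroup.normalizer (Q : Set Ω) := hg.2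
    refine ⟨F.conj_mem hPS hgS, hP, ?_, conjHom (P ⊔ Q) g, F.conj_mem (sup_le hPS hQ) hgS, ?_, ?_⟩
    · intro x
      show g * (x : Ω) * g⁻¹ ∈ normalizerIn S Q
      exact Subgroup.mul_mem _ (Subgroup.mul_mem _ hg (hP x.2)) (Subgroup.inv_mem _ hg)
    · intro x
      rfl
    · ext y
      constructor
      · rintro ⟨x, hx, rfl⟩
        have hxQ : (x : Ω) ∈ Q := hx
        show g * (x : Ω) * g⁻¹ ∈ Q
        exact (Subgroup.mem_normalizer_iff.mp hgN _).mp hxQ
      · intro hy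
        have h1 : g⁻¹ * y * g⁻¹⁻¹ ∈ Q :=
          (Subgroup.mem_normalizer_iff.mp (Subgroup.inv_mem _ hgN) _).mp hy
        refine ⟨⟨g⁻¹ * y * g⁻¹⁻¹, (le_sup_right : Q ≤ P ⊔ Q) h1⟩, h1, ?_⟩
        show g * (g⁻¹ * y * g⁻¹⁻¹) * g⁻¹ = y
        group
  comp_mem := by
    rintro P R φ ψ ⟨hφ, hP, hφN, φ', hφ', hφ'P, hφ'Q⟩ ⟨hψ, hR, hψN, ψ', hψ', hψ'R, hψ'Q⟩ h
    refine ⟨F.comp_mem hφ hψ h, hP, fun x => hψN _, ?_⟩
    -- φ' has values in R ⊔ Q
    have hval : ∀ x : ↥(P ⊔ Q), φ' x ∈ R ⊔ Q := by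
      intro x
      have hx : φ' x ∈ φ'.range := ⟨x, rfl⟩
      rw [range_sup_eq, map_subgroupOf_eq_range φ' φ hφ'P, hφ'Q] at hx
      refine (sup_le_sup_right ?_ Q) hx
      rintro _ ⟨z, rfl⟩
      exact h z
    refine ⟨ψ'.comp (φ'.codRestrict (R ⊔ Q) hval), F.comp_mem hφ' hψ' hval, ?_, ?_⟩
    · intro x
      show ψ' ⟨φ' (Subgroup.inclusion le_sup_left x), _⟩ = ψ ⟨φ x, _⟩
      rw [← hψ'R]
      congr 1
      apply Subtype.ext
      exact hφ'P x
    · ext y
      constructor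
      · rintro ⟨x, hx, rfl⟩
        have hxQ : (x : Ω) ∈ Q := hx
        have h1 : φ' x ∈ Q := by
          have : φ' x ∈ (Q.subgroupOf (P ⊔ Q)).map φ' := ⟨x, hx, rfl⟩
          rw [hφ'Q] at this
          exact this
        have h2 : ψ' ⟨φ' x, hval x⟩ ∈ (Q.subgroupOf (R ⊔ Q)).map ψ' := ⟨⟨φ' x, hval x⟩, h1, rfl⟩
        rw [hψ'Q] at h2
        exact h2
      · intro hy
        have hy' : y ∈ (Q.subgroupOf (R ⊔ Q)).map ψ' := hψ'Q.symm ▸ hy
        obtain ⟨z, hz, rfl⟩ := hy'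
        have hzQ : (z : Ω) ∈ Q := hz
        have hz' : (z : Ω) ∈ (Q.subgroupOf (P ⊔ Q)).map φ' := hφ'Q.symm ▸ hzQ
        obtain ⟨x, hx, hxz⟩ := hz'
        refine ⟨x, hx, ?_⟩
        show ψ' ⟨φ' x, hval x⟩ = ψ' z
        congr 1
        apply Subtype.ext
        exact hxz
  inv_mem := by
    rintro P φ ⟨hφ, hP, hφN, φ', hφ', hφ'P, hφ'Q⟩
    obtain ⟨χ, hχ, hχinv⟩ := F.inv_mem hφ'
    have hrange : φ'.range = φ.range ⊔ Q := by
      rw [range_sup_eq, map_subgroupOf_eq_range φ' φ hφ'P, hφ'Q]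
    have hle : φ.range ≤ φ'.range := by rw [hrange]; exact le_sup_left
    refine ⟨χ.comp (Subgroup.inclusion hle), ⟨restrict_mem F hle hχ, ?_, ?_, ?_⟩, ?_⟩
    · rintro _ ⟨x, rfl⟩
      exact hφN x
    · rintro ⟨_, x, rfl⟩
      have : χ (Subgroup.inclusion hle ⟨φ x, ⟨x, rfl⟩⟩) = (x : Ω) := by
        have h1 := hχinv (Subgroup.inclusion le_sup_left x)
        refine Eq.trans ?_ h1
        congr 1
        apply Subtype.ext
        exact (hφ'P x).symm
      show χ (Subgroup.inclusion hle ⟨φ x, ⟨x, rfl⟩⟩) ∈ normalizerIn S Q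
      rw [this]
      exact hP x.2
    · refine ⟨χ.comp (Subgroup.inclusion hrange.ge), cast_mem F hrange.symm hχ, ?_, ?_⟩
      · intro x
        rfl
      · ext y
        constructor
        · rintro ⟨x, hx, rfl⟩
          have hxQ : (x : Ω) ∈ Q := hx
          have hx' : (x : Ω) ∈ (Q.subgroupOf (P ⊔ Q)).map φ' := hφ'Q.symm ▸ hxQ
          obtain ⟨z, hz, hzx⟩ := hx'
          have h1 := hχinv z
          have : χ (Subgroup.inclusion hrange.ge x) = (z : Ω) := by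
            rw [← h1]
            congr 1
            apply Subtype.ext
            exact hzx.symm
          show χ (Subgroup.inclusion hrange.ge x) ∈ Q
          rw [this]
          exact hz
        · intro hy
          have hy' : y ∈ P ⊔ Q := (le_sup_right : Q ≤ P ⊔ Q) hy
          have h1 : φ' ⟨y, hy'⟩ ∈ Q := by
            have : φ' ⟨y, hy'⟩ ∈ (Q.subgroupOf (P ⊔ Q)).map φ' := ⟨⟨y, hy'⟩, hy, rfl⟩
            rw [hφ'Q] at this
            exact this
          refine ⟨⟨φ' ⟨y, hy'⟩, (le_sup_right : Q ≤ φ.range ⊔ Q) h1⟩, h1, ?_⟩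
          have h2 := hχinv ⟨y, hy'⟩
          show χ (Subgroup.inclusion hrange.ge ⟨φ' ⟨y, hy'⟩, _⟩) = y
          exact h2
    · intro x
      have h1 := hχinv (Subgroup.inclusion le_sup_left x)
      show χ (Subgroup.inclusion hle ⟨φ x, ⟨x, rfl⟩⟩) = (x : Ω)
      refine Eq.trans ?_ h1
      congr 1
      apply Subtype.ext
      exact (hφ'P x).symm

/-- If `ψ` on `P ⊔ Q` fixes `Q` elementwise then the image of `Q` is `Q`. -/
theorem map_subgroupOf_eq_of_fix {P Q : Subgroup Ω} (ψ : ↥(P ⊔ Q) →* Ω)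
    (h : ∀ x : Q, ψ (Subgroup.inclusion le_sup_right x) = x) :
    (Q.subgroupOf (P ⊔ Q)).map ψ = Q := by
  ext y
  constructor
  · rintro ⟨x, hx, rfl⟩
    have := h ⟨x, hx⟩
    have h2 : ψ x = (x : Ω) := this
    rw [h2]
    exact hx
  · intro hy
    exact ⟨Subgroup.inclusion le_sup_right ⟨y, hy⟩, hy, h ⟨y, hy⟩⟩

/-- The centralizer system exists. -/
def centralizerSystem (F : FusionSystem S) (Q : Subgroup Ω) (hQ : Q ≤ S) :
    FusionSystem (centralizerIn S Q) where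
  Hom P := F.centralizerHom Q P
  le_of_mem := by
    rintro P φ ⟨-, hP, hφ, -⟩
    exact ⟨hP, hφ⟩
  injective_of_mem := by
    rintro P φ ⟨hφ, -⟩
    exact F.injective_of_mem hφ
  conj_mem := by
    intro P g hP hg
    have hPS : P ≤ S := hP.trans inf_le_left
    have hgS : g ∈ S := hg.1
    have hgC : g ∈ Subgroup.centralizer (Q : Set Ω) := hg.2
    refine ⟨F.conj_mem hPS hgS, hP, ?_, conjHom (P ⊔ Q) g, F.conj_mem (sup_le hPS hQ) hgS, ?_, ?_⟩
    · intro x
      show g * (x : Ω) * g⁻¹ ∈ centralizerIn S Q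
      exact Subgroup.mul_mem _ (Subgroup.mul_mem _ hg (hP x.2)) (Subgroup.inv_mem _ hg)
    · intro x
      rfl
    · intro x
      show g * (x : Ω) * g⁻¹ = x
      have := hgC (x : Ω) x.2
      rw [← this, mul_inv_cancel_right]
  comp_mem := by
    rintro P R φ ψ ⟨hφ, hP, hφN, φ', hφ', hφ'P, hφ'Q⟩ ⟨hψ, hR, hψN, ψ', hψ', hψ'R, hψ'Q⟩ h
    refine ⟨F.comp_mem hφ hψ h, hP, fun x => hψN _, ?_⟩
    have hval : ∀ x : ↥(P ⊔ Q), φ' x ∈ R ⊔ Q := by
      intro x
      have hx : φ' x ∈ φ'.range := ⟨x, rfl⟩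
      rw [range_sup_eq, map_subgroupOf_eq_range φ' φ hφ'P, map_subgroupOf_eq_of_fix φ' hφ'Q] at hx
      refine (sup_le_sup_right ?_ Q) hx
      rintro _ ⟨z, rfl⟩
      exact h z
    refine ⟨ψ'.comp (φ'.codRestrict (R ⊔ Q) hval), F.comp_mem hφ' hψ' hval, ?_, ?_⟩
    · intro x
      show ψ' ⟨φ' (Subgroup.inclusion le_sup_left x), _⟩ = ψ ⟨φ x, _⟩
      rw [← hψ'R]
      congr 1
      apply Subtype.ext
      exact hφ'P x
    · intro x
      show ψ' ⟨φ' (Subgroup.inclusion le_sup_right x), _⟩ = x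
      refine Eq.trans ?_ (hψ'Q x)
      congr 1
      apply Subtype.ext
      exact hφ'Q x
  inv_mem := by
    rintro P φ ⟨hφ, hP, hφN, φ', hφ', hφ'P, hφ'Q⟩
    obtain ⟨χ, hχ, hχinv⟩ := F.inv_mem hφ'
    have hrange : φ'.range = φ.range ⊔ Q := by
      rw [range_sup_eq, map_subgroupOf_eq_range φ' φ hφ'P, map_subgroupOf_eq_of_fix φ' hφ'Q]
    have hle : φ.range ≤ φ'.range := by rw [hrange]; exact le_sup_left
    refine ⟨χ.comp (Subgroup.inclusion hle), ⟨restrict_mem F hle hχ, ?_, ?_, ?_⟩, ?_⟩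
    · rintro _ ⟨x, rfl⟩
      exact hφN x
    · rintro ⟨_, x, rfl⟩
      have : χ (Subgroup.inclusion hle ⟨φ x, ⟨x, rfl⟩⟩) = (x : Ω) := by
        have h1 := hχinv (Subgroup.inclusion le_sup_left x)
        refine Eq.trans ?_ h1
        congr 1
        apply Subtype.ext
        exact (hφ'P x).symm
      show χ (Subgroup.inclusion hle ⟨φ x, ⟨x, rfl⟩⟩) ∈ centralizerIn S Q
      rw [this]
      exact hP x.2
    · refine ⟨χ.comp (Subgroup.inclusion hrange.ge), cast_mem F hrange.symm hχ, ?_, ?_⟩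
      · intro x
        rfl
      · intro x
        have h1 := hχinv (Subgroup.inclusion le_sup_right x)
        show χ (Subgroup.inclusion hrange.ge (Subgroup.inclusion le_sup_right x)) = x
        refine Eq.trans ?_ h1
        congr 1
        apply Subtype.ext
        exact (hφ'Q x).symm
    · intro x
      have h1 := hχinv (Subgroup.inclusion le_sup_left x)
      show χ (Subgroup.inclusion hle ⟨φ x, ⟨x, rfl⟩⟩) = (x : Ω)
      refine Eq.trans ?_ h1
      congr 1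
      apply Subtype.ext
      exact (hφ'P x).symm

theorem normalizerSystem_isNormalizerSystem (F : FusionSystem S) (Q : Subgroup Ω) (hQ : Q ≤ S) :
    F.IsNormalizerSystem Q (normalizerSystem F Q hQ) := fun _ => rfl

theorem centralizerSystem_isCentralizerSystem (F : FusionSystem S) (Q : Subgroup Ω) (hQ : Q ≤ S) :
    F.IsCentralizerSystem Q (centralizerSystem F Q hQ) := fun _ => rfl

end Cfsg.Agent.Helper25
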