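import Mathlib
import Cfsg.Agent.Helper25.FusionNC
import Cfsg.Agent.Helper25.FusionAlperin2

set_option autoImplicit false

namespace Cfsg.Agent.Helper25

open Cfsg Cfsg.FusionSystem

variable {Ω : Type*} [Group Ω] {S : Subgroup Ω}

/-- Transport of a fusion system along an equality of the underlying subgroup. -/
def castSystem {T : Subgroup Ω} (h : T = S) (E : FusionSystem T) : FusionSystem S := h ▸ E

theorem castSystem_Hom {T : Subgroup Ω} (h : T = S) (E : FusionSystem T) (P : Subgroup Ω) :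
    (castSystem h E).Hom P = E.Hom P := by
  subst h
  rfl

theorem mem_autInducedBy_iff (K P : Subgroup Ω) (α : MulAut P) :
    α ∈ autInducedBy K P ↔ ∃ g ∈ K, ∀ x : P, ((α x : P) : Ω) = g * (x : Ω) * g⁻¹ := by
  constructor
  · rw [autInducedBy_eq_map]
    rintro ⟨n, hn, rfl⟩
    exact ⟨(n : Ω), hn, fun x => rfl⟩
  · intro h
    exact Subgroup.subset_closure h

/-- A subgroup normal in the system is normalized by `S`. -/
theorem le_normalizer_of_isNormal (F : FusionSystem S) {Q : Subgroup Ω} (hQ : F.IsNormal Q) :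
    S ≤ Subgroup.normalizer (Q : Set Ω) := by
  have key : ∀ g ∈ S, ∀ x ∈ Q, g * x * g⁻¹ ∈ Q := by
    intro g hg x hx
    obtain ⟨ψ, hψ, hext, hmap⟩ := hQ.2 S (conjHom S g) (F.conj_mem le_rfl hg)
    have hxS : x ∈ S := hQ.1 hx
    have h1 := hext ⟨x, hxS⟩
    have h2 : ψ (Subgroup.inclusion le_sup_left ⟨x, hxS⟩) ∈ (Q.subgroupOf (S ⊔ Q)).map ψ :=
      ⟨_, hx, rfl⟩
    rw [hmap, h1] at h2
    exact h2
  intro g hg
  rw [Subgroup.mem_normalizer_iff]
  intro x
  constructor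
  · exact key g hg x
  · intro hx
    have := key g⁻¹ (S.inv_mem hg) _ hx
    have e : g⁻¹ * (g * x * g⁻¹) * g⁻¹⁻¹ = x := by group
    rwa [e] at this

/-- A subgroup normal in the system is strongly closed. -/
theorem stronglyClosed_of_isNormal (F : FusionSystem S) {Q : Subgroup Ω} (hQ : F.IsNormal Q) :
    F.StronglyClosed Q := by
  refine ⟨hQ.1, fun R hRQ φ hφ x => ?_⟩
  obtain ⟨ψ, hψ, hext, hmap⟩ := hQ.2 R φ hφ
  have h2 : ψ (Subgroup.inclusion le_sup_left x) ∈ (Q.subgroupOf (R ⊔ Q)).map ψ :=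
    ⟨_, hRQ x.2, rfl⟩
  rw [hmap, hext] at h2
  exact h2

/-- Automorphisms in the system preserve strongly closed subgroups. -/
theorem map_autGroup_eq_of_stronglyClosed (F : FusionSystem S) {Q P : Subgroup Ω}
    (hQ : F.StronglyClosed Q) (hPS : P ≤ S) (α : MulAut P) (hα : α ∈ F.autGroup P) :
    (Q.subgroupOf P).map α.toMonoidHom = Q.subgroupOf P := by
  have key : ∀ β : MulAut P, β ∈ F.autGroup P → ∀ x : P, (x : Ω) ∈ Q → ((β x : P) : Ω) ∈ Q := by
    intro β hβ x hx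
    have hβ' : autHom β ∈ F.Hom P := (mem_autGroup_iff F hPS β).mp hβ
    have h1 := restrict_mem F (inf_le_left : P ⊓ Q ≤ P) hβ'
    exact hQ.2 (P ⊓ Q) inf_le_right _ h1 ⟨x, x.2, hx⟩
  ext y
  constructor
  · rintro ⟨x, hx, rfl⟩
    exact key α hα x hx
  · intro hy
    refine ⟨α⁻¹ y, key α⁻¹ ((F.autGroup P).inv_mem hα) y hy, ?_⟩
    simp

/-- Criterion for normality via the Alperin–Goldschmidt theorem. -/
theorem isNormal_of_alperin [Finite S] (p : ℕ) [Fact p.Prime] (hS : IsPGroup p S)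
    (F : FusionSystem S) (hF : F.IsSaturated p) (Q : Subgroup Ω)
    (h : ∀ P : Subgroup Ω, (P = S ∨ F.IsEssential p P) →
      Q ≤ P ∧ ∀ α ∈ F.autGroup P, (Q.subgroupOf P).map α.toMonoidHom = Q.subgroupOf P) :
    F.IsNormal Q := by
  have hQS : Q ≤ S := (h S (Or.inl rfl)).1
  -- `S` normalizes `Q`
  have hSN : S ≤ Subgroup.normalizer (Q : Set Ω) := by
    have key : ∀ g ∈ S, ∀ x ∈ Q, g * x * g⁻¹ ∈ Q := by
      intro g hg x hx
      have hgN : g ∈ Subgroup.normalizer (S : Set Ω) := Subgroup.le_normalizer hg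
      have hmem : S.normalizerMonoidHom ⟨g, hgN⟩ ∈ F.autGroup S := by
        apply autInducedBy_le_autGroup F le_rfl
        rw [mem_autInducedBy_iff]
        exact ⟨g, hg, fun x => rfl⟩
      have h1 := (h S (Or.inl rfl)).2 _ hmem
      have h2 : S.normalizerMonoidHom ⟨g, hgN⟩ ⟨x, hQS hx⟩ ∈
          (Q.subgroupOf S).map (S.normalizerMonoidHom ⟨g, hgN⟩).toMonoidHom := ⟨_, hx, rfl⟩
      rw [h1] at h2
      exact h2
    intro g hg
    rw [Subgroup.mem_normalizer_iff]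
    intro x
    constructor
    · exact key g hg x
    · intro hx
      have := key g⁻¹ (S.inv_mem hg) _ hx
      have e : g⁻¹ * (g * x * g⁻¹) * g⁻¹⁻¹ = x := by group
      rwa [e] at this
  have hN : normalizerIn S Q = S := inf_eq_left.mpr hSN
  set E : FusionSystem S := castSystem hN (normalizerSystem F Q hQS) with hE
  have hEHom : ∀ P, E.Hom P = F.normalizerHom Q P := fun P => castSystem_Hom hN _ P
  have hle : F ≤ E := by
    apply alperin_le p hS F hF E
    intro P hP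
    obtain ⟨hQP, hinv⟩ := h P hP
    have hPS : P ≤ S := by
      rcases hP with rfl | hP
      · exact le_rfl
      · exact hP.2.1.1
    intro α hα
    rw [mem_autGroup_iff E hPS, hEHom]
    have hα' : autHom α ∈ F.Hom P := (mem_autGroup_iff F hPS α).mp hα
    have hsup : P ⊔ Q = P := sup_eq_left.mpr hQP
    refine ⟨hα', hPS.trans hN.ge, fun x => hN.ge (hPS (α x).2), (autHom α).comp (Subgroup.inclusion hsup.le),
      cast_mem F hsup hα', fun x => ?_, ?_⟩
    · rfl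
    · have h1 := hinv α hα
      ext y
      constructor
      · rintro ⟨x, hx, rfl⟩
        have h2 : α (Subgroup.inclusion hsup.le x) ∈ (Q.subgroupOf P).map α.toMonoidHom :=
          ⟨_, hx, rfl⟩
        rw [h1] at h2
        exact h2
      · intro hy
        have h2 : (⟨y, hQP hy⟩ : P) ∈ (Q.subgroupOf P).map α.toMonoidHom := by
          rw [h1]; exact hy
        obtain ⟨x, hx, hxy⟩ := h2
        refine ⟨Subgroup.inclusion (le_sup_left : P ≤ P ⊔ Q) x, hx, ?_⟩
        show ((α _ : P) : Ω) = y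
        have : Subgroup.inclusion hsup.le (Subgroup.inclusion (le_sup_left : P ≤ P ⊔ Q) x) = x := rfl
        rw [this]
        exact congrArg Subtype.val hxy
  refine ⟨hQS, fun P φ hφ => ?_⟩
  have h1 := hle P hφ
  rw [hEHom] at h1
  exact h1.2.2.2

/-- "O_p(Aut_F(P)) ≤ Inn(P)" in elementary form. -/
def OpAutLeInn (F : FusionSystem S) (p : ℕ) (P : Subgroup Ω) : Prop :=
  ∀ K : Subgroup (MulAut P), K ≤ F.autGroup P →
    (∀ α ∈ F.autGroup P, ∀ k ∈ K, α * k * α⁻¹ ∈ K) → IsPGroup p K → K ≤ Inn P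

theorem opAutLeInn_of_isEssential (F : FusionSystem S) (p : ℕ) [Fact p.Prime] {P : Subgroup Ω}
    (hP : F.IsEssential p P) : OpAutLeInn F p P := by
  obtain ⟨-, -, hN, E, hE⟩ := hP
  intro K hKA hnorm hKp
  have hKn : (K.subgroupOf (F.autGroup P)).Normal :=
    ⟨fun k hk a => hnorm a a.2 k hk⟩
  have hKbarN : ((K.subgroupOf (F.autGroup P)).map
      (QuotientGroup.mk' ((Inn P).subgroupOf (F.autGroup P)))).Normal :=
    hKn.map _ (QuotientGroup.mk'_surjective _)
  have hKbarp : IsPGroup p ((K.subgroupOf (F.autGroup P)).map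
      (QuotientGroup.mk' ((Inn P).subgroupOf (F.autGroup P)))) :=
    (IsPGroup.comap_subtype (H := K) hKp (K := F.autGroup P)).map _
  have h0 := normal_pSubgroup_eq_bot_of_stronglyPEmbedded p hE _ hKbarp
  intro k hk
  have h1 : QuotientGroup.mk' ((Inn P).subgroupOf (F.autGroup P)) ⟨k, hKA hk⟩ ∈
      (K.subgroupOf (F.autGroup P)).map
        (QuotientGroup.mk' ((Inn P).subgroupOf (F.autGroup P))) := ⟨_, hk, rfl⟩
  rw [h0, Subgroup.mem_bot] at h1
  have h2 : (⟨k, hKA hk⟩ : F.autGroup P) ∈ (Inn P).subgroupOf (F.autGroup P) :=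
    (QuotientGroup.eq_one_iff _).mp h1
  exact h2

theorem opAutLeInn_of_isRadical (F : FusionSystem S) (p : ℕ) {P : Subgroup Ω}
    (hP : F.IsRadical p P) : OpAutLeInn F p P := by
  intro K hKA hnorm hKp k hk
  rw [← hP.2]
  refine ⟨⟨k, hKA hk⟩, ?_, rfl⟩
  have hKn : (K.subgroupOf (F.autGroup P)).Normal :=
    ⟨fun k hk a => hnorm a a.2 k hk⟩
  have h1 : K.subgroupOf (F.autGroup P) ≤ pCore p (F.autGroup P) :=
    le_sSup ⟨hKn, IsPGroup.comap_subtype (H := K) hKp (K := F.autGroup P)⟩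
  exact h1 hk

/-- If `Q` is normal in the system then `Aut_Q(P)` is normalized by `Aut_F(P)`. -/
theorem autInducedBy_normalized_of_isNormal (F : FusionSystem S) {Q P : Subgroup Ω}
    (hQ : F.IsNormal Q) (hPS : P ≤ S) (α : MulAut P) (hα : α ∈ F.autGroup P) (k : MulAut P)
    (hk : k ∈ autInducedBy Q P) : α * k * α⁻¹ ∈ autInducedBy Q P := by
  rw [mem_autInducedBy_iff] at hk ⊢
  obtain ⟨g, hgQ, hg⟩ := hk
  have hα' : autHom α ∈ F.Hom P := (mem_autGroup_iff F hPS α).mp hα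
  obtain ⟨ψ, hψ, hext, hmap⟩ := hQ.2 P (autHom α) hα'
  let g' : ↥(P ⊔ Q) := ⟨g, (le_sup_right : Q ≤ P ⊔ Q) hgQ⟩
  have hψg : ψ g' ∈ Q := by
    have h0 : ψ g' ∈ (Q.subgroupOf (P ⊔ Q)).map ψ := ⟨g', hgQ, rfl⟩
    have h00 : ∀ Y : Subgroup Ω, (Q.subgroupOf (P ⊔ Q)).map ψ = Y → ψ g' ∈ Y := fun Y hY => hY ▸ h0
    exact h00 Q hmap
  refine ⟨ψ g', hψg, fun x => ?_⟩
  have h1 : Subgroup.inclusion (le_sup_left : P ≤ P ⊔ Q) (k (α⁻¹ x)) =
      g' * Subgroup.inclusion (le_sup_left : P ≤ P ⊔ Q) (α⁻¹ x) * g'⁻¹ := Subtype.ext (hg (α⁻¹ x))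
  have h2 := hext (k (α⁻¹ x))
  rw [h1, map_mul, map_mul, map_inv, hext] at h2
  show ((α (k (α⁻¹ x)) : P) : Ω) = ψ g' * x * (ψ g')⁻¹
  have h3 : (autHom α) (α⁻¹ x) = (x : Ω) := by
    show ((α (α⁻¹ x) : P) : Ω) = x
    simp
  rw [h3] at h2
  exact h2.symm

/-- A subgroup `Q ⊴ S` whose induced automorphisms of a self-centralizing `P` with
`O_p(Aut_F(P)) ≤ Inn(P)` form a normal subgroup of `Aut_F(P)` is contained in `P`. -/
theorem le_of_opAutLeInn [Finite S] (p : ℕ) [Fact p.Prime] (hS : IsPGroup p S)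
    (F : FusionSystem S) {Q P : Subgroup Ω} (hQS : Q ≤ S)
    (hSN : S ≤ Subgroup.normalizer (Q : Set Ω)) (hPS : P ≤ S) (hC : centralizerIn S P ≤ P)
    (hOp : OpAutLeInn F p P)
    (hnorm : ∀ α ∈ F.autGroup P, ∀ k ∈ autInducedBy Q P, α * k * α⁻¹ ∈ autInducedBy Q P) :
    Q ≤ P := by
  have hQp : IsPGroup p Q := isPGroup_of_le hS hQS
  have hKA : autInducedBy Q P ≤ F.autGroup P := by
    refine le_trans ?_ (autInducedBy_le_autGroup F hPS)
    intro α hα
    rw [mem_autInducedBy_iff] at hα ⊢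
    obtain ⟨g, hg, h⟩ := hα
    exact ⟨g, hQS hg, h⟩
  have hKI : autInducedBy Q P ≤ Inn P :=
    hOp _ hKA hnorm (autInducedBy_isPGroup (S := Q) hQp P)
  have hmem : ∀ x ∈ Q, x ∈ Subgroup.normalizer (P : Set Ω) → x ∈ P := by
    intro x hxQ hxN
    refine mem_of_normalizerMonoidHom_mem_inn hPS hC ⟨x, hxN⟩ (hQS hxQ) (hKI ?_)
    rw [mem_autInducedBy_iff]
    exact ⟨x, hxQ, fun y => rfl⟩
  by_contra hcon
  have hsupS : P ⊔ Q ≤ S := sup_le hPS hQS
  have : Finite ↥(P ⊔ Q) := finite_of_le hsupS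
  have hne : P ≠ P ⊔ Q := fun h => hcon (h ▸ le_sup_right)
  obtain ⟨g, hgN, hgP⟩ := exists_mem_normalizerIn_not_mem (S := P ⊔ Q) p
    (isPGroup_of_le hS hsupS) le_sup_left hne
  have hg' : g ∈ ((P ⊔ Q : Subgroup Ω) : Set Ω) := hgN.1
  rw [Subgroup.coe_mul_of_left_le_normalizer_right P Q (hPS.trans hSN)] at hg'
  obtain ⟨a, ha, b, hb, rfl⟩ := hg'
  have haN : a ∈ Subgroup.normalizer (P : Set Ω) := Subgroup.le_normalizer ha
  have hbN : b ∈ Subgroup.normalizer (P : Set Ω) := by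
    have := Subgroup.mul_mem _ (Subgroup.inv_mem _ haN) hgN.2
    rwa [inv_mul_cancel_left] at this
  exact hgP (P.mul_mem ha (hmem b hb hbN))

/-- A subgroup normal in a saturated system is contained in every essential subgroup. -/
theorem le_of_isNormal_of_isEssential [Finite S] (p : ℕ) [Fact p.Prime] (hS : IsPGroup p S)
    (F : FusionSystem S) {Q P : Subgroup Ω} (hQ : F.IsNormal Q) (hP : F.IsEssential p P) :
    Q ≤ P :=
  le_of_opAutLeInn p hS F hQ.1 (le_normalizer_of_isNormal F hQ) hP.1.1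
    (hP.1.2 P (isConj_refl F hP.1.1)) (opAutLeInn_of_isEssential F p hP)
    (autInducedBy_normalized_of_isNormal F hQ hP.1.1)

/-- A subgroup normal in a saturated system is contained in every centric radical subgroup. -/
theorem le_of_isNormal_of_centric_radical [Finite S] (p : ℕ) [Fact p.Prime] (hS : IsPGroup p S)
    (F : FusionSystem S) {Q P : Subgroup Ω} (hQ : F.IsNormal Q) (hPc : F.IsCentric P)
    (hPr : F.IsRadical p P) : Q ≤ P :=
  le_of_opAutLeInn p hS F hQ.1 (le_normalizer_of_isNormal F hQ) hPc.1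
    (hPc.2 P (isConj_refl F hPc.1)) (opAutLeInn_of_isRadical F p hPr)
    (autInducedBy_normalized_of_isNormal F hQ hPc.1)

end Cfsg.Agent.Helper25
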