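import Mathlib
import Cfsg.Prelude.Def_FusionComponents
import Cfsg.Agent.Helper25.FusionBasic

set_option autoImplicit false

/-! The direct product of two fusion systems exists. -/

namespace Cfsg.Agent.Helper25

open Cfsg Cfsg.FusionSystem

variable {Ω₁ Ω₂ : Type*} [Group Ω₁] [Group Ω₂] {S₁ : Subgroup Ω₁} {S₂ : Subgroup Ω₂}

/-- The maps of the product system with source `P`. -/
def prodHom (F₁ : FusionSystem S₁) (F₂ : FusionSystem S₂) (P : Subgroup (Ω₁ × Ω₂)) :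
    Set (P →* Ω₁ × Ω₂) :=
  {φ | P ≤ S₁.prod S₂ ∧
    ∃ φ₁ ∈ F₁.Hom (P.map (MonoidHom.fst Ω₁ Ω₂)), ∃ φ₂ ∈ F₂.Hom (P.map (MonoidHom.snd Ω₁ Ω₂)),
      ∀ (x : P) (h₁ : (x : Ω₁ × Ω₂).1 ∈ P.map (MonoidHom.fst Ω₁ Ω₂))
        (h₂ : (x : Ω₁ × Ω₂).2 ∈ P.map (MonoidHom.snd Ω₁ Ω₂)),
        φ x = (φ₁ ⟨(x : Ω₁ × Ω₂).1, h₁⟩, φ₂ ⟨(x : Ω₁ × Ω₂).2, h₂⟩)}

theorem fst_mem_map {P : Subgroup (Ω₁ × Ω₂)} (x : P) :
    (x : Ω₁ × Ω₂).1 ∈ P.map (MonoidHom.fst Ω₁ Ω₂) := ⟨x, x.2, rfl⟩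

theorem snd_mem_map {P : Subgroup (Ω₁ × Ω₂)} (x : P) :
    (x : Ω₁ × Ω₂).2 ∈ P.map (MonoidHom.snd Ω₁ Ω₂) := ⟨x, x.2, rfl⟩

theorem map_fst_le {P : Subgroup (Ω₁ × Ω₂)} (hP : P ≤ S₁.prod S₂) :
    P.map (MonoidHom.fst Ω₁ Ω₂) ≤ S₁ := by
  rintro _ ⟨x, hx, rfl⟩
  exact (Subgroup.mem_prod.mp (hP hx)).1

theorem map_snd_le {P : Subgroup (Ω₁ × Ω₂)} (hP : P ≤ S₁.prod S₂) :
    P.map (MonoidHom.snd Ω₁ Ω₂) ≤ S₂ := by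
  rintro _ ⟨x, hx, rfl⟩
  exact (Subgroup.mem_prod.mp (hP hx)).2

/-- The direct product of two fusion systems. -/
def prodSystem (F₁ : FusionSystem S₁) (F₂ : FusionSystem S₂) : FusionSystem (S₁.prod S₂) where
  Hom P := prodHom F₁ F₂ P
  le_of_mem := by
    rintro P φ ⟨hP, φ₁, hφ₁, φ₂, hφ₂, h⟩
    refine ⟨hP, fun x => ?_⟩
    rw [h x (fst_mem_map x) (snd_mem_map x), Subgroup.mem_prod]
    exact ⟨(F₁.le_of_mem hφ₁).2 _, (F₂.le_of_mem hφ₂).2 _⟩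
  injective_of_mem := by
    rintro P φ ⟨hP, φ₁, hφ₁, φ₂, hφ₂, h⟩ x y hxy
    rw [h x (fst_mem_map x) (snd_mem_map x), h y (fst_mem_map y) (snd_mem_map y)] at hxy
    have h1 := F₁.injective_of_mem hφ₁ (congrArg Prod.fst hxy)
    have h2 := F₂.injective_of_mem hφ₂ (congrArg Prod.snd hxy)
    apply Subtype.ext
    exact Prod.ext (congrArg Subtype.val h1) (congrArg Subtype.val h2)
  conj_mem := by
    intro P g hP hg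
    have hg' := Subgroup.mem_prod.mp hg
    refine ⟨hP, conjHom _ g.1, F₁.conj_mem (map_fst_le hP) hg'.1, conjHom _ g.2,
      F₂.conj_mem (map_snd_le hP) hg'.2, ?_⟩
    intro x h₁ h₂
    apply Prod.ext <;> simp [conjHom]
  comp_mem := by
    rintro P Q φ ψ ⟨hP, φ₁, hφ₁, φ₂, hφ₂, hφ⟩ ⟨hQ, ψ₁, hψ₁, ψ₂, hψ₂, hψ⟩ hPQ
    have hv₁ : ∀ y : P.map (MonoidHom.fst Ω₁ Ω₂), φ₁ y ∈ Q.map (MonoidHom.fst Ω₁ Ω₂) := by
      rintro ⟨_, x, hx, rfl⟩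
      refine ⟨φ ⟨x, hx⟩, hPQ ⟨x, hx⟩, ?_⟩
      rw [hφ ⟨x, hx⟩ (fst_mem_map _) (snd_mem_map _)]
      rfl
    have hv₂ : ∀ y : P.map (MonoidHom.snd Ω₁ Ω₂), φ₂ y ∈ Q.map (MonoidHom.snd Ω₁ Ω₂) := by
      rintro ⟨_, x, hx, rfl⟩
      refine ⟨φ ⟨x, hx⟩, hPQ ⟨x, hx⟩, ?_⟩
      rw [hφ ⟨x, hx⟩ (fst_mem_map _) (snd_mem_map _)]
      rfl
    refine ⟨hP, _, F₁.comp_mem hφ₁ hψ₁ hv₁, _, F₂.comp_mem hφ₂ hψ₂ hv₂, ?_⟩
    intro x h₁ h₂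
    simp only [MonoidHom.comp_apply]
    rw [hψ _ (fst_mem_map _) (snd_mem_map _)]
    have e := hφ x h₁ h₂
    apply Prod.ext
    · simp only
      congr 1
      apply Subtype.ext
      simp only [MonoidHom.codRestrict_apply]
      rw [e]
    · simp only
      congr 1
      apply Subtype.ext
      simp only [MonoidHom.codRestrict_apply]
      rw [e]
  inv_mem := by
    rintro P φ ⟨hP, φ₁, hφ₁, φ₂, hφ₂, hφ⟩
    obtain ⟨ψ₁, hψ₁, hinv₁⟩ := F₁.inv_mem hφ₁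
    obtain ⟨ψ₂, hψ₂, hinv₂⟩ := F₂.inv_mem hφ₂
    have hle₁ : φ.range.map (MonoidHom.fst Ω₁ Ω₂) ≤ φ₁.range := by
      rintro _ ⟨_, ⟨x, rfl⟩, rfl⟩
      refine ⟨⟨(x : Ω₁ × Ω₂).1, fst_mem_map x⟩, ?_⟩
      rw [hφ x (fst_mem_map x) (snd_mem_map x)]
      rfl
    have hle₂ : φ.range.map (MonoidHom.snd Ω₁ Ω₂) ≤ φ₂.range := by
      rintro _ ⟨_, ⟨x, rfl⟩, rfl⟩
      refine ⟨⟨(x : Ω₁ × Ω₂).2, snd_mem_map x⟩, ?_⟩
      rw [hφ x (fst_mem_map x) (snd_mem_map x)]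
      rfl
    have hrange : φ.range ≤ S₁.prod S₂ := by
      rintro _ ⟨x, rfl⟩
      rw [hφ x (fst_mem_map x) (snd_mem_map x), Subgroup.mem_prod]
      exact ⟨(F₁.le_of_mem hφ₁).2 _, (F₂.le_of_mem hφ₂).2 _⟩
    let f₁ : φ.range →* φ₁.range :=
      ((MonoidHom.fst Ω₁ Ω₂).comp φ.range.subtype).codRestrict φ₁.range
        (fun y => hle₁ (fst_mem_map y))
    let f₂ : φ.range →* φ₂.range :=
      ((MonoidHom.snd Ω₁ Ω₂).comp φ.range.subtype).codRestrict φ₂.range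
        (fun y => hle₂ (snd_mem_map y))
    refine ⟨MonoidHom.prod (ψ₁.comp f₁) (ψ₂.comp f₂), ⟨hrange,
      ψ₁.comp (Subgroup.inclusion hle₁), restrict_mem F₁ hle₁ hψ₁,
      ψ₂.comp (Subgroup.inclusion hle₂), restrict_mem F₂ hle₂ hψ₂, ?_⟩, ?_⟩
    · intro y h₁ h₂
      rfl
    · intro x
      have e := hφ x (fst_mem_map x) (snd_mem_map x)
      apply Prod.ext
      · have h1 : (f₁ ⟨φ x, ⟨x, rfl⟩⟩ : φ₁.range) =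
            ⟨φ₁ ⟨(x : Ω₁ × Ω₂).1, fst_mem_map x⟩, ⟨_, rfl⟩⟩ := by
          apply Subtype.ext
          show (φ x).1 = _
          rw [e]
        show ψ₁ (f₁ ⟨φ x, ⟨x, rfl⟩⟩) = _
        rw [h1, hinv₁]
      · have h2 : (f₂ ⟨φ x, ⟨x, rfl⟩⟩ : φ₂.range) =
            ⟨φ₂ ⟨(x : Ω₁ × Ω₂).2, snd_mem_map x⟩, ⟨_, rfl⟩⟩ := by
          apply Subtype.ext
          show (φ x).2 = _
          rw [e]
        show ψ₂ (f₂ ⟨φ x, ⟨x, rfl⟩⟩) = _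
        rw [h2, hinv₂]

theorem prodSystem_isProductSystem (F₁ : FusionSystem S₁) (F₂ : FusionSystem S₂) :
    IsProductSystem F₁ F₂ (prodSystem F₁ F₂) := by
  intro P φ
  exact Iff.rfl

end Cfsg.Agent.Helper25
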