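import Mathlib
import Cfsg.Prelude.Def_FusionComponents
import Cfsg.Agent.Helper25.FusionProduct
import Cfsg.Agent.Helper25.FusionSat
import Cfsg.Agent.Helper25.FusionAut
import Cfsg.Agent.Helper25.FusionNormal
import Cfsg.Agent.Helper25.SylowIn

set_option autoImplicit false

/-! The direct product of two saturated fusion systems is saturated. -/

namespace Cfsg.Agent.Helper25

open Cfsg Cfsg.FusionSystem

section GroupTheory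

variable {G : Type*} [Group G]

/-- Relative Sylow conjugation: a `p`-subgroup of `A` is `A`-conjugate into a subgroup `T ≤ A`
of order the `p`-part of `|A|`. -/
theorem exists_conj_le_of_card [Finite G] (p : ℕ) [Fact p.Prime] {A T U : Subgroup G}
    (hTA : T ≤ A) (hT : Nat.card T = pPart p (Nat.card A)) (hUA : U ≤ A) (hU : IsPGroup p U) :
    ∃ a ∈ A, U.map (MulAut.conj a).toMonoidHom ≤ T := by
  have hcard : Nat.card (T.subgroupOf A) = p ^ (Nat.card A).factorization p := by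
    rw [Nat.card_congr (Subgroup.subgroupOfEquivOfLe hTA).toEquiv, hT]
    rfl
  let R : Sylow p A := Sylow.ofCard (T.subgroupOf A) hcard
  have hU' : IsPGroup p (U.subgroupOf A) :=
    hU.of_equiv (Subgroup.subgroupOfEquivOfLe hUA).symm
  obtain ⟨g, hg⟩ := exists_conj_le_sylow p R hU'
  refine ⟨g, g.2, ?_⟩
  rintro _ ⟨u, hu, rfl⟩
  have h1 : (⟨u, hUA hu⟩ : A) ∈ U.subgroupOf A := by
    rw [Subgroup.mem_subgroupOf]; exact hu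
  have h2 : (MulAut.conj g) (⟨u, hUA hu⟩ : A) ∈ (R : Subgroup A) := hg ⟨_, h1, rfl⟩
  have h3 : (MulAut.conj g) (⟨u, hUA hu⟩ : A) ∈ T.subgroupOf A := h2
  rw [Subgroup.mem_subgroupOf] at h3
  simpa using h3

theorem pPart_pos (p n : ℕ) [hp : Fact p.Prime] : 0 < pPart p n :=
  pow_pos hp.out.pos _

/-- For `T ≤ A` of order the `p`-part of `|A|` and `H ≤ A`, some `A`-conjugate of `H` meets
`T` in a subgroup of order the `p`-part of `|H|`. -/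
theorem exists_conj_inf_card [Finite G] (p : ℕ) [Fact p.Prime] {A T H : Subgroup G}
    (hTA : T ≤ A) (hT : Nat.card T = pPart p (Nat.card A)) (hHA : H ≤ A) :
    ∃ a ∈ A, Nat.card ↥(T ⊓ H.map (MulAut.conj a).toMonoidHom) = pPart p (Nat.card H) := by
  obtain ⟨U, -, hUH, hUp, hUc⟩ :=
    exists_pSubgroup_card_eq_pPart p (U := (⊥ : Subgroup G)) (H := H) IsPGroup.of_bot bot_le
  obtain ⟨a, haA, ha⟩ := exists_conj_le_of_card p hTA hT (hUH.trans hHA) hUp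
  refine ⟨a, haA, le_antisymm ?_ ?_⟩
  · have hTp : IsPGroup p T := IsPGroup.of_card hT
    have h1 : IsPGroup p ↥(T ⊓ H.map (MulAut.conj a).toMonoidHom) := isPGroup_of_le hTp inf_le_left
    have h2 := card_le_pPart_of_isPGroup p h1 (inf_le_right : T ⊓ H.map (MulAut.conj a).toMonoidHom ≤ _)
    rwa [card_map_conj] at h2
  · rw [← hUc, ← card_map_conj U a]
    exact Subgroup.card_le_of_le (le_inf ha (Subgroup.map_mono hUH))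

/-- Version with a group action: move a point so that `T ∩ Stab` is Sylow in `A ∩ Stab`. -/
theorem exists_smul_stabilizer_card [Finite G] {α : Type*} [MulAction G α] (p : ℕ) [Fact p.Prime]
    {A T : Subgroup G} (hTA : T ≤ A) (hT : Nat.card T = pPart p (Nat.card A)) (x : α) :
    ∃ a ∈ A, Nat.card ↥(T ⊓ MulAction.stabilizer G (a • x)) =
      pPart p (Nat.card ↥(A ⊓ MulAction.stabilizer G (a • x))) := by
  obtain ⟨a, haA, ha⟩ := exists_conj_inf_card p hTA hT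
    (inf_le_left : A ⊓ MulAction.stabilizer G x ≤ A)
  refine ⟨a, haA, ?_⟩
  have hA : A.map (MulAut.conj a).toMonoidHom = A := by
    ext y
    constructor
    · rintro ⟨z, hz, rfl⟩
      exact A.mul_mem (A.mul_mem haA hz) (A.inv_mem haA)
    · intro hy
      refine ⟨a⁻¹ * y * a, A.mul_mem (A.mul_mem (A.inv_mem haA) hy) haA, ?_⟩
      simp [mul_assoc]
  have h1 : (A ⊓ MulAction.stabilizer G x).map (MulAut.conj a).toMonoidHom =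
      A ⊓ MulAction.stabilizer G (a • x) := by
    rw [Subgroup.map_inf _ _ _ (MulAut.conj a).injective, hA,
      MulAction.stabilizer_smul_eq_stabilizer_map_conj]
  rw [h1] at ha
  have h2 : T ⊓ (A ⊓ MulAction.stabilizer G (a • x)) = T ⊓ MulAction.stabilizer G (a • x) := by
    rw [← inf_assoc, inf_of_le_left hTA]
  rw [h2] at ha
  rw [ha, ← h1, card_map_conj]

end GroupTheory


section Pair

open scoped Pointwise

/-- Product of automorphisms, as a homomorphism. -/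
def pairAut (M N : Type*) [Group M] [Group N] : MulAut M × MulAut N →* MulAut (M × N) where
  toFun a := MulEquiv.prodCongr a.1 a.2
  map_one' := by ext <;> rfl
  map_mul' a b := by ext <;> rfl

theorem pairAut_apply {M N : Type*} [Group M] [Group N] (a : MulAut M × MulAut N) (y : M × N) :
    pairAut M N a y = (a.1 y.1, a.2 y.2) := rfl

/-- Pairs of automorphisms act on subgroups of the product. -/
@[reducible] def pairAction (M N : Type*) [Group M] [Group N] :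
    MulAction (MulAut M × MulAut N) (Subgroup (M × N)) :=
  MulAction.compHom (Subgroup (M × N)) (pairAut M N)

attribute [local instance] pairAction

theorem pair_smul_def {M N : Type*} [Group M] [Group N] (a : MulAut M × MulAut N)
    (X : Subgroup (M × N)) : a • X = X.map (pairAut M N a).toMonoidHom := rfl

theorem mem_pair_smul {M N : Type*} [Group M] [Group N] (a : MulAut M × MulAut N)
    (X : Subgroup (M × N)) (z : M × N) : z ∈ a • X ↔ ∃ y ∈ X, (a.1 y.1, a.2 y.2) = z := by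
  rw [pair_smul_def, Subgroup.mem_map]
  rfl

variable {Ω₁ Ω₂ : Type*} [Group Ω₁] [Group Ω₂]

/-- A subgroup of `Q₁ × Q₂` (product type) as a subgroup of `Ω₁ × Ω₂`. -/
def emb (Q₁ : Subgroup Ω₁) (Q₂ : Subgroup Ω₂) (X : Subgroup (Q₁ × Q₂)) : Subgroup (Ω₁ × Ω₂) :=
  X.map (Q₁.subtype.prodMap Q₂.subtype)

theorem mem_emb {Q₁ : Subgroup Ω₁} {Q₂ : Subgroup Ω₂} {X : Subgroup (Q₁ × Q₂)} {z : Ω₁ × Ω₂} :
    z ∈ emb Q₁ Q₂ X ↔ ∃ y ∈ X, ((y.1 : Ω₁), (y.2 : Ω₂)) = z := by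
  unfold emb
  rw [Subgroup.mem_map]
  rfl

theorem emb_le_prod {Q₁ : Subgroup Ω₁} {Q₂ : Subgroup Ω₂} (X : Subgroup (Q₁ × Q₂)) :
    emb Q₁ Q₂ X ≤ Q₁.prod Q₂ := by
  intro z hz
  obtain ⟨y, -, rfl⟩ := mem_emb.mp hz
  exact Subgroup.mem_prod.mpr ⟨y.1.2, y.2.2⟩

theorem emb_injective {Q₁ : Subgroup Ω₁} {Q₂ : Subgroup Ω₂} :
    Function.Injective (Q₁.subtype.prodMap Q₂.subtype) := by
  intro y y' h
  have h1 := congrArg Prod.fst h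
  have h2 := congrArg Prod.snd h
  exact Prod.ext (Subtype.ext h1) (Subtype.ext h2)

theorem mk_mem_of_mem_emb {Q₁ : Subgroup Ω₁} {Q₂ : Subgroup Ω₂} {X : Subgroup (Q₁ × Q₂)}
    {y : Q₁ × Q₂} (h : ((y.1 : Ω₁), (y.2 : Ω₂)) ∈ emb Q₁ Q₂ X) : y ∈ X := by
  obtain ⟨y', hy', he⟩ := mem_emb.mp h
  have : y' = y := emb_injective he
  exact this ▸ hy'

theorem emb_comap {Q₁ : Subgroup Ω₁} {Q₂ : Subgroup Ω₂} {P : Subgroup (Ω₁ × Ω₂)}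
    (hP : P ≤ Q₁.prod Q₂) : emb Q₁ Q₂ (P.comap (Q₁.subtype.prodMap Q₂.subtype)) = P := by
  ext z
  rw [mem_emb]
  constructor
  · rintro ⟨y, hy, rfl⟩
    exact hy
  · intro hz
    have h := Subgroup.mem_prod.mp (hP hz)
    exact ⟨(⟨z.1, h.1⟩, ⟨z.2, h.2⟩), hz, rfl⟩

/-- Both projections of `X` are onto. -/
def FullProj {Q₁ : Subgroup Ω₁} {Q₂ : Subgroup Ω₂} (X : Subgroup (Q₁ × Q₂)) : Prop :=
  (∀ q : Q₁, ∃ y ∈ X, y.1 = q) ∧ (∀ q : Q₂, ∃ y ∈ X, y.2 = q)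

theorem FullProj.map_fst {Q₁ : Subgroup Ω₁} {Q₂ : Subgroup Ω₂} {X : Subgroup (Q₁ × Q₂)}
    (h : FullProj X) : (emb Q₁ Q₂ X).map (MonoidHom.fst Ω₁ Ω₂) = Q₁ := by
  ext z
  constructor
  · rintro ⟨w, hw, rfl⟩
    exact (Subgroup.mem_prod.mp (emb_le_prod X hw)).1
  · intro hz
    obtain ⟨y, hy, he⟩ := h.1 ⟨z, hz⟩
    refine ⟨((y.1 : Ω₁), (y.2 : Ω₂)), mem_emb.mpr ⟨y, hy, rfl⟩, ?_⟩
    show (y.1 : Ω₁) = z
    rw [he]

theorem FullProj.map_snd {Q₁ : Subgroup Ω₁} {Q₂ : Subgroup Ω₂} {X : Subgroup (Q₁ × Q₂)}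
    (h : FullProj X) : (emb Q₁ Q₂ X).map (MonoidHom.snd Ω₁ Ω₂) = Q₂ := by
  ext z
  constructor
  · rintro ⟨w, hw, rfl⟩
    exact (Subgroup.mem_prod.mp (emb_le_prod X hw)).2
  · intro hz
    obtain ⟨y, hy, he⟩ := h.2 ⟨z, hz⟩
    refine ⟨((y.1 : Ω₁), (y.2 : Ω₂)), mem_emb.mpr ⟨y, hy, rfl⟩, ?_⟩
    show (y.2 : Ω₂) = z
    rw [he]

theorem FullProj.smul {Q₁ : Subgroup Ω₁} {Q₂ : Subgroup Ω₂} {X : Subgroup (Q₁ × Q₂)}
    (h : FullProj X) (a : MulAut Q₁ × MulAut Q₂) : FullProj (a • X) := by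
  constructor
  · intro q
    obtain ⟨y, hy, he⟩ := h.1 (a.1.symm q)
    refine ⟨(a.1 y.1, a.2 y.2), (mem_pair_smul a X _).mpr ⟨y, hy, rfl⟩, ?_⟩
    show a.1 y.1 = q
    rw [he, MulEquiv.apply_symm_apply]
  · intro q
    obtain ⟨y, hy, he⟩ := h.2 (a.2.symm q)
    refine ⟨(a.1 y.1, a.2 y.2), (mem_pair_smul a X _).mpr ⟨y, hy, rfl⟩, ?_⟩
    show a.2 y.2 = q
    rw [he, MulEquiv.apply_symm_apply]

/-- The homomorphism `x ↦ (φ₁ x.1, φ₂ x.2)` on a subgroup `P` of the product. -/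
def pairHom {P : Subgroup (Ω₁ × Ω₂)} {R₁ : Subgroup Ω₁} {R₂ : Subgroup Ω₂}
    (h₁ : P.map (MonoidHom.fst Ω₁ Ω₂) ≤ R₁) (h₂ : P.map (MonoidHom.snd Ω₁ Ω₂) ≤ R₂)
    (φ₁ : R₁ →* Ω₁) (φ₂ : R₂ →* Ω₂) : P →* Ω₁ × Ω₂ :=
  MonoidHom.prod
    (φ₁.comp (((MonoidHom.fst Ω₁ Ω₂).comp P.subtype).codRestrict R₁ (fun x => h₁ (fst_mem_map x))))
    (φ₂.comp (((MonoidHom.snd Ω₁ Ω₂).comp P.subtype).codRestrict R₂ (fun x => h₂ (snd_mem_map x))))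

theorem pairHom_apply {P : Subgroup (Ω₁ × Ω₂)} {R₁ : Subgroup Ω₁} {R₂ : Subgroup Ω₂}
    (h₁ : P.map (MonoidHom.fst Ω₁ Ω₂) ≤ R₁) (h₂ : P.map (MonoidHom.snd Ω₁ Ω₂) ≤ R₂)
    (φ₁ : R₁ →* Ω₁) (φ₂ : R₂ →* Ω₂) (x : P) :
    pairHom h₁ h₂ φ₁ φ₂ x = (φ₁ ⟨(x : Ω₁ × Ω₂).1, h₁ (fst_mem_map x)⟩,
      φ₂ ⟨(x : Ω₁ × Ω₂).2, h₂ (snd_mem_map x)⟩) := rfl

end Pair

section Sat

open scoped Pointwise

attribute [local instance] pairAction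

variable {Ω₁ Ω₂ : Type*} [Group Ω₁] [Group Ω₂] {S₁ : Subgroup Ω₁} {S₂ : Subgroup Ω₂}
  {F₁ : FusionSystem S₁} {F₂ : FusionSystem S₂} {E : FusionSystem (S₁.prod S₂)}

theorem pairHom_mem (hE : IsProductSystem F₁ F₂ E) {P : Subgroup (Ω₁ × Ω₂)} (hP : P ≤ S₁.prod S₂)
    {R₁ : Subgroup Ω₁} {R₂ : Subgroup Ω₂}
    (h₁ : P.map (MonoidHom.fst Ω₁ Ω₂) ≤ R₁) (h₂ : P.map (MonoidHom.snd Ω₁ Ω₂) ≤ R₂)
    {φ₁ : R₁ →* Ω₁} {φ₂ : R₂ →* Ω₂} (hφ₁ : φ₁ ∈ F₁.Hom R₁) (hφ₂ : φ₂ ∈ F₂.Hom R₂) :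
    pairHom h₁ h₂ φ₁ φ₂ ∈ E.Hom P :=
  (hE P _).mpr ⟨hP, φ₁.comp (Subgroup.inclusion h₁), restrict_mem F₁ h₁ hφ₁,
    φ₂.comp (Subgroup.inclusion h₂), restrict_mem F₂ h₂ hφ₂, fun _ _ _ => rfl⟩

theorem exists_pairHom (hE : IsProductSystem F₁ F₂ E) {P : Subgroup (Ω₁ × Ω₂)}
    {φ : P →* Ω₁ × Ω₂} (hφ : φ ∈ E.Hom P) :
    ∃ φ₁ ∈ F₁.Hom (P.map (MonoidHom.fst Ω₁ Ω₂)), ∃ φ₂ ∈ F₂.Hom (P.map (MonoidHom.snd Ω₁ Ω₂)),
      φ = pairHom le_rfl le_rfl φ₁ φ₂ := by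
  obtain ⟨-, φ₁, hφ₁, φ₂, hφ₂, h⟩ := (hE P φ).mp hφ
  exact ⟨φ₁, hφ₁, φ₂, hφ₂, MonoidHom.ext fun x => h x _ _⟩

variable {Q₁ : Subgroup Ω₁} {Q₂ : Subgroup Ω₂}

/-- The map `(x₁, x₂) ↦ (a₁ x₁, a₂ x₂)` on `emb X`. -/
def moveHom (a : MulAut Q₁ × MulAut Q₂) (X : Subgroup (Q₁ × Q₂)) : emb Q₁ Q₂ X →* Ω₁ × Ω₂ :=
  pairHom (map_fst_le (emb_le_prod X)) (map_snd_le (emb_le_prod X)) (autHom a.1) (autHom a.2)

theorem moveHom_mk (a : MulAut Q₁ × MulAut Q₂) (X : Subgroup (Q₁ × Q₂)) (y : Q₁ × Q₂)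
    (hy : ((y.1 : Ω₁), (y.2 : Ω₂)) ∈ emb Q₁ Q₂ X) :
    moveHom a X ⟨((y.1 : Ω₁), (y.2 : Ω₂)), hy⟩ = ((a.1 y.1 : Ω₁), (a.2 y.2 : Ω₂)) := rfl

theorem moveHom_range (a : MulAut Q₁ × MulAut Q₂) (X : Subgroup (Q₁ × Q₂)) :
    (moveHom a X).range = emb Q₁ Q₂ (a • X) := by
  ext z
  constructor
  · rintro ⟨⟨w, hw⟩, rfl⟩
    obtain ⟨y, hy, rfl⟩ := mem_emb.mp hw
    rw [moveHom_mk]
    exact mem_emb.mpr ⟨(a.1 y.1, a.2 y.2), (mem_pair_smul a X _).mpr ⟨y, hy, rfl⟩, rfl⟩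
  · intro hz
    obtain ⟨y', hy', rfl⟩ := mem_emb.mp hz
    obtain ⟨y, hy, rfl⟩ := (mem_pair_smul a X _).mp hy'
    exact ⟨⟨((y.1 : Ω₁), (y.2 : Ω₂)), mem_emb.mpr ⟨y, hy, rfl⟩⟩, rfl⟩

theorem moveHom_injective (a : MulAut Q₁ × MulAut Q₂) (X : Subgroup (Q₁ × Q₂)) :
    Function.Injective (moveHom a X) := by
  rintro ⟨w, hw⟩ ⟨w', hw'⟩ h
  obtain ⟨y, hy, rfl⟩ := mem_emb.mp hw
  obtain ⟨y', hy', rfl⟩ := mem_emb.mp hw'
  rw [moveHom_mk, moveHom_mk] at h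
  have h1 : a.1 y.1 = a.1 y'.1 := Subtype.ext (congrArg Prod.fst h)
  have h2 : a.2 y.2 = a.2 y'.2 := Subtype.ext (congrArg Prod.snd h)
  have h3 : y = y' := Prod.ext (a.1.injective h1) (a.2.injective h2)
  subst h3
  rfl

theorem moveHom_mem (hE : IsProductSystem F₁ F₂ E) (hQ₁ : Q₁ ≤ S₁) (hQ₂ : Q₂ ≤ S₂)
    {a : MulAut Q₁ × MulAut Q₂} (ha₁ : a.1 ∈ F₁.autGroup Q₁) (ha₂ : a.2 ∈ F₂.autGroup Q₂)
    (X : Subgroup (Q₁ × Q₂)) : moveHom a X ∈ E.Hom (emb Q₁ Q₂ X) :=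
  pairHom_mem hE ((emb_le_prod X).trans (Subgroup.prod_mono hQ₁ hQ₂)) _ _
    ((mem_autGroup_iff F₁ hQ₁ _).mp ha₁) ((mem_autGroup_iff F₂ hQ₂ _).mp ha₂)

/-- The automorphism of `emb X` induced by a pair stabilizing `X`. -/
noncomputable def prodResAut (a : MulAut Q₁ × MulAut Q₂) (X : Subgroup (Q₁ × Q₂)) (ha : a • X = X) :
    MulAut (emb Q₁ Q₂ X) :=
  isoOfHom (moveHom a X) (moveHom_injective a X) (by rw [moveHom_range, ha])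

theorem prodResAut_coe (a : MulAut Q₁ × MulAut Q₂) (X : Subgroup (Q₁ × Q₂)) (ha : a • X = X)
    (w : emb Q₁ Q₂ X) : ((prodResAut a X ha w : emb Q₁ Q₂ X) : Ω₁ × Ω₂) = moveHom a X w := rfl

theorem resAut_injective {X : Subgroup (Q₁ × Q₂)} (hX : FullProj X) {a b : MulAut Q₁ × MulAut Q₂}
    (ha : a • X = X) (hb : b • X = X) (h : prodResAut a X ha = prodResAut b X hb) : a = b := by
  have key : ∀ y ∈ X, a.1 y.1 = b.1 y.1 ∧ a.2 y.2 = b.2 y.2 := by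
    intro y hy
    have hw : ((y.1 : Ω₁), (y.2 : Ω₂)) ∈ emb Q₁ Q₂ X := mem_emb.mpr ⟨y, hy, rfl⟩
    have h1 := congrArg (fun β : MulAut (emb Q₁ Q₂ X) =>
      ((β ⟨((y.1 : Ω₁), (y.2 : Ω₂)), hw⟩ : emb Q₁ Q₂ X) : Ω₁ × Ω₂)) h
    simp only [prodResAut_coe, moveHom_mk] at h1
    exact ⟨Subtype.ext (congrArg Prod.fst h1), Subtype.ext (congrArg Prod.snd h1)⟩
  apply Prod.ext
  · apply MulEquiv.ext
    intro q
    obtain ⟨y, hy, rfl⟩ := hX.1 q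
    exact (key y hy).1
  · apply MulEquiv.ext
    intro q
    obtain ⟨y, hy, rfl⟩ := hX.2 q
    exact (key y hy).2

theorem resAut_mem_autGroup (hE : IsProductSystem F₁ F₂ E) (hQ₁ : Q₁ ≤ S₁) (hQ₂ : Q₂ ≤ S₂)
    {a : MulAut Q₁ × MulAut Q₂} (ha₁ : a.1 ∈ F₁.autGroup Q₁) (ha₂ : a.2 ∈ F₂.autGroup Q₂)
    (X : Subgroup (Q₁ × Q₂)) (ha : a • X = X) : prodResAut a X ha ∈ E.autGroup (emb Q₁ Q₂ X) := by
  rw [mem_autGroup_iff E ((emb_le_prod X).trans (Subgroup.prod_mono hQ₁ hQ₂))]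
  have e : autHom (prodResAut a X ha) = moveHom a X := by
    ext w <;> rfl
  rw [e]
  exact moveHom_mem hE hQ₁ hQ₂ ha₁ ha₂ X

theorem resAut_mem_autInducedBy {a : MulAut Q₁ × MulAut Q₂} (ha₁ : a.1 ∈ autInducedBy S₁ Q₁)
    (ha₂ : a.2 ∈ autInducedBy S₂ Q₂) (X : Subgroup (Q₁ × Q₂)) (ha : a • X = X) :
    prodResAut a X ha ∈ autInducedBy (S₁.prod S₂) (emb Q₁ Q₂ X) := by
  obtain ⟨g₁, hg₁, h₁⟩ := (mem_autInducedBy_iff _ _ _).mp ha₁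
  obtain ⟨g₂, hg₂, h₂⟩ := (mem_autInducedBy_iff _ _ _).mp ha₂
  rw [mem_autInducedBy_iff]
  refine ⟨(g₁, g₂), Subgroup.mem_prod.mpr ⟨hg₁, hg₂⟩, ?_⟩
  rintro ⟨w, hw⟩
  obtain ⟨y, hy, rfl⟩ := mem_emb.mp hw
  rw [prodResAut_coe, moveHom_mk, h₁, h₂]
  rfl


/-- Every `E`-automorphism of `emb X` comes from a pair of automorphisms stabilizing `X`. -/
theorem exists_resAut_eq [Finite S₁] [Finite S₂] (hE : IsProductSystem F₁ F₂ E) (hQ₁ : Q₁ ≤ S₁)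
    (hQ₂ : Q₂ ≤ S₂) {X : Subgroup (Q₁ × Q₂)} (hX : FullProj X) {β : MulAut (emb Q₁ Q₂ X)}
    (hβ : β ∈ E.autGroup (emb Q₁ Q₂ X)) :
    ∃ a : MulAut Q₁ × MulAut Q₂, a.1 ∈ F₁.autGroup Q₁ ∧ a.2 ∈ F₂.autGroup Q₂ ∧
      ∃ ha : a • X = X, prodResAut a X ha = β := by
  have hYS : emb Q₁ Q₂ X ≤ S₁.prod S₂ := (emb_le_prod X).trans (Subgroup.prod_mono hQ₁ hQ₂)
  have hβ' := (mem_autGroup_iff E hYS β).mp hβ
  obtain ⟨φ₁, hφ₁, φ₂, hφ₂, he⟩ := exists_pairHom hE hβ'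
  have e₁ := hX.map_fst
  have e₂ := hX.map_snd
  have hφ₁' : φ₁.comp (Subgroup.inclusion e₁.ge) ∈ F₁.Hom Q₁ := cast_mem F₁ e₁.symm hφ₁
  have hφ₂' : φ₂.comp (Subgroup.inclusion e₂.ge) ∈ F₂.Hom Q₂ := cast_mem F₂ e₂.symm hφ₂
  -- the key relation
  have key : ∀ (y : Q₁ × Q₂) (hy : ((y.1 : Ω₁), (y.2 : Ω₂)) ∈ emb Q₁ Q₂ X),
      ((β ⟨((y.1 : Ω₁), (y.2 : Ω₂)), hy⟩ : emb Q₁ Q₂ X) : Ω₁ × Ω₂) =
        (φ₁.comp (Subgroup.inclusion e₁.ge) y.1, φ₂.comp (Subgroup.inclusion e₂.ge) y.2) := by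
    intro y hy
    have h1 := congrArg (fun f : emb Q₁ Q₂ X →* Ω₁ × Ω₂ => f ⟨((y.1 : Ω₁), (y.2 : Ω₂)), hy⟩) he
    exact h1
  have hr₁ : (φ₁.comp (Subgroup.inclusion e₁.ge)).range = Q₁ := by
    ext z
    constructor
    · rintro ⟨q, rfl⟩
      obtain ⟨y, hy, rfl⟩ := hX.1 q
      have hw : ((y.1 : Ω₁), (y.2 : Ω₂)) ∈ emb Q₁ Q₂ X := mem_emb.mpr ⟨y, hy, rfl⟩
      have h1 := congrArg Prod.fst (key y hw)
      dsimp only at h1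
      rw [← h1]
      exact (Subgroup.mem_prod.mp (emb_le_prod X (β ⟨_, hw⟩).2)).1
    · intro hz
      obtain ⟨y, hy, hyz⟩ := hX.1 ⟨z, hz⟩
      have hw : ((y.1 : Ω₁), (y.2 : Ω₂)) ∈ emb Q₁ Q₂ X := mem_emb.mpr ⟨y, hy, rfl⟩
      obtain ⟨y', hy', hey'⟩ := mem_emb.mp (β.symm ⟨_, hw⟩).2
      have hw' : ((y'.1 : Ω₁), (y'.2 : Ω₂)) ∈ emb Q₁ Q₂ X := mem_emb.mpr ⟨y', hy', rfl⟩
      have h2 : (⟨((y'.1 : Ω₁), (y'.2 : Ω₂)), hw'⟩ : emb Q₁ Q₂ X) = β.symm ⟨_, hw⟩ :=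
        Subtype.ext hey'
      have h1 := congrArg Prod.fst (key y' hw')
      rw [h2, MulEquiv.apply_symm_apply] at h1
      dsimp only at h1
      refine ⟨y'.1, ?_⟩
      rw [← h1]
      show (y.1 : Ω₁) = z
      rw [hyz]
  have hr₂ : (φ₂.comp (Subgroup.inclusion e₂.ge)).range = Q₂ := by
    ext z
    constructor
    · rintro ⟨q, rfl⟩
      obtain ⟨y, hy, rfl⟩ := hX.2 q
      have hw : ((y.1 : Ω₁), (y.2 : Ω₂)) ∈ emb Q₁ Q₂ X := mem_emb.mpr ⟨y, hy, rfl⟩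
      have h1 := congrArg Prod.snd (key y hw)
      dsimp only at h1
      rw [← h1]
      exact (Subgroup.mem_prod.mp (emb_le_prod X (β ⟨_, hw⟩).2)).2
    · intro hz
      obtain ⟨y, hy, hyz⟩ := hX.2 ⟨z, hz⟩
      have hw : ((y.1 : Ω₁), (y.2 : Ω₂)) ∈ emb Q₁ Q₂ X := mem_emb.mpr ⟨y, hy, rfl⟩
      obtain ⟨y', hy', hey'⟩ := mem_emb.mp (β.symm ⟨_, hw⟩).2
      have hw' : ((y'.1 : Ω₁), (y'.2 : Ω₂)) ∈ emb Q₁ Q₂ X := mem_emb.mpr ⟨y', hy', rfl⟩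
      have h2 : (⟨((y'.1 : Ω₁), (y'.2 : Ω₂)), hw'⟩ : emb Q₁ Q₂ X) = β.symm ⟨_, hw⟩ :=
        Subtype.ext hey'
      have h1 := congrArg Prod.snd (key y' hw')
      rw [h2, MulEquiv.apply_symm_apply] at h1
      dsimp only at h1
      refine ⟨y'.2, ?_⟩
      rw [← h1]
      show (y.2 : Ω₂) = z
      rw [hyz]
  let α₁ : MulAut Q₁ := isoOfHom _ (F₁.injective_of_mem hφ₁') hr₁
  let α₂ : MulAut Q₂ := isoOfHom _ (F₂.injective_of_mem hφ₂') hr₂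
  have hα₁ : α₁ ∈ F₁.autGroup Q₁ := by
    rw [mem_autGroup_iff F₁ hQ₁]
    have e : autHom α₁ = φ₁.comp (Subgroup.inclusion e₁.ge) := by
      ext q; rfl
    rw [e]; exact hφ₁'
  have hα₂ : α₂ ∈ F₂.autGroup Q₂ := by
    rw [mem_autGroup_iff F₂ hQ₂]
    have e : autHom α₂ = φ₂.comp (Subgroup.inclusion e₂.ge) := by
      ext q; rfl
    rw [e]; exact hφ₂'
  have hmove : ∀ w : emb Q₁ Q₂ X, moveHom (α₁, α₂) X w = ((β w : emb Q₁ Q₂ X) : Ω₁ × Ω₂) := by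
    rintro ⟨w, hw⟩
    obtain ⟨y, hy, rfl⟩ := mem_emb.mp hw
    rw [moveHom_mk, key y hw]
    rfl
  have hfin₁ : Finite Q₁ := finite_of_le hQ₁
  have hfin₂ : Finite Q₂ := finite_of_le hQ₂
  have hle : ((α₁, α₂) : MulAut Q₁ × MulAut Q₂) • X ≤ X := by
    intro z hz
    obtain ⟨y, hy, rfl⟩ := (mem_pair_smul _ X _).mp hz
    have hw : ((y.1 : Ω₁), (y.2 : Ω₂)) ∈ emb Q₁ Q₂ X := mem_emb.mpr ⟨y, hy, rfl⟩
    apply mk_mem_of_mem_emb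
    have h1 := hmove ⟨_, hw⟩
    rw [moveHom_mk] at h1
    show (((α₁ y.1 : Q₁) : Ω₁), ((α₂ y.2 : Q₂) : Ω₂)) ∈ emb Q₁ Q₂ X
    rw [h1]
    exact (β ⟨_, hw⟩).2
  have hstab : ((α₁, α₂) : MulAut Q₁ × MulAut Q₂) • X = X := by
    apply Subgroup.eq_of_le_of_card_ge hle
    rw [pair_smul_def, Subgroup.card_map_of_injective (MulEquiv.injective _)]
  refine ⟨(α₁, α₂), hα₁, hα₂, hstab, ?_⟩
  apply MulEquiv.ext
  intro w
  apply Subtype.ext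
  rw [prodResAut_coe, hmove]


theorem card_autGroup_emb [Finite S₁] [Finite S₂] (hE : IsProductSystem F₁ F₂ E) (hQ₁ : Q₁ ≤ S₁)
    (hQ₂ : Q₂ ≤ S₂) {X : Subgroup (Q₁ × Q₂)} (hX : FullProj X) :
    Nat.card (E.autGroup (emb Q₁ Q₂ X)) =
      Nat.card ↥((F₁.autGroup Q₁).prod (F₂.autGroup Q₂) ⊓
        MulAction.stabilizer (MulAut Q₁ × MulAut Q₂) X) := by
  symm
  let f : ↥((F₁.autGroup Q₁).prod (F₂.autGroup Q₂) ⊓
      MulAction.stabilizer (MulAut Q₁ × MulAut Q₂) X) → E.autGroup (emb Q₁ Q₂ X) := fun a =>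
    ⟨prodResAut a.1 X (MulAction.mem_stabilizer_iff.mp (Subgroup.mem_inf.mp a.2).2),
      resAut_mem_autGroup hE hQ₁ hQ₂ (Subgroup.mem_prod.mp (Subgroup.mem_inf.mp a.2).1).1
        (Subgroup.mem_prod.mp (Subgroup.mem_inf.mp a.2).1).2 X _⟩
  refine Nat.card_congr (Equiv.ofBijective f ⟨?_, ?_⟩)
  · intro a b hab
    apply Subtype.ext
    exact resAut_injective hX (MulAction.mem_stabilizer_iff.mp (Subgroup.mem_inf.mp a.2).2)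
      (MulAction.mem_stabilizer_iff.mp (Subgroup.mem_inf.mp b.2).2) (congrArg Subtype.val hab)
  · rintro ⟨β, hβ⟩
    obtain ⟨a, ha₁, ha₂, hst, hres⟩ := exists_resAut_eq hE hQ₁ hQ₂ hX hβ
    exact ⟨⟨a, Subgroup.mem_inf.mpr ⟨Subgroup.mem_prod.mpr ⟨ha₁, ha₂⟩,
      MulAction.mem_stabilizer_iff.mpr hst⟩⟩, Subtype.ext hres⟩

theorem card_inf_stabilizer_le [Finite S₁] [Finite S₂] (hQ₁ : Q₁ ≤ S₁)
    (hQ₂ : Q₂ ≤ S₂) {X : Subgroup (Q₁ × Q₂)} (hX : FullProj X) :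
    Nat.card ↥((autInducedBy S₁ Q₁).prod (autInducedBy S₂ Q₂) ⊓
        MulAction.stabilizer (MulAut Q₁ × MulAut Q₂) X) ≤
      Nat.card (autInducedBy (S₁.prod S₂) (emb Q₁ Q₂ X)) := by
  have hfin₁ : Finite Q₁ := finite_of_le hQ₁
  have hfin₂ : Finite Q₂ := finite_of_le hQ₂
  have hfin : Finite (emb Q₁ Q₂ X) :=
    Finite.of_injective (fun w : emb Q₁ Q₂ X =>
      ((⟨w.1.1, (Subgroup.mem_prod.mp (emb_le_prod X w.2)).1⟩ : Q₁),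
        (⟨w.1.2, (Subgroup.mem_prod.mp (emb_le_prod X w.2)).2⟩ : Q₂)))
      (fun w w' h => Subtype.ext (Prod.ext (congrArg (fun y : Q₁ × Q₂ => (y.1 : Ω₁)) h)
        (congrArg (fun y : Q₁ × Q₂ => (y.2 : Ω₂)) h)))
  let f : ↥((autInducedBy S₁ Q₁).prod (autInducedBy S₂ Q₂) ⊓
      MulAction.stabilizer (MulAut Q₁ × MulAut Q₂) X) →
      autInducedBy (S₁.prod S₂) (emb Q₁ Q₂ X) := fun a =>
    ⟨prodResAut a.1 X (MulAction.mem_stabilizer_iff.mp (Subgroup.mem_inf.mp a.2).2),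
      resAut_mem_autInducedBy (Subgroup.mem_prod.mp (Subgroup.mem_inf.mp a.2).1).1
        (Subgroup.mem_prod.mp (Subgroup.mem_inf.mp a.2).1).2 X _⟩
  refine Nat.card_le_card_of_injective f ?_
  intro a b hab
  apply Subtype.ext
  exact resAut_injective hX (MulAction.mem_stabilizer_iff.mp (Subgroup.mem_inf.mp a.2).2)
    (MulAction.mem_stabilizer_iff.mp (Subgroup.mem_inf.mp b.2).2) (congrArg Subtype.val hab)

theorem pPart_mul (p : ℕ) {m n : ℕ} (hm : m ≠ 0) (hn : n ≠ 0) :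
    pPart p (m * n) = pPart p m * pPart p n := by
  unfold pPart
  rw [Nat.factorization_mul hm hn, Finsupp.add_apply, pow_add]

theorem isPGroup_prod {p : ℕ} [Fact p.Prime] [Finite S₁] [Finite S₂] (h₁ : IsPGroup p S₁)
    (h₂ : IsPGroup p S₂) : IsPGroup p (S₁.prod S₂) := by
  obtain ⟨a, ha⟩ := IsPGroup.iff_card.mp h₁
  obtain ⟨b, hb⟩ := IsPGroup.iff_card.mp h₂
  apply IsPGroup.of_card (n := a + b)
  rw [Nat.card_congr (Subgroup.prodEquiv S₁ S₂).toEquiv, Nat.card_prod, ha, hb, pow_add]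

instance finite_prod [Finite S₁] [Finite S₂] : Finite (S₁.prod S₂) :=
  Finite.of_equiv _ (Subgroup.prodEquiv S₁ S₂).toEquiv.symm

/-- Step 2: moving `X` by a pair of automorphisms makes `emb X` fully automized. -/
theorem exists_fullyAutomized [Finite S₁] [Finite S₂] (p : ℕ) [Fact p.Prime]
    (hS₁ : IsPGroup p S₁) (hS₂ : IsPGroup p S₂) (hE : IsProductSystem F₁ F₂ E)
    (hQ₁ : F₁.IsFullyAutomized p Q₁) (hQ₂ : F₂.IsFullyAutomized p Q₂)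
    {X : Subgroup (Q₁ × Q₂)} (hX : FullProj X) :
    ∃ a : MulAut Q₁ × MulAut Q₂, a.1 ∈ F₁.autGroup Q₁ ∧ a.2 ∈ F₂.autGroup Q₂ ∧
      E.IsFullyAutomized p (emb Q₁ Q₂ (a • X)) := by
  have hfin₁ : Finite Q₁ := finite_of_le hQ₁.1
  have hfin₂ : Finite Q₂ := finite_of_le hQ₂.1
  have hTA : (autInducedBy S₁ Q₁).prod (autInducedBy S₂ Q₂) ≤
      (F₁.autGroup Q₁).prod (F₂.autGroup Q₂) :=
    Subgroup.prod_mono (autInducedBy_le_autGroup F₁ hQ₁.1) (autInducedBy_le_autGroup F₂ hQ₂.1)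
  have hT : Nat.card ↥((autInducedBy S₁ Q₁).prod (autInducedBy S₂ Q₂)) =
      pPart p (Nat.card ↥((F₁.autGroup Q₁).prod (F₂.autGroup Q₂))) := by
    rw [Nat.card_congr (Subgroup.prodEquiv _ _).toEquiv, Nat.card_prod,
      Nat.card_congr (Subgroup.prodEquiv (F₁.autGroup Q₁) (F₂.autGroup Q₂)).toEquiv, Nat.card_prod,
      pPart_mul p Nat.card_pos.ne' Nat.card_pos.ne',
      (isFullyAutomized_iff_card F₁ p hQ₁.1).mp hQ₁, (isFullyAutomized_iff_card F₂ p hQ₂.1).mp hQ₂]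
  obtain ⟨a, haA, ha⟩ := exists_smul_stabilizer_card p hTA hT X
  have ha' := Subgroup.mem_prod.mp haA
  refine ⟨a, ha'.1, ha'.2, ?_⟩
  have hYS : emb Q₁ Q₂ (a • X) ≤ S₁.prod S₂ :=
    (emb_le_prod _).trans (Subgroup.prod_mono hQ₁.1 hQ₂.1)
  rw [isFullyAutomized_iff_card E p hYS]
  apply le_antisymm (card_autInducedBy_le E p (isPGroup_prod hS₁ hS₂) hYS)
  rw [card_autGroup_emb hE hQ₁.1 hQ₂.1 (hX.smul a), ← ha]
  exact card_inf_stabilizer_le hQ₁.1 hQ₂.1 (hX.smul a)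


theorem pairHom_range_map_fst {P : Subgroup (Ω₁ × Ω₂)}
    (φ₁ : P.map (MonoidHom.fst Ω₁ Ω₂) →* Ω₁) (φ₂ : P.map (MonoidHom.snd Ω₁ Ω₂) →* Ω₂) :
    (pairHom le_rfl le_rfl φ₁ φ₂).range.map (MonoidHom.fst Ω₁ Ω₂) = φ₁.range := by
  ext z
  constructor
  · rintro ⟨_, ⟨x, rfl⟩, rfl⟩
    exact ⟨_, rfl⟩
  · rintro ⟨⟨_, x, hx, rfl⟩, rfl⟩
    exact ⟨_, ⟨⟨x, hx⟩, rfl⟩, rfl⟩

theorem pairHom_range_map_snd {P : Subgroup (Ω₁ × Ω₂)}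
    (φ₁ : P.map (MonoidHom.fst Ω₁ Ω₂) →* Ω₁) (φ₂ : P.map (MonoidHom.snd Ω₁ Ω₂) →* Ω₂) :
    (pairHom le_rfl le_rfl φ₁ φ₂).range.map (MonoidHom.snd Ω₁ Ω₂) = φ₂.range := by
  ext z
  constructor
  · rintro ⟨_, ⟨x, rfl⟩, rfl⟩
    exact ⟨_, rfl⟩
  · rintro ⟨⟨_, x, hx, rfl⟩, rfl⟩
    exact ⟨_, ⟨⟨x, hx⟩, rfl⟩, rfl⟩

theorem extender_map_fst_le {R : Subgroup (Ω₁ × Ω₂)}
    (φ₁ : R.map (MonoidHom.fst Ω₁ Ω₂) →* Ω₁) (φ₂ : R.map (MonoidHom.snd Ω₁ Ω₂) →* Ω₂) :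
    (extender (S₁.prod S₂) R (pairHom le_rfl le_rfl φ₁ φ₂)).map (MonoidHom.fst Ω₁ Ω₂) ≤
      extender S₁ (R.map (MonoidHom.fst Ω₁ Ω₂)) φ₁ := by
  unfold extender
  rw [MonoidHom.map_closure, Subgroup.closure_le]
  rintro _ ⟨g, ⟨hgS, hgN, h, hhS, hh⟩, rfl⟩
  apply Subgroup.subset_closure
  refine ⟨(Subgroup.mem_prod.mp hgS).1, Subgroup.le_normalizer_map _ ⟨g, hgN, rfl⟩, h.1,
    (Subgroup.mem_prod.mp hhS).1, ?_⟩
  rintro ⟨_, x, hx, rfl⟩ hx'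
  have hgx : g * x * g⁻¹ ∈ R := by
    have := (Subgroup.mem_normalizer_iff.mp hgN x).mp hx
    exact this
  have h1 := congrArg Prod.fst (hh ⟨x, hx⟩ hgx)
  exact h1

theorem extender_map_snd_le {R : Subgroup (Ω₁ × Ω₂)}
    (φ₁ : R.map (MonoidHom.fst Ω₁ Ω₂) →* Ω₁) (φ₂ : R.map (MonoidHom.snd Ω₁ Ω₂) →* Ω₂) :
    (extender (S₁.prod S₂) R (pairHom le_rfl le_rfl φ₁ φ₂)).map (MonoidHom.snd Ω₁ Ω₂) ≤
      extender S₂ (R.map (MonoidHom.snd Ω₁ Ω₂)) φ₂ := by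
  unfold extender
  rw [MonoidHom.map_closure, Subgroup.closure_le]
  rintro _ ⟨g, ⟨hgS, hgN, h, hhS, hh⟩, rfl⟩
  apply Subgroup.subset_closure
  refine ⟨(Subgroup.mem_prod.mp hgS).2, Subgroup.le_normalizer_map _ ⟨g, hgN, rfl⟩, h.2,
    (Subgroup.mem_prod.mp hhS).2, ?_⟩
  rintro ⟨_, x, hx, rfl⟩ hx'
  have hgx : g * x * g⁻¹ ∈ R := by
    have := (Subgroup.mem_normalizer_iff.mp hgN x).mp hx
    exact this
  have h1 := congrArg Prod.snd (hh ⟨x, hx⟩ hgx)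
  exact h1

/-- Step 3: receptivity of the projections gives receptivity. -/
theorem isReceptive_of_proj (hE : IsProductSystem F₁ F₂ E) {Y : Subgroup (Ω₁ × Ω₂)}
    (hY : Y ≤ S₁.prod S₂) (h₁ : F₁.IsReceptive (Y.map (MonoidHom.fst Ω₁ Ω₂)))
    (h₂ : F₂.IsReceptive (Y.map (MonoidHom.snd Ω₁ Ω₂))) : E.IsReceptive Y := by
  refine ⟨hY, ?_⟩
  intro R φ hφ hr
  obtain ⟨φ₁, hφ₁, φ₂, hφ₂, rfl⟩ := exists_pairHom hE hφ
  have hr₁ : φ₁.range = Y.map (MonoidHom.fst Ω₁ Ω₂) := by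
    rw [← hr, pairHom_range_map_fst]
  have hr₂ : φ₂.range = Y.map (MonoidHom.snd Ω₁ Ω₂) := by
    rw [← hr, pairHom_range_map_snd]
  obtain ⟨ψ₁, hψ₁, hag₁⟩ := h₁.2 _ φ₁ hφ₁ hr₁
  obtain ⟨ψ₂, hψ₂, hag₂⟩ := h₂.2 _ φ₂ hφ₂ hr₂
  have hNS : extender (S₁.prod S₂) R (pairHom le_rfl le_rfl φ₁ φ₂) ≤ S₁.prod S₂ :=
    (extender_le_normalizerIn R _).trans inf_le_left
  refine ⟨pairHom (extender_map_fst_le φ₁ φ₂) (extender_map_snd_le φ₁ φ₂) ψ₁ ψ₂,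
    pairHom_mem hE hNS _ _ hψ₁ hψ₂, ?_⟩
  intro x hP hN
  rw [pairHom_apply, pairHom_apply]
  exact Prod.ext (hag₁ x.1 _ _) (hag₂ x.2 _ _)

/-- The direct product of saturated fusion systems is saturated. -/
theorem isSaturated_of_isProductSystem [Finite S₁] [Finite S₂] (p : ℕ) [Fact p.Prime]
    (hS₁ : IsPGroup p S₁) (hS₂ : IsPGroup p S₂) (hF₁ : F₁.IsSaturated p) (hF₂ : F₂.IsSaturated p)
    (hE : IsProductSystem F₁ F₂ E) : E.IsSaturated p := by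
  intro P hP
  obtain ⟨Q₁, ⟨φ₁, hφ₁, hr₁⟩, hA₁, hR₁⟩ := hF₁ _ (map_fst_le hP)
  obtain ⟨Q₂, ⟨φ₂, hφ₂, hr₂⟩, hA₂, hR₂⟩ := hF₂ _ (map_snd_le hP)
  -- first move
  have hφ : pairHom le_rfl le_rfl φ₁ φ₂ ∈ E.Hom P := pairHom_mem hE hP _ _ hφ₁ hφ₂
  have hf : (pairHom le_rfl le_rfl φ₁ φ₂).range.map (MonoidHom.fst Ω₁ Ω₂) = Q₁ := by
    rw [pairHom_range_map_fst, hr₁]
  have hs : (pairHom le_rfl le_rfl φ₁ φ₂).range.map (MonoidHom.snd Ω₁ Ω₂) = Q₂ := by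
    rw [pairHom_range_map_snd, hr₂]
  have hP'le : (pairHom le_rfl le_rfl φ₁ φ₂).range ≤ Q₁.prod Q₂ := by
    intro z hz
    refine Subgroup.mem_prod.mpr ⟨?_, ?_⟩
    · rw [← hf]; exact ⟨z, hz, rfl⟩
    · rw [← hs]; exact ⟨z, hz, rfl⟩
  have hemb := emb_comap hP'le
  have hX : FullProj ((pairHom le_rfl le_rfl φ₁ φ₂).range.comap (Q₁.subtype.prodMap Q₂.subtype)) := by
    constructor
    · rintro ⟨q, hq⟩
      have hq' := hq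
      rw [← hf] at hq'
      obtain ⟨z, hz, rfl⟩ := hq'
      have hz' := Subgroup.mem_prod.mp (hP'le hz)
      exact ⟨(⟨z.1, hz'.1⟩, ⟨z.2, hz'.2⟩), hz, rfl⟩
    · rintro ⟨q, hq⟩
      have hq' := hq
      rw [← hs] at hq'
      obtain ⟨z, hz, rfl⟩ := hq'
      have hz' := Subgroup.mem_prod.mp (hP'le hz)
      exact ⟨(⟨z.1, hz'.1⟩, ⟨z.2, hz'.2⟩), hz, rfl⟩
  obtain ⟨a, ha₁, ha₂, hauto⟩ := exists_fullyAutomized p hS₁ hS₂ hE hA₁ hA₂ hX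
  refine ⟨emb Q₁ Q₂ (a • ((pairHom le_rfl le_rfl φ₁ φ₂).range.comap
    (Q₁.subtype.prodMap Q₂.subtype))), ?_, hauto, ?_⟩
  · refine isConj_trans E ⟨_, hφ, rfl⟩ ?_
    rw [← hemb]
    refine ⟨moveHom a _, moveHom_mem hE hA₁.1 hA₂.1 ha₁ ha₂ _, ?_⟩
    rw [moveHom_range, hemb]
  · apply isReceptive_of_proj hE hauto.1
    · rw [(hX.smul a).map_fst]; exact hR₁
    · rw [(hX.smul a).map_snd]; exact hR₂

end Sat

end Cfsg.Agent.Helper25
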