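import Mathlib
import Cfsg.Agent.Helper25.StronglyEmb
import Cfsg.Agent.Helper25.SylowIn
import Cfsg.Agent.Helper25.FusionAlperin

set_option autoImplicit false

namespace Cfsg.Agent.Helper25

open Cfsg

variable {X : Type*} [Group X]

/-- In a finite group, an element conjugating a subgroup into itself normalizes it. -/
theorem mem_normalizer_of_conj_mem {U : Subgroup X} [Finite U] {g : X}
    (h : ∀ u ∈ U, g * u * g⁻¹ ∈ U) : g ∈ Subgroup.normalizer (U : Set X) := by
  let f : U → U := fun u => ⟨g * u * g⁻¹, h u u.2⟩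
  have hinj : Function.Injective f := by
    intro u v huv
    have h1 : g * (u : X) * g⁻¹ = g * (v : X) * g⁻¹ := congrArg Subtype.val huv
    exact Subtype.ext (mul_left_cancel (mul_right_cancel h1))
  have hsurj : Function.Surjective f := Finite.injective_iff_surjective.mp hinj
  rw [Subgroup.mem_normalizer_iff]
  intro x
  constructor
  · exact h x
  · intro hx
    obtain ⟨u, hu⟩ := hsurj ⟨g * x * g⁻¹, hx⟩
    have h1 : g * (u : X) * g⁻¹ = g * x * g⁻¹ := congrArg Subtype.val hu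
    have h2 : (u : X) = x := mul_left_cancel (mul_right_cancel h1)
    rw [← h2]
    exact u.2

/-- A `p`-subgroup of `Y` is conjugate by an element of `Y` into a Sylow subgroup lying in `Y`. -/
theorem exists_conj_mem_of_le [Finite X] (p : ℕ) [Fact p.Prime] (T : Sylow p X)
    {Y D : Subgroup X} (hTY : (T : Subgroup X) ≤ Y) (hDY : D ≤ Y) (hD : IsPGroup p D) :
    ∃ y ∈ Y, ∀ d ∈ D, y * d * y⁻¹ ∈ (T : Subgroup X) := by
  have hD' : IsPGroup p (D.subgroupOf Y) := hD.comap_subtype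
  obtain ⟨g, hg⟩ := exists_conj_le_sylow p (T.subtype hTY) hD'
  refine ⟨g, g.2, fun d hd => ?_⟩
  have h1 : (MulAut.conj g).toMonoidHom ⟨d, hDY hd⟩ ∈ ((T.subtype hTY : Sylow p Y) : Subgroup Y) :=
    hg ⟨⟨d, hDY hd⟩, hd, rfl⟩
  rw [Sylow.coe_subtype] at h1
  exact h1

/-- Conjugating normalizers. -/
theorem conj_mem_normalizer_map {D : Subgroup X} (y : X) {n : X}
    (hn : n ∈ Subgroup.normalizer (D : Set X)) :
    y * n * y⁻¹ ∈ Subgroup.normalizer ((D.map (MulAut.conj y).toMonoidHom : Subgroup X) : Set X) := by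
  have := Subgroup.map_equiv_normalizer_eq D (MulAut.conj y)
  rw [← this]
  exact ⟨n, hn, rfl⟩

/-- `Γ_{T,1}` contains the normalizer of each of its nontrivial `p`-subgroups. -/
theorem normalizer_le_of_pSubgroup_le [Finite X] (p : ℕ) [Fact p.Prime] (T : Sylow p X)
    (hT : (T : Subgroup X) ≠ ⊥) {D : Subgroup X}
    (hDY : D ≤ kGeneratedCore p 1 (T : Subgroup X)) (hD : IsPGroup p D) (hDne : D ≠ ⊥) :
    Subgroup.normalizer (D : Set X) ≤ kGeneratedCore p 1 (T : Subgroup X) := by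
  have hTY : (T : Subgroup X) ≤ kGeneratedCore p 1 (T : Subgroup X) :=
    Subgroup.le_normalizer.trans (normalizer_le_kGeneratedCore p T T le_rfl hT)
  obtain ⟨y, hyY, hy⟩ := exists_conj_mem_of_le p T hTY hDY hD
  have hD'T : D.map (MulAut.conj y).toMonoidHom ≤ (T : Subgroup X) := by
    rintro _ ⟨d, hd, rfl⟩
    exact hy d hd
  have hD'ne : D.map (MulAut.conj y).toMonoidHom ≠ ⊥ := by
    intro h
    apply hDne
    rw [Subgroup.eq_bot_iff_forall] at h ⊢
    intro d hd
    have := h _ ⟨d, hd, rfl⟩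
    simpa using this
  have hN := normalizer_le_kGeneratedCore p T _ hD'T hD'ne
  intro n hn
  have h1 := hN (conj_mem_normalizer_map y hn)
  have h2 := Subgroup.mul_mem _ (Subgroup.mul_mem _ (Subgroup.inv_mem _ hyY) h1) hyY
  have e : y⁻¹ * (y * n * y⁻¹) * y = n := by group
  rwa [e] at h2

/-- If a Sylow `p`-subgroup `T` meets its conjugate `a T a⁻¹` nontrivially, then `a ∈ Γ_{T,1}`. -/
theorem mem_kGeneratedCore_of_inf_conj_ne_bot [Finite X] (p : ℕ) [Fact p.Prime] (T : Sylow p X)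
    (a : X) (h : ∃ u ∈ (T : Subgroup X), u ≠ 1 ∧ a⁻¹ * u * a ∈ (T : Subgroup X)) :
    a ∈ kGeneratedCore p 1 (T : Subgroup X) := by
  classical
  obtain ⟨u, huT, hu1, huT'⟩ := h
  set Y := kGeneratedCore p 1 (T : Subgroup X) with hY
  have hT : (T : Subgroup X) ≠ ⊥ := by
    intro hbot
    rw [hbot, Subgroup.mem_bot] at huT
    exact hu1 huT
  have hTY : (T : Subgroup X) ≤ Y :=
    Subgroup.le_normalizer.trans (normalizer_le_kGeneratedCore p T T le_rfl hT)
  -- the property of being a `p`-subgroup of `Y ∩ a Y a⁻¹`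
  let PK : Subgroup X → Prop := fun U => IsPGroup p U ∧ U ≤ Y ∧ ∀ x ∈ U, a⁻¹ * x * a ∈ Y
  have hD₀ : PK (Subgroup.zpowers u) := by
    have hle : Subgroup.zpowers u ≤ (T : Subgroup X) := by
      rw [Subgroup.zpowers_le]; exact huT
    refine ⟨isPGroup_of_le T.2 hle, hle.trans hTY, ?_⟩
    intro x hx
    obtain ⟨k, rfl⟩ := Subgroup.mem_zpowers_iff.mp hx
    have e : a⁻¹ * u ^ k * a = (a⁻¹ * u * a) ^ k := by
      have := map_zpow (MulAut.conj a⁻¹) u k
      simpa [MulAut.conj_apply] using this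
    rw [e]
    exact hTY (Subgroup.zpow_mem _ huT' k)
  -- choose a member of maximal order
  let C : Set ℕ := {n | ∃ U : Subgroup X, PK U ∧ Nat.card U = n}
  have hCne : C.Nonempty := ⟨_, _, hD₀, rfl⟩
  have hCbdd : BddAbove C := by
    refine ⟨Nat.card X, ?_⟩
    rintro _ ⟨U, -, rfl⟩
    exact Subgroup.card_le_card_group U
  obtain ⟨U, hU, hUmax⟩ := Nat.sSup_mem hCne hCbdd
  have hmax : ∀ U' : Subgroup X, PK U' → Nat.card U' ≤ Nat.card U := by
    intro U' hU'
    rw [hUmax]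
    exact le_csSup hCbdd ⟨U', hU', rfl⟩
  obtain ⟨hUp, hUY, hUa⟩ := hU
  have hUne : U ≠ ⊥ := by
    intro hbot
    have h1 := hmax _ hD₀
    rw [hbot, Subgroup.card_bot, Nat.card_zpowers] at h1
    have h2 : orderOf u = 1 := le_antisymm h1 (orderOf_pos u)
    exact hu1 (orderOf_eq_one_iff.mp h2)
  have hNU : Subgroup.normalizer (U : Set X) ≤ Y :=
    normalizer_le_of_pSubgroup_le p T hT hUY hUp hUne
  have hNU' : ∀ n ∈ Subgroup.normalizer (U : Set X), a⁻¹ * n * a ∈ Y := by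
    intro n hn
    have hU'Y : U.map (MulAut.conj a⁻¹).toMonoidHom ≤ Y := by
      rintro _ ⟨x, hx, rfl⟩
      have := hUa x hx
      simpa [MulAut.conj_apply] using this
    have hU'p : IsPGroup p (U.map (MulAut.conj a⁻¹).toMonoidHom) := hUp.map _
    have hU'ne : U.map (MulAut.conj a⁻¹).toMonoidHom ≠ ⊥ := by
      intro h
      apply hUne
      rw [Subgroup.eq_bot_iff_forall] at h ⊢
      intro d hd
      have := h _ ⟨d, hd, rfl⟩
      exact (MulEquiv.map_eq_one_iff (MulAut.conj a⁻¹)).mp this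
    have h1 := normalizer_le_of_pSubgroup_le p T hT hU'Y hU'p hU'ne
    have h2 := h1 (conj_mem_normalizer_map a⁻¹ hn)
    simpa using h2
  -- `U` is a Sylow subgroup
  obtain ⟨T₁, hUT₁⟩ := hUp.exists_le_sylow
  have hUeq : U = (T₁ : Subgroup X) := by
    by_contra hne
    obtain ⟨g, hgN, hgU⟩ := exists_mem_normalizerIn_not_mem (S := (T₁ : Subgroup X)) p T₁.2 hUT₁ hne
    have hPK : PK (FusionSystem.normalizerIn (T₁ : Subgroup X) U) := by
      refine ⟨isPGroup_of_le T₁.2 inf_le_left, inf_le_right.trans hNU, ?_⟩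
      intro x hx
      exact hNU' x hx.2
    have h1 := hmax _ hPK
    have hle : U ≤ FusionSystem.normalizerIn (T₁ : Subgroup X) U := fun x hx =>
      ⟨hUT₁ hx, Subgroup.le_normalizer hx⟩
    have h2 : U = FusionSystem.normalizerIn (T₁ : Subgroup X) U :=
      Subgroup.eq_of_le_of_card_ge hle h1
    exact hgU (h2 ▸ hgN)
  have hT₁Y : (T₁ : Subgroup X) ≤ Y := hUeq ▸ hUY
  -- conjugate `a⁻¹ U a` back into `U` inside `Y`
  have hU'Y : U.map (MulAut.conj a⁻¹).toMonoidHom ≤ Y := by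
    rintro _ ⟨x, hx, rfl⟩
    have := hUa x hx
    simpa [MulAut.conj_apply] using this
  obtain ⟨y, hyY, hy⟩ := exists_conj_mem_of_le p T₁ hT₁Y hU'Y (hUp.map _)
  have hg : y * a⁻¹ ∈ Subgroup.normalizer (U : Set X) := by
    apply mem_normalizer_of_conj_mem
    intro x hx
    have h1 := hy _ ⟨x, hx, rfl⟩
    rw [← hUeq] at h1
    have e : y * (MulAut.conj a⁻¹).toMonoidHom x * y⁻¹ = y * a⁻¹ * x * (y * a⁻¹)⁻¹ := by
      simp [mul_assoc]
    rwa [e] at h1
  have h1 : y * a⁻¹ ∈ Y := hNU hg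
  have h2 : a⁻¹ ∈ Y := by
    have := Y.mul_mem (Y.inv_mem hyY) h1
    rwa [inv_mul_cancel_left] at this
  have := Y.inv_mem h2
  rwa [inv_inv] at this

end Cfsg.Agent.Helper25
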