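import Mathlib
import Cfsg.Agent.Helper25.FusionNormal
import Cfsg.Agent.Helper25.StronglyEmb2

set_option autoImplicit false

namespace Cfsg.Agent.Helper25

open Cfsg Cfsg.FusionSystem

/-- A `p`-subgroup `B` of a finite group `A` which is not of maximal `p`-power order is normalized
by a `p`-element of `A` outside `B`. -/
theorem exists_pElement_normalizing {Y : Type*} [Group Y] [Finite Y] (p : ℕ) [Fact p.Prime]
    {A B : Subgroup Y} (hBA : B ≤ A) (hB : IsPGroup p B)
    (hcard : Nat.card B ≠ pPart p (Nat.card A)) :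
    ∃ α ∈ A, α ∈ Subgroup.normalizer (B : Set Y) ∧ α ∉ B ∧ ∃ a : ℕ, α ^ (p ^ a) = 1 := by
  obtain ⟨T, hBT, hTA, hTp, hTcard⟩ := exists_pSubgroup_card_eq_pPart p hB hBA
  have hne : B ≠ T := by
    rintro rfl
    exact hcard hTcard
  obtain ⟨α, hαN, hαB⟩ := exists_mem_normalizerIn_not_mem (S := T) p hTp hBT hne
  obtain ⟨a, ha⟩ := hTp ⟨α, hαN.1⟩
  refine ⟨α, hTA hαN.1, hαN.2, hαB, a, ?_⟩
  have := congrArg Subtype.val ha
  simpa using this

/-- Replacing an extension by a power of `p`-power order restricting to the same element. -/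
theorem exists_pow_pElement {X Y : Type*} [Group X] [Group Y] [Finite X] (p : ℕ) [hp : Fact p.Prime]
    (x : X) (y : Y) {a : ℕ} (hy : y ^ (p ^ a) = 1) :
    ∃ j : ℕ, (∃ b : ℕ, (x ^ j) ^ (p ^ b) = 1) ∧ y ^ j = y := by
  have hpos : 0 < orderOf x := orderOf_pos x
  obtain ⟨b, m, hm, hbm⟩ := Nat.exists_eq_pow_mul_and_not_dvd hpos.ne' p hp.out.ne_one
  have hcop : Nat.Coprime m (orderOf y) := by
    have h1 : orderOf y ∣ p ^ a := orderOf_dvd_of_pow_eq_one hy
    have h2 : Nat.Coprime m (p ^ a) :=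
      Nat.Coprime.pow_right _ ((Nat.Prime.coprime_iff_not_dvd hp.out).mpr hm).symm
    exact Nat.Coprime.coprime_dvd_right h1 h2
  obtain ⟨k, hk⟩ := exists_pow_eq_self_of_coprime hcop
  refine ⟨m * k, ⟨b, ?_⟩, ?_⟩
  · rw [← pow_mul, mul_comm (m * k), ← mul_assoc, ← hbm, pow_mul, pow_orderOf_eq_one, one_pow]
  · rw [pow_mul]; exact hk

variable {Ω : Type*} [Group Ω] {S : Subgroup Ω}

/-- The inductive step in Stancu's saturation criterion. -/
theorem stancu_step [Finite S] (p : ℕ) [Fact p.Prime] (hS : IsPGroup p S) (F : FusionSystem S)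
    (hrec : ∀ P : Subgroup Ω, F.IsFullyNormalized P → F.IsReceptive P)
    {R : Subgroup Ω} (hFN : F.IsFullyNormalized R) (hne : R ≠ S)
    (IH : ∀ N' : Subgroup Ω, F.IsFullyNormalized N' → Nat.card R < Nat.card N' →
      F.IsFullyAutomized p N') :
    F.IsFullyAutomized p R := by
  have hRS := hFN.1
  have hfinR : Finite R := finite_of_le hRS
  rw [isFullyAutomized_iff_card F p hRS]
  by_contra hcard
  obtain ⟨α, hαA, hαN, hαAS, a, hαp⟩ := exists_pElement_normalizing p
    (autInducedBy_le_autGroup F hRS) (autInducedBy_isPGroup hS R) hcard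
  have hαmem : autHom α ∈ F.Hom R := (mem_autGroup_iff F hRS α).mp hαA
  have hNS : normalizerIn S R ≤ S := inf_le_left
  have hRN : R ≤ normalizerIn S R := fun x hx => ⟨hRS hx, Subgroup.le_normalizer hx⟩
  -- the extender of `α` contains `N_S(R)`
  have hNext : normalizerIn S R ≤ extender S R (autHom α) := by
    intro g hg
    apply Subgroup.subset_closure
    refine ⟨hg.1, hg.2, ?_⟩
    have hcg : R.normalizerMonoidHom ⟨g, hg.2⟩ ∈ autInducedBy S R :=
      (mem_autInducedBy_iff S R _).mpr ⟨g, hg.1, fun x => rfl⟩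
    have h1 : α * R.normalizerMonoidHom ⟨g, hg.2⟩ * α⁻¹ ∈ autInducedBy S R :=
      (Subgroup.mem_normalizer_iff.mp hαN _).mp hcg
    obtain ⟨h, hhS, hh⟩ := (mem_autInducedBy_iff S R _).mp h1
    refine ⟨h, hhS, fun x hx => ?_⟩
    have h2 := hh (α x)
    simp only [MulAut.mul_apply, MulAut.inv_apply_self] at h2
    exact h2
  obtain ⟨χ, hχ, hχext⟩ := (hrec R hFN).2 R (autHom α) hαmem (autHom_range α)
  have hψF : χ.comp (Subgroup.inclusion hNext) ∈ F.Hom (normalizerIn S R) :=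
    restrict_mem F hNext hχ
  have hψR : ∀ x : R, χ (Subgroup.inclusion hNext (Subgroup.inclusion hRN x)) = α x :=
    fun x => hχext x x.2 (hNext (hRN x.2))
  -- `ψ` maps `N_S(R)` into itself
  have hψN : ∀ g : normalizerIn S R, χ (Subgroup.inclusion hNext g) ∈ normalizerIn S R := by
    intro g
    refine ⟨(F.le_of_mem hψF).2 g, ?_⟩
    apply mem_normalizer_of_conj_mem
    intro y hy
    have hx : (g : Ω) * ((α⁻¹ ⟨y, hy⟩ : R) : Ω) * (g : Ω)⁻¹ ∈ R :=
      (Subgroup.mem_normalizer_iff.mp g.2.2 _).mp (α⁻¹ ⟨y, hy⟩).2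
    have h1 : χ (Subgroup.inclusion hNext g) * y * (χ (Subgroup.inclusion hNext g))⁻¹ =
        ((α ⟨_, hx⟩ : R) : Ω) := by
      rw [← hψR ⟨_, hx⟩]
      have e1 : Subgroup.inclusion hNext (Subgroup.inclusion hRN ⟨_, hx⟩) =
          Subgroup.inclusion hNext g *
            Subgroup.inclusion hNext (Subgroup.inclusion hRN (α⁻¹ ⟨y, hy⟩)) *
            (Subgroup.inclusion hNext g)⁻¹ := Subtype.ext rfl
      rw [e1, map_mul, map_mul, map_inv, hψR]
      simp
    rw [h1]
    exact (α ⟨_, hx⟩).2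
  have hfinN : Finite (normalizerIn S R) := finite_of_le hNS
  have hψrange : (χ.comp (Subgroup.inclusion hNext)).range = normalizerIn S R := by
    have hle : (χ.comp (Subgroup.inclusion hNext)).range ≤ normalizerIn S R := by
      rintro _ ⟨g, rfl⟩
      exact hψN g
    have hfinr : Finite (χ.comp (Subgroup.inclusion hNext)).range := finite_of_le (hle.trans hNS)
    apply Subgroup.eq_of_le_of_card_ge hle
    exact Nat.card_le_card_of_injective
      (fun g => (⟨(χ.comp (Subgroup.inclusion hNext)) g, g, rfl⟩ :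
        (χ.comp (Subgroup.inclusion hNext)).range))
      (fun x y hxy => F.injective_of_mem hψF (congrArg Subtype.val hxy))
  set αt : MulAut (normalizerIn S R) :=
    isoOfHom (χ.comp (Subgroup.inclusion hNext)) (F.injective_of_mem hψF) hψrange with hαt
  have hαtA : αt ∈ F.autGroup (normalizerIn S R) := by
    apply Subgroup.subset_closure
    show autHom αt ∈ F.Hom (normalizerIn S R)
    have : autHom αt = χ.comp (Subgroup.inclusion hNext) := by
      ext x; rfl
    rw [this]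
    exact hψF
  have hαtR : ∀ x : R, αt (Subgroup.inclusion hRN x) = Subgroup.inclusion hRN (α x) :=
    fun x => Subtype.ext (hψR x)
  obtain ⟨j, ⟨b, hjb⟩, hjα⟩ := exists_pow_pElement p αt α hαp
  have hαhA : αt ^ j ∈ F.autGroup (normalizerIn S R) := Subgroup.pow_mem _ hαtA j
  have hαhR : ∀ x : R, (αt ^ j) (Subgroup.inclusion hRN x) = Subgroup.inclusion hRN (α x) := by
    have hpow : ∀ k : ℕ, ∀ x : R,
        (αt ^ k) (Subgroup.inclusion hRN x) = Subgroup.inclusion hRN ((α ^ k) x) := by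
      intro k
      induction k with
      | zero => intro x; rfl
      | succ k ih =>
        intro x
        rw [pow_succ', pow_succ', MulAut.mul_apply, MulAut.mul_apply, ih, hαtR]
    intro x
    rw [hpow j x, hjα]
  -- a fully normalized conjugate of `N_S(R)`
  obtain ⟨g₀, hg₀N, hg₀R⟩ := exists_mem_normalizerIn_not_mem p hS hRS hne
  have hcardlt : Nat.card R < Nat.card (normalizerIn S R) :=
    card_lt_of_lt hNS (lt_of_le_of_ne hRN (fun h => hg₀R (h ▸ hg₀N)))
  obtain ⟨N', hNN', hFN'⟩ := exists_isConj_fullyNormalized F hNS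
  have hcardN' : Nat.card (normalizerIn S R) = Nat.card N' := card_eq_of_isConj F hNN'
  obtain ⟨-, T', hT'⟩ := IH N' hFN' (by omega)
  obtain ⟨θ₀, hθ₀, hr⟩ := hNN'
  set e := isoOfHom θ₀ (F.injective_of_mem hθ₀) hr with he
  have hN'S : N' ≤ S := hFN'.1
  have hfinN' : Finite N' := finite_of_le hN'S
  have hβA : MulAut.congr e (αt ^ j) ∈ F.autGroup N' := congr_mem_autGroup F hθ₀ hr hαhA
  have hβp : (MulAut.congr e (αt ^ j)) ^ (p ^ b) = 1 := by
    rw [← map_pow, hjb, map_one]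
  have hU : IsPGroup p (Subgroup.zpowers (⟨MulAut.congr e (αt ^ j), hβA⟩ : F.autGroup N')) := by
    rintro ⟨_, k, rfl⟩
    refine ⟨b, Subtype.ext ?_⟩
    show ((⟨MulAut.congr e (αt ^ j), hβA⟩ : F.autGroup N') ^ k) ^ (p ^ b) = 1
    rw [← zpow_natCast, ← zpow_mul, mul_comm, zpow_mul, zpow_natCast]
    have : (⟨MulAut.congr e (αt ^ j), hβA⟩ : F.autGroup N') ^ (p ^ b) = 1 := Subtype.ext hβp
    rw [this, one_zpow]
  obtain ⟨γ, hγ⟩ := exists_conj_le_sylow p T' hU
  have hγβ : (MulAut.conj γ).toMonoidHom ⟨MulAut.congr e (αt ^ j), hβA⟩ ∈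
      (T' : Subgroup (F.autGroup N')) := hγ ⟨_, Subgroup.mem_zpowers _, rfl⟩
  rw [hT'] at hγβ
  have hγβ' : (γ : MulAut N') * MulAut.congr e (αt ^ j) * (γ : MulAut N')⁻¹ ∈
      autInducedBy S N' := hγβ
  obtain ⟨g, hgS, hg⟩ := (mem_autInducedBy_iff S N' _).mp hγβ'
  set e' : normalizerIn S R ≃* N' := e.trans (γ : MulAut N') with he'
  have hθ' : N'.subtype.comp e'.toMonoidHom ∈ F.Hom (normalizerIn S R) :=
    comp_mem' F hθ₀ ((mem_autGroup_iff F hN'S γ).mp γ.2) (fun x => (e x).2) (fun x => rfl)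
  have hkey : ∀ n : normalizerIn S R,
      ((e' ((αt ^ j) n) : N') : Ω) = g * ((e' n : N') : Ω) * g⁻¹ := by
    intro n
    have h1 := hg (e' n)
    rw [← h1]
    show (((γ : MulAut N') (e ((αt ^ j) n)) : N') : Ω) =
      (((γ : MulAut N') (e ((αt ^ j) (e.symm ((γ : MulAut N')⁻¹ ((γ : MulAut N') (e n)))))) : N') : Ω)
    rw [MulAut.inv_apply_self, MulEquiv.symm_apply_apply]
  -- the image of `R`
  have hρ : (N'.subtype.comp e'.toMonoidHom).comp (Subgroup.inclusion hRN) ∈ F.Hom R :=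
    restrict_mem F hRN hθ'
  set R' := ((N'.subtype.comp e'.toMonoidHom).comp (Subgroup.inclusion hRN)).range with hR'
  have hRR' : F.IsConj R R' := ⟨_, hρ, rfl⟩
  have hle := hFN.2 R' hRR'
  have hR'S : R' ≤ S := (isConj_le F hRR').2
  have hfinR' : Finite R' := finite_of_le hR'S
  have hN'le : N' ≤ normalizerIn S R' := by
    intro n' hn'
    refine ⟨hN'S hn', ?_⟩
    apply mem_normalizer_of_conj_mem
    rintro _ ⟨x, rfl⟩
    have hx : ((e'.symm ⟨n', hn'⟩ : normalizerIn S R) : Ω) * (x : Ω) *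
        ((e'.symm ⟨n', hn'⟩ : normalizerIn S R) : Ω)⁻¹ ∈ R :=
      (Subgroup.mem_normalizer_iff.mp (e'.symm ⟨n', hn'⟩).2.2 _).mp x.2
    refine ⟨⟨_, hx⟩, ?_⟩
    show ((e' (Subgroup.inclusion hRN ⟨_, hx⟩) : N') : Ω) =
      n' * ((e' (Subgroup.inclusion hRN x) : N') : Ω) * n'⁻¹
    have e1 : Subgroup.inclusion hRN ⟨_, hx⟩ =
        e'.symm ⟨n', hn'⟩ * Subgroup.inclusion hRN x * (e'.symm ⟨n', hn'⟩)⁻¹ := Subtype.ext rfl
    rw [e1, map_mul, map_mul, map_inv, MulEquiv.apply_symm_apply]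
    rfl
  have hgN : g ∈ normalizerIn S R' := by
    refine ⟨hgS, ?_⟩
    apply mem_normalizer_of_conj_mem
    rintro _ ⟨x, rfl⟩
    refine ⟨α x, ?_⟩
    show ((e' (Subgroup.inclusion hRN (α x)) : N') : Ω) =
      g * ((e' (Subgroup.inclusion hRN x) : N') : Ω) * g⁻¹
    rw [← hαhR, hkey]
  have hfinNR' : Finite (normalizerIn S R') := finite_of_le inf_le_left
  have hNeq : N' = normalizerIn S R' := Subgroup.eq_of_le_of_card_ge hN'le (by omega)
  have hgN' : g ∈ N' := hNeq ▸ hgN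
  apply hαAS
  rw [mem_autInducedBy_iff]
  refine ⟨((e'.symm ⟨g, hgN'⟩ : normalizerIn S R) : Ω), hNS (e'.symm ⟨g, hgN'⟩).2, fun x => ?_⟩
  have h1 : (αt ^ j) (Subgroup.inclusion hRN x) =
      e'.symm ⟨g, hgN'⟩ * Subgroup.inclusion hRN x * (e'.symm ⟨g, hgN'⟩)⁻¹ := by
    apply e'.injective
    apply Subtype.ext
    rw [hkey, map_mul, map_mul, map_inv, MulEquiv.apply_symm_apply]
    rfl
  have h2 := congrArg (fun n : normalizerIn S R => (n : Ω)) h1
  rw [hαhR] at h2
  exact h2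

end Cfsg.Agent.Helper25
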