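import Mathlib

set_option autoImplicit false

namespace Cfsg.Agent.Helper25

variable {P : Type*} [Group P]

/-- `α` stabilizes the chain `N 0 ≤ N 1 ≤ ...`: it induces the identity on each factor. -/
def StabilizesChain (N : ℕ → Subgroup P) (α : MulAut P) : Prop :=
  ∀ i, ∀ x ∈ N (i + 1), α x * x⁻¹ ∈ N i

namespace StabilizesChain

variable {N : ℕ → Subgroup P} {α β : MulAut P}

theorem map_mem (h0 : N 0 = ⊥) (hN : Monotone N) (h : StabilizesChain N α) :
    ∀ i, ∀ x ∈ N i, α x ∈ N i := by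
  intro i x hx
  cases i with
  | zero =>
    rw [h0, Subgroup.mem_bot] at hx
    rw [hx, map_one]
    exact Subgroup.one_mem _
  | succ i =>
    have h1 := h i x hx
    have h2 := (N (i + 1)).mul_mem (hN (Nat.le_succ i) h1) hx
    rwa [inv_mul_cancel_right] at h2

theorem one (N : ℕ → Subgroup P) : StabilizesChain N 1 := by
  intro i x _
  simp

theorem mul (h0 : N 0 = ⊥) (hN : Monotone N) (hα : StabilizesChain N α)
    (hβ : StabilizesChain N β) : StabilizesChain N (α * β) := by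
  intro i x hx
  have hβx : β x ∈ N (i + 1) := hβ.map_mem h0 hN _ x hx
  have h1 := hα i (β x) hβx
  have h2 := hβ i x hx
  have h3 := (N i).mul_mem h1 h2
  have e : α (β x) * (β x)⁻¹ * (β x * x⁻¹) = (α * β) x * x⁻¹ := by
    rw [MulAut.mul_apply]; group
  rwa [e] at h3

theorem pow (h0 : N 0 = ⊥) (hN : Monotone N) (hα : StabilizesChain N α) (k : ℕ) :
    StabilizesChain N (α ^ k) := by
  induction k with
  | zero => rw [pow_zero]; exact one N
  | succ k ih => rw [pow_succ]; exact ih.mul h0 hN hα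

/-- A chain-stabilizing automorphism of a finite `p`-group has `p`-power order on each term. -/
theorem exists_pow_fix [Finite P] {p : ℕ} [Fact p.Prime] (hP : IsPGroup p P) (h0 : N 0 = ⊥)
    (hN : Monotone N) (hα : StabilizesChain N α) :
    ∀ i, ∃ k : ℕ, ∀ x ∈ N i, (α ^ (p ^ k)) x = x := by
  intro i
  induction i with
  | zero =>
    refine ⟨0, fun x hx => ?_⟩
    rw [h0, Subgroup.mem_bot] at hx
    rw [hx, map_one]
  | succ i ih =>
    obtain ⟨k, hk⟩ := ih
    obtain ⟨l, hl⟩ := IsPGroup.iff_card.mp hP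
    set β := α ^ (p ^ k) with hβ
    have hβs : StabilizesChain N β := hα.pow h0 hN _
    refine ⟨k + l, fun x hx => ?_⟩
    have hn : β x * x⁻¹ ∈ N i := hβs i x hx
    have hfix : β (β x * x⁻¹) = β x * x⁻¹ := hk _ hn
    have hpow : ∀ j : ℕ, (β ^ j) x = (β x * x⁻¹) ^ j * x := by
      intro j
      induction j with
      | zero => simp
      | succ j ihj =>
        rw [pow_succ', MulAut.mul_apply, ihj, map_mul, map_pow, hfix, pow_succ, mul_assoc,
          inv_mul_cancel_right]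
    have h1 : (β x * x⁻¹) ^ (p ^ l) = 1 := by
      rw [← hl]; exact pow_card_eq_one'
    have h2 : α ^ (p ^ (k + l)) = β ^ (p ^ l) := by
      rw [hβ, ← pow_mul, ← pow_add]
    rw [h2, hpow, h1, one_mul]

theorem pow_eq_one [Finite P] {p : ℕ} [Fact p.Prime] (hP : IsPGroup p P) (h0 : N 0 = ⊥)
    (hN : Monotone N) {m : ℕ} (hm : N m = ⊤) (hα : StabilizesChain N α) :
    ∃ k : ℕ, α ^ (p ^ k) = 1 := by
  obtain ⟨k, hk⟩ := hα.exists_pow_fix hP h0 hN m
  refine ⟨k, ?_⟩
  ext x
  exact hk x (hm ▸ Subgroup.mem_top x)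

theorem inv [Finite P] {p : ℕ} [Fact p.Prime] (hP : IsPGroup p P) (h0 : N 0 = ⊥)
    (hN : Monotone N) {m : ℕ} (hm : N m = ⊤) (hα : StabilizesChain N α) :
    StabilizesChain N α⁻¹ := by
  obtain ⟨k, hk⟩ := hα.pow_eq_one hP h0 hN hm
  have hpos : 0 < p ^ k := pow_pos (Nat.Prime.pos Fact.out) k
  have e : α⁻¹ = α ^ (p ^ k - 1) := by
    apply inv_eq_of_mul_eq_one_right
    rw [← pow_succ', Nat.sub_add_cancel hpos, hk]
  rw [e]
  exact hα.pow h0 hN _

end StabilizesChain

/-- The stabilizer of a chain in a finite `p`-group, as a subgroup of the automorphism group. -/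
def chainStabilizer [Finite P] {p : ℕ} [Fact p.Prime] (hP : IsPGroup p P) (N : ℕ → Subgroup P)
    (h0 : N 0 = ⊥) (hN : Monotone N) {m : ℕ} (hm : N m = ⊤) : Subgroup (MulAut P) where
  carrier := {α | StabilizesChain N α}
  one_mem' := StabilizesChain.one N
  mul_mem' := fun ha hb => StabilizesChain.mul h0 hN ha hb
  inv_mem' := fun ha => StabilizesChain.inv hP h0 hN hm ha

theorem mem_chainStabilizer [Finite P] {p : ℕ} [Fact p.Prime] (hP : IsPGroup p P)
    (N : ℕ → Subgroup P) (h0 : N 0 = ⊥) (hN : Monotone N) {m : ℕ} (hm : N m = ⊤) (α : MulAut P) :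
    α ∈ chainStabilizer hP N h0 hN hm ↔ StabilizesChain N α := Iff.rfl

theorem chainStabilizer_isPGroup [Finite P] {p : ℕ} [Fact p.Prime] (hP : IsPGroup p P)
    (N : ℕ → Subgroup P) (h0 : N 0 = ⊥) (hN : Monotone N) {m : ℕ} (hm : N m = ⊤) :
    IsPGroup p (chainStabilizer hP N h0 hN hm) := by
  rintro ⟨α, hα⟩
  obtain ⟨k, hk⟩ := StabilizesChain.pow_eq_one hP h0 hN hm hα
  exact ⟨k, Subtype.ext hk⟩

end Cfsg.Agent.Helper25
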