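import Mathlib
import Cfsg.Agent.Helper25.FusionStancu
import Cfsg.Agent.Helper25.StabChain

set_option autoImplicit false

namespace Cfsg.Agent.Helper25

open Cfsg Cfsg.FusionSystem

variable {Ω : Type*} [Group Ω] {S : Subgroup Ω}

/-- Two maps on `P` agreeing on a centric normal subgroup `Q` of `P` differ by an element of
`Z(Q)`. -/
theorem agree_on_centric_normal [Finite S] (p : ℕ) [Fact p.Prime] (hS : IsPGroup p S)
    (F : FusionSystem S) (hF : F.IsSaturated p) {P Q : Subgroup Ω} (hQP : Q ≤ P)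
    (hPN : P ≤ Subgroup.normalizer (Q : Set Ω)) (hQ : F.IsCentric Q) (φ φ' : P →* Ω)
    (hφ : φ ∈ F.Hom P) (hφ' : φ' ∈ F.Hom P) (h : ∀ x : P, (x : Ω) ∈ Q → φ x = φ' x) :
    ∃ z : P, (z : Ω) ∈ Q ∧ (z : Ω) ∈ Subgroup.centralizer (Q : Set Ω) ∧
      ∀ y : P, φ' y = φ (z * y * z⁻¹) := by
  have hPS : P ≤ S := (F.le_of_mem hφ).1
  have hfinP : Finite P := finite_of_le hPS
  have hPp : IsPGroup p P := isPGroup_of_le hS hPS
  have hinj := F.injective_of_mem hφ
  have hinj' := F.injective_of_mem hφ'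
  -- Step 1
  have hφQ : φ.comp (Subgroup.inclusion hQP) ∈ F.Hom Q := restrict_mem F hQP hφ
  have hcen := hQ.2 _ ⟨_, hφQ, rfl⟩
  have step1 : ∀ x : P, ∃ t : P, (t : Ω) ∈ Q ∧ (t : Ω) ∈ Subgroup.centralizer (Q : Set Ω) ∧
      φ' x = φ (x * t) := by
    intro x
    have hc : (φ x)⁻¹ * φ' x ∈ centralizerIn S (φ.comp (Subgroup.inclusion hQP)).range := by
      refine ⟨S.mul_mem (S.inv_mem ((F.le_of_mem hφ).2 x)) ((F.le_of_mem hφ').2 x),
        Subgroup.mem_centralizer_iff.mpr ?_⟩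
      rintro _ ⟨g, rfl⟩
      have hxg : (x : Ω) * (g : Ω) * (x : Ω)⁻¹ ∈ Q :=
        (Subgroup.mem_normalizer_iff.mp (hPN x.2) _).mp g.2
      have h1 := h (x * Subgroup.inclusion hQP g * x⁻¹) hxg
      have h2 := h (Subgroup.inclusion hQP g) g.2
      rw [map_mul, map_mul, map_inv, map_mul, map_mul, map_inv, ← h2] at h1
      show φ (Subgroup.inclusion hQP g) * ((φ x)⁻¹ * φ' x) =
        (φ x)⁻¹ * φ' x * φ (Subgroup.inclusion hQP g)
      calc φ (Subgroup.inclusion hQP g) * ((φ x)⁻¹ * φ' x)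
          = (φ x)⁻¹ * (φ x * φ (Subgroup.inclusion hQP g) * (φ x)⁻¹) * φ' x := by group
        _ = (φ x)⁻¹ * (φ' x * φ (Subgroup.inclusion hQP g) * (φ' x)⁻¹) * φ' x := by rw [h1]
        _ = (φ x)⁻¹ * φ' x * φ (Subgroup.inclusion hQP g) := by group
    obtain ⟨t, ht⟩ := hcen hc
    have ht' : φ (Subgroup.inclusion hQP t) = (φ x)⁻¹ * φ' x := ht
    refine ⟨Subgroup.inclusion hQP t, t.2, ?_, ?_⟩
    · rw [Subgroup.mem_centralizer_iff]
      intro g hg
      have h3 := Subgroup.mem_centralizer_iff.mp hc.2 (φ (Subgroup.inclusion hQP ⟨g, hg⟩))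
        ⟨⟨g, hg⟩, rfl⟩
      have h3' : φ (Subgroup.inclusion hQP ⟨g, hg⟩ * Subgroup.inclusion hQP t) =
          φ (Subgroup.inclusion hQP t * Subgroup.inclusion hQP ⟨g, hg⟩) := by
        rw [map_mul, map_mul, ht']
        exact h3
      have h4 := hinj h3'
      exact congrArg Subtype.val h4
    · rw [map_mul, ht']; group
  -- Step 2
  have hrange : φ'.range = φ.range := by
    have hle : φ'.range ≤ φ.range := by
      rintro _ ⟨x, rfl⟩
      obtain ⟨t, -, -, ht⟩ := step1 x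
      exact ⟨x * t, ht.symm⟩
    have hφrS : φ.range ≤ S := by
      rintro _ ⟨x, rfl⟩
      exact (F.le_of_mem hφ).2 x
    have hfinr : Finite φ.range := finite_of_le hφrS
    have hfinr' : Finite φ'.range := finite_of_le (hle.trans hφrS)
    apply Subgroup.eq_of_le_of_card_ge hle
    rw [← Nat.card_congr (isoOfHom φ hinj rfl).toEquiv,
      Nat.card_congr (isoOfHom φ' hinj' rfl).toEquiv]
  set e := isoOfHom φ hinj rfl with he
  set e' := isoOfHom φ' hinj' hrange with he'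
  set α : MulAut P := e'.trans e.symm with hα
  have hφα : ∀ x : P, φ (α x) = φ' x := by
    intro x
    show φ (e.symm (e' x)) = φ' x
    have : ((e (e.symm (e' x)) : φ.range) : Ω) = φ (e.symm (e' x)) := rfl
    rw [← this, MulEquiv.apply_symm_apply]
    rfl
  have hαA : α ∈ F.autGroup P := by
    rw [mem_autGroup_iff F hPS]
    have h1 := isoOfHom_symm_mem F hφ rfl
    refine comp_mem' F hφ' h1 (fun x => (e' x).2) (fun x => ?_)
    rfl
  have hαQ : ∀ x : P, (x : Ω) ∈ Q → α x = x := by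
    intro x hx
    apply hinj
    rw [hφα, h x hx]
  have hαt : ∀ x : P, ((α x * x⁻¹ : P) : Ω) ∈ Q := by
    intro x
    obtain ⟨t, htQ, -, ht⟩ := step1 x
    have h1 : α x = x * t := by
      apply hinj
      rw [hφα, ht]
    rw [h1]
    show (x : Ω) * (t : Ω) * (x : Ω)⁻¹ ∈ Q
    exact (Subgroup.mem_normalizer_iff.mp (hPN x.2) _).mp htQ
  -- Step 3
  let N : ℕ → Subgroup P := fun i => if i = 0 then ⊥ else if i = 1 then Q.subgroupOf P else ⊤
  have hN0 : N 0 = ⊥ := rfl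
  have hN1 : N 1 = Q.subgroupOf P := rfl
  have hNge : ∀ i, 2 ≤ i → N i = ⊤ := by
    intro i hi
    show (if i = 0 then ⊥ else if i = 1 then Q.subgroupOf P else ⊤) = ⊤
    rw [if_neg (by omega), if_neg (by omega)]
  have hNmono : Monotone N := by
    apply monotone_nat_of_le_succ
    intro i
    rcases i with _ | _ | i
    · rw [hN0]; exact bot_le
    · rw [hNge 2 le_rfl]; exact le_top
    · rw [hNge (i + 2 + 1) (by omega)]; exact le_top
  have hstab : StabilizesChain N α := by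
    intro i x hx
    rcases i with _ | _ | i
    · rw [hN0, Subgroup.mem_bot, hαQ x hx, mul_inv_cancel]
    · exact hαt x
    · rw [hNge (i + 2) (by omega)]; exact Subgroup.mem_top _
  obtain ⟨k, hk⟩ := hstab.pow_eq_one hPp hN0 hNmono (hNge 2 le_rfl)
  -- Step 4
  obtain ⟨P', hPP', hFN'⟩ := exists_isConj_fullyNormalized F hPS
  obtain ⟨-, -, T', hT'⟩ := Cfsg.Agent.S5077.sylow_axiom p hS F hF P' hFN'
  obtain ⟨θ₀, hθ₀, hr⟩ := hPP'
  have hP'S : P' ≤ S := hFN'.1
  have hfinP' : Finite P' := finite_of_le hP'S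
  set eθ := isoOfHom θ₀ (F.injective_of_mem hθ₀) hr with heθ
  have hβA : MulAut.congr eθ α ∈ F.autGroup P' := congr_mem_autGroup F hθ₀ hr hαA
  have hβp : (MulAut.congr eθ α) ^ (p ^ k) = 1 := by
    rw [← map_pow, hk, map_one]
  have hU : IsPGroup p (Subgroup.zpowers (⟨MulAut.congr eθ α, hβA⟩ : F.autGroup P')) := by
    rintro ⟨_, m, rfl⟩
    refine ⟨k, Subtype.ext ?_⟩
    show ((⟨MulAut.congr eθ α, hβA⟩ : F.autGroup P') ^ m) ^ (p ^ k) = 1
    rw [← zpow_natCast, ← zpow_mul, mul_comm, zpow_mul, zpow_natCast]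
    have : (⟨MulAut.congr eθ α, hβA⟩ : F.autGroup P') ^ (p ^ k) = 1 := Subtype.ext hβp
    rw [this, one_zpow]
  obtain ⟨γ, hγ⟩ := exists_conj_le_sylow p T' hU
  have hγβ : (MulAut.conj γ).toMonoidHom ⟨MulAut.congr eθ α, hβA⟩ ∈
      (T' : Subgroup (F.autGroup P')) := hγ ⟨_, Subgroup.mem_zpowers _, rfl⟩
  rw [hT'] at hγβ
  have hγβ' : (γ : MulAut P') * MulAut.congr eθ α * (γ : MulAut P')⁻¹ ∈
      autInducedBy S P' := hγβ
  obtain ⟨g, hgS, hg⟩ := (mem_autInducedBy_iff S P' _).mp hγβ'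
  set e₂ : P ≃* P' := eθ.trans (γ : MulAut P') with he₂
  have hθ₂ : P'.subtype.comp e₂.toMonoidHom ∈ F.Hom P :=
    comp_mem' F hθ₀ ((mem_autGroup_iff F hP'S γ).mp γ.2) (fun x => (eθ x).2) (fun x => rfl)
  have hkey : ∀ n : P, ((e₂ (α n) : P') : Ω) = g * ((e₂ n : P') : Ω) * g⁻¹ := by
    intro n
    have h1 := hg (e₂ n)
    rw [← h1]
    show (((γ : MulAut P') (eθ (α n)) : P') : Ω) =
      (((γ : MulAut P') (eθ (α (eθ.symm ((γ : MulAut P')⁻¹ ((γ : MulAut P') (eθ n)))))) : P') : Ω)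
    rw [MulAut.inv_apply_self, MulEquiv.symm_apply_apply]
  -- the image of `Q`
  have hρ : (P'.subtype.comp e₂.toMonoidHom).comp (Subgroup.inclusion hQP) ∈ F.Hom Q :=
    restrict_mem F hQP hθ₂
  have hcen₂ := hQ.2 _ ⟨_, hρ, rfl⟩
  have hgC : g ∈ centralizerIn S
      ((P'.subtype.comp e₂.toMonoidHom).comp (Subgroup.inclusion hQP)).range := by
    refine ⟨hgS, Subgroup.mem_centralizer_iff.mpr ?_⟩
    rintro _ ⟨x, rfl⟩
    have h1 := hkey (Subgroup.inclusion hQP x)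
    rw [hαQ _ x.2] at h1
    show ((e₂ (Subgroup.inclusion hQP x) : P') : Ω) * g = g * ((e₂ (Subgroup.inclusion hQP x) : P') : Ω)
    calc ((e₂ (Subgroup.inclusion hQP x) : P') : Ω) * g
        = g * ((e₂ (Subgroup.inclusion hQP x) : P') : Ω) * g⁻¹ * g := by rw [← h1]
      _ = g * ((e₂ (Subgroup.inclusion hQP x) : P') : Ω) := by group
  obtain ⟨z, hz⟩ := hcen₂ hgC
  have hz' : ((e₂ (Subgroup.inclusion hQP z) : P') : Ω) = g := hz
  refine ⟨Subgroup.inclusion hQP z, z.2, ?_, fun y => ?_⟩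
  · rw [Subgroup.mem_centralizer_iff]
    intro q hq
    have h3 := Subgroup.mem_centralizer_iff.mp hgC.2
      (((P'.subtype.comp e₂.toMonoidHom).comp (Subgroup.inclusion hQP)) ⟨q, hq⟩) ⟨⟨q, hq⟩, rfl⟩
    have h4 : e₂ (Subgroup.inclusion hQP ⟨q, hq⟩ * Subgroup.inclusion hQP z) =
        e₂ (Subgroup.inclusion hQP z * Subgroup.inclusion hQP ⟨q, hq⟩) := by
      apply Subtype.ext
      rw [map_mul, map_mul]
      show ((e₂ (Subgroup.inclusion hQP ⟨q, hq⟩) : P') : Ω) * ((e₂ (Subgroup.inclusion hQP z) : P') : Ω) =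
        ((e₂ (Subgroup.inclusion hQP z) : P') : Ω) * ((e₂ (Subgroup.inclusion hQP ⟨q, hq⟩) : P') : Ω)
      rw [hz']
      exact h3
    have h5 := e₂.injective h4
    exact congrArg Subtype.val h5
  · rw [← hφα y]
    congr 1
    apply e₂.injective
    apply Subtype.ext
    rw [hkey, map_mul, map_mul, map_inv]
    show g * ((e₂ y : P') : Ω) * g⁻¹ =
      ((e₂ (Subgroup.inclusion hQP z) : P') : Ω) * ((e₂ y : P') : Ω) *
        ((e₂ (Subgroup.inclusion hQP z) : P') : Ω)⁻¹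
    rw [hz']

/-- An overgroup of a centric subgroup is centric. -/
theorem isCentric_of_le (F : FusionSystem S) {Q N : Subgroup Ω} (hQ : F.IsCentric Q)
    (hQN : Q ≤ N) (hNS : N ≤ S) : F.IsCentric N := by
  refine ⟨hNS, ?_⟩
  rintro _ ⟨θ, hθ, rfl⟩
  have hρ : θ.comp (Subgroup.inclusion hQN) ∈ F.Hom Q := restrict_mem F hQN hθ
  have h1 := hQ.2 _ ⟨_, hρ, rfl⟩
  have h2 : (θ.comp (Subgroup.inclusion hQN)).range ≤ θ.range := by
    rintro _ ⟨x, rfl⟩
    exact ⟨Subgroup.inclusion hQN x, rfl⟩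
  intro c hc
  apply h2
  apply h1
  exact ⟨hc.1, Subgroup.centralizer_le (SetLike.coe_subset_coe.mpr h2) hc.2⟩

/-- Two maps on `P` agreeing on a centric subgroup `Q` differ by an element of `Z(Q)`. -/
theorem agree_on_centric [Finite S] (p : ℕ) [Fact p.Prime] (hS : IsPGroup p S)
    (F : FusionSystem S) (hF : F.IsSaturated p) {P : Subgroup Ω} :
    ∀ n : ℕ, ∀ (Q : Subgroup Ω) (hQP : Q ≤ P), F.IsCentric Q → ∀ φ φ' : P →* Ω,
      φ ∈ F.Hom P → φ' ∈ F.Hom P → (∀ x : P, (x : Ω) ∈ Q → φ x = φ' x) →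
      Nat.card P - Nat.card Q = n →
      ∃ z : P, (z : Ω) ∈ Q ∧ (z : Ω) ∈ Subgroup.centralizer (Q : Set Ω) ∧
        ∀ y : P, φ' y = φ (z * y * z⁻¹) := by
  intro n
  induction n using Nat.strong_induction_on with
  | _ n ih =>
    intro Q hQP hQ φ φ' hφ hφ' h hn
    have hPS : P ≤ S := (F.le_of_mem hφ).1
    have hfinP : Finite P := finite_of_le hPS
    have hPp : IsPGroup p P := isPGroup_of_le hS hPS
    by_cases hPN : P ≤ Subgroup.normalizer (Q : Set Ω)
    · exact agree_on_centric_normal p hS F hF hQP hPN hQ φ φ' hφ hφ' h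
    · have hQne : Q ≠ P := by
        rintro rfl
        exact hPN Subgroup.le_normalizer
      obtain ⟨g, hgN, hgQ⟩ := exists_mem_normalizerIn_not_mem (S := P) p hPp hQP hQne
      have hQN : Q ≤ normalizerIn P Q := fun x hx => ⟨hQP hx, Subgroup.le_normalizer hx⟩
      have hNP : normalizerIn P Q ≤ P := inf_le_left
      have hNS : normalizerIn P Q ≤ S := hNP.trans hPS
      have hlt : Q < normalizerIn P Q := lt_of_le_of_ne hQN (fun h => hgQ (h ▸ hgN))
      have hcardlt : Nat.card Q < Nat.card (normalizerIn P Q) := card_lt_of_lt hNS hlt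
      have hcardle : Nat.card (normalizerIn P Q) ≤ Nat.card P :=
        Nat.card_le_card_of_injective (Subgroup.inclusion hNP) (Subgroup.inclusion_injective _)
      -- the normal step inside `N_P(Q)`
      obtain ⟨z₁, hz₁Q, hz₁C, hz₁⟩ := agree_on_centric_normal p hS F hF hQN inf_le_right hQ
        (φ.comp (Subgroup.inclusion hNP)) (φ'.comp (Subgroup.inclusion hNP))
        (restrict_mem F hNP hφ) (restrict_mem F hNP hφ')
        (fun x hx => h (Subgroup.inclusion hNP x) hx)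
      -- the twisted map
      have hz₁S : ((Subgroup.inclusion hNP z₁ : P) : Ω) ∈ S := hPS (Subgroup.inclusion hNP z₁).2
      have hconjP : ∀ x : P, conjHom P ((Subgroup.inclusion hNP z₁ : P) : Ω) x ∈ P := fun x =>
        (Subgroup.inclusion hNP z₁ * x * (Subgroup.inclusion hNP z₁)⁻¹).2
      have hφ'' : φ.comp (MulAut.conj (Subgroup.inclusion hNP z₁)).toMonoidHom ∈ F.Hom P :=
        comp_mem' F (F.conj_mem hPS hz₁S) hφ hconjP (fun x => rfl)
      have hagree : ∀ x : P, (x : Ω) ∈ normalizerIn P Q →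
          (φ.comp (MulAut.conj (Subgroup.inclusion hNP z₁)).toMonoidHom) x = φ' x := by
        intro x hx
        have := hz₁ ⟨x, hx⟩
        exact this.symm
      have hNcen : F.IsCentric (normalizerIn P Q) := isCentric_of_le F hQ hQN hNS
      obtain ⟨z₂, hz₂N, hz₂C, hz₂⟩ := ih (Nat.card P - Nat.card (normalizerIn P Q)) (by omega)
        (normalizerIn P Q) hNP hNcen _ φ' hφ'' hφ' hagree rfl
      have hz₂CQ : (z₂ : Ω) ∈ Subgroup.centralizer (Q : Set Ω) :=
        Subgroup.centralizer_le (SetLike.coe_subset_coe.mpr hQN) hz₂C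
      have hz₂Q : (z₂ : Ω) ∈ Q :=
        hQ.2 Q (isConj_refl F hQ.1) ⟨hPS z₂.2, hz₂CQ⟩
      refine ⟨Subgroup.inclusion hNP z₁ * z₂, Q.mul_mem hz₁Q hz₂Q,
        Subgroup.mul_mem _ hz₁C hz₂CQ, fun y => ?_⟩
      rw [hz₂ y]
      show φ (Subgroup.inclusion hNP z₁ * (z₂ * y * z₂⁻¹) * (Subgroup.inclusion hNP z₁)⁻¹) = _
      congr 1
      group

end Cfsg.Agent.Helper25
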