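import Mathlib
import Cfsg.Agent.Helper25.FusionNormal
import Cfsg.Agent.Helper25.StabChain

set_option autoImplicit false

namespace Cfsg.Agent.Helper25

open Cfsg Cfsg.FusionSystem
open scoped commutatorElement

variable {Ω : Type*} [Group Ω] {S : Subgroup Ω}

/-- A strongly closed subgroup is normalized by `S`. -/
theorem le_normalizer_of_stronglyClosed (F : FusionSystem S) {Q : Subgroup Ω}
    (hQ : F.StronglyClosed Q) : S ≤ Subgroup.normalizer (Q : Set Ω) := by
  have key : ∀ g ∈ S, ∀ x ∈ Q, g * x * g⁻¹ ∈ Q := by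
    intro g hg x hx
    exact hQ.2 Q le_rfl _ (F.conj_mem hQ.1 hg) ⟨x, hx⟩
  intro g hg
  rw [Subgroup.mem_normalizer_iff]
  intro x
  constructor
  · exact key g hg x
  · intro hx
    have := key g⁻¹ (S.inv_mem hg) _ hx
    have e : g⁻¹ * (g * x * g⁻¹) * g⁻¹⁻¹ = x := by group
    rwa [e] at this

/-- Automorphisms in the system preserve strongly closed subgroups, elementwise form. -/
theorem autGroup_apply_mem_of_stronglyClosed (F : FusionSystem S) {Q P : Subgroup Ω}
    (hQ : F.StronglyClosed Q) (hPS : P ≤ S) (β : MulAut P) (hβ : β ∈ F.autGroup P) (x : P)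
    (hx : (x : Ω) ∈ Q) : ((β x : P) : Ω) ∈ Q := by
  have hβ' : autHom β ∈ F.Hom P := (mem_autGroup_iff F hPS β).mp hβ
  have h1 := restrict_mem F (inf_le_left : P ⊓ Q ≤ P) hβ'
  exact hQ.2 (P ⊓ Q) inf_le_right _ h1 ⟨x, x.2, hx⟩

/-- If `Q ⊴ S` induces only inner automorphisms on a self-centralizing `P`, then `Q ≤ P`. -/
theorem le_of_autInducedBy_le_inn [Finite S] (p : ℕ) [Fact p.Prime] (hS : IsPGroup p S)
    {Q P : Subgroup Ω} (hQS : Q ≤ S)
    (hSN : S ≤ Subgroup.normalizer (Q : Set Ω)) (hPS : P ≤ S) (hC : centralizerIn S P ≤ P)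
    (hKI : autInducedBy Q P ≤ Inn P) : Q ≤ P := by
  have hmem : ∀ x ∈ Q, x ∈ Subgroup.normalizer (P : Set Ω) → x ∈ P := by
    intro x hxQ hxN
    refine mem_of_normalizerMonoidHom_mem_inn hPS hC ⟨x, hxN⟩ (hQS hxQ) (hKI ?_)
    rw [mem_autInducedBy_iff]
    exact ⟨x, hxQ, fun y => rfl⟩
  by_contra hcon
  have hsupS : P ⊔ Q ≤ S := sup_le hPS hQS
  have : Finite ↥(P ⊔ Q) := finite_of_le hsupS
  have hne : P ≠ P ⊔ Q := fun h => hcon (h ▸ le_sup_right)
  obtain ⟨g, hgN, hgP⟩ := exists_mem_normalizerIn_not_mem (S := P ⊔ Q) p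
    (isPGroup_of_le hS hsupS) le_sup_left hne
  have hg' : g ∈ ((P ⊔ Q : Subgroup Ω) : Set Ω) := hgN.1
  rw [Subgroup.coe_mul_of_left_le_normalizer_right P Q (hPS.trans hSN)] at hg'
  obtain ⟨a, ha, b, hb, rfl⟩ := hg'
  have haN : a ∈ Subgroup.normalizer (P : Set Ω) := Subgroup.le_normalizer ha
  have hbN : b ∈ Subgroup.normalizer (P : Set Ω) := by
    have := Subgroup.mul_mem _ (Subgroup.inv_mem _ haN) hgN.2
    rwa [inv_mul_cancel_left] at this
  exact hgP (P.mul_mem ha (hmem b hb hbN))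

/-- The chain criterion for normality (Aschbacher–Kessar–Oliver, Corollary I.4.7), `ℕ`-indexed. -/
theorem isNormal_of_chain [Finite S] (p : ℕ) [Fact p.Prime] (hS : IsPGroup p S)
    (F : FusionSystem S) (hF : F.IsSaturated p) (Q : Subgroup Ω) (Qn : ℕ → Subgroup Ω) (n : ℕ)
    (h0 : Qn 0 = ⊥) (hn : Qn n = Q) (hmono : ∀ i < n, Qn i ≤ Qn (i + 1))
    (hsc : ∀ i < n, F.StronglyClosed (Qn (i + 1)) ∧ ⁅Q, Qn (i + 1)⁆ ≤ Qn i) : F.IsNormal Q := by
  cases n with
  | zero =>
    rw [← hn, h0]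
    exact bot_isNormal F
  | succ m =>
    have hQsc : F.StronglyClosed Q := hn ▸ (hsc m (Nat.lt_succ_self m)).1
    have hQS : Q ≤ S := hQsc.1
    have hSN : S ≤ Subgroup.normalizer (Q : Set Ω) := le_normalizer_of_stronglyClosed F hQsc
    apply isNormal_of_alperin p hS F hF Q
    rintro P (rfl | hP)
    · exact ⟨hQS, fun α hα => map_autGroup_eq_of_stronglyClosed F hQsc le_rfl α hα⟩
    refine ⟨?_, fun α hα => map_autGroup_eq_of_stronglyClosed F hQsc hP.1.1 α hα⟩
    have hPS : P ≤ S := hP.1.1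
    have hfinP : Finite P := finite_of_le hPS
    have hPp : IsPGroup p P := isPGroup_of_le hS hPS
    refine le_of_autInducedBy_le_inn p hS hQS hSN hPS (hP.1.2 P (isConj_refl F hPS)) ?_
    -- the chain in `P`
    let Q' : ℕ → Subgroup Ω := fun i => if i ≤ m + 1 then Qn i else ⊤
    let N : ℕ → Subgroup P := fun i => (Q' i).subgroupOf P
    have hQ'le : ∀ i, i ≤ m + 1 → Q' i = Qn i := fun i hi => if_pos hi
    have hQ'gt : ∀ i, ¬ i ≤ m + 1 → Q' i = ⊤ := fun i hi => if_neg hi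
    have hN0 : N 0 = ⊥ := by
      show (Q' 0).subgroupOf P = ⊥
      rw [hQ'le 0 (Nat.zero_le _), h0, Subgroup.bot_subgroupOf]
    have hNmono : Monotone N := by
      apply monotone_nat_of_le_succ
      intro i
      show (Q' i).subgroupOf P ≤ (Q' (i + 1)).subgroupOf P
      by_cases hi : i + 1 ≤ m + 1
      · rw [hQ'le i (by omega), hQ'le (i + 1) hi]
        intro x hx
        exact hmono i (by omega) hx
      · rw [hQ'gt (i + 1) hi, Subgroup.top_subgroupOf]
        exact le_top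
    have hNtop : N (m + 2) = ⊤ := by
      show (Q' (m + 2)).subgroupOf P = ⊤
      rw [hQ'gt (m + 2) (by omega), Subgroup.top_subgroupOf]
    have hinv : ∀ β ∈ F.autGroup P, ∀ i, ∀ x ∈ N i, β x ∈ N i := by
      intro β hβ i x hx
      show ((β x : P) : Ω) ∈ Q' i
      have hx' : (x : Ω) ∈ Q' i := hx
      by_cases hi : i ≤ m + 1
      · rw [hQ'le i hi] at hx' ⊢
        cases i with
        | zero =>
          rw [h0, Subgroup.mem_bot] at hx' ⊢
          have : x = 1 := Subtype.ext hx'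
          rw [this, map_one]; rfl
        | succ j =>
          exact autGroup_apply_mem_of_stronglyClosed F (hsc j (by omega)).1 hPS β hβ x hx'
      · rw [hQ'gt i hi]
        exact Subgroup.mem_top _
    set K : Subgroup (MulAut P) := chainStabilizer hPp N hN0 hNmono hNtop ⊓ F.autGroup P with hK
    have hKI : K ≤ Inn P := by
      apply opAutLeInn_of_isEssential F p hP K inf_le_right
      · intro α hα k hk
        refine ⟨?_, (F.autGroup P).mul_mem ((F.autGroup P).mul_mem hα hk.2)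
          ((F.autGroup P).inv_mem hα)⟩
        have hks : StabilizesChain N k := hk.1
        show StabilizesChain N (α * k * α⁻¹)
        intro i x hx
        have hy : α⁻¹ x ∈ N (i + 1) := hinv α⁻¹ ((F.autGroup P).inv_mem hα) _ x hx
        have h1 := hks i _ hy
        have h2 := hinv α hα i _ h1
        have e : α (k (α⁻¹ x) * (α⁻¹ x)⁻¹) = (α * k * α⁻¹) x * x⁻¹ := by
          simp [MulAut.mul_apply]
        rwa [e] at h2
      · exact (chainStabilizer_isPGroup hPp N hN0 hNmono hNtop).to_le inf_le_left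
    refine le_trans ?_ hKI
    intro α hα
    have hαA : α ∈ F.autGroup P := by
      apply autInducedBy_le_autGroup F hPS
      rw [mem_autInducedBy_iff] at hα ⊢
      obtain ⟨g, hg, h⟩ := hα
      exact ⟨g, hQS hg, h⟩
    refine ⟨?_, hαA⟩
    rw [mem_autInducedBy_iff] at hα
    obtain ⟨g, hg, hgα⟩ := hα
    show StabilizesChain N α
    intro i x hx
    show ((α x * x⁻¹ : P) : Ω) ∈ Q' i
    have hx' : (x : Ω) ∈ Q' (i + 1) := hx
    have e : ((α x * x⁻¹ : P) : Ω) = g * (x : Ω) * g⁻¹ * (x : Ω)⁻¹ := by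
      show ((α x : P) : Ω) * ((x⁻¹ : P) : Ω) = _
      rw [hgα]; rfl
    rw [e]
    by_cases hi : i + 1 ≤ m + 1
    · rw [hQ'le i (by omega)]
      rw [hQ'le (i + 1) hi] at hx'
      have h1 : ⁅g, (x : Ω)⁆ ∈ ⁅Q, Qn (i + 1)⁆ := Subgroup.commutator_mem_commutator hg hx'
      exact (hsc i (by omega)).2 h1
    · by_cases hi' : i ≤ m + 1
      · have him : i = m + 1 := by omega
        rw [hQ'le i hi', him, hn]
        have hxN : (x : Ω) ∈ Subgroup.normalizer (Q : Set Ω) := hSN (hPS x.2)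
        have h1 : (x : Ω) * g⁻¹ * (x : Ω)⁻¹ ∈ Q :=
          (Subgroup.mem_normalizer_iff.mp hxN _).mp (Q.inv_mem hg)
        have h2 := Q.mul_mem hg h1
        have e2 : g * ((x : Ω) * g⁻¹ * (x : Ω)⁻¹) = g * (x : Ω) * g⁻¹ * (x : Ω)⁻¹ := by group
        rwa [e2] at h2
      · rw [hQ'gt i hi']
        exact Subgroup.mem_top _

end Cfsg.Agent.Helper25
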