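import Mathlib
import Cfsg.Prelude.Def_FusionComponents
import Cfsg.Agent.Helper25.SylowIn

set_option autoImplicit false

/-! The fusion system of `G/H` on `SH/H` is the factor system of `F_S(G)` modulo `S ∩ H`. -/

namespace Cfsg.Agent.Helper25

open Cfsg Cfsg.FusionSystem

variable {G : Type*} [Group G]

/-- A `p`-subgroup of `SH` (`H` normal) is conjugate into `S` by an element of `H`. -/
theorem exists_mem_normal_conj_mem [Finite G] (p : ℕ) [Fact p.Prime] (S : Sylow p G)
    (H : Subgroup G) [hH : H.Normal] {U : Subgroup G} (hU : IsPGroup p U)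
    (hUK : U ≤ (S : Subgroup G) ⊔ H) : ∃ h ∈ H, ∀ u ∈ U, h * u * h⁻¹ ∈ (S : Subgroup G) := by
  have hSK : (S : Subgroup G) ≤ (S : Subgroup G) ⊔ H := le_sup_left
  have hU' : IsPGroup p (U.subgroupOf ((S : Subgroup G) ⊔ H)) := hU.comap_subtype
  obtain ⟨k, hk⟩ := exists_conj_le_sylow p (S.subtype hSK) hU'
  have hkmem : (k : G) ∈ ((S : Subgroup G) ⊔ H : Subgroup G) := k.2
  rw [← SetLike.mem_coe, Subgroup.mul_normal, Set.mem_mul] at hkmem
  obtain ⟨s, hs, h, hh, hsh⟩ := hkmem
  refine ⟨h, hh, fun u hu => ?_⟩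
  have h1 : k * ⟨u, hUK hu⟩ * k⁻¹ ∈ (S.subtype hSK : Subgroup ↥((S : Subgroup G) ⊔ H)) := by
    apply hk
    refine ⟨⟨u, hUK hu⟩, ?_, ?_⟩
    · rw [SetLike.mem_coe, Subgroup.mem_subgroupOf]; exact hu
    · simp [MulAut.conj_apply]
  rw [Sylow.coe_subtype, Subgroup.mem_subgroupOf] at h1
  have h2 : (k : G) * u * (k : G)⁻¹ ∈ (S : Subgroup G) := by simpa using h1
  rw [← hsh] at h2
  have h3 : h * u * h⁻¹ = s⁻¹ * (s * h * u * (s * h)⁻¹) * s := by group
  rw [h3]
  exact Subgroup.mul_mem _ (Subgroup.mul_mem _ (Subgroup.inv_mem _ hs) h2) hs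

theorem mem_preimageAlong {Ω Ω' : Type*} [Group Ω] [Group Ω'] {S : Subgroup Ω} (α : S →* Ω')
    (P' : Subgroup Ω') (x : Ω) :
    x ∈ preimageAlong α P' ↔ ∃ hx : x ∈ S, α ⟨x, hx⟩ ∈ P' := by
  unfold preimageAlong
  constructor
  · rintro ⟨y, hy, rfl⟩
    exact ⟨y.2, hy⟩
  · rintro ⟨hx, h⟩
    exact ⟨⟨x, hx⟩, h, rfl⟩

theorem groupFusion_isFactorSystem [Finite G] (p : ℕ) [Fact p.Prime] (S : Sylow p G)
    (H : Subgroup G) [hH : H.Normal] :
    (groupFusionSystem (S : Subgroup G)).IsFactorSystem ((S : Subgroup G) ⊓ H)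
      ((QuotientGroup.mk' H).comp (S : Subgroup G).subtype)
      (groupFusionSystem ((S : Subgroup G).map (QuotientGroup.mk' H))) := by
  refine ⟨inf_le_left, ?_, ?_, ?_⟩
  · intro s
    simp only [MonoidHom.comp_apply, Subgroup.subtype_apply, QuotientGroup.mk'_apply,
      QuotientGroup.eq_one_iff, Subgroup.mem_inf]
    exact ⟨fun h => ⟨s.2, h⟩, fun h => h.2⟩
  · rw [MonoidHom.range_comp, Subgroup.range_subtype]
  · intro P' φ'
    constructor
    · rintro ⟨hP', hφ'S, gbar, hgbar⟩
      obtain ⟨g, rfl⟩ := QuotientGroup.mk'_surjective H gbar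
      refine ⟨hP', ?_⟩
      have hPS : preimageAlong ((QuotientGroup.mk' H).comp (S : Subgroup G).subtype) P' ≤
          (S : Subgroup G) := by
        intro x hx
        obtain ⟨hxS, -⟩ := (mem_preimageAlong _ _ _).mp hx
        exact hxS
      have hPP' : ∀ x ∈ preimageAlong ((QuotientGroup.mk' H).comp (S : Subgroup G).subtype) P',
          (QuotientGroup.mk' H) x ∈ P' := by
        intro x hx
        obtain ⟨hxS, h⟩ := (mem_preimageAlong _ _ _).mp hx
        exact h
      -- the conjugate of P by g lies in S H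
      have hUK : (preimageAlong ((QuotientGroup.mk' H).comp (S : Subgroup G).subtype) P').map
          (MulAut.conj g).toMonoidHom ≤ (S : Subgroup G) ⊔ H := by
        rintro _ ⟨x, hx, rfl⟩
        have h1 : (QuotientGroup.mk' H) (g * x * g⁻¹) ∈
            (S : Subgroup G).map (QuotientGroup.mk' H) := by
          have := hφ'S ⟨(QuotientGroup.mk' H) x, hPP' x hx⟩
          rw [hgbar] at this
          simpa using this
        obtain ⟨s, hs, hsu⟩ := h1
        have h2 : s⁻¹ * (g * x * g⁻¹) ∈ H := by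
          rw [← QuotientGroup.eq_one_iff, QuotientGroup.mk_mul, QuotientGroup.mk_inv]
          have : (QuotientGroup.mk s : G ⧸ H) = QuotientGroup.mk (g * x * g⁻¹) := hsu
          rw [this]; exact inv_mul_cancel _
        have h3 : (MulAut.conj g).toMonoidHom x = s * (s⁻¹ * (g * x * g⁻¹)) := by
          simp [MulAut.conj_apply]
        rw [h3]
        exact Subgroup.mul_mem _ (Subgroup.mem_sup_left hs) (Subgroup.mem_sup_right h2)
      have hUp : IsPGroup p ↥((preimageAlong ((QuotientGroup.mk' H).comp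
          (S : Subgroup G).subtype) P').map (MulAut.conj g).toMonoidHom) :=
        (isPGroup_of_le S.isPGroup' hPS).map _
      obtain ⟨h, hh, hconj⟩ := exists_mem_normal_conj_mem p S H hUp hUK
      have hval : ∀ x : preimageAlong ((QuotientGroup.mk' H).comp (S : Subgroup G).subtype) P',
          conjHom _ (h * g) x ∈ (S : Subgroup G) := by
        intro x
        have h1 := hconj (g * (x : G) * g⁻¹) ⟨x, x.2, by simp [MulAut.conj_apply]⟩
        have h2 : conjHom _ (h * g) x = h * (g * (x : G) * g⁻¹) * h⁻¹ := by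
          simp [conjHom, mul_assoc]
        rw [h2]; exact h1
      refine ⟨conjHom _ (h * g), ⟨hPS, hval, h * g, fun x => rfl⟩, hPS, hval,
        fun x => hPP' x x.2, ?_⟩
      intro x
      rw [hgbar]
      simp only [MonoidHom.comp_apply, Subgroup.subtype_apply]
      have h1 : (QuotientGroup.mk' H) h = 1 := (QuotientGroup.eq_one_iff h).mpr hh
      have h2 : conjHom _ (h * g) x = h * (g * (x : G) * g⁻¹) * h⁻¹ := by
        simp [conjHom, mul_assoc]
      rw [h2, map_mul, map_mul, map_inv, h1, one_mul, inv_one, mul_one, map_mul, map_mul, map_inv]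
    · rintro ⟨hP', φ, ⟨hPS, hφS, g, hg⟩, hP, hφ, hP'', hind⟩
      have key : ∀ y : P', ∃ x : preimageAlong ((QuotientGroup.mk' H).comp
          (S : Subgroup G).subtype) P', (y : G ⧸ H) = (QuotientGroup.mk' H) (x : G) := by
        intro y
        obtain ⟨s, hs, hsy⟩ := hP' y.2
        refine ⟨⟨s, (mem_preimageAlong _ _ _).mpr ⟨hs, ?_⟩⟩, hsy.symm⟩
        simp only [MonoidHom.comp_apply, Subgroup.subtype_apply]
        rw [hsy]; exact y.2
      have hform : ∀ y : P', φ' y = (QuotientGroup.mk' H) g * (y : G ⧸ H) *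
          ((QuotientGroup.mk' H) g)⁻¹ ∧ φ' y ∈ (S : Subgroup G).map (QuotientGroup.mk' H) := by
        intro y
        obtain ⟨x, hx⟩ := key y
        have h1 := hind x
        have h2 : (⟨((QuotientGroup.mk' H).comp (S : Subgroup G).subtype) ⟨x, hP x.2⟩, hP'' x⟩ : P')
            = y := by
          apply Subtype.ext
          simp only [MonoidHom.comp_apply, Subgroup.subtype_apply]
          exact hx.symm
        rw [h2] at h1
        simp only [MonoidHom.comp_apply, Subgroup.subtype_apply] at h1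
        refine ⟨?_, ?_⟩
        · rw [h1, hg, hx, map_mul, map_mul, map_inv]
        · rw [h1]
          exact ⟨φ x, hφ x, rfl⟩
      exact ⟨hP', fun y => (hform y).2, (QuotientGroup.mk' H) g, fun y => (hform y).1⟩

end Cfsg.Agent.Helper25
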