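import Mathlib
import Cfsg.Prelude.Def_FusionComponents
import Cfsg.Agent.Helper25.FusionBasic
import Cfsg.Agent.Helper25.FusionQuotGroup

set_option autoImplicit false

/-! The factor system of a fusion system by a strongly closed subgroup, read through any
homomorphism with that kernel. -/

namespace Cfsg.Agent.Helper25

open Cfsg Cfsg.FusionSystem

variable {Ω Ω' : Type*} [Group Ω] [Group Ω'] {S : Subgroup Ω}

/-- A map of the system whose source contains the strongly closed subgroup `S₀` carries `S₀` onto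
itself, and carries nothing else into `S₀`. -/
theorem stronglyClosed_mem_iff [Finite S] (F : FusionSystem S) {S₀ : Subgroup Ω}
    (hS₀ : F.StronglyClosed S₀) {P : Subgroup Ω} (hP : S₀ ≤ P) {φ : P →* Ω} (hφ : φ ∈ F.Hom P) :
    (∀ x : P, φ x ∈ S₀ ↔ (x : Ω) ∈ S₀) ∧ ∀ y ∈ S₀, ∃ x : P, (x : Ω) ∈ S₀ ∧ φ x = y := by
  have hres := restrict_mem F hP hφ
  have hval : ∀ x : S₀, φ (Subgroup.inclusion hP x) ∈ S₀ :=
    fun x => hS₀.2 S₀ le_rfl _ hres x
  have hfin : Finite S₀ :=
    Finite.of_injective (Subgroup.inclusion hS₀.1) (Subgroup.inclusion_injective _)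
  let f : S₀ → S₀ := fun x => ⟨φ (Subgroup.inclusion hP x), hval x⟩
  have hfinj : Function.Injective f := by
    intro a b hab
    have h1 : φ (Subgroup.inclusion hP a) = φ (Subgroup.inclusion hP b) :=
      congrArg Subtype.val hab
    exact Subgroup.inclusion_injective hP (F.injective_of_mem hφ h1)
  have hfsurj : Function.Surjective f := Finite.surjective_of_injective hfinj
  have hsurj : ∀ y ∈ S₀, ∃ x : P, (x : Ω) ∈ S₀ ∧ φ x = y := by
    intro y hy
    obtain ⟨x, hx⟩ := hfsurj ⟨y, hy⟩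
    exact ⟨Subgroup.inclusion hP x, x.2, congrArg Subtype.val hx⟩
  refine ⟨fun x => ⟨fun h => ?_, fun h => hval ⟨x, h⟩⟩, hsurj⟩
  obtain ⟨t, ht, hte⟩ := hsurj _ h
  have h2 := F.injective_of_mem hφ hte
  rw [← h2]; exact ht

theorem preimageAlong_le (θ : S →* Ω') (P' : Subgroup Ω') : preimageAlong θ P' ≤ S := by
  intro x hx
  obtain ⟨hxS, -⟩ := (mem_preimageAlong _ _ _).mp hx
  exact hxS

theorem preimageAlong_map_mem (θ : S →* Ω') (P' : Subgroup Ω') (x : preimageAlong θ P') :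
    θ ⟨x, preimageAlong_le θ P' x.2⟩ ∈ P' := by
  obtain ⟨hxS, h⟩ := (mem_preimageAlong _ _ _).mp x.2
  exact h

theorem ker_le_preimageAlong (θ : S →* Ω') {S₀ : Subgroup Ω} (hS₀ : S₀ ≤ S)
    (hker : ∀ s : S, θ s = 1 ↔ (s : Ω) ∈ S₀) (P' : Subgroup Ω') : S₀ ≤ preimageAlong θ P' := by
  intro x hx
  refine (mem_preimageAlong _ _ _).mpr ⟨hS₀ hx, ?_⟩
  rw [(hker ⟨x, hS₀ hx⟩).mpr hx]
  exact P'.one_mem

theorem exists_preimageAlong (θ : S →* Ω') {S' : Subgroup Ω'} (hrange : θ.range = S')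
    {P' : Subgroup Ω'} (hP' : P' ≤ S') (y : P') :
    ∃ x : preimageAlong θ P', θ ⟨x, preimageAlong_le θ P' x.2⟩ = y := by
  have hy : (y : Ω') ∈ θ.range := by rw [hrange]; exact hP' y.2
  obtain ⟨s, hs⟩ := hy
  refine ⟨⟨s, (mem_preimageAlong _ _ _).mpr ⟨s.2, ?_⟩⟩, hs⟩
  rw [hs]; exact y.2

/-- Unfolded form of `InducedAlong` with canonical proofs. -/
theorem inducedAlong_apply (θ : S →* Ω') {P : Subgroup Ω} {φ : P →* Ω} {P' : Subgroup Ω'}
    {φ' : P' →* Ω'} (h : InducedAlong θ φ φ') (x : P) (hxS : (x : Ω) ∈ S)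
    (hx' : θ ⟨x, hxS⟩ ∈ P') (hφS : φ x ∈ S) : φ' ⟨θ ⟨x, hxS⟩, hx'⟩ = θ ⟨φ x, hφS⟩ := by
  obtain ⟨hP, hφ, hP', he⟩ := h
  exact he x

/-- The factor system of `F` modulo the strongly closed subgroup `S₀`, read through a homomorphism
`θ` with kernel `S₀` and image `S'`. -/
def factorSystem [Finite S] (F : FusionSystem S) {S₀ : Subgroup Ω} (hS₀ : F.StronglyClosed S₀)
    (θ : S →* Ω') (hker : ∀ s : S, θ s = 1 ↔ (s : Ω) ∈ S₀) {S' : Subgroup Ω'}
    (hrange : θ.range = S') : FusionSystem S' where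
  Hom P' := {φ' | P' ≤ S' ∧ ∃ φ ∈ F.Hom (preimageAlong θ P'), InducedAlong θ φ φ'}
  le_of_mem := by
    rintro P' φ' ⟨hP', φ, hφ, hind⟩
    refine ⟨hP', fun y => ?_⟩
    obtain ⟨x, hx⟩ := exists_preimageAlong θ hrange hP' y
    have h1 := inducedAlong_apply θ hind x (preimageAlong_le θ P' x.2)
      (preimageAlong_map_mem θ P' x) ((F.le_of_mem hφ).2 x)
    have h2 : (⟨θ ⟨x, preimageAlong_le θ P' x.2⟩, preimageAlong_map_mem θ P' x⟩ : P') = y :=
      Subtype.ext hx
    rw [h2] at h1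
    rw [h1, ← hrange]
    exact ⟨_, rfl⟩
  injective_of_mem := by
    rintro P' φ' ⟨hP', φ, hφ, hind⟩
    rw [injective_iff_map_eq_one]
    intro y hy
    obtain ⟨x, hx⟩ := exists_preimageAlong θ hrange hP' y
    have h1 := inducedAlong_apply θ hind x (preimageAlong_le θ P' x.2)
      (preimageAlong_map_mem θ P' x) ((F.le_of_mem hφ).2 x)
    have h2 : (⟨θ ⟨x, preimageAlong_le θ P' x.2⟩, preimageAlong_map_mem θ P' x⟩ : P') = y :=
      Subtype.ext hx
    rw [h2, hy] at h1
    have h3 : φ x ∈ S₀ := (hker _).mp h1.symm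
    have h4 : (x : Ω) ∈ S₀ :=
      ((stronglyClosed_mem_iff F hS₀ (ker_le_preimageAlong θ hS₀.1 hker P') hφ).1 x).mp h3
    apply Subtype.ext
    rw [← hx]
    exact (hker _).mpr h4
  conj_mem := by
    intro P' g' hP' hg'
    refine ⟨hP', ?_⟩
    have hg : g' ∈ θ.range := by rw [hrange]; exact hg'
    obtain ⟨g, rfl⟩ := hg
    refine ⟨conjHom _ (g : Ω), F.conj_mem (preimageAlong_le θ P') g.2, preimageAlong_le θ P',
      ?_, preimageAlong_map_mem θ P', ?_⟩
    · intro x
      exact S.mul_mem (S.mul_mem g.2 (preimageAlong_le θ P' x.2)) (S.inv_mem g.2)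
    · intro x
      have h1 : (⟨conjHom (preimageAlong θ P') (g : Ω) x,
          S.mul_mem (S.mul_mem g.2 (preimageAlong_le θ P' x.2)) (S.inv_mem g.2)⟩ : S) =
          g * ⟨x, preimageAlong_le θ P' x.2⟩ * g⁻¹ := by
        apply Subtype.ext
        simp [conjHom]
      rw [h1, map_mul, map_mul, map_inv]
      simp [conjHom]
  comp_mem := by
    rintro P' Q' φ' ψ' ⟨hP', φ, hφ, hindφ⟩ ⟨hQ', ψ, hψ, hindψ⟩ h
    refine ⟨hP', ?_⟩
    have hφS : ∀ x : preimageAlong θ P', φ x ∈ S := (F.le_of_mem hφ).2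
    have hψS : ∀ x : preimageAlong θ Q', ψ x ∈ S := (F.le_of_mem hψ).2
    have e1 : ∀ x : preimageAlong θ P',
        φ' ⟨θ ⟨x, preimageAlong_le θ P' x.2⟩, preimageAlong_map_mem θ P' x⟩ = θ ⟨φ x, hφS x⟩ :=
      fun x => inducedAlong_apply θ hindφ x _ _ _
    have e2 : ∀ x : preimageAlong θ Q',
        ψ' ⟨θ ⟨x, preimageAlong_le θ Q' x.2⟩, preimageAlong_map_mem θ Q' x⟩ = θ ⟨ψ x, hψS x⟩ :=
      fun x => inducedAlong_apply θ hindψ x _ _ _
    have hv : ∀ x : preimageAlong θ P', φ x ∈ preimageAlong θ Q' := by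
      intro x
      refine (mem_preimageAlong _ _ _).mpr ⟨hφS x, ?_⟩
      rw [← e1 x]
      exact h _
    refine ⟨ψ.comp (φ.codRestrict _ hv), F.comp_mem hφ hψ hv, preimageAlong_le θ P', ?_,
      preimageAlong_map_mem θ P', ?_⟩
    · intro x
      exact hψS _
    · intro x
      simp only [MonoidHom.comp_apply]
      have h3 : (φ'.codRestrict Q' h) ⟨θ ⟨x, preimageAlong_le θ P' x.2⟩,
          preimageAlong_map_mem θ P' x⟩ =
          ⟨θ ⟨(φ.codRestrict _ hv x : Ω), preimageAlong_le θ Q' (φ.codRestrict _ hv x).2⟩,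
            preimageAlong_map_mem θ Q' (φ.codRestrict _ hv x)⟩ := by
        apply Subtype.ext
        exact e1 x
      rw [h3, e2]
  inv_mem := by
    rintro P' φ' ⟨hP', φ, hφ, hindφ⟩
    have hφS : ∀ x : preimageAlong θ P', φ x ∈ S := (F.le_of_mem hφ).2
    have e1 : ∀ x : preimageAlong θ P',
        φ' ⟨θ ⟨x, preimageAlong_le θ P' x.2⟩, preimageAlong_map_mem θ P' x⟩ = θ ⟨φ x, hφS x⟩ :=
      fun x => inducedAlong_apply θ hindφ x _ _ _
    have hSP : S₀ ≤ preimageAlong θ P' := ker_le_preimageAlong θ hS₀.1 hker P'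
    obtain ⟨hA1, hA2⟩ := stronglyClosed_mem_iff F hS₀ hSP hφ
    -- φ' is injective
    have hinj : Function.Injective φ' := by
      rw [injective_iff_map_eq_one]
      intro y hy
      obtain ⟨x, hx⟩ := exists_preimageAlong θ hrange hP' y
      have h1 := e1 x
      have h2 : (⟨θ ⟨x, preimageAlong_le θ P' x.2⟩, preimageAlong_map_mem θ P' x⟩ : P') = y :=
        Subtype.ext hx
      rw [h2, hy] at h1
      have h3 : φ x ∈ S₀ := (hker _).mp h1.symm
      have h4 : (x : Ω) ∈ S₀ := (hA1 x).mp h3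
      apply Subtype.ext
      rw [← hx]
      exact (hker _).mpr h4
    -- the preimage of the image of φ' is the image of φ
    have hrg : preimageAlong θ φ'.range = φ.range := by
      apply le_antisymm
      · intro y hy
        obtain ⟨hyS, hy'⟩ := (mem_preimageAlong _ _ _).mp hy
        obtain ⟨x', hx'⟩ := hy'
        obtain ⟨x, hx⟩ := exists_preimageAlong θ hrange hP' x'
        have h2 : (⟨θ ⟨x, preimageAlong_le θ P' x.2⟩, preimageAlong_map_mem θ P' x⟩ : P') = x' :=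
          Subtype.ext hx
        have h1 := e1 x
        rw [h2, hx'] at h1
        -- θ y = θ (φ x)
        have h3 : θ (⟨φ x, hφS x⟩⁻¹ * ⟨y, hyS⟩) = 1 := by
          rw [map_mul, map_inv, h1, inv_mul_cancel]
        have h4 : (φ x)⁻¹ * y ∈ S₀ := (hker _).mp h3
        obtain ⟨t, -, ht⟩ := hA2 _ h4
        refine ⟨x * t, ?_⟩
        rw [map_mul, ht, mul_inv_cancel_left]
      · rintro _ ⟨x, rfl⟩
        refine (mem_preimageAlong _ _ _).mpr ⟨hφS x, ?_⟩
        rw [← e1 x]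
        exact ⟨_, rfl⟩
    obtain ⟨ψ, hψ, hψe⟩ := F.inv_mem hφ
    have hψ₁ := cast_mem F hrg hψ
    refine ⟨P'.subtype.comp (MonoidHom.ofInjective hinj).symm.toMonoidHom, ⟨?_, _, hψ₁, ?_⟩, ?_⟩
    · rintro _ ⟨x, rfl⟩
      exact (show ∀ x : P', φ' x ∈ S' from fun y => by
        obtain ⟨x, hx⟩ := exists_preimageAlong θ hrange hP' y
        have h2 : (⟨θ ⟨x, preimageAlong_le θ P' x.2⟩, preimageAlong_map_mem θ P' x⟩ : P') = y :=
          Subtype.ext hx
        have h1 := e1 x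
        rw [h2] at h1
        rw [h1, ← hrange]
        exact ⟨_, rfl⟩) x
    · refine ⟨preimageAlong_le θ _, ?_, preimageAlong_map_mem θ _, ?_⟩
      · intro y
        exact (F.le_of_mem hψ₁).2 y
      · intro y
        have hy : (y : Ω) ∈ φ.range := by rw [← hrg]; exact y.2
        obtain ⟨x, hx⟩ := hy
        have h5 : (ψ.comp (Subgroup.inclusion hrg.le)) y = (x : Ω) := by
          rw [← hψe x]
          simp only [MonoidHom.comp_apply]
          congr 1
          apply Subtype.ext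
          simp [hx]
        have h6 : (⟨θ ⟨y, preimageAlong_le θ _ y.2⟩, preimageAlong_map_mem θ _ y⟩ : φ'.range) =
            MonoidHom.ofInjective hinj ⟨θ ⟨x, preimageAlong_le θ P' x.2⟩,
              preimageAlong_map_mem θ P' x⟩ := by
          apply Subtype.ext
          rw [MonoidHom.ofInjective_apply, e1 x]
          show θ ⟨y, _⟩ = θ ⟨φ x, _⟩
          congr 1
          apply Subtype.ext
          exact hx.symm
        rw [h6]
        simp only [MonoidHom.comp_apply, MulEquiv.coe_toMonoidHom, MulEquiv.symm_apply_apply,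
          Subgroup.subtype_apply]
        congr 1
        apply Subtype.ext
        exact h5.symm
    · intro x
      have h6 : (⟨φ' x, ⟨x, rfl⟩⟩ : φ'.range) = MonoidHom.ofInjective hinj x := by
        apply Subtype.ext
        rw [MonoidHom.ofInjective_apply]
      rw [h6]
      simp

theorem factorSystem_isFactorSystem [Finite S] (F : FusionSystem S) {S₀ : Subgroup Ω}
    (hS₀ : F.StronglyClosed S₀) (θ : S →* Ω') (hker : ∀ s : S, θ s = 1 ↔ (s : Ω) ∈ S₀)
    {S' : Subgroup Ω'} (hrange : θ.range = S') :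
    F.IsFactorSystem S₀ θ (factorSystem F hS₀ θ hker hrange) :=
  ⟨hS₀.1, hker, hrange, fun _ _ => Iff.rfl⟩

end Cfsg.Agent.Helper25
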