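import Mathlib
import Cfsg.Agent.Helper25.FusionAlperin3
import Cfsg.Agent.Helper25.FusionFactor
import Cfsg.Agent.Helper25.FusionChain
import Cfsg.Agent.Helper25.FusionNormal
import Cfsg.Agent.Helper25.FusionQuotGroup

set_option autoImplicit false

/-! In a saturated fusion system, every map lifts, modulo a strongly closed subgroup `T`, to a map
defined on the product of its source with `T`. -/

namespace Cfsg.Agent.Helper25

open Cfsg Cfsg.FusionSystem

variable {Ω : Type*} [Group Ω] {S : Subgroup Ω}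

/-- `φ` lifts modulo `T` to a map of the system on `P ⊔ T`. -/
def LiftsMod (F : FusionSystem S) (T : Subgroup Ω) {P : Subgroup Ω} (φ : P →* Ω) : Prop :=
  ∃ ψ ∈ F.Hom (P ⊔ T), ∀ x : P, (φ x)⁻¹ * ψ (Subgroup.inclusion le_sup_left x) ∈ T

theorem liftsMod_of_le (F : FusionSystem S) {T P : Subgroup Ω} (hTP : T ≤ P) {φ : P →* Ω}
    (hφ : φ ∈ F.Hom P) : LiftsMod F T φ := by
  refine ⟨φ.comp (Subgroup.inclusion (sup_le le_rfl hTP)), restrict_mem F _ hφ, fun x => ?_⟩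
  have : (φ.comp (Subgroup.inclusion (sup_le le_rfl hTP)))
      (Subgroup.inclusion (le_sup_left : P ≤ P ⊔ T) x) = φ x := by
    simp only [MonoidHom.comp_apply]
    congr 1
  rw [this, inv_mul_cancel]
  exact T.one_mem

/-- The range of a lift. -/
theorem liftsMod_range [Finite S] (F : FusionSystem S) {T : Subgroup Ω} (hT : F.StronglyClosed T)
    {P : Subgroup Ω} {φ : P →* Ω} {ψ : ↥(P ⊔ T) →* Ω} (hψ : ψ ∈ F.Hom (P ⊔ T))
    (hl : ∀ x : P, (φ x)⁻¹ * ψ (Subgroup.inclusion le_sup_left x) ∈ T) :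
    ψ.range = φ.range ⊔ T := by
  obtain ⟨hA1, hA2⟩ := stronglyClosed_mem_iff F hT le_sup_right hψ
  have hTmap : (T.subgroupOf (P ⊔ T)).map ψ = T := by
    ext y
    constructor
    · rintro ⟨x, hx, rfl⟩
      exact (hA1 x).mpr hx
    · intro hy
      obtain ⟨x, hx, hxy⟩ := hA2 y hy
      exact ⟨x, hx, hxy⟩
  rw [range_sup_eq, hTmap]
  apply le_antisymm
  · refine sup_le ?_ le_sup_right
    rintro _ ⟨x, hx, rfl⟩
    have hx' : (x : Ω) ∈ P := hx
    have e : x = Subgroup.inclusion le_sup_left (⟨x, hx'⟩ : P) := Subtype.ext rfl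
    have e2 : ψ x = φ ⟨x, hx'⟩ * ((φ ⟨x, hx'⟩)⁻¹ * ψ x) := by rw [mul_inv_cancel_left]
    rw [e2]
    refine Subgroup.mul_mem _ (Subgroup.mem_sup_left ⟨_, rfl⟩) (Subgroup.mem_sup_right ?_)
    have := hl ⟨x, hx'⟩
    rwa [← e] at this
  · refine sup_le ?_ le_sup_right
    rintro _ ⟨x, rfl⟩
    have e2 : φ x = ψ (Subgroup.inclusion le_sup_left x) *
        ((φ x)⁻¹ * ψ (Subgroup.inclusion le_sup_left x))⁻¹ := by group
    rw [e2]
    refine Subgroup.mul_mem _ (Subgroup.mem_sup_left ⟨_, ?_, rfl⟩)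
      (Subgroup.mem_sup_right (T.inv_mem (hl x)))
    show ((Subgroup.inclusion le_sup_left x : ↥(P ⊔ T)) : Ω) ∈ P
    exact x.2

/-- The maps of `F` that lift modulo the strongly closed subgroup `T` form a fusion system. -/
def liftSystem [Finite S] (F : FusionSystem S) {T : Subgroup Ω} (hT : F.StronglyClosed T) :
    FusionSystem S where
  Hom P := {φ | φ ∈ F.Hom P ∧ LiftsMod F T φ}
  le_of_mem h := F.le_of_mem h.1
  injective_of_mem h := F.injective_of_mem h.1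
  conj_mem := by
    intro P g hP hg
    refine ⟨F.conj_mem hP hg, conjHom (P ⊔ T) g, F.conj_mem (sup_le hP hT.1) hg, fun x => ?_⟩
    have : (conjHom P g x)⁻¹ * conjHom (P ⊔ T) g (Subgroup.inclusion le_sup_left x) = 1 := by
      have : conjHom (P ⊔ T) g (Subgroup.inclusion le_sup_left x) = conjHom P g x := rfl
      rw [this, inv_mul_cancel]
    rw [this]
    exact T.one_mem
  comp_mem := by
    rintro P Q φ φ₂ ⟨hφ, ψ, hψ, hl⟩ ⟨hφ₂, ψ₂, hψ₂, hl₂⟩ h
    refine ⟨F.comp_mem hφ hφ₂ h, ?_⟩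
    have hrange := liftsMod_range F hT hψ hl
    have hv : ∀ y : ↥(P ⊔ T), ψ y ∈ Q ⊔ T := by
      intro y
      have h1 : ψ y ∈ ψ.range := ⟨y, rfl⟩
      rw [hrange] at h1
      have h2 : φ.range ≤ Q := by
        rintro _ ⟨x, rfl⟩
        exact h x
      exact (sup_le_sup_right h2 T) h1
    refine ⟨ψ₂.comp (ψ.codRestrict _ hv), F.comp_mem hψ hψ₂ hv, fun x => ?_⟩
    have htT : (φ x)⁻¹ * ψ (Subgroup.inclusion le_sup_left x) ∈ T := hl x
    have e1 : ψ.codRestrict _ hv (Subgroup.inclusion le_sup_left x) =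
        Subgroup.inclusion (le_sup_left : Q ≤ Q ⊔ T) (⟨φ x, h x⟩ : Q) *
          ⟨(φ x)⁻¹ * ψ (Subgroup.inclusion le_sup_left x), Subgroup.mem_sup_right htT⟩ := by
      apply Subtype.ext
      simp
    simp only [MonoidHom.comp_apply]
    rw [e1, map_mul, ← mul_assoc]
    have e2 := hl₂ ⟨φ x, h x⟩
    have e3 : ψ₂ ⟨(φ x)⁻¹ * ψ (Subgroup.inclusion le_sup_left x),
        Subgroup.mem_sup_right htT⟩ ∈ T :=
      ((stronglyClosed_mem_iff F hT le_sup_right hψ₂).1 _).mpr htT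
    exact T.mul_mem e2 e3
  inv_mem := by
    rintro P φ ⟨hφ, ψ, hψ, hl⟩
    obtain ⟨χ, hχ, hχe⟩ := F.inv_mem hφ
    refine ⟨χ, ⟨hχ, ?_⟩, hχe⟩
    have hrange := liftsMod_range F hT hψ hl
    obtain ⟨ψi, hψi, hψie⟩ := F.inv_mem hψ
    refine ⟨ψi.comp (Subgroup.inclusion hrange.ge), cast_mem F hrange.symm hψi, ?_⟩
    rintro ⟨_, x, rfl⟩
    have htT : (φ x)⁻¹ * ψ (Subgroup.inclusion le_sup_left x) ∈ T := hl x
    obtain ⟨s, hsT, hs⟩ := (stronglyClosed_mem_iff F hT le_sup_right hψ).2 _ (T.inv_mem htT)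
    have e1 : (Subgroup.inclusion hrange.ge (Subgroup.inclusion le_sup_left
        (⟨φ x, ⟨x, rfl⟩⟩ : φ.range)) : ψ.range) =
        ⟨ψ (Subgroup.inclusion le_sup_left x * s), ⟨_, rfl⟩⟩ := by
      apply Subtype.ext
      simp only [Subgroup.coe_inclusion]
      rw [map_mul, hs]
      group
    simp only [MonoidHom.comp_apply]
    rw [e1, hψie, hχe x]
    simp only [Subgroup.coe_mul, Subgroup.coe_inclusion, inv_mul_cancel_left]
    exact hsT

/-- The automorphisms of `Q` acting trivially modulo `T`. -/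
def trivModSubgroup (Q T : Subgroup Ω) : Subgroup (MulAut Q) where
  carrier := {a | ∀ x : Q, (x : Ω)⁻¹ * ((a x : Q) : Ω) ∈ T}
  one_mem' := by
    intro x
    simp
  mul_mem' := by
    intro a b ha hb x
    have h1 := hb x
    have h2 := ha (b x)
    have e : (x : Ω)⁻¹ * (((a * b) x : Q) : Ω) =
        ((x : Ω)⁻¹ * ((b x : Q) : Ω)) * (((b x : Q) : Ω)⁻¹ * ((a (b x) : Q) : Ω)) := by
      rw [MulAut.mul_apply]
      group
    rw [e]
    exact T.mul_mem h1 h2
  inv_mem' := by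
    intro a ha x
    have h1 := ha (a⁻¹ x)
    have e : (x : Ω)⁻¹ * (((a⁻¹ x : Q)) : Ω) =
        (((a⁻¹ x : Q) : Ω)⁻¹ * ((a (a⁻¹ x) : Q) : Ω))⁻¹ := by
      rw [MulAut.apply_inv_self]
      group
    rw [e]
    exact T.inv_mem h1

theorem mem_trivModSubgroup {Q T : Subgroup Ω} (a : MulAut Q) :
    a ∈ trivModSubgroup Q T ↔ ∀ x : Q, (x : Ω)⁻¹ * ((a x : Q) : Ω) ∈ T := Iff.rfl

/-- Frattini argument in `Aut_F(Q)` for `Q` fully automized. -/
theorem exists_trivMod_mul [Finite S] (p : ℕ) [Fact p.Prime] (F : FusionSystem S)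
    {T : Subgroup Ω} (hT : F.StronglyClosed T) {Q : Subgroup Ω} (hQS : Q ≤ S)
    (hFA : F.IsFullyAutomized p Q) (α : MulAut Q) (hα : α ∈ F.autGroup Q) :
    ∃ κ ∈ F.autGroup Q, κ ∈ trivModSubgroup Q T ∧
      ∀ β ∈ autInducedBy S Q, β ∈ trivModSubgroup Q T →
        (κ * α) * β * (κ * α)⁻¹ ∈ autInducedBy S Q := by
  obtain ⟨R, hR⟩ := hFA.2
  have hfinQ : Finite Q := finite_of_le hQS
  have hfinA : Finite (MulAut Q) :=
    Finite.of_injective (fun e : MulAut Q => (e : Q → Q)) (fun a b h => DFunLike.coe_injective h)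
  set K : Subgroup ↥(F.autGroup Q) := (trivModSubgroup Q T).subgroupOf (F.autGroup Q) with hKdef
  have hK : K.Normal := by
    constructor
    rintro ⟨n, hnA⟩ hn ⟨g, hgA⟩
    rw [hKdef, Subgroup.mem_subgroupOf] at hn ⊢
    show g * n * g⁻¹ ∈ trivModSubgroup Q T
    intro x
    have h1 : (x : Ω)⁻¹ * (((g * n * g⁻¹) x : Q) : Ω) =
        ((g ((g⁻¹ x)⁻¹ * n (g⁻¹ x)) : Q) : Ω) := by
      simp [MulAut.mul_apply, map_mul, map_inv]
    rw [h1]
    exact autGroup_apply_mem_of_stronglyClosed F hT hQS g hgA _ (by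
      have := hn (g⁻¹ x)
      simpa using this)
  set a : ↥(F.autGroup Q) := ⟨α, hα⟩ with ha
  set U : Subgroup ↥(F.autGroup Q) :=
    ((R : Subgroup ↥(F.autGroup Q)) ⊓ K).map (MulAut.conj a).toMonoidHom with hUdef
  have hU : IsPGroup p U := (isPGroup_of_le R.isPGroup' inf_le_left).map _
  have hUK : U ≤ (R : Subgroup ↥(F.autGroup Q)) ⊔ K := by
    rintro _ ⟨u, hu, rfl⟩
    apply Subgroup.mem_sup_right
    exact hK.conj_mem u hu.2 a
  obtain ⟨κ, hκK, hκ⟩ := exists_mem_normal_conj_mem p R K hU hUK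
  refine ⟨κ.1, κ.2, hκK, ?_⟩
  intro β hβS hβK
  have hβA : β ∈ F.autGroup Q := autInducedBy_le_autGroup F hQS hβS
  have hmem : a * ⟨β, hβA⟩ * a⁻¹ ∈ U := by
    refine ⟨⟨β, hβA⟩, ⟨?_, hβK⟩, by simp [MulAut.conj_apply]⟩
    rw [SetLike.mem_coe, hR]
    show β ∈ autInducedBy S Q
    exact hβS
  have h2 := hκ _ hmem
  rw [hR, Subgroup.mem_subgroupOf] at h2
  have e : ((κ * (a * ⟨β, hβA⟩ * a⁻¹) * κ⁻¹ : ↥(F.autGroup Q)) : MulAut Q) =
      ((κ : MulAut Q) * α) * β * ((κ : MulAut Q) * α)⁻¹ := by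
    simp [ha, mul_assoc]
  rw [e] at h2
  exact h2

/-- In a saturated system every map lifts modulo a strongly closed subgroup. -/
theorem le_liftSystem [Finite S] (p : ℕ) [Fact p.Prime] (hS : IsPGroup p S) (F : FusionSystem S)
    (hF : F.IsSaturated p) {T : Subgroup Ω} (hT : F.StronglyClosed T) : F ≤ liftSystem F hT := by
  apply alperin_le_ind p hS F hF
  intro Q hQ IH
  have hQS : Q ≤ S := by
    rcases hQ with rfl | hess
    · exact le_rfl
    · exact hess.2.1.1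
  intro α hα
  have hαF : autHom α ∈ F.Hom Q := (mem_autGroup_iff F hQS α).mp hα
  by_cases hTQ : T ≤ Q
  · rw [mem_autGroup_iff _ hQS]
    exact ⟨hαF, liftsMod_of_le F hTQ hαF⟩
  have hess : F.IsEssential p Q := by
    rcases hQ with rfl | hess
    · exact absurd hT.1 hTQ
    · exact hess
  have hFN := hess.2.1
  obtain ⟨hFC, hFA⟩ := Cfsg.Agent.S5077.sylow_axiom p hS F hF Q hFN
  have hrec := Cfsg.Agent.S5077.extension_axiom p hS F hF Q hFC
  obtain ⟨κ, hκA, hκK, hκν⟩ := exists_trivMod_mul p F hT hQS hFA α hα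
  have hνA : κ * α ∈ F.autGroup Q := mul_mem hκA hα
  -- κ lies in the lifted system
  have hκE : κ ∈ (liftSystem F hT).autGroup Q := by
    rw [mem_autGroup_iff _ hQS]
    refine ⟨(mem_autGroup_iff F hQS κ).mp hκA, (Q ⊔ T).subtype,
      subtype_mem F (sup_le hQS hT.1), fun x => ?_⟩
    have h1 := hκK x
    have e : (autHom κ x)⁻¹ * (Q ⊔ T).subtype (Subgroup.inclusion le_sup_left x) =
        ((x : Ω)⁻¹ * ((κ x : Q) : Ω))⁻¹ := by
      simp [autHom]
    rw [e]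
    exact T.inv_mem h1
  -- ν = κ α lies in the lifted system
  have hνE : κ * α ∈ (liftSystem F hT).autGroup Q := by
    set ν := κ * α with hν
    have hνF : autHom ν ∈ F.Hom Q := (mem_autGroup_iff F hQS ν).mp hνA
    have hSN : S ≤ Subgroup.normalizer (T : Set Ω) := le_normalizer_of_stronglyClosed F hT
    have hNT : T ⊓ Subgroup.normalizer (Q : Set Ω) ≤ extender S Q (autHom ν) := by
      rintro g ⟨hgT, hgN⟩
      apply Subgroup.subset_closure
      refine ⟨hT.1 hgT, hgN, ?_⟩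
      have hβS : Q.normalizerMonoidHom ⟨g, hgN⟩ ∈ autInducedBy S Q :=
        (mem_autInducedBy_iff S Q _).mpr ⟨g, hT.1 hgT, fun x => rfl⟩
      have hβK : Q.normalizerMonoidHom ⟨g, hgN⟩ ∈ trivModSubgroup Q T := by
        intro x
        rw [normalizerMonoidHom_coe]
        have h1 : (x : Ω)⁻¹ * g * ((x : Ω)⁻¹)⁻¹ ∈ T :=
          ((Subgroup.mem_normalizer_iff.mp (hSN (S.inv_mem (hQS x.2)))) g).mp hgT
        have e : (x : Ω)⁻¹ * (g * (x : Ω) * g⁻¹) = ((x : Ω)⁻¹ * g * ((x : Ω)⁻¹)⁻¹) * g⁻¹ := by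
          group
        rw [e]
        exact T.mul_mem h1 (T.inv_mem hgT)
      obtain ⟨h, hhS, hh⟩ := (mem_autInducedBy_iff S Q _).mp (hκν _ hβS hβK)
      refine ⟨h, hhS, fun x hx => ?_⟩
      have h3 := hh (ν x)
      have e : (ν * Q.normalizerMonoidHom ⟨g, hgN⟩ * ν⁻¹) (ν x) =
          ν (Q.normalizerMonoidHom ⟨g, hgN⟩ x) := by
        simp [MulAut.mul_apply]
      rw [e] at h3
      have e2 : (⟨g * (x : Ω) * g⁻¹, hx⟩ : Q) = Q.normalizerMonoidHom ⟨g, hgN⟩ x :=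
        Subtype.ext rfl
      rw [e2]
      exact h3
    -- an element of N_T(Q) outside Q
    have hfinM : Finite ↥(Q ⊔ T) := finite_of_le (sup_le hQS hT.1)
    have hMp : IsPGroup p ↥(Q ⊔ T) := isPGroup_of_le hS (sup_le hQS hT.1)
    have hQM : Q ≠ Q ⊔ T := fun h => hTQ (h ▸ le_sup_right)
    obtain ⟨g, hgN, hgQ⟩ := exists_mem_normalizerIn_not_mem (S := Q ⊔ T) p hMp le_sup_left hQM
    have hgM : g ∈ ((Q ⊔ T : Subgroup Ω) : Set Ω) := hgN.1
    rw [Subgroup.coe_mul_of_left_le_normalizer_right Q T (hQS.trans hSN), Set.mem_mul] at hgM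
    obtain ⟨q, hq, t, ht, hqt⟩ := hgM
    have htN : t ∈ Subgroup.normalizer (Q : Set Ω) := by
      have : t = q⁻¹ * g := by rw [← hqt]; group
      rw [this]
      exact Subgroup.mul_mem _ (Subgroup.inv_mem _ (Subgroup.le_normalizer hq)) hgN.2
    have htQ : t ∉ Q := by
      intro h
      apply hgQ
      rw [← hqt]
      exact Q.mul_mem hq h
    have hlt : Q < Q ⊔ (T ⊓ Subgroup.normalizer (Q : Set Ω)) :=
      lt_of_le_of_ne le_sup_left (fun h => htQ (h ▸ Subgroup.mem_sup_right ⟨ht, htN⟩))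
    have hQ₁ext : Q ⊔ (T ⊓ Subgroup.normalizer (Q : Set Ω)) ≤ extender S Q (autHom ν) :=
      sup_le (le_extender hQS (autHom ν) (fun x => hQS (ν x).2)) hNT
    obtain ⟨χ, hχ, hχext⟩ := hrec.2 Q (autHom ν) hνF (autHom_range ν)
    have hχ₁ := restrict_mem F hQ₁ext hχ
    have hQ₁S : Q ⊔ (T ⊓ Subgroup.normalizer (Q : Set Ω)) ≤ S := (F.le_of_mem hχ₁).1
    obtain ⟨-, ψ, hψ, hl⟩ := IH _ hQ₁S (card_lt_of_lt hQ₁S hlt) hχ₁
    have hsup : Q ⊔ T = Q ⊔ (T ⊓ Subgroup.normalizer (Q : Set Ω)) ⊔ T :=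
      le_antisymm (sup_le_sup_right le_sup_left T)
        (sup_le (sup_le le_sup_left (inf_le_left.trans le_sup_right)) le_sup_right)
    rw [mem_autGroup_iff _ hQS]
    refine ⟨hνF, ψ.comp (Subgroup.inclusion hsup.le), cast_mem F hsup hψ, fun x => ?_⟩
    have h4 := hl ⟨x, le_sup_left (a := Q) x.2⟩
    have e1 : (χ.comp (Subgroup.inclusion hQ₁ext)) ⟨x, le_sup_left (a := Q) x.2⟩ =
        autHom ν x := hχext x x.2 _
    rw [e1] at h4
    exact h4
  have e : α = κ⁻¹ * (κ * α) := by group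
  rw [e]
  exact mul_mem (inv_mem hκE) hνE

end Cfsg.Agent.Helper25
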