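import Mathlib
import Cfsg.Agent.Helper25.FusionLift

set_option autoImplicit false

/-! Invariant subsystems: the equivalence of the invariance conditions with strong invariance. -/

namespace Cfsg.Agent.Helper25

open Cfsg Cfsg.FusionSystem

variable {Ω : Type*} [Group Ω] {S T : Subgroup Ω}

/-- The invariance condition: `E` is carried to itself by the elements of `Aut_F(T)`. -/
def InvCond (E : FusionSystem T) (F : FusionSystem S) : Prop :=
  ∀ (P : Subgroup Ω) (hPT : P ≤ T) (φ : P →* Ω), φ ∈ E.Hom P → ∀ α ∈ F.autGroup T,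
    ∃ χ ∈ E.Hom ((P.subgroupOf T).map (T.subtype.comp α.toMonoidHom)),
      ∀ (x : P) (hφx : φ x ∈ T)
        (hαx : ((α ⟨x, hPT x.2⟩ : T) : Ω) ∈ (P.subgroupOf T).map (T.subtype.comp α.toMonoidHom)),
        χ ⟨(α ⟨x, hPT x.2⟩ : T), hαx⟩ = ((α ⟨φ x, hφx⟩ : T) : Ω)

/-- A convenient form of the invariance condition. -/
theorem invCond_apply {E : FusionSystem T} {F : FusionSystem S} (hI : InvCond E F)
    {P : Subgroup Ω} (hPT : P ≤ T) {φ : P →* Ω} (hφ : φ ∈ E.Hom P) {α : MulAut T}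
    (hα : α ∈ F.autGroup T) :
    ∃ (P₂ : Subgroup Ω) (χ : P₂ →* Ω), χ ∈ E.Hom P₂ ∧
      (∀ x : P, ((α ⟨x, hPT x.2⟩ : T) : Ω) ∈ P₂) ∧
      (∀ y ∈ P₂, ∃ x : P, ((α ⟨x, hPT x.2⟩ : T) : Ω) = y) ∧
      ∀ (x : P) (h2 : ((α ⟨x, hPT x.2⟩ : T) : Ω) ∈ P₂),
        χ ⟨(α ⟨x, hPT x.2⟩ : T), h2⟩ = ((α ⟨φ x, (E.le_of_mem hφ).2 x⟩ : T) : Ω) := by
  obtain ⟨χ, hχ, hχe⟩ := hI P hPT φ hφ α hα
  refine ⟨_, χ, hχ, ?_, ?_, ?_⟩
  · intro x
    exact ⟨⟨x, hPT x.2⟩, x.2, rfl⟩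
  · rintro _ ⟨x, hx, rfl⟩
    exact ⟨⟨x, hx⟩, rfl⟩
  · intro x h2
    exact hχe x _ h2

/-- The system of maps `α ∘ φ₀` with `α ∈ Aut_F(T)` and `φ₀` a map of `E`. -/
def decSystem (F : FusionSystem S) (E : FusionSystem T) (hI : InvCond E F) : FusionSystem T where
  Hom P := {φ | P ≤ T ∧ ∃ α ∈ F.autGroup T, ∃ φ₀ ∈ E.Hom P,
    ∀ (x : P) (hx : φ₀ x ∈ T), φ x = ((α ⟨φ₀ x, hx⟩ : T) : Ω)}
  le_of_mem := by
    rintro P φ ⟨hPT, α, -, φ₀, hφ₀, he⟩
    refine ⟨hPT, fun x => ?_⟩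
    rw [he x ((E.le_of_mem hφ₀).2 x)]
    exact (α _).2
  injective_of_mem := by
    rintro P φ ⟨hPT, α, -, φ₀, hφ₀, he⟩ x y hxy
    rw [he x ((E.le_of_mem hφ₀).2 x), he y ((E.le_of_mem hφ₀).2 y)] at hxy
    have h1 := α.injective (Subtype.ext hxy)
    exact E.injective_of_mem hφ₀ (congrArg Subtype.val h1)
  conj_mem := by
    intro P g hP hg
    exact ⟨hP, 1, Subgroup.one_mem _, conjHom P g, E.conj_mem hP hg, fun x hx => rfl⟩
  comp_mem := by
    rintro P P₂ φ ψ ⟨hPT, α, hα, φ₀, hφ₀, hφe⟩ ⟨hP₂T, α', hα', ψ₀, hψ₀, hψe⟩ h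
    refine ⟨hPT, α' * α, mul_mem hα' hα, ?_⟩
    have hφ₀T := (E.le_of_mem hφ₀).2
    have hψ₀T := (E.le_of_mem hψ₀).2
    -- the range of φ
    have hR : φ.range ≤ P₂ := by
      rintro _ ⟨x, rfl⟩
      exact h x
    have hψ₀R := restrict_mem E hR hψ₀
    obtain ⟨R', χ, hχ, hmem, -, hχe⟩ :=
      invCond_apply hI (hR.trans hP₂T) hψ₀R (inv_mem hα)
    have hφ₀R' : ∀ x : P, φ₀ x ∈ R' := by
      intro x
      have h1 := hmem ⟨φ x, ⟨x, rfl⟩⟩
      have h2 : (⟨φ x, (hR.trans hP₂T) ⟨x, rfl⟩⟩ : T) = α ⟨φ₀ x, hφ₀T x⟩ :=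
        Subtype.ext (hφe x (hφ₀T x))
      rw [h2, MulAut.inv_apply_self] at h1
      exact h1
    refine ⟨χ.comp (φ₀.codRestrict R' hφ₀R'), E.comp_mem hφ₀ hχ hφ₀R', fun x hx => ?_⟩
    have h2 : (⟨φ x, (hR.trans hP₂T) ⟨x, rfl⟩⟩ : T) = α ⟨φ₀ x, hφ₀T x⟩ :=
      Subtype.ext (hφe x (hφ₀T x))
    have h3 : (α⁻¹ ⟨φ x, (hR.trans hP₂T) ⟨x, rfl⟩⟩ : T) = ⟨φ₀ x, hφ₀T x⟩ := by
      rw [h2, MulAut.inv_apply_self]
    have h4 : χ ⟨((α⁻¹ ⟨φ x, (hR.trans hP₂T) ⟨x, rfl⟩⟩ : T) : Ω),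
        (by rw [h3]; exact hφ₀R' x)⟩ = ((α⁻¹ ⟨ψ₀ ⟨φ x, h x⟩, hψ₀T _⟩ : T) : Ω) :=
      hχe ⟨φ x, ⟨x, rfl⟩⟩ (by rw [h3]; exact hφ₀R' x)
    have h5 : (χ.comp (φ₀.codRestrict R' hφ₀R')) x =
        ((α⁻¹ ⟨ψ₀ ⟨φ x, h x⟩, hψ₀T _⟩ : T) : Ω) := by
      rw [← h4]
      simp only [MonoidHom.comp_apply]
      congr 1
      apply Subtype.ext
      show φ₀ x = ((α⁻¹ ⟨φ x, _⟩ : T) : Ω)
      rw [h3]
    have h6 : (⟨(χ.comp (φ₀.codRestrict R' hφ₀R')) x, hx⟩ : T) =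
        α⁻¹ ⟨ψ₀ ⟨φ x, h x⟩, hψ₀T _⟩ := Subtype.ext h5
    rw [h6, MulAut.mul_apply, MulAut.apply_inv_self]
    exact hψe ⟨φ x, h x⟩ (hψ₀T _)
  inv_mem := by
    rintro P φ ⟨hPT, α, hα, φ₀, hφ₀, hφe⟩
    have hφ₀T := (E.le_of_mem hφ₀).2
    obtain ⟨ι, hι, hιe⟩ := E.inv_mem hφ₀
    have hR₀T : φ₀.range ≤ T := by
      rintro _ ⟨x, rfl⟩
      exact hφ₀T x
    obtain ⟨P₂, χ, hχ, hmem, hsurj, hχe⟩ := invCond_apply hI hR₀T hι hα
    have hP₂ : P₂ = φ.range := by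
      ext y
      constructor
      · intro hy
        obtain ⟨⟨_, x, rfl⟩, rfl⟩ := hsurj y hy
        exact ⟨x, hφe x (hφ₀T x)⟩
      · rintro ⟨x, rfl⟩
        rw [hφe x (hφ₀T x)]
        exact hmem ⟨φ₀ x, ⟨x, rfl⟩⟩
    have hχ' := cast_mem E hP₂.symm hχ
    have hrT : φ.range ≤ T := by
      rintro _ ⟨x, rfl⟩
      rw [hφe x (hφ₀T x)]
      exact (α _).2
    have hχ'T := (E.le_of_mem hχ').2
    refine ⟨(autHom α⁻¹).comp ((χ.comp (Subgroup.inclusion hP₂.symm.le)).codRestrict T hχ'T),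
      ⟨hrT, α⁻¹, inv_mem hα, _, hχ', fun y hy => rfl⟩, fun x => ?_⟩
    have h1 : ((α ⟨φ₀ x, hφ₀T x⟩ : T) : Ω) ∈ P₂ := hmem ⟨φ₀ x, ⟨x, rfl⟩⟩
    have h2 := hχe ⟨φ₀ x, ⟨x, rfl⟩⟩ h1
    have e : (⟨ι ⟨φ₀ x, ⟨x, rfl⟩⟩, (E.le_of_mem hι).2 ⟨φ₀ x, ⟨x, rfl⟩⟩⟩ : T) = ⟨x, hPT x.2⟩ :=
      Subtype.ext (hιe x)
    rw [e] at h2
    have h3 : ((χ.comp (Subgroup.inclusion hP₂.symm.le)).codRestrict T hχ'T) ⟨φ x, ⟨x, rfl⟩⟩ =
        α ⟨x, hPT x.2⟩ := by
      apply Subtype.ext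
      rw [← h2]
      show χ _ = χ _
      congr 1
      apply Subtype.ext
      exact hφe x (hφ₀T x)
    simp only [MonoidHom.comp_apply]
    rw [h3]
    show ((α⁻¹ (α ⟨x, hPT x.2⟩) : T) : Ω) = x
    rw [MulAut.inv_apply_self]

/-- The strong invariance condition. -/
def StrongInv (E : FusionSystem T) (F : FusionSystem S) : Prop :=
  ∀ (P Q : Subgroup Ω) (hPQ : P ≤ Q) (_ : Q ≤ T) (φ : P →* Ω) (_ : φ ∈ E.Hom P)
    (hφQ : ∀ x : P, φ x ∈ Q) (ψ : Q →* Ω) (_ : ψ ∈ F.Hom Q),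
    ∃ χ ∈ E.Hom ((P.subgroupOf Q).map ψ),
      ∀ (x : P) (hx : ψ (Subgroup.inclusion hPQ x) ∈ (P.subgroupOf Q).map ψ),
        χ ⟨ψ (Subgroup.inclusion hPQ x), hx⟩ = ψ ⟨φ x, hφQ x⟩

theorem invCond_of_strongInv {E : FusionSystem T} {F : FusionSystem S} (hTS : T ≤ S)
    (hSI : StrongInv E F) : InvCond E F := by
  intro P hPT φ hφ α hα
  have hαF := (mem_autGroup_iff F hTS α).mp hα
  obtain ⟨χ, hχ, hχe⟩ := hSI P T hPT le_rfl φ hφ (E.le_of_mem hφ).2 (autHom α) hαF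
  exact ⟨χ, hχ, fun x hφx hαx => hχe x hαx⟩

/-- Under strong invariance, `Aut_E(Q)` is normalized by `Aut_F(Q)`. -/
theorem autGroup_conj_mem_of_strongInv {E : FusionSystem T} {F : FusionSystem S} (hTS : T ≤ S)
    (hSI : StrongInv E F) {Q : Subgroup Ω} (hQT : Q ≤ T) {a k : MulAut Q}
    (ha : a ∈ F.autGroup Q) (hk : k ∈ E.autGroup Q) : a * k * a⁻¹ ∈ E.autGroup Q := by
  have hkE := (mem_autGroup_iff E hQT k).mp hk
  have haF := (mem_autGroup_iff F (hQT.trans hTS) a).mp ha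
  obtain ⟨χ, hχ, hχe⟩ := hSI Q Q le_rfl hQT (autHom k) hkE (fun x => (k x).2) (autHom a) haF
  have himg : (Q.subgroupOf Q).map (autHom a) = Q := by
    rw [Subgroup.subgroupOf_self, ← MonoidHom.range_eq_map, autHom_range]
  have hχ' := cast_mem E himg.symm hχ
  rw [mem_autGroup_iff E hQT]
  have e : autHom (a * k * a⁻¹) = χ.comp (Subgroup.inclusion himg.symm.le) := by
    ext y
    have hy : a (a⁻¹ y) = y := MulAut.apply_inv_self _ a y
    have h1 := hχe (a⁻¹ y) (by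
      show ((a (a⁻¹ y) : Q) : Ω) ∈ _
      rw [himg]
      exact (a (a⁻¹ y)).2)
    show (((a * k * a⁻¹) y : Q) : Ω) = χ ⟨y, _⟩
    have h2 : ((a * k * a⁻¹) y : Q) = a (k (a⁻¹ y)) := rfl
    rw [h2]
    have h3 : (autHom a) ⟨(autHom k) (a⁻¹ y), (k (a⁻¹ y)).2⟩ = ((a (k (a⁻¹ y)) : Q) : Ω) := rfl
    rw [← h3, ← h1]
    congr 1
    apply Subtype.ext
    show ((a (a⁻¹ y) : Q) : Ω) = (y : Ω)
    rw [hy]
  rw [e]
  exact hχ'

/-- Frattini argument in `Aut_F(Q)` for `Q` fully automized, relative to a subgroup normalized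
by `Aut_F(Q)`. -/
theorem exists_mul_conj_mem [Finite S] (p : ℕ) [Fact p.Prime] (F : FusionSystem S)
    {Q : Subgroup Ω} (hQS : Q ≤ S) (hFA : F.IsFullyAutomized p Q) (K₀ : Subgroup (MulAut Q))
    (hnorm : ∀ a ∈ F.autGroup Q, ∀ k ∈ K₀, k ∈ F.autGroup Q → a * k * a⁻¹ ∈ K₀)
    (α : MulAut Q) (hα : α ∈ F.autGroup Q) :
    ∃ κ ∈ F.autGroup Q, κ ∈ K₀ ∧
      ∀ β ∈ autInducedBy S Q, β ∈ K₀ → (κ * α) * β * (κ * α)⁻¹ ∈ autInducedBy S Q := by
  obtain ⟨R, hR⟩ := hFA.2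
  have hfinQ : Finite Q := finite_of_le hQS
  have hfinA : Finite (MulAut Q) :=
    Finite.of_injective (fun e : MulAut Q => (e : Q → Q)) (fun a b h => DFunLike.coe_injective h)
  set K : Subgroup ↥(F.autGroup Q) := K₀.subgroupOf (F.autGroup Q) with hKdef
  have hK : K.Normal := by
    constructor
    rintro ⟨n, hnA⟩ hn ⟨g, hgA⟩
    rw [hKdef, Subgroup.mem_subgroupOf] at hn ⊢
    exact hnorm g hgA n hn hnA
  set a : ↥(F.autGroup Q) := ⟨α, hα⟩ with ha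
  set U : Subgroup ↥(F.autGroup Q) :=
    ((R : Subgroup ↥(F.autGroup Q)) ⊓ K).map (MulAut.conj a).toMonoidHom with hUdef
  have hU : IsPGroup p U := (isPGroup_of_le R.isPGroup' inf_le_left).map _
  have hUK : U ≤ (R : Subgroup ↥(F.autGroup Q)) ⊔ K := by
    rintro _ ⟨u, hu, rfl⟩
    apply Subgroup.mem_sup_right
    exact hK.conj_mem u hu.2 a
  obtain ⟨κ, hκK, hκ⟩ := exists_mem_normal_conj_mem p R K hU hUK
  refine ⟨κ.1, κ.2, hκK, ?_⟩
  intro β hβS hβK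
  have hβA : β ∈ F.autGroup Q := autInducedBy_le_autGroup F hQS hβS
  have hmem : a * ⟨β, hβA⟩ * a⁻¹ ∈ U := by
    refine ⟨⟨β, hβA⟩, ⟨?_, hβK⟩, by simp [MulAut.conj_apply]⟩
    rw [SetLike.mem_coe, hR]
    show β ∈ autInducedBy S Q
    exact hβS
  have h2 := hκ _ hmem
  rw [hR, Subgroup.mem_subgroupOf] at h2
  have e : ((κ * (a * ⟨β, hβA⟩ * a⁻¹) * κ⁻¹ : ↥(F.autGroup Q)) : MulAut Q) =
      ((κ : MulAut Q) * α) * β * ((κ : MulAut Q) * α)⁻¹ := by
    simp [ha, mul_assoc]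
  rw [e] at h2
  exact h2

/-- Under strong invariance every map of `F` between subgroups of `T` is an element of
`Aut_F(T)` composed with a map of `E`. -/
theorem hom_subset_decSystem [Finite S] (p : ℕ) [Fact p.Prime] (hS : IsPGroup p S)
    (F : FusionSystem S) (hF : F.IsSaturated p) (hT : F.StronglyClosed T) (E : FusionSystem T)
    (hSI : StrongInv E F) :
    ∀ k : ℕ, ∀ P : Subgroup Ω, P ≤ T → Nat.card T - Nat.card P = k →
      F.Hom P ⊆ (decSystem F E (invCond_of_strongInv hT.1 hSI)).Hom P := by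
  have hTS : T ≤ S := hT.1
  have hfinT : Finite T := finite_of_le hTS
  have hTp : IsPGroup p T := isPGroup_of_le hS hTS
  have hconjT : ∀ P' Q' : Subgroup Ω, P' ≤ T → F.IsConj P' Q' → Q' ≤ T := by
    rintro P' _ hP'T ⟨ρ, hρ, rfl⟩
    rintro _ ⟨x, rfl⟩
    exact hT.2 P' hP'T ρ hρ x
  intro k
  induction k using Nat.strong_induction_on with
  | _ k ih =>
    intro P hPT hk φ hφ
    have hPS : P ≤ S := hPT.trans hTS
    have hcardle : ∀ Q : Subgroup Ω, Q ≤ T → Nat.card Q ≤ Nat.card T := fun Q hQT =>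
      Nat.card_le_card_of_injective (Subgroup.inclusion hQT) (Subgroup.inclusion_injective _)
    have IH : ∀ Q : Subgroup Ω, Q ≤ T → Nat.card P < Nat.card Q →
        F.Hom Q ⊆ (decSystem F E (invCond_of_strongInv hT.1 hSI)).Hom Q := by
      intro Q hQT hlt
      have hQle := hcardle Q hQT
      exact ih (Nat.card T - Nat.card Q) (by omega) Q hQT rfl
    by_cases hPeq : P = T
    · subst hPeq
      have hle : φ.range ≤ P := by
        rintro _ ⟨x, rfl⟩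
        exact hT.2 P le_rfl φ hφ x
      have hinj := F.injective_of_mem hφ
      have hr : φ.range = P := by
        apply Subgroup.eq_of_le_of_card_ge hle
        exact (Nat.card_congr (MonoidHom.ofInjective hinj).toEquiv).le
      have hα : isoOfHom φ hinj hr ∈ F.autGroup P := by
        rw [mem_autGroup_iff F hTS]
        have : autHom (isoOfHom φ hinj hr) = φ := by
          ext x
          rfl
        rw [this]
        exact hφ
      exact ⟨le_rfl, _, hα, P.subtype, subtype_mem E le_rfl, fun x hx => rfl⟩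
    · obtain ⟨Q, hPQ, hFN⟩ := exists_isConj_fullyNormalized F hPS
      have hQS : Q ≤ S := hFN.1
      have hQT : Q ≤ T := hconjT P Q hPT hPQ
      have hcardQ : Nat.card Q = Nat.card P := (card_eq_of_isConj F hPQ).symm
      have hPcard : ¬ Nat.card T ≤ Nat.card P := fun h =>
        hPeq (Subgroup.eq_of_le_of_card_ge hPT h)
      have hne_of_card : ∀ P' : Subgroup Ω, Nat.card P' = Nat.card P → P' ≠ T := by
        rintro P' hc rfl
        exact hPcard hc.le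
      obtain ⟨hFC, hFA⟩ := Cfsg.Agent.S5077.sylow_axiom p hS F hF Q hFN
      have hrec := Cfsg.Agent.S5077.extension_axiom p hS F hF Q hFC
      -- strict growth of normalizers inside T
      have hgrow : ∀ P' : Subgroup Ω, P' ≤ T → Nat.card P' = Nat.card P →
          P' ≤ normalizerIn T P' ∧ Nat.card P < Nat.card (normalizerIn T P') := by
        intro P' hP'T hc
        have hP'N : P' ≤ normalizerIn T P' := fun x hx => ⟨hP'T hx, Subgroup.le_normalizer hx⟩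
        obtain ⟨g, hgN, hgP'⟩ :=
          exists_mem_normalizerIn_not_mem (S := T) p hTp hP'T (hne_of_card P' hc)
        have hlt : P' < normalizerIn T P' :=
          lt_of_le_of_ne hP'N (fun h => hgP' (h ▸ hgN))
        refine ⟨hP'N, ?_⟩
        rw [← hc]
        exact card_lt_of_lt ((inf_le_left : normalizerIn T P' ≤ T).trans hTS) hlt
      -- (A) automorphisms of Q
      have hA : F.autGroup Q ≤ (decSystem F E (invCond_of_strongInv hT.1 hSI)).autGroup Q := by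
        intro γ hγ
        obtain ⟨κ, hκA, hκK, hκν⟩ := exists_mul_conj_mem p F hQS hFA (E.autGroup Q)
          (fun a ha k hk _ => autGroup_conj_mem_of_strongInv hTS hSI hQT ha hk) γ hγ
        have hκD : κ ∈ (decSystem F E (invCond_of_strongInv hT.1 hSI)).autGroup Q := by
          rw [mem_autGroup_iff _ hQT]
          exact ⟨hQT, 1, Subgroup.one_mem _, autHom κ, (mem_autGroup_iff E hQT κ).mp hκK,
            fun x hx => rfl⟩
        have hνA : κ * γ ∈ F.autGroup Q := mul_mem hκA hγ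
        have hνD : κ * γ ∈ (decSystem F E (invCond_of_strongInv hT.1 hSI)).autGroup Q := by
          have hνF : autHom (κ * γ) ∈ F.Hom Q := (mem_autGroup_iff F hQS _).mp hνA
          obtain ⟨hQN, hcardN⟩ := hgrow Q hQT hcardQ
          have hNT : normalizerIn T Q ≤ extender S Q (autHom (κ * γ)) := by
            rintro g ⟨hgT, hgN⟩
            apply Subgroup.subset_closure
            refine ⟨hTS hgT, hgN, ?_⟩
            have hβS : Q.normalizerMonoidHom ⟨g, hgN⟩ ∈ autInducedBy S Q :=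
              (mem_autInducedBy_iff S Q _).mpr ⟨g, hTS hgT, fun x => rfl⟩
            have hβK : Q.normalizerMonoidHom ⟨g, hgN⟩ ∈ E.autGroup Q := by
              rw [mem_autGroup_iff E hQT]
              have : autHom (Q.normalizerMonoidHom ⟨g, hgN⟩) = conjHom Q g := by
                ext x
                rfl
              rw [this]
              exact E.conj_mem hQT hgT
            obtain ⟨h, hhS, hh⟩ := (mem_autInducedBy_iff S Q _).mp (hκν _ hβS hβK)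
            refine ⟨h, hhS, fun x hx => ?_⟩
            have h3 := hh ((κ * γ) x)
            have e : ((κ * γ) * Q.normalizerMonoidHom ⟨g, hgN⟩ * (κ * γ)⁻¹) ((κ * γ) x) =
                (κ * γ) (Q.normalizerMonoidHom ⟨g, hgN⟩ x) := by
              simp [MulAut.mul_apply]
            rw [e] at h3
            have e2 : (⟨g * (x : Ω) * g⁻¹, hx⟩ : Q) = Q.normalizerMonoidHom ⟨g, hgN⟩ x :=
              Subtype.ext rfl
            rw [e2]
            exact h3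
          obtain ⟨χ, hχ, hχext⟩ := hrec.2 Q (autHom (κ * γ)) hνF (autHom_range _)
          have hχ₁ := restrict_mem F hNT hχ
          have hχ₁D := IH _ inf_le_left hcardN hχ₁
          have hχ₂D := restrict_mem _ hQN hχ₁D
          rw [mem_autGroup_iff _ hQT]
          have e : autHom (κ * γ) =
              (χ.comp (Subgroup.inclusion hNT)).comp (Subgroup.inclusion hQN) := by
            ext x
            exact (hχext x x.2 (hNT (hQN x.2))).symm
          rw [e]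
          exact hχ₂D
        have e : γ = κ⁻¹ * (κ * γ) := by group
        rw [e]
        exact mul_mem (inv_mem hκD) hνD
      -- (B) maps onto Q
      have hB : ∀ P' : Subgroup Ω, F.IsConj P' Q →
          ∃ ψ : P' →* Ω, ψ ∈ F.Hom P' ∧
            ψ ∈ (decSystem F E (invCond_of_strongInv hT.1 hSI)).Hom P' ∧ ψ.range = Q := by
        intro P' hP'Q
        have hP'T : P' ≤ T := hconjT Q P' hQT (isConj_symm F hP'Q)
        have hcardP' : Nat.card P' = Nat.card P := (card_eq_of_isConj F hP'Q).trans hcardQ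
        obtain ⟨χ, hχ, hχN, hχmap⟩ := Cfsg.Agent.S5079.result p hS F Q P' hFA hrec hP'Q
        obtain ⟨hP'N, hcardN⟩ := hgrow P' hP'T hcardP'
        have hNN : normalizerIn T P' ≤ normalizerIn S P' := inf_le_inf_right _ hTS
        have hχ₁ := restrict_mem F hNN hχ
        have hχ₁D := IH _ inf_le_left hcardN hχ₁
        refine ⟨(χ.comp (Subgroup.inclusion hNN)).comp (Subgroup.inclusion hP'N),
          restrict_mem F hP'N hχ₁, restrict_mem _ hP'N hχ₁D, ?_⟩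
        rw [← hχmap]
        ext y
        constructor
        · rintro ⟨x, rfl⟩
          exact ⟨Subgroup.inclusion hNN (Subgroup.inclusion hP'N x), x.2, rfl⟩
        · rintro ⟨x, hx, rfl⟩
          exact ⟨⟨x, hx⟩, rfl⟩
      -- assemble
      have hPP' : F.IsConj P φ.range := ⟨φ, hφ, rfl⟩
      obtain ⟨ψ₁, hψ₁F, hψ₁E, hr₁⟩ := hB P hPQ
      obtain ⟨ψ₂, hψ₂F, hψ₂E, hr₂⟩ := hB φ.range (isConj_trans F (isConj_symm F hPP') hPQ)
      let e₀ := isoOfHom φ (F.injective_of_mem hφ) rfl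
      let e₁ := isoOfHom ψ₁ (F.injective_of_mem hψ₁F) hr₁
      let e₂ := isoOfHom ψ₂ (F.injective_of_mem hψ₂F) hr₂
      let α : MulAut Q := e₁.symm.trans (e₀.trans e₂)
      have hαF : autHom α ∈ F.Hom Q := by
        have h1 := isoOfHom_symm_mem F hψ₁F hr₁
        have h2 : φ.range.subtype.comp (e₀.toMonoidHom.comp e₁.symm.toMonoidHom) ∈ F.Hom Q :=
          comp_mem' F h1 hφ (fun x => (e₁.symm x).2) (fun x => rfl)
        exact comp_mem' F h2 hψ₂F (fun x => (e₀ (e₁.symm x)).2) (fun x => rfl)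
      have hαE : autHom α ∈ (decSystem F E (invCond_of_strongInv hT.1 hSI)).Hom Q :=
        (mem_autGroup_iff _ hQT α).mp (hA ((mem_autGroup_iff F hQS α).mpr hαF))
      have h3 := isoOfHom_symm_mem (decSystem F E (invCond_of_strongInv hT.1 hSI)) hψ₂E hr₂
      have h4 : (autHom α).comp e₁.toMonoidHom ∈
          (decSystem F E (invCond_of_strongInv hT.1 hSI)).Hom P :=
        comp_mem' _ hψ₁E hαE (fun x => (e₁ x).2) (fun x => rfl)
      refine comp_mem' _ h4 h3 (fun x => (α (e₁ x)).2) (fun x => ?_)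
      show φ x = ((e₂.symm (α (e₁ x)) : φ.range) : Ω)
      have h5 : α (e₁ x) = e₂ (e₀ x) := by
        show e₂ (e₀ (e₁.symm (e₁ x))) = _
        rw [MulEquiv.symm_apply_apply]
      rw [h5, MulEquiv.symm_apply_apply]
      rfl

/-- Invariance implies strong invariance. -/
theorem strongInv_of_isInvariantIn {E : FusionSystem T} {F : FusionSystem S}
    (hinv : E.IsInvariantIn F) : StrongInv E F := by
  obtain ⟨hEF, hT, hI, hFr⟩ := hinv
  intro P Q hPQ hQT φ hφ hφQ ψ hψ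
  obtain ⟨α, hα, ψ₀, hψ₀, hψe⟩ := hFr Q hQT ψ hψ
  have hψ₀T := (E.le_of_mem hψ₀).2
  have hψ₀P := restrict_mem E hPQ hψ₀
  obtain ⟨ι, hι, hιe⟩ := E.inv_mem hψ₀P
  have hιP : ∀ y : (ψ₀.comp (Subgroup.inclusion hPQ)).range, ι y ∈ P := by
    rintro ⟨_, x, rfl⟩
    rw [hιe x]
    exact x.2
  have h1 := E.comp_mem hι hφ hιP
  have h1Q : ∀ y : (ψ₀.comp (Subgroup.inclusion hPQ)).range,
      (φ.comp (ι.codRestrict P hιP)) y ∈ Q := fun y => hφQ _
  have hχ₀ := E.comp_mem h1 hψ₀ h1Q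
  have hP₁T : (ψ₀.comp (Subgroup.inclusion hPQ)).range ≤ T := by
    rintro _ ⟨x, rfl⟩
    exact hψ₀T _
  obtain ⟨P₂, χ, hχ, hmem, hsurj, hχe⟩ := invCond_apply hI hP₁T hχ₀ hα
  have hP₂ : P₂ = (P.subgroupOf Q).map ψ := by
    ext z
    constructor
    · intro hz
      obtain ⟨⟨_, x, rfl⟩, rfl⟩ := hsurj z hz
      refine ⟨Subgroup.inclusion hPQ x, x.2, ?_⟩
      exact hψe (Subgroup.inclusion hPQ x) (hψ₀T _)
    · rintro ⟨x', hx', rfl⟩
      rw [hψe x' (hψ₀T _)]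
      exact hmem ⟨ψ₀ x', ⟨⟨x', hx'⟩, rfl⟩⟩
  refine ⟨χ.comp (Subgroup.inclusion hP₂.symm.le), cast_mem E hP₂.symm hχ, ?_⟩
  intro x hx
  have hy : ((α ⟨ψ₀ (Subgroup.inclusion hPQ x), hψ₀T _⟩ : T) : Ω) ∈ P₂ :=
    hmem ⟨ψ₀ (Subgroup.inclusion hPQ x), ⟨x, rfl⟩⟩
  have h2 := hχe ⟨ψ₀ (Subgroup.inclusion hPQ x), ⟨x, rfl⟩⟩ hy
  have h3 : (χ.comp (Subgroup.inclusion hP₂.symm.le)) ⟨ψ (Subgroup.inclusion hPQ x), hx⟩ =
      χ ⟨((α ⟨ψ₀ (Subgroup.inclusion hPQ x), hψ₀T _⟩ : T) : Ω), hy⟩ := by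
    simp only [MonoidHom.comp_apply]
    congr 1
    apply Subtype.ext
    exact hψe (Subgroup.inclusion hPQ x) (hψ₀T _)
  rw [h3, h2, hψe ⟨φ x, hφQ x⟩ (hψ₀T _)]
  congr 2
  apply Subtype.ext
  show ψ₀ ⟨φ ⟨ι ⟨ψ₀ (Subgroup.inclusion hPQ x), ⟨x, rfl⟩⟩, _⟩, _⟩ = ψ₀ ⟨φ x, hφQ x⟩
  congr 2
  congr 1
  apply Subtype.ext
  exact hιe x

/-- A subsystem over a strongly closed subgroup of a saturated system is invariant exactly when
it is strongly invariant. -/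
theorem isInvariantIn_iff_strongInv [Finite S] (p : ℕ) [Fact p.Prime] (hS : IsPGroup p S)
    (F : FusionSystem S) (hF : F.IsSaturated p) (E : FusionSystem T) (hE : E.IsSubsystemOf F)
    (hT : F.StronglyClosed T) : E.IsInvariantIn F ↔ StrongInv E F := by
  constructor
  · exact strongInv_of_isInvariantIn
  · intro hSI
    refine ⟨hE, hT, invCond_of_strongInv hT.1 hSI, ?_⟩
    intro P hPT φ hφ
    obtain ⟨-, α, hα, φ₀, hφ₀, he⟩ := hom_subset_decSystem p hS F hF hT E hSI _ P hPT rfl hφ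
    exact ⟨α, hα, φ₀, hφ₀, he⟩

end Cfsg.Agent.Helper25
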