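import Mathlib
import Cfsg.Agent.Helper25.FusionInvariant

set_option autoImplicit false

/-! The `Aut_F(S)`-core of a subsystem `E` of `F` over the same group `S`. -/

namespace Cfsg.Agent.Helper25

open Cfsg Cfsg.FusionSystem

variable {Ω : Type*} [Group Ω] {S : Subgroup Ω}

/-- The image of `P` under the automorphism `α` of `S`. -/
def imgAut (α : MulAut S) (P : Subgroup Ω) : Subgroup Ω :=
  (P.subgroupOf S).map (S.subtype.comp α.toMonoidHom)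

theorem apply_mem_imgAut (α : MulAut S) {P : Subgroup Ω} (hPS : P ≤ S) (x : P) :
    ((α ⟨x, hPS x.2⟩ : S) : Ω) ∈ imgAut α P :=
  ⟨⟨x, hPS x.2⟩, x.2, rfl⟩

theorem exists_of_mem_imgAut (α : MulAut S) {P : Subgroup Ω} (hPS : P ≤ S) {y : Ω}
    (hy : y ∈ imgAut α P) : ∃ x : P, ((α ⟨x, hPS x.2⟩ : S) : Ω) = y := by
  obtain ⟨x, hx, rfl⟩ := hy
  exact ⟨⟨x, hx⟩, rfl⟩

theorem imgAut_le (α : MulAut S) (P : Subgroup Ω) : imgAut α P ≤ S := by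
  rintro _ ⟨x, -, rfl⟩
  exact (α x).2

theorem imgAut_mul (α β : MulAut S) {P : Subgroup Ω} (hPS : P ≤ S) :
    imgAut β (imgAut α P) = imgAut (β * α) P := by
  ext y
  constructor
  · intro hy
    obtain ⟨⟨_, hz⟩, rfl⟩ := exists_of_mem_imgAut β (imgAut_le α P) hy
    obtain ⟨x, hx⟩ := exists_of_mem_imgAut α hPS hz
    have : ((β * α) ⟨x, hPS x.2⟩ : S) = β ⟨_, imgAut_le α P hz⟩ := by
      rw [MulAut.mul_apply]
      congr 1
      exact Subtype.ext hx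
    rw [← this]
    exact apply_mem_imgAut (β * α) hPS x
  · intro hy
    obtain ⟨x, rfl⟩ := exists_of_mem_imgAut (β * α) hPS hy
    exact apply_mem_imgAut β (imgAut_le α P) ⟨_, apply_mem_imgAut α hPS x⟩

/-- `χ` is the transport of `φ` along `α`. -/
def Transports (α : MulAut S) {P : Subgroup Ω} (hPS : P ≤ S) (φ : P →* Ω)
    (χ : imgAut α P →* Ω) : Prop :=
  ∀ (x : P) (hφx : φ x ∈ S) (hαx : ((α ⟨x, hPS x.2⟩ : S) : Ω) ∈ imgAut α P),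
    χ ⟨(α ⟨x, hPS x.2⟩ : S), hαx⟩ = ((α ⟨φ x, hφx⟩ : S) : Ω)

/-- The `Aut_F(S)`-core of `E`: the maps of `E` all of whose transports along elements of
`Aut_F(S)` are maps of `E`. -/
def coreSystem (F E : FusionSystem S) : FusionSystem S where
  Hom P := {φ | ∃ hPS : P ≤ S, φ ∈ E.Hom P ∧
    ∀ α ∈ F.autGroup S, ∃ χ ∈ E.Hom (imgAut α P), Transports α hPS φ χ}
  le_of_mem := by
    rintro P φ ⟨-, hφ, -⟩
    exact E.le_of_mem hφ
  injective_of_mem := by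
    rintro P φ ⟨-, hφ, -⟩
    exact E.injective_of_mem hφ
  conj_mem := by
    intro P g hP hg
    refine ⟨hP, E.conj_mem hP hg, fun α _ => ?_⟩
    refine ⟨conjHom (imgAut α P) ((α ⟨g, hg⟩ : S) : Ω),
      E.conj_mem (imgAut_le α P) (α ⟨g, hg⟩).2, ?_⟩
    intro x hφx hαx
    show ((α ⟨g, hg⟩ : S) : Ω) * ((α ⟨x, hP x.2⟩ : S) : Ω) * ((α ⟨g, hg⟩ : S) : Ω)⁻¹ = _
    have e : (⟨conjHom P g x, hφx⟩ : S) = ⟨g, hg⟩ * ⟨x, hP x.2⟩ * ⟨g, hg⟩⁻¹ :=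
      Subtype.ext rfl
    rw [e, map_mul, map_mul, map_inv]
    rfl
  comp_mem := by
    rintro P Q φ ψ ⟨hPS, hφ, hφt⟩ ⟨hQS, hψ, hψt⟩ h
    refine ⟨hPS, E.comp_mem hφ hψ h, fun α hα => ?_⟩
    obtain ⟨χ₁, hχ₁, ht₁⟩ := hφt α hα
    obtain ⟨χ₂, hχ₂, ht₂⟩ := hψt α hα
    have hφS := (E.le_of_mem hφ).2
    have hψS := (E.le_of_mem hψ).2
    have hval : ∀ y : imgAut α P, χ₁ y ∈ imgAut α Q := by
      rintro ⟨y, hy⟩
      obtain ⟨x, rfl⟩ := exists_of_mem_imgAut α hPS hy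
      rw [ht₁ x (hφS x) hy]
      exact apply_mem_imgAut α hQS ⟨φ x, h x⟩
    refine ⟨χ₂.comp (χ₁.codRestrict _ hval), E.comp_mem hχ₁ hχ₂ hval, ?_⟩
    intro x hx hαx
    have h1 := ht₁ x (hφS x) hαx
    have h2 := ht₂ ⟨φ x, h x⟩ (hψS _) (apply_mem_imgAut α hQS ⟨φ x, h x⟩)
    refine Eq.trans ?_ h2
    show χ₂ _ = χ₂ _
    congr 1
    apply Subtype.ext
    exact h1
  inv_mem := by
    rintro P φ ⟨hPS, hφ, hφt⟩
    have hφS := (E.le_of_mem hφ).2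
    obtain ⟨ι, hι, hιe⟩ := E.inv_mem hφ
    have hrS : φ.range ≤ S := by
      rintro _ ⟨x, rfl⟩
      exact hφS x
    refine ⟨ι, ⟨hrS, hι, fun α hα => ?_⟩, hιe⟩
    obtain ⟨χ, hχ, ht⟩ := hφt α hα
    obtain ⟨ι', hι', hι'e⟩ := E.inv_mem hχ
    have hr : χ.range = imgAut α φ.range := by
      ext y
      constructor
      · rintro ⟨⟨z, hz⟩, rfl⟩
        obtain ⟨x, rfl⟩ := exists_of_mem_imgAut α hPS hz
        rw [ht x (hφS x) hz]
        exact apply_mem_imgAut α hrS ⟨φ x, ⟨x, rfl⟩⟩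
      · intro hy
        obtain ⟨⟨_, x, rfl⟩, rfl⟩ := exists_of_mem_imgAut α hrS hy
        exact ⟨⟨_, apply_mem_imgAut α hPS x⟩, ht x (hφS x) _⟩
    refine ⟨ι'.comp (Subgroup.inclusion hr.symm.le), cast_mem E hr.symm hι', ?_⟩
    rintro ⟨_, x, rfl⟩ hιx hαx
    have h1 := hι'e ⟨_, apply_mem_imgAut α hPS x⟩
    have h2 := ht x (hφS x) (apply_mem_imgAut α hPS x)
    simp only [MonoidHom.comp_apply]
    have h3 : ((α ⟨ι ⟨φ x, ⟨x, rfl⟩⟩, hιx⟩ : S) : Ω) = ((α ⟨x, hPS x.2⟩ : S) : Ω) := by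
      congr 2
      apply Subtype.ext
      exact hιe x
    rw [h3, ← h1]
    congr 1
    apply Subtype.ext
    exact h2.symm

theorem coreSystem_isSubsystemOf (F E : FusionSystem S) : (coreSystem F E).IsSubsystemOf E := by
  rintro P φ ⟨-, hφ, -⟩
  exact hφ

/-- The core is invariant under `Aut_F(S)`. -/
theorem coreSystem_invCond (F E : FusionSystem S) : InvCond (coreSystem F E) F := by
  intro P hPS φ hφ' α hα
  obtain ⟨hPS', hφ, hφt⟩ := hφ'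
  obtain ⟨χ, hχ, ht⟩ := hφt α hα
  have hφS := (E.le_of_mem hφ).2
  refine ⟨χ, ⟨imgAut_le α P, hχ, fun β hβ => ?_⟩, ht⟩
  obtain ⟨χ', hχ', ht'⟩ := hφt (β * α) (mul_mem hβ hα)
  have he := imgAut_mul α β hPS
  refine ⟨χ'.comp (Subgroup.inclusion he.le), cast_mem E he hχ', ?_⟩
  rintro ⟨y, hy⟩ hχy hβy
  obtain ⟨x, rfl⟩ := exists_of_mem_imgAut α hPS hy
  have h1 := ht x (hφS x) hy
  have h2 := ht' x (hφS x) (apply_mem_imgAut (β * α) hPS x)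
  simp only [MonoidHom.comp_apply]
  have h3 : ((β ⟨χ ⟨_, hy⟩, hχy⟩ : S) : Ω) = (((β * α) ⟨φ x, hφS x⟩ : S) : Ω) := by
    rw [MulAut.mul_apply]
    congr 2
    apply Subtype.ext
    exact h1
  refine (Eq.trans ?_ h2).trans h3.symm
  show χ' _ = χ' _
  congr 1

end Cfsg.Agent.Helper25
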