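import Mathlib
import Cfsg.Agent.Helper25.FusionCore
import Cfsg.Agent.Helper25.FusionAlperin3
import Cfsg.Agent.Helper10.SylowSub

set_option autoImplicit false

/-! Subsystems containing `O^{p'}(Aut_F(P))` for all centric `P` (towards index prime to `p`). -/

namespace Cfsg.Agent.Helper25

open Cfsg Cfsg.FusionSystem

variable {Ω : Type*} [Group Ω] {S : Subgroup Ω}

/-- The subgroup of `Aut(P)` generated by the elements of `Aut_F(P)` of `p`-power order. -/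
def pGenAut (F : FusionSystem S) (p : ℕ) (P : Subgroup Ω) : Subgroup (MulAut P) :=
  (Subgroup.closure {α : ↥(F.autGroup P) | ∃ k : ℕ, orderOf α = p ^ k}).map (F.autGroup P).subtype

theorem pGenAut_le_iff (F : FusionSystem S) (p : ℕ) (P : Subgroup Ω) (X : Subgroup (MulAut P)) :
    pGenAut F p P ≤ X ↔
      ∀ γ ∈ F.autGroup P, (∃ k : ℕ, orderOf γ = p ^ k) → γ ∈ X := by
  unfold pGenAut
  rw [Subgroup.map_le_iff_le_comap, Subgroup.closure_le]
  constructor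
  · intro h γ hγ ⟨k, hk⟩
    have : (⟨γ, hγ⟩ : F.autGroup P) ∈ X.comap (F.autGroup P).subtype :=
      h ⟨k, by rw [Subgroup.orderOf_mk]; exact hk⟩
    exact this
  · rintro h ⟨γ, hγ⟩ ⟨k, hk⟩
    rw [Subgroup.orderOf_mk] at hk
    exact h γ hγ ⟨k, hk⟩

theorem mem_pGenAut (F : FusionSystem S) (p : ℕ) {P : Subgroup Ω} {γ : MulAut P}
    (hγ : γ ∈ F.autGroup P) {k : ℕ} (hk : orderOf γ = p ^ k) : γ ∈ pGenAut F p P :=
  ⟨⟨γ, hγ⟩, Subgroup.subset_closure ⟨k, by rw [Subgroup.orderOf_mk]; exact hk⟩, rfl⟩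

theorem pGenAut_le_autGroup (F : FusionSystem S) (p : ℕ) (P : Subgroup Ω) :
    pGenAut F p P ≤ F.autGroup P := by
  rw [pGenAut_le_iff]
  intro γ hγ _
  exact hγ

/-- `pGenAut` is normalized by `Aut_F(P)`. -/
theorem pGenAut_conj_mem (F : FusionSystem S) (p : ℕ) {P : Subgroup Ω} {a k : MulAut P}
    (ha : a ∈ F.autGroup P) (hk : k ∈ pGenAut F p P) : a * k * a⁻¹ ∈ pGenAut F p P := by
  have key : pGenAut F p P ≤ (pGenAut F p P).comap (MulAut.conj a).toMonoidHom := by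
    rw [pGenAut_le_iff]
    intro γ hγ ⟨j, hj⟩
    show a * γ * a⁻¹ ∈ pGenAut F p P
    refine mem_pGenAut F p (mul_mem (mul_mem ha hγ) (inv_mem ha)) (k := j) ?_
    have : a * γ * a⁻¹ = (MulAut.conj a) γ := rfl
    rw [this, MulEquiv.orderOf_eq]
    exact hj
  exact key hk

/-- The restriction of an automorphism of `S` to `P`, as an isomorphism onto its image. -/
theorem restrictAut_mem (F : FusionSystem S) {α : MulAut S} (hα : α ∈ F.autGroup S)
    {P : Subgroup Ω} (hPS : P ≤ S) :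
    (autHom α).comp (Subgroup.inclusion hPS) ∈ F.Hom P ∧
      ((autHom α).comp (Subgroup.inclusion hPS)).range = imgAut α P := by
  refine ⟨restrict_mem F hPS ((mem_autGroup_iff F le_rfl α).mp hα), ?_⟩
  ext y
  constructor
  · rintro ⟨x, rfl⟩
    exact apply_mem_imgAut α hPS x
  · intro hy
    obtain ⟨x, rfl⟩ := exists_of_mem_imgAut α hPS hy
    exact ⟨x, rfl⟩

/-- The core of `E` still contains `O^{p'}(Aut_F(P))` for centric `P`. -/
theorem pGenAut_le_core (p : ℕ) (F E : FusionSystem S)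
    (h : ∀ P : Subgroup Ω, F.IsCentric P → pGenAut F p P ≤ E.autGroup P)
    {P : Subgroup Ω} (hPc : F.IsCentric P) : pGenAut F p P ≤ (coreSystem F E).autGroup P := by
  have hPS := hPc.1
  rw [pGenAut_le_iff]
  intro γ hγA ⟨k, hk⟩
  rw [mem_autGroup_iff _ hPS]
  refine ⟨hPS, (mem_autGroup_iff E hPS γ).mp (h P hPc (mem_pGenAut F p hγA hk)), fun α hα => ?_⟩
  obtain ⟨hρ, hr⟩ := restrictAut_mem F hα hPS
  set e := isoOfHom _ (F.injective_of_mem hρ) hr with he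
  have hγ' : MulAut.congr e γ ∈ F.autGroup (imgAut α P) := congr_mem_autGroup F hρ hr hγA
  have hord : orderOf (MulAut.congr e γ) = p ^ k := by
    rw [MulEquiv.orderOf_eq]
    exact hk
  have hcen : F.IsCentric (imgAut α P) :=
    ⟨imgAut_le α P, fun Q hQ => hPc.2 Q (isConj_trans F ⟨_, hρ, hr⟩ hQ)⟩
  have hE' := h _ hcen (mem_pGenAut F p hγ' hord)
  refine ⟨autHom (MulAut.congr e γ), (mem_autGroup_iff E (imgAut_le α P) _).mp hE', ?_⟩
  intro x hφx hαx
  have hex : e x = ⟨((α ⟨x, hPS x.2⟩ : S) : Ω), hαx⟩ := Subtype.ext rfl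
  show ((e (γ (e.symm ⟨_, hαx⟩)) : imgAut α P) : Ω) = _
  rw [← hex, MulEquiv.symm_apply_apply]
  rfl

/-- Elements of `Aut_S(P)` lie in `pGenAut`. -/
theorem autInducedBy_le_pGenAut (p : ℕ) [hp : Fact p.Prime] (hS : IsPGroup p S) (F : FusionSystem S)
    {P : Subgroup Ω} (hPS : P ≤ S) : autInducedBy S P ≤ pGenAut F p P := by
  intro β hβS
  obtain ⟨j, hj⟩ := (autInducedBy_isPGroup hS P) ⟨β, hβS⟩
  have h1 : β ^ (p ^ j) = 1 := by
    have := congrArg Subtype.val hj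
    simpa using this
  obtain ⟨i, -, hi⟩ := (Nat.dvd_prime_pow hp.out).1 (orderOf_dvd_of_pow_eq_one h1)
  exact mem_pGenAut F p (autInducedBy_le_autGroup F hPS hβS) hi

/-- Frattini decomposition: every map of `F` is an element of `Aut_F(S)` composed with a map of
the core of `E`. -/
theorem le_decSystem_core [Finite S] (p : ℕ) [Fact p.Prime] (hS : IsPGroup p S)
    (F : FusionSystem S) (hF : F.IsSaturated p) (E : FusionSystem S)
    (h : ∀ P : Subgroup Ω, F.IsCentric P → pGenAut F p P ≤ E.autGroup P) :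
    F ≤ decSystem F (coreSystem F E) (coreSystem_invCond F E) := by
  have htop : ∀ γ ∈ F.autGroup S,
      γ ∈ (decSystem F (coreSystem F E) (coreSystem_invCond F E)).autGroup S := by
    intro γ hγ
    rw [mem_autGroup_iff _ le_rfl]
    exact ⟨le_rfl, γ, hγ, S.subtype, subtype_mem (coreSystem F E) le_rfl, fun x hx => rfl⟩
  apply alperin_le_ind p hS F hF
  intro P hP IH
  by_cases hPeq : P = S
  · rw [hPeq]
    exact htop
  · obtain ⟨hPc, hFN, -⟩ := hP.resolve_left hPeq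
    have hPS := hPc.1
    obtain ⟨hFC, hFA⟩ := Cfsg.Agent.S5077.sylow_axiom p hS F hF P hFN
    have hrec := Cfsg.Agent.S5077.extension_axiom p hS F hF P hFC
    have hPN : P ≤ normalizerIn S P := fun x hx => ⟨hPS hx, Subgroup.le_normalizer hx⟩
    obtain ⟨g, hgN, hgP⟩ := exists_mem_normalizerIn_not_mem p hS hPS hPeq
    have hlt : P < normalizerIn S P := lt_of_le_of_ne hPN (fun h => hgP (h ▸ hgN))
    have hcardN : Nat.card P < Nat.card (normalizerIn S P) := card_lt_of_lt inf_le_left hlt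
    intro γ hγ
    obtain ⟨κ, hκA, hκK, hκν⟩ := exists_mul_conj_mem p F hPS hFA (pGenAut F p P)
      (fun a ha k hk _ => pGenAut_conj_mem F p ha hk) γ hγ
    have hκD : κ ∈ (decSystem F (coreSystem F E) (coreSystem_invCond F E)).autGroup P := by
      have h1 := pGenAut_le_core p F E h hPc hκK
      rw [mem_autGroup_iff _ hPS] at h1 ⊢
      exact ⟨hPS, 1, Subgroup.one_mem _, autHom κ, h1, fun x hx => rfl⟩
    have hνA : κ * γ ∈ F.autGroup P := mul_mem hκA hγ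
    have hνD : κ * γ ∈ (decSystem F (coreSystem F E) (coreSystem_invCond F E)).autGroup P := by
      have hνF : autHom (κ * γ) ∈ F.Hom P := (mem_autGroup_iff F hPS _).mp hνA
      have hNT : normalizerIn S P ≤ extender S P (autHom (κ * γ)) := by
        rintro g ⟨hgS, hgN⟩
        apply Subgroup.subset_closure
        refine ⟨hgS, hgN, ?_⟩
        have hβS : P.normalizerMonoidHom ⟨g, hgN⟩ ∈ autInducedBy S P :=
          (mem_autInducedBy_iff S P _).mpr ⟨g, hgS, fun x => rfl⟩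
        have hβK := autInducedBy_le_pGenAut p hS F hPS hβS
        obtain ⟨h', hhS, hh⟩ := (mem_autInducedBy_iff S P _).mp (hκν _ hβS hβK)
        refine ⟨h', hhS, fun x hx => ?_⟩
        have h3 := hh ((κ * γ) x)
        have e : ((κ * γ) * P.normalizerMonoidHom ⟨g, hgN⟩ * (κ * γ)⁻¹) ((κ * γ) x) =
            (κ * γ) (P.normalizerMonoidHom ⟨g, hgN⟩ x) := by
          simp [MulAut.mul_apply]
        rw [e] at h3
        have e2 : (⟨g * (x : Ω) * g⁻¹, hx⟩ : P) = P.normalizerMonoidHom ⟨g, hgN⟩ x :=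
          Subtype.ext rfl
        rw [e2]
        exact h3
      obtain ⟨χ, hχ, hχext⟩ := hrec.2 P (autHom (κ * γ)) hνF (autHom_range _)
      have hχ₁ := restrict_mem F hNT hχ
      have hχ₁D := IH _ inf_le_left hcardN hχ₁
      have hχ₂D := restrict_mem _ hPN hχ₁D
      rw [mem_autGroup_iff _ hPS]
      have e : autHom (κ * γ) =
          (χ.comp (Subgroup.inclusion hNT)).comp (Subgroup.inclusion hPN) := by
        ext x
        exact (hχext x x.2 (hNT (hPN x.2))).symm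
      rw [e]
      exact hχ₂D
    have e : γ = κ⁻¹ * (κ * γ) := by group
    rw [e]
    exact mul_mem (inv_mem hκD) hνD

/-- Frattini decomposition for `E` itself. -/
theorem exists_aut_comp [Finite S] (p : ℕ) [Fact p.Prime] (hS : IsPGroup p S)
    (F : FusionSystem S) (hF : F.IsSaturated p) (E : FusionSystem S)
    (h : ∀ P : Subgroup Ω, F.IsCentric P → pGenAut F p P ≤ E.autGroup P)
    {P : Subgroup Ω} {φ : P →* Ω} (hφ : φ ∈ F.Hom P) :
    ∃ α ∈ F.autGroup S, ∃ φ₀ ∈ E.Hom P, ∀ (x : P) (hx : φ₀ x ∈ S),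
      φ x = ((α ⟨φ₀ x, hx⟩ : S) : Ω) := by
  obtain ⟨-, α, hα, φ₀, hφ₀, he⟩ := le_decSystem_core p hS F hF E h P hφ
  exact ⟨α, hα, φ₀, coreSystem_isSubsystemOf F E P hφ₀, he⟩

/-- An automorphism of `p`-power order in a saturated system can be moved, by a map of the system,
to an automorphism induced by an element of `S`. -/
theorem exists_conj_into_autS [Finite S] (p : ℕ) [hp : Fact p.Prime]
    (F : FusionSystem S) (hF : F.IsSaturated p) {P : Subgroup Ω} (hPS : P ≤ S) {β : MulAut P}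
    (hβ : β ∈ F.autGroup P) {k : ℕ} (hk : orderOf β = p ^ k) :
    ∃ χ ∈ F.Hom P, ∃ s ∈ S, ∀ x : P, χ (β x) = s * χ x * s⁻¹ := by
  obtain ⟨Q, ⟨ψ, hψ, hr⟩, hFA, -⟩ := hF P hPS
  obtain ⟨hQS, R, hR⟩ := hFA
  have hfinQ : Finite Q := finite_of_le hQS
  have hfinA : Finite (MulAut Q) :=
    Finite.of_injective (fun e : MulAut Q => (e : Q → Q)) (fun a b h => DFunLike.coe_injective h)
  set e := isoOfHom ψ (F.injective_of_mem hψ) hr with he
  have hβ' : MulAut.congr e β ∈ F.autGroup Q := congr_mem_autGroup F hψ hr hβ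
  have hord : orderOf (⟨MulAut.congr e β, hβ'⟩ : F.autGroup Q) = p ^ k := by
    rw [Subgroup.orderOf_mk, MulEquiv.orderOf_eq]
    exact hk
  have hX : IsPGroup p (Subgroup.zpowers (⟨MulAut.congr e β, hβ'⟩ : F.autGroup Q)) := by
    apply IsPGroup.of_card (n := k)
    rw [Nat.card_zpowers, hord]
  obtain ⟨c, -, hc⟩ := Cfsg.Agent.Helper10.exists_conj_le_sylow_of_le R ⊤ _ le_top hX le_top
  have h1 := hc _ (Subgroup.mem_zpowers _)
  rw [hR, Subgroup.mem_subgroupOf] at h1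
  obtain ⟨s, hsS, hs⟩ := (mem_autInducedBy_iff S Q _).mp h1
  have hcF : autHom (c : MulAut Q) ∈ F.Hom Q := (mem_autGroup_iff F hQS _).mp c.2
  refine ⟨(autHom (c : MulAut Q)).comp (ψ.codRestrict Q (fun x => hr ▸ ⟨x, rfl⟩)),
    F.comp_mem hψ hcF _, s, hsS, fun x => ?_⟩
  have h2 := hs ((c : MulAut Q) (e x))
  have e1 : ((c * ⟨MulAut.congr e β, hβ'⟩ * c⁻¹ : F.autGroup Q) : MulAut Q)
      ((c : MulAut Q) (e x)) = (c : MulAut Q) (e (β x)) := by
    show (c : MulAut Q) ((MulAut.congr e β) ((c : MulAut Q)⁻¹ ((c : MulAut Q) (e x)))) = _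
    rw [MulAut.inv_apply_self]
    show (c : MulAut Q) (e (β (e.symm (e x)))) = _
    rw [MulEquiv.symm_apply_apply]
  rw [e1] at h2
  exact h2

/-- Part (a): `E` contains `O^{p'}(Aut_F(P))` for every subgroup `P` of `S`. -/
theorem pGenAut_le_of_centric [Finite S] (p : ℕ) [Fact p.Prime] (hS : IsPGroup p S)
    (F : FusionSystem S) (hF : F.IsSaturated p) (E : FusionSystem S)
    (h : ∀ P : Subgroup Ω, F.IsCentric P → pGenAut F p P ≤ E.autGroup P)
    {P : Subgroup Ω} (hPS : P ≤ S) : pGenAut F p P ≤ E.autGroup P := by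
  rw [pGenAut_le_iff]
  intro β hβ ⟨k, hk⟩
  obtain ⟨χ, hχ, s, hsS, hs⟩ := exists_conj_into_autS p F hF hPS hβ hk
  obtain ⟨α, hα, χ₀, hχ₀, he⟩ := exists_aut_comp p hS F hF E h hχ
  have hχ₀S := (E.le_of_mem hχ₀).2
  -- the element `t = α⁻¹ s`
  set t : S := α⁻¹ ⟨s, hsS⟩ with ht
  have hkey : ∀ x : P, χ₀ (β x) = (t : Ω) * χ₀ x * (t : Ω)⁻¹ := by
    intro x
    have h1 := hs x
    rw [he (β x) (hχ₀S _), he x (hχ₀S _)] at h1
    have h2 : α ⟨χ₀ (β x), hχ₀S _⟩ = ⟨s, hsS⟩ * α ⟨χ₀ x, hχ₀S _⟩ * ⟨s, hsS⟩⁻¹ :=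
      Subtype.ext h1
    have h3 : (⟨χ₀ (β x), hχ₀S _⟩ : S) = t * ⟨χ₀ x, hχ₀S _⟩ * t⁻¹ := by
      have := congrArg (fun y => α⁻¹ y) h2
      simp only [MulAut.inv_apply_self, map_mul, map_inv] at this
      exact this
    exact congrArg Subtype.val h3
  -- assemble `β = χ₀⁻¹ ∘ c_t ∘ χ₀`
  have hrS : χ₀.range ≤ S := by
    rintro _ ⟨x, rfl⟩
    exact hχ₀S x
  have hc : conjHom χ₀.range (t : Ω) ∈ E.Hom χ₀.range := E.conj_mem hrS t.2
  have hcr : ∀ y : χ₀.range, conjHom χ₀.range (t : Ω) y ∈ χ₀.range := by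
    rintro ⟨_, x, rfl⟩
    exact ⟨β x, hkey x⟩
  have h1 : (conjHom χ₀.range (t : Ω)).comp (χ₀.codRestrict χ₀.range (fun x => ⟨x, rfl⟩)) ∈
      E.Hom P := E.comp_mem hχ₀ hc _
  have h2 := isoOfHom_symm_mem E hχ₀ rfl
  rw [mem_autGroup_iff E hPS]
  refine comp_mem' E h1 h2 (fun x => hcr _) (fun x => ?_)
  show ((β x : P) : Ω) = (((isoOfHom χ₀ (E.injective_of_mem hχ₀) rfl).symm
    ⟨conjHom χ₀.range (t : Ω) ⟨χ₀ x, ⟨x, rfl⟩⟩, hcr _⟩ : P) : Ω)
  have h3 : (⟨conjHom χ₀.range (t : Ω) ⟨χ₀ x, ⟨x, rfl⟩⟩, hcr _⟩ : χ₀.range) =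
      isoOfHom χ₀ (E.injective_of_mem hχ₀) rfl (β x) := Subtype.ext (hkey x).symm
  rw [h3, MulEquiv.symm_apply_apply]

/-- Part (c): the centric subgroups of `E` and of `F` coincide. -/
theorem isCentric_iff_of_centric [Finite S] (p : ℕ) [Fact p.Prime] (hS : IsPGroup p S)
    (F : FusionSystem S) (hF : F.IsSaturated p) (E : FusionSystem S) (hEF : E.IsSubsystemOf F)
    (h : ∀ P : Subgroup Ω, F.IsCentric P → pGenAut F p P ≤ E.autGroup P)
    (P : Subgroup Ω) : E.IsCentric P ↔ F.IsCentric P := by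
  constructor
  · rintro ⟨hPS, hc⟩
    refine ⟨hPS, ?_⟩
    rintro Q ⟨φ, hφ, rfl⟩
    obtain ⟨α, hα, φ₀, hφ₀, he⟩ := exists_aut_comp p hS F hF E h hφ
    have hφ₀S := (E.le_of_mem hφ₀).2
    have h1 := hc φ₀.range ⟨φ₀, hφ₀, rfl⟩
    intro c hc₀
    have hc' : c ∈ S ∧ c ∈ Subgroup.centralizer (φ.range : Set Ω) := Subgroup.mem_inf.mp hc₀
    have ht : ((α⁻¹ ⟨c, hc'.1⟩ : S) : Ω) ∈ centralizerIn S φ₀.range := by
      refine Subgroup.mem_inf.mpr ⟨(α⁻¹ _).2, ?_⟩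
      rw [Subgroup.mem_centralizer_iff]
      rintro _ ⟨x, rfl⟩
      have h2 : φ x * c = c * φ x := (Subgroup.mem_centralizer_iff.mp hc'.2) (φ x) ⟨x, rfl⟩
      rw [he x (hφ₀S x)] at h2
      have h3 : α ⟨φ₀ x, hφ₀S x⟩ * ⟨c, hc'.1⟩ = ⟨c, hc'.1⟩ * α ⟨φ₀ x, hφ₀S x⟩ := Subtype.ext h2
      have h4 := congrArg (fun y => α⁻¹ y) h3
      simp only [map_mul, MulAut.inv_apply_self] at h4
      exact congrArg Subtype.val h4
    obtain ⟨x, hx⟩ := h1 ht
    refine ⟨x, ?_⟩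
    rw [he x (hφ₀S x)]
    have h5 : (⟨φ₀ x, hφ₀S x⟩ : S) = α⁻¹ ⟨c, hc'.1⟩ := Subtype.ext hx
    rw [h5, MulAut.apply_inv_self]
  · rintro ⟨hPS, hc⟩
    refine ⟨hPS, ?_⟩
    rintro Q ⟨φ, hφ, hr⟩
    exact hc Q ⟨φ, hEF _ hφ, hr⟩

end Cfsg.Agent.Helper25
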