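import Mathlib
import Cfsg.Agent.Helper25.FusionPrimeIndex
import Cfsg.Agent.Helper25.FusionCentricExt
import Cfsg.Agent.S5079
import Cfsg.Agent.S5076

set_option autoImplicit false

/-! A criterion for a normal subsystem over the same group to be the whole system, and a
simplicity criterion for fusion systems of groups. -/

namespace Cfsg.Agent.Helper25

open Cfsg Cfsg.FusionSystem

section general

variable {Ω : Type*} [Group Ω] {S : Subgroup Ω}

/-- A subsystem satisfying the Frattini condition contains `O^{p'}(Aut_F(P))` for all `P`. -/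
theorem pGenAut_le_of_frattini [Finite S] (p : ℕ) [Fact p.Prime]
    (F : FusionSystem S) (hF : F.IsSaturated p) (E : FusionSystem S)
    (hfr : ∀ (P : Subgroup Ω) (φ : P →* Ω), φ ∈ F.Hom P → ∃ α ∈ F.autGroup S, ∃ φ₀ ∈ E.Hom P,
      ∀ (x : P) (hx : φ₀ x ∈ S), φ x = ((α ⟨φ₀ x, hx⟩ : S) : Ω))
    {P : Subgroup Ω} (hPS : P ≤ S) : pGenAut F p P ≤ E.autGroup P := by
  rw [pGenAut_le_iff]
  intro β hβ ⟨k, hk⟩
  obtain ⟨χ, hχ, s, hsS, hs⟩ := exists_conj_into_autS p F hF hPS hβ hk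
  obtain ⟨α, hα, χ₀, hχ₀, he⟩ := hfr P χ hχ
  have hχ₀S := (E.le_of_mem hχ₀).2
  set t : S := α⁻¹ ⟨s, hsS⟩ with ht
  have hkey : ∀ x : P, χ₀ (β x) = (t : Ω) * χ₀ x * (t : Ω)⁻¹ := by
    intro x
    have h1 := hs x
    rw [he (β x) (hχ₀S _), he x (hχ₀S _)] at h1
    have h2 : α ⟨χ₀ (β x), hχ₀S _⟩ = ⟨s, hsS⟩ * α ⟨χ₀ x, hχ₀S _⟩ * ⟨s, hsS⟩⁻¹ :=
      Subtype.ext h1
    have h3 : (⟨χ₀ (β x), hχ₀S _⟩ : S) = t * ⟨χ₀ x, hχ₀S _⟩ * t⁻¹ := by
      have := congrArg (fun y => α⁻¹ y) h2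
      simp only [MulAut.inv_apply_self, map_mul, map_inv] at this
      exact this
    exact congrArg Subtype.val h3
  have hrS : χ₀.range ≤ S := by
    rintro _ ⟨x, rfl⟩
    exact hχ₀S x
  have hc : conjHom χ₀.range (t : Ω) ∈ E.Hom χ₀.range := E.conj_mem hrS t.2
  have hcr : ∀ y : χ₀.range, conjHom χ₀.range (t : Ω) y ∈ χ₀.range := by
    rintro ⟨_, x, rfl⟩
    exact ⟨β x, hkey x⟩
  have h1 : (conjHom χ₀.range (t : Ω)).comp (χ₀.codRestrict χ₀.range (fun x => ⟨x, rfl⟩)) ∈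
      E.Hom P := E.comp_mem hχ₀ hc _
  have h2 := isoOfHom_symm_mem E hχ₀ rfl
  rw [mem_autGroup_iff E hPS]
  refine comp_mem' E h1 h2 (fun x => hcr _) (fun x => ?_)
  show ((β x : P) : Ω) = (((isoOfHom χ₀ (E.injective_of_mem hχ₀) rfl).symm
    ⟨conjHom χ₀.range (t : Ω) ⟨χ₀ x, ⟨x, rfl⟩⟩, hcr _⟩ : P) : Ω)
  have h3 : (⟨conjHom χ₀.range (t : Ω) ⟨χ₀ x, ⟨x, rfl⟩⟩, hcr _⟩ : χ₀.range) =
      isoOfHom χ₀ (E.injective_of_mem hχ₀) rfl (β x) := Subtype.ext (hkey x).symm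
  rw [h3, MulEquiv.symm_apply_apply]

/-- A map of `F` on `Q` normalizing the centric subgroup `P`, whose restriction to `P` is a map of
the saturated subsystem `E`, is a map of `E`. -/
theorem mem_of_restrict_mem_centric_normal [Finite S] (p : ℕ) [Fact p.Prime] (hS : IsPGroup p S)
    (F : FusionSystem S) (hF : F.IsSaturated p) (E : FusionSystem S) (hEsat : E.IsSaturated p)
    (hEF : E.IsSubsystemOf F) {P Q : Subgroup Ω} (hPQ : P ≤ Q)
    (hQN : Q ≤ Subgroup.normalizer (P : Set Ω)) (hP : F.IsCentric P) (φ : Q →* Ω)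
    (hφ : φ ∈ F.Hom Q) (hφP : φ.comp (Subgroup.inclusion hPQ) ∈ E.Hom P) : φ ∈ E.Hom Q := by
  have hQS : Q ≤ S := (F.le_of_mem hφ).1
  have hφS := (F.le_of_mem hφ).2
  set φ₀ : P →* Ω := φ.comp (Subgroup.inclusion hPQ) with hφ₀
  have hP'S : φ₀.range ≤ S := by
    rintro _ ⟨x, rfl⟩
    exact hφS _
  obtain ⟨P'', hconj, hFA, hrec⟩ := hEsat φ₀.range hP'S
  obtain ⟨χ, hχ, hχN, hχP'⟩ := Cfsg.Agent.S5079.result p hS E P'' φ₀.range hFA hrec hconj
  have hχinj := E.injective_of_mem hχ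
  -- `φ` maps `Q` into `N_S(P')`
  have hconjP' : ∀ x : Q, ∀ h ∈ φ₀.range, φ x * h * (φ x)⁻¹ ∈ φ₀.range := by
    rintro x _ ⟨y, rfl⟩
    have hy : (x : Ω) * (y : Ω) * (x : Ω)⁻¹ ∈ P :=
      (Subgroup.mem_normalizer_iff.mp (hQN x.2) _).mp y.2
    refine ⟨⟨_, hy⟩, ?_⟩
    show φ (Subgroup.inclusion hPQ ⟨_, hy⟩) = φ x * φ (Subgroup.inclusion hPQ y) * (φ x)⁻¹
    rw [← map_inv, ← map_mul, ← map_mul]
    congr 1
  have hφN : ∀ x : Q, φ x ∈ normalizerIn S φ₀.range := by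
    intro x
    refine Subgroup.mem_inf.mpr ⟨hφS x, ?_⟩
    rw [Subgroup.mem_normalizer_iff]
    intro h
    constructor
    · exact hconjP' x h
    · intro hh
      have h1 := hconjP' x⁻¹ _ hh
      rw [map_inv] at h1
      simpa [mul_assoc] using h1
  have hP'N : ∀ y : P, φ₀ y ∈ normalizerIn S φ₀.range := fun y => hφN _
  have hθ : χ.comp (φ₀.codRestrict _ hP'N) ∈ E.Hom P := E.comp_mem hφP hχ hP'N
  set θ : P →* Ω := χ.comp (φ₀.codRestrict _ hP'N) with hθdef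
  have hθr : θ.range = P'' := by
    rw [← hχP']
    ext y
    constructor
    · rintro ⟨x, rfl⟩
      exact ⟨⟨φ₀ x, hP'N x⟩, ⟨x, rfl⟩, rfl⟩
    · rintro ⟨⟨_, hn⟩, ⟨x, rfl⟩, rfl⟩
      exact ⟨x, rfl⟩
  obtain ⟨ψ, hψ, hψe⟩ := hrec.2 P θ hθ hθr
  have hQext : Q ≤ extender S P θ := by
    intro x hx
    apply Subgroup.subset_closure
    refine ⟨hQS hx, hQN hx, χ ⟨φ ⟨x, hx⟩, hφN _⟩, (E.le_of_mem hχ).2 _, fun y hy => ?_⟩
    show χ ⟨φ (Subgroup.inclusion hPQ ⟨x * (y : Ω) * x⁻¹, hy⟩), _⟩ =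
      χ ⟨φ ⟨x, hx⟩, hφN _⟩ * χ ⟨φ (Subgroup.inclusion hPQ y), hP'N y⟩ *
        (χ ⟨φ ⟨x, hx⟩, hφN _⟩)⁻¹
    rw [← map_inv, ← map_mul, ← map_mul]
    congr 1
    apply Subtype.ext
    show φ (Subgroup.inclusion hPQ ⟨x * (y : Ω) * x⁻¹, hy⟩) =
      φ ⟨x, hx⟩ * φ (Subgroup.inclusion hPQ y) * (φ ⟨x, hx⟩)⁻¹
    rw [← map_inv, ← map_mul, ← map_mul]
    congr 1
  have hψQ : ψ.comp (Subgroup.inclusion hQext) ∈ E.Hom Q := restrict_mem E hQext hψ
  have hΧF : χ.comp (φ.codRestrict _ hφN) ∈ F.Hom Q := F.comp_mem hφ (hEF _ hχ) hφN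
  have hagree : ∀ x : Q, (x : Ω) ∈ P →
      (ψ.comp (Subgroup.inclusion hQext)) x = (χ.comp (φ.codRestrict _ hφN)) x := by
    intro x hx
    show ψ ⟨x, hQext x.2⟩ = χ ⟨φ x, hφN x⟩
    rw [hψe x hx (hQext x.2)]
    show χ ⟨φ (Subgroup.inclusion hPQ ⟨x, hx⟩), _⟩ = χ ⟨φ x, hφN x⟩
    congr 1
  obtain ⟨z, hzP, -, hz⟩ := agree_on_centric_normal p hS F hF hPQ hQN hP _ _ (hEF _ hψQ) hΧF hagree
  -- `Χ = ψ ∘ c_z` is a map of `E`
  have hcz : conjHom Q (z : Ω) ∈ E.Hom Q := E.conj_mem hQS (hQS z.2)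
  have hczQ : ∀ y : Q, conjHom Q (z : Ω) y ∈ Q := fun y => (z * y * z⁻¹).2
  have hΧE : χ.comp (φ.codRestrict _ hφN) ∈ E.Hom Q := by
    refine comp_mem' E hcz hψQ hczQ (fun y => ?_)
    rw [hz y]
    rfl
  -- `φ = χ⁻¹ ∘ Χ`
  have hinv := isoOfHom_symm_mem E hχ rfl
  have hΧr : ∀ x : Q, (χ.comp (φ.codRestrict _ hφN)) x ∈ χ.range := fun x => ⟨_, rfl⟩
  refine comp_mem' E hΧE hinv hΧr (fun x => ?_)
  show φ x = (((isoOfHom χ hχinj rfl).symm ⟨_, hΧr x⟩ : normalizerIn S φ₀.range) : Ω)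
  have h3 : (⟨_, hΧr x⟩ : χ.range) = isoOfHom χ hχinj rfl ⟨φ x, hφN x⟩ := Subtype.ext rfl
  rw [h3, MulEquiv.symm_apply_apply]

/-- A map of `F` on `Q` whose restriction to a centric subgroup `P` is a map of the saturated
subsystem `E` is a map of `E`. -/
theorem mem_of_restrict_mem_centric [Finite S] (p : ℕ) [Fact p.Prime] (hS : IsPGroup p S)
    (F : FusionSystem S) (hF : F.IsSaturated p) (E : FusionSystem S) (hEsat : E.IsSaturated p)
    (hEF : E.IsSubsystemOf F) :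
    ∀ n : ℕ, ∀ (P Q : Subgroup Ω) (hPQ : P ≤ Q), F.IsCentric P → ∀ φ : Q →* Ω, φ ∈ F.Hom Q →
      φ.comp (Subgroup.inclusion hPQ) ∈ E.Hom P → Nat.card Q - Nat.card P = n →
      φ ∈ E.Hom Q := by
  intro n
  induction n using Nat.strong_induction_on with
  | _ n ih =>
    intro P Q hPQ hP φ hφ hφP hn
    have hQS : Q ≤ S := (F.le_of_mem hφ).1
    have hfinQ : Finite Q := finite_of_le hQS
    have hQp : IsPGroup p Q := isPGroup_of_le hS hQS
    by_cases hPeq : P = Q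
    · subst hPeq
      exact hφP
    · obtain ⟨g, hgN, hgP⟩ := exists_mem_normalizerIn_not_mem (S := Q) p hQp hPQ hPeq
      have hPN : P ≤ normalizerIn Q P := fun x hx => ⟨hPQ hx, Subgroup.le_normalizer hx⟩
      have hNQ : normalizerIn Q P ≤ Q := inf_le_left
      have hNS : normalizerIn Q P ≤ S := hNQ.trans hQS
      have hlt : P < normalizerIn Q P := lt_of_le_of_ne hPN (fun h => hgP (h ▸ hgN))
      have hcardlt : Nat.card P < Nat.card (normalizerIn Q P) := card_lt_of_lt hNS hlt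
      have hcardle : Nat.card (normalizerIn Q P) ≤ Nat.card Q :=
        Nat.card_le_card_of_injective (Subgroup.inclusion hNQ) (Subgroup.inclusion_injective _)
      have hφN : φ.comp (Subgroup.inclusion hNQ) ∈ F.Hom (normalizerIn Q P) :=
        restrict_mem F hNQ hφ
      have hstep : φ.comp (Subgroup.inclusion hNQ) ∈ E.Hom (normalizerIn Q P) :=
        mem_of_restrict_mem_centric_normal p hS F hF E hEsat hEF hPN inf_le_right hP _ hφN hφP
      exact ih (Nat.card Q - Nat.card (normalizerIn Q P)) (by omega) (normalizerIn Q P) Q hNQ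
        (isCentric_of_le F hP hPN hNS) φ hφ hstep rfl

end general

section normal

variable {Ω : Type*} [Group Ω] {S : Subgroup Ω}

/-- An automorphism of `S` in `F` whose restriction to a centric subgroup `R` lies in
`O^{p'}(Aut_F(R))` is an automorphism of every normal subsystem over `S`. -/
theorem aut_mem_of_restrict_pGen [Finite S] (p : ℕ) [Fact p.Prime] (hS : IsPGroup p S)
    (F : FusionSystem S) (E : FusionSystem S) (hE : E.IsNormalIn F p) {R : Subgroup Ω}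
    (hR : F.IsCentric R) {α : MulAut S} (hα : α ∈ F.autGroup S) {β : MulAut R}
    (hβ : β ∈ pGenAut F p R) (hαβ : ∀ x : R, ((α ⟨x, hR.1 x.2⟩ : S) : Ω) = β x) :
    α ∈ E.autGroup S := by
  obtain ⟨⟨hEsat, hF, hEF, -, -, hfr⟩, -⟩ := hE
  have hfr' : ∀ (P : Subgroup Ω) (φ : P →* Ω), φ ∈ F.Hom P → ∃ α ∈ F.autGroup S,
      ∃ φ₀ ∈ E.Hom P, ∀ (x : P) (hx : φ₀ x ∈ S), φ x = ((α ⟨φ₀ x, hx⟩ : S) : Ω) :=
    fun P φ hφ => hfr P (F.le_of_mem hφ).1 φ hφ
  have hβE := pGenAut_le_of_frattini p F hF E hfr' hR.1 hβ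
  rw [mem_autGroup_iff E hR.1] at hβE
  rw [mem_autGroup_iff E le_rfl]
  have hαF : autHom α ∈ F.Hom S := (mem_autGroup_iff F le_rfl α).mp hα
  apply mem_of_restrict_mem_centric p hS F hF E hEsat hEF _ R S hR.1 hR (autHom α) hαF ?_ rfl
  have e : (autHom α).comp (Subgroup.inclusion hR.1) = autHom β := by
    ext x
    exact hαβ x
  rw [e]
  exact hβE

/-- A normal subsystem over `S` containing `Aut_F(S)` is the whole system. -/
theorem hom_subset_of_normal_of_autGroup_le (p : ℕ) (F : FusionSystem S) (E : FusionSystem S)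
    (hE : E.IsNormalIn F p) (hAut : F.autGroup S ≤ E.autGroup S) (P : Subgroup Ω) :
    E.Hom P = F.Hom P := by
  obtain ⟨⟨-, -, hEF, -, -, hfr⟩, -⟩ := hE
  apply Set.Subset.antisymm (hEF P)
  intro φ hφ
  obtain ⟨α, hα, φ₀, hφ₀, he⟩ := hfr P (F.le_of_mem hφ).1 φ hφ
  have hαE : autHom α ∈ E.Hom S := (mem_autGroup_iff E le_rfl α).mp (hAut hα)
  exact comp_mem' E hφ₀ hαE (E.le_of_mem hφ₀).2 (fun x => he x _)

end normal

section grp

variable {G : Type*} [Group G] [Finite G]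

/-- Conjugation by an element of `O^{p'}(N_G(R))` induces an element of `O^{p'}(Aut_F(R))`. -/
theorem normalizerMonoidHom_mem_pGenAut (p : ℕ) [hp : Fact p.Prime] (S R : Subgroup G)
    (hRS : R ≤ S) {g : G}
    (hg : g ∈ Subgroup.closure {g : G | g ∈ Subgroup.normalizer (R : Set G) ∧
      ∃ k : ℕ, orderOf g = p ^ k}) :
    ∃ hgN : g ∈ Subgroup.normalizer (R : Set G),
      R.normalizerMonoidHom ⟨g, hgN⟩ ∈ pGenAut (groupFusionSystem S) p R := by
  have hmemA : ∀ n : Subgroup.normalizer (R : Set G),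
      R.normalizerMonoidHom n ∈ (groupFusionSystem S).autGroup R := by
    intro n
    rw [Cfsg.Agent.S5076.autGroup_groupFusion S R hRS, mem_autInducedBy_iff]
    exact ⟨n, Subgroup.mem_top _, fun y => rfl⟩
  induction hg using Subgroup.closure_induction with
  | mem x hx =>
    obtain ⟨hxN, k, hk⟩ := hx
    refine ⟨hxN, ?_⟩
    have h1 : (R.normalizerMonoidHom ⟨x, hxN⟩) ^ (p ^ k) = 1 := by
      rw [← map_pow]
      have h2 : (⟨x, hxN⟩ : Subgroup.normalizer (R : Set G)) ^ (p ^ k) = 1 := by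
        apply Subtype.ext
        show x ^ (p ^ k) = 1
        rw [← hk]
        exact pow_orderOf_eq_one x
      rw [h2, map_one]
    obtain ⟨i, -, hi⟩ := (Nat.dvd_prime_pow hp.out).1 (orderOf_dvd_of_pow_eq_one h1)
    exact mem_pGenAut _ p (hmemA _) hi
  | one =>
    refine ⟨one_mem _, ?_⟩
    have : (⟨1, one_mem _⟩ : Subgroup.normalizer (R : Set G)) = 1 := rfl
    rw [this, map_one]
    exact one_mem _
  | mul a b _ _ iha ihb =>
    obtain ⟨haN, ha⟩ := iha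
    obtain ⟨hbN, hb⟩ := ihb
    refine ⟨mul_mem haN hbN, ?_⟩
    have : (⟨a * b, mul_mem haN hbN⟩ : Subgroup.normalizer (R : Set G)) =
        ⟨a, haN⟩ * ⟨b, hbN⟩ := rfl
    rw [this, map_mul]
    exact mul_mem ha hb
  | inv a _ iha =>
    obtain ⟨haN, ha⟩ := iha
    refine ⟨inv_mem haN, ?_⟩
    have : (⟨a⁻¹, inv_mem haN⟩ : Subgroup.normalizer (R : Set G)) = ⟨a, haN⟩⁻¹ := rfl
    rw [this, map_inv]
    exact inv_mem ha

/-- Simplicity criterion for the fusion system of a finite group. -/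
theorem groupFusionSystem_isSimple (p : ℕ) [Fact p.Prime] (S : Sylow p G)
    (hS1 : (S : Subgroup G) ≠ ⊥)
    (ha : ∀ T : Subgroup G, (groupFusionSystem (S : Subgroup G)).StronglyClosed T →
      T = ⊥ ∨ T = (S : Subgroup G))
    (hb : autInducedBy ⊤ (S : Subgroup G) = ⨆ (R : Subgroup G)
      (_ : (groupFusionSystem (S : Subgroup G)).IsFullyNormalized R ∧
        (groupFusionSystem (S : Subgroup G)).IsRadical p R ∧
        (groupFusionSystem (S : Subgroup G)).IsCentric R),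
      autInducedBy (Subgroup.closure {g : G | g ∈ Subgroup.normalizer (R : Set G) ∧
        ∃ k : ℕ, orderOf g = p ^ k}) (S : Subgroup G)) :
    (groupFusionSystem (S : Subgroup G)).IsSimple p := by
  have hsat := Cfsg.Agent.S5076.result p S
  have hSp : IsPGroup p (S : Subgroup G) := S.isPGroup'
  refine ⟨hsat, hS1, ?_⟩
  intro T E hE
  have hT : (groupFusionSystem (S : Subgroup G)).StronglyClosed T := hE.1.2.2.2.1
  rcases ha T hT with rfl | rfl
  · exact Or.inl rfl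
  · refine Or.inr ⟨rfl, ?_⟩
    apply hom_subset_of_normal_of_autGroup_le p _ E hE
    rw [Cfsg.Agent.S5076.autGroup_groupFusion (S : Subgroup G) (S : Subgroup G) le_rfl, hb]
    apply iSup_le
    intro R
    apply iSup_le
    rintro ⟨-, -, hRc⟩
    unfold autInducedBy
    rw [Subgroup.closure_le]
    rintro α ⟨g, hg, hgα⟩
    obtain ⟨hgN, hβ⟩ := normalizerMonoidHom_mem_pGenAut p (S : Subgroup G) R hRc.1 hg
    have hαF : α ∈ (groupFusionSystem (S : Subgroup G)).autGroup (S : Subgroup G) := by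
      rw [Cfsg.Agent.S5076.autGroup_groupFusion (S : Subgroup G) (S : Subgroup G) le_rfl,
        mem_autInducedBy_iff]
      exact ⟨g, Subgroup.mem_top _, hgα⟩
    exact aut_mem_of_restrict_pGen p hSp _ E hE hRc hαF hβ (fun x => hgα ⟨x, hRc.1 x.2⟩)

end grp

end Cfsg.Agent.Helper25
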