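import Mathlib
import Cfsg.Agent.Helper25.FusionSimpleCrit
import Cfsg.Agent.Helper25.FusionGroup

set_option autoImplicit false

/-! A simplicity criterion for `F_S(G)` by centric subgroups, and centricity from `p`-elements of
centralizers. -/

namespace Cfsg.Agent.Helper25

open Cfsg Cfsg.FusionSystem

variable {G : Type*} [Group G] [Finite G]

/-- Simplicity criterion: no strongly closed subgroups, and `N_G(S)` generated by its elements lying
in `O^{p'}(N_G(R))` for centric `R`. -/
theorem groupFusionSystem_isSimple_of_centric_gen (p : ℕ) [Fact p.Prime] (S : Sylow p G)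
    (hS1 : (S : Subgroup G) ≠ ⊥)
    (ha : ∀ T : Subgroup G, T ≤ (S : Subgroup G) →
      (∀ t ∈ T, ∀ g : G, g * t * g⁻¹ ∈ (S : Subgroup G) → g * t * g⁻¹ ∈ T) →
      T = ⊥ ∨ T = (S : Subgroup G))
    (hb : Subgroup.normalizer ((S : Subgroup G) : Set G) ≤ Subgroup.closure
      {g | g ∈ Subgroup.normalizer ((S : Subgroup G) : Set G) ∧ ∃ R : Subgroup G,
        (groupFusionSystem (S : Subgroup G)).IsCentric R ∧
        g ∈ Subgroup.closure {h : G | h ∈ Subgroup.normalizer (R : Set G) ∧
          ∃ k : ℕ, orderOf h = p ^ k}}) :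
    (groupFusionSystem (S : Subgroup G)).IsSimple p := by
  have hsat := Cfsg.Agent.S5076.result p S
  have hSp : IsPGroup p (S : Subgroup G) := S.isPGroup'
  refine ⟨hsat, hS1, ?_⟩
  intro T E hE
  have hT : (groupFusionSystem (S : Subgroup G)).StronglyClosed T := hE.1.2.2.2.1
  have hT' : T = ⊥ ∨ T = (S : Subgroup G) := by
    apply ha T hT.1
    intro t ht g hg
    have hle : Subgroup.zpowers t ≤ T := (Subgroup.zpowers_le).mpr ht
    have hmem : conjHom (Subgroup.zpowers t) g ∈
        (groupFusionSystem (S : Subgroup G)).Hom (Subgroup.zpowers t) := by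
      refine ⟨hle.trans hT.1, ?_, g, fun x => rfl⟩
      intro x
      have h1 : Subgroup.zpowers t ≤ (S : Subgroup G).comap (MulAut.conj g).toMonoidHom := by
        rw [Subgroup.zpowers_le]
        exact hg
      exact h1 x.2
    exact hT.2 _ hle _ hmem ⟨t, Subgroup.mem_zpowers t⟩
  rcases hT' with rfl | rfl
  · exact Or.inl rfl
  · refine Or.inr ⟨rfl, ?_⟩
    apply hom_subset_of_normal_of_autGroup_le p _ E hE
    have key : ∀ g, g ∈ Subgroup.closure
        {g | g ∈ Subgroup.normalizer ((S : Subgroup G) : Set G) ∧ ∃ R : Subgroup G,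
          (groupFusionSystem (S : Subgroup G)).IsCentric R ∧
          g ∈ Subgroup.closure {h : G | h ∈ Subgroup.normalizer (R : Set G) ∧
            ∃ k : ℕ, orderOf h = p ^ k}} →
        ∃ hg : g ∈ Subgroup.normalizer ((S : Subgroup G) : Set G),
          (S : Subgroup G).normalizerMonoidHom ⟨g, hg⟩ ∈ E.autGroup (S : Subgroup G) := by
      intro g hg
      induction hg using Subgroup.closure_induction with
      | mem x hx =>
        obtain ⟨hxN, R, hRc, hxR⟩ := hx
        refine ⟨hxN, ?_⟩
        obtain ⟨hxNR, hβ⟩ := normalizerMonoidHom_mem_pGenAut p (S : Subgroup G) R hRc.1 hxR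
        have hαF : (S : Subgroup G).normalizerMonoidHom ⟨x, hxN⟩ ∈
            (groupFusionSystem (S : Subgroup G)).autGroup (S : Subgroup G) := by
          rw [Cfsg.Agent.S5076.autGroup_groupFusion (S : Subgroup G) (S : Subgroup G) le_rfl,
            mem_autInducedBy_iff]
          exact ⟨x, Subgroup.mem_top _, fun y => rfl⟩
        exact aut_mem_of_restrict_pGen p hSp _ E hE hRc hαF hβ (fun y => rfl)
      | one =>
        refine ⟨one_mem _, ?_⟩
        have : (⟨1, one_mem _⟩ : Subgroup.normalizer ((S : Subgroup G) : Set G)) = 1 := rfl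
        rw [this, map_one]
        exact one_mem _
      | mul a b _ _ iha ihb =>
        obtain ⟨haN, ha⟩ := iha
        obtain ⟨hbN, hb⟩ := ihb
        refine ⟨mul_mem haN hbN, ?_⟩
        have : (⟨a * b, mul_mem haN hbN⟩ : Subgroup.normalizer ((S : Subgroup G) : Set G)) =
            ⟨a, haN⟩ * ⟨b, hbN⟩ := rfl
        rw [this, map_mul]
        exact mul_mem ha hb
      | inv a _ iha =>
        obtain ⟨haN, ha⟩ := iha
        refine ⟨inv_mem haN, ?_⟩
        have : (⟨a⁻¹, inv_mem haN⟩ : Subgroup.normalizer ((S : Subgroup G) : Set G)) =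
            ⟨a, haN⟩⁻¹ := rfl
        rw [this, map_inv]
        exact inv_mem ha
    rw [Cfsg.Agent.S5076.autGroup_groupFusion (S : Subgroup G) (S : Subgroup G) le_rfl]
    intro α hα
    rw [mem_autInducedBy_iff] at hα
    obtain ⟨g, -, hgα⟩ := hα
    have hgN : g ∈ Subgroup.normalizer ((S : Subgroup G) : Set G) := by
      rw [Subgroup.mem_normalizer_iff]
      intro x
      constructor
      · intro hx
        rw [← hgα ⟨x, hx⟩]
        exact (α ⟨x, hx⟩).2
      · intro hx
        obtain ⟨y, hy⟩ := α.surjective ⟨_, hx⟩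
        have h1 := hgα y
        rw [hy] at h1
        have h2 : x = (y : G) := mul_left_cancel (mul_right_cancel h1)
        rw [h2]
        exact y.2
    obtain ⟨hgN', hmem⟩ := key g (hb hgN)
    have e : α = (S : Subgroup G).normalizerMonoidHom ⟨g, hgN'⟩ := by
      ext x
      exact hgα x
    rw [e]
    exact hmem

/-- A subgroup containing all `p`-elements of its centralizer is centric. -/
theorem isCentric_of_pElements (p : ℕ) [Fact p.Prime] {S R : Subgroup G} (hS : IsPGroup p S)
    (hRS : R ≤ S)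
    (hC : ∀ y ∈ Subgroup.centralizer (R : Set G), (∃ m : ℕ, y ^ (p ^ m) = 1) → y ∈ R) :
    (groupFusionSystem S).IsCentric R := by
  refine ⟨hRS, ?_⟩
  intro Q hQ
  obtain ⟨-, hQS, g, rfl⟩ := groupFusion_isConj_iff.mp hQ
  rintro y ⟨hyS, hyC⟩
  have hyC1 : y ∈ Subgroup.centralizer ((cj R g : Subgroup G) : Set G) := hyC
  rw [centralizer_cj] at hyC1
  have hyC2 := mem_cj.mp hyC1
  rw [mem_cj]
  apply hC _ hyC2
  obtain ⟨m, hm⟩ := hS ⟨y, hyS⟩
  refine ⟨m, ?_⟩
  have hm' : y ^ (p ^ m) = 1 := congrArg Subtype.val hm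
  have e : (g⁻¹ * y * g) ^ (p ^ m) = g⁻¹ * y ^ (p ^ m) * g := by
    have := conj_pow (a := g⁻¹) (b := y) (i := p ^ m)
    rw [inv_inv] at this
    exact this
  rw [e, hm', mul_one, inv_mul_cancel]

/-- `S` is centric in `F_S(G)`. -/
theorem isCentric_self {S : Subgroup G} : (groupFusionSystem S).IsCentric S := by
  refine ⟨le_rfl, ?_⟩
  intro Q hQ
  obtain ⟨-, hQS, g, rfl⟩ := groupFusion_isConj_iff.mp hQ
  have : cj S g = S := Subgroup.eq_of_le_of_card_ge hQS (by rw [card_cj])
  rw [this]
  exact inf_le_left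

end Cfsg.Agent.Helper25
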