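import Mathlib

set_option autoImplicit false

/-! Upper unitriangular matrices in `SL_n(K)`: subgroup, generation by root elements,
normalizer, Sylow property. -/

namespace Cfsg.Agent.Helper25.SLU

open Matrix Matrix.SpecialLinearGroup

section general

variable {G : Type*} [Group G] [Finite G]

/-- In a finite group a subset containing `1` and closed under products is a subgroup. -/
def subgroupOfMul (s : Set G) (h1 : (1 : G) ∈ s) (hm : ∀ a b, a ∈ s → b ∈ s → a * b ∈ s) :
    Subgroup G where
  carrier := s
  one_mem' := h1
  mul_mem' := fun ha hb => hm _ _ ha hb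
  inv_mem' := by
    intro g hg
    have e : g⁻¹ = g ^ (orderOf g - 1) := by
      rw [inv_eq_iff_mul_eq_one, ← pow_succ', Nat.sub_add_cancel (orderOf_pos g),
        pow_orderOf_eq_one]
    have hp : ∀ k : ℕ, g ^ k ∈ s := by
      intro k
      induction k with
      | zero => rw [pow_zero]; exact h1
      | succ k ih => rw [pow_succ]; exact hm _ _ ih hg
    show g⁻¹ ∈ s
    rw [e]
    exact hp _

theorem mem_subgroupOfMul {s : Set G} {h1 : (1 : G) ∈ s}
    {hm : ∀ a b, a ∈ s → b ∈ s → a * b ∈ s} {g : G} : g ∈ subgroupOfMul s h1 hm ↔ g ∈ s :=
  Iff.rfl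

end general

variable {n : ℕ} {K : Type*} [Field K]

/-- upper triangular -/
def IsUp (M : Matrix (Fin n) (Fin n) K) : Prop := ∀ i j, j < i → M i j = 0

/-- upper unitriangular -/
def IsUT (M : Matrix (Fin n) (Fin n) K) : Prop := IsUp M ∧ ∀ i, M i i = 1

theorem IsUp.mul {M N : Matrix (Fin n) (Fin n) K} (hM : IsUp M) (hN : IsUp N) : IsUp (M * N) := by
  intro i j hji
  rw [Matrix.mul_apply]
  apply Finset.sum_eq_zero
  intro k _
  by_cases hk : k < i
  · rw [hM i k hk, zero_mul]
  · rw [hN k j (lt_of_lt_of_le hji (not_lt.mp hk)), mul_zero]

theorem IsUp.mul_diag {M N : Matrix (Fin n) (Fin n) K} (hM : IsUp M) (hN : IsUp N) (i : Fin n) :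
    (M * N) i i = M i i * N i i := by
  rw [Matrix.mul_apply]
  apply Finset.sum_eq_single i
  · intro k _ hki
    rcases lt_or_gt_of_ne hki with h | h
    · rw [hM i k h, zero_mul]
    · rw [hN k i h, mul_zero]
  · intro h
    exact absurd (Finset.mem_univ i) h

theorem isUp_one : IsUp (1 : Matrix (Fin n) (Fin n) K) := by
  intro i j hji
  exact Matrix.one_apply_ne (ne_of_gt hji)

theorem isUT_one : IsUT (1 : Matrix (Fin n) (Fin n) K) :=
  ⟨isUp_one, fun i => Matrix.one_apply_eq i⟩

theorem IsUT.mul {M N : Matrix (Fin n) (Fin n) K} (hM : IsUT M) (hN : IsUT N) : IsUT (M * N) :=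
  ⟨hM.1.mul hN.1, fun i => by rw [hM.1.mul_diag hN.1, hM.2, hN.2, one_mul]⟩

variable [Fintype K]

/-- upper triangular matrices in `SL_n(K)` -/
def upTri (n : ℕ) (K : Type*) [Field K] [Fintype K] :
    Subgroup (Matrix.SpecialLinearGroup (Fin n) K) :=
  subgroupOfMul {g | IsUp g.1} isUp_one (fun a b ha hb => by
    show IsUp (a * b).1
    rw [Matrix.SpecialLinearGroup.coe_mul]
    exact IsUp.mul ha hb)

/-- upper unitriangular matrices in `SL_n(K)` -/
def unitri (n : ℕ) (K : Type*) [Field K] [Fintype K] :
    Subgroup (Matrix.SpecialLinearGroup (Fin n) K) :=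
  subgroupOfMul {g | IsUT g.1} isUT_one (fun a b ha hb => by
    show IsUT (a * b).1
    rw [Matrix.SpecialLinearGroup.coe_mul]
    exact IsUT.mul ha hb)

theorem mem_upTri {g : Matrix.SpecialLinearGroup (Fin n) K} : g ∈ upTri n K ↔ IsUp g.1 := Iff.rfl

theorem mem_unitri {g : Matrix.SpecialLinearGroup (Fin n) K} : g ∈ unitri n K ↔ IsUT g.1 := Iff.rfl

theorem unitri_le_upTri : unitri n K ≤ upTri n K := fun _ hg => hg.1

/-- Root elements lie in `U`. -/
theorem transvection_mem_unitri {i j : Fin n} (h : i < j) (c : K) :
    transvection (ne_of_lt h) c ∈ unitri n K := by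
  rw [mem_unitri, transvection_coe]
  constructor
  · intro r s hsr
    rw [Matrix.add_apply, Matrix.one_apply_ne (ne_of_gt hsr), zero_add, Matrix.single_apply]
    rw [if_neg]
    rintro ⟨rfl, rfl⟩
    exact absurd h (not_lt.mpr hsr.le)
  · intro r
    rw [Matrix.add_apply, Matrix.one_apply_eq, Matrix.single_apply, if_neg, add_zero]
    rintro ⟨h1, h2⟩
    exact (ne_of_lt h) (h1.trans h2.symm)

/-- The set of root elements. -/
def rootSet (n : ℕ) (K : Type*) [Field K] [Fintype K] :
    Set (Matrix.SpecialLinearGroup (Fin n) K) :=
  {x | ∃ (i j : Fin n) (h : i < j) (c : K), x = transvection (ne_of_lt h) c}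

omit [Fintype K] in
theorem mul_transvection_apply (g : Matrix.SpecialLinearGroup (Fin n) K) {i j : Fin n} (h : i ≠ j)
    (c : K) (r s : Fin n) :
    (g * transvection h c).1 r s = g.1 r s + if s = j then g.1 r i * c else 0 := by
  rw [Matrix.SpecialLinearGroup.coe_mul, transvection_coe, Matrix.mul_add, Matrix.mul_one,
    Matrix.add_apply]
  congr 1
  by_cases hs : s = j
  · subst hs
    rw [if_pos rfl, Matrix.mul_single_apply_same]
  · rw [if_neg hs, Matrix.mul_single_apply_of_ne _ _ _ _ _ hs]

omit [Fintype K] in
theorem transvection_mul_apply (g : Matrix.SpecialLinearGroup (Fin n) K) {i j : Fin n} (h : i ≠ j)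
    (c : K) (r s : Fin n) :
    (transvection h c * g).1 r s = g.1 r s + if r = i then c * g.1 j s else 0 := by
  rw [Matrix.SpecialLinearGroup.coe_mul, transvection_coe, Matrix.add_mul, Matrix.one_mul,
    Matrix.add_apply]
  congr 1
  by_cases hr : r = i
  · subst hr
    rw [if_pos rfl, Matrix.single_mul_apply_same]
  · rw [if_neg hr, Matrix.single_mul_apply_of_ne _ _ _ _ _ hr]

/-- `U` is generated by the root elements. -/
theorem unitri_le_closure : unitri n K ≤ Subgroup.closure (rootSet n K) := by
  have hmono : ∀ a b : ℕ, a < b → n * a + n ≤ n * b := fun a b h => by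
    calc n * a + n = n * (a + 1) := by ring
      _ ≤ n * b := Nat.mul_le_mul_left n h
  have key : ∀ r : ℕ, ∀ g : Matrix.SpecialLinearGroup (Fin n) K, g ∈ unitri n K →
      (∀ i j : Fin n, i < j → r ≤ j.val + n * i.val → g.1 i j = 0) →
      g ∈ Subgroup.closure (rootSet n K) := by
    intro r
    induction r with
    | zero =>
      intro g hg h0
      have : g = 1 := by
        apply Subtype.ext
        ext i j
        rcases lt_trichotomy i j with h | h | h
        · rw [h0 i j h (Nat.zero_le _), coe_one, Matrix.one_apply_ne (ne_of_lt h)]
        · subst h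
          rw [hg.2 i, coe_one, Matrix.one_apply_eq]
        · rw [hg.1 i j h, coe_one, Matrix.one_apply_ne (ne_of_gt h)]
      rw [this]
      exact one_mem _
    | succ r ih =>
      intro g hg hr
      by_cases hex : ∃ i j : Fin n, i < j ∧ j.val + n * i.val = r
      · obtain ⟨i, j, hij, hrank⟩ := hex
        have hx : transvection (ne_of_lt hij) (-(g.1 i j)) ∈ unitri n K :=
          transvection_mem_unitri hij _
        have hg' : g * transvection (ne_of_lt hij) (-(g.1 i j)) ∈ unitri n K := mul_mem hg hx
        have hcl : g * transvection (ne_of_lt hij) (-(g.1 i j)) ∈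
            Subgroup.closure (rootSet n K) := by
          apply ih _ hg'
          intro k l hkl hle
          rw [mul_transvection_apply]
          by_cases hlj : l = j
          · subst hlj
            rw [if_pos rfl]
            have hki : i.val ≤ k.val := by
              by_contra hlt
              push Not at hlt
              have := hmono _ _ hlt
              have := l.isLt
              omega
            rcases Nat.lt_or_ge i.val k.val with h | h
            · have h1 : g.1 k i = 0 := hg.1 k i (Fin.lt_def.mpr h)
              have h2 : g.1 k l = 0 := by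
                apply hr k l hkl
                have := hmono _ _ h
                omega
              rw [h1, h2]
              ring
            · have hk : k = i := Fin.ext (le_antisymm h hki)
              subst hk
              rw [hg.2 k]
              ring
          · rw [if_neg hlj, add_zero]
            apply hr k l hkl
            have hne : l.val + n * k.val ≠ r := by
              intro h
              apply hlj
              have hl := l.isLt
              have hj := j.isLt
              rcases lt_trichotomy k.val i.val with h1 | h1 | h1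
              · have := hmono _ _ h1
                omega
              · rw [h1] at h
                exact Fin.ext (by omega)
              · have := hmono _ _ h1
                omega
            omega
        have e : g = (g * transvection (ne_of_lt hij) (-(g.1 i j))) *
            transvection (ne_of_lt hij) (g.1 i j) := by
          rw [mul_assoc, ← transvection_add, neg_add_cancel, transvection_coeff_zero, mul_one]
        rw [e]
        exact mul_mem hcl (Subgroup.subset_closure ⟨i, j, hij, _, rfl⟩)
      · apply ih g hg
        intro i j hij hle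
        apply hr i j hij
        have : j.val + n * i.val ≠ r := fun h => hex ⟨i, j, hij, h⟩
        omega
  intro g hg
  apply key (n * n) g hg
  intro i j hij hle
  exfalso
  have h1 := j.isLt
  have h2 := hmono _ _ i.isLt
  omega

theorem closure_rootSet_eq : Subgroup.closure (rootSet n K) = unitri n K := by
  apply le_antisymm
  · rw [Subgroup.closure_le]
    rintro x ⟨i, j, h, c, rfl⟩
    exact transvection_mem_unitri h c
  · exact unitri_le_closure

end Cfsg.Agent.Helper25.SLU
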