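import Mathlib
import Cfsg.Agent.Helper25.SLUnitriA

set_option autoImplicit false

/-! `U` is a Sylow `p`-subgroup of `SL_n(K)` with normalizer the upper triangular matrices. -/

namespace Cfsg.Agent.Helper25.SLU

open Matrix Matrix.SpecialLinearGroup

variable {n : ℕ} {K : Type*} [Field K]

theorem sub_one_pow_eq_zero {M : Matrix (Fin n) (Fin n) K} (hM : IsUT M) : (M - 1) ^ n = 0 := by
  have h1 : M.charpoly = ∏ i : Fin n, (Polynomial.X - Polynomial.C (M i i)) :=
    Matrix.charpoly_of_isUpperTriangular M (fun i j h => hM.1 i j h)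
  have h2 := Matrix.aeval_self_charpoly M
  rw [h1] at h2
  simp only [hM.2, Finset.prod_const, Finset.card_univ, Fintype.card_fin] at h2
  simpa using h2

theorem IsUp.pow {M : Matrix (Fin n) (Fin n) K} (hM : IsUp M) (k : ℕ) :
    IsUp (M ^ k) ∧ ∀ i, (M ^ k) i i = (M i i) ^ k := by
  induction k with
  | zero =>
    refine ⟨by rw [pow_zero]; exact isUp_one, fun i => ?_⟩
    rw [pow_zero, pow_zero, Matrix.one_apply_eq]
  | succ k ih =>
    refine ⟨by rw [pow_succ]; exact ih.1.mul hM, fun i => ?_⟩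
    rw [pow_succ, ih.1.mul_diag hM, ih.2, pow_succ]

variable (p : ℕ) [Fact p.Prime] [CharP K p]

theorem pow_eq_one_of_isUT {M : Matrix (Fin n) (Fin n) K} (hM : IsUT M) {m : ℕ}
    (hm : n ≤ p ^ m) : M ^ (p ^ m) = 1 := by
  have h0 : (M - 1) ^ (p ^ m) = 0 := by
    rw [← Nat.sub_add_cancel hm, pow_add, sub_one_pow_eq_zero hM, mul_zero]
  by_cases hn : n = 0
  · subst hn
    exact Subsingleton.elim _ _
  have : Nonempty (Fin n) := ⟨⟨0, Nat.pos_of_ne_zero hn⟩⟩
  have : CharP (Matrix (Fin n) (Fin n) K) p := inferInstance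
  rw [sub_pow_char_pow_of_commute _ _ (Commute.one_right M)] at h0
  simpa [sub_eq_zero] using h0

theorem eq_one_of_pow_eq_one {a : K} {m : ℕ} (h : a ^ (p ^ m) = 1) : a = 1 := by
  have h1 : (a - 1) ^ (p ^ m) = 0 := by
    rw [sub_pow_char_pow, h, one_pow, sub_self]
  have := pow_eq_zero_iff (pow_ne_zero m (Fact.out : p.Prime).ne_zero) |>.mp h1
  exact sub_eq_zero.mp this

variable [Fintype K]

theorem isPGroup_unitri : IsPGroup p (unitri n K) := by
  intro g
  have hm : n ≤ p ^ n := (Nat.lt_pow_self (Fact.out : p.Prime).one_lt).le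
  refine ⟨n, ?_⟩
  apply Subtype.ext
  apply Subtype.ext
  show ((g : Matrix.SpecialLinearGroup (Fin n) K) ^ (p ^ n)).1 = 1
  rw [Matrix.SpecialLinearGroup.coe_pow]
  exact pow_eq_one_of_isUT p g.2 hm

theorem normalizer_unitri_le :
    Subgroup.normalizer (unitri n K : Set (Matrix.SpecialLinearGroup (Fin n) K)) ≤ upTri n K := by
  intro g hg
  rw [mem_upTri]
  have key : ∀ m : ℕ, ∀ j : Fin n, j.val = m → ∀ k : Fin n, j < k → g.1 k j = 0 := by
    intro m
    induction m using Nat.strong_induction_on with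
    | _ m ih =>
      intro j hj k hjk
      have hu : transvection (ne_of_lt hjk) (1 : K) ∈ unitri n K := transvection_mem_unitri hjk 1
      have hu' : g⁻¹ * transvection (ne_of_lt hjk) 1 * g ∈ unitri n K := by
        have := (Subgroup.mem_normalizer_iff.mp (inv_mem hg) _).mp hu
        simpa using this
      have e : g * (g⁻¹ * transvection (ne_of_lt hjk) 1 * g) =
          transvection (ne_of_lt hjk) 1 * g := by group
      have e1 : (g * (g⁻¹ * transvection (ne_of_lt hjk) 1 * g)).1 j j =
          (transvection (ne_of_lt hjk) 1 * g).1 j j := by rw [e]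
      rw [transvection_mul_apply, if_pos rfl, one_mul, Matrix.SpecialLinearGroup.coe_mul,
        Matrix.mul_apply, Finset.sum_eq_single j] at e1
      · rw [hu'.2 j, mul_one] at e1
        exact left_eq_add.mp e1
      · intro l _ hlj
        rcases lt_or_gt_of_ne hlj with h | h
        · rw [ih l.val (by rw [← hj]; exact h) l rfl j h, zero_mul]
        · rw [hu'.1 l j h, mul_zero]
      · intro h
        exact absurd (Finset.mem_univ j) h
  intro i j hji
  exact key j.val j rfl i hji

theorem mem_unitri_of_pow {g : Matrix.SpecialLinearGroup (Fin n) K} (hg : g ∈ upTri n K) {m : ℕ}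
    (h : g ^ (p ^ m) = 1) : g ∈ unitri n K := by
  refine ⟨hg, fun i => ?_⟩
  have h1 : (g.1 ^ (p ^ m)) i i = 1 := by
    rw [← Matrix.SpecialLinearGroup.coe_pow, h, Matrix.SpecialLinearGroup.coe_one,
      Matrix.one_apply_eq]
  rw [(IsUp.pow hg (p ^ m)).2 i] at h1
  exact eq_one_of_pow_eq_one p h1

/-- `U` is a Sylow `p`-subgroup. -/
theorem exists_sylow_unitri :
    ∃ P : Sylow p (Matrix.SpecialLinearGroup (Fin n) K), (P : Subgroup _) = unitri n K := by
  obtain ⟨P, hP⟩ := (isPGroup_unitri (n := n) (K := K) p).exists_le_sylow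
  refine ⟨P, ?_⟩
  by_contra hne
  have : Group.IsNilpotent P := P.isPGroup'.isNilpotent
  have hNC := Group.normalizerCondition_of_isNilpotent (G := P)
  have hlt' : (unitri n K).subgroupOf P < ⊤ := by
    rw [lt_top_iff_ne_top]
    intro h
    rw [Subgroup.subgroupOf_eq_top] at h
    exact hne (le_antisymm h hP)
  obtain ⟨x, hxN, hxU⟩ := SetLike.exists_of_lt (hNC _ hlt')
  have hxN' : (x : Matrix.SpecialLinearGroup (Fin n) K) ∈
      Subgroup.normalizer (unitri n K : Set (Matrix.SpecialLinearGroup (Fin n) K)) := by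
    rw [Subgroup.mem_normalizer_iff]
    intro h
    constructor
    · intro hh
      have := (Subgroup.mem_normalizer_iff.mp hxN ⟨h, hP hh⟩).mp (Subgroup.mem_subgroupOf.mpr hh)
      exact Subgroup.mem_subgroupOf.mp this
    · intro hh
      have hhP : h ∈ (P : Subgroup _) := by
        have e : h = (x : Matrix.SpecialLinearGroup (Fin n) K)⁻¹ *
            ((x : Matrix.SpecialLinearGroup (Fin n) K) * h *
              (x : Matrix.SpecialLinearGroup (Fin n) K)⁻¹) *
            (x : Matrix.SpecialLinearGroup (Fin n) K) := by group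
        rw [e]
        exact mul_mem (mul_mem (inv_mem x.2) (hP hh)) x.2
      have := (Subgroup.mem_normalizer_iff.mp hxN ⟨h, hhP⟩).mpr
        (Subgroup.mem_subgroupOf.mpr hh)
      exact Subgroup.mem_subgroupOf.mp this
  obtain ⟨m, hm⟩ := P.isPGroup' x
  have hxU' : (x : Matrix.SpecialLinearGroup (Fin n) K) ∈ unitri n K :=
    mem_unitri_of_pow p (normalizer_unitri_le hxN') (m := m) (by
      have := congrArg Subtype.val hm
      simpa using this)
  exact hxU (Subgroup.mem_subgroupOf.mpr hxU')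

theorem upTri_le_normalizer :
    upTri n K ≤ Subgroup.normalizer (unitri n K : Set (Matrix.SpecialLinearGroup (Fin n) K)) := by
  have key : ∀ g ∈ upTri n K, ∀ u ∈ unitri n K, g * u * g⁻¹ ∈ unitri n K := by
    intro g hg u hu
    have hgi : g⁻¹ ∈ upTri n K := inv_mem hg
    have hgu : g * u ∈ upTri n K := mul_mem hg (unitri_le_upTri hu)
    refine ⟨mul_mem hgu hgi, fun i => ?_⟩
    rw [Matrix.SpecialLinearGroup.coe_mul, IsUp.mul_diag hgu hgi,
      Matrix.SpecialLinearGroup.coe_mul, IsUp.mul_diag hg (unitri_le_upTri hu), hu.2 i, mul_one,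
      ← IsUp.mul_diag hg hgi, ← Matrix.SpecialLinearGroup.coe_mul, mul_inv_cancel,
      Matrix.SpecialLinearGroup.coe_one, Matrix.one_apply_eq]
  intro g hg
  rw [Subgroup.mem_normalizer_iff]
  intro u
  constructor
  · exact key g hg u
  · intro hu
    have := key g⁻¹ (inv_mem hg) _ hu
    have e : g⁻¹ * (g * u * g⁻¹) * g⁻¹⁻¹ = u := by group
    rwa [e] at this

end Cfsg.Agent.Helper25.SLU
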