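import Cfsg.Agent.Helper1.S5639Lib

set_option autoImplicit false

/-! # S5639 piece GENSL: all elementary matrices generate `SL_n`. -/

namespace Cfsg.Agent.S5639P

open Matrix
open Cfsg.Agent.Helper28.SLMax Cfsg.Agent.Helper28.SimMax

variable {F : Type*} [Field F] {n : ℕ}

local notation "GLn" => Matrix.GeneralLinearGroup (Fin n) F
local notation "Mat" => Matrix (Fin n) (Fin n) F

/-- GENSL: all elementary matrices generate `SL_n`. -/
theorem GENSL.sl_le (hn : 2 ≤ n) (M : Subgroup GLn)
    (h : ∀ i j : Fin n, i ≠ j → ∀ c : F, c ∈ Kij M i j) : SL n F ≤ M := by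
  classical
  have : Nontrivial (Fin n) := Fin.nontrivial_iff_two_le.mpr hn
  intro A hA
  rw [mem_SL_iff] at hA
  have key : ∀ B : Matrix.SpecialLinearGroup (Fin n) F, Matrix.SpecialLinearGroup.toGL B ∈ M := by
    intro B
    refine Cfsg.Agent.Helper2.SL_transvection_induction
      (fun B => Matrix.SpecialLinearGroup.toGL B ∈ M) ?_ ?_ B
    · intro i j hij c
      obtain ⟨g, hg, hgE⟩ := h i j hij c
      convert hg using 1
      apply Units.ext
      rw [hgE]
      show ((Matrix.SpecialLinearGroup.transvection hij c : Matrix.SpecialLinearGroup (Fin n) F) :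
        Matrix (Fin n) (Fin n) F) = E _ _
      rw [Matrix.SpecialLinearGroup.transvection_coe, E]
      congr 1
      ext k l
      simp only [Matrix.single_apply, Matrix.vecMulVec_apply, Pi.single_apply]
      by_cases hk : k = i <;> by_cases hl : l = j
      · subst hk; subst hl; simp
      · subst hk
        have : ¬ (j = l) := fun h => hl h.symm
        simp [hl, this]
      · subst hl
        have : ¬ (i = k) := fun h => hk h.symm
        simp [hk, this]
      · have h1 : ¬ (i = k) := fun h => hk h.symm
        simp [hk, h1]
    · intro A B hA hB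
      rw [map_mul]
      exact M.mul_mem hA hB
  have := key ⟨(A : Matrix (Fin n) (Fin n) F), hA⟩
  convert this using 1
  apply Units.ext
  rfl

end Cfsg.Agent.S5639P
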