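import Cfsg.Agent.Helper1.S5639Lib

set_option autoImplicit false

/-! # S5639 piece PFIX: a `p`-subgroup of `GL_n(F)` fixes a non-zero vector. -/

namespace Cfsg.Agent.S5639P

open Matrix
open Cfsg.Agent.Helper28.SLMax Cfsg.Agent.Helper28.SimMax

variable {F : Type*} [Field F] {n : ℕ}

local notation "GLn" => Matrix.GeneralLinearGroup (Fin n) F
local notation "Mat" => Matrix (Fin n) (Fin n) F

/-- PFIX: a `p`-subgroup of `GL_n(F)`, `F` finite of characteristic `p`, fixes a non-zero vector. -/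
theorem PFIX.exists_fixed [Fintype F] (p : ℕ) [Fact p.Prime] [CharP F p] (hn : 1 ≤ n)
    (Q : Subgroup GLn) (hQ : IsPGroup p Q) :
    ∃ w : Fin n → F, w ≠ 0 ∧ ∀ g ∈ Q, (g : Mat) *ᵥ w = w := by
  classical
  letI act : MulAction Q (Fin n → F) :=
    { smul := fun g v => ((g : GLn) : Mat) *ᵥ v
      one_smul := by
        intro v
        show ((1 : GLn) : Mat) *ᵥ v = v
        rw [Units.val_one, Matrix.one_mulVec]
      mul_smul := by
        intro g h v
        show (((g : GLn) * (h : GLn) : GLn) : Mat) *ᵥ v = ((g : GLn) : Mat) *ᵥ (((h : GLn) : Mat) *ᵥ v)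
        rw [Units.val_mul, Matrix.mulVec_mulVec] }
  have hsmul : ∀ (g : Q) (v : Fin n → F), g • v = ((g : GLn) : Mat) *ᵥ v := fun _ _ => rfl
  have hp : p.Prime := Fact.out
  have h1 := hQ.card_modEq_card_fixedPoints (Fin n → F)
  -- `p ∣ |V|`
  have hV : p ∣ Nat.card (Fin n → F) := by
    rw [Nat.card_eq_fintype_card, Fintype.card_fun, Fintype.card_fin]
    obtain ⟨k, hk⟩ := FiniteField.card F p
    rw [hk.2]
    have hk0 : (k : ℕ) ≠ 0 := k.ne_zero
    have : (k : ℕ) * n ≠ 0 := Nat.mul_ne_zero hk0 (by omega)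
    rw [← pow_mul]
    exact dvd_pow_self p this
  have hfp : p ∣ Nat.card (MulAction.fixedPoints Q (Fin n → F)) := by
    rw [← Nat.modEq_zero_iff_dvd]
    exact h1.symm.trans ((Nat.modEq_zero_iff_dvd).mpr hV)
  -- two distinct fixed points
  have h2 : 1 < Nat.card (MulAction.fixedPoints Q (Fin n → F)) := by
    have h0 : (0 : Fin n → F) ∈ MulAction.fixedPoints Q (Fin n → F) := by
      intro g
      rw [hsmul, Matrix.mulVec_zero]
    have hpos : 0 < Nat.card (MulAction.fixedPoints Q (Fin n → F)) := by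
      haveI : Nonempty (MulAction.fixedPoints Q (Fin n → F)) := ⟨⟨0, h0⟩⟩
      exact Nat.card_pos
    have := Nat.le_of_dvd hpos hfp
    have := hp.two_le
    omega
  rw [Nat.card_eq_fintype_card] at h2
  obtain ⟨a, b, hab⟩ := Fintype.one_lt_card_iff.mp h2
  have key : ∃ w : MulAction.fixedPoints Q (Fin n → F), (w : Fin n → F) ≠ 0 := by
    by_contra hcon
    push Not at hcon
    apply hab
    apply Subtype.ext
    rw [hcon a, hcon b]
  obtain ⟨w, hw⟩ := key
  refine ⟨w, hw, ?_⟩
  intro g hg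
  have := w.2 ⟨g, hg⟩
  rw [hsmul] at this
  exact this

end Cfsg.Agent.S5639P
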