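import Cfsg.Agent.Helper1.S5639Lib

set_option autoImplicit false

/-! # S5639 piece SUBPRIME: no intermediate field in a prime degree extension of finite fields. -/

namespace Cfsg.Agent.S5639P

open Matrix
open Cfsg.Agent.Helper28.SLMax Cfsg.Agent.Helper28.SimMax

variable {F : Type*} [Field F] {n : ℕ}

local notation "GLn" => Matrix.GeneralLinearGroup (Fin n) F
local notation "Mat" => Matrix (Fin n) (Fin n) F

/-- SUBPRIME: no field strictly between `F₀` and `F` when `|F| = |F₀|^r`, `r` prime. -/
theorem SUBPRIME.eq_or_top [Fintype F] (F₀ K : Subfield F) (hle : F₀ ≤ K) (r : ℕ) (hr : r.Prime)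
    (hcard : Fintype.card F = Nat.card F₀ ^ r) : K = F₀ ∨ K = ⊤ := by
  classical
  -- `K` as an `F₀`-subspace of `F`
  let KS : Submodule F₀ F :=
    { carrier := K
      add_mem' := fun ha hb => K.add_mem ha hb
      zero_mem' := K.zero_mem
      smul_mem' := by
        intro c x hx
        show (c : F) * x ∈ K
        exact K.mul_mem (hle c.2) hx }
  have hKS : ∀ x : F, x ∈ KS ↔ x ∈ K := fun _ => Iff.rfl
  have e : KS ≃ K := Equiv.subtypeEquivRight hKS
  have c1 : Fintype.card KS = Fintype.card F₀ ^ Module.finrank F₀ KS := Module.card_eq_pow_finrank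
  have c2 : Fintype.card F = Fintype.card K ^ Module.finrank K F := Module.card_eq_pow_finrank
  have c3 : Fintype.card K = Fintype.card KS := (Fintype.card_congr e).symm
  set a := Module.finrank F₀ KS with ha
  set b := Module.finrank K F with hb
  have hq : 2 ≤ Fintype.card F₀ := Fintype.one_lt_card
  rw [Nat.card_eq_fintype_card] at hcard
  have hab : r = a * b := by
    apply Nat.pow_right_injective hq
    show Fintype.card F₀ ^ r = Fintype.card F₀ ^ (a * b)
    rw [pow_mul, ← c1, ← c3, ← c2, hcard]
  have hcases : a = 1 ∨ b = 1 := by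
    rcases (Nat.dvd_prime hr).mp ⟨b, hab⟩ with h | h
    · exact Or.inl h
    · right
      have h0 : 0 < a := by
        rcases Nat.eq_zero_or_pos a with h0 | h0
        · rw [h0, zero_mul] at hab
          exact absurd hab hr.ne_zero
        · exact h0
      have : a * b = a * 1 := by rw [mul_one, ← hab, h]
      exact Nat.eq_of_mul_eq_mul_left h0 this
  rcases hcases with h | h
  · left
    have hc : Fintype.card K = Fintype.card F₀ := by rw [c3, c1, h, pow_one]
    have hsub : (F₀ : Set F) ⊆ (K : Set F) := hle
    have : (F₀ : Set F) = (K : Set F) := by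
      apply Set.eq_of_subset_of_ncard_le hsub _ (Set.toFinite _)
      rw [← Nat.card_coe_set_eq, ← Nat.card_coe_set_eq]
      show Nat.card K ≤ Nat.card F₀
      rw [Nat.card_eq_fintype_card, Nat.card_eq_fintype_card, hc]
    exact (SetLike.coe_injective this).symm
  · right
    have hc : Fintype.card F = Fintype.card K := by rw [c2, h, pow_one]
    have : (K : Set F) = Set.univ := by
      apply Set.eq_of_subset_of_ncard_le (Set.subset_univ _) _ (Set.toFinite _)
      rw [Set.ncard_univ, ← Nat.card_coe_set_eq]
      show Nat.card F ≤ Nat.card K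
      rw [Nat.card_eq_fintype_card, Nat.card_eq_fintype_card, hc]
    apply SetLike.coe_injective
    rw [this]
    rfl

end Cfsg.Agent.S5639P
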