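import Cfsg.Agent.Helper28.S5700.Lib
import Cfsg.Agent.Helper28.QWitt

set_option autoImplicit false
set_option linter.unusedSectionVars false
set_option linter.unusedVariables false

/-! # S5700, piece DUAL: dual vectors for one and two `K`-lines -/

namespace Cfsg.Agent.S5700P

open Matrix Module Cfsg.Agent.Helper28.Sg Cfsg.Agent.Helper28.Spin Cfsg.Agent.Helper12.OrthGen

variable {F : Type*} [Field F] [Fintype F] {ι : Type} [Fintype ι] [DecidableEq ι]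
  {Q : QuadraticForm F (ι → F)} {J : Matrix ι ι F} {t p : F}

namespace DUAL

/-- a vector dual to the first of four independent vectors -/
theorem one_of_four (hQ : (QuadraticMap.polarBilin Q).Nondegenerate) (v₁ v₂ v₃ v₄ : ι → F)
    (hind : ∀ a b c d : F, a • v₁ + b • v₂ + c • v₃ + d • v₄ = 0 →
      a = 0 ∧ b = 0 ∧ c = 0 ∧ d = 0) :
    ∃ u : ι → F, B Q v₁ u = 1 ∧ B Q v₂ u = 0 ∧ B Q v₃ u = 0 ∧ B Q v₄ u = 0 := by
  have hv : v₁ ∉ Submodule.span F ({v₂, v₃, v₄} : Set (ι → F)) := by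
    intro h
    rw [Submodule.mem_span_triple] at h
    obtain ⟨a, b, c, h⟩ := h
    have h0 : (-1 : F) • v₁ + a • v₂ + b • v₃ + c • v₄ = 0 := by
      rw [← h]; module
    have := (hind _ _ _ _ h0).1
    exact one_ne_zero (neg_eq_zero.mp this)
  obtain ⟨w, hw1, hw2⟩ := Cfsg.Agent.Helper28.QWitt.exists_dual_vec Q hQ _ v₁ hv
  refine ⟨w, hw2, hw1 _ (Submodule.subset_span (by simp)), hw1 _ (Submodule.subset_span (by simp)),
    hw1 _ (Submodule.subset_span (by simp))⟩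

/-- prescribed values on four independent vectors -/
theorem four (hQ : (QuadraticMap.polarBilin Q).Nondegenerate) (v₁ v₂ v₃ v₄ : ι → F)
    (hind : ∀ a b c d : F, a • v₁ + b • v₂ + c • v₃ + d • v₄ = 0 →
      a = 0 ∧ b = 0 ∧ c = 0 ∧ d = 0) (c₁ c₂ c₃ c₄ : F) :
    ∃ u : ι → F, B Q v₁ u = c₁ ∧ B Q v₂ u = c₂ ∧ B Q v₃ u = c₃ ∧ B Q v₄ u = c₄ := by
  obtain ⟨u₁, h11, h12, h13, h14⟩ := one_of_four hQ v₁ v₂ v₃ v₄ hind
  obtain ⟨u₂, h22, h23, h24, h21⟩ := one_of_four hQ v₂ v₃ v₄ v₁ (fun a b c d h => by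
    have := hind d a b c (by rw [← h]; module)
    exact ⟨this.2.1, this.2.2.1, this.2.2.2, this.1⟩)
  obtain ⟨u₃, h33, h34, h31, h32⟩ := one_of_four hQ v₃ v₄ v₁ v₂ (fun a b c d h => by
    have := hind c d a b (by rw [← h]; module)
    exact ⟨this.2.2.1, this.2.2.2, this.1, this.2.1⟩)
  obtain ⟨u₄, h44, h41, h42, h43⟩ := one_of_four hQ v₄ v₁ v₂ v₃ (fun a b c d h => by
    have := hind b c d a (by rw [← h]; module)
    exact ⟨this.2.2.2, this.1, this.2.1, this.2.2.1⟩)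
  refine ⟨c₁ • u₁ + c₂ • u₂ + c₃ • u₃ + c₄ • u₄, ?_, ?_, ?_, ?_⟩ <;>
  · simp only [B_add_right, B_smul_right, h11, h12, h13, h14, h21, h22, h23, h24, h31, h32, h33,
      h34, h41, h42, h43, h44]
    ring

theorem exists_dual (U : UData Q J t p) (hQ : (QuadraticMap.polarBilin Q).Nondegenerate)
    {b a : ι → F} (ha : ¬ InK J b a) :
    ∃ y : ι → F, B Q b y = 0 ∧ B Q (J *ᵥ b) y = 0 ∧ B Q a y = 1 := by
  have hv : a ∉ Submodule.span F ({b, J *ᵥ b} : Set (ι → F)) := by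
    intro h
    rw [Submodule.mem_span_pair] at h
    obtain ⟨x, y, h⟩ := h
    exact ha ⟨x, y, h.symm⟩
  obtain ⟨w, hw1, hw2⟩ := Cfsg.Agent.Helper28.QWitt.exists_dual_vec Q hQ _ a hv
  exact ⟨w, hw1 _ (Submodule.subset_span (by simp)), hw1 _ (Submodule.subset_span (by simp)), hw2⟩

theorem exists_dual2 (U : UData Q J t p) (hQ : (QuadraticMap.polarBilin Q).Nondegenerate)
    {b : ι → F} (hb : b ≠ 0) (c₁ c₂ : F) :
    ∃ y : ι → F, B Q b y = c₁ ∧ B Q (J *ᵥ b) y = c₂ := by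
  have h1 : J *ᵥ b ∉ Submodule.span F ({b} : Set (ι → F)) := by
    intro h
    rw [Submodule.mem_span_singleton] at h
    obtain ⟨c, h⟩ := h
    have h0 : c • b + (-1 : F) • J *ᵥ b = 0 := by rw [h]; module
    exact one_ne_zero (neg_eq_zero.mp (U.comb_eq_zero hb h0).2)
  have h2 : b ∉ Submodule.span F ({J *ᵥ b} : Set (ι → F)) := by
    intro h
    rw [Submodule.mem_span_singleton] at h
    obtain ⟨c, h⟩ := h
    have h0 : (1 : F) • b + (-c) • J *ᵥ b = 0 := by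
      have : (1 : F) • b + (-c) • J *ᵥ b = b - c • J *ᵥ b := by module
      rw [this, h, sub_self]
    exact one_ne_zero (U.comb_eq_zero hb h0).1
  obtain ⟨y₂, hy21, hy22⟩ := Cfsg.Agent.Helper28.QWitt.exists_dual_vec Q hQ _ _ h1
  obtain ⟨y₁, hy11, hy12⟩ := Cfsg.Agent.Helper28.QWitt.exists_dual_vec Q hQ _ _ h2
  have e21 : B Q b y₂ = 0 := hy21 _ (Submodule.subset_span (by simp))
  have e22 : B Q (J *ᵥ b) y₂ = 1 := hy22
  have e11 : B Q (J *ᵥ b) y₁ = 0 := hy11 _ (Submodule.subset_span (by simp))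
  have e12 : B Q b y₁ = 1 := hy12
  refine ⟨c₁ • y₁ + c₂ • y₂, ?_, ?_⟩ <;>
  · simp only [B_add_right, B_smul_right, e21, e22, e11, e12]
    ring

theorem exists_dual4 (U : UData Q J t p) (hQ : (QuadraticMap.polarBilin Q).Nondegenerate)
    {x y : ι → F} (hx : x ≠ 0) (hy : ¬ InK J x y) (c₁ c₂ c₃ c₄ : F) :
    ∃ u : ι → F, B Q x u = c₁ ∧ B Q (J *ᵥ x) u = c₂ ∧ B Q y u = c₃ ∧ B Q (J *ᵥ y) u = c₄ := by
  refine four hQ x (J *ᵥ x) y (J *ᵥ y) (fun a b c d h => ?_) c₁ c₂ c₃ c₄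
  exact U.comb4_eq_zero hx hy (by rw [← h]; module)

end DUAL

end Cfsg.Agent.S5700P
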