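import Mathlib
import Cfsg.Prelude.Def_ClassicalGeometry
import Cfsg.Agent.Helper16.S5955Defs
import Cfsg.Agent.Helper18.S5961ISOM

/-! S5955 piece TRANSPORT (driver helper16): an abstract `IsYSp` space of dimension `2d` is
realised by a symplectic matrix. -/

set_option autoImplicit false
open scoped MatrixGroups

namespace Cfsg.Agent.S5955P

open Polynomial Cfsg.Agent.Helper2.SympInvol Cfsg.Agent.Helper2.SympUnits Cfsg.Agent.S5961P

/-- TRANSPORT -/
theorem exists_sp_of_ysp {F V : Type*} [Field F] [AddCommGroup V] [Module F V]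
    [FiniteDimensional F V] (B : LinearMap.BilinForm F V) (y : Module.End F V) (r : ℕ)
    (h : IsYSp B y r) (d : ℕ) (hd : Module.finrank F V = 2 * d) :
    ∃ (x : Matrix.symplecticGroup (Fin d) F) (e : V ≃ₗ[F] (Fin d ⊕ Fin d → F)),
      (∀ u v, Cfsg.sympForm d F (e u) (e v) = B u v) ∧
      (∀ v, e (y v) =
        Matrix.toLin' (x : Matrix (Fin d ⊕ Fin d) (Fin d ⊕ Fin d) F) (e v)) := by
  have hfr : Module.finrank F V = Module.finrank F (Fin d ⊕ Fin d → F) := by
    rw [hd, Module.finrank_fintype_fun_eq_card, Fintype.card_sum, Fintype.card_fin]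
    ring
  obtain ⟨e, he⟩ := exists_isometry B (sB d F) h.alt (sB_alt d F) h.nondeg (sB_nondeg d F) hfr
  set φ : (Fin d ⊕ Fin d → F) →ₗ[F] (Fin d ⊕ Fin d → F) :=
    (e : V →ₗ[F] (Fin d ⊕ Fin d → F)) ∘ₗ y ∘ₗ (e.symm : (Fin d ⊕ Fin d → F) →ₗ[F] V) with hφ
  have hφe : ∀ v, φ (e v) = e (y v) := by
    intro v
    simp [hφ]
  have hmem : LinearMap.toMatrix' φ ∈ Matrix.symplecticGroup (Fin d) F := by
    apply mem_symplectic_of_isometry
    intro u w
    rw [Matrix.toLin'_toMatrix']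
    obtain ⟨u', rfl⟩ := e.surjective u
    obtain ⟨w', rfl⟩ := e.surjective w
    rw [hφe, hφe, he, he, h.isom]
  refine ⟨⟨_, hmem⟩, e, fun u v => ?_, fun v => ?_⟩
  · rw [← sB_apply, he]
  · show e (y v) = Matrix.toLin' (LinearMap.toMatrix' φ) (e v)
    rw [Matrix.toLin'_toMatrix', hφe]

end Cfsg.Agent.S5955P
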