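import Mathlib

set_option autoImplicit false

/-! Coprime automorphisms of finite `p`-groups and elements of order `p` or `4`.

Main result `coprime_trivial`: if a conjugation-closed family `𝓛` of automorphisms of coprime
order of a finite `p`-group `G` acts trivially on every invariant subgroup of exponent `p`
(or `4` when `p = 2`) inside an invariant subgroup `H₀` containing all `x⁻¹ α(x)`, then `𝓛 ⊆ {1}`. -/

namespace Cfsg.Agent.Helper25.PFour

open scoped commutatorElement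

variable {G : Type*} [Group G]

/-- If `α` has order prime to `p` and fixes `x⁻¹ α(x)` (in a `p`-group), then `α` fixes `x`. -/
theorem apply_eq_of_fixes (p : ℕ) [hp : Fact p.Prime] (hG : IsPGroup p G) (α : MulAut G)
    (hcop : Nat.Coprime (orderOf α) p) (x : G) (h : α (x⁻¹ * α x) = x⁻¹ * α x) : α x = x := by
  set c := x⁻¹ * α x with hc
  have hαx : α x = x * c := by rw [hc]; group
  have key : ∀ k : ℕ, (α ^ k) x = x * c ^ k := by
    intro k
    induction k with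
    | zero => simp
    | succ k ih =>
      rw [pow_succ', MulAut.mul_apply, ih, map_mul, map_pow, h, hαx, pow_succ', mul_assoc]
  have h1 := key (orderOf α)
  rw [pow_orderOf_eq_one, MulAut.one_apply] at h1
  have h2 : c ^ orderOf α = 1 := by
    have h1' : x * c ^ orderOf α = x * 1 := by rw [mul_one]; exact h1.symm
    exact mul_left_cancel h1'
  obtain ⟨m, hm⟩ := (IsPGroup.iff_orderOf.mp hG) c
  have h3 : orderOf c ∣ orderOf α := orderOf_dvd_of_pow_eq_one h2
  have h4 : Nat.Coprime (orderOf c) (orderOf α) := by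
    rw [hm]; exact Nat.Coprime.pow_left m hcop.symm
  have h5 : orderOf c = 1 := Nat.Coprime.eq_one_of_dvd h4 h3
  have h6 : c = 1 := orderOf_eq_one_iff.mp h5
  rw [hαx, h6, mul_one]

/-- The exponent bound: `p` for odd `p`, `4` for `p = 2`. -/
def qexp (p : ℕ) : ℕ := if p = 2 then 4 else p

/-- The subgroup generated by the `p`-th powers and the commutators of elements of `Q`. -/
def phiSub (p : ℕ) (Q : Subgroup G) : Subgroup G :=
  Subgroup.closure ({y | ∃ x ∈ Q, y = x ^ p} ∪ {y | ∃ a ∈ Q, ∃ b ∈ Q, y = ⁅a, b⁆})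

theorem phiSub_le (p : ℕ) (Q : Subgroup G) : phiSub p Q ≤ Q := by
  rw [phiSub, Subgroup.closure_le]
  rintro y (⟨x, hx, rfl⟩ | ⟨a, ha, b, hb, rfl⟩)
  · exact Q.pow_mem hx p
  · rw [commutatorElement_def]
    exact Q.mul_mem (Q.mul_mem (Q.mul_mem ha hb) (Q.inv_mem ha)) (Q.inv_mem hb)

theorem pow_mem_phiSub (p : ℕ) {Q : Subgroup G} {x : G} (hx : x ∈ Q) : x ^ p ∈ phiSub p Q :=
  Subgroup.subset_closure (Or.inl ⟨x, hx, rfl⟩)

theorem commutator_mem_phiSub (p : ℕ) {Q : Subgroup G} {a b : G} (ha : a ∈ Q) (hb : b ∈ Q) :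
    ⁅a, b⁆ ∈ phiSub p Q :=
  Subgroup.subset_closure (Or.inr ⟨a, ha, b, hb, rfl⟩)

/-- `phiSub` is preserved by any endomorphism-like map preserving `Q`. -/
theorem map_mem_phiSub (p : ℕ) {Q : Subgroup G} (f : G →* G) (hf : ∀ x ∈ Q, f x ∈ Q) {d : G}
    (hd : d ∈ phiSub p Q) : f d ∈ phiSub p Q := by
  induction hd using Subgroup.closure_induction with
  | mem y hy =>
    rcases hy with ⟨x, hx, rfl⟩ | ⟨a, ha, b, hb, rfl⟩
    · rw [map_pow]; exact pow_mem_phiSub p (hf x hx)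
    · rw [map_commutatorElement]; exact commutator_mem_phiSub p (hf a ha) (hf b hb)
  | one => rw [map_one]; exact Subgroup.one_mem _
  | mul a b _ _ iha ihb => rw [map_mul]; exact Subgroup.mul_mem _ iha ihb
  | inv a _ iha => rw [map_inv]; exact Subgroup.inv_mem _ iha

theorem conj_mem_phiSub (p : ℕ) {Q : Subgroup G} {x d : G} (hx : x ∈ Q) (hd : d ∈ phiSub p Q) :
    x * d * x⁻¹ ∈ phiSub p Q := by
  have := map_mem_phiSub p (Q := Q) (MulAut.conj x).toMonoidHom (fun y hy => by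
    show x * y * x⁻¹ ∈ Q
    exact Q.mul_mem (Q.mul_mem hx hy) (Q.inv_mem hx)) hd
  exact this

theorem pow_mul_comm_of_central {x y : G} (hzy : Commute ⁅y, x⁆ y)
    (n : ℕ) : y ^ n * x = ⁅y, x⁆ ^ n * x * y ^ n := by
  have hyx : y * x = ⁅y, x⁆ * x * y := by rw [commutatorElement_def]; group
  induction n with
  | zero => simp
  | succ n ih =>
    have hc : Commute (⁅y, x⁆ ^ n) y := hzy.pow_left n
    calc y ^ (n + 1) * x = y * (y ^ n * x) := by rw [pow_succ', mul_assoc]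
      _ = y * (⁅y, x⁆ ^ n * x * y ^ n) := by rw [ih]
      _ = (y * ⁅y, x⁆ ^ n) * x * y ^ n := by simp only [mul_assoc]
      _ = (⁅y, x⁆ ^ n * y) * x * y ^ n := by rw [hc.eq]
      _ = ⁅y, x⁆ ^ n * (y * x) * y ^ n := by simp only [mul_assoc]
      _ = ⁅y, x⁆ ^ n * (⁅y, x⁆ * x * y) * y ^ n := by rw [← hyx]
      _ = ⁅y, x⁆ ^ (n + 1) * x * y ^ (n + 1) := by
          rw [pow_succ, pow_succ' y]; simp only [mul_assoc]

theorem commutator_pow_of_central {x y : G} (hzy : Commute ⁅y, x⁆ y)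
    (n : ℕ) : ⁅y ^ n, x⁆ = ⁅y, x⁆ ^ n := by
  have h := pow_mul_comm_of_central (x := x) hzy n
  rw [commutatorElement_def, h]
  group

theorem mul_pow_of_central {x y : G} (hzx : Commute ⁅y, x⁆ x) (hzy : Commute ⁅y, x⁆ y)
    (n : ℕ) : (x * y) ^ n = x ^ n * y ^ n * ⁅y, x⁆ ^ (n.choose 2) := by
  induction n with
  | zero => simp
  | succ n ih =>
    have h1 := pow_mul_comm_of_central (x := x) hzy n
    have hcx : Commute (⁅y, x⁆ ^ (n.choose 2)) x := hzx.pow_left _
    have hcy : Commute (⁅y, x⁆ ^ (n.choose 2)) y := hzy.pow_left _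
    have hnx : Commute (⁅y, x⁆ ^ n) x := hzx.pow_left _
    have hny : Commute (⁅y, x⁆ ^ n) (y ^ (n+1)) := (hzy.pow_left _).pow_right _
    have hch : (n + 1).choose 2 = n + n.choose 2 := by
      rw [Nat.choose_succ_succ' n 1, Nat.choose_one_right]
    calc (x * y) ^ (n + 1) = (x * y) ^ n * (x * y) := pow_succ _ _
      _ = x ^ n * y ^ n * ⁅y, x⁆ ^ (n.choose 2) * (x * y) := by rw [ih]
      _ = x ^ n * y ^ n * (⁅y, x⁆ ^ (n.choose 2) * x) * y := by simp only [mul_assoc]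
      _ = x ^ n * y ^ n * (x * ⁅y, x⁆ ^ (n.choose 2)) * y := by rw [hcx.eq]
      _ = x ^ n * (y ^ n * x) * (⁅y, x⁆ ^ (n.choose 2) * y) := by simp only [mul_assoc]
      _ = x ^ n * (⁅y, x⁆ ^ n * x * y ^ n) * (y * ⁅y, x⁆ ^ (n.choose 2)) := by rw [h1, hcy.eq]
      _ = x ^ n * (⁅y, x⁆ ^ n * x) * (y ^ n * y) * ⁅y, x⁆ ^ (n.choose 2) := by
          simp only [mul_assoc]
      _ = x ^ n * (x * ⁅y, x⁆ ^ n) * y ^ (n + 1) * ⁅y, x⁆ ^ (n.choose 2) := by
          rw [hnx.eq, ← pow_succ]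
      _ = x ^ n * x * (⁅y, x⁆ ^ n * y ^ (n + 1)) * ⁅y, x⁆ ^ (n.choose 2) := by
          simp only [mul_assoc]
      _ = x ^ (n + 1) * (y ^ (n + 1) * ⁅y, x⁆ ^ n) * ⁅y, x⁆ ^ (n.choose 2) := by
          rw [hny.eq, ← pow_succ]
      _ = x ^ (n + 1) * y ^ (n + 1) * ⁅y, x⁆ ^ ((n + 1).choose 2) := by
          rw [hch, pow_add ⁅y, x⁆ n]; simp only [mul_assoc]

theorem prime_dvd_choose_qexp (p : ℕ) [hp : Fact p.Prime] : p ∣ (qexp p).choose 2 := by
  unfold qexp
  split_ifs with h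
  · subst h; decide
  · have h3 : 2 < p := lt_of_le_of_ne hp.out.two_le (Ne.symm h)
    exact Nat.Prime.dvd_choose_self hp.out (by norm_num) h3

theorem pow_qexp_mem_phiSub (p : ℕ) {Q : Subgroup G} {x : G} (hx : x ∈ Q) :
    x ^ qexp p ∈ phiSub p Q := by
  unfold qexp
  split_ifs with h
  · subst h
    have : x ^ 4 = (x ^ 2) ^ 2 := by rw [← pow_mul]
    rw [this]
    exact Subgroup.pow_mem _ (pow_mem_phiSub 2 hx) 2
  · exact pow_mem_phiSub p hx

/-- If `Q = [Q, 𝓛]` and `𝓛` centralizes `Φ(Q)`, then `Q` has exponent dividing `p` (or `4`). -/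
theorem exponent_of_gen (p : ℕ) [hp : Fact p.Prime] (Q : Subgroup G) (𝓛 : Set (MulAut G))
    (hinv : ∀ α ∈ 𝓛, ∀ x ∈ Q, α x ∈ Q)
    (hgen : Q ≤ Subgroup.closure {y | ∃ α ∈ 𝓛, ∃ x ∈ Q, y = x⁻¹ * α x})
    (hfix : ∀ α ∈ 𝓛, ∀ d ∈ phiSub p Q, α d = d) :
    ∀ x ∈ Q, x ^ qexp p = 1 := by
  have hcent : ∀ d ∈ phiSub p Q, ∀ y ∈ Q, Commute d y := by
    intro d hd y hy
    have hy' := hgen hy
    clear hy
    induction hy' using Subgroup.closure_induction with
    | mem g hg =>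
      obtain ⟨α, hα, x, hx, rfl⟩ := hg
      have h1 : α (x * d * x⁻¹) = x * d * x⁻¹ := hfix α hα _ (conj_mem_phiSub p hx hd)
      rw [map_mul, map_mul, map_inv, hfix α hα d hd] at h1
      have h2 : α x * d = x * d * x⁻¹ * α x := by rw [← h1]; group
      show d * (x⁻¹ * α x) = x⁻¹ * α x * d
      calc d * (x⁻¹ * α x) = x⁻¹ * (x * d * x⁻¹ * α x) := by group
        _ = x⁻¹ * (α x * d) := by rw [h2]
        _ = x⁻¹ * α x * d := by group
    | one => exact Commute.one_right d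
    | mul a b _ _ iha ihb => exact iha.mul_right ihb
    | inv a _ iha => exact iha.inv_right
  -- commutators have order dividing `p`
  have hzp : ∀ a ∈ Q, ∀ b ∈ Q, ⁅b, a⁆ ^ p = 1 := by
    intro a ha b hb
    have hz := commutator_mem_phiSub p hb ha
    rw [← commutator_pow_of_central (hcent _ hz b hb) p, commutatorElement_eq_one_iff_commute]
    exact hcent _ (pow_mem_phiSub p hb) a ha
  have hmul : ∀ a ∈ Q, ∀ b ∈ Q, (a * b) ^ qexp p = a ^ qexp p * b ^ qexp p := by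
    intro a ha b hb
    have hz := commutator_mem_phiSub p hb ha
    rw [mul_pow_of_central (hcent _ hz a ha) (hcent _ hz b hb)]
    obtain ⟨k, hk⟩ := prime_dvd_choose_qexp p
    rw [hk, pow_mul, hzp a ha b hb, one_pow, mul_one]
  -- the kernel of the power map
  let K : Subgroup G :=
    { carrier := {x | x ∈ Q ∧ x ^ qexp p = 1}
      one_mem' := ⟨Q.one_mem, one_pow _⟩
      mul_mem' := by
        rintro a b ⟨ha, ha'⟩ ⟨hb, hb'⟩
        exact ⟨Q.mul_mem ha hb, by rw [hmul a ha b hb, ha', hb', one_mul]⟩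
      inv_mem' := by
        rintro a ⟨ha, ha'⟩
        exact ⟨Q.inv_mem ha, by rw [inv_pow, ha', inv_one]⟩ }
  have hK : Subgroup.closure {y | ∃ α ∈ 𝓛, ∃ x ∈ Q, y = x⁻¹ * α x} ≤ K := by
    rw [Subgroup.closure_le]
    rintro g ⟨α, hα, x, hx, rfl⟩
    have hαx := hinv α hα x hx
    refine ⟨Q.mul_mem (Q.inv_mem hx) hαx, ?_⟩
    rw [hmul _ (Q.inv_mem hx) _ hαx, ← map_pow, hfix α hα _ (pow_qexp_mem_phiSub p hx), inv_pow,
      inv_mul_cancel]
  intro x hx
  exact (hK (hgen hx)).2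

theorem card_phiSub_lt (p : ℕ) [hp : Fact p.Prime] (Q : Subgroup G) [Finite Q]
    (hQ : IsPGroup p Q) (hne : Q ≠ ⊥) : Nat.card (phiSub p Q) < Nat.card Q := by
  obtain ⟨n, hn⟩ := IsPGroup.iff_card.mp hQ
  have hn0 : n ≠ 0 := by
    rintro rfl
    rw [pow_zero] at hn
    exact hne (Subgroup.card_eq_one.mp hn)
  obtain ⟨m, rfl⟩ := Nat.exists_eq_succ_of_ne_zero hn0
  obtain ⟨M, hM⟩ := Sylow.exists_subgroup_card_pow_prime p (G := Q) (n := m)
    (by rw [hn]; exact pow_dvd_pow p (Nat.le_succ m))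
  have hidx : M.index = p := by
    have := M.card_mul_index
    rw [hM, hn, pow_succ] at this
    exact Nat.eq_of_mul_eq_mul_left (pow_pos hp.out.pos m) this
  have hnorm : M.Normal := by
    apply Subgroup.normal_of_index_eq_minFac_card
    rw [hidx, hn, Nat.Prime.pow_minFac hp.out (Nat.succ_ne_zero m)]
  have hcardq : Nat.card (Q ⧸ M) = p := by rw [← Subgroup.index_eq_card, hidx]
  have : IsCyclic (Q ⧸ M) := isCyclic_of_prime_card hcardq
  have hcomm : ∀ u v : Q ⧸ M, u * v = v * u := fun u v => IsCyclic.commGroup.mul_comm u v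
  have hle : phiSub p Q ≤ M.map Q.subtype := by
    rw [phiSub, Subgroup.closure_le]
    rintro y (⟨x, hx, rfl⟩ | ⟨a, ha, b, hb, rfl⟩)
    · refine ⟨(⟨x, hx⟩ : Q) ^ p, ?_, rfl⟩
      have := Subgroup.pow_index_mem M (⟨x, hx⟩ : Q)
      rwa [hidx] at this
    · refine ⟨⁅(⟨a, ha⟩ : Q), ⟨b, hb⟩⁆, ?_, rfl⟩
      rw [SetLike.mem_coe, ← QuotientGroup.eq_one_iff, commutatorElement_def]
      simp only [QuotientGroup.mk_mul, QuotientGroup.mk_inv]
      rw [hcomm (QuotientGroup.mk ⟨a, ha⟩) (QuotientGroup.mk ⟨b, hb⟩)]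
      group
  have : Finite (M.map Q.subtype) := by
    have : (M.map Q.subtype) ≤ Q := by
      rintro _ ⟨y, _, rfl⟩; exact y.2
    exact Finite.of_injective (Subgroup.inclusion this) (Subgroup.inclusion_injective this)
  calc Nat.card (phiSub p Q) ≤ Nat.card (M.map Q.subtype) := Subgroup.card_le_of_le hle
    _ = Nat.card M := Subgroup.card_map_of_injective Q.subtype_injective
    _ = p ^ m := hM
    _ < p ^ (m + 1) := Nat.pow_lt_pow_right hp.out.one_lt (Nat.lt_succ_self m)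
    _ = Nat.card Q := hn.symm

/-- An automorphism of coprime order stabilizing a chain ending in `⊥` is trivial on its top. -/
theorem trivial_of_stabilizes_chain (p : ℕ) [Fact p.Prime] (hG : IsPGroup p G) (α : MulAut G)
    (hcop : Nat.Coprime (orderOf α) p) (U : ℕ → Subgroup G) (n : ℕ) (hn : U n = ⊥)
    (hstab : ∀ j, ∀ x ∈ U j, x⁻¹ * α x ∈ U (j + 1)) : ∀ x ∈ U 0, α x = x := by
  have key : ∀ k, k ≤ n → ∀ x ∈ U (n - k), α x = x := by
    intro k
    induction k with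
    | zero =>
      intro _ x hx
      rw [Nat.sub_zero, hn, Subgroup.mem_bot] at hx
      rw [hx, map_one]
    | succ k ih =>
      intro hk x hx
      apply apply_eq_of_fixes p hG α hcop
      apply ih (Nat.le_of_succ_le hk)
      have := hstab _ x hx
      rwa [show n - (k + 1) + 1 = n - k by omega] at this
  have := key n le_rfl
  rwa [Nat.sub_self] at this

theorem coprime_trivial (p : ℕ) [hp : Fact p.Prime] [Finite G] (hG : IsPGroup p G)
    (Γ : Subgroup (MulAut G)) (𝓛 : Set (MulAut G)) (h𝓛Γ : ∀ α ∈ 𝓛, α ∈ Γ)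
    (hconj : ∀ γ ∈ Γ, ∀ α ∈ 𝓛, γ * α * γ⁻¹ ∈ 𝓛)
    (hcop : ∀ α ∈ 𝓛, Nat.Coprime (orderOf α) p)
    (H₀ : Subgroup G) (hH₀inv : ∀ γ ∈ Γ, ∀ x ∈ H₀, γ x ∈ H₀)
    (hH₀ : ∀ α ∈ 𝓛, ∀ x : G, x⁻¹ * α x ∈ H₀)
    (hexp : ∀ U : Subgroup G, U ≤ H₀ → (∀ γ ∈ Γ, ∀ x ∈ U, γ x ∈ U) →
      (∀ x ∈ U, x ^ qexp p = 1) → ∀ α ∈ 𝓛, ∀ x ∈ U, α x = x) :
    ∀ α ∈ 𝓛, α = 1 := by
  have claim : ∀ n : ℕ, ∀ U : Subgroup G, U ≤ H₀ → (∀ γ ∈ Γ, ∀ x ∈ U, γ x ∈ U) →
      Nat.card U = n → ∀ α ∈ 𝓛, ∀ x ∈ U, α x = x := by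
    intro n
    induction n using Nat.strong_induction_on with
    | _ n ih =>
      intro U hUH hUinv hcard
      set C : Subgroup G := Subgroup.closure {y | ∃ α ∈ 𝓛, ∃ x ∈ U, y = x⁻¹ * α x} with hC
      have hCU : C ≤ U := by
        rw [hC, Subgroup.closure_le]
        rintro y ⟨α, hα, x, hx, rfl⟩
        exact U.mul_mem (U.inv_mem hx) (hUinv α (h𝓛Γ α hα) x hx)
      have hCinv : ∀ γ ∈ Γ, ∀ x ∈ C, γ x ∈ C := by
        intro γ hγ x hx
        induction hx using Subgroup.closure_induction with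
        | mem y hy =>
          obtain ⟨α, hα, x, hx, rfl⟩ := hy
          apply Subgroup.subset_closure
          refine ⟨γ * α * γ⁻¹, hconj γ hγ α hα, γ x, hUinv γ hγ x hx, ?_⟩
          simp [MulAut.mul_apply]
        | one => rw [map_one]; exact Subgroup.one_mem _
        | mul a b _ _ iha ihb => rw [map_mul]; exact Subgroup.mul_mem _ iha ihb
        | inv a _ iha => rw [map_inv]; exact Subgroup.inv_mem _ iha
      by_cases hCeq : C = U
      · by_cases hbot : U = ⊥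
        · intro α _ x hx
          rw [hbot, Subgroup.mem_bot] at hx
          rw [hx, map_one]
        · have hUp : IsPGroup p U := hG.to_subgroup U
          have hlt := card_phiSub_lt p U hUp hbot
          have hfix : ∀ α ∈ 𝓛, ∀ d ∈ phiSub p U, α d = d :=
            ih _ (hcard ▸ hlt) (phiSub p U) ((phiSub_le p U).trans hUH)
              (fun γ hγ x hx => map_mem_phiSub p γ.toMonoidHom (hUinv γ hγ) hx) rfl
          have hex := exponent_of_gen p U 𝓛 (fun α hα => hUinv α (h𝓛Γ α hα))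
            (by rw [← hC, hCeq]) hfix
          exact hexp U hUH hUinv hex
      · have hlt : Nat.card C < n := by
          rw [← hcard]
          by_contra hcon
          push Not at hcon
          exact hCeq (Subgroup.eq_of_le_of_card_ge hCU hcon)
        have hfixC := ih _ hlt C (hCU.trans hUH) hCinv rfl
        intro α hα x hx
        apply apply_eq_of_fixes p hG α (hcop α hα)
        apply hfixC α hα
        exact Subgroup.subset_closure ⟨α, hα, x, hx, rfl⟩
  intro α hα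
  have hfix := claim _ H₀ le_rfl hH₀inv rfl α hα
  ext x
  rw [MulAut.one_apply]
  exact apply_eq_of_fixes p hG α (hcop α hα) x (hfix _ (hH₀ α hα x))

/-- A finite group whose elements of order prime to `p` are all trivial is a `p`-group. -/
theorem isPGroup_of_coprime_trivial (p : ℕ) [hp : Fact p.Prime] {Γ : Type*} [Group Γ] [Finite Γ]
    (h : ∀ g : Γ, Nat.Coprime (orderOf g) p → g = 1) : IsPGroup p Γ := by
  intro g
  have hpos : 0 < orderOf g := orderOf_pos g
  obtain ⟨k, m, hm, hkm⟩ := Nat.exists_eq_pow_mul_and_not_dvd hpos.ne' p hp.out.ne_one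
  refine ⟨k, h _ ?_⟩
  have h1 : orderOf (g ^ (p ^ k)) = m := by
    rw [orderOf_pow_of_dvd (pow_ne_zero k hp.out.ne_zero) (hkm ▸ Dvd.intro m rfl), hkm,
      Nat.mul_div_cancel_left m (pow_pos hp.out.pos k)]
  rw [h1]
  exact ((Nat.Prime.coprime_iff_not_dvd hp.out).mpr hm).symm

end Cfsg.Agent.Helper25.PFour
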