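import Mathlib
import Cfsg.Agent.Helper25.PFour

set_option autoImplicit false

/-! A finite `p`-group with a chain of characteristic subgroups all of whose factors are cyclic
has an automorphism group whose derived subgroup is a `p`-group. -/

namespace Cfsg.Agent.Helper25.CharChain

open scoped commutatorElement

variable {H : Type*} [Group H]

theorem quot_map_eq (V : Subgroup H) [V.Normal] (θ : MulAut H) (hθ : ∀ x ∈ V, θ x ∈ V)
    {x y : H} (h : (x : H ⧸ V) = (y : H ⧸ V)) : ((θ x : H) : H ⧸ V) = ((θ y : H) : H ⧸ V) := by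
  rw [QuotientGroup.eq] at h ⊢
  have := hθ _ h
  rwa [map_mul, map_inv] at this

theorem comm_stab_step (W V : Subgroup H) [V.Normal]
    (α β : MulAut H) (hαW : ∀ x ∈ W, α x ∈ W) (hβW : ∀ x ∈ W, β x ∈ W)
    (hαW' : ∀ x ∈ W, α⁻¹ x ∈ W) (hβW' : ∀ x ∈ W, β⁻¹ x ∈ W)
    (hαV : ∀ x ∈ V, α x ∈ V) (hβV : ∀ x ∈ V, β x ∈ V)
    (g : H) (hg : g ∈ W) (hcyc : ∀ y ∈ W, ∃ k : ℤ, (g ^ k)⁻¹ * y ∈ V) :
    ∀ x ∈ W, x⁻¹ * ⁅α, β⁆ x ∈ V := by
  obtain ⟨a, ha⟩ := hcyc (α g) (hαW g hg)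
  obtain ⟨b, hb⟩ := hcyc (β g) (hβW g hg)
  have ha' : ((α g : H) : H ⧸ V) = ((g : H) : H ⧸ V) ^ a := by
    rw [← QuotientGroup.mk_zpow]; exact (QuotientGroup.eq.mpr ha).symm
  have hb' : ((β g : H) : H ⧸ V) = ((g : H) : H ⧸ V) ^ b := by
    rw [← QuotientGroup.mk_zpow]; exact (QuotientGroup.eq.mpr hb).symm
  have comm : ∀ x ∈ W, ((α (β x) : H) : H ⧸ V) = ((β (α x) : H) : H ⧸ V) := by
    intro x hx
    obtain ⟨k, hk⟩ := hcyc x hx
    have hk' : ((x : H) : H ⧸ V) = ((g ^ k : H) : H ⧸ V) := (QuotientGroup.eq.mpr hk).symm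
    have h1 : ((β x : H) : H ⧸ V) = ((g ^ (b * k) : H) : H ⧸ V) := by
      rw [quot_map_eq V β hβV hk', map_zpow, QuotientGroup.mk_zpow, hb', QuotientGroup.mk_zpow, ← zpow_mul]
    have h2 : ((α (β x) : H) : H ⧸ V) = ((g : H) : H ⧸ V) ^ (a * (b * k)) := by
      rw [quot_map_eq V α hαV h1, map_zpow, QuotientGroup.mk_zpow, ha', ← zpow_mul]
    have h3 : ((α x : H) : H ⧸ V) = ((g ^ (a * k) : H) : H ⧸ V) := by
      rw [quot_map_eq V α hαV hk', map_zpow, QuotientGroup.mk_zpow, ha', QuotientGroup.mk_zpow, ← zpow_mul]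
    have h4 : ((β (α x) : H) : H ⧸ V) = ((g : H) : H ⧸ V) ^ (b * (a * k)) := by
      rw [quot_map_eq V β hβV h3, map_zpow, QuotientGroup.mk_zpow, hb', ← zpow_mul]
    rw [h2, h4]
    congr 1
    ring
  intro x hx
  set d := α⁻¹ (β⁻¹ x) with hd
  have hdW : d ∈ W := hαW' _ (hβW' x hx)
  have e1 : ⁅α, β⁆ x = α (β d) := by
    rw [commutatorElement_def]
    rfl
  have e2 : β (α d) = x := by
    rw [hd, MulAut.apply_inv_self, MulAut.apply_inv_self]
  rw [← QuotientGroup.eq, e1, comm d hdW, e2]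

/-- Main lemma: a chain of characteristic subgroups with cyclic factors forces the derived
subgroup of the automorphism group to be a `p`-group. -/
theorem commutator_mulAut_isPGroup [Finite H] (p : ℕ) [Fact p.Prime] (hH : IsPGroup p H)
    (U : ℕ → Subgroup H) (n : ℕ) (h0 : U 0 = ⊤) (hn : U n = ⊥)
    (hchar : ∀ j, ∀ α : MulAut H, ∀ x ∈ U j, α x ∈ U j)
    (hcyc : ∀ j, ∃ g ∈ U j, ∀ y ∈ U j, ∃ k : ℤ, (g ^ k)⁻¹ * y ∈ U (j + 1)) :
    IsPGroup p (commutator (MulAut H)) := by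
  have hnorm : ∀ j, (U j).Normal := by
    intro j
    constructor
    intro x hx g
    exact hchar j (MulAut.conj g) x hx
  let K : Subgroup (MulAut H) :=
    { carrier := {γ | ∀ j, ∀ x ∈ U j, x⁻¹ * γ x ∈ U (j + 1)}
      one_mem' := by
        intro j x _
        simp
      mul_mem' := by
        intro γ δ hγ hδ j x hx
        have h1 := hδ j x hx
        have h2 := hγ j (δ x) (hchar j δ x hx)
        have : x⁻¹ * (γ * δ) x = (x⁻¹ * δ x) * ((δ x)⁻¹ * γ (δ x)) := by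
          rw [MulAut.mul_apply]; group
        rw [this]
        exact (U (j + 1)).mul_mem h1 h2
      inv_mem' := by
        intro γ hγ j x hx
        have h1 := hγ j (γ⁻¹ x) (hchar j γ⁻¹ x hx)
        rw [MulAut.apply_inv_self] at h1
        have : x⁻¹ * γ⁻¹ x = ((γ⁻¹ x)⁻¹ * x)⁻¹ := by group
        rw [this]
        exact (U (j + 1)).inv_mem h1 }
  have hle : commutator (MulAut H) ≤ K := by
    rw [commutator_def, Subgroup.commutator_le]
    intro α _ β _ j x hx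
    have := hnorm (j + 1)
    obtain ⟨g, hg, hgc⟩ := hcyc j
    exact comm_stab_step (U j) (U (j + 1)) α β (hchar j α) (hchar j β) (hchar j α⁻¹) (hchar j β⁻¹)
      (hchar (j + 1) α) (hchar (j + 1) β) g hg hgc x hx
  have hK : IsPGroup p K := by
    apply PFour.isPGroup_of_coprime_trivial
    intro γ hγ
    have hγ' : Nat.Coprime (orderOf (γ : MulAut H)) p := by rwa [Subgroup.orderOf_coe]
    have h1 := PFour.trivial_of_stabilizes_chain p hH (γ : MulAut H) hγ' U n hn γ.2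
    apply Subtype.ext
    apply MulEquiv.ext
    intro x
    exact h1 x (h0 ▸ Subgroup.mem_top x)
  exact hK.to_le hle

end Cfsg.Agent.Helper25.CharChain
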