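import Mathlib
import Cfsg.Agent.Helper25.CharChain

set_option autoImplicit false

/-! Groups of order `p³` whose automorphism group has a derived subgroup that is not a `p`-group. -/

namespace Cfsg.Agent.Helper25.OrderPCube

open scoped commutatorElement

variable {H : Type*} [Group H]

/-- If `V ≤ W` has index `p` in `W` (and `V` is normal), then `W` is generated modulo `V` by one
element. -/
theorem exists_gen_mod [Finite H] (p : ℕ) [hp : Fact p.Prime] (W V : Subgroup H) [V.Normal]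
    (hVW : V ≤ W) (hidx : Nat.card W = p * Nat.card V) :
    ∃ g ∈ W, ∀ y ∈ W, ∃ k : ℤ, (g ^ k)⁻¹ * y ∈ V := by
  have hcardV' : Nat.card (V.subgroupOf W) = Nat.card V :=
    Nat.card_congr (Subgroup.subgroupOfEquivOfLe hVW).toEquiv
  have hq : Nat.card (W ⧸ V.subgroupOf W) = p := by
    have h1 := Subgroup.card_eq_card_quotient_mul_card_subgroup (V.subgroupOf W)
    rw [hcardV', hidx] at h1
    have hpos : 0 < Nat.card V := Nat.card_pos
    exact (Nat.eq_of_mul_eq_mul_right hpos h1).symm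
  have hcyc : IsCyclic (W ⧸ V.subgroupOf W) := isCyclic_of_prime_card hq
  obtain ⟨q, hq'⟩ := hcyc.exists_generator
  obtain ⟨g, rfl⟩ := QuotientGroup.mk_surjective q
  refine ⟨g, g.2, fun y hy => ?_⟩
  obtain ⟨k, hk⟩ := Subgroup.mem_zpowers_iff.mp (hq' (QuotientGroup.mk ⟨y, hy⟩))
  refine ⟨k, ?_⟩
  rw [← QuotientGroup.mk_zpow, QuotientGroup.eq] at hk
  have := Subgroup.mem_subgroupOf.mp hk
  simpa using this

/-- A flag `⊤ > A > B > ⊥` of characteristic subgroups with all indices `p`. -/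
theorem commutator_mulAut_isPGroup_of_flag [Finite H] (p : ℕ) [hp : Fact p.Prime]
    (hcard : Nat.card H = p ^ 3) (A B : Subgroup H) (hBA : B ≤ A) (hA : Nat.card A = p ^ 2)
    (hB : Nat.card B = p) (hAc : ∀ α : MulAut H, ∀ x ∈ A, α x ∈ A)
    (hBc : ∀ α : MulAut H, ∀ x ∈ B, α x ∈ B) : IsPGroup p (commutator (MulAut H)) := by
  have hH : IsPGroup p H := IsPGroup.of_card hcard
  have hAn : A.Normal := ⟨fun x hx g => hAc (MulAut.conj g) x hx⟩
  have hBn : B.Normal := ⟨fun x hx g => hBc (MulAut.conj g) x hx⟩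
  let U : ℕ → Subgroup H := fun j => match j with
    | 0 => ⊤
    | 1 => A
    | 2 => B
    | _ => ⊥
  refine CharChain.commutator_mulAut_isPGroup p hH U 3 rfl rfl ?_ ?_
  · intro j α x hx
    match j with
    | 0 => exact Subgroup.mem_top _
    | 1 => exact hAc α x hx
    | 2 => exact hBc α x hx
    | (k + 3) =>
      have hx' : x ∈ (⊥ : Subgroup H) := hx
      rw [Subgroup.mem_bot] at hx'
      subst hx'
      show α 1 ∈ (⊥ : Subgroup H)
      rw [map_one]; exact Subgroup.one_mem _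
  · intro j
    match j with
    | 0 =>
      show ∃ g ∈ (⊤ : Subgroup H), ∀ y ∈ (⊤ : Subgroup H), ∃ k : ℤ, (g ^ k)⁻¹ * y ∈ A
      apply exists_gen_mod p ⊤ A le_top
      rw [Subgroup.card_top, hcard, hA]; ring
    | 1 =>
      show ∃ g ∈ A, ∀ y ∈ A, ∃ k : ℤ, (g ^ k)⁻¹ * y ∈ B
      apply exists_gen_mod p A B hBA
      rw [hA, hB]; ring
    | 2 =>
      show ∃ g ∈ B, ∀ y ∈ B, ∃ k : ℤ, (g ^ k)⁻¹ * y ∈ (⊥ : Subgroup H)
      apply exists_gen_mod p B ⊥ bot_le
      rw [hB, Subgroup.card_bot, mul_one]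
    | (k + 3) =>
      show ∃ g ∈ (⊥ : Subgroup H), ∀ y ∈ (⊥ : Subgroup H), ∃ k : ℤ, (g ^ k)⁻¹ * y ∈ (⊥ : Subgroup H)
      refine ⟨1, Subgroup.one_mem _, fun y hy => ⟨0, ?_⟩⟩
      rw [Subgroup.mem_bot] at hy
      subst hy
      simp

/-- The `p`-power map as a homomorphism, when it is multiplicative. -/
def powHom (p : ℕ) (hmul : ∀ x y : H, (x * y) ^ p = x ^ p * y ^ p) : H →* H :=
  { toFun := fun x => x ^ p, map_one' := one_pow p, map_mul' := hmul }

theorem powHom_apply (p : ℕ) (hmul : ∀ x y : H, (x * y) ^ p = x ^ p * y ^ p) (x : H) :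
    powHom p hmul x = x ^ p := rfl

theorem ker_char (p : ℕ) (hmul : ∀ x y : H, (x * y) ^ p = x ^ p * y ^ p) (α : MulAut H) :
    ∀ x ∈ (powHom p hmul).ker, α x ∈ (powHom p hmul).ker := by
  intro x hx
  rw [MonoidHom.mem_ker, powHom_apply] at *
  rw [← map_pow, hx, map_one]

theorem range_char (p : ℕ) (hmul : ∀ x y : H, (x * y) ^ p = x ^ p * y ^ p) (α : MulAut H) :
    ∀ x ∈ (powHom p hmul).range, α x ∈ (powHom p hmul).range := by
  rintro x ⟨y, rfl⟩
  exact ⟨α y, by rw [powHom_apply, powHom_apply, map_pow]⟩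

theorem card_ker_mul_card_range [Finite H] (p : ℕ) (hmul : ∀ x y : H, (x * y) ^ p = x ^ p * y ^ p) :
    Nat.card (powHom p hmul).ker * Nat.card (powHom p hmul).range = Nat.card H := by
  rw [← Subgroup.index_ker]
  exact Subgroup.card_mul_index _

/-- A subgroup of a group of order `p ^ 3` has order `p ^ a`, `a ≤ 3`. -/
theorem card_subgroup_eq_pow [Finite H] (p : ℕ) [hp : Fact p.Prime] (hcard : Nat.card H = p ^ 3)
    (K : Subgroup H) : ∃ a, a ≤ 3 ∧ Nat.card K = p ^ a := by
  have h := Subgroup.card_subgroup_dvd_card K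
  rw [hcard] at h
  exact (Nat.dvd_prime_pow hp.out).mp h

theorem abelian_case [Finite H] (p : ℕ) [hp : Fact p.Prime] (hcard : Nat.card H = p ^ 3)
    (hcomm : ∀ a b : H, a * b = b * a) (hne : ∃ x : H, x ^ p ≠ 1) :
    IsPGroup p (commutator (MulAut H)) := by
  have hmul : ∀ x y : H, (x * y) ^ p = x ^ p * y ^ p := fun x y => Commute.mul_pow (hcomm x y) p
  set f := powHom p hmul with hf
  have hprod := card_ker_mul_card_range p hmul
  rw [hcard] at hprod
  obtain ⟨a, -, ha⟩ := card_subgroup_eq_pow p hcard f.ker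
  obtain ⟨b, -, hb⟩ := card_subgroup_eq_pow p hcard f.range
  have hab : a + b = 3 := by
    rw [ha, hb, ← pow_add] at hprod
    exact Nat.pow_right_injective hp.out.two_le hprod
  have ha0 : a ≠ 0 := by
    rintro rfl
    rw [pow_zero, Subgroup.card_eq_one] at ha
    have hdvd : p ∣ Nat.card H := by rw [hcard]; exact dvd_pow_self p (by norm_num)
    obtain ⟨g, hg⟩ := exists_prime_orderOf_dvd_card' p hdvd
    have hgk : g ∈ f.ker := by
      rw [MonoidHom.mem_ker, hf, powHom_apply, ← hg, pow_orderOf_eq_one]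
    rw [ha, Subgroup.mem_bot] at hgk
    rw [hgk, orderOf_one] at hg
    exact hp.out.one_lt.ne hg
  have hb0 : b ≠ 0 := by
    rintro rfl
    rw [pow_zero, Subgroup.card_eq_one] at hb
    obtain ⟨x, hx⟩ := hne
    have : x ^ p ∈ f.range := ⟨x, rfl⟩
    rw [hb, Subgroup.mem_bot] at this
    exact hx this
  have hcases : (a = 2 ∧ b = 1) ∨ (a = 1 ∧ b = 2) := by omega
  rcases hcases with ⟨rfl, rfl⟩ | ⟨rfl, rfl⟩
  · rw [pow_one] at hb
    refine commutator_mulAut_isPGroup_of_flag p hcard f.ker f.range ?_ ha hb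
      (fun α => ker_char p hmul α) (fun α => range_char p hmul α)
    intro y hy
    rw [MonoidHom.mem_ker, hf, powHom_apply]
    have h1 : (⟨y, hy⟩ : f.range) ^ Nat.card f.range = 1 := pow_card_eq_one'
    rw [hb] at h1
    exact congrArg Subtype.val h1
  · rw [pow_one] at ha
    refine commutator_mulAut_isPGroup_of_flag p hcard f.range f.ker ?_ hb ha
      (fun α => range_char p hmul α) (fun α => ker_char p hmul α)
    have hdvd : p ∣ Nat.card f.range := by rw [hb]; exact dvd_pow_self p (by norm_num)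
    obtain ⟨y, hy⟩ := exists_prime_orderOf_dvd_card' p hdvd
    have hy1 : (y : H) ≠ 1 := by
      intro h
      have : y = 1 := Subtype.ext h
      rw [this, orderOf_one] at hy
      exact hp.out.one_lt.ne hy
    have hyk : (y : H) ∈ f.ker := by
      rw [MonoidHom.mem_ker]
      show (y : H) ^ p = 1
      have h1 := pow_orderOf_eq_one y
      rw [hy] at h1
      exact congrArg Subtype.val h1
    have hinf : f.ker ⊓ f.range ≠ ⊥ := by
      intro h
      have : (y : H) ∈ f.ker ⊓ f.range := ⟨hyk, y.2⟩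
      rw [h, Subgroup.mem_bot] at this
      exact hy1 this
    have hdvd2 : Nat.card ↥(f.ker ⊓ f.range) ∣ p := by
      rw [← ha]
      exact Subgroup.card_dvd_of_le inf_le_left
    have hcardinf : Nat.card ↥(f.ker ⊓ f.range) = p := by
      rcases (Nat.dvd_prime hp.out).mp hdvd2 with h | h
      · exact absurd (Subgroup.card_eq_one.mp h) hinf
      · exact h
    have heq : f.ker ⊓ f.range = f.ker :=
      Subgroup.eq_of_le_of_card_ge inf_le_left (by rw [hcardinf, ha])
    rw [← heq]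
    exact inf_le_right

end Cfsg.Agent.Helper25.OrderPCube
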