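import Mathlib
import Cfsg.Prelude.Def_Transfer
import Cfsg.Agent.Helper25.OrderPCube
import Cfsg.Agent.Helper20.FrattiniElem
import Cfsg.Agent.Helper1.PGroup
import Cfsg.Agent.Helper11.Q8Aut

set_option autoImplicit false

/-! Nonabelian groups of order `p³`; classification of the groups of order `p³` whose
automorphism group has a derived subgroup that is not a `p`-group. -/

namespace Cfsg.Agent.Helper25.OrderPCube

open scoped commutatorElement

universe u

variable {H : Type u} [Group H] [Finite H] (p : ℕ) [hp : Fact p.Prime]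

include hp in
theorem card_center (hcard : Nat.card H = p ^ 3) (hna : ∃ a b : H, a * b ≠ b * a) :
    Nat.card (Subgroup.center H) = p := by
  have hH : IsPGroup p H := IsPGroup.of_card hcard
  obtain ⟨a, ha3, ha⟩ := card_subgroup_eq_pow p hcard (Subgroup.center H)
  have hnt : Nontrivial H := by
    rw [← Finite.one_lt_card_iff_nontrivial, hcard]
    exact Nat.one_lt_pow (by norm_num) hp.out.one_lt
  have ha0 : a ≠ 0 := by
    rintro rfl
    rw [pow_zero, Subgroup.card_eq_one] at ha
    have := hH.center_nontrivial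
    rw [ha] at this
    exact not_nontrivial _ this
  have ha3' : a ≠ 3 := by
    rintro rfl
    have : Subgroup.center H = ⊤ := Subgroup.eq_top_of_card_eq _ (by rw [ha, hcard])
    obtain ⟨x, y, hxy⟩ := hna
    have hx : x ∈ Subgroup.center H := this ▸ Subgroup.mem_top x
    rw [Subgroup.mem_center_iff] at hx
    exact hxy (hx y).symm
  have ha2 : a ≠ 2 := by
    rintro rfl
    have hq : Nat.card (H ⧸ Subgroup.center H) = p := by
      have h1 := Subgroup.card_eq_card_quotient_mul_card_subgroup (Subgroup.center H)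
      rw [ha, hcard] at h1
      have hpos : 0 < p ^ 2 := pow_pos hp.out.pos 2
      have : p ^ 3 = p * p ^ 2 := by ring
      rw [this] at h1
      exact (Nat.eq_of_mul_eq_mul_right hpos h1).symm
    have hcyc : IsCyclic (H ⧸ Subgroup.center H) := isCyclic_of_prime_card hq
    obtain ⟨x, y, hxy⟩ := hna
    obtain ⟨⟨h⟩⟩ := MonoidHom.isMulCommutative_of_isCyclic_of_ker_le_center
      (QuotientGroup.mk' (Subgroup.center H)) (by rw [QuotientGroup.ker_mk'])
    exact hxy (h x y)
  have : a = 1 := by omega
  rw [this, pow_one] at ha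
  exact ha

include hp in
theorem comm_mem_center (hcard : Nat.card H = p ^ 3) (hna : ∃ a b : H, a * b ≠ b * a) (a b : H) :
    ⁅a, b⁆ ∈ Subgroup.center H := by
  have hq : Nat.card (H ⧸ Subgroup.center H) = p ^ 2 := by
    have h1 := Subgroup.card_eq_card_quotient_mul_card_subgroup (Subgroup.center H)
    rw [card_center p hcard hna, hcard] at h1
    have : p ^ 3 = p ^ 2 * p := by ring
    rw [this] at h1
    exact (Nat.eq_of_mul_eq_mul_right hp.out.pos h1).symm
  obtain ⟨⟨hc⟩⟩ := IsPGroup.isMulCommutative_of_card_eq_prime_sq hq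
  rw [← QuotientGroup.eq_one_iff]
  show (QuotientGroup.mk' (Subgroup.center H)) ⁅a, b⁆ = 1
  rw [map_commutatorElement, commutatorElement_eq_one_iff_mul_comm]
  exact hc _ _

include hp in
theorem pow_eq_one_of_mem_center (hcard : Nat.card H = p ^ 3) (hna : ∃ a b : H, a * b ≠ b * a)
    {z : H} (hz : z ∈ Subgroup.center H) : z ^ p = 1 := by
  have h1 : (⟨z, hz⟩ : Subgroup.center H) ^ Nat.card (Subgroup.center H) = 1 := pow_card_eq_one'
  rw [card_center p hcard hna] at h1
  exact congrArg Subtype.val h1

include hp in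
theorem commutator_eq_center (hcard : Nat.card H = p ^ 3) (hna : ∃ a b : H, a * b ≠ b * a) :
    commutator H = Subgroup.center H := by
  have hle : commutator H ≤ Subgroup.center H := by
    rw [commutator_def, Subgroup.commutator_le]
    intro a _ b _
    exact comm_mem_center p hcard hna a b
  have hne : commutator H ≠ ⊥ := by
    intro h
    obtain ⟨x, y, hxy⟩ := hna
    have : ⁅x, y⁆ ∈ commutator H := by
      rw [commutator_def]
      exact Subgroup.commutator_mem_commutator (Subgroup.mem_top x) (Subgroup.mem_top y)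
    rw [h, Subgroup.mem_bot, commutatorElement_eq_one_iff_mul_comm] at this
    exact hxy this
  have hdvd : Nat.card (commutator H) ∣ p := by
    rw [← card_center p hcard hna]
    exact Subgroup.card_dvd_of_le hle
  have hcardc : Nat.card (commutator H) = p := by
    rcases (Nat.dvd_prime hp.out).mp hdvd with h | h
    · exact absurd (Subgroup.card_eq_one.mp h) hne
    · exact h
  exact Subgroup.eq_of_le_of_card_ge hle (by rw [hcardc, card_center p hcard hna])

include hp in
theorem pow_mem_center (hcard : Nat.card H = p ^ 3) (hna : ∃ a b : H, a * b ≠ b * a) (x : H) :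
    x ^ p ∈ Subgroup.center H := by
  rw [Subgroup.mem_center_iff]
  intro y
  have hc : ⁅x, y⁆ ∈ Subgroup.center H := comm_mem_center p hcard hna x y
  have hcx : Commute ⁅x, y⁆ x := (Subgroup.mem_center_iff.mp hc x).symm
  have h1 : ⁅x ^ p, y⁆ = ⁅x, y⁆ ^ p := PFour.commutator_pow_of_central hcx p
  rw [pow_eq_one_of_mem_center p hcard hna hc, commutatorElement_eq_one_iff_mul_comm] at h1
  exact h1.symm

include hp in
theorem isExtraspecial (hcard : Nat.card H = p ^ 3) (hna : ∃ a b : H, a * b ≠ b * a) :
    Cfsg.IsExtraspecial p H := by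
  have hH : IsPGroup p H := IsPGroup.of_card hcard
  refine ⟨⟨hH, le_antisymm ?_ ?_, commutator_eq_center p hcard hna⟩, card_center p hcard hna⟩
  · exact Cfsg.Agent.Helper20.frattini_le_of_elemAb' p _ (comm_mem_center p hcard hna)
      (pow_mem_center p hcard hna)
  · rw [← commutator_eq_center p hcard hna]
    exact Cfsg.Agent.Helper1.IsPGroup.commutator_le_frattini hH

include hp in
theorem odd_case (hcard : Nat.card H = p ^ 3) (hna : ∃ a b : H, a * b ≠ b * a) (hp2 : p ≠ 2)
    (hne : ∃ x : H, x ^ p ≠ 1) : IsPGroup p (commutator (MulAut H)) := by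
  have h2p : 2 < p := lt_of_le_of_ne hp.out.two_le (Ne.symm hp2)
  have hmul : ∀ x y : H, (x * y) ^ p = x ^ p * y ^ p := by
    intro x y
    have hc : ⁅y, x⁆ ∈ Subgroup.center H := comm_mem_center p hcard hna y x
    have hcx : Commute ⁅y, x⁆ x := (Subgroup.mem_center_iff.mp hc x).symm
    have hcy : Commute ⁅y, x⁆ y := (Subgroup.mem_center_iff.mp hc y).symm
    rw [PFour.mul_pow_of_central hcx hcy p]
    obtain ⟨m, hm⟩ := Nat.Prime.dvd_choose_self hp.out (by norm_num : (2 : ℕ) ≠ 0) h2p
    rw [hm, pow_mul, pow_eq_one_of_mem_center p hcard hna hc, one_pow, mul_one]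
  set f := powHom p hmul with hf
  have hcz := card_center p hcard hna
  have hrle : f.range ≤ Subgroup.center H := by
    rintro _ ⟨x, rfl⟩
    exact pow_mem_center p hcard hna x
  have hrne : f.range ≠ ⊥ := by
    intro h
    obtain ⟨x, hx⟩ := hne
    have : x ^ p ∈ f.range := ⟨x, rfl⟩
    rw [h, Subgroup.mem_bot] at this
    exact hx this
  have hrcard : Nat.card f.range = p := by
    have hdvd : Nat.card f.range ∣ p := by
      rw [← hcz]; exact Subgroup.card_dvd_of_le hrle
    rcases (Nat.dvd_prime hp.out).mp hdvd with h | h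
    · exact absurd (Subgroup.card_eq_one.mp h) hrne
    · exact h
  have hkcard : Nat.card f.ker = p ^ 2 := by
    have h1 := card_ker_mul_card_range p hmul
    rw [hcard] at h1
    change Nat.card f.ker * Nat.card f.range = p ^ 3 at h1
    rw [hrcard] at h1
    have : p ^ 3 = p ^ 2 * p := by ring
    rw [this] at h1
    exact Nat.eq_of_mul_eq_mul_right hp.out.pos h1
  refine commutator_mulAut_isPGroup_of_flag p hcard f.ker (Subgroup.center H) ?_ hkcard hcz
    (fun α => ker_char p hmul α) ?_
  · intro z hz
    rw [MonoidHom.mem_ker]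
    exact pow_eq_one_of_mem_center p hcard hna hz
  · intro α z hz
    rw [Subgroup.mem_center_iff] at hz ⊢
    intro g
    have h1 := hz (α⁻¹ g)
    have h2 := congrArg α h1
    rwa [map_mul, map_mul, MulAut.apply_inv_self] at h2

theorem two_case (hcard : Nat.card H = 2 ^ 3) (hna : ∃ a b : H, a * b ≠ b * a)
    (hA : ¬ IsPGroup 2 (commutator (MulAut H))) : Nonempty (H ≃* QuaternionGroup 2) := by
  have : Fact (Nat.Prime 2) := ⟨Nat.prime_two⟩
  have hH : IsPGroup 2 H := IsPGroup.of_card hcard
  apply Cfsg.Agent.Helper11.Q8Aut.q8_of_aut hH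
  · rintro ⟨⟨h⟩⟩
    obtain ⟨x, y, hxy⟩ := hna
    exact hxy (h x y)
  · rw [commutator_eq_center 2 hcard hna]
    have h1 := Subgroup.card_mul_index (Subgroup.center H)
    rw [card_center 2 hcard hna, hcard] at h1
    have h2 : 2 * (Subgroup.center H).index = 2 * 4 := by rw [h1]; norm_num
    exact Nat.eq_of_mul_eq_mul_left (by norm_num) h2
  · intro h
    exact hA (h.to_subgroup _)

include hp in
/-- Classification of the groups of order `p³` for which `Aut(H)'` is not a `p`-group. -/
theorem classify (hcard : Nat.card H = p ^ 3) (hA : ¬ IsPGroup p (commutator (MulAut H))) :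
    ((∀ a b : H, a * b = b * a) ∧ ∀ x : H, x ^ p = 1) ∨
      (p ≠ 2 ∧ Cfsg.IsExtraspecial p H ∧ ∀ x : H, x ^ p = 1) ∨
      (p = 2 ∧ Nonempty (H ≃* QuaternionGroup 2)) := by
  by_cases hab : ∀ a b : H, a * b = b * a
  · left
    refine ⟨hab, ?_⟩
    by_contra hne
    push Not at hne
    exact hA (abelian_case p hcard hab hne)
  · right
    push Not at hab
    by_cases hexp : ∀ x : H, x ^ p = 1
    · left
      refine ⟨?_, isExtraspecial p hcard hab, hexp⟩
      rintro rfl
      obtain ⟨x, y, hxy⟩ := hab
      apply hxy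
      have hinv : ∀ z : H, z⁻¹ = z := fun z => by
        rw [inv_eq_iff_mul_eq_one, ← sq]; exact hexp z
      calc x * y = (x * y)⁻¹ := (hinv _).symm
        _ = y⁻¹ * x⁻¹ := mul_inv_rev x y
        _ = y * x := by rw [hinv, hinv]
    · push Not at hexp
      by_cases hp2 : p = 2
      · right
        subst hp2
        exact ⟨rfl, two_case hcard hab hA⟩
      · exact absurd (odd_case p hcard hab hp2 hexp) hA

end Cfsg.Agent.Helper25.OrderPCube
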