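import Mathlib
import Cfsg.Agent.Helper9.MaxClassTwo
import Cfsg.Agent.Helper1.MaxClass
import Cfsg.Agent.Helper25.OrderPCube

set_option autoImplicit false

/-! `p`-groups of maximal class: the centre, the second centre and its centralizer. -/

namespace Cfsg.Agent.Helper25.MaxClassZ2

open scoped commutatorElement

variable {X : Type*} [Group X] [Finite X]

theorem nilpotencyClass_eq (p : ℕ) [hp : Fact p.Prime] (n : ℕ) (hn : 2 ≤ n)
    (hX : Nat.card X = p ^ n)
    (hmax : Subgroup.lowerCentralSeries (⊤ : Subgroup X) (n - 2) ≠ ⊥) :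
    Group.nilpotencyClass X = n - 1 := by
  have hnil : Group.IsNilpotent X := (IsPGroup.of_card hX).isNilpotent
  have h1 := Cfsg.Agent.Helper1.LCS.lcs_eq_bot_of_card hX hn
  rw [Subgroup.lowerCentralSeries_eq_bot_iff_nilpotencyClass_le] at h1
  have h2 : ¬ Group.nilpotencyClass X ≤ n - 2 := by
    intro h
    exact hmax (Subgroup.lowerCentralSeries_eq_bot_iff_nilpotencyClass_le.mpr h)
  omega

theorem card_center (p : ℕ) [hp : Fact p.Prime] (n : ℕ) (hn : 3 ≤ n)
    (hX : Nat.card X = p ^ n)
    (hmax : Subgroup.lowerCentralSeries (⊤ : Subgroup X) (n - 2) ≠ ⊥) :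
    Nat.card (Subgroup.center X) = p :=
  Cfsg.Agent.Helper9.card_center_of_maxClass n hn hX (nilpotencyClass_eq p n (by omega) hX hmax)

theorem ucs_two_eq : Subgroup.upperCentralSeries X 2 =
    Subgroup.comap (QuotientGroup.mk' (Subgroup.center X))
      (Subgroup.center (X ⧸ Subgroup.center X)) := by
  rw [← Subgroup.upperCentralSeriesStep_eq_comap_center]
  ext x
  rw [Subgroup.mem_upperCentralSeries_succ_iff, Subgroup.mem_upperCentralSeriesStep]
  simp only [Subgroup.upperCentralSeries_one]

theorem card_ucs_two (p : ℕ) [hp : Fact p.Prime] (n : ℕ) (hn : 4 ≤ n)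
    (hX : Nat.card X = p ^ n)
    (hmax : Subgroup.lowerCentralSeries (⊤ : Subgroup X) (n - 2) ≠ ⊥) :
    Nat.card (Subgroup.upperCentralSeries X 2) = p ^ 2 := by
  have hc := nilpotencyClass_eq p n (by omega) hX hmax
  have hQcard := Cfsg.Agent.Helper9.card_quotient_center_of_maxClass n (by omega) hX hc
  have hQc := Cfsg.Agent.Helper9.nilpotencyClass_quotient_center_of_maxClass n hc
  have hZQ : Nat.card (Subgroup.center (X ⧸ Subgroup.center X)) = p :=
    Cfsg.Agent.Helper9.card_center_of_maxClass (n - 1) (by omega) hQcard hQc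
  rw [ucs_two_eq]
  set K := Subgroup.center (X ⧸ Subgroup.center X) with hK
  have h1 := Subgroup.card_mul_index (K.comap (QuotientGroup.mk' (Subgroup.center X)))
  rw [Subgroup.index_comap_of_surjective _ (QuotientGroup.mk'_surjective _), hX] at h1
  have h2 := Subgroup.card_mul_index K
  rw [hZQ, hQcard] at h2
  have h3 : K.index = p ^ (n - 2) := by
    have : p * K.index = p * p ^ (n - 2) := by
      rw [h2, ← pow_succ']
      congr 1
      omega
    exact Nat.eq_of_mul_eq_mul_left hp.out.pos this
  rw [h3] at h1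
  have h4 : p ^ n = p ^ 2 * p ^ (n - 2) := by
    rw [← pow_add]
    congr 1
    omega
  rw [h4] at h1
  exact Nat.eq_of_mul_eq_mul_right (pow_pos hp.out.pos _) h1

/-- The centralizer of the second centre has index `p` and contains the second centre. -/
theorem centralizer_ucs_two (p : ℕ) [hp : Fact p.Prime] (n : ℕ) (hn : 4 ≤ n)
    (hX : Nat.card X = p ^ n)
    (hmax : Subgroup.lowerCentralSeries (⊤ : Subgroup X) (n - 2) ≠ ⊥) :
    Subgroup.upperCentralSeries X 2 ≤
        Subgroup.centralizer (Subgroup.upperCentralSeries X 2 : Set X) ∧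
      (Subgroup.centralizer (Subgroup.upperCentralSeries X 2 : Set X)).index = p := by
  have hp1 := hp.out.one_lt
  set W := Subgroup.upperCentralSeries X 2 with hW
  set Z := Subgroup.center X with hZ
  have hWcard : Nat.card W = p ^ 2 := card_ucs_two p n hn hX hmax
  have hZcard : Nat.card Z = p := card_center p n (by omega) hX hmax
  have hZW : Z ≤ W := by
    rw [hZ, ← Subgroup.upperCentralSeries_one]
    exact Subgroup.upperCentralSeries_mono X (by norm_num)
  have hWcomm : IsMulCommutative W := IsPGroup.isMulCommutative_of_card_eq_prime_sq hWcard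
  have hWW : W ≤ Subgroup.centralizer (W : Set X) := by
    intro a ha
    rw [Subgroup.mem_centralizer_iff]
    intro b hb
    exact congrArg Subtype.val (hWcomm.is_comm.comm (⟨b, hb⟩ : W) ⟨a, ha⟩)
  refine ⟨hWW, ?_⟩
  have hZn : Z.Normal := by rw [hZ]; infer_instance
  obtain ⟨w, hwW, hgen⟩ := OrderPCube.exists_gen_mod p W Z hZW (by rw [hWcard, hZcard, sq])
  have hwZ : w ∉ Z := by
    intro hw
    have hle : W ≤ Z := by
      intro y hy
      obtain ⟨k, hk⟩ := hgen y hy
      have : y = w ^ k * ((w ^ k)⁻¹ * y) := by group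
      rw [this]
      exact Z.mul_mem (Z.zpow_mem hw k) hk
    have := Subgroup.card_le_of_le hle
    rw [hWcard, hZcard] at this
    have h2 : p ^ 1 < p ^ 2 := Nat.pow_lt_pow_right hp1 (by norm_num)
    rw [pow_one] at h2
    omega
  have hcZ : ∀ t : X, ⁅t, w⁆ ∈ Z := by
    intro t
    have h1 : ⁅w, t⁆ ∈ Subgroup.upperCentralSeries X 1 :=
      Subgroup.mem_upperCentralSeries_succ_iff.mp hwW t
    rw [Subgroup.upperCentralSeries_one] at h1
    have h2 : ⁅t, w⁆ = ⁅w, t⁆⁻¹ := (commutatorElement_inv w t).symm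
    rw [h2]
    exact Z.inv_mem h1
  let θ : X →* X :=
    { toFun := fun s => ⁅s, w⁆
      map_one' := by simp
      map_mul' := by
        intro s t
        have h1 := Subgroup.mem_center_iff.mp (hcZ t)
        have e : ⁅s * t, w⁆ = s * ⁅t, w⁆ * s⁻¹ * ⁅s, w⁆ := by
          simp only [commutatorElement_def]; group
        rw [e, h1 s, mul_inv_cancel_right]
        exact (Subgroup.mem_center_iff.mp (hcZ s) _) }
  have hθ : ∀ s, θ s = ⁅s, w⁆ := fun s => rfl
  have hker : θ.ker = Subgroup.centralizer (W : Set X) := by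
    ext s
    rw [MonoidHom.mem_ker, hθ, commutatorElement_eq_one_iff_commute, Subgroup.mem_centralizer_iff]
    constructor
    · intro hs y hy
      obtain ⟨k, hk⟩ := hgen y hy
      have hy' : y = w ^ k * ((w ^ k)⁻¹ * y) := by group
      have h1 : Commute s (w ^ k) := hs.zpow_right k
      have h2 : Commute s ((w ^ k)⁻¹ * y) := (Subgroup.mem_center_iff.mp hk s)
      rw [hy']
      exact (h1.mul_right h2).eq.symm
    · intro hs
      exact (hs w hwW).symm
  rw [← hker, Subgroup.index_ker]
  have hrle : θ.range ≤ Z := by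
    rintro _ ⟨s, rfl⟩
    exact hcZ s
  have hdvd : Nat.card θ.range ∣ p := hZcard ▸ Subgroup.card_dvd_of_le hrle
  rcases (Nat.dvd_prime hp.out).mp hdvd with h | h
  · exfalso
    apply hwZ
    rw [Subgroup.card_eq_one] at h
    rw [hZ, Subgroup.mem_center_iff]
    intro s
    have : θ s ∈ θ.range := ⟨s, rfl⟩
    rw [h, Subgroup.mem_bot, hθ, commutatorElement_eq_one_iff_commute] at this
    exact this.eq
  · exact h

end Cfsg.Agent.Helper25.MaxClassZ2
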