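import Mathlib
import Cfsg.Agent.Helper25.FusionAlperin2
import Cfsg.Agent.Helper25.StronglyEmb2

set_option autoImplicit false

namespace Cfsg.Agent.Helper25

open Cfsg Cfsg.FusionSystem

/-- `p`-rank bounds pull back along injective homomorphisms. -/
theorem pRankLE_of_injective {A B : Type*} [Group A] [Group B] (p k : ℕ) (f : A →* B)
    (hf : Function.Injective f) (h : PRankLE p k B) : PRankLE p k A := by
  intro U hUc hUp
  have h1 := h (U.map f) ?_ ?_
  · rwa [Nat.card_congr (U.equivMapOfInjective f hf).symm.toEquiv] at h1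
  · refine ⟨⟨?_⟩⟩
    rintro ⟨_, a, ha, rfl⟩ ⟨_, b, hb, rfl⟩
    apply Subtype.ext
    show f a * f b = f b * f a
    have := hUc.is_comm.comm (⟨a, ha⟩ : U) ⟨b, hb⟩
    have h2 : a * b = b * a := congrArg Subtype.val this
    rw [← map_mul, ← map_mul, h2]
  · rintro _ ⟨a, ha, rfl⟩
    rw [← map_pow, hUp a ha, map_one]

/-- `Γ_{P,k}` is compatible with conjugation (one inclusion). -/
theorem kGeneratedCore_map_conj_le {X : Type*} [Group X] (p k : ℕ) (P : Subgroup X) (g : X) :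
    (kGeneratedCore p k P).map (MulAut.conj g).toMonoidHom ≤
      kGeneratedCore p k (P.map (MulAut.conj g).toMonoidHom) := by
  unfold kGeneratedCore
  rw [Subgroup.map_iSup]
  apply iSup_le
  rintro ⟨Q, hQP, hQr⟩
  have h1 : ¬ PRankLE p (k - 1) (Q.map (MulAut.conj g).toMonoidHom) := by
    intro h
    apply hQr
    exact pRankLE_of_injective p (k - 1)
      (Q.equivMapOfInjective (MulAut.conj g).toMonoidHom (MulAut.conj g).injective).toMonoidHom
      (MulEquiv.injective _) h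
  have h2 : Q.map (MulAut.conj g).toMonoidHom ≤ P.map (MulAut.conj g).toMonoidHom :=
    Subgroup.map_mono hQP
  refine le_trans ?_ (le_iSup (fun Q' : {Q' : Subgroup X // Q' ≤ P.map (MulAut.conj g).toMonoidHom ∧
    ¬ PRankLE p (k - 1) Q'} => Subgroup.normalizer ((Q' : Subgroup X) : Set X))
    ⟨Q.map (MulAut.conj g).toMonoidHom, h2, h1⟩)
  exact (Subgroup.map_equiv_normalizer_eq Q (MulAut.conj g)).le

variable {Ω : Type*} [Group Ω] {S : Subgroup Ω}

/-- For a self-centralizing fully automized receptive `R < S`, the image in `Out_F(R)` of the group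
generated by the properly extending automorphisms contains `Γ_{T,1}` for the Sylow subgroup
`T = Out_S(R)`. -/
theorem kGeneratedCore_le_image [Finite S] (p : ℕ) [Fact p.Prime] (hS : IsPGroup p S)
    (F : FusionSystem S) {R : Subgroup Ω} [Finite R] (hRS : R ≤ S) (hrec : F.IsReceptive R)
    (hIn : ((Inn R).subgroupOf (F.autGroup R)).Normal)
    (R₀ : Sylow p (F.autGroup R))
    (hR₀ : (R₀ : Subgroup (F.autGroup R)) = (autInducedBy S R).subgroupOf (F.autGroup R)) :
    kGeneratedCore p 1 ((R₀.mapSurjective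
      (QuotientGroup.mk'_surjective ((Inn R).subgroupOf (F.autGroup R))) :
        Sylow p (F.autGroup R ⧸ (Inn R).subgroupOf (F.autGroup R))) :
          Subgroup (F.autGroup R ⧸ (Inn R).subgroupOf (F.autGroup R))) ≤
      ((Subgroup.closure {α : MulAut R | ExtendsProperly F R α}).subgroupOf (F.autGroup R)).map
        (QuotientGroup.mk' ((Inn R).subgroupOf (F.autGroup R))) := by
  set H := Subgroup.closure {α : MulAut R | ExtendsProperly F R α} with hH
  have hsurj : Function.Surjective (QuotientGroup.mk' ((Inn R).subgroupOf (F.autGroup R))) := QuotientGroup.mk'_surjective ((Inn R).subgroupOf (F.autGroup R))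
  have hTcoe : ((R₀.mapSurjective hsurj : Sylow p ((F.autGroup R) ⧸ ((Inn R).subgroupOf (F.autGroup R)))) : Subgroup ((F.autGroup R) ⧸ ((Inn R).subgroupOf (F.autGroup R)))) =
      (R₀ : Subgroup (F.autGroup R)).map (QuotientGroup.mk' ((Inn R).subgroupOf (F.autGroup R))) := rfl
  unfold kGeneratedCore
  apply iSup_le
  rintro ⟨U, hUT, hUrank⟩
  -- U ≠ ⊥
  have hUne : ∃ u ∈ U, u ≠ 1 := by
    by_contra hcon
    push Not at hcon
    apply hUrank
    intro B _ _
    have : Nat.card B = 1 := by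
      rw [Nat.card_eq_one_iff_unique]
      refine ⟨⟨fun a b => ?_⟩, ⟨1⟩⟩
      apply Subtype.ext
      apply Subtype.ext
      rw [hcon _ a.1.2, hcon _ b.1.2]
    rw [this]
    exact Nat.one_le_pow _ _ (Nat.Prime.pos Fact.out)
  obtain ⟨u, huU, hu1⟩ := hUne
  intro abar habar
  obtain ⟨⟨α, hαA⟩, rfl⟩ := hsurj abar
  have huT : u ∈ (R₀ : Subgroup (F.autGroup R)).map (QuotientGroup.mk' ((Inn R).subgroupOf (F.autGroup R))) := hUT huU
  obtain ⟨⟨c, hcA⟩, hcR₀, rfl⟩ := huT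
  rw [SetLike.mem_coe, hR₀] at hcR₀
  have hcS : c ∈ autInducedBy S R := hcR₀
  have hconjU : QuotientGroup.mk' ((Inn R).subgroupOf (F.autGroup R)) ⟨α, hαA⟩ * QuotientGroup.mk' ((Inn R).subgroupOf (F.autGroup R)) ⟨c, hcA⟩ *
      (QuotientGroup.mk' ((Inn R).subgroupOf (F.autGroup R)) ⟨α, hαA⟩)⁻¹ ∈ U :=
    (Subgroup.mem_normalizer_iff.mp habar _).mp huU
  have hconjT := hUT hconjU
  rw [hTcoe] at hconjT
  obtain ⟨⟨c', hc'A⟩, hc'R₀, hc'eq⟩ := hconjT
  rw [SetLike.mem_coe, hR₀] at hc'R₀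
  have hc'S : c' ∈ autInducedBy S R := hc'R₀
  have hmem : α * c * α⁻¹ ∈ autInducedBy S R := by
    have h1 : QuotientGroup.mk' ((Inn R).subgroupOf (F.autGroup R)) (⟨c', hc'A⟩⁻¹ * (⟨α, hαA⟩ * ⟨c, hcA⟩ * ⟨α, hαA⟩⁻¹)) = 1 := by
      rw [map_mul, map_inv, hc'eq, map_mul, map_mul, map_inv]
      group
    have h2 : (⟨c', hc'A⟩⁻¹ * (⟨α, hαA⟩ * ⟨c, hcA⟩ * ⟨α, hαA⟩⁻¹) : (F.autGroup R)) ∈ ((Inn R).subgroupOf (F.autGroup R)) :=
      (QuotientGroup.eq_one_iff _).mp h1
    have h3 : c'⁻¹ * (α * c * α⁻¹) ∈ Inn R := h2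
    have h4 : Inn R ≤ autInducedBy S R := by
      rintro _ ⟨x, rfl⟩
      rw [autInducedBy_eq_map]
      exact ⟨⟨x, Subgroup.le_normalizer x.2⟩, hRS x.2, by ext y; rfl⟩
    have h5 := (autInducedBy S R).mul_mem hc'S (h4 h3)
    rwa [mul_inv_cancel_left] at h5
  rw [autInducedBy_eq_map] at hcS hmem
  obtain ⟨n, hnS, hnc⟩ := hcS
  obtain ⟨m, hmS, hmc⟩ := hmem
  have hnS' : (n : Ω) ∈ S := hnS
  have hmS' : (m : Ω) ∈ S := hmS
  have hnext : (n : Ω) ∈ extender S R (autHom α) := by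
    apply Subgroup.subset_closure
    refine ⟨hnS', n.2, (m : Ω), hmS', ?_⟩
    intro x hx
    have h1 := congrArg (fun β : MulAut R => ((β (α x) : R) : Ω)) hmc
    simp only [MulAut.mul_apply, MulAut.inv_apply_self] at h1
    rw [normalizerMonoidHom_coe, ← hnc] at h1
    show ((α ⟨(n : Ω) * x * (n : Ω)⁻¹, hx⟩ : R) : Ω) = (m : Ω) * ((α x : R) : Ω) * (m : Ω)⁻¹
    rw [h1]
    rfl
  have hnR : (n : Ω) ∉ R := by
    intro hnR
    apply hu1
    have : (⟨c, hcA⟩ : (F.autGroup R)) ∈ ((Inn R).subgroupOf (F.autGroup R)) := by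
      show c ∈ Inn R
      rw [← hnc]
      exact ⟨⟨n, hnR⟩, by ext y; rfl⟩
    exact (QuotientGroup.eq_one_iff _).mpr this
  have hαmem : autHom α ∈ F.Hom R := (mem_autGroup_iff F hRS α).mp hαA
  have hαH : α ∈ H :=
    Subgroup.subset_closure (extendsProperly_of_extender F hrec α hαmem hnext hnR)
  exact ⟨⟨α, hαA⟩, hαH, rfl⟩

end Cfsg.Agent.Helper25
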