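import Mathlib
import Cfsg.Agent.Helper25.StronglyEmb2
import Cfsg.Agent.Helper25.FusionEssential

set_option autoImplicit false

/-! Strongly `p`-embedded subgroups: `Γ_{T,1}` is proper for every Sylow subgroup `T`, and
there is a conjugate of `T` no nontrivial element of which commutes with a nontrivial element
of `T`. -/

namespace Cfsg.Agent.Helper25

open Cfsg

variable {X : Type*} [Group X]

theorem kGeneratedCore_ne_top_of_stronglyPEmbedded [Finite X] (p : ℕ) [Fact p.Prime]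
    {E : Subgroup X} (hE : IsStronglyPEmbedded p E) (T : Sylow p X) :
    kGeneratedCore p 1 (T : Subgroup X) ≠ ⊤ := by
  obtain ⟨-, hEtop, T₁, hT₁⟩ := hE
  obtain ⟨g, hg⟩ := MulAction.exists_smul_eq X T T₁
  intro htop
  apply hEtop
  have h1 := kGeneratedCore_map_conj_le p 1 (T : Subgroup X) g
  rw [htop] at h1
  have h2 : (T : Subgroup X).map (MulAut.conj g).toMonoidHom = (T₁ : Subgroup X) := by
    rw [← hg, Sylow.coe_subgroup_smul, Subgroup.pointwise_smul_def]
    rfl
  rw [h2] at h1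
  have h3 : (⊤ : Subgroup X).map (MulAut.conj g).toMonoidHom = ⊤ :=
    Subgroup.map_top_of_surjective _ (MulAut.conj g).surjective
  rw [h3] at h1
  exact top_le_iff.mp (h1.trans hT₁)

theorem exists_no_commuting_conj [Finite X] (p : ℕ) [Fact p.Prime]
    {E : Subgroup X} (hE : IsStronglyPEmbedded p E) (T : Sylow p X) :
    ∃ a : X, ∀ t ∈ (T : Subgroup X), t ≠ 1 → ∀ u ∈ (T : Subgroup X), u ≠ 1 →
      t * (a * u * a⁻¹) ≠ (a * u * a⁻¹) * t := by
  have hY := kGeneratedCore_ne_top_of_stronglyPEmbedded p hE T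
  set Y := kGeneratedCore p 1 (T : Subgroup X) with hYdef
  obtain ⟨a, ha⟩ : ∃ a, a ∉ Y := by
    by_contra h
    push Not at h
    exact hY (eq_top_iff.mpr fun x _ => h x)
  refine ⟨a, fun t ht ht1 u hu hu1 hcomm => ha ?_⟩
  have hTne : (T : Subgroup X) ≠ ⊥ := by
    intro h
    rw [h] at ht
    exact ht1 (Subgroup.mem_bot.mp ht)
  have hTY : (T : Subgroup X) ≤ Y :=
    Subgroup.le_normalizer.trans (normalizer_le_kGeneratedCore p T T le_rfl hTne)
  have hcomm' : Commute t (a * u * a⁻¹) := hcomm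
  have h1 : a * u * a⁻¹ ∈ Subgroup.normalizer ((Subgroup.zpowers t : Subgroup X) : Set X) := by
    apply mem_normalizer_of_conj_mem
    intro x hx
    obtain ⟨k, rfl⟩ := Subgroup.mem_zpowers_iff.mp hx
    have hc : Commute (a * u * a⁻¹) (t ^ k) := (hcomm'.symm).zpow_right k
    rw [hc.eq, mul_inv_cancel_right]
    exact hx
  have h2 : a * u * a⁻¹ ∈ Y :=
    normalizer_le_kGeneratedCore p T (Subgroup.zpowers t) (by rw [Subgroup.zpowers_le]; exact ht)
      (Subgroup.zpowers_ne_bot.mpr ht1) h1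
  have hDY : Subgroup.zpowers (a * u * a⁻¹) ≤ Y := by
    rw [Subgroup.zpowers_le]
    exact h2
  have hDp : IsPGroup p (Subgroup.zpowers (a * u * a⁻¹)) := by
    have hle : Subgroup.zpowers (a * u * a⁻¹) ≤ (T : Subgroup X).map (MulAut.conj a).toMonoidHom := by
      rw [Subgroup.zpowers_le]
      exact ⟨u, hu, rfl⟩
    exact isPGroup_of_le (T.2.map _) hle
  obtain ⟨y, hyY, hy⟩ := exists_conj_mem_of_le p T hTY hDY hDp
  have h3 := hy _ (Subgroup.mem_zpowers (a * u * a⁻¹))
  have h4 : (y * a)⁻¹ ∈ Y := by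
    apply mem_kGeneratedCore_of_inf_conj_ne_bot p T
    refine ⟨u, hu, hu1, ?_⟩
    have e : (y * a)⁻¹⁻¹ * u * (y * a)⁻¹ = y * (a * u * a⁻¹) * y⁻¹ := by group
    rw [e]
    exact h3
  have h5 : y * a ∈ Y := by
    have := Y.inv_mem h4
    rwa [inv_inv] at this
  have h6 := Y.mul_mem (Y.inv_mem hyY) h5
  rwa [inv_mul_cancel_left] at h6

end Cfsg.Agent.Helper25
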