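import Mathlib
import Cfsg.Agent.Helper25.FusionChain

set_option autoImplicit false

namespace Cfsg.Agent.Helper25

open Cfsg Cfsg.FusionSystem
open scoped commutatorElement

variable {Ω : Type*} [Group Ω] {S : Subgroup Ω}

/-- A characteristic subgroup of a subgroup normal in the system is normal in the system. -/
theorem isNormal_of_characteristic (F : FusionSystem S) {Q : Subgroup Ω} (hQ : F.IsNormal Q)
    (C : Subgroup Q) [hC : C.Characteristic] : F.IsNormal (C.map Q.subtype) := by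
  have hCQ : C.map Q.subtype ≤ Q := by
    rintro _ ⟨c, -, rfl⟩
    exact c.2
  refine ⟨hCQ.trans hQ.1, fun P φ hφ => ?_⟩
  obtain ⟨ψ, hψ, hext, hmap⟩ := hQ.2 P φ hφ
  have hle : P ⊔ C.map Q.subtype ≤ P ⊔ Q := sup_le_sup_left hCQ P
  -- the automorphism of `Q` induced by `ψ`
  have hψQ : ψ.comp (Subgroup.inclusion (le_sup_right : Q ≤ P ⊔ Q)) ∈ F.Hom Q :=
    restrict_mem F le_sup_right hψ
  have hrange : (ψ.comp (Subgroup.inclusion (le_sup_right : Q ≤ P ⊔ Q))).range = Q := by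
    refine Eq.trans ?_ hmap
    ext y
    constructor
    · rintro ⟨x, rfl⟩
      exact ⟨Subgroup.inclusion le_sup_right x, x.2, rfl⟩
    · rintro ⟨x, hx, rfl⟩
      exact ⟨⟨x, hx⟩, rfl⟩
  set θ : Q ≃* Q := isoOfHom _ (F.injective_of_mem hψQ) hrange with hθ
  have hθcoe : ∀ c : Q, ((θ c : Q) : Ω) = ψ (Subgroup.inclusion le_sup_right c) := fun c => rfl
  have hCθ : C.map θ.toMonoidHom = C := Subgroup.characteristic_iff_map_eq.mp hC θ
  refine ⟨ψ.comp (Subgroup.inclusion hle), restrict_mem F hle hψ, fun x => hext x, ?_⟩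
  ext z
  constructor
  · rintro ⟨y, hy, rfl⟩
    obtain ⟨c, hc, hcy⟩ := hy
    have h1 : θ c ∈ C := by
      have : θ c ∈ C.map θ.toMonoidHom := ⟨c, hc, rfl⟩
      rwa [hCθ] at this
    refine ⟨θ c, h1, ?_⟩
    show ((θ c : Q) : Ω) = ψ (Subgroup.inclusion hle y)
    rw [hθcoe]
    congr 1
    exact Subtype.ext hcy
  · rintro ⟨c, hc, rfl⟩
    have h1 : c ∈ C.map θ.toMonoidHom := by rw [hCθ]; exact hc
    obtain ⟨c₀, hc₀, rfl⟩ := h1
    have hc₀' : ((c₀ : Q) : Ω) ∈ C.map Q.subtype := ⟨c₀, hc₀, rfl⟩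
    refine ⟨⟨(c₀ : Ω), (le_sup_right : C.map Q.subtype ≤ P ⊔ C.map Q.subtype) hc₀'⟩, hc₀', ?_⟩
    rfl

end Cfsg.Agent.Helper25
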