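import Cfsg.Agent.Helper15.Iso44Bas
import Cfsg.Agent.Helper20.Iso44GEN
import Cfsg.Agent.Helper14.WcFactor

/-! Board `s3044pieces`, row INV: `inv_dich`, `normal_dich`, `normal_le_Y`. -/

set_option autoImplicit false

namespace Cfsg.Agent.Helper15.Iso44

open Cfsg Subgroup

variable {G : Type*} [Group G] [Finite G] {p : ℕ} [Fact p.Prime] {S : Sylow p G} {P : Subgroup G}

theorem inv_dich (h : Ctx p S P) (X : Subgroup G)
    (hSX : (S : Subgroup G) ≤ normalizer (X : Set G)) :
    Dsub p P ≤ X ∨ X ≤ Lsub p S P := by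
  rcases dich (p := p) (S := S) P (X ⊔ (S : Subgroup G)) le_sup_right with hP | hL
  · left
    exact Cfsg.Agent.Helper14.pResidualOf_le_of_le_sup X (S : Subgroup G) P hSX S.isPGroup' hP
  · right
    exact le_sup_left.trans hL

theorem normal_dich (h : Ctx p S P) (N : Subgroup G) (hN : N.Normal) :
    Ysub p P ≤ N ∨ N ≤ Lsub p S P := by
  have hSN : (S : Subgroup G) ≤ normalizer (N : Set G) := by
    rw [Subgroup.normalizer_eq_top]
    exact le_top
  rcases inv_dich h N hSN with hD | hL
  · left
    exact Subgroup.normalClosure_le_normal hD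
  · right
    exact hL

theorem normal_le_Y (h : Ctx p S P) (N : Subgroup G) (hN : N.Normal) (hNY : N ≤ Ysub p P) :
    N = Ysub p P ∨ N ≤ YLsub p S P := by
  rcases normal_dich h N hN with hY | hL
  · left
    exact le_antisymm hNY hY
  · right
    exact normal_le_YL hN hNY hL

end Cfsg.Agent.Helper15.Iso44
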