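import Mathlib
import Cfsg.Prelude.Def_Classical
import Cfsg.Prelude.Def_ClassicalGeometry
import Cfsg.Prelude.Def_Characters
import Cfsg.Prelude.Def_LieExceptional
import Cfsg.Agent.Helper8.MatBNDefs

set_option autoImplicit false
open scoped Matrix

/-! S2546 piece PGRP (driver helper8): a group with a `Data` over a finite field is finite, its
unipotent radical `U` is a `p`-group and its torus `T` is a `p'`-group. -/

namespace Cfsg.Agent.MatBN

variable {K : Type*} [Field K] {n : ℕ}

namespace PGRP

/-- an upper unitriangular matrix `M` satisfies `(M - 1) ^ n = 0` -/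
theorem sub_one_pow_eq_zero (M : Matrix (Fin n) (Fin n) K) (hM : IsUni M) : (M - 1) ^ n = 0 := by
  have hbt : M.BlockTriangular id := (isTri_iff_blockTriangular M).mp hM.1
  have hcp : M.charpoly = (Polynomial.X - Polynomial.C 1) ^ n := by
    rw [Matrix.charpoly_of_isUpperTriangular M hbt]
    simp only [hM.2]
    rw [Finset.prod_const, Finset.card_univ, Fintype.card_fin]
  have h := Matrix.aeval_self_charpoly M
  rw [hcp] at h
  simpa using h

/-- in characteristic `p` an upper unitriangular matrix has `p`-power order -/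
theorem pow_eq_one (p : ℕ) [Fact p.Prime] [CharP K p] (M : Matrix (Fin n) (Fin n) K)
    (hM : IsUni M) : M ^ (p ^ n) = 1 := by
  rcases Nat.eq_zero_or_pos n with hn | hn
  · subst hn
    exact Subsingleton.elim _ _
  · have : Nonempty (Fin n) := ⟨⟨0, hn⟩⟩
    have hcomm : Commute (M - 1) 1 := Commute.one_right _
    have h1 : M = (M - 1) + 1 := by abel
    have hle : n ≤ p ^ n := (Nat.lt_pow_self (Fact.out : p.Prime).one_lt).le
    have h0 : (M - 1) ^ (p ^ n) = 0 := by
      rw [← Nat.sub_add_cancel hle, pow_add, sub_one_pow_eq_zero M hM, mul_zero]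
    conv_lhs => rw [h1]
    rw [add_pow_char_pow_of_commute (p := p) n hcomm, h0, one_pow, zero_add]

end PGRP

section DataSec

variable {G : Type*} [Group G] {m : ℕ} (D : Data G K n m)

theorem Data.finite {G : Type*} [Group G] {m : ℕ} (D : Data G K n m) [Finite K] : Finite G :=
  Finite.of_injective D.ρ D.ρ_inj

theorem Data.isPGroup_uni (p : ℕ) [Fact p.Prime] [CharP K p] : IsPGroup p D.uni := by
  intro u
  refine ⟨n, ?_⟩
  apply Subtype.ext
  rw [Subgroup.coe_pow, Subgroup.coe_one]
  apply D.ρ_inj
  rw [map_pow, map_one]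
  exact PGRP.pow_eq_one p _ u.2

theorem Data.not_dvd_card_torus [Finite K] (p : ℕ) [Fact p.Prime] [CharP K p] :
    ¬ p ∣ Nat.card D.torus := by
  have : Finite G := D.finite
  intro hdvd
  obtain ⟨t, ht⟩ := exists_prime_orderOf_dvd_card' (G := D.torus) p hdvd
  have htp : (t : G) ^ p = 1 := by
    have := pow_orderOf_eq_one t
    rw [ht] at this
    have h' := congrArg Subtype.val this
    rw [Subgroup.coe_pow, Subgroup.coe_one] at h'
    exact h'
  have hdg : IsDg (D.ρ t) := t.2
  have hdiag : D.ρ t = Matrix.diagonal (fun i => D.ρ t i i) := by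
    ext i j
    by_cases hij : i = j
    · subst hij
      rw [Matrix.diagonal_apply_eq]
    · rw [Matrix.diagonal_apply_ne _ hij, hdg i j hij]
  have hpow : (D.ρ t) ^ p = 1 := by rw [← map_pow, htp, map_one]
  have hentries : ∀ i, D.ρ t i i = 1 := by
    intro i
    rw [hdiag, Matrix.diagonal_pow] at hpow
    have h1 := congrFun (congrFun hpow i) i
    rw [Matrix.diagonal_apply_eq, Matrix.one_apply_eq] at h1
    have h1' : (D.ρ t i i) ^ p = 1 := h1
    have h2 : (D.ρ t i i - 1) ^ p = 0 := by
      rw [sub_pow_char, h1', one_pow, sub_self]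
    exact sub_eq_zero.mp (pow_eq_zero_iff (Fact.out : p.Prime).ne_zero |>.mp h2)
  have hone : D.ρ t = 1 := by
    rw [hdiag, ← Matrix.diagonal_one]
    congr 1
    funext i
    exact hentries i
  have ht1 : (t : G) = 1 := D.ρ_inj (by rw [hone, map_one])
  have : t = 1 := Subtype.ext ht1
  rw [this, orderOf_one] at ht
  exact (Fact.out : p.Prime).one_lt.ne' ht.symm

end DataSec

end Cfsg.Agent.MatBN
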