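import Mathlib
import Cfsg.Agent.Helper25.StronglyEmb3
import Cfsg.Agent.Helper25.FusionAlperin
import Cfsg.Agent.S5077

set_option autoImplicit false

/-! For an essential subgroup `P` with an abelian subgroup `P₀` centralized by a subgroup `N₀` of
`N_S(P)` acting trivially on `P/P₀`: there is an `F`-automorphism `γ` of `P` such that the elements
of `N₀` whose commutators with `P` lie in `γ(P₀)` are in `P`. -/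

namespace Cfsg.Agent.Helper25

open Cfsg Cfsg.FusionSystem

variable {Ω : Type*} [Group Ω] {S : Subgroup Ω}

theorem exists_conj_of_isEssential [Finite S] (p : ℕ) [Fact p.Prime] (hS : IsPGroup p S)
    (F : FusionSystem S) (hF : F.IsSaturated p) {P : Subgroup Ω} (hP : F.IsEssential p P)
    (P₀ N₀ : Subgroup Ω)
    (hcomm : ∀ a ∈ P₀, ∀ b ∈ P₀, a * b = b * a)
    (hN₀S : N₀ ≤ S) (hN₀N : N₀ ≤ Subgroup.normalizer (P : Set Ω))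
    (hN₀c : ∀ a ∈ N₀, ∀ q ∈ P₀, a * q = q * a)
    (hN₀P : ∀ a ∈ N₀, ∀ q ∈ P, q⁻¹ * (a * q * a⁻¹) ∈ P₀) :
    ∃ γ : MulAut P, γ ∈ F.autGroup P ∧ ∀ (a : Ω) (ha : a ∈ N₀),
      (∀ q : P, q⁻¹ * (P.normalizerMonoidHom ⟨a, hN₀N ha⟩ q) ∈
        (P₀.subgroupOf P).map γ.toMonoidHom) → a ∈ P := by
  obtain ⟨hcen, hFN, hnorm, E, hE⟩ := hP
  have hPS : P ≤ S := hFN.1
  have hfinP : Finite P := finite_of_le hPS
  have hC : centralizerIn S P ≤ P := hcen.2 P (isConj_refl F hPS)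
  have hsyl := Cfsg.Agent.S5077.sylow_axiom p hS F hF P hFN
  set Γ := F.autGroup P with hΓ
  set I := (Inn P).subgroupOf Γ with hI
  obtain ⟨-, -, R₀, hR₀⟩ := hsyl
  have hsurj : Function.Surjective (QuotientGroup.mk' I) := QuotientGroup.mk'_surjective I
  let T : Sylow p (Γ ⧸ I) := R₀.mapSurjective hsurj
  have hTcoe : (T : Subgroup (Γ ⧸ I)) = (R₀ : Subgroup Γ).map (QuotientGroup.mk' I) := rfl
  obtain ⟨abar, hab⟩ := exists_no_commuting_conj p hE T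
  obtain ⟨⟨γ, hγ⟩, rfl⟩ := hsurj abar
  have hδS : ∀ (a : Ω) (ha : a ∈ N₀), P.normalizerMonoidHom ⟨a, hN₀N ha⟩ ∈ autInducedBy S P := by
    intro a ha
    rw [autInducedBy_eq_map]
    exact ⟨⟨a, hN₀N ha⟩, hN₀S ha, rfl⟩
  have hδΓ : ∀ (a : Ω) (ha : a ∈ N₀), P.normalizerMonoidHom ⟨a, hN₀N ha⟩ ∈ Γ :=
    fun a ha => autInducedBy_le_autGroup F hPS (hδS a ha)
  have hδT : ∀ (a : Ω) (ha : a ∈ N₀),
      QuotientGroup.mk' I ⟨_, hδΓ a ha⟩ ∈ (T : Subgroup (Γ ⧸ I)) := by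
    intro a ha
    rw [hTcoe]
    refine ⟨⟨_, hδΓ a ha⟩, ?_, rfl⟩
    rw [SetLike.mem_coe, hR₀]
    exact hδS a ha
  have hδne : ∀ (a : Ω) (ha : a ∈ N₀), a ∉ P → QuotientGroup.mk' I ⟨_, hδΓ a ha⟩ ≠ 1 := by
    intro a ha haP h1
    have h2 : (⟨_, hδΓ a ha⟩ : Γ) ∈ I := (QuotientGroup.eq_one_iff _).mp h1
    have h3 : P.normalizerMonoidHom ⟨a, hN₀N ha⟩ ∈ Inn P := h2
    exact haP (mem_of_normalizerMonoidHom_mem_inn hPS hC ⟨a, hN₀N ha⟩ (hN₀S ha) h3)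
  have hfix : ∀ (a : Ω) (ha : a ∈ N₀) (r : P), (r : Ω) ∈ P₀ →
      P.normalizerMonoidHom ⟨a, hN₀N ha⟩ r = r := by
    intro a ha r hr
    apply Subtype.ext
    show a * (r : Ω) * a⁻¹ = r
    rw [hN₀c a ha r hr, mul_inv_cancel_right]
  by_cases h1 : ∀ (a : Ω) (ha : a ∈ N₀),
      (∀ q : P, q⁻¹ * (P.normalizerMonoidHom ⟨a, hN₀N ha⟩ q) ∈
        (P₀.subgroupOf P).map γ.toMonoidHom) → a ∈ P
  · exact ⟨γ, hγ, h1⟩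
  · refine ⟨γ⁻¹, Γ.inv_mem hγ, ?_⟩
    intro a₂ ha₂ hq₂
    by_contra ha₂P
    push Not at h1
    obtain ⟨a₁, ha₁, hq₁, ha₁P⟩ := h1
    apply hab _ (hδT a₁ ha₁) (hδne a₁ ha₁ ha₁P) _ (hδT a₂ ha₂) (hδne a₂ ha₂ ha₂P)
    set δ₁ := P.normalizerMonoidHom ⟨a₁, hN₀N ha₁⟩ with hδ₁
    set δ₂ := P.normalizerMonoidHom ⟨a₂, hN₀N ha₂⟩ with hδ₂
    have hkey : δ₁ * (γ * δ₂ * γ⁻¹) = (γ * δ₂ * γ⁻¹) * δ₁ := by
      apply MulEquiv.ext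
      intro q
      obtain ⟨r₁, hr₁, hr₁e⟩ := hq₁ q
      obtain ⟨r₂, hr₂, hr₂e⟩ := hq₂ (γ⁻¹ q)
      have hr₁' : (r₁ : Ω) ∈ P₀ := hr₁
      have hr₂' : (r₂ : Ω) ∈ P₀ := hr₂
      have hr₁e' : γ r₁ = q⁻¹ * δ₁ q := hr₁e
      have hr₂e' : γ⁻¹ r₂ = (γ⁻¹ q)⁻¹ * δ₂ (γ⁻¹ q) := hr₂e
      have e1 : δ₁ q = q * γ r₁ := by
        rw [hr₁e', mul_inv_cancel_left]
      have e2 : δ₂ (γ⁻¹ q) = γ⁻¹ q * γ⁻¹ r₂ := by
        rw [hr₂e', mul_inv_cancel_left]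
      have hγr₁ : ((γ r₁ : P) : Ω) ∈ P₀ := by
        rw [hr₁e']
        exact hN₀P a₁ ha₁ q q.2
      have hc : γ r₁ * r₂ = r₂ * γ r₁ := Subtype.ext (hcomm _ hγr₁ _ hr₂')
      have hA : γ (δ₂ (γ⁻¹ q)) = q * r₂ := by
        rw [e2, map_mul, MulAut.apply_inv_self, MulAut.apply_inv_self]
      have hB : γ⁻¹ (δ₁ q) = γ⁻¹ q * r₁ := by
        rw [e1, map_mul, MulAut.inv_apply_self]
      have hL : δ₁ (γ (δ₂ (γ⁻¹ q))) = q * γ r₁ * r₂ := by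
        rw [hA, map_mul, e1, hfix a₁ ha₁ r₂ hr₂']
      have hR : γ (δ₂ (γ⁻¹ (δ₁ q))) = q * r₂ * γ r₁ := by
        rw [hB, map_mul, e2, hfix a₂ ha₂ r₁ hr₁', map_mul, map_mul, MulAut.apply_inv_self,
          MulAut.apply_inv_self]
      show δ₁ (γ (δ₂ (γ⁻¹ q))) = γ (δ₂ (γ⁻¹ (δ₁ q)))
      rw [hL, hR, mul_assoc, hc, mul_assoc]
    have h2 : (⟨δ₁, hδΓ a₁ ha₁⟩ : Γ) * (⟨γ, hγ⟩ * ⟨δ₂, hδΓ a₂ ha₂⟩ * ⟨γ, hγ⟩⁻¹) =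
        (⟨γ, hγ⟩ * ⟨δ₂, hδΓ a₂ ha₂⟩ * ⟨γ, hγ⟩⁻¹) * ⟨δ₁, hδΓ a₁ ha₁⟩ := Subtype.ext hkey
    have h3 := congrArg (QuotientGroup.mk' I) h2
    simpa only [map_mul, map_inv] using h3

end Cfsg.Agent.Helper25
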