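import Mathlib

set_option autoImplicit false

/-! Small tools around subgroups of prime (relative) index. -/

namespace Cfsg.Agent.Helper25.IndexP

variable {G : Type*} [Group G]

/-- Between `H` and `K` with `|K : H|` prime there is nothing. -/
theorem le_of_relIndex_prime {H L K : Subgroup G} {p : ℕ} (hp : p.Prime) (hHL : H ≤ L) (hLK : L ≤ K)
    (hidx : H.relIndex K = p) (hL : ¬ L ≤ H) : K ≤ L := by
  have h1 := Subgroup.relIndex_mul_relIndex H L K hHL hLK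
  rw [hidx] at h1
  have h2 : H.relIndex L ≠ 1 := fun h => hL (Subgroup.relIndex_eq_one.mp h)
  have h3 : L.relIndex K = 1 := by
    rcases (Nat.dvd_prime hp).mp ⟨_, h1.symm⟩ with h | h
    · exact absurd h h2
    · rw [h] at h1
      exact Nat.eq_of_mul_eq_mul_left hp.pos (by rw [h1, mul_one])
  exact Subgroup.relIndex_eq_one.mp h3

/-- With `H` normal of prime index, every element is a power of any given `g ∉ H` modulo `H`. -/
theorem exists_zpow_mul_mem {H : Subgroup G} [H.Normal] {p : ℕ} (hp : p.Prime)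
    (hidx : H.index = p) {g : G} (hg : g ∉ H) (k : G) : ∃ n : ℤ, k * g ^ n ∈ H := by
  have : Fact p.Prime := ⟨hp⟩
  have hcard : Nat.card (G ⧸ H) = p := by rw [← Subgroup.index_eq_card]; exact hidx
  have hne : (QuotientGroup.mk' H g) ≠ 1 := by
    intro h
    exact hg ((QuotientGroup.eq_one_iff g).mp h)
  have htop := zpowers_eq_top_of_prime_card hcard hne
  have hmem : (QuotientGroup.mk' H k)⁻¹ ∈ Subgroup.zpowers (QuotientGroup.mk' H g) := by
    rw [htop]; exact Subgroup.mem_top _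
  obtain ⟨n, hn⟩ := Subgroup.mem_zpowers_iff.mp hmem
  refine ⟨n, ?_⟩
  rw [← QuotientGroup.eq_one_iff]
  have : QuotientGroup.mk' H (k * g ^ n) = 1 := by
    rw [map_mul, map_zpow, hn, mul_inv_cancel]
  exact this

/-- Relative version of `exists_zpow_mul_mem`. -/
theorem exists_zpow_mul_mem_rel {H K : Subgroup G} {p : ℕ} (hp : p.Prime) (hHK : H ≤ K)
    (hN : K ≤ Subgroup.normalizer (H : Set G)) (hidx : H.relIndex K = p) {g : G} (hgK : g ∈ K)
    (hg : g ∉ H) {k : G} (hk : k ∈ K) : ∃ n : ℤ, k * g ^ n ∈ H := by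
  have : (H.subgroupOf K).Normal := (Subgroup.normal_subgroupOf_iff_le_normalizer hHK).mpr hN
  have hg' : (⟨g, hgK⟩ : K) ∉ H.subgroupOf K := fun h => hg h
  obtain ⟨n, hn⟩ := exists_zpow_mul_mem hp hidx hg' ⟨k, hk⟩
  refine ⟨n, ?_⟩
  have : ((⟨k, hk⟩ * ⟨g, hgK⟩ ^ n : K) : G) ∈ H := hn
  simpa using this

/-- A nontrivial quotient of a finite `p`-group in which every nontrivial element generates has
order `p`. -/
theorem index_eq_prime_of_generated [Finite G] {p : ℕ} [hp : Fact p.Prime] (hG : IsPGroup p G)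
    {H : Subgroup G} [H.Normal] (hne : H ≠ ⊤)
    (hgen : ∀ g₁ : G, g₁ ∉ H → ∀ g₂ : G, ∃ n : ℤ, g₂ * g₁ ^ n ∈ H) : H.index = p := by
  have hQ : IsPGroup p (G ⧸ H) := hG.to_quotient H
  obtain ⟨k, hk⟩ := IsPGroup.iff_card.mp hQ
  have hk0 : k ≠ 0 := by
    rintro rfl
    rw [pow_zero, ← Subgroup.index_eq_card, Subgroup.index_eq_one] at hk
    exact hne hk
  have hdvd : p ∣ Nat.card (G ⧸ H) := by
    rw [hk]; exact dvd_pow_self p hk0
  obtain ⟨gbar, hgbar⟩ := exists_prime_orderOf_dvd_card' p hdvd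
  obtain ⟨g₁, rfl⟩ := QuotientGroup.mk'_surjective H gbar
  have hg₁ : g₁ ∉ H := by
    intro h
    have : QuotientGroup.mk' H g₁ = 1 := (QuotientGroup.eq_one_iff g₁).mpr h
    rw [this, orderOf_one] at hgbar
    exact hp.out.one_lt.ne hgbar
  have htop : Subgroup.zpowers (QuotientGroup.mk' H g₁) = ⊤ := by
    rw [eq_top_iff]
    intro q _
    obtain ⟨g₂, rfl⟩ := QuotientGroup.mk'_surjective H q
    obtain ⟨n, hn⟩ := hgen g₁ hg₁ g₂
    have h1 : QuotientGroup.mk' H (g₂ * g₁ ^ n) = 1 := (QuotientGroup.eq_one_iff _).mpr hn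
    rw [map_mul, map_zpow] at h1
    rw [Subgroup.mem_zpowers_iff]
    refine ⟨-n, ?_⟩
    rw [zpow_neg]
    exact (eq_inv_of_mul_eq_one_left h1).symm
  rw [Subgroup.index_eq_card, ← Subgroup.card_top (G := G ⧸ H), ← htop, Nat.card_zpowers, hgbar]

/-- Relative version of `index_eq_prime_of_generated`. -/
theorem relIndex_eq_prime_of_generated {p : ℕ} [hp : Fact p.Prime] {H K : Subgroup G} [Finite K]
    (hK : IsPGroup p K) (hHK : H ≤ K) (hN : K ≤ Subgroup.normalizer (H : Set G)) (hne : ¬ K ≤ H)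
    (hgen : ∀ g₁ ∈ K, g₁ ∉ H → ∀ g₂ ∈ K, ∃ n : ℤ, g₂ * g₁ ^ n ∈ H) : H.relIndex K = p := by
  have : (H.subgroupOf K).Normal := (Subgroup.normal_subgroupOf_iff_le_normalizer hHK).mpr hN
  apply index_eq_prime_of_generated hK
  · intro h
    apply hne
    intro x hx
    have : (⟨x, hx⟩ : K) ∈ H.subgroupOf K := h ▸ Subgroup.mem_top _
    exact this
  · rintro ⟨g₁, hg₁K⟩ hg₁ ⟨g₂, hg₂K⟩
    obtain ⟨n, hn⟩ := hgen g₁ hg₁K (fun h => hg₁ h) g₂ hg₂K
    refine ⟨n, ?_⟩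
    show ((⟨g₂, hg₂K⟩ * ⟨g₁, hg₁K⟩ ^ n : K) : G) ∈ H
    simpa using hn

/-- For `R` central and an automorphism `δ`, the elements `q` with `q⁻¹ δ(q) ∈ R` form a subgroup. -/
def commSub (R : Subgroup G) (hR : R ≤ Subgroup.center G) (δ : MulAut G) : Subgroup G where
  carrier := {q | q⁻¹ * δ q ∈ R}
  one_mem' := by
    show (1 : G)⁻¹ * δ 1 ∈ R
    rw [map_one, inv_one, one_mul]
    exact R.one_mem
  mul_mem' := by
    intro a b ha hb
    have ha' : a⁻¹ * δ a ∈ R := ha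
    have hb' : b⁻¹ * δ b ∈ R := hb
    show (a * b)⁻¹ * δ (a * b) ∈ R
    have hc := Subgroup.mem_center_iff.mp (hR ha') b⁻¹
    have e : (a * b)⁻¹ * δ (a * b) = (a⁻¹ * δ a) * (b⁻¹ * δ b) := by
      rw [map_mul, mul_inv_rev]
      calc b⁻¹ * a⁻¹ * (δ a * δ b) = (b⁻¹ * (a⁻¹ * δ a)) * δ b := by group
        _ = ((a⁻¹ * δ a) * b⁻¹) * δ b := by rw [hc]
        _ = (a⁻¹ * δ a) * (b⁻¹ * δ b) := by group
    rw [e]
    exact R.mul_mem ha' hb'
  inv_mem' := by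
    intro a ha
    have ha' : a⁻¹ * δ a ∈ R := ha
    show a⁻¹⁻¹ * δ a⁻¹ ∈ R
    have hc := Subgroup.mem_center_iff.mp (hR (R.inv_mem ha')) a
    have e : a⁻¹⁻¹ * δ a⁻¹ = (a⁻¹ * δ a)⁻¹ := by
      rw [map_inv, inv_inv]
      calc a * (δ a)⁻¹ = (a * (a⁻¹ * δ a)⁻¹) * a⁻¹ := by group
        _ = ((a⁻¹ * δ a)⁻¹ * a) * a⁻¹ := by rw [hc]
        _ = (a⁻¹ * δ a)⁻¹ := by group
    rw [e]
    exact R.inv_mem ha'

theorem mem_commSub (R : Subgroup G) (hR : R ≤ Subgroup.center G) (δ : MulAut G) (q : G) :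
    q ∈ commSub R hR δ ↔ q⁻¹ * δ q ∈ R := Iff.rfl

end Cfsg.Agent.Helper25.IndexP
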