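import Mathlib
import Cfsg.Agent.Helper25.IndexPTools

set_option autoImplicit false

/-! `p`-groups `S` (inside an ambient group) with an abelian subgroup `A` of index `p`:
basic facts on the centre and the second centre. -/

namespace Cfsg.Agent.Helper25.Oliver

open scoped commutatorElement

variable {Ω : Type*} [Group Ω]

/-- the centre of `S` as a subgroup of the ambient group -/
abbrev ZS (S : Subgroup Ω) : Subgroup Ω := S ⊓ Subgroup.centralizer (S : Set Ω)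

/-- the second centre of `S` as a subgroup of the ambient group -/
abbrev W2 (S : Subgroup Ω) : Subgroup Ω := (Subgroup.upperCentralSeries ↥S 2).map S.subtype

theorem mem_ZS {S : Subgroup Ω} {z : Ω} : z ∈ ZS S ↔ z ∈ S ∧ ∀ s ∈ S, s * z = z * s := by
  rw [ZS, Subgroup.mem_inf, Subgroup.mem_centralizer_iff]
  rfl

theorem mem_ZS_iff_center {S : Subgroup Ω} (s : S) : (s : Ω) ∈ ZS S ↔ s ∈ Subgroup.center ↥S := by
  rw [mem_ZS, Subgroup.mem_center_iff]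
  constructor
  · rintro ⟨-, h⟩ g
    exact Subtype.ext (h g g.2)
  · intro h
    exact ⟨s.2, fun t ht => congrArg Subtype.val (h ⟨t, ht⟩)⟩

theorem mem_W2 {S : Subgroup Ω} {w : Ω} :
    w ∈ W2 S ↔ w ∈ S ∧ ∀ t ∈ S, t⁻¹ * (w * t * w⁻¹) ∈ ZS S := by
  rw [W2, Subgroup.mem_map]
  constructor
  · rintro ⟨y, hy, rfl⟩
    refine ⟨y.2, fun t ht => ?_⟩
    have h2 : y ∈ Subgroup.upperCentralSeries ↥S (1 + 1) := hy
    rw [Subgroup.mem_upperCentralSeries_succ_iff] at h2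
    have h3 := h2 ⟨t, ht⟩
    rw [Subgroup.upperCentralSeries_one] at h3
    have h4 := Subgroup.mem_center_iff.mp h3 ⟨t, ht⟩⁻¹
    have e : (⟨t, ht⟩ : S)⁻¹ * (y * ⟨t, ht⟩ * y⁻¹) = ⁅y, ⟨t, ht⟩⁆ := by
      rw [commutatorElement_def]
      calc (⟨t, ht⟩ : S)⁻¹ * (y * ⟨t, ht⟩ * y⁻¹)
          = ((⟨t, ht⟩ : S)⁻¹ * (y * ⟨t, ht⟩ * y⁻¹ * (⟨t, ht⟩ : S)⁻¹)) * ⟨t, ht⟩ := by group
        _ = ((y * ⟨t, ht⟩ * y⁻¹ * (⟨t, ht⟩ : S)⁻¹) * (⟨t, ht⟩ : S)⁻¹) * ⟨t, ht⟩ := by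
          rw [commutatorElement_def] at h4
          rw [h4]
        _ = y * ⟨t, ht⟩ * y⁻¹ * (⟨t, ht⟩ : S)⁻¹ := by group
    have h5 : ((⟨t, ht⟩ : S)⁻¹ * (y * ⟨t, ht⟩ * y⁻¹)) ∈ Subgroup.center ↥S := by
      rw [e]; exact h3
    exact (mem_ZS_iff_center _).mpr h5
  · rintro ⟨hw, h⟩
    refine ⟨⟨w, hw⟩, ?_, rfl⟩
    show (⟨w, hw⟩ : S) ∈ Subgroup.upperCentralSeries ↥S (1 + 1)
    rw [Subgroup.mem_upperCentralSeries_succ_iff]
    intro t
    rw [Subgroup.upperCentralSeries_one]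
    have h3 : (t⁻¹ * (⟨w, hw⟩ * t * (⟨w, hw⟩ : S)⁻¹)) ∈ Subgroup.center ↥S :=
      (mem_ZS_iff_center (t⁻¹ * (⟨w, hw⟩ * t * (⟨w, hw⟩ : S)⁻¹))).mp (h t t.2)
    have h4 := Subgroup.mem_center_iff.mp h3 t
    have e : ⁅(⟨w, hw⟩ : S), t⁆ = t⁻¹ * (⟨w, hw⟩ * t * (⟨w, hw⟩ : S)⁻¹) := by
      rw [commutatorElement_def]
      calc (⟨w, hw⟩ : S) * t * (⟨w, hw⟩ : S)⁻¹ * t⁻¹
          = (t * (t⁻¹ * (⟨w, hw⟩ * t * (⟨w, hw⟩ : S)⁻¹))) * t⁻¹ := by group
        _ = ((t⁻¹ * (⟨w, hw⟩ * t * (⟨w, hw⟩ : S)⁻¹)) * t) * t⁻¹ := by rw [h4]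
        _ = t⁻¹ * (⟨w, hw⟩ * t * (⟨w, hw⟩ : S)⁻¹) := by group
    rw [e]
    exact h3

theorem normal_of_index_prime {Q : Type*} [Group Q] [Finite Q] {p : ℕ} [hp : Fact p.Prime]
    (hQ : IsPGroup p Q) {H : Subgroup Q} (hi : H.index = p) : H.Normal := by
  obtain ⟨k, hk⟩ := IsPGroup.iff_card.mp hQ
  have hk0 : k ≠ 0 := by
    rintro rfl
    rw [pow_zero] at hk
    have := Subgroup.index_dvd_card H
    rw [hk, hi] at this
    exact hp.out.one_lt.ne' (Nat.dvd_one.mp this)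
  apply Subgroup.normal_of_index_eq_minFac_card
  rw [hi, hk, hp.out.pow_minFac hk0]

theorem le_normalizer_of_index_prime {S A : Subgroup Ω} [Finite S] {p : ℕ} [Fact p.Prime]
    (hS : IsPGroup p S) (hAS : A ≤ S) (hAi : A.relIndex S = p) :
    S ≤ Subgroup.normalizer (A : Set Ω) :=
  (Subgroup.normal_subgroupOf_iff_le_normalizer hAS).mp (normal_of_index_prime hS hAi)

/-- `B ⊔ ⟨z⟩` is abelian when `B` is and `z` centralizes `B`. -/
theorem comm_sup_zpowers (B : Subgroup Ω) (hB : ∀ a ∈ B, ∀ b ∈ B, a * b = b * a) (z : Ω)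
    (hz : ∀ b ∈ B, b * z = z * b) :
    ∀ s ∈ B ⊔ Subgroup.zpowers z, ∀ t ∈ B ⊔ Subgroup.zpowers z, s * t = t * s := by
  have h1 : ∀ a ∈ B, B ⊔ Subgroup.zpowers z ≤ Subgroup.centralizer {a} := by
    intro a ha
    rw [sup_le_iff]
    constructor
    · intro b hb
      rw [Subgroup.mem_centralizer_singleton_iff]
      exact hB b hb a ha
    · rw [Subgroup.zpowers_le, Subgroup.mem_centralizer_singleton_iff]
      exact (hz a ha).symm
  have h2 : B ⊔ Subgroup.zpowers z ≤ Subgroup.centralizer {z} := by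
    rw [sup_le_iff]
    constructor
    · intro b hb
      rw [Subgroup.mem_centralizer_singleton_iff]
      exact hz b hb
    · rw [Subgroup.zpowers_le, Subgroup.mem_centralizer_singleton_iff]
  intro s hs t ht
  have h3 : B ⊔ Subgroup.zpowers z ≤ Subgroup.centralizer {t} := by
    rw [sup_le_iff]
    constructor
    · intro b hb
      rw [Subgroup.mem_centralizer_singleton_iff]
      exact (Subgroup.mem_centralizer_singleton_iff.mp (h1 b hb ht)).symm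
    · rw [Subgroup.zpowers_le, Subgroup.mem_centralizer_singleton_iff]
      exact (Subgroup.mem_centralizer_singleton_iff.mp (h2 ht)).symm
  exact Subgroup.mem_centralizer_singleton_iff.mp (h3 hs)

section

variable {S A : Subgroup Ω} {p : ℕ}

theorem le_sup_zpowers (hp : p.Prime) (hAS : A ≤ S) (hAi : A.relIndex S = p) {x : Ω}
    (hxS : x ∈ S) (hxA : x ∉ A) : S ≤ A ⊔ Subgroup.zpowers x := by
  apply IndexP.le_of_relIndex_prime hp le_sup_left ?_ hAi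
  · intro h
    exact hxA (h (Subgroup.mem_sup_right (Subgroup.mem_zpowers x)))
  · exact sup_le hAS (by rw [Subgroup.zpowers_le]; exact hxS)

/-- In a nonabelian `S` the centre lies in `A`. -/
theorem ZS_le (hp : p.Prime) (hAS : A ≤ S) (hAi : A.relIndex S = p)
    (hAc : ∀ a ∈ A, ∀ b ∈ A, a * b = b * a) (hna : ¬ ∀ s ∈ S, ∀ t ∈ S, s * t = t * s) :
    ZS S ≤ A := by
  intro z hz
  by_contra hzA
  obtain ⟨hzS, hzc⟩ := mem_ZS.mp hz
  have hle := le_sup_zpowers hp hAS hAi hzS hzA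
  apply hna
  intro s hs t ht
  exact comm_sup_zpowers A hAc z (fun b hb => hzc b (hAS hb)) s (hle hs) t (hle ht)

/-- An element of `A` commuting with some `x ∈ S ∖ A` is central in `S`. -/
theorem mem_ZS_of_comm (hp : p.Prime) (hAS : A ≤ S) (hAi : A.relIndex S = p)
    (hAc : ∀ a ∈ A, ∀ b ∈ A, a * b = b * a) {x : Ω} (hxS : x ∈ S) (hxA : x ∉ A) {q : Ω}
    (hq : q ∈ A) (hqx : q * x = x * q) : q ∈ ZS S := by
  rw [mem_ZS]
  refine ⟨hAS hq, fun s hs => ?_⟩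
  have hle := le_sup_zpowers hp hAS hAi hxS hxA
  have h1 : A ⊔ Subgroup.zpowers x ≤ Subgroup.centralizer {q} := by
    rw [sup_le_iff]
    constructor
    · intro b hb
      rw [Subgroup.mem_centralizer_singleton_iff]
      exact hAc b hb q hq
    · rw [Subgroup.zpowers_le, Subgroup.mem_centralizer_singleton_iff]
      exact hqx.symm
  exact Subgroup.mem_centralizer_singleton_iff.mp (h1 (hle hs))

/-- An element `a ∈ A` whose commutator with some `x ∈ S ∖ A` is central lies in `Z₂(S)`. -/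
theorem mem_W2_of_comm (hp : p.Prime) (hAS : A ≤ S) (hAi : A.relIndex S = p)
    (hAc : ∀ a ∈ A, ∀ b ∈ A, a * b = b * a) {x : Ω} (hxS : x ∈ S) (hxA : x ∉ A) {a : Ω}
    (ha : a ∈ A) (hax : x⁻¹ * (a * x * a⁻¹) ∈ ZS S) : a ∈ W2 S := by
  rw [mem_W2]
  refine ⟨hAS ha, ?_⟩
  have hle := le_sup_zpowers hp hAS hAi hxS hxA
  set L := IndexP.commSub (Subgroup.center ↥S) le_rfl (MulAut.conj (⟨a, hAS ha⟩ : S)) with hL
  have hL' : ∀ t : S, t ∈ L ↔ ((t : Ω))⁻¹ * (a * t * a⁻¹) ∈ ZS S := by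
    intro t
    rw [hL, IndexP.mem_commSub, ← mem_ZS_iff_center]
    rfl
  have h1 : A ⊔ Subgroup.zpowers x ≤ L.map S.subtype := by
    rw [sup_le_iff]
    constructor
    · intro b hb
      refine ⟨⟨b, hAS hb⟩, ?_, rfl⟩
      rw [SetLike.mem_coe, hL']
      have : (b : Ω)⁻¹ * (a * b * a⁻¹) = 1 := by
        rw [hAc a ha b hb, mul_inv_cancel_right, inv_mul_cancel]
      show (b : Ω)⁻¹ * (a * b * a⁻¹) ∈ ZS S
      rw [this]
      exact Subgroup.one_mem _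
    · rw [Subgroup.zpowers_le]
      refine ⟨⟨x, hxS⟩, ?_, rfl⟩
      rw [SetLike.mem_coe, hL']
      exact hax
  intro t ht
  obtain ⟨t', ht', rfl⟩ := h1 (hle ht)
  exact (hL' t').mp ht'

/-- If `Z₂(S)` is not inside `A` then it contains `A`. -/
theorem le_W2_of_not_le (hp : p.Prime) (hAS : A ≤ S) (hAi : A.relIndex S = p)
    (hAc : ∀ a ∈ A, ∀ b ∈ A, a * b = b * a) {y : Ω} (hy : y ∈ W2 S) (hyA : y ∉ A) : A ≤ W2 S := by
  obtain ⟨hyS, hyc⟩ := mem_W2.mp hy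
  intro a ha
  apply mem_W2_of_comm hp hAS hAi hAc hyS hyA ha
  have h1 := hyc a⁻¹ (S.inv_mem (hAS ha))
  rw [inv_inv] at h1
  obtain ⟨-, hc⟩ := mem_ZS.mp h1
  have h2 := hc y hyS
  have e : y⁻¹ * (a * y * a⁻¹) = a * (y * a⁻¹ * y⁻¹) := by
    calc y⁻¹ * (a * y * a⁻¹) = y⁻¹ * ((a * (y * a⁻¹ * y⁻¹)) * y) := by group
      _ = y⁻¹ * (y * (a * (y * a⁻¹ * y⁻¹))) := by rw [h2]
      _ = a * (y * a⁻¹ * y⁻¹) := by group
  rw [e]
  exact h1

end

end Cfsg.Agent.Helper25.Oliver
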