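import Mathlib
import Cfsg.Agent.Helper25.OliverA
import Cfsg.Agent.Helper25.EssentialConj
import Cfsg.Agent.Helper1.AbelianIndexP

set_option autoImplicit false

/-! Essential subgroups in a `p`-group with an abelian subgroup of index `p`: first step. -/

namespace Cfsg.Agent.Helper25.Oliver

open Cfsg Cfsg.FusionSystem Cfsg.Agent.Helper25

variable {Ω : Type*} [Group Ω] {S : Subgroup Ω}

/-- `S` itself is not essential. -/
theorem ne_of_isEssential [Finite S] (p : ℕ) [Fact p.Prime] (hS : IsPGroup p S)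
    (F : FusionSystem S) (hF : F.IsSaturated p) {P : Subgroup Ω} (hP : F.IsEssential p P) :
    P ≠ S := by
  intro hPS
  subst hPS
  obtain ⟨hcen, hFN, hnorm, E, hE⟩ := hP
  have hsyl := Cfsg.Agent.S5077.sylow_axiom p hS F hF P hFN
  set Γ := F.autGroup P with hΓ
  set I := (Inn P).subgroupOf Γ with hI
  obtain ⟨-, -, R₀, hR₀⟩ := hsyl
  have hdvd : p ∣ Nat.card (Γ ⧸ I) := hE.1
  have hRI : (R₀ : Subgroup Γ) = I := by
    rw [hR₀]
    congr 1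
    rw [autInducedBy_eq_map]
    ext α
    constructor
    · rintro ⟨n, hn, rfl⟩
      exact ⟨⟨n, hn⟩, by ext y; rfl⟩
    · rintro ⟨x, rfl⟩
      exact ⟨⟨x, Subgroup.le_normalizer x.2⟩, x.2, by ext y; rfl⟩
  have h1 : ¬ p ∣ (R₀ : Subgroup Γ).index := R₀.not_dvd_index
  rw [hRI, Subgroup.index_eq_card] at h1
  exact h1 hdvd

/-- A normal subgroup of prime index contains all commutators. -/
theorem comm_mem_of_index_prime {G : Type*} [Group G] {H : Subgroup G} [H.Normal] {p : ℕ}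
    (hp : p.Prime) (hidx : H.index = p) (a b : G) : a⁻¹ * (b * a * b⁻¹) ∈ H := by
  have : Fact p.Prime := ⟨hp⟩
  have hcard : Nat.card (G ⧸ H) = p := by rw [← Subgroup.index_eq_card]; exact hidx
  have hcyc : IsCyclic (G ⧸ H) := isCyclic_of_prime_card hcard
  let _ := IsCyclic.commGroup (α := G ⧸ H)
  apply (QuotientGroup.eq_one_iff _).mp
  have h1 : (QuotientGroup.mk' H) (a⁻¹ * (b * a * b⁻¹)) = 1 := by
    rw [map_mul, map_mul, map_mul, map_inv, map_inv]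
    rw [mul_comm ((QuotientGroup.mk' H) b) ((QuotientGroup.mk' H) a), mul_assoc, mul_inv_cancel,
      mul_one, inv_mul_cancel]
  exact h1

/-- Replacing elements by elements in the same cosets of a normal subgroup. -/
theorem mul_zpow_mem_of_mul_mem {G : Type*} [Group G] {H K : Subgroup G} (hHK : H ≤ K)
    (hN : K ≤ Subgroup.normalizer (H : Set G)) {a₁ a₂ y₁ y₂ : G} (ha₁ : a₁ ∈ K) (ha₂ : a₂ ∈ K)
    (hy₁ : y₁ ∈ H) (hy₂ : y₂ ∈ H) (n : ℤ) (h : a₂ * a₁ ^ n ∈ H) :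
    (a₂ * y₂) * (a₁ * y₁) ^ n ∈ H := by
  have hn : (H.subgroupOf K).Normal := (Subgroup.normal_subgroupOf_iff_le_normalizer hHK).mpr hN
  have hy : ∀ y (hy : y ∈ H), QuotientGroup.mk' (H.subgroupOf K) ⟨y, hHK hy⟩ = 1 := by
    intro y hy
    exact (QuotientGroup.eq_one_iff _).mpr hy
  have h1 : QuotientGroup.mk' (H.subgroupOf K)
      ((⟨a₂, ha₂⟩ * ⟨y₂, hHK hy₂⟩) * (⟨a₁, ha₁⟩ * ⟨y₁, hHK hy₁⟩) ^ n) =
      QuotientGroup.mk' (H.subgroupOf K) (⟨a₂, ha₂⟩ * ⟨a₁, ha₁⟩ ^ n) := by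
    simp only [map_mul, map_zpow, hy y₁ hy₁, hy y₂ hy₂, mul_one]
  have h2 : QuotientGroup.mk' (H.subgroupOf K) (⟨a₂, ha₂⟩ * ⟨a₁, ha₁⟩ ^ n) = 1 := by
    apply (QuotientGroup.eq_one_iff _).mpr
    show ((⟨a₂, ha₂⟩ * ⟨a₁, ha₁⟩ ^ n : K) : G) ∈ H
    simpa using h
  rw [h2] at h1
  have h3' := (QuotientGroup.eq_one_iff _).mp h1
  have h3 : (((⟨a₂, ha₂⟩ * ⟨y₂, hHK hy₂⟩) * (⟨a₁, ha₁⟩ * ⟨y₁, hHK hy₁⟩) ^ n : K) : G) ∈ H := h3'
  simpa using h3

end Cfsg.Agent.Helper25.Oliver
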