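import Mathlib
import Cfsg.Agent.Helper25.FusionAlperin
import Cfsg.Agent.Helper25.FusionAut
import Cfsg.Agent.S5077

set_option autoImplicit false

/-! A criterion for the centralizer of a normal abelian subgroup to be essential. -/

namespace Cfsg.Agent.Helper25.MaxClassEss

open Cfsg Cfsg.FusionSystem Cfsg.Agent.Helper25

variable {Ω : Type*} [Group Ω] {S : Subgroup Ω}

theorem le_normalizer_of_conj_mem {H K : Subgroup Ω}
    (h : ∀ g ∈ K, ∀ x ∈ H, g * x * g⁻¹ ∈ H) : K ≤ Subgroup.normalizer (H : Set Ω) := by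
  intro g hg
  rw [Subgroup.mem_normalizer_iff]
  intro x
  constructor
  · exact h g hg x
  · intro hx
    have := h g⁻¹ (K.inv_mem hg) _ hx
    simpa [mul_assoc] using this

theorem isFullyNormalized_of_le_normalizer [Finite S] (F : FusionSystem S) {P : Subgroup Ω}
    (hPS : P ≤ S) (hN : S ≤ Subgroup.normalizer (P : Set Ω)) : F.IsFullyNormalized P := by
  refine ⟨hPS, fun Q _ => ?_⟩
  have h1 : normalizerIn S P = S := inf_eq_left.mpr hN
  rw [h1]
  unfold normalizerIn
  exact Subgroup.card_le_of_le inf_le_left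

theorem mem_center_iff_of_injective {X : Type*} [Group X] [Finite X] (f : X →* X)
    (hf : Function.Injective f) (x : X) :
    x ∈ Subgroup.center X ↔ f x ∈ Subgroup.center X := by
  have hs : Function.Surjective f := Finite.surjective_of_injective hf
  rw [Subgroup.mem_center_iff, Subgroup.mem_center_iff]
  constructor
  · intro h y
    obtain ⟨t, rfl⟩ := hs y
    rw [← map_mul, ← map_mul, h t]
  · intro h y
    apply hf
    rw [map_mul, map_mul, h (f y)]

theorem essential_of_moving [Finite S] (p : ℕ) [Fact p.Prime] (hS : IsPGroup p S)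
    (F : FusionSystem S) (hF : F.IsSaturated p) (W : Subgroup Ω) (hWS : W ≤ S)
    (hWN : S ≤ Subgroup.normalizer (W : Set Ω))
    (hWC : W ≤ Subgroup.centralizer (W : Set Ω))
    (hidx : (S ⊓ Subgroup.centralizer (W : Set Ω)).relIndex S = p)
    (φ : W →* Ω) (hφ : φ ∈ F.Hom W) (hφr : φ.range = W)
    (z : Ω) (hz : z ∈ W) (hzZ : z ∈ (Subgroup.center ↥S).map S.subtype)
    (hφz : φ ⟨z, hz⟩ ∉ (Subgroup.center ↥S).map S.subtype) :
    F.IsEssential p (S ⊓ Subgroup.centralizer (W : Set Ω)) := by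
  have hp := (Fact.out : p.Prime)
  set C := S ⊓ Subgroup.centralizer (W : Set Ω) with hC
  have hCS : C ≤ S := inf_le_left
  have hWleC : W ≤ C := le_inf hWS hWC
  have hCne : C ≠ S := by
    intro h
    rw [h, Subgroup.relIndex_self] at hidx
    exact hp.one_lt.ne hidx
  -- `S` normalizes `C`
  have hCN : S ≤ Subgroup.normalizer (C : Set Ω) := by
    apply le_normalizer_of_conj_mem
    intro g hg c hc
    refine ⟨S.mul_mem (S.mul_mem hg hc.1) (S.inv_mem hg), ?_⟩
    show _ ∈ Subgroup.centralizer (W : Set Ω)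
    rw [Subgroup.mem_centralizer_iff]
    intro w hw
    have hw' : g⁻¹ * w * g⁻¹⁻¹ ∈ W :=
      (Subgroup.mem_normalizer_iff.mp (hWN (S.inv_mem hg)) w).mp hw
    have hcomm := (Subgroup.mem_centralizer_iff.mp hc.2) _ hw'
    calc w * (g * c * g⁻¹) = g * ((g⁻¹ * w * g⁻¹⁻¹) * c) * g⁻¹ := by group
      _ = g * (c * (g⁻¹ * w * g⁻¹⁻¹)) * g⁻¹ := by rw [hcomm]
      _ = g * c * g⁻¹ * w := by group
  have hFNW : F.IsFullyNormalized W := isFullyNormalized_of_le_normalizer F hWS hWN
  have hFNC : F.IsFullyNormalized C := isFullyNormalized_of_le_normalizer F hCS hCN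
  have hrecW : F.IsReceptive W :=
    Cfsg.Agent.S5077.extension_axiom p hS F hF W
      (Cfsg.Agent.S5077.sylow_axiom p hS F hF W hFNW).1
  obtain ⟨ψ, hψ, hψext⟩ := hrecW.2 W φ hφ hφr
  have hCext : C ≤ extender S W φ := by
    intro g hg
    apply Subgroup.subset_closure
    refine ⟨hg.1, hWN hg.1, 1, S.one_mem, ?_⟩
    intro x hx
    have hcomm : g * (x : Ω) * g⁻¹ = x := by
      have := (Subgroup.mem_centralizer_iff.mp hg.2) x x.2
      rw [← this, mul_inv_cancel_right]
    rw [one_mul, inv_one, mul_one]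
    congr 1
    exact Subtype.ext hcomm
  set ψC : C →* Ω := ψ.comp (Subgroup.inclusion hCext) with hψC
  have hψCmem : ψC ∈ F.Hom C := restrict_mem F hCext hψ
  have hψCW : ∀ (w : Ω) (hw : w ∈ W), ψC ⟨w, hWleC hw⟩ = φ ⟨w, hw⟩ := by
    intro w hw
    exact hψext w hw (hCext (hWleC hw))
  have hψCC : ∀ c : C, ψC c ∈ C := by
    intro c
    refine ⟨(F.le_of_mem hψCmem).2 c, ?_⟩
    show _ ∈ Subgroup.centralizer (W : Set Ω)
    rw [Subgroup.mem_centralizer_iff]
    intro w hw
    have hw' : w ∈ φ.range := hφr.symm ▸ hw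
    obtain ⟨w', rfl⟩ := hw'
    have h1 : φ w' = ψC ⟨w', hWleC w'.2⟩ := (hψCW w' w'.2).symm
    rw [h1, ← map_mul, ← map_mul]
    congr 1
    apply Subtype.ext
    exact (Subgroup.mem_centralizer_iff.mp c.2.2) w' w'.2
  have hinj : Function.Injective ψC := F.injective_of_mem hψCmem
  have hfinC : Finite C := finite_of_le hCS
  have hrange : ψC.range = C := by
    apply Subgroup.eq_of_le_of_card_ge
    · rintro _ ⟨c, rfl⟩
      exact hψCC c
    · exact le_of_eq (Nat.card_congr (MonoidHom.ofInjective hinj).toEquiv)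
  set α₀ : MulAut C := isoOfHom ψC hinj hrange with hα₀
  have hα₀mem : α₀ ∈ F.autGroup C := by
    rw [mem_autGroup_iff F hCS]
    have : autHom α₀ = ψC := by
      ext c
      rfl
    rw [this]
    exact hψCmem
  let K : Subgroup (MulAut C) :=
    { carrier := {α | ∀ c : C, (c : Ω) ∈ (Subgroup.center ↥S).map S.subtype ↔
        ((α c : C) : Ω) ∈ (Subgroup.center ↥S).map S.subtype}
      one_mem' := fun c => Iff.rfl
      mul_mem' := fun {a b} ha hb c => (hb c).trans (ha (b c))
      inv_mem' := fun {a} ha c => by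
        have := ha (a⁻¹ c)
        rw [MulAut.apply_inv_self] at this
        exact this.symm }
  by_contra hness
  have hle := autGroup_le_closure_extendsProperly p hS F hF hFNC hCne hness
  have hcl : Subgroup.closure {α : MulAut C | ExtendsProperly F C α} ≤ K := by
    rw [Subgroup.closure_le]
    rintro α ⟨Q, hCQ, χ, hχ, hext⟩
    have hQS : Q ≤ S := (F.le_of_mem hχ).1
    have h1 := Subgroup.relIndex_mul_relIndex C Q S hCQ.le hQS
    rw [hidx] at h1
    have h2 : C.relIndex Q ≠ 1 := by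
      intro h
      exact (not_le_of_gt hCQ) (Subgroup.relIndex_eq_one.mp h)
    have h3 : Q.relIndex S = 1 := by
      rcases (Nat.dvd_prime hp).mp ⟨_, h1.symm⟩ with h | h
      · exact absurd h h2
      · rw [h] at h1
        exact Nat.eq_of_mul_eq_mul_left hp.pos (by rw [h1, mul_one])
    have hSQ : S ≤ Q := Subgroup.relIndex_eq_one.mp h3
    set χS : S →* Ω := χ.comp (Subgroup.inclusion hSQ) with hχS
    have hχSmem : χS ∈ F.Hom S := restrict_mem F hSQ hχ
    have hχSS : ∀ s : S, χS s ∈ S := (F.le_of_mem hχSmem).2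
    set f : ↥S →* ↥S := χS.codRestrict S hχSS with hf
    have hfinj : Function.Injective f := by
      intro a b hab
      apply F.injective_of_mem hχSmem
      exact congrArg Subtype.val hab
    intro c
    have hc : (c : Ω) ∈ S := hCS c.2
    have hαc : ((α c : C) : Ω) = ((f ⟨c, hc⟩ : S) : Ω) := (hext c).symm
    show (c : Ω) ∈ (Subgroup.center ↥S).map S.subtype ↔
      ((α c : C) : Ω) ∈ (Subgroup.center ↥S).map S.subtype
    rw [hαc]
    have e1 : (c : Ω) ∈ (Subgroup.center ↥S).map S.subtype ↔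
        (⟨c, hc⟩ : S) ∈ Subgroup.center ↥S :=
      Subgroup.mem_map_iff_mem S.subtype_injective (x := ⟨c, hc⟩)
    have e2 : ((f ⟨c, hc⟩ : S) : Ω) ∈ (Subgroup.center ↥S).map S.subtype ↔
        f ⟨c, hc⟩ ∈ Subgroup.center ↥S :=
      Subgroup.mem_map_iff_mem S.subtype_injective (x := f ⟨c, hc⟩)
    rw [e1, e2]
    exact mem_center_iff_of_injective f hfinj _
  have hα₀K : α₀ ∈ K := hcl (hle hα₀mem)
  have h3 := hα₀K ⟨z, hWleC hz⟩
  apply hφz
  have h2 : ((α₀ ⟨z, hWleC hz⟩ : C) : Ω) = φ ⟨z, hz⟩ := hψCW z hz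
  rw [← h2]
  exact h3.mp hzZ

end Cfsg.Agent.Helper25.MaxClassEss
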