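import Mathlib
import Cfsg.Agent.Helper25.OliverB

set_option autoImplicit false

/-! Essential subgroups in a `p`-group with an abelian subgroup of index `p`: the key subgroup `R`. -/

namespace Cfsg.Agent.Helper25.Oliver

open Cfsg Cfsg.FusionSystem Cfsg.Agent.Helper25

variable {Ω : Type*} [Group Ω] {S : Subgroup Ω}

theorem core1 [Finite S] (p : ℕ) [Fact p.Prime] (hS : IsPGroup p S) (F : FusionSystem S)
    (hF : F.IsSaturated p) (A : Subgroup Ω) (hAS : A ≤ S)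
    (hAc : ∀ a ∈ A, ∀ b ∈ A, a * b = b * a) (hAi : A.relIndex S = p)
    (P : Subgroup Ω) (hP : F.IsEssential p P) (hPA : P ≠ A) :
    ¬ P ≤ A ∧ A.relIndex P = p ∧
    ∃ R : Subgroup Ω, R ≤ P ⊓ A ∧ (∀ r ∈ R, ∀ q ∈ P, q * r = r * q) ∧ R.relIndex (P ⊓ A) = p ∧
      (∀ q₁ ∈ P, ∀ q₂ ∈ P, q₁⁻¹ * (q₂ * q₁ * q₂⁻¹) ∈ R) ∧
      (∀ x ∈ P, x ∉ A → ∀ a ∈ A, a ∈ Subgroup.normalizer (P : Set Ω) →
        x⁻¹ * (a * x * a⁻¹) ∈ R → a ∈ P) ∧
      ∃ g ∈ A, g ∈ Subgroup.normalizer (P : Set Ω) ∧ g ∉ P := by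
  have hp := (Fact.out : p.Prime)
  obtain ⟨hcen, hFN, -⟩ := id hP
  have hPS : P ≤ S := hFN.1
  have hfinP : Finite P := finite_of_le hPS
  have hC : centralizerIn S P ≤ P := hcen.2 P (isConj_refl F hPS)
  have hPneS : P ≠ S := ne_of_isEssential p hS F hF hP
  have hAN : S ≤ Subgroup.normalizer (A : Set Ω) := le_normalizer_of_index_prime hS hAS hAi
  have hPnA : ¬ P ≤ A := by
    intro h
    apply hPA
    apply le_antisymm h
    intro a ha
    apply hC
    refine ⟨hAS ha, ?_⟩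
    show a ∈ Subgroup.centralizer (P : Set Ω)
    rw [Subgroup.mem_centralizer_iff]
    intro q hq
    exact hAc q (h hq) a ha
  have hAP : A.relIndex P = p := by
    have hn : (A.subgroupOf S).Normal :=
      (Subgroup.normal_subgroupOf_iff_le_normalizer hAS).mpr hAN
    have h1 := Subgroup.relIndex_sup_left (P.subgroupOf S) (A.subgroupOf S)
    have h2 : A.subgroupOf S ⊔ P.subgroupOf S = ⊤ :=
      Cfsg.Agent.Helper1.AbIdxP.sup_eq_top_of_index_prime hp hAi (fun h => hPnA (by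
        intro q hq
        exact h (show (⟨q, hPS hq⟩ : S) ∈ P.subgroupOf S from hq)))
    rw [h2, Subgroup.relIndex_top_right, Subgroup.relIndex_subgroupOf hPS] at h1
    rw [← h1]
    exact hAi
  refine ⟨hPnA, hAP, ?_⟩
  set P₀ := P ⊓ A with hP₀
  set N₀ := A ⊓ Subgroup.normalizer (P : Set Ω) with hN₀
  have hN₀N : N₀ ≤ Subgroup.normalizer (P : Set Ω) := inf_le_right
  have hN₀P : ∀ a ∈ N₀, ∀ q ∈ P, q⁻¹ * (a * q * a⁻¹) ∈ P₀ := by
    intro a ha q hq
    refine ⟨P.mul_mem (P.inv_mem hq) ((Subgroup.mem_normalizer_iff.mp ha.2 q).mp hq), ?_⟩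
    have h1 : q⁻¹ * a * q⁻¹⁻¹ ∈ A :=
      (Subgroup.mem_normalizer_iff.mp (hAN (S.inv_mem (hPS hq))) a).mp ha.1
    have h2 := A.mul_mem h1 (A.inv_mem ha.1)
    have e : q⁻¹ * (a * q * a⁻¹) = q⁻¹ * a * q⁻¹⁻¹ * a⁻¹ := by group
    rw [e]
    exact h2
  obtain ⟨γ, hγ, hstar⟩ := exists_conj_of_isEssential p hS F hF hP P₀ N₀
    (fun a ha b hb => hAc a ha.2 b hb.2) (inf_le_left.trans hAS) hN₀N
    (fun a ha q hq => hAc a ha.1 q hq.2) hN₀P
  obtain ⟨g, hgN, hgP⟩ := exists_mem_normalizerIn_not_mem p hS hPS hPneS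
  obtain ⟨x, hxP, hxA⟩ := SetLike.not_le_iff_exists.mp hPnA
  obtain ⟨n, hn⟩ := IndexP.exists_zpow_mul_mem_rel hp hAS hAN hAi (hPS hxP) hxA hgN.1
  have hxnP : x ^ n ∈ P := P.zpow_mem hxP n
  have haN : g * x ^ n ∈ Subgroup.normalizer (P : Set Ω) :=
    Subgroup.mul_mem _ hgN.2 (Subgroup.le_normalizer hxnP)
  have haP : g * x ^ n ∉ P := by
    intro h
    apply hgP
    have := P.mul_mem h (P.inv_mem hxnP)
    rwa [mul_inv_cancel_right] at this
  have haN₀ : g * x ^ n ∈ N₀ := Subgroup.mem_inf.mpr ⟨hn, haN⟩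
  set P₀' : Subgroup ↥P := P₀.subgroupOf P with hP₀'
  set P₁' : Subgroup ↥P := P₀'.map γ.toMonoidHom with hP₁'
  have hQ : IsPGroup p ↥P := hS.to_le hPS
  have hi₀ : P₀'.index = p := by
    have : P₀.relIndex P = p := by
      rw [hP₀, Subgroup.inf_relIndex_left]
      exact hAP
    exact this
  have hi₁ : P₁'.index = p := by
    rw [hP₁', Subgroup.index_map_of_bijective γ.bijective]
    exact hi₀
  have h₀c : IsMulCommutative P₀' :=
    ⟨⟨fun a b => Subtype.ext (Subtype.ext (hAc _ a.2.2 _ b.2.2))⟩⟩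
  have h₁c : IsMulCommutative P₁' := by
    rw [hP₁']
    infer_instance
  have hne : P₁' ≠ P₀' := by
    intro heq
    apply haP
    apply hstar (g * x ^ n) haN₀
    intro q
    rw [heq]
    exact hN₀P _ haN₀ q q.2
  have hn10 : ¬ P₁' ≤ P₀' := by
    intro hle
    apply hne
    apply le_antisymm hle
    have h1 := Subgroup.relIndex_mul_index hle
    rw [hi₀, hi₁] at h1
    have h2 : P₁'.relIndex P₀' = 1 := by
      have := hp.pos
      nlinarith
    exact Subgroup.relIndex_eq_one.mp h2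
  have hn01 : ¬ P₀' ≤ P₁' := by
    intro hle
    apply hne
    apply le_antisymm ?_ hle
    have h1 := Subgroup.relIndex_mul_index hle
    rw [hi₀, hi₁] at h1
    have h2 : P₀'.relIndex P₁' = 1 := by
      have := hp.pos
      nlinarith
    exact Subgroup.relIndex_eq_one.mp h2
  set R' := P₀' ⊓ P₁' with hR'
  have hR'c : R' ≤ Subgroup.center ↥P :=
    Cfsg.Agent.Helper1.AbIdxP.inf_le_center_of_index_prime h₀c h₁c hp hi₀ hn10
  have hn₁ : P₁'.Normal := normal_of_index_prime hQ hi₁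
  have hn₀ : P₀'.Normal := normal_of_index_prime hQ hi₀
  have hR'i : R'.relIndex P₀' = p := by
    rw [hR', Subgroup.inf_relIndex_left]
    have h1 := Subgroup.relIndex_sup_left P₀' P₁'
    have h2 : P₁' ⊔ P₀' = ⊤ :=
      Cfsg.Agent.Helper1.AbIdxP.sup_eq_top_of_index_prime hp hi₁ hn01
    rw [h2, Subgroup.relIndex_top_right] at h1
    rw [← h1]
    exact hi₁
  refine ⟨R'.map P.subtype, ?_, ?_, ?_, ?_, ?_, ⟨g * x ^ n, hn, haN, haP⟩⟩
  · rintro _ ⟨r, hr, rfl⟩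
    exact hr.1
  · rintro _ ⟨r, hr, rfl⟩ q hq
    exact congrArg Subtype.val (Subgroup.mem_center_iff.mp (hR'c hr) ⟨q, hq⟩)
  · have h1 := Subgroup.relIndex_map_map_of_injective R' P₀' P.subtype_injective
    rw [hP₀', Subgroup.map_subgroupOf_eq_of_le inf_le_left] at h1
    rw [h1]
    exact hR'i
  · intro q₁ hq₁ q₂ hq₂
    exact ⟨(⟨q₁, hq₁⟩ : P)⁻¹ * (⟨q₂, hq₂⟩ * ⟨q₁, hq₁⟩ * (⟨q₂, hq₂⟩ : P)⁻¹),
      ⟨comm_mem_of_index_prime hp hi₀ _ _, comm_mem_of_index_prime hp hi₁ _ _⟩, rfl⟩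
  · intro y hyP hyA a haA haN' hax
    set δ := P.normalizerMonoidHom ⟨a, haN'⟩ with hδ
    apply hstar a (Subgroup.mem_inf.mpr ⟨haA, haN'⟩)
    have hsup : P₀' ⊔ Subgroup.zpowers (⟨y, hyP⟩ : P) = ⊤ :=
      Cfsg.Agent.Helper1.AbIdxP.sup_eq_top_of_index_prime hp hi₀ (by
        rw [Subgroup.zpowers_le]
        exact fun h => hyA h.2)
    have hL : IndexP.commSub R' hR'c δ = ⊤ := by
      rw [eq_top_iff, ← hsup, sup_le_iff]
      constructor
      · intro q hq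
        rw [IndexP.mem_commSub]
        have : δ q = q := by
          apply Subtype.ext
          show a * (q : Ω) * a⁻¹ = q
          rw [hAc a haA q hq.2, mul_inv_cancel_right]
        rw [this, inv_mul_cancel]
        exact R'.one_mem
      · rw [Subgroup.zpowers_le, IndexP.mem_commSub]
        obtain ⟨r, hr, hre⟩ := hax
        have : (⟨y, hyP⟩ : P)⁻¹ * δ ⟨y, hyP⟩ = r := Subtype.ext hre.symm
        rw [this]
        exact hr
    intro q
    have hq : q ∈ IndexP.commSub R' hR'c δ := hL ▸ Subgroup.mem_top q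
    exact ((IndexP.mem_commSub _ _ _ _).mp hq).2

end Cfsg.Agent.Helper25.Oliver
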