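import Mathlib
import Cfsg.Agent.Helper25.OliverC
import Cfsg.Agent.Helper25.MaxClassEss

set_option autoImplicit false

/-! Essential subgroups in a `p`-group with an abelian subgroup of index `p`: the structure theorem. -/

namespace Cfsg.Agent.Helper25.Oliver

open Cfsg Cfsg.FusionSystem Cfsg.Agent.Helper25

variable {Ω : Type*} [Group Ω] {S : Subgroup Ω}

theorem comm_mem_inf {A P : Subgroup Ω} (hPS : P ≤ S)
    (hAN : S ≤ Subgroup.normalizer (A : Set Ω)) {a q : Ω} (haA : a ∈ A)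
    (haN : a ∈ Subgroup.normalizer (P : Set Ω)) (hq : q ∈ P) :
    q⁻¹ * (a * q * a⁻¹) ∈ P ⊓ A := by
  refine ⟨P.mul_mem (P.inv_mem hq) ((Subgroup.mem_normalizer_iff.mp haN q).mp hq), ?_⟩
  have h1 : q⁻¹ * a * q⁻¹⁻¹ ∈ A :=
    (Subgroup.mem_normalizer_iff.mp (hAN (S.inv_mem (hPS hq))) a).mp haA
  have h2 := A.mul_mem h1 (A.inv_mem haA)
  have e : q⁻¹ * (a * q * a⁻¹) = q⁻¹ * a * q⁻¹⁻¹ * a⁻¹ := by group
  rw [e]
  exact h2

/-- An element of `A ∩ Z₂(S)` normalizes `P = P₀⟨x⟩` when `Z(S) ≤ P` and `P₀ ≤ A`. -/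
theorem mem_normalizer_of_mem_W2 {A P P₀ : Subgroup Ω} [Finite P]
    (hAc : ∀ a ∈ A, ∀ b ∈ A, a * b = b * a) (hP₀A : P₀ ≤ A) (hP₀P : P₀ ≤ P) {x : Ω}
    (hxP : x ∈ P) (hxS : x ∈ S) (hPsup : P ≤ P₀ ⊔ Subgroup.zpowers x) (hZP : ZS S ≤ P) {a : Ω}
    (haA : a ∈ A) (haW : a ∈ W2 S) : a ∈ Subgroup.normalizer (P : Set Ω) := by
  apply mem_normalizer_of_conj_mem
  have hM : P₀ ⊔ Subgroup.zpowers x ≤ P.comap (MulAut.conj a).toMonoidHom := by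
    rw [sup_le_iff]
    constructor
    · intro q hq
      show a * q * a⁻¹ ∈ P
      rw [hAc a haA q (hP₀A hq), mul_inv_cancel_right]
      exact hP₀P hq
    · rw [Subgroup.zpowers_le]
      show a * x * a⁻¹ ∈ P
      have h1 := hZP ((mem_W2.mp haW).2 x hxS)
      have h2 := P.mul_mem hxP h1
      rwa [mul_inv_cancel_left] at h2
  intro q hq
  exact hM (hPsup hq)

theorem core2 [Finite S] (p : ℕ) [Fact p.Prime] (hS : IsPGroup p S) (F : FusionSystem S)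
    (hF : F.IsSaturated p) (hna : ¬ ∀ s ∈ S, ∀ t ∈ S, s * t = t * s) (A : Subgroup Ω)
    (hAS : A ≤ S) (hAc : ∀ a ∈ A, ∀ b ∈ A, a * b = b * a) (hAi : A.relIndex S = p)
    (P : Subgroup Ω) (hP : F.IsEssential p P) (hPA : P ≠ A) :
    ∃ x ∈ P, x ∉ A ∧
      (P = ZS S ⊔ Subgroup.zpowers x ∨ (W2 S ≤ A ∧ P = W2 S ⊔ Subgroup.zpowers x)) ∧
      P.relIndex (S ⊓ Subgroup.normalizer (P : Set Ω)) = p ∧
      (ZS S).relIndex (W2 S ⊓ A) = p := by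
  have hp := (Fact.out : p.Prime)
  obtain ⟨hPnA, hAP, R, hRle, hRc, hRi, hRcomm, hker, g₀, hg₀A, hg₀N, hg₀P⟩ :=
    core1 p hS F hF A hAS hAc hAi P hP hPA
  obtain ⟨hcen, hFN, -⟩ := id hP
  have hPS : P ≤ S := hFN.1
  have hfinP : Finite P := finite_of_le hPS
  have hC : centralizerIn S P ≤ P := hcen.2 P (isConj_refl F hPS)
  have hPneS : P ≠ S := ne_of_isEssential p hS F hF hP
  have hAN : S ≤ Subgroup.normalizer (A : Set Ω) := le_normalizer_of_index_prime hS hAS hAi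
  obtain ⟨x, hxP, hxA⟩ := SetLike.not_le_iff_exists.mp hPnA
  have hxS : x ∈ S := hPS hxP
  refine ⟨x, hxP, hxA, ?_⟩
  have hSle := le_sup_zpowers hp hAS hAi hxS hxA
  have hZA : ZS S ≤ A := ZS_le hp hAS hAi hAc hna
  have hZP : ZS S ≤ P := by
    intro z hz
    apply hC
    obtain ⟨hzS, hzc⟩ := mem_ZS.mp hz
    refine ⟨hzS, ?_⟩
    show z ∈ Subgroup.centralizer (P : Set Ω)
    rw [Subgroup.mem_centralizer_iff]
    exact fun q hq => hzc q (hPS hq)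
  set P₀ := P ⊓ A with hP₀
  set N₀ := A ⊓ Subgroup.normalizer (P : Set Ω) with hN₀
  have hN₀N : N₀ ≤ Subgroup.normalizer (P : Set Ω) := inf_le_right
  have hN₀A : N₀ ≤ A := inf_le_left
  have hZP₀ : ZS S ≤ P₀ := le_inf hZP hZA
  have hP₀i : P₀.relIndex P = p := by
    rw [hP₀, Subgroup.inf_relIndex_left]
    exact hAP
  have hPle : P ≤ P₀ ⊔ Subgroup.zpowers x := by
    apply IndexP.le_of_relIndex_prime hp le_sup_left ?_ hP₀i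
    · intro h
      exact hxA (h (Subgroup.mem_sup_right (Subgroup.mem_zpowers x))).2
    · exact sup_le inf_le_left (by rw [Subgroup.zpowers_le]; exact hxP)
  have hPsup : P = P₀ ⊔ Subgroup.zpowers x :=
    le_antisymm hPle (sup_le inf_le_left (by rw [Subgroup.zpowers_le]; exact hxP))
  -- the commutator homomorphism
  let Δ : ↥N₀ →* MulAut ↥P := P.normalizerMonoidHom.comp (Subgroup.inclusion hN₀N)
  have hΔ : ∀ (a : N₀) (q : P), ((Δ a q : P) : Ω) = (a : Ω) * q * (a : Ω)⁻¹ := fun a q => rfl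
  have hfix : ∀ (a : N₀) (r : P), (r : Ω) ∈ A → Δ a r = r := by
    intro a r hr
    apply Subtype.ext
    rw [hΔ, hAc a (hN₀A a.2) r hr, mul_inv_cancel_right]
  have humem : ∀ a : N₀, ((((⟨x, hxP⟩ : P)⁻¹ * Δ a ⟨x, hxP⟩ : P)) : Ω) ∈ P₀ := by
    intro a
    exact comm_mem_inf hPS hAN (hN₀A a.2) (hN₀N a.2) hxP
  let u : ↥N₀ →* ↥P := MonoidHom.mk' (fun a => (⟨x, hxP⟩ : P)⁻¹ * Δ a ⟨x, hxP⟩) (by
    intro a b
    have h1 : Δ b ⟨x, hxP⟩ = ⟨x, hxP⟩ * ((⟨x, hxP⟩ : P)⁻¹ * Δ b ⟨x, hxP⟩) := by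
      rw [mul_inv_cancel_left]
    show (⟨x, hxP⟩ : P)⁻¹ * Δ (a * b) ⟨x, hxP⟩ =
      (⟨x, hxP⟩ : P)⁻¹ * Δ a ⟨x, hxP⟩ * ((⟨x, hxP⟩ : P)⁻¹ * Δ b ⟨x, hxP⟩)
    rw [map_mul, MulAut.mul_apply, h1, map_mul, hfix a _ (humem b).2, mul_assoc, mul_inv_cancel_left])
  have hu : ∀ a : N₀, ((u a : P) : Ω) = x⁻¹ * ((a : Ω) * x * (a : Ω)⁻¹) := fun a => rfl
  have hP₀N : P₀ ≤ Subgroup.normalizer (R : Set Ω) := by
    apply MaxClassEss.le_normalizer_of_conj_mem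
    intro q hq r hr
    rw [hRc r hr q hq.1, mul_inv_cancel_right]
    exact hr
  have hgen₀ : ∀ a₁ ∈ N₀, a₁ ∉ P → ∀ a₂ ∈ N₀, ∃ n : ℤ, a₂ * a₁ ^ n ∈ P := by
    intro a₁ ha₁ ha₁P a₂ ha₂
    have hu₁ : ((u ⟨a₁, ha₁⟩ : P) : Ω) ∉ R := by
      intro h
      exact ha₁P (hker x hxP hxA a₁ (hN₀A ha₁) (hN₀N ha₁) h)
    obtain ⟨n, hn⟩ := IndexP.exists_zpow_mul_mem_rel hp hRle hP₀N hRi (humem ⟨a₁, ha₁⟩) hu₁
      (humem ⟨a₂, ha₂⟩)
    refine ⟨n, ?_⟩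
    have h1 : ((u (⟨a₂, ha₂⟩ * ⟨a₁, ha₁⟩ ^ n) : P) : Ω) ∈ R := by
      rw [map_mul, map_zpow, Subgroup.coe_mul, Subgroup.coe_zpow]
      exact hn
    have h2 := hker x hxP hxA _ (hN₀A (⟨a₂, ha₂⟩ * ⟨a₁, ha₁⟩ ^ n : N₀).2)
      (hN₀N (⟨a₂, ha₂⟩ * ⟨a₁, ha₁⟩ ^ n : N₀).2) h1
    simpa using h2
  have hdec : ∀ g ∈ S, g ∈ Subgroup.normalizer (P : Set Ω) → ∃ a ∈ N₀, ∃ y ∈ P, g = a * y := by
    intro g hgS hgN
    obtain ⟨n, hn⟩ := IndexP.exists_zpow_mul_mem_rel hp hAS hAN hAi hxS hxA hgS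
    have hxnP : x ^ n ∈ P := P.zpow_mem hxP n
    refine ⟨g * x ^ n, Subgroup.mem_inf.mpr ⟨hn, Subgroup.mul_mem _ hgN
      (Subgroup.le_normalizer hxnP)⟩, (x ^ n)⁻¹, P.inv_mem hxnP, ?_⟩
    rw [mul_inv_cancel_right]
  have hg₀N₀ : g₀ ∈ N₀ := Subgroup.mem_inf.mpr ⟨hg₀A, hg₀N⟩
  -- index of P in its normalizer
  have hidxN : P.relIndex (S ⊓ Subgroup.normalizer (P : Set Ω)) = p := by
    have hfinN : Finite ↥(S ⊓ Subgroup.normalizer (P : Set Ω)) := finite_of_le inf_le_left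
    have hPN : P ≤ S ⊓ Subgroup.normalizer (P : Set Ω) := le_inf hPS Subgroup.le_normalizer
    apply IndexP.relIndex_eq_prime_of_generated (hS.to_le inf_le_left) hPN inf_le_right
    · intro h
      exact hg₀P (h (Subgroup.mem_inf.mpr ⟨hAS hg₀A, hg₀N⟩))
    · intro g₁ hg₁ hg₁P g₂ hg₂
      obtain ⟨a₁, ha₁, y₁, hy₁, rfl⟩ := hdec g₁ hg₁.1 hg₁.2
      obtain ⟨a₂, ha₂, y₂, hy₂, rfl⟩ := hdec g₂ hg₂.1 hg₂.2
      have ha₁P : a₁ ∉ P := fun h => hg₁P (P.mul_mem h hy₁)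
      obtain ⟨n, hn⟩ := hgen₀ a₁ ha₁ ha₁P a₂ ha₂
      refine ⟨n, ?_⟩
      exact mul_zpow_mem_of_mul_mem hPN inf_le_right
        (Subgroup.mem_inf.mpr ⟨hAS (hN₀A ha₁), hN₀N ha₁⟩)
        (Subgroup.mem_inf.mpr ⟨hAS (hN₀A ha₂), hN₀N ha₂⟩) hy₁ hy₂ n hn
  -- index of P₀ in N₀
  have hP₀N₀ : P₀ ≤ N₀ := fun q hq => Subgroup.mem_inf.mpr ⟨hq.2, Subgroup.le_normalizer hq.1⟩
  have hidx₀ : P₀.relIndex N₀ = p := by
    have hfinN : Finite ↥N₀ := finite_of_le (hN₀A.trans hAS)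
    apply IndexP.relIndex_eq_prime_of_generated (hS.to_le (hN₀A.trans hAS)) hP₀N₀
    · apply MaxClassEss.le_normalizer_of_conj_mem
      intro a ha q hq
      rw [hAc a (hN₀A ha) q hq.2, mul_inv_cancel_right]
      exact hq
    · intro h
      exact hg₀P (h hg₀N₀).1
    · intro a₁ ha₁ ha₁P a₂ ha₂
      have ha₁P' : a₁ ∉ P := fun h => ha₁P ⟨h, hN₀A ha₁⟩
      obtain ⟨n, hn⟩ := hgen₀ a₁ ha₁ ha₁P' a₂ ha₂
      exact ⟨n, hn, A.mul_mem (hN₀A ha₂) (A.zpow_mem (hN₀A ha₁) n)⟩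
  by_cases hab : ∀ q ∈ P₀, q * x = x * q
  · have hP₀Z : P₀ = ZS S :=
      le_antisymm (fun q hq => mem_ZS_of_comm hp hAS hAi hAc hxS hxA hq.2 (hab q hq)) hZP₀
    have hWN : W2 S ⊓ A = N₀ := by
      apply le_antisymm
      · intro a ha
        exact Subgroup.mem_inf.mpr ⟨ha.2, mem_normalizer_of_mem_W2 hAc inf_le_right inf_le_left
          hxP hxS hPle hZP ha.2 ha.1⟩
      · intro a ha
        refine ⟨mem_W2_of_comm hp hAS hAi hAc hxS hxA (hN₀A ha) ?_, hN₀A ha⟩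
        have h1 : x⁻¹ * (a * x * a⁻¹) ∈ P₀ := comm_mem_inf hPS hAN (hN₀A ha) (hN₀N ha) hxP
        rw [hP₀Z] at h1
        exact h1
    refine ⟨Or.inl ?_, hidxN, ?_⟩
    · rw [← hP₀Z]
      exact hPsup
    · rw [hWN, ← hP₀Z]
      exact hidx₀
  · push Not at hab
    obtain ⟨q₀, hq₀, hq₀x⟩ := hab
    have hRZ : R ≤ ZS S := by
      intro r hr
      exact mem_ZS_of_comm hp hAS hAi hAc hxS hxA (hRle hr).2 (hRc r hr x hxP).symm
    have hZR : ZS S ≤ R := by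
      by_contra h
      have h1 := IndexP.le_of_relIndex_prime hp hRZ hZP₀ hRi h
      obtain ⟨-, hc⟩ := mem_ZS.mp (h1 hq₀)
      exact hq₀x (hc x hxS).symm
    have hWA₀ : W2 S ⊓ A ≤ P₀ := by
      intro a ha
      have haN := mem_normalizer_of_mem_W2 hAc inf_le_right inf_le_left hxP hxS hPle hZP ha.2 ha.1
      have hax : x⁻¹ * (a * x * a⁻¹) ∈ R := hZR ((mem_W2.mp ha.1).2 x hxS)
      exact ⟨hker x hxP hxA a ha.2 haN hax, ha.2⟩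
    have hP₀W : P₀ ≤ W2 S := by
      intro q hq
      exact mem_W2_of_comm hp hAS hAi hAc hxS hxA hq.2 (hRZ (hRcomm x hxP q hq.1))
    have hWA : W2 S ≤ A := by
      by_contra h
      obtain ⟨y, hyW, hyA⟩ := SetLike.not_le_iff_exists.mp h
      have hAW := le_W2_of_not_le hp hAS hAi hAc hyW hyA
      have hAP₀ : A ≤ P := fun a ha => (hWA₀ ⟨hAW ha, ha⟩).1
      apply hPneS
      apply le_antisymm hPS
      exact hSle.trans (sup_le hAP₀ (by rw [Subgroup.zpowers_le]; exact hxP))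
    have hP₀eq : P₀ = W2 S := le_antisymm hP₀W (fun w hw => hWA₀ ⟨hw, hWA hw⟩)
    refine ⟨Or.inr ⟨hWA, ?_⟩, hidxN, ?_⟩
    · rw [← hP₀eq]
      exact hPsup
    · have h1 : W2 S ⊓ A = P₀ := by
        rw [hP₀eq]
        exact inf_eq_left.mpr hWA
      have h2 : ZS S = R := le_antisymm hZR hRZ
      rw [h1, h2]
      exact hRi

end Cfsg.Agent.Helper25.Oliver
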