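import Mathlib
import Cfsg.Agent.Helper25.FusionSat
import Cfsg.Agent.Helper25.FusionAut
import Cfsg.Agent.Helper25.SylowIn
import Cfsg.Agent.Helper25.FusionNormal
import Cfsg.Agent.Helper10.SylowSub
import Cfsg.Agent.S5077
import Cfsg.Agent.S5078

set_option autoImplicit false

/-! `K`-normalizers in fusion systems, in a transport-free form: for a fixed subgroup `X`, a
subgroup `K` of `Aut(X)` and a map `ψ` of the system with source `X`, the group
`N_S^{ψKψ⁻¹}(ψ X)` is described directly in terms of `ψ` and `K`. -/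

namespace Cfsg.Agent.Helper25

open Cfsg Cfsg.FusionSystem

variable {Ω : Type*} [Group Ω] {S : Subgroup Ω} {X : Subgroup Ω}

/-- `N_S^{ψKψ⁻¹}(ψ X)`: the elements `g` of `S` with `c_g ∘ ψ = ψ ∘ κ` for some `κ ∈ K`. -/
def NKvia (S : Subgroup Ω) (ψ : X →* Ω) (K : Subgroup (MulAut X)) : Subgroup Ω where
  carrier := {g | g ∈ S ∧ ∃ κ ∈ K, ∀ x : X, ψ (κ x) = g * ψ x * g⁻¹}
  one_mem' := ⟨S.one_mem, 1, K.one_mem, fun x => by simp⟩
  mul_mem' := by
    rintro a b ⟨ha, κa, hκa, hea⟩ ⟨hb, κb, hκb, heb⟩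
    refine ⟨S.mul_mem ha hb, κa * κb, K.mul_mem hκa hκb, fun x => ?_⟩
    rw [MulAut.mul_apply, hea, heb]
    group
  inv_mem' := by
    rintro a ⟨ha, κ, hκ, he⟩
    refine ⟨S.inv_mem ha, κ⁻¹, K.inv_mem hκ, fun x => ?_⟩
    have h1 := he (κ⁻¹ x)
    rw [MulAut.apply_inv_self] at h1
    rw [h1]
    group

theorem mem_NKvia {ψ : X →* Ω} {K : Subgroup (MulAut X)} {g : Ω} :
    g ∈ NKvia S ψ K ↔ g ∈ S ∧ ∃ κ ∈ K, ∀ x : X, ψ (κ x) = g * ψ x * g⁻¹ := Iff.rfl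

/-- The elements of `K` that, read through `ψ`, are induced by conjugation by elements of `S`. -/
def KSvia (S : Subgroup Ω) (ψ : X →* Ω) (K : Subgroup (MulAut X)) : Subgroup (MulAut X) where
  carrier := {κ | κ ∈ K ∧ ∃ g ∈ S, ∀ x : X, ψ (κ x) = g * ψ x * g⁻¹}
  one_mem' := ⟨K.one_mem, 1, S.one_mem, fun x => by simp⟩
  mul_mem' := by
    rintro κa κb ⟨hκa, a, ha, hea⟩ ⟨hκb, b, hb, heb⟩
    refine ⟨K.mul_mem hκa hκb, a * b, S.mul_mem ha hb, fun x => ?_⟩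
    rw [MulAut.mul_apply, hea, heb]
    group
  inv_mem' := by
    rintro κ ⟨hκ, a, ha, he⟩
    refine ⟨K.inv_mem hκ, a⁻¹, S.inv_mem ha, fun x => ?_⟩
    have h1 := he (κ⁻¹ x)
    rw [MulAut.apply_inv_self] at h1
    rw [h1]
    group

theorem mem_KSvia {ψ : X →* Ω} {K : Subgroup (MulAut X)} {κ : MulAut X} :
    κ ∈ KSvia S ψ K ↔ κ ∈ K ∧ ∃ g ∈ S, ∀ x : X, ψ (κ x) = g * ψ x * g⁻¹ := Iff.rfl

theorem NKvia_le (S : Subgroup Ω) (ψ : X →* Ω) (K : Subgroup (MulAut X)) : NKvia S ψ K ≤ S :=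
  fun _ h => h.1

theorem KSvia_le (S : Subgroup Ω) (ψ : X →* Ω) (K : Subgroup (MulAut X)) : KSvia S ψ K ≤ K :=
  fun _ h => h.1

theorem NKvia_mono (S : Subgroup Ω) (ψ : X →* Ω) {K K' : Subgroup (MulAut X)} (h : K ≤ K') :
    NKvia S ψ K ≤ NKvia S ψ K' := by
  rintro g ⟨hg, κ, hκ, he⟩
  exact ⟨hg, κ, h hκ, he⟩

theorem centralizerIn_le_NKvia (ψ : X →* Ω) (K : Subgroup (MulAut X)) :
    centralizerIn S ψ.range ≤ NKvia S ψ K := by
  intro g hg
  have hg' : g ∈ S ∧ g ∈ Subgroup.centralizer (ψ.range : Set Ω) := Subgroup.mem_inf.mp hg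
  refine ⟨hg'.1, 1, K.one_mem, fun x => ?_⟩
  have h1 := (Subgroup.mem_centralizer_iff.mp hg'.2) (ψ x) ⟨x, rfl⟩
  show ψ x = g * ψ x * g⁻¹
  rw [← h1]
  group

theorem via_unique {ψ : X →* Ω} (hinj : Function.Injective ψ) {g : Ω} {κ₁ κ₂ : MulAut X}
    (h₁ : ∀ x, ψ (κ₁ x) = g * ψ x * g⁻¹) (h₂ : ∀ x, ψ (κ₂ x) = g * ψ x * g⁻¹) : κ₁ = κ₂ := by
  apply MulEquiv.ext
  intro x
  exact hinj ((h₁ x).trans (h₂ x).symm)

/-- The homomorphism `g ↦ ψ⁻¹ c_g ψ` on `NKvia`. -/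
noncomputable def viaHom (S : Subgroup Ω) {ψ : X →* Ω} (hinj : Function.Injective ψ)
    (K : Subgroup (MulAut X)) : NKvia S ψ K →* MulAut X where
  toFun g := Classical.choose g.2.2
  map_one' := via_unique hinj (Classical.choose_spec (1 : NKvia S ψ K).2.2).2
    (fun x => by simp)
  map_mul' a b := via_unique hinj (Classical.choose_spec (a * b).2.2).2 (fun x => by
    rw [MulAut.mul_apply, (Classical.choose_spec a.2.2).2, (Classical.choose_spec b.2.2).2]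
    simp [mul_assoc])

theorem viaHom_mem {ψ : X →* Ω} (hinj : Function.Injective ψ) (K : Subgroup (MulAut X))
    (g : NKvia S ψ K) : viaHom S hinj K g ∈ K := (Classical.choose_spec g.2.2).1

theorem viaHom_spec {ψ : X →* Ω} (hinj : Function.Injective ψ) (K : Subgroup (MulAut X))
    (g : NKvia S ψ K) (x : X) : ψ (viaHom S hinj K g x) = (g : Ω) * ψ x * (g : Ω)⁻¹ :=
  (Classical.choose_spec g.2.2).2 x

theorem viaHom_range {ψ : X →* Ω} (hinj : Function.Injective ψ) (K : Subgroup (MulAut X)) :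
    (viaHom S hinj K).range = KSvia S ψ K := by
  ext κ
  constructor
  · rintro ⟨g, rfl⟩
    exact ⟨viaHom_mem hinj K g, g, g.2.1, viaHom_spec hinj K g⟩
  · rintro ⟨hκ, g, hg, he⟩
    exact ⟨⟨g, hg, κ, hκ, he⟩, via_unique hinj (viaHom_spec hinj K _) he⟩

theorem viaHom_ker {ψ : X →* Ω} (hinj : Function.Injective ψ) (K : Subgroup (MulAut X)) :
    (viaHom S hinj K).ker = (centralizerIn S ψ.range).subgroupOf (NKvia S ψ K) := by
  ext g
  rw [MonoidHom.mem_ker, Subgroup.mem_subgroupOf]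
  constructor
  · intro h
    refine Subgroup.mem_inf.mpr ⟨g.2.1, Subgroup.mem_centralizer_iff.mpr ?_⟩
    rintro _ ⟨x, rfl⟩
    have h1 := viaHom_spec hinj K g x
    rw [h] at h1
    have h2 : ψ x = (g : Ω) * ψ x * (g : Ω)⁻¹ := h1
    calc ψ x * g = ((g : Ω) * ψ x * (g : Ω)⁻¹) * g := by rw [← h2]
      _ = g * ψ x := by group
  · intro h
    have hg' : (g : Ω) ∈ S ∧ (g : Ω) ∈ Subgroup.centralizer (ψ.range : Set Ω) :=
      Subgroup.mem_inf.mp h
    apply via_unique hinj (viaHom_spec hinj K g)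
    intro x
    have h1 := (Subgroup.mem_centralizer_iff.mp hg'.2) (ψ x) ⟨x, rfl⟩
    show ψ x = (g : Ω) * ψ x * (g : Ω)⁻¹
    rw [← h1]
    group

/-- `|N_S^K| = |C_S| · |Aut_S^K|`, in the transport-free form. -/
theorem card_NKvia {ψ : X →* Ω} (hinj : Function.Injective ψ) (K : Subgroup (MulAut X)) :
    Nat.card (NKvia S ψ K) =
      Nat.card (centralizerIn S ψ.range) * Nat.card (KSvia S ψ K) := by
  have h1 := Subgroup.card_mul_index (viaHom S hinj K).ker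
  rw [Subgroup.index_ker, viaHom_range, viaHom_ker] at h1
  rw [← h1]
  congr 1
  exact Nat.card_congr (Subgroup.subgroupOfEquivOfLe (centralizerIn_le_NKvia (S := S) ψ K)).toEquiv

theorem KSvia_isPGroup {p : ℕ} (hS : IsPGroup p S) {ψ : X →* Ω} (hinj : Function.Injective ψ)
    (K : Subgroup (MulAut X)) : IsPGroup p (KSvia S ψ K) := by
  rw [← viaHom_range hinj K]
  have h1 : IsPGroup p (NKvia S ψ K) :=
    hS.of_injective (Subgroup.inclusion (NKvia_le S ψ K)) (Subgroup.inclusion_injective _)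
  exact h1.of_surjective (viaHom S hinj K).rangeRestrict (viaHom S hinj K).rangeRestrict_surjective

/-- Elements of `KSvia` are automorphisms of the system. -/
theorem KSvia_le_autGroup (F : FusionSystem S) {ψ : X →* Ω} (hψ : ψ ∈ F.Hom X)
    (K : Subgroup (MulAut X)) : KSvia S ψ K ≤ F.autGroup X := by
  rintro κ ⟨-, g, hg, he⟩
  have hXS : X ≤ S := (F.le_of_mem hψ).1
  have hrS : ψ.range ≤ S := by
    rintro _ ⟨x, rfl⟩
    exact (F.le_of_mem hψ).2 x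
  rw [mem_autGroup_iff F hXS]
  have hc : conjHom ψ.range g ∈ F.Hom ψ.range := F.conj_mem hrS hg
  have h1 : (conjHom ψ.range g).comp (ψ.codRestrict ψ.range (fun x => ⟨x, rfl⟩)) ∈ F.Hom X :=
    F.comp_mem hψ hc _
  have h2 := isoOfHom_symm_mem F hψ rfl
  have hval : ∀ x : X, ((conjHom ψ.range g).comp
      (ψ.codRestrict ψ.range (fun x => ⟨x, rfl⟩))) x ∈ ψ.range := by
    intro x
    exact ⟨κ x, he x⟩
  refine comp_mem' F h1 h2 hval (fun x => ?_)
  show ((κ x : X) : Ω) = (((isoOfHom ψ (F.injective_of_mem hψ) rfl).symm ⟨_, hval x⟩ : X) : Ω)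
  have h3 : (⟨_, hval x⟩ : ψ.range) = isoOfHom ψ (F.injective_of_mem hψ) rfl (κ x) :=
    Subtype.ext (he x).symm
  rw [h3, MulEquiv.symm_apply_apply]

theorem NKvia_le_normalizer (ψ : X →* Ω) (K : Subgroup (MulAut X)) :
    NKvia S ψ K ≤ Subgroup.normalizer (ψ.range : Set Ω) := by
  rintro g ⟨-, κ, -, he⟩
  rw [Subgroup.mem_normalizer_iff]
  intro h
  constructor
  · rintro ⟨x, rfl⟩
    exact ⟨κ x, he x⟩
  · rintro ⟨y, hy⟩
    refine ⟨κ⁻¹ y, ?_⟩
    have h1 := he (κ⁻¹ y)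
    rw [MulAut.apply_inv_self, hy] at h1
    have h2 : ψ (κ⁻¹ y) = g⁻¹ * (g * h * g⁻¹) * g := by
      rw [h1]
      group
    rw [h2]
    group

/-- A `p`-subgroup of `Aut_F(X)` can be moved into `Aut_S` by a map of the system onto a fully
automized receptive subgroup. -/
theorem exists_hom_into_autS [Finite S] (p : ℕ) [Fact p.Prime] (F : FusionSystem S)
    (hF : F.IsSaturated p) (hXS : X ≤ S) (U : Subgroup (MulAut X)) (hU : U ≤ F.autGroup X)
    (hUp : IsPGroup p U) :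
    ∃ (Q : Subgroup Ω) (χ : X →* Ω), χ ∈ F.Hom X ∧ χ.range = Q ∧ F.IsFullyAutomized p Q ∧
      F.IsReceptive Q ∧ ∀ u ∈ U, ∃ s ∈ S, ∀ x : X, χ (u x) = s * χ x * s⁻¹ := by
  obtain ⟨Q, ⟨ψ, hψ, hr⟩, hFA, hrec⟩ := hF X hXS
  obtain ⟨hQS, R, hR⟩ := hFA
  have hfinQ : Finite Q := finite_of_le hQS
  have hfinA : Finite (MulAut Q) :=
    Finite.of_injective (fun e : MulAut Q => (e : Q → Q)) (fun a b h => DFunLike.coe_injective h)
  set e := isoOfHom ψ (F.injective_of_mem hψ) hr with he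
  set U' : Subgroup (F.autGroup Q) :=
    (U.map (MulAut.congr e).toMonoidHom).subgroupOf (F.autGroup Q) with hU'def
  have hU' : IsPGroup p U' := (hUp.map _).comap_subtype
  obtain ⟨c, -, hc⟩ := Cfsg.Agent.Helper10.exists_conj_le_sylow_of_le R ⊤ U' le_top hU' le_top
  have hcF : autHom (c : MulAut Q) ∈ F.Hom Q := (mem_autGroup_iff F hQS _).mp c.2
  have hval : ∀ x : X, ψ x ∈ Q := fun x => hr ▸ ⟨x, rfl⟩
  refine ⟨Q, (autHom (c : MulAut Q)).comp (ψ.codRestrict Q hval), F.comp_mem hψ hcF _, ?_,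
    ⟨hQS, R, hR⟩, hrec, ?_⟩
  · ext y
    constructor
    · rintro ⟨x, rfl⟩
      exact ((c : MulAut Q) _).2
    · intro hy
      refine ⟨e.symm ((c : MulAut Q)⁻¹ ⟨y, hy⟩), ?_⟩
      show (((c : MulAut Q) ⟨ψ (e.symm ((c : MulAut Q)⁻¹ ⟨y, hy⟩)), _⟩ : Q) : Ω) = y
      have h1 : (⟨ψ (e.symm ((c : MulAut Q)⁻¹ ⟨y, hy⟩)), hval _⟩ : Q) =
          e (e.symm ((c : MulAut Q)⁻¹ ⟨y, hy⟩)) := Subtype.ext rfl
      rw [h1, MulEquiv.apply_symm_apply, MulAut.apply_inv_self]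
  · intro u hu
    have hu' : (⟨MulAut.congr e u, congr_mem_autGroup F hψ hr (hU hu)⟩ : F.autGroup Q) ∈ U' := by
      rw [hU'def, Subgroup.mem_subgroupOf]
      exact ⟨u, hu, rfl⟩
    have h1 := hc _ hu'
    rw [hR, Subgroup.mem_subgroupOf] at h1
    obtain ⟨s, hsS, hs⟩ := (mem_autInducedBy_iff S Q _).mp h1
    refine ⟨s, hsS, fun x => ?_⟩
    have h2 := hs ((c : MulAut Q) (e x))
    have e1 : ((c * ⟨MulAut.congr e u, congr_mem_autGroup F hψ hr (hU hu)⟩ * c⁻¹ :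
        F.autGroup Q) : MulAut Q) ((c : MulAut Q) (e x)) = (c : MulAut Q) (e (u x)) := by
      show (c : MulAut Q) ((MulAut.congr e u) ((c : MulAut Q)⁻¹ ((c : MulAut Q) (e x)))) = _
      rw [MulAut.inv_apply_self]
      show (c : MulAut Q) (e (u (e.symm (e x)))) = _
      rw [MulEquiv.symm_apply_apply]
    rw [e1] at h2
    exact h2

/-- Consequences of maximality of `|N_S^K|` (the analogue of "fully `K`-normalized implies fully
centralized and `Aut_S^K` Sylow in `Aut_F^K`"). -/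
theorem max_props [Finite S] (p : ℕ) [Fact p.Prime] (hS : IsPGroup p S) (F : FusionSystem S)
    (hF : F.IsSaturated p) (hXS : X ≤ S) (K : Subgroup (MulAut X)) {ψ : X →* Ω}
    (hψ : ψ ∈ F.Hom X)
    (hmax : ∀ ψ' ∈ F.Hom X, Nat.card (NKvia S ψ' K) ≤ Nat.card (NKvia S ψ K)) :
    F.IsFullyCentralized ψ.range ∧
      Nat.card (KSvia S ψ K) = pPart p (Nat.card ↥(K ⊓ F.autGroup X)) := by
  have hfinX : Finite X := finite_of_le hXS
  have hfinA : Finite (MulAut X) :=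
    Finite.of_injective (fun e : MulAut X => (e : X → X)) (fun a b h => DFunLike.coe_injective h)
  have hrS : ψ.range ≤ S := by
    rintro _ ⟨x, rfl⟩
    exact (F.le_of_mem hψ).2 x
  have hbound : ∀ ψ' ∈ F.Hom X,
      Nat.card (KSvia S ψ' K) ≤ pPart p (Nat.card ↥(K ⊓ F.autGroup X)) := fun ψ' hψ' =>
    card_le_pPart_of_isPGroup p (KSvia_isPGroup hS (F.injective_of_mem hψ') K)
      (le_inf (KSvia_le S ψ' K) (KSvia_le_autGroup F hψ' K))
  obtain ⟨T, -, hTG, hTp, hTcard⟩ := exists_pSubgroup_card_eq_pPart p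
    (U := (⊥ : Subgroup (MulAut X))) (H := K ⊓ F.autGroup X) IsPGroup.of_bot bot_le
  obtain ⟨Q, χ, hχ, hχr, hFA, hrec, hχU⟩ :=
    exists_hom_into_autS p F hF hXS T (hTG.trans inf_le_right) hTp
  have hTle : T ≤ KSvia S χ K := fun u hu => ⟨(hTG hu).1, hχU u hu⟩
  have hcardχ : Nat.card (KSvia S χ K) = pPart p (Nat.card ↥(K ⊓ F.autGroup X)) :=
    le_antisymm (hbound χ hχ) (hTcard ▸ Subgroup.card_le_of_le hTle)
  have hFCQ : F.IsFullyCentralized Q := Cfsg.Agent.S5078.result F Q hrec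
  have hconj : F.IsConj Q ψ.range :=
    isConj_trans F (isConj_symm F ⟨χ, hχ, hχr⟩) ⟨ψ, hψ, rfl⟩
  have hc1 := hFCQ.2 ψ.range hconj
  have hk1 := hbound ψ hψ
  have h1 := hmax χ hχ
  rw [card_NKvia (F.injective_of_mem hχ) K, card_NKvia (F.injective_of_mem hψ) K, hcardχ, hχr]
    at h1
  have hfinC : Finite (centralizerIn S ψ.range) := finite_of_le inf_le_left
  have hfinCQ : Finite (centralizerIn S Q) := finite_of_le inf_le_left
  have hposC : 0 < Nat.card (centralizerIn S Q) := Nat.card_pos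
  have hposk : 0 < Nat.card (KSvia S ψ K) := Nat.card_pos
  have h2 : Nat.card (centralizerIn S ψ.range) * Nat.card (KSvia S ψ K) ≤
      Nat.card (centralizerIn S Q) * Nat.card (KSvia S ψ K) := Nat.mul_le_mul_right _ hc1
  have h3 : Nat.card (centralizerIn S Q) * Nat.card (KSvia S ψ K) ≤
      Nat.card (centralizerIn S Q) * pPart p (Nat.card ↥(K ⊓ F.autGroup X)) :=
    Nat.mul_le_mul_left _ hk1
  have hk : Nat.card (KSvia S ψ K) = pPart p (Nat.card ↥(K ⊓ F.autGroup X)) := by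
    have h4 : Nat.card (centralizerIn S Q) * pPart p (Nat.card ↥(K ⊓ F.autGroup X)) ≤
        Nat.card (centralizerIn S Q) * Nat.card (KSvia S ψ K) := h1.trans h2
    exact le_antisymm hk1 (Nat.le_of_mul_le_mul_left h4 hposC)
  have hc : Nat.card (centralizerIn S ψ.range) = Nat.card (centralizerIn S Q) := by
    have h4 : Nat.card (centralizerIn S Q) * Nat.card (KSvia S ψ K) ≤
        Nat.card (centralizerIn S ψ.range) * Nat.card (KSvia S ψ K) := h3.trans h1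
    exact le_antisymm hc1 (Nat.le_of_mul_le_mul_right h4 hposk)
  refine ⟨⟨hrS, fun Y hY => ?_⟩, hk⟩
  rw [hc]
  exact hFCQ.2 Y (isConj_trans F hconj hY)

/-- The extension property (the analogue of AKO I.5.2(c)): if `ψ(X)` is receptive and
`Aut_S^K` is Sylow in `Aut_F^K` (read through `ψ`), then for every other map `ψ'` of the system
with source `X`, some `ψ ∘ χ ∘ ψ'⁻¹` with `χ ∈ K ∩ Aut_F(X)` extends to `ψ'(X) · N_S^K` (read
through `ψ'`). -/
theorem exists_extension_of_sylow [Finite S] (p : ℕ) [Fact p.Prime] (hS : IsPGroup p S)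
    (F : FusionSystem S) (hXS : X ≤ S) (K : Subgroup (MulAut X)) {ψ : X →* Ω}
    (hψ : ψ ∈ F.Hom X) (hrec : F.IsReceptive ψ.range)
    (hcard : Nat.card (KSvia S ψ K) = pPart p (Nat.card ↥(K ⊓ F.autGroup X)))
    {ψ' : X →* Ω} (hψ' : ψ' ∈ F.Hom X) :
    ∃ χ ∈ K ⊓ F.autGroup X, ∃ ρ ∈ F.Hom (ψ'.range ⊔ NKvia S ψ' K),
      ∀ (x : X) (hx : ψ' x ∈ ψ'.range ⊔ NKvia S ψ' K), ρ ⟨ψ' x, hx⟩ = ψ (χ x) := by
  have hfinX : Finite X := finite_of_le hXS
  have hfinA : Finite (MulAut X) :=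
    Finite.of_injective (fun e : MulAut X => (e : X → X)) (fun a b h => DFunLike.coe_injective h)
  have hr'S : ψ'.range ≤ S := by
    rintro _ ⟨x, rfl⟩
    exact (F.le_of_mem hψ').2 x
  have hR₀G : KSvia S ψ K ≤ K ⊓ F.autGroup X :=
    le_inf (KSvia_le S ψ K) (KSvia_le_autGroup F hψ K)
  have hUG : KSvia S ψ' K ≤ K ⊓ F.autGroup X :=
    le_inf (KSvia_le S ψ' K) (KSvia_le_autGroup F hψ' K)
  obtain ⟨R, hR⟩ := (isSylowIn_iff_card p (KSvia S ψ K) (K ⊓ F.autGroup X)).mpr (by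
    rw [inf_of_le_left hR₀G]; exact hcard)
  have hUp : IsPGroup p ((KSvia S ψ' K).subgroupOf (K ⊓ F.autGroup X)) :=
    (KSvia_isPGroup hS (F.injective_of_mem hψ') K).comap_subtype
  obtain ⟨c, -, hc⟩ := Cfsg.Agent.Helper10.exists_conj_le_sylow_of_le R ⊤ _ le_top hUp le_top
  have hcK : (c : MulAut X) ∈ K := c.2.1
  have hcA : (c : MulAut X) ∈ F.autGroup X := c.2.2
  have hcF : autHom (c : MulAut X) ∈ F.Hom X := (mem_autGroup_iff F hXS _).mp hcA
  -- the map `φ = ψ ∘ c ∘ ψ'⁻¹`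
  set e' := isoOfHom ψ' (F.injective_of_mem hψ') rfl with he'
  have h1 := isoOfHom_symm_mem F hψ' rfl
  have h2 : (autHom (c : MulAut X)).comp e'.symm.toMonoidHom ∈ F.Hom ψ'.range :=
    comp_mem' F h1 hcF (fun y => (e'.symm y).2) (fun y => rfl)
  have hφ : (ψ.comp (c : MulAut X).toMonoidHom).comp e'.symm.toMonoidHom ∈ F.Hom ψ'.range :=
    comp_mem' F h2 hψ (fun y => ((c : MulAut X) (e'.symm y)).2) (fun y => rfl)
  set φ : ψ'.range →* Ω := (ψ.comp (c : MulAut X).toMonoidHom).comp e'.symm.toMonoidHom with hφdef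
  have hφS : ∀ y, φ y ∈ S := (F.le_of_mem hφ).2
  have hφr : φ.range = ψ.range := by
    ext y
    constructor
    · rintro ⟨z, rfl⟩
      exact ⟨(c : MulAut X) (e'.symm z), rfl⟩
    · rintro ⟨x, rfl⟩
      refine ⟨e' ((c : MulAut X)⁻¹ x), ?_⟩
      show ψ ((c : MulAut X) (e'.symm (e' ((c : MulAut X)⁻¹ x)))) = ψ x
      rw [MulEquiv.symm_apply_apply, MulAut.apply_inv_self]
  obtain ⟨ρ₀, hρ₀, hρ₀e⟩ := hrec.2 ψ'.range φ hφ hφr
  have hle : ψ'.range ⊔ NKvia S ψ' K ≤ extender S ψ'.range φ := by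
    apply sup_le (le_extender hr'S φ hφS)
    intro g hg
    apply Subgroup.subset_closure
    obtain ⟨hgS, κ, hκ, hκe⟩ := hg
    refine ⟨hgS, NKvia_le_normalizer ψ' K ⟨hgS, κ, hκ, hκe⟩, ?_⟩
    have hκU : (⟨κ, hUG ⟨hκ, g, hgS, hκe⟩⟩ : ↥(K ⊓ F.autGroup X)) ∈
        (KSvia S ψ' K).subgroupOf (K ⊓ F.autGroup X) := by
      rw [Subgroup.mem_subgroupOf]
      exact ⟨hκ, g, hgS, hκe⟩
    have h3 := hc _ hκU
    rw [hR, Subgroup.mem_subgroupOf] at h3
    obtain ⟨-, h, hhS, hh⟩ := h3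
    refine ⟨h, hhS, fun x hx => ?_⟩
    -- `x = ψ' y`
    have hxy : ψ' (e'.symm x) = x := congrArg Subtype.val (e'.apply_symm_apply x)
    have h4 : e'.symm ⟨g * (x : Ω) * g⁻¹, hx⟩ = κ (e'.symm x) := by
      apply e'.injective
      rw [MulEquiv.apply_symm_apply]
      apply Subtype.ext
      show g * (x : Ω) * g⁻¹ = ψ' (κ (e'.symm x))
      rw [hκe, hxy]
    show ψ ((c : MulAut X) (e'.symm ⟨g * (x : Ω) * g⁻¹, hx⟩)) =
      h * ψ ((c : MulAut X) (e'.symm x)) * h⁻¹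
    rw [h4, ← hh ((c : MulAut X) (e'.symm x))]
    congr 1
    show (c : MulAut X) (κ (e'.symm x)) =
      (c : MulAut X) (κ ((c : MulAut X)⁻¹ ((c : MulAut X) (e'.symm x))))
    rw [MulAut.inv_apply_self]
  refine ⟨c, c.2, ρ₀.comp (Subgroup.inclusion hle), restrict_mem F hle hρ₀, fun x hx => ?_⟩
  have h5 := hρ₀e (ψ' x) ⟨x, rfl⟩ (hle hx)
  show ρ₀ ⟨ψ' x, hle hx⟩ = ψ ((c : MulAut X) x)
  rw [h5]
  show ψ ((c : MulAut X) (e'.symm ⟨ψ' x, ⟨x, rfl⟩⟩)) = _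
  have h6 : e'.symm ⟨ψ' x, ⟨x, rfl⟩⟩ = x := by
    apply e'.injective
    rw [MulEquiv.apply_symm_apply]
    rfl
  rw [h6]

/-- Existence of maximal maps. -/
theorem exists_max_via [Finite S] (F : FusionSystem S) (hXS : X ≤ S) (K : Subgroup (MulAut X)) :
    ∃ ψ ∈ F.Hom X, ∀ ψ' ∈ F.Hom X, Nat.card (NKvia S ψ' K) ≤ Nat.card (NKvia S ψ K) := by
  classical
  let T : Set ℕ := {n | ∃ ψ ∈ F.Hom X, Nat.card (NKvia S ψ K) = n}
  have hTne : T.Nonempty := ⟨_, X.subtype, subtype_mem F hXS, rfl⟩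
  have hTbdd : BddAbove T := by
    refine ⟨Nat.card S, ?_⟩
    rintro _ ⟨ψ, -, rfl⟩
    exact Nat.card_le_card_of_injective (Subgroup.inclusion (NKvia_le S ψ K))
      (Subgroup.inclusion_injective _)
  obtain ⟨ψ, hψ, hmax⟩ := Nat.sSup_mem hTne hTbdd
  refine ⟨ψ, hψ, fun ψ' hψ' => ?_⟩
  rw [hmax]
  exact le_csSup hTbdd ⟨ψ', hψ', rfl⟩

end Cfsg.Agent.Helper25
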