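import Mathlib
import Cfsg.Agent.Helper25.FusionKNorm
import Cfsg.Agent.Helper25.FusionNC

set_option autoImplicit false

/-! The `K`-normalizer system `N_F^K(Q)` of a fully `K`-normalized subgroup is saturated. -/

namespace Cfsg.Agent.Helper25

open Cfsg Cfsg.FusionSystem

variable {Ω : Type*} [Group Ω] {S : Subgroup Ω}

/-- The maps of `N_F^K(Q)` with source `P` (over the subgroup `N₀`). -/
def NKHom (F : FusionSystem S) (Q : Subgroup Ω) (K : Subgroup (MulAut Q)) (N₀ P : Subgroup Ω) :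
    Set (P →* Ω) :=
  {φ | φ ∈ F.Hom P ∧ P ≤ N₀ ∧ (∀ x : P, φ x ∈ N₀) ∧
    ∃ ψ ∈ F.Hom (P ⊔ Q), (∀ x : P, ψ (Subgroup.inclusion le_sup_left x) = φ x) ∧
      ∃ κ ∈ K, ∀ x : Q, ψ (Subgroup.inclusion le_sup_right x) = κ x}

/-- The group `K_P` of automorphisms of `P ⊔ Q` preserving `P` and inducing an element of `K`
on `Q`. -/
def KP (P Q : Subgroup Ω) (K : Subgroup (MulAut Q)) : Subgroup (MulAut ↥(P ⊔ Q)) where
  carrier := {α | (∀ x : ↥(P ⊔ Q), ((α x : ↥(P ⊔ Q)) : Ω) ∈ P ↔ (x : Ω) ∈ P) ∧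
    ∃ κ ∈ K, ∀ x : Q, ((α (Subgroup.inclusion le_sup_right x) : ↥(P ⊔ Q)) : Ω) = κ x}
  one_mem' := ⟨fun x => Iff.rfl, 1, K.one_mem, fun x => rfl⟩
  mul_mem' := by
    rintro α β ⟨hα, κa, hκa, hea⟩ ⟨hβ, κb, hκb, heb⟩
    refine ⟨fun x => (hα (β x)).trans (hβ x), κa * κb, K.mul_mem hκa hκb, fun x => ?_⟩
    have h1 : β (Subgroup.inclusion le_sup_right x) = Subgroup.inclusion le_sup_right (κb x) :=
      Subtype.ext (heb x)
    rw [MulAut.mul_apply, h1, hea]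
    rfl
  inv_mem' := by
    rintro α ⟨hα, κ, hκ, he⟩
    refine ⟨fun x => ?_, κ⁻¹, K.inv_mem hκ, fun x => ?_⟩
    · have h1 := hα (α⁻¹ x)
      rw [MulAut.apply_inv_self] at h1
      exact h1.symm
    · have h1 : α (Subgroup.inclusion le_sup_right (κ⁻¹ x)) = Subgroup.inclusion le_sup_right x := by
        apply Subtype.ext
        rw [he, MulAut.apply_inv_self]
        rfl
      rw [← h1, MulAut.inv_apply_self]
      rfl

theorem mem_KP {P Q : Subgroup Ω} {K : Subgroup (MulAut Q)} {α : MulAut ↥(P ⊔ Q)} :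
    α ∈ KP P Q K ↔ (∀ x : ↥(P ⊔ Q), ((α x : ↥(P ⊔ Q)) : Ω) ∈ P ↔ (x : Ω) ∈ P) ∧
      ∃ κ ∈ K, ∀ x : Q, ((α (Subgroup.inclusion le_sup_right x) : ↥(P ⊔ Q)) : Ω) = κ x := Iff.rfl

/-- Membership in `N₀ = N_S^K(Q)`. -/
theorem mem_NKvia_subtype {Q : Subgroup Ω} {K : Subgroup (MulAut Q)} {g : Ω} :
    g ∈ NKvia S Q.subtype K ↔ g ∈ S ∧ ∃ κ ∈ K, ∀ x : Q, ((κ x : Q) : Ω) = g * x * g⁻¹ := Iff.rfl

theorem NKvia_subtype_le_normalizer (Q : Subgroup Ω) (K : Subgroup (MulAut Q)) :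
    NKvia S Q.subtype K ≤ Subgroup.normalizer (Q : Set Ω) := by
  have h := NKvia_le_normalizer (S := S) Q.subtype K
  rwa [Subgroup.range_subtype] at h

/-- An element normalizing `P` and `Q` normalizes `P ⊔ Q`. -/
theorem mem_normalizer_sup {P Q : Subgroup Ω} {g : Ω} (hP : g ∈ Subgroup.normalizer (P : Set Ω))
    (hQ : g ∈ Subgroup.normalizer (Q : Set Ω)) : g ∈ Subgroup.normalizer ((P ⊔ Q : Subgroup Ω) : Set Ω) := by
  have hle : Subgroup.closure ({g} : Set Ω) ≤ Subgroup.normalizer ((P ⊔ Q : Subgroup Ω) : Set Ω) := by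
    have h1 : Subgroup.closure ({g} : Set Ω) ≤ Subgroup.normalizer (P : Set Ω) := by
      rw [Subgroup.closure_le]; simpa using hP
    have h2 : Subgroup.closure ({g} : Set Ω) ≤ Subgroup.normalizer (Q : Set Ω) := by
      rw [Subgroup.closure_le]; simpa using hQ
    intro y hy
    rw [Subgroup.mem_normalizer_iff]
    have key : ∀ z : Ω, z ∈ Subgroup.closure ({g} : Set Ω) → ∀ h ∈ P ⊔ Q, z * h * z⁻¹ ∈ P ⊔ Q := by
      intro z hz h hh
      have hzP := h1 hz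
      have hzQ := h2 hz
      have hmap : (P ⊔ Q).map (MulAut.conj z).toMonoidHom ≤ P ⊔ Q := by
        rw [Subgroup.map_sup]
        apply sup_le_sup
        · rintro _ ⟨x, hx, rfl⟩
          exact (Subgroup.mem_normalizer_iff.mp hzP x).mp hx
        · rintro _ ⟨x, hx, rfl⟩
          exact (Subgroup.mem_normalizer_iff.mp hzQ x).mp hx
      exact hmap ⟨h, hh, rfl⟩
    intro h
    constructor
    · exact key y hy h
    · intro hh
      have := key y⁻¹ (inv_mem hy) _ hh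
      simpa [mul_assoc] using this
  exact hle (Subgroup.subset_closure rfl)

/-- `N_S^{K_P}(P ⊔ Q) = N_{N₀}(P)`. -/
theorem NKvia_KP_eq {P Q : Subgroup Ω} (K : Subgroup (MulAut Q)) :
    NKvia S (P ⊔ Q).subtype (KP P Q K) = normalizerIn (NKvia S Q.subtype K) P := by
  ext g
  constructor
  · rintro ⟨hgS, α, ⟨hαP, κ, hκ, hκe⟩, hα⟩
    have hα' : ∀ x : ↥(P ⊔ Q), ((α x : ↥(P ⊔ Q)) : Ω) = g * x * g⁻¹ := hα
    refine Subgroup.mem_inf.mpr ⟨⟨hgS, κ, hκ, fun x => ?_⟩, ?_⟩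
    · show ((κ x : Q) : Ω) = g * (x : Ω) * g⁻¹
      rw [← hκe x]
      exact hα' _
    · rw [Subgroup.mem_normalizer_iff]
      intro h
      constructor
      · intro hh
        have := (hαP ⟨h, (le_sup_left : P ≤ P ⊔ Q) hh⟩).mpr hh
        rwa [hα'] at this
      · intro hh
        -- `h = α⁻¹ ⟨g h g⁻¹⟩`
        set y : ↥(P ⊔ Q) := ⟨g * h * g⁻¹, (le_sup_left : P ≤ P ⊔ Q) hh⟩ with hy
        have h1 : ((α (α⁻¹ y) : ↥(P ⊔ Q)) : Ω) = g * ((α⁻¹ y : ↥(P ⊔ Q)) : Ω) * g⁻¹ := hα' _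
        rw [MulAut.apply_inv_self] at h1
        have h2 : ((α⁻¹ y : ↥(P ⊔ Q)) : Ω) = h := by
          have h3 : g * h * g⁻¹ = g * ((α⁻¹ y : ↥(P ⊔ Q)) : Ω) * g⁻¹ := h1
          exact (mul_left_cancel (mul_right_cancel h3)).symm
        have h4 := (hαP (α⁻¹ y))
        rw [MulAut.apply_inv_self] at h4
        rw [← h2]
        exact h4.mp hh
  · intro hg
    have hg' : g ∈ NKvia S Q.subtype K ∧ g ∈ Subgroup.normalizer (P : Set Ω) :=
      Subgroup.mem_inf.mp hg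
    obtain ⟨⟨hgS, κ, hκ, hκe⟩, hgP⟩ := hg'
    have hgQ : g ∈ Subgroup.normalizer (Q : Set Ω) :=
      NKvia_subtype_le_normalizer Q K ⟨hgS, κ, hκ, hκe⟩
    have hgX := mem_normalizer_sup hgP hgQ
    refine ⟨hgS, (P ⊔ Q).normalizerMonoidHom ⟨g, hgX⟩, ⟨fun x => ?_, κ, hκ, fun x => ?_⟩,
      fun x => rfl⟩
    · exact (Subgroup.mem_normalizer_iff.mp hgP x).symm
    · exact (hκe x).symm

/-- Step 1: for a subgroup `P` fully normalized in `N_F^K(Q)`, the inclusion of `P ⊔ Q` is maximal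
for `K_P`. -/
theorem card_NKvia_KP_le [Finite S] (p : ℕ) [Fact p.Prime] (hS : IsPGroup p S)
    (F : FusionSystem S) (hF : F.IsSaturated p) {Q : Subgroup Ω} (hQS : Q ≤ S)
    (K : Subgroup (MulAut Q))
    (hQmax : ∀ ψ' ∈ F.Hom Q, Nat.card (NKvia S ψ' K) ≤ Nat.card (NKvia S Q.subtype K))
    (E : FusionSystem (NKvia S Q.subtype K))
    (hE : ∀ P : Subgroup Ω, E.Hom P = NKHom F Q K (NKvia S Q.subtype K) P)
    {P : Subgroup Ω} (hFN : E.IsFullyNormalized P) {ψ : ↥(P ⊔ Q) →* Ω}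
    (hψ : ψ ∈ F.Hom (P ⊔ Q)) :
    Nat.card (NKvia S ψ (KP P Q K)) ≤ Nat.card (NKvia S (P ⊔ Q).subtype (KP P Q K)) := by
  have hPN : P ≤ NKvia S Q.subtype K := hFN.1
  have hN₀S : NKvia S Q.subtype K ≤ S := NKvia_le _ _ _
  have hPS : P ≤ S := hPN.trans hN₀S
  have hfinN₀ : Finite (NKvia S Q.subtype K) := finite_of_le hN₀S
  obtain ⟨hQFC, hQcard⟩ := max_props p hS F hF hQS K (subtype_mem F hQS) hQmax
  have hQrec : F.IsReceptive Q.subtype.range :=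
    Cfsg.Agent.S5077.extension_axiom p hS F hF _ hQFC
  have hψS := (F.le_of_mem hψ).2
  set ψQ : Q →* Ω := ψ.comp (Subgroup.inclusion le_sup_right) with hψQ
  have hψQF : ψQ ∈ F.Hom Q := restrict_mem F le_sup_right hψ
  obtain ⟨χ, hχ, ρ, hρ, hρe⟩ := exists_extension_of_sylow p hS F hQS K (subtype_mem F hQS)
    hQrec hQcard hψQF
  have hρS := (F.le_of_mem hρ).2
  have hρinj := F.injective_of_mem hρ
  have hκP : ∀ y : P, ∃ κ ∈ K, ∀ x : Q, ((κ x : Q) : Ω) = (y : Ω) * x * (y : Ω)⁻¹ :=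
    fun y => (hPN y.2).2
  have hψP : ∀ y : P, ψ (Subgroup.inclusion le_sup_left y) ∈ NKvia S ψQ K := by
    intro y
    obtain ⟨κ, hκ, hκe⟩ := hκP y
    refine ⟨hψS _, κ, hκ, fun x => ?_⟩
    show ψ (Subgroup.inclusion le_sup_right (κ x)) =
      ψ (Subgroup.inclusion le_sup_left y) * ψ (Subgroup.inclusion le_sup_right x) *
        (ψ (Subgroup.inclusion le_sup_left y))⁻¹
    rw [← map_inv, ← map_mul, ← map_mul]
    congr 1
    apply Subtype.ext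
    exact hκe x
  have hψD : ∀ x : ↥(P ⊔ Q), ψ x ∈ ψQ.range ⊔ NKvia S ψQ K := by
    have hle : ψ.range ≤ ψQ.range ⊔ NKvia S ψQ K := by
      rw [range_sup_eq ψ]
      apply sup_le
      · rintro _ ⟨x, hx, rfl⟩
        exact Subgroup.mem_sup_right (hψP ⟨x, hx⟩)
      · rintro _ ⟨x, hx, rfl⟩
        exact Subgroup.mem_sup_left ⟨⟨x, hx⟩, rfl⟩
    intro x
    exact hle ⟨x, rfl⟩
  have hND : NKvia S ψ (KP P Q K) ≤ NKvia S ψQ K := by
    rintro g ⟨hgS, α, ⟨-, κ, hκ, hκe⟩, hα⟩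
    refine ⟨hgS, κ, hκ, fun x => ?_⟩
    show ψ (Subgroup.inclusion le_sup_right (κ x)) =
      g * ψ (Subgroup.inclusion le_sup_right x) * g⁻¹
    rw [← hα (Subgroup.inclusion le_sup_right x)]
    congr 1
    exact Subtype.ext (hκe x).symm
  -- the corrected map `ψ₂ = ρ ∘ ψ`
  have hψ₂F : ρ.comp (ψ.codRestrict _ hψD) ∈ F.Hom (P ⊔ Q) := F.comp_mem hψ hρ hψD
  set ψ₂ : ↥(P ⊔ Q) →* Ω := ρ.comp (ψ.codRestrict _ hψD) with hψ₂
  have hψ₂Q : ∀ x : Q, ψ₂ (Subgroup.inclusion le_sup_right x) = ((χ x : Q) : Ω) := by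
    intro x
    exact hρe x _
  have hψ₂S := (F.le_of_mem hψ₂F).2
  -- `ψ₂` on `P` is a map of `E`
  set φ : P →* Ω := ψ₂.comp (Subgroup.inclusion le_sup_left) with hφ
  have hφN : ∀ y : P, φ y ∈ NKvia S Q.subtype K := by
    intro y
    obtain ⟨κ, hκ, hκe⟩ := hκP y
    refine ⟨hψ₂S _, χ * κ * χ⁻¹, K.mul_mem (K.mul_mem hχ.1 hκ) (K.inv_mem hχ.1), fun x => ?_⟩
    show (((χ * κ * χ⁻¹) x : Q) : Ω) = φ y * (x : Ω) * (φ y)⁻¹
    have h1 : (x : Ω) = ψ₂ (Subgroup.inclusion le_sup_right (χ⁻¹ x)) := by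
      rw [hψ₂Q, MulAut.apply_inv_self]
    have h2 : φ y * ψ₂ (Subgroup.inclusion le_sup_right (χ⁻¹ x)) * (φ y)⁻¹ =
        ψ₂ (Subgroup.inclusion le_sup_right (κ (χ⁻¹ x))) := by
      show ψ₂ (Subgroup.inclusion le_sup_left y) * ψ₂ (Subgroup.inclusion le_sup_right (χ⁻¹ x)) *
        (ψ₂ (Subgroup.inclusion le_sup_left y))⁻¹ = _
      rw [← map_inv, ← map_mul, ← map_mul]
      congr 1
      apply Subtype.ext
      exact (hκe _).symm
    rw [h1, h2, hψ₂Q]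
    rfl
  have hφE : φ ∈ E.Hom P := by
    rw [hE P]
    exact ⟨restrict_mem F le_sup_left hψ₂F, hPN, hφN, ψ₂, hψ₂F, fun x => rfl, χ, hχ.1, hψ₂Q⟩
  have hconj : E.IsConj P φ.range := ⟨φ, hφE, rfl⟩
  have hcard1 := hFN.2 φ.range hconj
  -- the injection `NKvia S ψ K_P → N_{S₊}(φ P)` induced by `ρ`
  have hkey : ∀ g ∈ NKvia S ψ (KP P Q K), ∀ (hg : g ∈ ψQ.range ⊔ NKvia S ψQ K),
      ρ ⟨g, hg⟩ ∈ NKvia S Q.subtype K ∧ ∀ h ∈ φ.range, ρ ⟨g, hg⟩ * h * (ρ ⟨g, hg⟩)⁻¹ ∈ φ.range := by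
    rintro g ⟨hgS, α, ⟨hαP, κ, hκ, hκe⟩, hα⟩ hg
    have hconjρ : ∀ z : ↥(P ⊔ Q), ρ ⟨g, hg⟩ * ψ₂ z * (ρ ⟨g, hg⟩)⁻¹ = ψ₂ (α z) := by
      intro z
      show ρ ⟨g, hg⟩ * ρ ⟨ψ z, hψD z⟩ * (ρ ⟨g, hg⟩)⁻¹ = ρ ⟨ψ (α z), hψD _⟩
      rw [← map_inv, ← map_mul, ← map_mul]
      congr 1
      apply Subtype.ext
      exact (hα z).symm
    constructor
    · refine ⟨hρS _, χ * κ * χ⁻¹, K.mul_mem (K.mul_mem hχ.1 hκ) (K.inv_mem hχ.1), fun x => ?_⟩
      show (((χ * κ * χ⁻¹) x : Q) : Ω) = ρ ⟨g, hg⟩ * (x : Ω) * (ρ ⟨g, hg⟩)⁻¹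
      have h1 : (x : Ω) = ψ₂ (Subgroup.inclusion le_sup_right (χ⁻¹ x)) := by
        rw [hψ₂Q, MulAut.apply_inv_self]
      rw [h1, hconjρ]
      have h2 : α (Subgroup.inclusion le_sup_right (χ⁻¹ x)) =
          Subgroup.inclusion le_sup_right (κ (χ⁻¹ x)) := Subtype.ext (hκe _)
      rw [h2, hψ₂Q]
      rfl
    · rintro _ ⟨y, rfl⟩
      show ρ ⟨g, hg⟩ * ψ₂ (Subgroup.inclusion le_sup_left y) * (ρ ⟨g, hg⟩)⁻¹ ∈ φ.range
      rw [hconjρ]
      have h3 : ((α (Subgroup.inclusion le_sup_left y) : ↥(P ⊔ Q)) : Ω) ∈ P := (hαP _).mpr y.2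
      exact ⟨⟨_, h3⟩, rfl⟩
  have hinj : Nat.card (NKvia S ψ (KP P Q K)) ≤
      Nat.card (normalizerIn (NKvia S Q.subtype K) φ.range) := by
    have hfin : Finite (normalizerIn (NKvia S Q.subtype K) φ.range) :=
      finite_of_le ((inf_le_left : normalizerIn (NKvia S Q.subtype K) φ.range ≤ _).trans hN₀S)
    have hmem : ∀ g : NKvia S ψ (KP P Q K),
        ρ ⟨g, Subgroup.mem_sup_right (hND g.2)⟩ ∈ normalizerIn (NKvia S Q.subtype K) φ.range := by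
      intro g
      have hg : (g : Ω) ∈ ψQ.range ⊔ NKvia S ψQ K := Subgroup.mem_sup_right (hND g.2)
      refine Subgroup.mem_inf.mpr ⟨(hkey g g.2 hg).1, ?_⟩
      rw [Subgroup.mem_normalizer_iff]
      intro h
      constructor
      · exact (hkey g g.2 hg).2 h
      · intro hh
        have hginv : (g : Ω)⁻¹ ∈ NKvia S ψ (KP P Q K) := inv_mem g.2
        have hg' : (g : Ω)⁻¹ ∈ ψQ.range ⊔ NKvia S ψQ K := Subgroup.mem_sup_right (hND hginv)
        have h1 := (hkey _ hginv hg').2 _ hh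
        have h2 : ρ ⟨(g : Ω)⁻¹, hg'⟩ = (ρ ⟨g, hg⟩)⁻¹ := by
          rw [← map_inv]
          rfl
        rw [h2] at h1
        simpa [mul_assoc] using h1
    refine Nat.card_le_card_of_injective (fun g => ⟨_, hmem g⟩) ?_
    intro a b hab
    have h1 := congrArg Subtype.val hab
    have h2 := hρinj h1
    exact Subtype.ext (congrArg Subtype.val h2 :)
  rw [NKvia_KP_eq K]
  exact hinj.trans hcard1

/-- The image of a Sylow subgroup under a homomorphism is a Sylow subgroup of the image. -/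
theorem card_map_eq_pPart_range {G H : Type*} [Group G] [Group H] [Finite G] (p : ℕ)
    [Fact p.Prime] (Φ : G →* H) (R₀ : Subgroup G) (hR₀ : Nat.card R₀ = pPart p (Nat.card G)) :
    Nat.card (R₀.map Φ) = pPart p (Nat.card Φ.range) := by
  have hsurj : Function.Surjective Φ.rangeRestrict := Φ.rangeRestrict_surjective
  have hfin : Finite Φ.range := Finite.of_surjective _ hsurj
  let R : Sylow p G := Sylow.ofCard R₀ hR₀
  let R' : Sylow p Φ.range := R.mapSurjective hsurj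
  have h1 : Nat.card R' = pPart p (Nat.card Φ.range) := R'.card_eq_multiplicity
  have h2 : (R' : Subgroup Φ.range) = R₀.map Φ.rangeRestrict := rfl
  have h3 : (R₀.map Φ.rangeRestrict).map Φ.range.subtype = R₀.map Φ := by
    rw [Subgroup.map_map]
    rfl
  rw [← h3, ← h1]
  show _ = Nat.card (R' : Subgroup Φ.range)
  rw [h2]
  exact (Nat.card_congr ((R₀.map Φ.rangeRestrict).equivMapOfInjective Φ.range.subtype
    Φ.range.subtype_injective).toEquiv).symm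

/-- Restriction to `P` of an automorphism of `P ⊔ Q` preserving `P`. -/
def resAut {P Q : Subgroup Ω} (α : MulAut ↥(P ⊔ Q))
    (hα : ∀ x : ↥(P ⊔ Q), ((α x : ↥(P ⊔ Q)) : Ω) ∈ P ↔ (x : Ω) ∈ P) : MulAut P where
  toFun x := ⟨α (Subgroup.inclusion le_sup_left x), (hα _).mpr x.2⟩
  invFun x := ⟨α⁻¹ (Subgroup.inclusion le_sup_left x), by
    have h1 := hα (α⁻¹ (Subgroup.inclusion le_sup_left x))
    rw [MulAut.apply_inv_self] at h1
    exact h1.mp x.2⟩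
  left_inv x := by
    apply Subtype.ext
    have h1 : (Subgroup.inclusion le_sup_left
        (⟨α (Subgroup.inclusion le_sup_left x), (hα _).mpr x.2⟩ : P) : ↥(P ⊔ Q)) =
        α (Subgroup.inclusion le_sup_left x) := Subtype.ext rfl
    show ((α⁻¹ (Subgroup.inclusion le_sup_left
      (⟨α (Subgroup.inclusion le_sup_left x), (hα _).mpr x.2⟩ : P)) : ↥(P ⊔ Q)) : Ω) = x
    rw [h1, MulAut.inv_apply_self]
    rfl
  right_inv x := by
    apply Subtype.ext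
    have hx : ((α⁻¹ (Subgroup.inclusion le_sup_left x) : ↥(P ⊔ Q)) : Ω) ∈ P := by
      have h1 := hα (α⁻¹ (Subgroup.inclusion le_sup_left x))
      rw [MulAut.apply_inv_self] at h1
      exact h1.mp x.2
    have h1 : (Subgroup.inclusion le_sup_left
        (⟨α⁻¹ (Subgroup.inclusion le_sup_left x), hx⟩ : P) : ↥(P ⊔ Q)) =
        α⁻¹ (Subgroup.inclusion le_sup_left x) := Subtype.ext rfl
    show ((α (Subgroup.inclusion le_sup_left
      (⟨α⁻¹ (Subgroup.inclusion le_sup_left x), hx⟩ : P)) : ↥(P ⊔ Q)) : Ω) = x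
    rw [h1, MulAut.apply_inv_self]
    rfl
  map_mul' x y := by
    apply Subtype.ext
    show ((α (Subgroup.inclusion le_sup_left (x * y)) : ↥(P ⊔ Q)) : Ω) =
      ((α (Subgroup.inclusion le_sup_left x) : ↥(P ⊔ Q)) : Ω) *
        ((α (Subgroup.inclusion le_sup_left y) : ↥(P ⊔ Q)) : Ω)
    rw [map_mul, map_mul]
    rfl

theorem resAut_coe {P Q : Subgroup Ω} (α : MulAut ↥(P ⊔ Q))
    (hα : ∀ x : ↥(P ⊔ Q), ((α x : ↥(P ⊔ Q)) : Ω) ∈ P ↔ (x : Ω) ∈ P) (x : P) :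
    ((resAut α hα x : P) : Ω) = ((α (Subgroup.inclusion le_sup_left x) : ↥(P ⊔ Q)) : Ω) := rfl

/-- Restriction to `P`, as a homomorphism on `K_P`. -/
def resHom (P Q : Subgroup Ω) (K : Subgroup (MulAut Q)) : ↥(KP P Q K) →* MulAut P where
  toFun α := resAut α.1 α.2.1
  map_one' := by
    apply MulEquiv.ext
    intro x
    exact Subtype.ext rfl
  map_mul' a b := by
    apply MulEquiv.ext
    intro x
    apply Subtype.ext
    show (((a.1 * b.1) (Subgroup.inclusion le_sup_left x) : ↥(P ⊔ Q)) : Ω) =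
      ((a.1 (Subgroup.inclusion le_sup_left (resAut b.1 b.2.1 x)) : ↥(P ⊔ Q)) : Ω)
    rw [MulAut.mul_apply]
    congr 2

theorem map_subgroupOf_eq_of_aut {P Q : Subgroup Ω} (ψ : ↥(P ⊔ Q) →* Ω) (κ : MulAut Q)
    (h : ∀ x : Q, ψ (Subgroup.inclusion le_sup_right x) = κ x) :
    (Q.subgroupOf (P ⊔ Q)).map ψ = Q := by
  ext y
  constructor
  · rintro ⟨x, hx, rfl⟩
    have h1 : ψ x = κ ⟨x, hx⟩ := h ⟨x, hx⟩
    rw [h1]
    exact (κ _).2
  · intro hy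
    refine ⟨Subgroup.inclusion le_sup_right (κ⁻¹ ⟨y, hy⟩), (κ⁻¹ ⟨y, hy⟩).2, ?_⟩
    rw [h, MulAut.apply_inv_self]

/-- Step 2: if the inclusion of `P ⊔ Q` is maximal for `K_P`, then `P` is fully automized in
`N_F^K(Q)`. -/
theorem isFullyAutomized_of_max [Finite S] (p : ℕ) [Fact p.Prime] (hS : IsPGroup p S)
    (F : FusionSystem S) (hF : F.IsSaturated p) {Q : Subgroup Ω} (hQS : Q ≤ S)
    (K : Subgroup (MulAut Q)) (E : FusionSystem (NKvia S Q.subtype K))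
    (hE : ∀ P : Subgroup Ω, E.Hom P = NKHom F Q K (NKvia S Q.subtype K) P)
    {P : Subgroup Ω} (hPN : P ≤ NKvia S Q.subtype K)
    (hmax : ∀ ψ ∈ F.Hom (P ⊔ Q), Nat.card (NKvia S ψ (KP P Q K)) ≤
      Nat.card (NKvia S (P ⊔ Q).subtype (KP P Q K))) :
    E.IsFullyAutomized p P := by
  have hN₀S : NKvia S Q.subtype K ≤ S := NKvia_le _ _ _
  have hPS : P ≤ S := hPN.trans hN₀S
  have hXS : P ⊔ Q ≤ S := sup_le hPS hQS
  have hfinN₀ : Finite (NKvia S Q.subtype K) := finite_of_le hN₀S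
  have hfinX : Finite ↥(P ⊔ Q) := finite_of_le hXS
  have hfinA : Finite (MulAut ↥(P ⊔ Q)) :=
    Finite.of_injective (fun e : MulAut ↥(P ⊔ Q) => (e : ↥(P ⊔ Q) → ↥(P ⊔ Q)))
      (fun a b h => DFunLike.coe_injective h)
  obtain ⟨-, hXcard⟩ := max_props p hS F hF hXS (KP P Q K) (subtype_mem F hXS) hmax
  have hR₀G : KSvia S (P ⊔ Q).subtype (KP P Q K) ≤ KP P Q K ⊓ F.autGroup (P ⊔ Q) :=
    le_inf (KSvia_le _ _ _) (KSvia_le_autGroup F (subtype_mem F hXS) _)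
  set Φ : ↥(KP P Q K ⊓ F.autGroup (P ⊔ Q)) →* MulAut P :=
    (resHom P Q K).comp (Subgroup.inclusion inf_le_left) with hΦ
  have hΦcoe : ∀ (α : ↥(KP P Q K ⊓ F.autGroup (P ⊔ Q))) (x : P),
      ((Φ α x : P) : Ω) = (((α : MulAut ↥(P ⊔ Q)) (Subgroup.inclusion le_sup_left x) :
        ↥(P ⊔ Q)) : Ω) := fun α x => rfl
  have hcardR₀ : Nat.card ((KSvia S (P ⊔ Q).subtype (KP P Q K)).subgroupOf
      (KP P Q K ⊓ F.autGroup (P ⊔ Q))) = pPart p (Nat.card ↥(KP P Q K ⊓ F.autGroup (P ⊔ Q))) := by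
    rw [card_subgroupOf_eq_card_inf, inf_of_le_left hR₀G]
    exact hXcard
  have h1 := card_map_eq_pPart_range p Φ _ hcardR₀
  have hrange : Φ.range = E.autGroup P := by
    ext β
    constructor
    · rintro ⟨⟨α, hαK, hαA⟩, rfl⟩
      rw [mem_autGroup_iff E hPN, hE P]
      have hαF : autHom α ∈ F.Hom (P ⊔ Q) := (mem_autGroup_iff F hXS α).mp hαA
      obtain ⟨κ, hκ, hκe⟩ := hαK.2
      refine ⟨restrict_mem F le_sup_left hαF, hPN, fun x => hPN (Φ ⟨α, hαK, hαA⟩ x).2,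
        autHom α, hαF, fun x => rfl, κ, hκ, hκe⟩
    · intro hβ
      rw [mem_autGroup_iff E hPN, hE P] at hβ
      obtain ⟨-, -, -, ψ, hψ, hψP, κ, hκ, hκe⟩ := hβ
      have hr : ψ.range = P ⊔ Q := by
        rw [range_sup_eq ψ, map_subgroupOf_eq_range ψ (autHom β) hψP, autHom_range,
          map_subgroupOf_eq_of_aut ψ κ hκe]
      have hinj := F.injective_of_mem hψ
      set α : MulAut ↥(P ⊔ Q) := isoOfHom ψ hinj hr with hα
      have hαcoe : ∀ x, ((α x : ↥(P ⊔ Q)) : Ω) = ψ x := fun x => rfl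
      have hαA : α ∈ F.autGroup (P ⊔ Q) := by
        rw [mem_autGroup_iff F hXS]
        have e : autHom α = ψ := by
          ext x
          rfl
        rw [e]
        exact hψ
      have hαK : α ∈ KP P Q K := by
        refine ⟨fun x => ?_, κ, hκ, hκe⟩
        constructor
        · intro hx
          rw [hαcoe] at hx
          have h2 := hψP (β⁻¹ ⟨ψ x, hx⟩)
          have h3 : ((autHom β) (β⁻¹ ⟨ψ x, hx⟩) : Ω) = ψ x := by
            show ((β (β⁻¹ ⟨ψ x, hx⟩) : P) : Ω) = ψ x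
            rw [MulAut.apply_inv_self]
          rw [h3] at h2
          have h4 := hinj h2
          rw [← h4]
          exact (β⁻¹ ⟨ψ x, hx⟩).2
        · intro hx
          rw [hαcoe]
          have h2 := hψP ⟨x, hx⟩
          have h3 : Subgroup.inclusion le_sup_left (⟨x, hx⟩ : P) = x := Subtype.ext rfl
          rw [h3] at h2
          rw [h2]
          exact (β _).2
      refine ⟨⟨α, hαK, hαA⟩, ?_⟩
      apply MulEquiv.ext
      intro x
      apply Subtype.ext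
      rw [hΦcoe]
      exact hψP x
  have hmap : ((KSvia S (P ⊔ Q).subtype (KP P Q K)).subgroupOf
      (KP P Q K ⊓ F.autGroup (P ⊔ Q))).map Φ = autInducedBy (NKvia S Q.subtype K) P := by
    ext β
    constructor
    · rintro ⟨⟨α, hαG⟩, hαR, rfl⟩
      rw [SetLike.mem_coe, Subgroup.mem_subgroupOf] at hαR
      obtain ⟨hαK, g, hgS, hg⟩ := hαR
      have hg' : ∀ x : ↥(P ⊔ Q), ((α x : ↥(P ⊔ Q)) : Ω) = g * x * g⁻¹ := hg
      obtain ⟨κ, hκ, hκe⟩ := hαK.2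
      rw [mem_autInducedBy_iff]
      refine ⟨g, ⟨hgS, κ, hκ, fun x => ?_⟩, fun x => ?_⟩
      · show ((κ x : Q) : Ω) = g * (x : Ω) * g⁻¹
        rw [← hκe x]
        exact hg' _
      · rw [hΦcoe]
        exact hg' _
    · intro hβ
      obtain ⟨g, hgN, hg⟩ := (mem_autInducedBy_iff _ P β).mp hβ
      have hgP : g ∈ Subgroup.normalizer (P : Set Ω) := by
        rw [Subgroup.mem_normalizer_iff]
        intro h
        constructor
        · intro hh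
          rw [← hg ⟨h, hh⟩]
          exact (β _).2
        · intro hh
          have h2 := hg (β⁻¹ ⟨g * h * g⁻¹, hh⟩)
          rw [MulAut.apply_inv_self] at h2
          have h3 : g * h * g⁻¹ = g * ((β⁻¹ ⟨g * h * g⁻¹, hh⟩ : P) : Ω) * g⁻¹ := h2
          have h4 := mul_left_cancel (mul_right_cancel h3)
          rw [h4]
          exact (β⁻¹ _).2
      have hgNP : g ∈ normalizerIn (NKvia S Q.subtype K) P := Subgroup.mem_inf.mpr ⟨hgN, hgP⟩
      rw [← NKvia_KP_eq K] at hgNP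
      obtain ⟨hgS, α, hαK, hα⟩ := hgNP
      have hαR : α ∈ KSvia S (P ⊔ Q).subtype (KP P Q K) := ⟨hαK, g, hgS, hα⟩
      have hαG := hR₀G hαR
      refine ⟨⟨α, hαG⟩, ?_, ?_⟩
      · rw [SetLike.mem_coe, Subgroup.mem_subgroupOf]
        exact hαR
      · apply MulEquiv.ext
        intro x
        apply Subtype.ext
        rw [hΦcoe, hg x]
        exact hα _
  rw [isFullyAutomized_iff_card E p hPN, ← hmap, ← hrange]
  exact h1

theorem pPart_le_of_dvd (p : ℕ) [hp : Fact p.Prime] {a b : ℕ} (ha : a ≠ 0) (hb : b ≠ 0)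
    (h : a ∣ b) : pPart p a ≤ pPart p b := by
  unfold pPart
  exact Nat.pow_le_pow_right hp.out.pos ((Nat.factorization_le_iff_dvd ha hb).mpr h p)

/-- The subgroup `K'_P` of `K_P` of automorphisms inducing on `P` an automorphism induced by an
element of `N₀`. -/
def KP' (P Q : Subgroup Ω) (K : Subgroup (MulAut Q)) (N₀ : Subgroup Ω) :
    Subgroup (MulAut ↥(P ⊔ Q)) where
  carrier := {α | α ∈ KP P Q K ∧ ∃ s ∈ N₀, ∀ x : ↥(P ⊔ Q), (x : Ω) ∈ P →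
    ((α x : ↥(P ⊔ Q)) : Ω) = s * x * s⁻¹}
  one_mem' := ⟨one_mem _, 1, one_mem _, fun x _ => by simp⟩
  mul_mem' := by
    rintro α β ⟨hα, s, hs, hse⟩ ⟨hβ, t, ht, hte⟩
    refine ⟨mul_mem hα hβ, s * t, mul_mem hs ht, fun x hx => ?_⟩
    have h1 : ((β x : ↥(P ⊔ Q)) : Ω) ∈ P := (hβ.1 x).mpr hx
    rw [MulAut.mul_apply, hse _ h1, hte x hx]
    group
  inv_mem' := by
    rintro α ⟨hα, s, hs, hse⟩
    refine ⟨inv_mem hα, s⁻¹, inv_mem hs, fun x hx => ?_⟩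
    have h1 : ((α⁻¹ x : ↥(P ⊔ Q)) : Ω) ∈ P := by
      have h0 := hα.1 (α⁻¹ x)
      rw [MulAut.apply_inv_self] at h0
      exact h0.mp hx
    have h2 := hse _ h1
    rw [MulAut.apply_inv_self] at h2
    have h3 : ((α⁻¹ x : ↥(P ⊔ Q)) : Ω) = s⁻¹ * (s * ((α⁻¹ x : ↥(P ⊔ Q)) : Ω) * s⁻¹) * s := by
      group
    rw [h3, ← h2]
    group

theorem KP'_le_KP (P Q : Subgroup Ω) (K : Subgroup (MulAut Q)) (N₀ : Subgroup Ω) :
    KP' P Q K N₀ ≤ KP P Q K := fun _ h => h.1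

/-- Step 3: if the inclusion of `P ⊔ Q` is maximal for `K_P`, then `P` is receptive in
`N_F^K(Q)`. -/
theorem isReceptive_of_max [Finite S] (p : ℕ) [Fact p.Prime] (hS : IsPGroup p S)
    (F : FusionSystem S) (hF : F.IsSaturated p) {Q : Subgroup Ω} (hQS : Q ≤ S)
    (K : Subgroup (MulAut Q)) (E : FusionSystem (NKvia S Q.subtype K))
    (hE : ∀ P : Subgroup Ω, E.Hom P = NKHom F Q K (NKvia S Q.subtype K) P)
    {P : Subgroup Ω} (hPN : P ≤ NKvia S Q.subtype K)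
    (hmax : ∀ ψ ∈ F.Hom (P ⊔ Q), Nat.card (NKvia S ψ (KP P Q K)) ≤
      Nat.card (NKvia S (P ⊔ Q).subtype (KP P Q K))) :
    E.IsReceptive P := by
  have hN₀S : NKvia S Q.subtype K ≤ S := NKvia_le _ _ _
  have hPS : P ≤ S := hPN.trans hN₀S
  have hXS : P ⊔ Q ≤ S := sup_le hPS hQS
  have hfinX : Finite ↥(P ⊔ Q) := finite_of_le hXS
  have hfinA : Finite (MulAut ↥(P ⊔ Q)) :=
    Finite.of_injective (fun e : MulAut ↥(P ⊔ Q) => (e : ↥(P ⊔ Q) → ↥(P ⊔ Q)))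
      (fun a b h => DFunLike.coe_injective h)
  obtain ⟨hXFC, hXcard⟩ := max_props p hS F hF hXS (KP P Q K) (subtype_mem F hXS) hmax
  have hXrec : F.IsReceptive (P ⊔ Q).subtype.range :=
    Cfsg.Agent.S5077.extension_axiom p hS F hF _ hXFC
  have hsubinj : Function.Injective (P ⊔ Q).subtype := Subtype.val_injective
  have hKS : KSvia S (P ⊔ Q).subtype (KP' P Q K (NKvia S Q.subtype K)) =
      KSvia S (P ⊔ Q).subtype (KP P Q K) := by
    ext α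
    constructor
    · rintro ⟨hα, g, hg, he⟩
      exact ⟨hα.1, g, hg, he⟩
    · rintro ⟨hα, g, hg, he⟩
      have he' : ∀ x : ↥(P ⊔ Q), ((α x : ↥(P ⊔ Q)) : Ω) = g * x * g⁻¹ := he
      obtain ⟨κ, hκ, hκe⟩ := hα.2
      have hgN : g ∈ NKvia S Q.subtype K := by
        refine ⟨hg, κ, hκ, fun x => ?_⟩
        show ((κ x : Q) : Ω) = g * (x : Ω) * g⁻¹
        rw [← hκe x]
        exact he' _
      exact ⟨⟨hα, g, hgN, fun x _ => he' x⟩, g, hg, he⟩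
  have hcard' : Nat.card (KSvia S (P ⊔ Q).subtype (KP' P Q K (NKvia S Q.subtype K))) =
      pPart p (Nat.card ↥(KP' P Q K (NKvia S Q.subtype K) ⊓ F.autGroup (P ⊔ Q))) := by
    apply le_antisymm
    · exact card_le_pPart_of_isPGroup p (KSvia_isPGroup hS hsubinj _)
        (le_inf (KSvia_le _ _ _) (KSvia_le_autGroup F (subtype_mem F hXS) _))
    · rw [hKS, hXcard]
      exact pPart_le_of_dvd p Nat.card_pos.ne' Nat.card_pos.ne'
        (Subgroup.card_dvd_of_le (inf_le_inf_right _ (KP'_le_KP P Q K _)))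
  refine ⟨hPN, ?_⟩
  intro R φ hφ hφr
  rw [hE R] at hφ
  obtain ⟨hφF, hRN, hφN, φb, hφb, hφbR, κ₀, hκ₀, hκ₀e⟩ := hφ
  have hr : φb.range = P ⊔ Q := by
    rw [range_sup_eq φb, map_subgroupOf_eq_range φb φ hφbR, hφr,
      map_subgroupOf_eq_of_aut φb κ₀ hκ₀e]
  have hφbinj := F.injective_of_mem hφb
  set e₀ : ↥(R ⊔ Q) ≃* ↥(P ⊔ Q) := isoOfHom φb hφbinj hr with he₀
  have he₀coe : ∀ z : ↥(R ⊔ Q), ((e₀ z : ↥(P ⊔ Q)) : Ω) = φb z := fun z => rfl
  have hψ' : (R ⊔ Q).subtype.comp e₀.symm.toMonoidHom ∈ F.Hom (P ⊔ Q) :=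
    isoOfHom_symm_mem F hφb hr
  set ψ' : ↥(P ⊔ Q) →* Ω := (R ⊔ Q).subtype.comp e₀.symm.toMonoidHom with hψ'def
  have hψ'coe : ∀ x : ↥(P ⊔ Q), ψ' x = ((e₀.symm x : ↥(R ⊔ Q)) : Ω) := fun x => rfl
  have hψ'r : ψ'.range = R ⊔ Q := by
    ext y
    constructor
    · rintro ⟨x, rfl⟩
      exact (e₀.symm x).2
    · intro hy
      exact ⟨e₀ ⟨y, hy⟩, by rw [hψ'coe, MulEquiv.symm_apply_apply]⟩
  -- `φb` carries `R` onto `P`
  have hRP : ∀ z : ↥(R ⊔ Q), ((e₀ z : ↥(P ⊔ Q)) : Ω) ∈ P ↔ (z : Ω) ∈ R := by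
    intro z
    rw [he₀coe]
    constructor
    · intro hz
      rw [← hφr] at hz
      obtain ⟨r, hr'⟩ := hz
      rw [← hφbR r] at hr'
      have := hφbinj hr'
      rw [← this]
      exact r.2
    · intro hz
      have h1 := hφbR ⟨z, hz⟩
      have h2 : Subgroup.inclusion le_sup_left (⟨z, hz⟩ : R) = z := Subtype.ext rfl
      rw [h2] at h1
      rw [h1, ← hφr]
      exact ⟨_, rfl⟩
  obtain ⟨χ, hχ, ρ, hρ, hρe⟩ := exists_extension_of_sylow p hS F hXS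
    (KP' P Q K (NKvia S Q.subtype K)) (subtype_mem F hXS) hXrec hcard' hψ'
  obtain ⟨⟨hχK, h, hhN, hhe⟩, hχA⟩ := hχ
  have hρe' : ∀ (x : ↥(P ⊔ Q)) (hx : ψ' x ∈ ψ'.range ⊔ NKvia S ψ' (KP' P Q K (NKvia S Q.subtype K))),
      ρ ⟨ψ' x, hx⟩ = ((χ x : ↥(P ⊔ Q)) : Ω) := hρe
  have hρS := (F.le_of_mem hρ).2
  -- the extender lies in the domain of `ρ`
  have hNle : extender (NKvia S Q.subtype K) R φ ≤
      NKvia S ψ' (KP' P Q K (NKvia S Q.subtype K)) := by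
    unfold extender
    rw [Subgroup.closure_le]
    rintro g ⟨hgN, hgR, h', hh'N, hh'e⟩
    obtain ⟨hgS, κg, hκg, hκge⟩ := hgN
    have hκge' : ∀ x : Q, ((κg x : Q) : Ω) = g * x * g⁻¹ := hκge
    have hgQ : g ∈ Subgroup.normalizer (Q : Set Ω) :=
      NKvia_subtype_le_normalizer Q K ⟨hgS, κg, hκg, hκge⟩
    have hgRQ := mem_normalizer_sup hgR hgQ
    set cg : MulAut ↥(R ⊔ Q) := (R ⊔ Q).normalizerMonoidHom ⟨g, hgRQ⟩ with hcg
    have hcgcoe : ∀ z : ↥(R ⊔ Q), ((cg z : ↥(R ⊔ Q)) : Ω) = g * z * g⁻¹ := fun z => rfl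
    set α : MulAut ↥(P ⊔ Q) := MulAut.congr e₀ cg with hα
    have hαdef : ∀ x : ↥(P ⊔ Q), α x = e₀ (cg (e₀.symm x)) := fun x => rfl
    refine ⟨hgS, α, ⟨⟨fun x => ?_, κ₀ * κg * κ₀⁻¹,
      K.mul_mem (K.mul_mem hκ₀ hκg) (K.inv_mem hκ₀), fun x => ?_⟩, h', hh'N, fun x hx => ?_⟩,
      fun x => ?_⟩
    · rw [hαdef, hRP, hcgcoe, ← Subgroup.mem_normalizer_iff.mp hgR, ← hRP, MulEquiv.apply_symm_apply]
    · have h1 : e₀.symm (Subgroup.inclusion le_sup_right x) =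
          Subgroup.inclusion le_sup_right (κ₀⁻¹ x) := by
        apply e₀.injective
        rw [MulEquiv.apply_symm_apply]
        apply Subtype.ext
        rw [he₀coe, hκ₀e, MulAut.apply_inv_self]
        rfl
      have h2 : cg (Subgroup.inclusion le_sup_right (κ₀⁻¹ x)) =
          Subgroup.inclusion le_sup_right (κg (κ₀⁻¹ x)) := by
        apply Subtype.ext
        rw [hcgcoe]
        exact (hκge' _).symm
      rw [hαdef, h1, h2, he₀coe, hκ₀e]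
      rfl
    · have hr' : ((e₀.symm x : ↥(R ⊔ Q)) : Ω) ∈ R := by
        rw [← hRP, MulEquiv.apply_symm_apply]
        exact hx
      have hgr : g * ((e₀.symm x : ↥(R ⊔ Q)) : Ω) * g⁻¹ ∈ R :=
        (Subgroup.mem_normalizer_iff.mp hgR _).mp hr'
      have h1 : cg (e₀.symm x) = Subgroup.inclusion le_sup_left
          (⟨g * ((e₀.symm x : ↥(R ⊔ Q)) : Ω) * g⁻¹, hgr⟩ : R) := Subtype.ext rfl
      have h2 : e₀.symm x = Subgroup.inclusion le_sup_left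
          (⟨((e₀.symm x : ↥(R ⊔ Q)) : Ω), hr'⟩ : R) := Subtype.ext rfl
      have h3 : φ ⟨((e₀.symm x : ↥(R ⊔ Q)) : Ω), hr'⟩ = (x : Ω) := by
        rw [← hφbR, ← h2, ← he₀coe, MulEquiv.apply_symm_apply]
      rw [hαdef, h1, he₀coe, hφbR, hh'e ⟨_, hr'⟩ hgr, h3]
    · show ((e₀.symm (α x) : ↥(R ⊔ Q)) : Ω) = g * ((e₀.symm x : ↥(R ⊔ Q)) : Ω) * g⁻¹
      rw [hαdef, MulEquiv.symm_apply_apply]
      rfl
  -- values of `ρ` on the `K'_P`-normalizer lie in `N₀`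
  have hρN₀ : ∀ g ∈ NKvia S ψ' (KP' P Q K (NKvia S Q.subtype K)),
      ∀ hg : g ∈ ψ'.range ⊔ NKvia S ψ' (KP' P Q K (NKvia S Q.subtype K)),
        ρ ⟨g, hg⟩ ∈ NKvia S Q.subtype K := by
    rintro g ⟨hgS, α, hαK', hα⟩ hg
    obtain ⟨κ'', hκ'', hκ''e⟩ := (mul_mem (mul_mem hχK hαK'.1) (inv_mem hχK)).2
    refine ⟨hρS _, κ'', hκ'', fun x => ?_⟩
    show ((κ'' x : Q) : Ω) = ρ ⟨g, hg⟩ * (x : Ω) * (ρ ⟨g, hg⟩)⁻¹
    set z : ↥(P ⊔ Q) := χ⁻¹ (Subgroup.inclusion le_sup_right x) with hz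
    have hzD : ψ' z ∈ ψ'.range ⊔ NKvia S ψ' (KP' P Q K (NKvia S Q.subtype K)) :=
      Subgroup.mem_sup_left ⟨z, rfl⟩
    have hαzD : ψ' (α z) ∈ ψ'.range ⊔ NKvia S ψ' (KP' P Q K (NKvia S Q.subtype K)) :=
      Subgroup.mem_sup_left ⟨α z, rfl⟩
    have h1 : (x : Ω) = ρ ⟨ψ' z, hzD⟩ := by
      rw [hρe' z hzD, hz, MulAut.apply_inv_self]
      rfl
    have h2 : ρ ⟨g, hg⟩ * ρ ⟨ψ' z, hzD⟩ * (ρ ⟨g, hg⟩)⁻¹ = ρ ⟨ψ' (α z), hαzD⟩ := by
      rw [← map_inv, ← map_mul, ← map_mul]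
      congr 1
      apply Subtype.ext
      exact (hα z).symm
    rw [h1, h2, hρe' _ hαzD, ← hκ''e x]
    show ((χ (α z) : ↥(P ⊔ Q)) : Ω) =
      ((χ (α (χ⁻¹ (Subgroup.inclusion le_sup_right x))) : ↥(P ⊔ Q)) : Ω)
    rfl
  have hhS : h ∈ S := hN₀S hhN
  obtain ⟨-, κh, hκh, hκhe⟩ := hhN
  have hκhe' : ∀ x : Q, ((κh x : Q) : Ω) = h * x * h⁻¹ := hκhe
  have hhN' : h ∈ NKvia S Q.subtype K := ⟨hhS, κh, hκh, hκhe⟩
  -- the final map on `N ⊔ Q` and on `N`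
  have hND' : extender (NKvia S Q.subtype K) R φ ≤
      ψ'.range ⊔ NKvia S ψ' (KP' P Q K (NKvia S Q.subtype K)) := hNle.trans le_sup_right
  have hNQD' : extender (NKvia S Q.subtype K) R φ ⊔ Q ≤
      ψ'.range ⊔ NKvia S ψ' (KP' P Q K (NKvia S Q.subtype K)) := by
    apply sup_le hND'
    rw [hψ'r]
    exact le_sup_right.trans le_sup_left
  have hconj : ∀ {D : Subgroup Ω} (hD : D ≤ ψ'.range ⊔ NKvia S ψ' (KP' P Q K (NKvia S Q.subtype K))),
      ∃ θ ∈ F.Hom D, ∀ x : D, θ x = h⁻¹ * ρ (Subgroup.inclusion hD x) * h := by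
    intro D hD
    have hρD := restrict_mem F hD hρ
    have hrS : (ρ.comp (Subgroup.inclusion hD)).range ≤ S := by
      rintro _ ⟨x, rfl⟩
      exact hρS _
    have hc : conjHom (ρ.comp (Subgroup.inclusion hD)).range h⁻¹ ∈
        F.Hom (ρ.comp (Subgroup.inclusion hD)).range := F.conj_mem hrS (inv_mem hhS)
    refine ⟨_, F.comp_mem hρD hc (fun x => ⟨x, rfl⟩), fun x => ?_⟩
    show h⁻¹ * ρ (Subgroup.inclusion hD x) * h⁻¹⁻¹ = _
    rw [inv_inv]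
  obtain ⟨θ, hθF, hθe⟩ := hconj hND'
  obtain ⟨θb, hθbF, hθbe⟩ := hconj hNQD'
  have hNN₀ : extender (NKvia S Q.subtype K) R φ ≤ NKvia S Q.subtype K :=
    (extender_le_normalizerIn (S := NKvia S Q.subtype K) R φ).trans inf_le_left
  have hθE : θ ∈ E.Hom (extender (NKvia S Q.subtype K) R φ) := by
    rw [hE]
    refine ⟨hθF, hNN₀, fun x => ?_, θb, hθbF, fun x => ?_, ?_⟩
    · rw [hθe]
      exact mul_mem (mul_mem (inv_mem hhN') (hρN₀ _ (hNle x.2) _)) hhN'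
    · rw [hθe, hθbe]
      rfl
    · obtain ⟨κχ, hκχ, hκχe⟩ := hχK.2
      refine ⟨κh⁻¹ * κχ * κ₀, K.mul_mem (K.mul_mem (K.inv_mem hκh) hκχ) hκ₀, fun x => ?_⟩
      rw [hθbe]
      -- `x = ψ' z` with `z = e₀ x`
      set z : ↥(P ⊔ Q) := e₀ (Subgroup.inclusion le_sup_right x) with hz
      have hzcoe : z = Subgroup.inclusion le_sup_right (κ₀ x) := by
        apply Subtype.ext
        rw [hz, he₀coe, hκ₀e]
        rfl
      have hψ'z : ψ' z = (x : Ω) := by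
        rw [hψ'coe, hz, MulEquiv.symm_apply_apply]
        rfl
      have hzD : ψ' z ∈ ψ'.range ⊔ NKvia S ψ' (KP' P Q K (NKvia S Q.subtype K)) :=
        Subgroup.mem_sup_left ⟨z, rfl⟩
      have h1 : ρ (Subgroup.inclusion hNQD' (Subgroup.inclusion le_sup_right x)) =
          ρ ⟨ψ' z, hzD⟩ := by
        congr 1
        apply Subtype.ext
        exact hψ'z.symm
      rw [h1, hρe' z hzD, hzcoe, hκχe]
      -- `h⁻¹ y h = κh⁻¹ y`
      have h2 := hκhe' (κh⁻¹ (κχ (κ₀ x)))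
      rw [MulAut.apply_inv_self] at h2
      show h⁻¹ * ((κχ (κ₀ x) : Q) : Ω) * h = ((κh⁻¹ (κχ (κ₀ x)) : Q) : Ω)
      rw [h2]
      group
  refine ⟨θ, hθE, fun x hP hN => ?_⟩
  rw [hθe]
  set z : ↥(P ⊔ Q) := e₀ (Subgroup.inclusion le_sup_left (⟨x, hP⟩ : R)) with hz
  have hzcoe : (z : Ω) = φ ⟨x, hP⟩ := by
    rw [hz, he₀coe, hφbR]
  have hzP : (z : Ω) ∈ P := by
    rw [hzcoe, ← hφr]
    exact ⟨_, rfl⟩
  have hψ'z : ψ' z = x := by
    rw [hψ'coe, hz, MulEquiv.symm_apply_apply]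
    rfl
  have hzD : ψ' z ∈ ψ'.range ⊔ NKvia S ψ' (KP' P Q K (NKvia S Q.subtype K)) :=
    Subgroup.mem_sup_left ⟨z, rfl⟩
  have h1 : ρ (Subgroup.inclusion hND' ⟨x, hN⟩) = ρ ⟨ψ' z, hzD⟩ := by
    congr 1
    apply Subtype.ext
    exact hψ'z.symm
  rw [h1, hρe' z hzD, hhe z hzP, hzcoe]
  group

/-- **Saturation of `K`-normalizer systems**: if `Q` is fully `K`-normalized in the saturated
system `F`, then `N_F^K(Q)` is saturated. -/
theorem NK_isSaturated [Finite S] (p : ℕ) [Fact p.Prime] (hS : IsPGroup p S)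
    (F : FusionSystem S) (hF : F.IsSaturated p) {Q : Subgroup Ω} (hQS : Q ≤ S)
    (K : Subgroup (MulAut Q))
    (hQmax : ∀ ψ' ∈ F.Hom Q, Nat.card (NKvia S ψ' K) ≤ Nat.card (NKvia S Q.subtype K))
    (E : FusionSystem (NKvia S Q.subtype K))
    (hE : ∀ P : Subgroup Ω, E.Hom P = NKHom F Q K (NKvia S Q.subtype K) P) :
    E.IsSaturated p := by
  have hN₀S : NKvia S Q.subtype K ≤ S := NKvia_le _ _ _
  have hfinN₀ : Finite (NKvia S Q.subtype K) := finite_of_le hN₀S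
  intro P hPN
  obtain ⟨P', hPP', hFN⟩ := exists_isConj_fullyNormalized E hPN
  have hmax : ∀ ψ ∈ F.Hom (P' ⊔ Q), Nat.card (NKvia S ψ (KP P' Q K)) ≤
      Nat.card (NKvia S (P' ⊔ Q).subtype (KP P' Q K)) :=
    fun ψ hψ => card_NKvia_KP_le p hS F hF hQS K hQmax E hE hFN hψ
  exact ⟨P', hPP', isFullyAutomized_of_max p hS F hF hQS K E hE hFN.1 hmax,
    isReceptive_of_max p hS F hF hQS K E hE hFN.1 hmax⟩

/-- The same, over a subgroup only propositionally equal to `N_S^K(Q)`. -/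
theorem NK_isSaturated' [Finite S] (p : ℕ) [Fact p.Prime] (hS : IsPGroup p S)
    (F : FusionSystem S) (hF : F.IsSaturated p) {Q : Subgroup Ω} (hQS : Q ≤ S)
    (K : Subgroup (MulAut Q))
    (hQmax : ∀ ψ' ∈ F.Hom Q, Nat.card (NKvia S ψ' K) ≤ Nat.card (NKvia S Q.subtype K))
    (N₀ : Subgroup Ω) (hN₀ : N₀ = NKvia S Q.subtype K) (E : FusionSystem N₀)
    (hE : ∀ P : Subgroup Ω, E.Hom P = NKHom F Q K N₀ P) : E.IsSaturated p := by
  subst hN₀
  exact NK_isSaturated p hS F hF hQS K hQmax E hE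

/-- For `K = Aut(X)` the `K`-normalizer is the normalizer. -/
theorem NKvia_top {X : Subgroup Ω} {ψ : X →* Ω} (hinj : Function.Injective ψ) :
    NKvia S ψ ⊤ = normalizerIn S ψ.range := by
  apply le_antisymm
  · exact le_inf (NKvia_le _ _ _) (NKvia_le_normalizer ψ ⊤)
  · intro g hg
    have hg' : g ∈ S ∧ g ∈ Subgroup.normalizer (ψ.range : Set Ω) := Subgroup.mem_inf.mp hg
    set e' := isoOfHom ψ hinj rfl with he'
    refine ⟨hg'.1, MulAut.congr e'.symm (ψ.range.normalizerMonoidHom ⟨g, hg'.2⟩),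
      Subgroup.mem_top _, fun x => ?_⟩
    show ((e' (e'.symm (ψ.range.normalizerMonoidHom ⟨g, hg'.2⟩ (e' x))) : ψ.range) : Ω) = _
    rw [MulEquiv.apply_symm_apply]
    rfl

/-- For `K = 1` the `K`-normalizer is the centralizer. -/
theorem NKvia_bot {X : Subgroup Ω} (ψ : X →* Ω) :
    NKvia S ψ ⊥ = centralizerIn S ψ.range := by
  apply le_antisymm
  · rintro g ⟨hgS, κ, hκ, he⟩
    rw [Subgroup.mem_bot] at hκ
    subst hκ
    refine Subgroup.mem_inf.mpr ⟨hgS, Subgroup.mem_centralizer_iff.mpr ?_⟩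
    rintro _ ⟨x, rfl⟩
    have h1 : ψ x = g * ψ x * g⁻¹ := he x
    calc ψ x * g = (g * ψ x * g⁻¹) * g := by rw [← h1]
      _ = g * ψ x := by group
  · exact centralizerIn_le_NKvia ψ ⊥

theorem normalizerIn_eq_NKvia (Q : Subgroup Ω) :
    normalizerIn S Q = NKvia S Q.subtype ⊤ := by
  rw [NKvia_top Subtype.val_injective, Subgroup.range_subtype]

theorem centralizerIn_eq_NKvia (Q : Subgroup Ω) :
    centralizerIn S Q = NKvia S Q.subtype ⊥ := by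
  rw [NKvia_bot, Subgroup.range_subtype]

theorem normalizerHom_eq_NKHom (F : FusionSystem S) (Q P : Subgroup Ω) :
    F.normalizerHom Q P = NKHom F Q ⊤ (normalizerIn S Q) P := by
  ext φ
  constructor
  · rintro ⟨hφ, hP, hval, ψ, hψ, hψP, hψQ⟩
    refine ⟨hφ, hP, hval, ψ, hψ, hψP, ?_⟩
    have hinj : Function.Injective (ψ.comp (Subgroup.inclusion (le_sup_right : Q ≤ P ⊔ Q))) :=
      (F.injective_of_mem hψ).comp (Subgroup.inclusion_injective _)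
    have hr : (ψ.comp (Subgroup.inclusion (le_sup_right : Q ≤ P ⊔ Q))).range = Q := by
      refine Eq.trans ?_ hψQ
      ext y
      constructor
      · rintro ⟨x, rfl⟩
        exact ⟨Subgroup.inclusion le_sup_right x, x.2, rfl⟩
      · rintro ⟨x, hx, rfl⟩
        exact ⟨⟨x, hx⟩, rfl⟩
    exact ⟨isoOfHom _ hinj hr, Subgroup.mem_top _, fun x => rfl⟩
  · rintro ⟨hφ, hP, hval, ψ, hψ, hψP, κ, -, hκe⟩
    exact ⟨hφ, hP, hval, ψ, hψ, hψP, map_subgroupOf_eq_of_aut ψ κ hκe⟩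

theorem centralizerHom_eq_NKHom (F : FusionSystem S) (Q P : Subgroup Ω) :
    F.centralizerHom Q P = NKHom F Q ⊥ (centralizerIn S Q) P := by
  ext φ
  constructor
  · rintro ⟨hφ, hP, hval, ψ, hψ, hψP, hψQ⟩
    exact ⟨hφ, hP, hval, ψ, hψ, hψP, 1, Subgroup.mem_bot.mpr rfl, hψQ⟩
  · rintro ⟨hφ, hP, hval, ψ, hψ, hψP, κ, hκ, hκe⟩
    rw [Subgroup.mem_bot] at hκ
    subst hκ
    exact ⟨hφ, hP, hval, ψ, hψ, hψP, hκe⟩

/-- The normalizer system of a fully normalized subgroup is saturated. -/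
theorem normalizerSystem_isSaturated [Finite S] (p : ℕ) [Fact p.Prime] (hS : IsPGroup p S)
    (F : FusionSystem S) (hF : F.IsSaturated p) (Q : Subgroup Ω) (hQ : F.IsFullyNormalized Q)
    (E : FusionSystem (normalizerIn S Q)) (hE : F.IsNormalizerSystem Q E) : E.IsSaturated p := by
  apply NK_isSaturated' p hS F hF hQ.1 ⊤ ?_ _ (normalizerIn_eq_NKvia Q) E
  · intro P
    rw [hE P, normalizerHom_eq_NKHom]
  · intro ψ' hψ'
    rw [NKvia_top (F.injective_of_mem hψ'), ← normalizerIn_eq_NKvia]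
    exact hQ.2 _ ⟨ψ', hψ', rfl⟩

/-- The centralizer system of a fully centralized subgroup is saturated. -/
theorem centralizerSystem_isSaturated [Finite S] (p : ℕ) [Fact p.Prime] (hS : IsPGroup p S)
    (F : FusionSystem S) (hF : F.IsSaturated p) (Q : Subgroup Ω) (hQ : F.IsFullyCentralized Q)
    (E : FusionSystem (centralizerIn S Q)) (hE : F.IsCentralizerSystem Q E) : E.IsSaturated p := by
  apply NK_isSaturated' p hS F hF hQ.1 ⊥ ?_ _ (centralizerIn_eq_NKvia Q) E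
  · intro P
    rw [hE P, centralizerHom_eq_NKHom]
  · intro ψ' hψ'
    rw [NKvia_bot, ← centralizerIn_eq_NKvia]
    exact hQ.2 _ ⟨ψ', hψ', rfl⟩

end Cfsg.Agent.Helper25
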