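import Mathlib
import Cfsg.Agent.Helper25.FusionKNormSys

set_option autoImplicit false

/-! The `K`-normalizer system `N_F^K(Q)` as a fusion system, and its saturation when `Q` is fully
centralized and `K ≤ Aut_S(Q)`. -/

namespace Cfsg.Agent.Helper25

open Cfsg Cfsg.FusionSystem

variable {Ω : Type*} [Group Ω] {S : Subgroup Ω}

/-- The `K`-normalizer system exists. -/
def NKSystem (F : FusionSystem S) (Q : Subgroup Ω) (hQ : Q ≤ S) (K : Subgroup (MulAut Q)) :
    FusionSystem (NKvia S Q.subtype K) where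
  Hom P := NKHom F Q K (NKvia S Q.subtype K) P
  le_of_mem := by
    rintro P φ ⟨-, hP, hφ, -⟩
    exact ⟨hP, hφ⟩
  injective_of_mem := by
    rintro P φ ⟨hφ, -⟩
    exact F.injective_of_mem hφ
  conj_mem := by
    intro P g hP hg
    have hN₀S : NKvia S Q.subtype K ≤ S := NKvia_le S _ K
    have hPS : P ≤ S := hP.trans hN₀S
    obtain ⟨hgS, κ, hκ, hκg⟩ := mem_NKvia_subtype.mp hg
    refine ⟨F.conj_mem hPS hgS, hP, ?_, conjHom (P ⊔ Q) g, F.conj_mem (sup_le hPS hQ) hgS, ?_,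
      κ, hκ, ?_⟩
    · intro x
      show g * (x : Ω) * g⁻¹ ∈ NKvia S Q.subtype K
      exact Subgroup.mul_mem _ (Subgroup.mul_mem _ hg (hP x.2)) (Subgroup.inv_mem _ hg)
    · intro x
      rfl
    · intro x
      exact (hκg x).symm
  comp_mem := by
    rintro P R φ ψ ⟨hφ, hP, hφN, φ', hφ', hφ'P, κ₁, hκ₁, hφ'Q⟩ ⟨hψ, hR, hψN, ψ', hψ', hψ'R, κ₂, hκ₂, hψ'Q⟩ h
    refine ⟨F.comp_mem hφ hψ h, hP, fun x => hψN _, ?_⟩
    have hval : ∀ x : ↥(P ⊔ Q), φ' x ∈ R ⊔ Q := by
      intro x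
      have hx : φ' x ∈ φ'.range := ⟨x, rfl⟩
      rw [range_sup_eq, map_subgroupOf_eq_range φ' φ hφ'P,
        map_subgroupOf_eq_of_aut φ' κ₁ hφ'Q] at hx
      refine (sup_le_sup_right ?_ Q) hx
      rintro _ ⟨z, rfl⟩
      exact h z
    refine ⟨ψ'.comp (φ'.codRestrict (R ⊔ Q) hval), F.comp_mem hφ' hψ' hval, ?_,
      κ₂ * κ₁, K.mul_mem hκ₂ hκ₁, ?_⟩
    · intro x
      show ψ' ⟨φ' (Subgroup.inclusion le_sup_left x), _⟩ = ψ ⟨φ x, _⟩
      rw [← hψ'R]
      congr 1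
      apply Subtype.ext
      exact hφ'P x
    · intro x
      show ψ' ⟨φ' (Subgroup.inclusion le_sup_right x), _⟩ = ((κ₂ * κ₁) x : Q)
      rw [MulAut.mul_apply, ← hψ'Q]
      congr 1
      apply Subtype.ext
      exact hφ'Q x
  inv_mem := by
    rintro P φ ⟨hφ, hP, hφN, φ', hφ', hφ'P, κ, hκ, hφ'Q⟩
    obtain ⟨χ, hχ, hχinv⟩ := F.inv_mem hφ'
    have hrange : φ'.range = φ.range ⊔ Q := by
      rw [range_sup_eq, map_subgroupOf_eq_range φ' φ hφ'P, map_subgroupOf_eq_of_aut φ' κ hφ'Q]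
    have hle : φ.range ≤ φ'.range := by rw [hrange]; exact le_sup_left
    have hχφ : ∀ x : P, χ (Subgroup.inclusion hle ⟨φ x, ⟨x, rfl⟩⟩) = (x : Ω) := by
      intro x
      have h1 := hχinv (Subgroup.inclusion le_sup_left x)
      refine Eq.trans ?_ h1
      congr 1
      apply Subtype.ext
      exact (hφ'P x).symm
    refine ⟨χ.comp (Subgroup.inclusion hle), ⟨restrict_mem F hle hχ, ?_, ?_, ?_⟩, ?_⟩
    · rintro _ ⟨x, rfl⟩
      exact hφN x
    · rintro ⟨_, x, rfl⟩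
      show χ (Subgroup.inclusion hle ⟨φ x, ⟨x, rfl⟩⟩) ∈ NKvia S Q.subtype K
      rw [hχφ x]
      exact hP x.2
    · refine ⟨χ.comp (Subgroup.inclusion hrange.ge), cast_mem F hrange.symm hχ, ?_,
        κ⁻¹, K.inv_mem hκ, ?_⟩
      · intro x
        rfl
      · intro y
        have h1 := hχinv (Subgroup.inclusion le_sup_right (κ⁻¹ y))
        have h2 : φ' (Subgroup.inclusion le_sup_right (κ⁻¹ y)) = (y : Ω) := by
          rw [hφ'Q, MulAut.apply_inv_self]
        show χ (Subgroup.inclusion hrange.ge (Subgroup.inclusion le_sup_right y)) = ((κ⁻¹ y : Q) : Ω)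
        refine Eq.trans ?_ h1
        congr 1
        apply Subtype.ext
        exact h2.symm
    · intro x
      exact hχφ x

theorem NKSystem_hom (F : FusionSystem S) (Q : Subgroup Ω) (hQ : Q ≤ S) (K : Subgroup (MulAut Q))
    (P : Subgroup Ω) : (NKSystem F Q hQ K).Hom P = NKHom F Q K (NKvia S Q.subtype K) P := rfl

theorem NKSystem_isSubsystemOf (F : FusionSystem S) (Q : Subgroup Ω) (hQ : Q ≤ S)
    (K : Subgroup (MulAut Q)) : (NKSystem F Q hQ K).IsSubsystemOf F :=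
  fun _ _ h => h.1

/-- A fully centralized subgroup is fully `K`-normalized for every `K ≤ Aut_S(Q)`. -/
theorem card_NKvia_le_of_fullyCentralized [Finite S] (F : FusionSystem S) {Q : Subgroup Ω}
    (hFC : F.IsFullyCentralized Q) (K : Subgroup (MulAut Q)) (hK : K ≤ autInducedBy S Q) :
    ∀ ψ' ∈ F.Hom Q, Nat.card (NKvia S ψ' K) ≤ Nat.card (NKvia S Q.subtype K) := by
  intro ψ' hψ'
  have hQS : Q ≤ S := hFC.1
  have hfinQ : Finite Q := finite_of_le hQS
  have hfinA : Finite (MulAut Q) :=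
    Finite.of_injective (fun e : MulAut Q => (e : Q → Q)) (fun a b h => DFunLike.coe_injective h)
  rw [card_NKvia (F.injective_of_mem hψ'), card_NKvia Q.subtype_injective]
  have h1 : Nat.card (centralizerIn S ψ'.range) ≤ Nat.card (centralizerIn S Q) :=
    hFC.2 _ ⟨ψ', hψ', rfl⟩
  have h2 : KSvia S Q.subtype K = K := by
    apply le_antisymm (KSvia_le S _ K)
    intro κ hκ
    obtain ⟨g, hg, hgκ⟩ := (mem_autInducedBy_iff S Q κ).mp (hK hκ)
    exact ⟨hκ, g, hg, fun x => hgκ x⟩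
  have h3 : Nat.card (KSvia S ψ' K) ≤ Nat.card K := Subgroup.card_le_of_le (KSvia_le S ψ' K)
  rw [h2, Subgroup.range_subtype]
  exact Nat.mul_le_mul h1 h3

/-- Saturation of `N_F^K(Q)` for `Q` fully centralized and `K ≤ Aut_S(Q)`. -/
theorem NKSystem_isSaturated [Finite S] (p : ℕ) [Fact p.Prime] (hS : IsPGroup p S)
    (F : FusionSystem S) (hF : F.IsSaturated p) {Q : Subgroup Ω}
    (hFC : F.IsFullyCentralized Q) (K : Subgroup (MulAut Q)) (hK : K ≤ autInducedBy S Q) :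
    (NKSystem F Q hFC.1 K).IsSaturated p :=
  NK_isSaturated p hS F hF hFC.1 K (card_NKvia_le_of_fullyCentralized F hFC K hK) _
    (fun _ => rfl)

end Cfsg.Agent.Helper25
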