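import Mathlib
import Cfsg.Agent.Helper25.FusionNormal
import Cfsg.Agent.Helper10.PResidual

set_option autoImplicit false

namespace Cfsg.Agent.Helper25

open Cfsg Cfsg.FusionSystem

variable {Ω : Type*} [Group Ω] {S : Subgroup Ω}

/-- Homomorphisms map `O^p` into `O^p`. -/
theorem map_mem_pResidual {A B : Type*} [Group A] [Group B] (p : ℕ) (f : A →* B) {a : A}
    (ha : a ∈ pResidual p A) : f a ∈ pResidual p B := by
  unfold pResidual at ha ⊢
  induction ha using Subgroup.closure_induction with
  | mem x hx =>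
    apply Subgroup.subset_closure
    exact Nat.Coprime.coprime_dvd_left (orderOf_map_dvd f x) hx
  | one => rw [map_one]; exact Subgroup.one_mem _
  | mul x y _ _ hx hy => rw [map_mul]; exact Subgroup.mul_mem _ hx hy
  | inv x _ hx => rw [map_inv]; exact Subgroup.inv_mem _ hx

theorem hyperfocalSubgroup_le (F : FusionSystem S) (p : ℕ) : F.hyperfocalSubgroup p ≤ S := by
  unfold hyperfocalSubgroup
  rw [Subgroup.closure_le]
  rintro _ ⟨P, α, x, hPS, -, rfl⟩
  exact S.mul_mem (S.inv_mem (hPS x.2)) (hPS ((α : MulAut P) x).2)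

/-- The hyperfocal subgroup is normalized by `S`. -/
theorem le_normalizer_hyperfocalSubgroup (F : FusionSystem S) (p : ℕ) :
    S ≤ Subgroup.normalizer (F.hyperfocalSubgroup p : Set Ω) := by
  have key : ∀ s ∈ S, ∀ y ∈ F.hyperfocalSubgroup p, s * y * s⁻¹ ∈ F.hyperfocalSubgroup p := by
    intro s hs y hy
    unfold hyperfocalSubgroup at hy
    induction hy using Subgroup.closure_induction with
    | mem y hy =>
      obtain ⟨P, α, x, hPS, hα, rfl⟩ := hy
      have hψ : conjHom P s ∈ F.Hom P := F.conj_mem hPS hs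
      set e := isoOfHom (conjHom P s) (F.injective_of_mem hψ) rfl with he
      have hP'S : (conjHom P s).range ≤ S := by
        rintro _ ⟨z, rfl⟩
        exact (F.le_of_mem hψ).2 z
      let f : F.autGroup P →* F.autGroup (conjHom P s).range :=
        ((MulAut.congr e).toMonoidHom.comp (F.autGroup P).subtype).codRestrict
          (F.autGroup (conjHom P s).range) (fun β => congr_mem_autGroup F hψ rfl β.2)
      have hfα : f α ∈ pResidual p (F.autGroup (conjHom P s).range) := map_mem_pResidual p f hα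
      apply Subgroup.subset_closure
      refine ⟨(conjHom P s).range, f α, e x, hP'S, hfα, ?_⟩
      have h1 : ((f α : MulAut (conjHom P s).range) (e x)) = e ((α : MulAut P) x) := by
        show e ((α : MulAut P) (e.symm (e x))) = _
        rw [MulEquiv.symm_apply_apply]
      rw [h1]
      show s * ((x : Ω)⁻¹ * (((α : MulAut P) x : P) : Ω)) * s⁻¹ =
        (s * (x : Ω) * s⁻¹)⁻¹ * (s * (((α : MulAut P) x : P) : Ω) * s⁻¹)
      group
    | one => simp
    | mul a b _ _ ha hb =>
      have e : s * (a * b) * s⁻¹ = (s * a * s⁻¹) * (s * b * s⁻¹) := by group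
      rw [e]; exact Subgroup.mul_mem _ ha hb
    | inv a _ ha =>
      have e : s * a⁻¹ * s⁻¹ = (s * a * s⁻¹)⁻¹ := by group
      rw [e]; exact Subgroup.inv_mem _ ha
  intro s hs
  rw [Subgroup.mem_normalizer_iff]
  intro x
  constructor
  · exact key s hs x
  · intro hx
    have := key s⁻¹ (S.inv_mem hs) _ hx
    have e : s⁻¹ * (s * x * s⁻¹) * s⁻¹⁻¹ = x := by group
    rwa [e] at this

/-- The subsystem of maps preserving (in both directions) membership in a subgroup normalized
by `S`. -/
def preservingSystem (F : FusionSystem S) (H : Subgroup Ω)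
    (hH : S ≤ Subgroup.normalizer (H : Set Ω)) : FusionSystem S where
  Hom P := {φ | φ ∈ F.Hom P ∧ ∀ x : P, (x : Ω) ∈ H ↔ φ x ∈ H}
  le_of_mem := fun h => F.le_of_mem h.1
  injective_of_mem := fun h => F.injective_of_mem h.1
  conj_mem := by
    intro P g hP hg
    exact ⟨F.conj_mem hP hg, fun x => Subgroup.mem_normalizer_iff.mp (hH hg) x⟩
  comp_mem := by
    rintro P Q φ ψ ⟨hφ, hφH⟩ ⟨hψ, hψH⟩ h
    refine ⟨F.comp_mem hφ hψ h, fun x => ?_⟩
    rw [hφH x]
    exact hψH ⟨φ x, h x⟩
  inv_mem := by
    rintro P φ ⟨hφ, hφH⟩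
    obtain ⟨ψ, hψ, hinv⟩ := F.inv_mem hφ
    refine ⟨ψ, ⟨hψ, ?_⟩, hinv⟩
    rintro ⟨_, x, rfl⟩
    rw [hinv x]
    exact (hφH x).symm

/-- In a saturated system the hyperfocal subgroup is strongly closed. -/
theorem hyperfocalSubgroup_stronglyClosed [Finite S] (p : ℕ) [Fact p.Prime] (hS : IsPGroup p S)
    (F : FusionSystem S) (hF : F.IsSaturated p) : F.StronglyClosed (F.hyperfocalSubgroup p) := by
  set H := F.hyperfocalSubgroup p with hH
  have hHN := le_normalizer_hyperfocalSubgroup F p
  set E := preservingSystem F H hHN with hE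
  have hle : F ≤ E := by
    apply alperin_le p hS F hF E
    intro R hR
    have hFN : F.IsFullyNormalized R := by
      rcases hR with rfl | hR
      · refine ⟨le_rfl, fun Q _ => ?_⟩
        have h1 : normalizerIn R Q ≤ normalizerIn R R := fun x hx =>
          ⟨hx.1, Subgroup.le_normalizer hx.1⟩
        have : Finite (normalizerIn R R) := finite_of_le inf_le_left
        exact Nat.card_le_card_of_injective (Subgroup.inclusion h1)
          (Subgroup.inclusion_injective _)
      · exact hR.2.1
    have hRS : R ≤ S := hFN.1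
    have hfinR : Finite R := finite_of_le hRS
    obtain ⟨-, -, T, hT⟩ := Cfsg.Agent.S5077.sylow_axiom p hS F hF R hFN
    intro α hα
    rw [mem_autGroup_iff E hRS]
    refine ⟨(mem_autGroup_iff F hRS α).mp hα, fun x => ?_⟩
    obtain ⟨t, ht, u, hu, htu⟩ := Cfsg.Agent.Helper10.exists_sylow_mul_pResidual T ⟨α, hα⟩
    rw [hT] at ht
    have ht' : (t : MulAut R) ∈ autInducedBy S R := ht
    rw [mem_autInducedBy_iff] at ht'
    obtain ⟨s, hs, hst⟩ := ht'
    have hαx : ((α x : R) : Ω) = s * (((u : MulAut R) x : R) : Ω) * s⁻¹ := by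
      have h1 : α = (t : MulAut R) * (u : MulAut R) := congrArg Subtype.val htu
      rw [h1, MulAut.mul_apply, hst]
    show (x : Ω) ∈ H ↔ ((α x : R) : Ω) ∈ H
    rw [hαx, ← Subgroup.mem_normalizer_iff.mp (hHN hs)]
    have hgen : (x : Ω)⁻¹ * (((u : MulAut R) x : R) : Ω) ∈ H :=
      Subgroup.subset_closure ⟨R, u, x, hRS, hu, rfl⟩
    constructor
    · intro hx
      have := H.mul_mem hx hgen
      rwa [mul_inv_cancel_left] at this
    · intro hux
      have := H.mul_mem hux (H.inv_mem hgen)
      rwa [mul_inv_rev, inv_inv, ← mul_assoc, mul_inv_cancel, one_mul] at this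
  refine ⟨hyperfocalSubgroup_le F p, fun R hR φ hφ x => ?_⟩
  exact ((hle R hφ).2 x).mp (hR x.2)

end Cfsg.Agent.Helper25
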