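import Mathlib
import Cfsg.Agent.Helper25.FusionLift

set_option autoImplicit false

/-! Induced homomorphisms along a homomorphism whose kernel is strongly closed, and the factor
map as a surjective morphism of fusion systems. -/

namespace Cfsg.Agent.Helper25

open Cfsg Cfsg.FusionSystem

variable {Ω Ω' : Type*} [Group Ω] [Group Ω'] {S : Subgroup Ω}

/-- A map of the system on a full preimage induces a homomorphism on the image. -/
theorem exists_inducedAlong [Finite S] (F : FusionSystem S) {T : Subgroup Ω}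
    (hT : F.StronglyClosed T) (θ : S →* Ω') (hker : ∀ s : S, θ s = 1 ↔ (s : Ω) ∈ T)
    {S' : Subgroup Ω'} (hrange : θ.range = S') {P' : Subgroup Ω'} (hP' : P' ≤ S')
    {ψ : ↥(preimageAlong θ P') →* Ω} (hψ : ψ ∈ F.Hom (preimageAlong θ P')) :
    ∃ φ' : P' →* Ω', InducedAlong θ ψ φ' := by
  have hψS : ∀ x : preimageAlong θ P', ψ x ∈ S := (F.le_of_mem hψ).2
  let f : ↥(preimageAlong θ P') →* P' :=
    (θ.comp (Subgroup.inclusion (preimageAlong_le θ P'))).codRestrict P'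
      (fun x => preimageAlong_map_mem θ P' x)
  let g : ↥(preimageAlong θ P') →* Ω' := θ.comp (ψ.codRestrict S hψS)
  have hf : Function.Surjective f := by
    intro y
    obtain ⟨x, hx⟩ := exists_preimageAlong θ hrange hP' y
    exact ⟨x, Subtype.ext hx⟩
  have hTM : T ≤ preimageAlong θ P' := ker_le_preimageAlong θ hT.1 hker P'
  have hfg : f.ker ≤ g.ker := by
    intro x hx
    rw [MonoidHom.mem_ker] at hx ⊢
    have h1 : θ ⟨x, preimageAlong_le θ P' x.2⟩ = 1 := congrArg Subtype.val hx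
    have h2 : (x : Ω) ∈ T := (hker _).mp h1
    have h3 : ψ x ∈ T := ((stronglyClosed_mem_iff F hT hTM hψ).1 x).mpr h2
    exact (hker ⟨ψ x, hψS x⟩).mpr h3
  refine ⟨f.liftOfSurjective hf ⟨g, hfg⟩, preimageAlong_le θ P', hψS,
    fun x => preimageAlong_map_mem θ P' x, fun x => ?_⟩
  exact MonoidHom.liftOfRightInverse_comp_apply f _ _ ⟨g, hfg⟩ x

/-- The full preimage of the image of `P ≤ S` is `P ⊔ T`. -/
theorem preimageAlong_imageAlong (θ : S →* Ω') {T : Subgroup Ω} (hTS : T ≤ S)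
    (hker : ∀ s : S, θ s = 1 ↔ (s : Ω) ∈ T) {P : Subgroup Ω} (hP : P ≤ S) :
    preimageAlong θ (imageAlong θ P) = P ⊔ T := by
  apply le_antisymm
  · intro y hy
    obtain ⟨hyS, x, hx, hxy⟩ := (mem_preimageAlong _ _ _).mp hy
    have hx' : (x : Ω) ∈ P := hx
    have h1 : θ (x⁻¹ * ⟨y, hyS⟩) = 1 := by
      rw [map_mul, map_inv, hxy, inv_mul_cancel]
    have h2 : (x : Ω)⁻¹ * y ∈ T := (hker _).mp h1
    have e : y = (x : Ω) * ((x : Ω)⁻¹ * y) := by group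
    rw [e]
    exact Subgroup.mul_mem _ (Subgroup.mem_sup_left hx') (Subgroup.mem_sup_right h2)
  · refine sup_le ?_ (ker_le_preimageAlong θ hTS hker _)
    intro x hx
    refine (mem_preimageAlong _ _ _).mpr ⟨hP hx, ⟨⟨x, hP hx⟩, ?_, rfl⟩⟩
    exact hx

/-- The factor map is a surjective morphism of fusion systems. -/
theorem isSurjectiveMorphism_of_isFactorSystem [Finite S] (p : ℕ) [Fact p.Prime]
    (hS : IsPGroup p S) (F : FusionSystem S) (hF : F.IsSaturated p) {T : Subgroup Ω}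
    (hT : F.StronglyClosed T) {S' : Subgroup Ω'} (θ : S →* Ω') (E : FusionSystem S')
    (hE : F.IsFactorSystem T θ E) : F.IsSurjectiveMorphism E θ := by
  obtain ⟨hTS, hker, hrange, hiff⟩ := hE
  have hθS : ∀ s : S, θ s ∈ S' := by
    intro s
    rw [← hrange]
    exact ⟨s, rfl⟩
  refine ⟨⟨hθS, ?_⟩, hrange, fun P' _ φ' hφ' => ((hiff P' φ').mp hφ').2⟩
  intro P φ hφ
  have hPS : P ≤ S := (F.le_of_mem hφ).1
  have hφS : ∀ x : P, φ x ∈ S := (F.le_of_mem hφ).2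
  obtain ⟨-, ψ, hψ, hl⟩ := le_liftSystem p hS F hF hT P hφ
  have hpre := preimageAlong_imageAlong θ hTS hker hPS
  have hP'S : imageAlong θ P ≤ S' := by
    rintro _ ⟨x, -, rfl⟩
    exact hθS x
  have hψ' := cast_mem F hpre hψ
  obtain ⟨φ', hind⟩ := exists_inducedAlong F hT θ hker hrange hP'S hψ'
  refine ⟨φ', (hiff _ φ').mpr ⟨hP'S, _, hψ', hind⟩, hPS, hφS, ?_, ?_⟩
  · intro x
    exact ⟨⟨x, hPS x.2⟩, x.2, rfl⟩
  · intro x
    have hxM : (x : Ω) ∈ preimageAlong θ (imageAlong θ P) := by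
      rw [hpre]; exact Subgroup.mem_sup_left x.2
    have h1 := inducedAlong_apply θ hind ⟨x, hxM⟩ (hPS x.2)
      (⟨⟨x, hPS x.2⟩, x.2, rfl⟩) ((F.le_of_mem hψ').2 _)
    rw [h1]
    have h2 : (φ x)⁻¹ * (ψ.comp (Subgroup.inclusion hpre.le)) ⟨x, hxM⟩ ∈ T := hl x
    have h3 : θ (⟨φ x, hφS x⟩⁻¹ * ⟨(ψ.comp (Subgroup.inclusion hpre.le)) ⟨x, hxM⟩,
        (F.le_of_mem hψ').2 _⟩) = 1 := (hker _).mpr h2
    rw [map_mul, map_inv, inv_mul_eq_one] at h3
    exact h3.symm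

/-- In a saturated system the join of two strongly closed subgroups is strongly closed. -/
theorem stronglyClosed_sup [Finite S] (p : ℕ) [Fact p.Prime] (hS : IsPGroup p S)
    (F : FusionSystem S) (hF : F.IsSaturated p) {T₁ T₂ : Subgroup Ω}
    (h₁ : F.StronglyClosed T₁) (h₂ : F.StronglyClosed T₂) : F.StronglyClosed (T₁ ⊔ T₂) := by
  refine ⟨sup_le h₁.1 h₂.1, fun R hR φ hφ x => ?_⟩
  obtain ⟨-, ψ, hψ, hl⟩ := le_liftSystem p hS F hF h₁ R hφ
  have hSN : S ≤ Subgroup.normalizer (T₁ : Set Ω) := le_normalizer_of_stronglyClosed F h₁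
  -- every value of ψ lies in T₁ ⊔ T₂
  have key : ∀ y : ↥(R ⊔ T₁), ψ y ∈ T₁ ⊔ T₂ := by
    intro y
    have hyM : (y : Ω) ∈ ((T₂ ⊔ T₁ : Subgroup Ω) : Set Ω) := by
      have : R ⊔ T₁ ≤ T₂ ⊔ T₁ := sup_le (hR.trans (sup_comm T₁ T₂).le) le_sup_right
      exact this y.2
    rw [Subgroup.coe_mul_of_left_le_normalizer_right T₂ T₁ (h₂.1.trans hSN), Set.mem_mul] at hyM
    obtain ⟨t₂, ht₂, t₁, ht₁, ht⟩ := hyM
    have ht₁M : t₁ ∈ R ⊔ T₁ := Subgroup.mem_sup_right ht₁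
    have ht₂M : t₂ ∈ R ⊔ T₁ := by
      have : t₂ = y * t₁⁻¹ := by rw [← ht]; group
      rw [this]
      exact Subgroup.mul_mem _ y.2 (Subgroup.inv_mem _ ht₁M)
    have e : y = ⟨t₂, ht₂M⟩ * ⟨t₁, ht₁M⟩ := Subtype.ext ht.symm
    rw [e, map_mul]
    refine Subgroup.mul_mem _ (Subgroup.mem_sup_right ?_) (Subgroup.mem_sup_left ?_)
    · have hle : (R ⊔ T₁) ⊓ T₂ ≤ R ⊔ T₁ := inf_le_left
      exact h₂.2 ((R ⊔ T₁) ⊓ T₂) inf_le_right _ (restrict_mem F hle hψ) ⟨t₂, ht₂M, ht₂⟩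
    · exact h₁.2 T₁ le_rfl _ (restrict_mem F (le_sup_right : T₁ ≤ R ⊔ T₁) hψ) ⟨t₁, ht₁⟩
  have h1 := key (Subgroup.inclusion le_sup_left x)
  have h2 := hl x
  have e : φ x = ψ (Subgroup.inclusion le_sup_left x) *
      ((φ x)⁻¹ * ψ (Subgroup.inclusion le_sup_left x))⁻¹ := by group
  rw [e]
  exact Subgroup.mul_mem _ h1 (Subgroup.mem_sup_left (T₁.inv_mem h2))

end Cfsg.Agent.Helper25
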