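import Mathlib
import Cfsg.Agent.Helper25.FusionInduced

set_option autoImplicit false

/-! The factor system of a saturated fusion system is saturated; images of saturated systems
under surjective morphisms are saturated. -/

namespace Cfsg.Agent.Helper25

open Cfsg Cfsg.FusionSystem

section Extender

variable {Ω : Type*} [Group Ω] {S : Subgroup Ω}

/-- The generators of `N_φ` already form a subgroup. -/
theorem mem_extender_iff (P : Subgroup Ω) (φ : P →* Ω) (g : Ω) :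
    g ∈ extender S P φ ↔ g ∈ S ∧ g ∈ Subgroup.normalizer (P : Set Ω) ∧
      ∃ h ∈ S, ∀ (x : P) (hx : g * (x : Ω) * g⁻¹ ∈ P), φ ⟨g * x * g⁻¹, hx⟩ = h * φ x * h⁻¹ := by
  constructor
  · intro hg
    unfold extender at hg
    induction hg using Subgroup.closure_induction with
    | mem g hg => exact hg
    | one =>
      refine ⟨S.one_mem, Subgroup.one_mem _, 1, S.one_mem, fun x hx => ?_⟩
      have : (⟨1 * (x : Ω) * 1⁻¹, hx⟩ : P) = x := Subtype.ext (by simp)
      rw [this]; simp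
    | mul g₁ g₂ _ _ ih₁ ih₂ =>
      obtain ⟨hg₁S, hg₁N, h₁, hh₁S, hh₁⟩ := ih₁
      obtain ⟨hg₂S, hg₂N, h₂, hh₂S, hh₂⟩ := ih₂
      refine ⟨S.mul_mem hg₁S hg₂S, Subgroup.mul_mem _ hg₁N hg₂N, h₁ * h₂, S.mul_mem hh₁S hh₂S,
        fun x hx => ?_⟩
      have hx₂ : g₂ * (x : Ω) * g₂⁻¹ ∈ P := (Subgroup.mem_normalizer_iff.mp hg₂N x).mp x.2
      have e : (⟨g₁ * g₂ * (x : Ω) * (g₁ * g₂)⁻¹, hx⟩ : P) =
          ⟨g₁ * ((⟨g₂ * (x : Ω) * g₂⁻¹, hx₂⟩ : P) : Ω) * g₁⁻¹, by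
            have : g₁ * (g₂ * (x : Ω) * g₂⁻¹) * g₁⁻¹ = g₁ * g₂ * (x : Ω) * (g₁ * g₂)⁻¹ := by group
            rw [this]; exact hx⟩ := by
        apply Subtype.ext
        show g₁ * g₂ * (x : Ω) * (g₁ * g₂)⁻¹ = g₁ * (g₂ * (x : Ω) * g₂⁻¹) * g₁⁻¹
        group
      rw [e, hh₁, hh₂]
      group
    | inv g _ ih =>
      obtain ⟨hgS, hgN, h, hhS, hh⟩ := ih
      refine ⟨S.inv_mem hgS, Subgroup.inv_mem _ hgN, h⁻¹, S.inv_mem hhS, fun x hx => ?_⟩
      have h1 := hh ⟨g⁻¹ * (x : Ω) * g⁻¹⁻¹, hx⟩ (by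
        show g * (g⁻¹ * (x : Ω) * g⁻¹⁻¹) * g⁻¹ ∈ P
        have : g * (g⁻¹ * (x : Ω) * g⁻¹⁻¹) * g⁻¹ = x := by group
        rw [this]; exact x.2)
      have e : (⟨g * ((⟨g⁻¹ * (x : Ω) * g⁻¹⁻¹, hx⟩ : P) : Ω) * g⁻¹, by
          show g * (g⁻¹ * (x : Ω) * g⁻¹⁻¹) * g⁻¹ ∈ P
          have : g * (g⁻¹ * (x : Ω) * g⁻¹⁻¹) * g⁻¹ = x := by group
          rw [this]; exact x.2⟩ : P) = x := by
        apply Subtype.ext
        show g * (g⁻¹ * (x : Ω) * g⁻¹⁻¹) * g⁻¹ = x
        group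
      rw [e] at h1
      rw [h1]
      group
  · intro h
    exact Subgroup.subset_closure h

end Extender

section Factor

variable {Ω Ω' : Type*} [Group Ω] [Group Ω'] {S : Subgroup Ω}

/-- `β` is the automorphism of `Q'` induced along `θ` by the automorphism `a` of the full
preimage of `Q'`. -/
def IsIndAut (θ : S →* Ω') {Q' : Subgroup Ω'} (a : MulAut ↥(preimageAlong θ Q'))
    (β : MulAut Q') : Prop :=
  ∀ x : preimageAlong θ Q',
    ((β ⟨θ ⟨x, preimageAlong_le θ Q' x.2⟩, preimageAlong_map_mem θ Q' x⟩ : Q') : Ω') =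
      θ ⟨(a x : preimageAlong θ Q'), preimageAlong_le θ Q' (a x).2⟩

theorem isIndAut_iff_inducedAlong (θ : S →* Ω') {Q' : Subgroup Ω'}
    (a : MulAut ↥(preimageAlong θ Q')) (β : MulAut Q') :
    IsIndAut θ a β ↔ InducedAlong θ (autHom a) (autHom β) := by
  constructor
  · intro h
    exact ⟨preimageAlong_le θ Q', fun x => preimageAlong_le θ Q' (a x).2,
      fun x => preimageAlong_map_mem θ Q' x, fun x => h x⟩
  · intro h x
    exact inducedAlong_apply θ h x _ _ _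

theorem isIndAut_unique (θ : S →* Ω') {S' : Subgroup Ω'} (hrange : θ.range = S')
    {Q' : Subgroup Ω'} (hQ' : Q' ≤ S') {a : MulAut ↥(preimageAlong θ Q')} {β β' : MulAut Q'}
    (h : IsIndAut θ a β) (h' : IsIndAut θ a β') : β = β' := by
  ext y
  obtain ⟨x, hx⟩ := exists_preimageAlong θ hrange hQ' y
  have e : y = ⟨θ ⟨x, preimageAlong_le θ Q' x.2⟩, preimageAlong_map_mem θ Q' x⟩ :=
    Subtype.ext hx.symm
  rw [e, h x, h' x]

theorem isIndAut_one (θ : S →* Ω') {Q' : Subgroup Ω'} :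
    IsIndAut θ (1 : MulAut ↥(preimageAlong θ Q')) (1 : MulAut Q') := by
  intro x
  rfl

theorem isIndAut_mul (θ : S →* Ω') {Q' : Subgroup Ω'} {a a₂ : MulAut ↥(preimageAlong θ Q')}
    {β β₂ : MulAut Q'} (h : IsIndAut θ a β) (h₂ : IsIndAut θ a₂ β₂) :
    IsIndAut θ (a * a₂) (β * β₂) := by
  intro x
  have e : β₂ ⟨θ ⟨x, preimageAlong_le θ Q' x.2⟩, preimageAlong_map_mem θ Q' x⟩ =
      ⟨θ ⟨(a₂ x : preimageAlong θ Q'), preimageAlong_le θ Q' (a₂ x).2⟩,
        preimageAlong_map_mem θ Q' (a₂ x)⟩ := Subtype.ext (h₂ x)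
  show ((β (β₂ ⟨θ ⟨x, preimageAlong_le θ Q' x.2⟩, preimageAlong_map_mem θ Q' x⟩) : Q') : Ω') =
    θ ⟨(a (a₂ x) : preimageAlong θ Q'), preimageAlong_le θ Q' (a (a₂ x)).2⟩
  rw [e, h (a₂ x)]

variable [Finite S] (F : FusionSystem S) {T : Subgroup Ω} (hT : F.StronglyClosed T)
  (θ : S →* Ω') (hker : ∀ s : S, θ s = 1 ↔ (s : Ω) ∈ T) {S' : Subgroup Ω'}
  (hrange : θ.range = S')

include hT hker hrange in
theorem exists_isIndAut {Q' : Subgroup Ω'} (hQ' : Q' ≤ S') {a : MulAut ↥(preimageAlong θ Q')}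
    (ha : autHom a ∈ F.Hom (preimageAlong θ Q')) : ∃ β : MulAut Q', IsIndAut θ a β := by
  obtain ⟨φ', hind⟩ := exists_inducedAlong F hT θ hker hrange hQ' ha
  have hmem : φ' ∈ (factorSystem F hT θ hker hrange).Hom Q' := ⟨hQ', _, ha, hind⟩
  have hinj := (factorSystem F hT θ hker hrange).injective_of_mem hmem
  have hspec : ∀ x : preimageAlong θ Q',
      φ' ⟨θ ⟨x, preimageAlong_le θ Q' x.2⟩, preimageAlong_map_mem θ Q' x⟩ =
        θ ⟨(a x : preimageAlong θ Q'), preimageAlong_le θ Q' (a x).2⟩ :=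
    fun x => inducedAlong_apply θ hind x _ _ _
  have hr : φ'.range = Q' := by
    ext z
    constructor
    · rintro ⟨y, rfl⟩
      obtain ⟨x, hx⟩ := exists_preimageAlong θ hrange hQ' y
      have e : y = ⟨θ ⟨x, preimageAlong_le θ Q' x.2⟩, preimageAlong_map_mem θ Q' x⟩ :=
        Subtype.ext hx.symm
      rw [e, hspec x]
      exact preimageAlong_map_mem θ Q' (a x)
    · intro hz
      obtain ⟨x, hx⟩ := exists_preimageAlong θ hrange hQ' ⟨z, hz⟩
      refine ⟨⟨θ ⟨(a.symm x : preimageAlong θ Q'), preimageAlong_le θ Q' (a.symm x).2⟩,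
        preimageAlong_map_mem θ Q' (a.symm x)⟩, ?_⟩
      rw [hspec (a.symm x)]
      have : a (a.symm x) = x := a.apply_symm_apply x
      have hx' : θ ⟨x, preimageAlong_le θ Q' x.2⟩ = z := hx
      rw [← hx']
      congr 1
      apply Subtype.ext
      rw [this]
  refine ⟨isoOfHom φ' hinj hr, fun x => ?_⟩
  rw [isoOfHom_coe]
  exact hspec x

/-- The homomorphism from `Aut_F` of a full preimage to the automorphisms of the image. -/
noncomputable def indAutHom {Q' : Subgroup Ω'} (hQ' : Q' ≤ S') :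
    ↥(F.autGroup (preimageAlong θ Q')) →* MulAut Q' :=
  MonoidHom.mk' (fun a => Classical.choose (exists_isIndAut F hT θ hker hrange hQ'
      ((mem_autGroup_iff F (preimageAlong_le θ Q') a.1).mp a.2)))
    (by
      intro a b
      have ha := Classical.choose_spec (exists_isIndAut F hT θ hker hrange hQ'
        ((mem_autGroup_iff F (preimageAlong_le θ Q') a.1).mp a.2))
      have hb := Classical.choose_spec (exists_isIndAut F hT θ hker hrange hQ'
        ((mem_autGroup_iff F (preimageAlong_le θ Q') b.1).mp b.2))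
      have hab := Classical.choose_spec (exists_isIndAut F hT θ hker hrange hQ'
        ((mem_autGroup_iff F (preimageAlong_le θ Q') (a * b).1).mp (a * b).2))
      exact isIndAut_unique θ hrange hQ' hab (isIndAut_mul θ ha hb))

theorem indAutHom_spec {Q' : Subgroup Ω'} (hQ' : Q' ≤ S')
    (a : ↥(F.autGroup (preimageAlong θ Q'))) :
    IsIndAut θ a.1 (indAutHom F hT θ hker hrange hQ' a) :=
  Classical.choose_spec (exists_isIndAut F hT θ hker hrange hQ'
    ((mem_autGroup_iff F (preimageAlong_le θ Q') a.1).mp a.2))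

theorem indAutHom_eq {Q' : Subgroup Ω'} (hQ' : Q' ≤ S')
    (a : ↥(F.autGroup (preimageAlong θ Q'))) {β : MulAut Q'} (h : IsIndAut θ a.1 β) :
    indAutHom F hT θ hker hrange hQ' a = β :=
  isIndAut_unique θ hrange hQ' (indAutHom_spec F hT θ hker hrange hQ' a) h

theorem indAutHom_ker {Q' : Subgroup Ω'} (hQ' : Q' ≤ S')
    (a : ↥(F.autGroup (preimageAlong θ Q'))) (h : indAutHom F hT θ hker hrange hQ' a = 1)
    (x : preimageAlong θ Q') :
    θ ⟨(a.1 x : preimageAlong θ Q'), preimageAlong_le θ Q' (a.1 x).2⟩ =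
      θ ⟨x, preimageAlong_le θ Q' x.2⟩ := by
  have h1 := indAutHom_spec F hT θ hker hrange hQ' a x
  rw [h] at h1
  exact h1.symm

theorem indAutHom_autInducedBy {Q' : Subgroup Ω'} (hQ' : Q' ≤ S')
    (a : ↥(F.autGroup (preimageAlong θ Q'))) (ha : a.1 ∈ autInducedBy S (preimageAlong θ Q')) :
    indAutHom F hT θ hker hrange hQ' a ∈ autInducedBy S' Q' := by
  obtain ⟨g, hgS, hg⟩ := (mem_autInducedBy_iff S _ a.1).mp ha
  refine (mem_autInducedBy_iff S' Q' _).mpr ⟨θ ⟨g, hgS⟩, by rw [← hrange]; exact ⟨_, rfl⟩, ?_⟩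
  intro y
  obtain ⟨x, hx⟩ := exists_preimageAlong θ hrange hQ' y
  have e : y = ⟨θ ⟨x, preimageAlong_le θ Q' x.2⟩, preimageAlong_map_mem θ Q' x⟩ :=
    Subtype.ext hx.symm
  rw [e, indAutHom_spec F hT θ hker hrange hQ' a x]
  have e2 : (⟨(a.1 x : preimageAlong θ Q'), preimageAlong_le θ Q' (a.1 x).2⟩ : S) =
      ⟨g, hgS⟩ * ⟨x, preimageAlong_le θ Q' x.2⟩ * ⟨g, hgS⟩⁻¹ := Subtype.ext (hg x)
  rw [e2, map_mul, map_mul, map_inv]

theorem indAutHom_autInducedBy_surj {Q' : Subgroup Ω'} (hQ' : Q' ≤ S')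
    {β : MulAut Q'} (hβ : β ∈ autInducedBy S' Q') :
    ∃ a : ↥(F.autGroup (preimageAlong θ Q')), a.1 ∈ autInducedBy S (preimageAlong θ Q') ∧
      indAutHom F hT θ hker hrange hQ' a = β := by
  obtain ⟨g', hg'S, hg'⟩ := (mem_autInducedBy_iff S' Q' β).mp hβ
  have hg'r : g' ∈ θ.range := by rw [hrange]; exact hg'S
  obtain ⟨g, rfl⟩ := hg'r
  have hconj : ∀ (β₀ : MulAut Q') (g₀ : S), (∀ y : Q', ((β₀ y : Q') : Ω') = θ g₀ * y * (θ g₀)⁻¹) →
      ∀ x ∈ preimageAlong θ Q', (g₀ : Ω) * x * (g₀ : Ω)⁻¹ ∈ preimageAlong θ Q' := by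
    intro β₀ g₀ hβ₀ x hx
    have hxS := preimageAlong_le θ Q' hx
    refine (mem_preimageAlong _ _ _).mpr ⟨S.mul_mem (S.mul_mem g₀.2 hxS) (S.inv_mem g₀.2), ?_⟩
    have e : (⟨(g₀ : Ω) * x * (g₀ : Ω)⁻¹, S.mul_mem (S.mul_mem g₀.2 hxS) (S.inv_mem g₀.2)⟩ : S) =
        g₀ * ⟨x, hxS⟩ * g₀⁻¹ := Subtype.ext rfl
    rw [e, map_mul, map_mul, map_inv]
    have := hβ₀ ⟨θ ⟨x, hxS⟩, preimageAlong_map_mem θ Q' ⟨x, hx⟩⟩
    rw [← this]
    exact (β₀ _).2
  have hgN : (g : Ω) ∈ Subgroup.normalizer ((preimageAlong θ Q' : Subgroup Ω) : Set Ω) := by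
    rw [Subgroup.mem_normalizer_iff]
    intro x
    constructor
    · exact hconj β g hg' x
    · intro hx
      have hinv : ∀ y : Q', ((β⁻¹ y : Q') : Ω') = θ g⁻¹ * y * (θ g⁻¹)⁻¹ := by
        intro y
        have h1 := hg' (β⁻¹ y)
        rw [MulAut.apply_inv_self] at h1
        rw [map_inv, h1]
        group
      have h2 := hconj β⁻¹ g⁻¹ hinv _ hx
      have e : ((g⁻¹ : S) : Ω) * ((g : Ω) * x * (g : Ω)⁻¹) * ((g⁻¹ : S) : Ω)⁻¹ = x := by
        simp [mul_assoc]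
      rwa [e] at h2
  have haS : (preimageAlong θ Q').normalizerMonoidHom ⟨g, hgN⟩ ∈
      autInducedBy S (preimageAlong θ Q') :=
    (mem_autInducedBy_iff S _ _).mpr ⟨g, g.2, fun x => rfl⟩
  refine ⟨⟨_, autInducedBy_le_autGroup F (preimageAlong_le θ Q') haS⟩, haS, ?_⟩
  apply indAutHom_eq
  intro x
  rw [hg']
  have e2 : (⟨(((preimageAlong θ Q').normalizerMonoidHom ⟨g, hgN⟩) x : preimageAlong θ Q'),
      preimageAlong_le θ Q' (((preimageAlong θ Q').normalizerMonoidHom ⟨g, hgN⟩) x).2⟩ : S) =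
      g * ⟨x, preimageAlong_le θ Q' x.2⟩ * g⁻¹ := Subtype.ext rfl
  rw [e2, map_mul, map_mul, map_inv]

omit [Finite S] in
theorem mem_normalizer_preimageAlong (P' : Subgroup Ω') (g : S)
    (hg : θ g ∈ Subgroup.normalizer (P' : Set Ω')) :
    (g : Ω) ∈ Subgroup.normalizer ((preimageAlong θ P' : Subgroup Ω) : Set Ω) := by
  have key : ∀ g₀ : S, θ g₀ ∈ Subgroup.normalizer (P' : Set Ω') →
      ∀ x ∈ preimageAlong θ P', (g₀ : Ω) * x * (g₀ : Ω)⁻¹ ∈ preimageAlong θ P' := by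
    intro g₀ hg₀ x hx
    have hxS := preimageAlong_le θ P' hx
    refine (mem_preimageAlong _ _ _).mpr ⟨S.mul_mem (S.mul_mem g₀.2 hxS) (S.inv_mem g₀.2), ?_⟩
    have e : (⟨(g₀ : Ω) * x * (g₀ : Ω)⁻¹, S.mul_mem (S.mul_mem g₀.2 hxS) (S.inv_mem g₀.2)⟩ : S) =
        g₀ * ⟨x, hxS⟩ * g₀⁻¹ := Subtype.ext rfl
    rw [e, map_mul, map_mul, map_inv]
    exact (Subgroup.mem_normalizer_iff.mp hg₀ _).mp (preimageAlong_map_mem θ P' ⟨x, hx⟩)
  rw [Subgroup.mem_normalizer_iff]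
  intro x
  constructor
  · exact key g hg x
  · intro hx
    have h2 := key g⁻¹ (by rw [map_inv]; exact Subgroup.inv_mem _ hg) _ hx
    have e : ((g⁻¹ : S) : Ω) * ((g : Ω) * x * (g : Ω)⁻¹) * ((g⁻¹ : S) : Ω)⁻¹ = x := by
      simp [mul_assoc]
    rwa [e] at h2

include hT hker hrange in
/-- The range of a map on a full preimage is the full preimage of the range of the induced map. -/
theorem range_eq_preimageAlong {R' : Subgroup Ω'} (hR' : R' ≤ S')
    {ψ : ↥(preimageAlong θ R') →* Ω} (hψ : ψ ∈ F.Hom (preimageAlong θ R')) {ψ' : R' →* Ω'}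
    (hind : InducedAlong θ ψ ψ') : ψ.range = preimageAlong θ ψ'.range := by
  have hψS : ∀ x : preimageAlong θ R', ψ x ∈ S := (F.le_of_mem hψ).2
  have hspec : ∀ x : preimageAlong θ R',
      ψ' ⟨θ ⟨x, preimageAlong_le θ R' x.2⟩, preimageAlong_map_mem θ R' x⟩ = θ ⟨ψ x, hψS x⟩ :=
    fun x => inducedAlong_apply θ hind x _ _ _
  have hTR : T ≤ preimageAlong θ R' := ker_le_preimageAlong θ hT.1 hker R'
  obtain ⟨-, hA2⟩ := stronglyClosed_mem_iff F hT hTR hψ
  apply le_antisymm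
  · rintro _ ⟨x, rfl⟩
    refine (mem_preimageAlong _ _ _).mpr ⟨hψS x, ?_⟩
    rw [← hspec x]
    exact ⟨_, rfl⟩
  · intro y hy
    obtain ⟨hyS, z, hz⟩ := (mem_preimageAlong _ _ _).mp hy
    obtain ⟨x, hx⟩ := exists_preimageAlong θ hrange hR' z
    have e : z = ⟨θ ⟨x, preimageAlong_le θ R' x.2⟩, preimageAlong_map_mem θ R' x⟩ :=
      Subtype.ext hx.symm
    rw [e, hspec x] at hz
    have h3 : θ (⟨ψ x, hψS x⟩⁻¹ * ⟨y, hyS⟩) = 1 := by
      rw [map_mul, map_inv, hz, inv_mul_cancel]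
    have h4 : (ψ x)⁻¹ * y ∈ T := (hker _).mp h3
    obtain ⟨t, -, ht⟩ := hA2 _ h4
    refine ⟨x * t, ?_⟩
    rw [map_mul, ht, mul_inv_cancel_left]

variable (E : FusionSystem S')
  (hiff : ∀ (P' : Subgroup Ω') (φ' : P' →* Ω'),
    φ' ∈ E.Hom P' ↔ P' ≤ S' ∧ ∃ φ ∈ F.Hom (preimageAlong θ P'), InducedAlong θ φ φ')

include hiff in
theorem indAutHom_mem {Q' : Subgroup Ω'} (hQ' : Q' ≤ S')
    (a : ↥(F.autGroup (preimageAlong θ Q'))) :
    indAutHom F hT θ hker hrange hQ' a ∈ E.autGroup Q' := by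
  rw [mem_autGroup_iff E hQ']
  exact (hiff _ _).mpr ⟨hQ', autHom a.1, (mem_autGroup_iff F (preimageAlong_le θ Q') a.1).mp a.2,
    (isIndAut_iff_inducedAlong θ _ _).mp (indAutHom_spec F hT θ hker hrange hQ' a)⟩

include hiff in
theorem indAutHom_surj {Q' : Subgroup Ω'} (hQ' : Q' ≤ S') {β : MulAut Q'}
    (hβ : β ∈ E.autGroup Q') :
    ∃ a : ↥(F.autGroup (preimageAlong θ Q')), indAutHom F hT θ hker hrange hQ' a = β := by
  rw [mem_autGroup_iff E hQ'] at hβ
  obtain ⟨-, φ, hφ, hind⟩ := (hiff _ _).mp hβ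
  have hfin : Finite ↥(preimageAlong θ Q') := finite_of_le (preimageAlong_le θ Q')
  have hφS : ∀ x, φ x ∈ S := (F.le_of_mem hφ).2
  have hspec : ∀ x : preimageAlong θ Q',
      ((β ⟨θ ⟨x, preimageAlong_le θ Q' x.2⟩, preimageAlong_map_mem θ Q' x⟩ : Q') : Ω') =
        θ ⟨φ x, hφS x⟩ := fun x => inducedAlong_apply θ hind x _ _ _
  have hinj := F.injective_of_mem hφ
  have hle : φ.range ≤ preimageAlong θ Q' := by
    rintro _ ⟨x, rfl⟩
    refine (mem_preimageAlong _ _ _).mpr ⟨hφS x, ?_⟩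
    rw [← hspec x]
    exact (β _).2
  have hr : φ.range = preimageAlong θ Q' := by
    apply Subgroup.eq_of_le_of_card_ge hle
    exact (Nat.card_congr (MonoidHom.ofInjective hinj).toEquiv).le
  have ha : autHom (isoOfHom φ hinj hr) = φ := by
    ext x
    rfl
  have haF : isoOfHom φ hinj hr ∈ F.autGroup (preimageAlong θ Q') := by
    rw [mem_autGroup_iff F (preimageAlong_le θ Q'), ha]
    exact hφ
  refine ⟨⟨_, haF⟩, ?_⟩
  apply indAutHom_eq
  intro x
  rw [hspec x]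
  rfl

include hT hker hrange hiff in
theorem factor_isFullyAutomized (p : ℕ) [Fact p.Prime] {Q' : Subgroup Ω'} (hQ' : Q' ≤ S')
    (hFA : F.IsFullyAutomized p (preimageAlong θ Q')) : E.IsFullyAutomized p Q' := by
  obtain ⟨R, hR⟩ := hFA.2
  refine ⟨hQ', ?_⟩
  have hfinQ : Finite ↥(preimageAlong θ Q') := finite_of_le (preimageAlong_le θ Q')
  have hfinA : Finite (MulAut ↥(preimageAlong θ Q')) :=
    Finite.of_injective (fun e : MulAut ↥(preimageAlong θ Q') => (e : _ → _))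
      (fun a b h => DFunLike.coe_injective h)
  let Φ : ↥(F.autGroup (preimageAlong θ Q')) →* ↥(E.autGroup Q') :=
    (indAutHom F hT θ hker hrange hQ').codRestrict _
      (indAutHom_mem F hT θ hker hrange E hiff hQ')
  have hΦ : Function.Surjective Φ := by
    rintro ⟨β, hβ⟩
    obtain ⟨a, ha⟩ := indAutHom_surj F hT θ hker hrange E hiff hQ' hβ
    exact ⟨a, Subtype.ext ha⟩
  refine ⟨R.mapSurjective hΦ, ?_⟩
  rw [Sylow.coe_mapSurjective, hR]
  ext β
  constructor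
  · rintro ⟨a, ha, rfl⟩
    exact indAutHom_autInducedBy F hT θ hker hrange hQ' a ha
  · intro hβ
    obtain ⟨a, haS, ha⟩ := indAutHom_autInducedBy_surj F hT θ hker hrange hQ' hβ
    exact ⟨a, haS, Subtype.ext ha⟩

include hT hker hrange hiff in
theorem factor_isReceptive (p : ℕ) [Fact p.Prime] (hS : IsPGroup p S) {Q' : Subgroup Ω'}
    (hQ' : Q' ≤ S') (hFA : F.IsFullyAutomized p (preimageAlong θ Q'))
    (hrec : F.IsReceptive (preimageAlong θ Q')) : E.IsReceptive Q' := by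
  refine ⟨hQ', ?_⟩
  intro R' ψ' hψ' hψ'r
  have hR'S : R' ≤ S' := (E.le_of_mem hψ').1
  obtain ⟨-, ψ, hψ, hind⟩ := (hiff _ _).mp hψ'
  have hRS : preimageAlong θ R' ≤ S := preimageAlong_le θ R'
  have hQS : preimageAlong θ Q' ≤ S := preimageAlong_le θ Q'
  have hψS : ∀ x : preimageAlong θ R', ψ x ∈ S := (F.le_of_mem hψ).2
  have hspec : ∀ x : preimageAlong θ R',
      ψ' ⟨θ ⟨x, preimageAlong_le θ R' x.2⟩, preimageAlong_map_mem θ R' x⟩ = θ ⟨ψ x, hψS x⟩ :=
    fun x => inducedAlong_apply θ hind x _ _ _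
  have hψr : ψ.range = preimageAlong θ Q' := by
    rw [range_eq_preimageAlong F hT θ hker hrange hR'S hψ hind, hψ'r]
  have hinj := F.injective_of_mem hψ
  have hθ : ∀ (a b : Ω) (ha : a ∈ S) (hb : b ∈ S), a = b → θ ⟨a, ha⟩ = θ ⟨b, hb⟩ := by
    intro a b ha hb hab
    subst hab
    rfl
  -- the subgroup N
  have hN'S : extender S' R' ψ' ≤ S' := (extender_le_normalizerIn R' ψ').trans inf_le_left
  have hNS : preimageAlong θ (extender S' R' ψ') ≤ S := preimageAlong_le θ _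
  have hNnorm : preimageAlong θ (extender S' R' ψ') ≤
      Subgroup.normalizer ((preimageAlong θ R' : Subgroup Ω) : Set Ω) := by
    intro g hg
    obtain ⟨hgS, hg'⟩ := (mem_preimageAlong _ _ _).mp hg
    exact mem_normalizer_preimageAlong θ R' ⟨g, hgS⟩ ((extender_le_normalizerIn R' ψ') hg').2
  -- the isomorphism e attached to ψ
  obtain ⟨e, he, hcongr⟩ : ∃ e : ↥(preimageAlong θ R') ≃* ↥(preimageAlong θ Q'),
      (∀ x, ((e x : preimageAlong θ Q') : Ω) = ψ x) ∧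
      (∀ α ∈ F.autGroup (preimageAlong θ R'),
        MulAut.congr e α ∈ F.autGroup (preimageAlong θ Q')) :=
    ⟨isoOfHom ψ hinj hψr, fun x => rfl, fun α hα => congr_mem_autGroup F hψ hψr hα⟩
  have hγact : ∀ (n : Subgroup.normalizer ((preimageAlong θ R' : Subgroup Ω) : Set Ω))
      (x : preimageAlong θ R'),
      (MulAut.congr e) ((preimageAlong θ R').normalizerMonoidHom n) (e x) =
        e ((preimageAlong θ R').normalizerMonoidHom n x) := by
    intro n x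
    simp [MulAut.congr]
  have hcnA : ∀ n : Subgroup.normalizer ((preimageAlong θ R' : Subgroup Ω) : Set Ω),
      (n : Ω) ∈ S → (preimageAlong θ R').normalizerMonoidHom n ∈ F.autGroup (preimageAlong θ R') :=
    fun n hn => autInducedBy_le_autGroup F hRS
      ((mem_autInducedBy_iff S _ _).mpr ⟨n, hn, fun x => rfl⟩)
  -- the p-subgroup X of Aut_F(Q)
  obtain ⟨X, hXdef⟩ : ∃ X : Subgroup (MulAut ↥(preimageAlong θ Q')), X =
      (((preimageAlong θ (extender S' R' ψ')).subgroupOf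
      (Subgroup.normalizer ((preimageAlong θ R' : Subgroup Ω) : Set Ω))).map
      (preimageAlong θ R').normalizerMonoidHom).map (MulAut.congr e).toMonoidHom := ⟨_, rfl⟩
  have hXmem : ∀ u : MulAut ↥(preimageAlong θ Q'), u ∈ X ↔
      ∃ n : Subgroup.normalizer ((preimageAlong θ R' : Subgroup Ω) : Set Ω),
        (n : Ω) ∈ preimageAlong θ (extender S' R' ψ') ∧
        (MulAut.congr e) ((preimageAlong θ R').normalizerMonoidHom n) = u := by
    intro u
    rw [hXdef]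
    constructor
    · rintro ⟨_, ⟨n, hn, rfl⟩, rfl⟩
      exact ⟨n, hn, rfl⟩
    · rintro ⟨n, hn, rfl⟩
      exact ⟨_, ⟨n, hn, rfl⟩, rfl⟩
  have hXA : X ≤ F.autGroup (preimageAlong θ Q') := by
    intro u hu
    obtain ⟨n, hn, rfl⟩ := (hXmem u).mp hu
    exact hcongr _ (hcnA n (hNS hn))
  have hXp : IsPGroup p ↥X := by
    rw [hXdef]
    exact (((isPGroup_of_le hS hNS).comap_subtype).map _).map _
  obtain ⟨Rs, hRs⟩ := hFA.2
  have hfinQ : Finite ↥(preimageAlong θ Q') := finite_of_le hQS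
  have hfinA : Finite (MulAut ↥(preimageAlong θ Q')) :=
    Finite.of_injective (fun e : MulAut ↥(preimageAlong θ Q') => (e : _ → _))
      (fun a b h => DFunLike.coe_injective h)
  have hX'p : IsPGroup p ↥(X.subgroupOf (F.autGroup (preimageAlong θ Q'))) := hXp.comap_subtype
  -- X ≤ Aut_S(Q) · ker Φ
  have hX'K : X.subgroupOf (F.autGroup (preimageAlong θ Q')) ≤
      (Rs : Subgroup ↥(F.autGroup (preimageAlong θ Q'))) ⊔
        (indAutHom F hT θ hker hrange hQ').ker := by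
    intro u hu
    obtain ⟨n, hn, hnu⟩ := (hXmem u.1).mp hu
    obtain ⟨hnS, hg'N⟩ := (mem_preimageAlong _ _ _).mp hn
    obtain ⟨-, hg'norm, h', hh'S, hh'⟩ := (mem_extender_iff R' ψ' _).mp hg'N
    have hΦu : indAutHom F hT θ hker hrange hQ' u ∈ autInducedBy S' Q' := by
      refine (mem_autInducedBy_iff S' Q' _).mpr ⟨h', hh'S, ?_⟩
      intro y
      obtain ⟨q, hq⟩ := exists_preimageAlong θ hrange hQ' y
      have ey : y = ⟨θ ⟨q, preimageAlong_le θ Q' q.2⟩, preimageAlong_map_mem θ Q' q⟩ :=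
        Subtype.ext hq.symm
      rw [ey, indAutHom_spec F hT θ hker hrange hQ' u q]
      show θ ⟨(u.1 q : preimageAlong θ Q'), _⟩ = h' * θ ⟨q, _⟩ * h'⁻¹
      have hqe : e (e.symm q) = q := e.apply_symm_apply q
      have h1 : ((u.1 q : preimageAlong θ Q') : Ω) =
          ψ ((preimageAlong θ R').normalizerMonoidHom n (e.symm q)) := by
        rw [← hnu, ← he]
        congr 1
      have h2 : (q : Ω) = ψ (e.symm q) := by rw [← he, hqe]
      rw [hθ _ _ _ (hψS _) h1, hθ _ _ _ (hψS _) h2, ← hspec, ← hspec]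
      have hz : θ ⟨n, hnS⟩ * ((⟨θ ⟨(e.symm q : preimageAlong θ R'),
          preimageAlong_le θ R' (e.symm q).2⟩, preimageAlong_map_mem θ R' (e.symm q)⟩ : R') : Ω') *
          (θ ⟨n, hnS⟩)⁻¹ ∈ R' :=
        (Subgroup.mem_normalizer_iff.mp hg'norm _).mp (preimageAlong_map_mem θ R' (e.symm q))
      have h3 := hh' ⟨θ ⟨(e.symm q : preimageAlong θ R'),
          preimageAlong_le θ R' (e.symm q).2⟩, preimageAlong_map_mem θ R' (e.symm q)⟩ hz
      rw [← h3]
      congr 1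
      apply Subtype.ext
      show θ ⟨((preimageAlong θ R').normalizerMonoidHom n (e.symm q) : preimageAlong θ R'), _⟩ =
        θ ⟨n, hnS⟩ * θ ⟨(e.symm q : preimageAlong θ R'), _⟩ * (θ ⟨n, hnS⟩)⁻¹
      rw [← map_inv, ← map_mul, ← map_mul]
      exact hθ _ _ _ _ rfl
    obtain ⟨r, hrS, hr⟩ := indAutHom_autInducedBy_surj F hT θ hker hrange hQ' hΦu
    have hrRs : r ∈ (Rs : Subgroup ↥(F.autGroup (preimageAlong θ Q'))) := by
      rw [hRs]
      exact hrS
    have hk : r⁻¹ * u ∈ (indAutHom F hT θ hker hrange hQ').ker := by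
      rw [MonoidHom.mem_ker, map_mul, map_inv, hr, inv_mul_cancel]
    have e3 : u = r * (r⁻¹ * u) := by group
    rw [e3]
    exact Subgroup.mul_mem _ (Subgroup.mem_sup_left hrRs) (Subgroup.mem_sup_right hk)
  obtain ⟨κ, hκK, hκ⟩ := exists_mem_normal_conj_mem p Rs (indAutHom F hT θ hker hrange hQ').ker
    hX'p hX'K
  have hκker := indAutHom_ker F hT θ hker hrange hQ' κ (MonoidHom.mem_ker.mp hκK)
  have hκF : autHom κ.1 ∈ F.Hom (preimageAlong θ Q') := (mem_autGroup_iff F hQS κ.1).mp κ.2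
  -- the modified map ψ₂ = κ ∘ ψ
  obtain ⟨ψ₂, hψ₂def⟩ : ∃ ψ₂ : ↥(preimageAlong θ R') →* Ω, ψ₂ = (autHom κ.1).comp e.toMonoidHom :=
    ⟨_, rfl⟩
  have hψ₂app : ∀ x, ψ₂ x = ((κ.1 (e x) : preimageAlong θ Q') : Ω) := by
    intro x
    rw [hψ₂def]
    rfl
  have hψ₂ : ψ₂ ∈ F.Hom (preimageAlong θ R') := by
    refine comp_mem' F hψ hκF (fun x => by rw [← he]; exact (e x).2) (fun x => ?_)
    rw [hψ₂app]
    show ((κ.1 (e x) : preimageAlong θ Q') : Ω) = ((κ.1 ⟨ψ x, _⟩ : preimageAlong θ Q') : Ω)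
    congr 2
    exact Subtype.ext (he x)
  have hψ₂r : ψ₂.range = preimageAlong θ Q' := by
    ext q
    constructor
    · rintro ⟨x, rfl⟩
      rw [hψ₂app]
      exact (κ.1 (e x)).2
    · intro hq
      refine ⟨e.symm (κ.1.symm ⟨q, hq⟩), ?_⟩
      rw [hψ₂app]
      simp
  have hNext : preimageAlong θ (extender S' R' ψ') ≤ extender S (preimageAlong θ R') ψ₂ := by
    intro g hgN
    have hgS := hNS hgN
    have hgnorm := hNnorm hgN
    rw [mem_extender_iff]
    refine ⟨hgS, hgnorm, ?_⟩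
    have huX : (MulAut.congr e) ((preimageAlong θ R').normalizerMonoidHom ⟨g, hgnorm⟩) ∈ X :=
      (hXmem _).mpr ⟨⟨g, hgnorm⟩, hgN, rfl⟩
    have h1 := hκ ⟨_, hXA huX⟩ huX
    rw [hRs, Subgroup.mem_subgroupOf] at h1
    obtain ⟨h, hhS, hh⟩ := (mem_autInducedBy_iff S _ _).mp h1
    refine ⟨h, hhS, fun x hx => ?_⟩
    have h2 := hh (κ.1 (e x))
    rw [hψ₂app, hψ₂app, ← h2]
    congr 1
    show κ.1 (e ⟨g * (x : Ω) * g⁻¹, hx⟩) =
      κ.1 ((MulAut.congr e) ((preimageAlong θ R').normalizerMonoidHom ⟨g, hgnorm⟩)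
        (κ.1⁻¹ (κ.1 (e x))))
    rw [MulAut.inv_apply_self, hγact]
    rfl
  obtain ⟨χ, hχ, hχext⟩ := hrec.2 _ ψ₂ hψ₂ hψ₂r
  have hχN := restrict_mem F hNext hχ
  obtain ⟨χ', hindχ⟩ := exists_inducedAlong F hT θ hker hrange hN'S hχN
  refine ⟨χ', (hiff _ _).mpr ⟨hN'S, _, hχN, hindχ⟩, ?_⟩
  intro y hyR' hyN'
  obtain ⟨x, hx⟩ := exists_preimageAlong θ hrange hR'S ⟨y, hyR'⟩
  have hx' : θ ⟨x, preimageAlong_le θ R' x.2⟩ = y := hx
  have hxN : (x : Ω) ∈ preimageAlong θ (extender S' R' ψ') :=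
    (mem_preimageAlong _ _ _).mpr ⟨preimageAlong_le θ R' x.2, by rw [hx']; exact hyN'⟩
  have h1 := inducedAlong_apply θ hindχ ⟨x, hxN⟩ (preimageAlong_le θ R' x.2)
    (by rw [hx']; exact hyN') ((F.le_of_mem hχN).2 _)
  have ey : (⟨y, hyN'⟩ : extender S' R' ψ') =
      ⟨θ ⟨x, preimageAlong_le θ R' x.2⟩, by rw [hx']; exact hyN'⟩ := Subtype.ext hx'.symm
  have ey' : (⟨y, hyR'⟩ : R') =
      ⟨θ ⟨x, preimageAlong_le θ R' x.2⟩, preimageAlong_map_mem θ R' x⟩ := Subtype.ext hx'.symm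
  rw [ey, ey', h1, hspec x]
  have h2 : (χ.comp (Subgroup.inclusion hNext)) ⟨x, hxN⟩ = ψ₂ x := hχext x x.2 (hNext hxN)
  have h3 := hκker (e x)
  rw [hθ _ _ _ (hQS (κ.1 (e x)).2) (h2.trans (hψ₂app x)), h3]
  exact hθ _ _ _ _ (he x)

include hT hker hrange hiff in
/-- The factor system of a saturated system is saturated. -/
theorem factor_isSaturated (p : ℕ) [Fact p.Prime] (hS : IsPGroup p S) (hF : F.IsSaturated p) :
    E.IsSaturated p := by
  intro P' hP'
  obtain ⟨Q, ⟨φ, hφ, hφr⟩, hFA, hrec⟩ := hF (preimageAlong θ P') (preimageAlong_le θ P')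
  have hQS : Q ≤ S := hFA.1
  have hTP : T ≤ preimageAlong θ P' := ker_le_preimageAlong θ hT.1 hker P'
  have hTQ : T ≤ Q := by
    intro y hy
    obtain ⟨x, -, hx⟩ := (stronglyClosed_mem_iff F hT hTP hφ).2 y hy
    rw [← hφr]
    exact ⟨x, hx⟩
  have hpre : preimageAlong θ (imageAlong θ Q) = Q := by
    rw [preimageAlong_imageAlong θ hT.1 hker hQS]
    exact sup_of_le_left hTQ
  have hQ'S : imageAlong θ Q ≤ S' := by
    rintro _ ⟨x, -, rfl⟩
    rw [← hrange]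
    exact ⟨x, rfl⟩
  refine ⟨imageAlong θ Q, ?_, ?_, ?_⟩
  · obtain ⟨φ', hind⟩ := exists_inducedAlong F hT θ hker hrange hP' hφ
    refine ⟨φ', (hiff _ _).mpr ⟨hP', φ, hφ, hind⟩, ?_⟩
    have hφS := (F.le_of_mem hφ).2
    have hspec : ∀ x : preimageAlong θ P',
        φ' ⟨θ ⟨x, preimageAlong_le θ P' x.2⟩, preimageAlong_map_mem θ P' x⟩ = θ ⟨φ x, hφS x⟩ :=
      fun x => inducedAlong_apply θ hind x _ _ _
    ext z
    constructor
    · rintro ⟨y, rfl⟩
      obtain ⟨x, hx⟩ := exists_preimageAlong θ hrange hP' y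
      have e : y = ⟨θ ⟨x, preimageAlong_le θ P' x.2⟩, preimageAlong_map_mem θ P' x⟩ :=
        Subtype.ext hx.symm
      rw [e, hspec x]
      refine ⟨⟨φ x, hφS x⟩, ?_, rfl⟩
      show φ x ∈ Q
      rw [← hφr]
      exact ⟨x, rfl⟩
    · rintro ⟨q, hq, rfl⟩
      have hq' : (q : Ω) ∈ φ.range := by
        rw [hφr]
        exact hq
      obtain ⟨x, hx⟩ := hq'
      refine ⟨⟨θ ⟨x, preimageAlong_le θ P' x.2⟩, preimageAlong_map_mem θ P' x⟩, ?_⟩
      rw [hspec x]
      congr 1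
      exact Subtype.ext hx
  · rw [← hpre] at hFA
    exact factor_isFullyAutomized F hT θ hker hrange E hiff p hQ'S hFA
  · rw [← hpre] at hFA hrec
    exact factor_isReceptive F hT θ hker hrange E hiff p hS hQ'S hFA hrec

end Factor

section Morphism

variable {Ω Ω' : Type*} [Group Ω] [Group Ω'] {S : Subgroup Ω}

/-- The kernel of a morphism of fusion systems is strongly closed. -/
theorem ker_stronglyClosed (F : FusionSystem S) {S' : Subgroup Ω'} (F' : FusionSystem S')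
    (α : S →* Ω') (hα : F.IsMorphism F' α) : F.StronglyClosed (α.ker.map S.subtype) := by
  refine ⟨Subgroup.map_subtype_le _, fun R hR φ hφ x => ?_⟩
  obtain ⟨φ', -, hRS, hφS, hR', hind⟩ := hα.2 R φ hφ
  have hx : α ⟨x, hRS x.2⟩ = 1 := by
    obtain ⟨k, hk, hkx⟩ := hR x.2
    have : (⟨x, hRS x.2⟩ : S) = k := Subtype.ext hkx.symm
    rw [this]
    exact hk
  have h1 := hind x
  have e : (⟨α ⟨x, hRS x.2⟩, hR' x⟩ : imageAlong α R) = 1 := Subtype.ext hx
  rw [e, map_one] at h1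
  exact ⟨⟨φ x, hφS x⟩, h1.symm, rfl⟩

/-- A surjective morphism presents its target as a factor system modulo its kernel. -/
theorem isFactorSystem_of_isSurjectiveMorphism (F : FusionSystem S) {S' : Subgroup Ω'}
    (F' : FusionSystem S') (α : S →* Ω') (hα : F.IsSurjectiveMorphism F' α) :
    F.IsFactorSystem (α.ker.map S.subtype) α F' := by
  obtain ⟨hmor, hrange, hsurj⟩ := hα
  refine ⟨Subgroup.map_subtype_le _, fun s => ?_, hrange, fun P' φ' => ?_⟩
  · constructor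
    · intro h
      exact ⟨s, h, rfl⟩
    · rintro ⟨k, hk, hks⟩
      have : s = k := Subtype.ext hks.symm
      rw [this]
      exact hk
  · constructor
    · intro h
      exact ⟨(F'.le_of_mem h).1, hsurj P' (F'.le_of_mem h).1 φ' h⟩
    · rintro ⟨hP', φ, hφ, hind⟩
      obtain ⟨φ'', hφ'', hind''⟩ := hmor.2 _ φ hφ
      have himg : imageAlong α (preimageAlong α P') = P' := by
        ext y
        constructor
        · rintro ⟨x, hx, rfl⟩
          exact preimageAlong_map_mem α P' ⟨x, hx⟩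
        · intro hy
          obtain ⟨x, hx⟩ := exists_preimageAlong α hrange hP' ⟨y, hy⟩
          exact ⟨⟨x, preimageAlong_le α P' x.2⟩, x.2, hx⟩
      have h1 := cast_mem F' himg.symm hφ''
      have e : φ' = φ''.comp (Subgroup.inclusion himg.symm.le) := by
        ext y
        obtain ⟨x, hx⟩ := exists_preimageAlong α hrange hP' y
        have ey : y = ⟨α ⟨x, preimageAlong_le α P' x.2⟩, preimageAlong_map_mem α P' x⟩ :=
          Subtype.ext hx.symm
        rw [ey, inducedAlong_apply α hind x (preimageAlong_le α P' x.2)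
          (preimageAlong_map_mem α P' x) ((F.le_of_mem hφ).2 x)]
        have h2 := inducedAlong_apply α hind'' x (preimageAlong_le α P' x.2)
          (⟨⟨x, preimageAlong_le α P' x.2⟩, x.2, rfl⟩) ((F.le_of_mem hφ).2 x)
        rw [← h2]
        rfl
      rw [e]
      exact h1

/-- The image of a saturated fusion system under a surjective morphism is saturated. -/
theorem isSaturated_of_isSurjectiveMorphism [Finite S] (p : ℕ) [Fact p.Prime]
    (hS : IsPGroup p S) (F : FusionSystem S) (hF : F.IsSaturated p) {S' : Subgroup Ω'}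
    (F' : FusionSystem S') (α : S →* Ω') (hα : F.IsSurjectiveMorphism F' α) :
    F'.IsSaturated p := by
  have hT := ker_stronglyClosed F F' α hα.1
  obtain ⟨-, hker, hrange, hiff⟩ := isFactorSystem_of_isSurjectiveMorphism F F' α hα
  exact factor_isSaturated F hT α hker hrange F' hiff p hS hF

end Morphism

end Cfsg.Agent.Helper25
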