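import Mathlib
import Cfsg.Agent.Helper25.FusionFactorSat
import Cfsg.Agent.S5089

set_option autoImplicit false

/-! Solvable fusion systems and chains of strongly closed subgroups with abelian quotients. -/

namespace Cfsg.Agent.Helper25

open Cfsg Cfsg.FusionSystem
open scoped commutatorElement

variable {Ω Ω' : Type*} [Group Ω] [Group Ω'] {S : Subgroup Ω} [Finite S]

theorem factor_finite_pgroup (p : ℕ) (hS : IsPGroup p S) (θ : S →* Ω') {S' : Subgroup Ω'}
    (hrange : θ.range = S') : Finite ↥S' ∧ IsPGroup p ↥S' := by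
  subst hrange
  exact ⟨Finite.of_surjective θ.rangeRestrict θ.rangeRestrict_surjective,
    hS.of_surjective θ.rangeRestrict θ.rangeRestrict_surjective⟩

/-- The full preimage of a subgroup strongly closed in the factor system is strongly closed. -/
theorem preimageAlong_stronglyClosed (p : ℕ) [Fact p.Prime] (hS : IsPGroup p S)
    (F : FusionSystem S) (hF : F.IsSaturated p) {R : Subgroup Ω} (hR : F.StronglyClosed R)
    {S' : Subgroup Ω'} (θ : S →* Ω') (E : FusionSystem S') (hE : F.IsFactorSystem R θ E)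
    {Q' : Subgroup Ω'} (hQ' : E.StronglyClosed Q') : F.StronglyClosed (preimageAlong θ Q') := by
  refine ⟨preimageAlong_le θ Q', ?_⟩
  intro P hP φ hφ x
  have hmor := (isSurjectiveMorphism_of_isFactorSystem p hS F hF hR θ E hE).1
  obtain ⟨φ', hφ', hPS, hφS, hP', hind⟩ := hmor.2 P φ hφ
  have hle : imageAlong θ P ≤ Q' := by
    rintro _ ⟨y, hy, rfl⟩
    exact preimageAlong_map_mem θ Q' ⟨y, hP hy⟩
  have h1 := hQ'.2 _ hle φ' hφ' ⟨θ ⟨x, hPS x.2⟩, hP' x⟩
  rw [hind x] at h1
  exact (mem_preimageAlong _ _ _).mpr ⟨hφS x, h1⟩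

/-- If the factor system modulo `R` has a nontrivial normal subgroup, there is a strictly larger
strongly closed subgroup with abelian quotient over `R`. -/
theorem exists_stronglyClosed_step (p : ℕ) [Fact p.Prime] (hS : IsPGroup p S)
    (F : FusionSystem S) (hF : F.IsSaturated p) {R : Subgroup Ω} (hR : F.StronglyClosed R)
    {S' : Subgroup Ω'} (θ : S →* Ω') (E : FusionSystem S') (hE : F.IsFactorSystem R θ E)
    (hcore : E.core ≠ ⊥) :
    ∃ R₁ : Subgroup Ω, F.StronglyClosed R₁ ∧ R ≤ R₁ ∧ R ≠ R₁ ∧ ⁅R₁, R₁⁆ ≤ R := by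
  have hE' := hE
  obtain ⟨hRS, hker, hrange, hiff⟩ := hE
  obtain ⟨hfinS', hS'p⟩ := factor_finite_pgroup p hS θ hrange
  have hEsat := factor_isSaturated F hR θ hker hrange E hiff p hS hF
  obtain ⟨Q', hQ'ne, hQ'c, hQ'sc⟩ := (Cfsg.Agent.S5089.result p hS'p E hEsat).mp hcore
  refine ⟨preimageAlong θ Q', preimageAlong_stronglyClosed p hS F hF hR θ E hE' hQ'sc,
    ker_le_preimageAlong θ hRS hker Q', ?_, ?_⟩
  · intro heq
    apply hQ'ne
    rw [eq_bot_iff]
    intro y hy
    obtain ⟨x, hx⟩ := exists_preimageAlong θ hrange hQ'sc.1 ⟨y, hy⟩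
    have hxR : (x : Ω) ∈ R := by
      rw [heq]
      exact x.2
    have hx' : θ ⟨x, preimageAlong_le θ Q' x.2⟩ = y := hx
    rw [Subgroup.mem_bot, ← hx']
    exact (hker _).mpr hxR
  · rw [Subgroup.commutator_le]
    intro a ha b hb
    have haS := preimageAlong_le θ Q' ha
    have hbS := preimageAlong_le θ Q' hb
    have hc := hQ'c.is_comm.comm (⟨θ ⟨a, haS⟩, preimageAlong_map_mem θ Q' ⟨a, ha⟩⟩ : Q')
      ⟨θ ⟨b, hbS⟩, preimageAlong_map_mem θ Q' ⟨b, hb⟩⟩
    have hc' : θ ⟨a, haS⟩ * θ ⟨b, hbS⟩ = θ ⟨b, hbS⟩ * θ ⟨a, haS⟩ := congrArg Subtype.val hc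
    have h1 : θ (⁅(⟨a, haS⟩ : S), ⟨b, hbS⟩⁆) = 1 := by
      rw [map_commutatorElement, commutatorElement_eq_one_iff_mul_comm]
      exact hc'
    exact (hker _).mp h1

/-- A strongly closed subgroup with abelian image modulo `R`, not contained in `R`, gives a
nontrivial normal subgroup of the factor system. -/
theorem core_ne_bot_of_step (p : ℕ) [Fact p.Prime] (hS : IsPGroup p S)
    (F : FusionSystem S) (hF : F.IsSaturated p) {R : Subgroup Ω} (hR : F.StronglyClosed R)
    {S' : Subgroup Ω'} (θ : S →* Ω') (E : FusionSystem S') (hE : F.IsFactorSystem R θ E)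
    {A : Subgroup Ω} (hA : F.StronglyClosed A) (hAA : ⁅A, A⁆ ≤ R) (hAR : ¬ A ≤ R) :
    E.core ≠ ⊥ := by
  obtain ⟨hRS, hker, hrange, hiff⟩ := hE
  obtain ⟨hfinS', hS'p⟩ := factor_finite_pgroup p hS θ hrange
  have hEsat := factor_isSaturated F hR θ hker hrange E hiff p hS hF
  rw [Cfsg.Agent.S5089.result p hS'p E hEsat]
  have hAS : A ≤ S := hA.1
  have hQ'S : imageAlong θ A ≤ S' := by
    rintro _ ⟨x, -, rfl⟩
    rw [← hrange]
    exact ⟨x, rfl⟩
  refine ⟨imageAlong θ A, ?_, ⟨⟨?_⟩⟩, hQ'S, ?_⟩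
  · intro hbot
    apply hAR
    intro a ha
    have h1 : θ ⟨a, hAS ha⟩ ∈ imageAlong θ A := ⟨⟨a, hAS ha⟩, ha, rfl⟩
    rw [hbot, Subgroup.mem_bot] at h1
    exact (hker _).mp h1
  · rintro ⟨_, a, ha, rfl⟩ ⟨_, b, hb, rfl⟩
    apply Subtype.ext
    show θ a * θ b = θ b * θ a
    have hab : ⁅(a : Ω), (b : Ω)⁆ ∈ R := hAA (Subgroup.commutator_mem_commutator ha hb)
    have h1 : θ ⁅a, b⁆ = 1 := (hker _).mpr hab
    rw [map_commutatorElement, commutatorElement_eq_one_iff_mul_comm] at h1
    exact h1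
  · intro P' hP' φ' hφ' y
    obtain ⟨-, φ, hφ, hind⟩ := (hiff _ _).mp hφ'
    have hAR' := stronglyClosed_sup p hS F hF hA hR
    have hpre : preimageAlong θ P' ≤ A ⊔ R := by
      rw [← preimageAlong_imageAlong θ hRS hker hAS]
      intro x hx
      obtain ⟨hxS, hx'⟩ := (mem_preimageAlong _ _ _).mp hx
      exact (mem_preimageAlong _ _ _).mpr ⟨hxS, hP' hx'⟩
    obtain ⟨x, hx⟩ := exists_preimageAlong θ hrange (hP'.trans hQ'S) y
    have ey : y = ⟨θ ⟨x, preimageAlong_le θ P' x.2⟩, preimageAlong_map_mem θ P' x⟩ :=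
      Subtype.ext hx.symm
    have hφS := (F.le_of_mem hφ).2
    rw [ey, inducedAlong_apply θ hind x (preimageAlong_le θ P' x.2)
      (preimageAlong_map_mem θ P' x) (hφS x)]
    have h2 : φ x ∈ A ⊔ R := hAR'.2 _ hpre φ hφ x
    have h3 : φ x ∈ preimageAlong θ (imageAlong θ A) := by
      rw [preimageAlong_imageAlong θ hRS hker hAS]
      exact h2
    exact preimageAlong_map_mem θ _ ⟨φ x, h3⟩

omit [Finite S] in
theorem bot_stronglyClosed (F : FusionSystem S) : F.StronglyClosed (⊥ : Subgroup Ω) := by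
  refine ⟨bot_le, fun R hR φ _ x => ?_⟩
  have hx : x = 1 := by
    apply Subtype.ext
    exact Subgroup.mem_bot.mp (hR x.2)
  rw [hx, map_one]
  exact Subgroup.one_mem _

/-- In a solvable saturated system, every strongly closed subgroup starts a chain of strongly
closed subgroups with abelian quotients reaching `S`. -/
theorem exists_chain_of_solvable (p : ℕ) [Fact p.Prime] (hS : IsPGroup p S)
    (F : FusionSystem S) (hF : F.IsSaturated p) (hsolv : F.IsSolvableSystem) :
    ∀ k : ℕ, ∀ R : Subgroup Ω, F.StronglyClosed R → Nat.card S - Nat.card R = k →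
      ∃ (n : ℕ) (T : ℕ → Subgroup Ω), T 0 = R ∧ T n = S ∧ (∀ i < n, T i ≤ T (i + 1)) ∧
        (∀ i ≤ n, F.StronglyClosed (T i)) ∧ ∀ i < n, ⁅T (i + 1), T (i + 1)⁆ ≤ T i := by
  intro k
  induction k using Nat.strong_induction_on with
  | _ k ih =>
    intro R hR hk
    by_cases hne : R = S
    · subst hne
      refine ⟨0, fun _ => R, rfl, rfl, ?_, ?_, ?_⟩
      · intro i hi; omega
      · intro i _
        exact hR
      · intro i hi; omega
    · have hnorm : (R.subgroupOf S).Normal :=
        (Subgroup.normal_subgroupOf_iff_le_normalizer hR.1).mpr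
          (le_normalizer_of_stronglyClosed F hR)
      have hker : ∀ s : S, (QuotientGroup.mk' (R.subgroupOf S)) s = 1 ↔ (s : Ω) ∈ R := by
        intro s
        rw [QuotientGroup.mk'_apply, QuotientGroup.eq_one_iff, Subgroup.mem_subgroupOf]
      have hrange : (QuotientGroup.mk' (R.subgroupOf S)).range = ⊤ :=
        MonoidHom.range_eq_top.mpr (QuotientGroup.mk'_surjective _)
      have hE := factorSystem_isFactorSystem F hR _ hker hrange
      have hcore := hsolv R hR hne _ hE
      obtain ⟨R₁, hR₁, hle, hne₁, hcomm⟩ :=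
        exists_stronglyClosed_step p hS F hF hR _ _ hE hcore
      have hlt : R < R₁ := lt_of_le_of_ne hle hne₁
      have hcard : Nat.card R < Nat.card R₁ := card_lt_of_lt hR₁.1 hlt
      have hcard₁ : Nat.card R₁ ≤ Nat.card S :=
        Nat.card_le_card_of_injective (Subgroup.inclusion hR₁.1) (Subgroup.inclusion_injective _)
      obtain ⟨n, T, hT0, hTn, hmono, hsc, hc⟩ :=
        ih (Nat.card S - Nat.card R₁) (by omega) R₁ hR₁ rfl
      refine ⟨n + 1, fun i => Nat.casesOn i R T, rfl, hTn, ?_, ?_, ?_⟩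
      · intro i hi
        cases i with
        | zero =>
          show R ≤ T 0
          rw [hT0]; exact hle
        | succ j => exact hmono j (by omega)
      · intro i hi
        cases i with
        | zero => exact hR
        | succ j => exact hsc j (by omega)
      · intro i hi
        cases i with
        | zero =>
          show ⁅T 0, T 0⁆ ≤ R
          rw [hT0]; exact hcomm
        | succ j => exact hc j (by omega)

/-- Solvable saturated fusion systems are those with a chain of strongly closed subgroups with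
abelian quotients. -/
theorem isSolvableSystem_iff_chain (p : ℕ) [Fact p.Prime] (hS : IsPGroup p S)
    (F : FusionSystem S) (hF : F.IsSaturated p) :
    F.IsSolvableSystem ↔ ∃ (n : ℕ) (T : Fin (n + 1) → Subgroup Ω), T 0 = ⊥ ∧
      T (Fin.last n) = S ∧ Monotone T ∧ (∀ i, F.StronglyClosed (T i)) ∧
      ∀ i : Fin n, ⁅T i.succ, T i.succ⁆ ≤ T (Fin.castSucc i) := by
  constructor
  · intro hsolv
    obtain ⟨n, T, hT0, hTn, hmono, hsc, hc⟩ :=
      exists_chain_of_solvable p hS F hF hsolv _ ⊥ (bot_stronglyClosed F) rfl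
    refine ⟨n, fun i => T i, hT0, hTn, ?_, fun i => hsc i (Nat.lt_succ_iff.mp i.2), ?_⟩
    · rw [Fin.monotone_iff_le_succ]
      intro i
      exact hmono i i.2
    · intro i
      exact hc i i.2
  · rintro ⟨n, T, hT0, hTn, hmono, hsc, hc⟩
    intro R hR hne _ E hE
    intro hcore'
    have hall : ∀ i : Fin (n + 1), T i ≤ R := by
      intro i
      induction i using Fin.induction with
      | zero => rw [hT0]; exact bot_le
      | succ i ih =>
        by_contra hnot
        exact core_ne_bot_of_step p hS F hF hR _ E hE (hsc i.succ) ((hc i).trans ih) hnot hcore'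
    have h1 := hall (Fin.last n)
    rw [hTn] at h1
    exact hne (le_antisymm hR.1 h1)

end Cfsg.Agent.Helper25
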