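import Mathlib
import Cfsg.Agent.Helper25.FusionSolvable
import Cfsg.Agent.S5076
import Cfsg.Agent.S5102
import Cfsg.Agent.Helper14.PCore

set_option autoImplicit false

/-! Transport of properties to factor systems; systems realized by a group. -/

namespace Cfsg.Agent.Helper25

open Cfsg Cfsg.FusionSystem

section Factor

variable {Ω Ω' : Type*} [Group Ω] [Group Ω'] {S : Subgroup Ω}

theorem preimageAlong_sup (θ : S →* Ω') {S' : Subgroup Ω'} (hrange : θ.range = S')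
    {P' Q' : Subgroup Ω'} (hP' : P' ≤ S') (hQ' : Q' ≤ S') :
    preimageAlong θ (P' ⊔ Q') = preimageAlong θ P' ⊔ preimageAlong θ Q' := by
  unfold preimageAlong
  rw [← Subgroup.map_sup, Subgroup.comap_sup_eq_of_le_range θ (hrange ▸ hP') (hrange ▸ hQ')]

variable [Finite S] (F : FusionSystem S) {T : Subgroup Ω} (hT : F.StronglyClosed T)
  (θ : S →* Ω') (hker : ∀ s : S, θ s = 1 ↔ (s : Ω) ∈ T) {S' : Subgroup Ω'}
  (hrange : θ.range = S') (E : FusionSystem S')
  (hiff : ∀ (P' : Subgroup Ω') (φ' : P' →* Ω'),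
    φ' ∈ E.Hom P' ↔ P' ≤ S' ∧ ∃ φ ∈ F.Hom (preimageAlong θ P'), InducedAlong θ φ φ')

include hT hker hrange hiff in
/-- The image of a subgroup normal in the system is normal in the factor system. -/
theorem factor_isNormal {Q : Subgroup Ω} (hQ : F.IsNormal Q) : E.IsNormal (imageAlong θ Q) := by
  have hQS : Q ≤ S := hQ.1
  have hQ'S : imageAlong θ Q ≤ S' := by
    rintro _ ⟨x, -, rfl⟩
    rw [← hrange]
    exact ⟨x, rfl⟩
  refine ⟨hQ'S, ?_⟩
  intro P' φ' hφ'
  obtain ⟨hP', φ, hφ, hind⟩ := (hiff _ _).mp hφ'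
  obtain ⟨ψ, hψ, hext, hmap⟩ := hQ.2 _ φ hφ
  have hTP : T ≤ preimageAlong θ P' := ker_le_preimageAlong θ hT.1 hker P'
  have hpre : preimageAlong θ (P' ⊔ imageAlong θ Q) = preimageAlong θ P' ⊔ Q := by
    rw [preimageAlong_sup θ hrange hP' hQ'S, preimageAlong_imageAlong θ hT.1 hker hQS,
      ← sup_assoc, sup_comm _ Q, sup_assoc, sup_of_le_left hTP, sup_comm]
  have hψ' := cast_mem F hpre hψ
  obtain ⟨ψ', hindψ⟩ := exists_inducedAlong F hT θ hker hrange (sup_le hP' hQ'S) hψ'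
  have hφS := (F.le_of_mem hφ).2
  have hψ'S := (F.le_of_mem hψ').2
  have hθ : ∀ (a b : Ω) (ha : a ∈ S) (hb : b ∈ S), a = b → θ ⟨a, ha⟩ = θ ⟨b, hb⟩ := by
    intro a b ha hb hab
    subst hab
    rfl
  refine ⟨ψ', (hiff _ _).mpr ⟨sup_le hP' hQ'S, _, hψ', hindψ⟩, ?_, ?_⟩
  · intro y
    obtain ⟨x, hx⟩ := exists_preimageAlong θ hrange hP' y
    have hx' : θ ⟨x, preimageAlong_le θ P' x.2⟩ = y := hx
    have hxM : (x : Ω) ∈ preimageAlong θ (P' ⊔ imageAlong θ Q) := by
      rw [hpre]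
      exact Subgroup.mem_sup_left x.2
    have ey : Subgroup.inclusion (le_sup_left : P' ≤ P' ⊔ imageAlong θ Q) y =
        ⟨θ ⟨x, preimageAlong_le θ P' x.2⟩, preimageAlong_map_mem θ _ ⟨x, hxM⟩⟩ :=
      Subtype.ext hx'.symm
    have ey' : y = ⟨θ ⟨x, preimageAlong_le θ P' x.2⟩, preimageAlong_map_mem θ P' x⟩ :=
      Subtype.ext hx'.symm
    rw [ey, inducedAlong_apply θ hindψ ⟨x, hxM⟩ (preimageAlong_le θ P' x.2)
      (preimageAlong_map_mem θ _ ⟨x, hxM⟩) (hψ'S _)]
    conv_rhs => rw [ey', inducedAlong_apply θ hind x (preimageAlong_le θ P' x.2)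
      (preimageAlong_map_mem θ P' x) (hφS x)]
    apply hθ
    exact hext x
  · -- ψ' maps the image of Q onto itself
    have hψQ : ∀ q : Ω, ∀ hq : q ∈ Q, ∀ hqM : q ∈ preimageAlong θ P' ⊔ Q,
        ψ ⟨q, hqM⟩ ∈ Q := by
      intro q hq hqM
      have h1 : ψ ⟨q, hqM⟩ ∈ (Q.subgroupOf (preimageAlong θ P' ⊔ Q)).map ψ := ⟨⟨q, hqM⟩, hq, rfl⟩
      rw [hmap] at h1
      exact h1
    ext z
    constructor
    · rintro ⟨y, hy, rfl⟩
      obtain ⟨q, hq, hqy⟩ := hy
      have hq' : (q : Ω) ∈ Q := hq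
      have hqM : (q : Ω) ∈ preimageAlong θ (P' ⊔ imageAlong θ Q) := by
        rw [hpre]
        exact Subgroup.mem_sup_right hq'
      have ey : y = ⟨θ ⟨q, q.2⟩, preimageAlong_map_mem θ _ ⟨q, hqM⟩⟩ := Subtype.ext hqy.symm
      rw [ey, inducedAlong_apply θ hindψ ⟨q, hqM⟩ q.2
        (preimageAlong_map_mem θ _ ⟨q, hqM⟩) (hψ'S _)]
      have hqM' : (q : Ω) ∈ preimageAlong θ P' ⊔ Q := Subgroup.mem_sup_right hq'
      refine ⟨⟨_, hψ'S ⟨q, hqM⟩⟩, ?_, rfl⟩
      show (ψ.comp (Subgroup.inclusion hpre.le)) ⟨q, hqM⟩ ∈ Q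
      exact hψQ q hq' hqM'
    · rintro ⟨q, hq, rfl⟩
      have hq' : (q : Ω) ∈ Q := hq
      rw [← hmap] at hq'
      obtain ⟨q₀, hq₀, hq₀q⟩ := hq'
      have hq₀' : (q₀ : Ω) ∈ Q := hq₀
      have hq₀M : (q₀ : Ω) ∈ preimageAlong θ (P' ⊔ imageAlong θ Q) := by
        rw [hpre]
        exact q₀.2
      refine ⟨⟨θ ⟨q₀, hQS hq₀'⟩, preimageAlong_map_mem θ _ ⟨q₀, hq₀M⟩⟩,
        ⟨⟨q₀, hQS hq₀'⟩, hq₀', rfl⟩, ?_⟩
      rw [inducedAlong_apply θ hindψ ⟨q₀, hq₀M⟩ (hQS hq₀')
        (preimageAlong_map_mem θ _ ⟨q₀, hq₀M⟩) (hψ'S _)]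
      apply hθ
      exact hq₀q

end Factor

section Realized

variable {Ω : Type*} [Group Ω] {S : Subgroup Ω} {G : Type*} [Group G]

/-- The inverse of an injective `ι`, as a homomorphism from its range into the ambient group. -/
noncomputable def realInv (ι : S →* G) (hinj : Function.Injective ι) : ↥ι.range →* Ω :=
  S.subtype.comp (MonoidHom.ofInjective hinj).symm.toMonoidHom

theorem realInv_mem (ι : S →* G) (hinj : Function.Injective ι) (t : ι.range) :
    realInv ι hinj t ∈ S := ((MonoidHom.ofInjective hinj).symm t).2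

theorem realInv_apply (ι : S →* G) (hinj : Function.Injective ι) (s : S) (h : ι s ∈ ι.range) :
    realInv ι hinj ⟨ι s, h⟩ = s := by
  have h1 : (MonoidHom.ofInjective hinj).symm ⟨ι s, h⟩ = s := by
    rw [MulEquiv.symm_apply_eq]
    apply Subtype.ext
    rfl
  show (((MonoidHom.ofInjective hinj).symm ⟨ι s, h⟩ : S) : Ω) = s
  rw [h1]

theorem apply_realInv (ι : S →* G) (hinj : Function.Injective ι) (t : ι.range) :
    ι ⟨realInv ι hinj t, realInv_mem ι hinj t⟩ = t := by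
  have h1 : MonoidHom.ofInjective hinj ((MonoidHom.ofInjective hinj).symm t) = t :=
    MulEquiv.apply_symm_apply _ t
  have h2 := congrArg Subtype.val h1
  exact h2

theorem realInv_ker (ι : S →* G) (hinj : Function.Injective ι) (t : ι.range) :
    realInv ι hinj t = 1 ↔ (t : G) ∈ (⊥ : Subgroup G) := by
  rw [Subgroup.mem_bot]
  constructor
  · intro h
    have h1 := apply_realInv ι hinj t
    have h2 : (⟨realInv ι hinj t, realInv_mem ι hinj t⟩ : S) = 1 := Subtype.ext h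
    rw [h2, map_one] at h1
    exact h1.symm
  · intro h
    have : t = 1 := Subtype.ext h
    rw [this, map_one]

theorem realInv_range (ι : S →* G) (hinj : Function.Injective ι) :
    (realInv ι hinj).range = S := by
  ext y
  constructor
  · rintro ⟨t, rfl⟩
    exact realInv_mem ι hinj t
  · intro hy
    exact ⟨⟨ι ⟨y, hy⟩, ⟨_, rfl⟩⟩, realInv_apply ι hinj ⟨y, hy⟩ _⟩

theorem apply_mem_range (ι : S →* G) (s : S) : ι s ∈ ι.range := ⟨s, rfl⟩

theorem realInv_eq (ι : S →* G) (hinj : Function.Injective ι) (t : ι.range) (s : S)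
    (h : ι s = t) : realInv ι hinj t = s := by
  have : t = ⟨ι s, apply_mem_range ι s⟩ := Subtype.ext h.symm
  rw [this]
  exact realInv_apply ι hinj s _

/-- A system realized by `ι` is the factor system (modulo the trivial subgroup) of the fusion
system of the group on the image of `ι`, read through the inverse of `ι`. -/
theorem realizedBy_isFactorSystem (F : FusionSystem S) (ι : S →* G) (hreal : F.IsRealizedBy ι) :
    (groupFusionSystem ι.range).IsFactorSystem ⊥ (realInv ι hreal.1) F := by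
  obtain ⟨hinj, hiff⟩ := hreal
  refine ⟨bot_le, realInv_ker ι hinj, realInv_range ι hinj, ?_⟩
  intro P' φ'
  have hpreι : ∀ x : P', ∀ hxS : (x : Ω) ∈ S,
      ι ⟨x, hxS⟩ ∈ preimageAlong (realInv ι hinj) P' := by
    intro x hxS
    refine (mem_preimageAlong _ _ _).mpr ⟨apply_mem_range ι _, ?_⟩
    rw [realInv_eq ι hinj ⟨ι ⟨x, hxS⟩, apply_mem_range ι _⟩ ⟨x, hxS⟩ rfl]
    exact x.2
  constructor
  · intro hφ'
    obtain ⟨hP'S, hφ'S⟩ := F.le_of_mem hφ'
    refine ⟨hP'S, ?_⟩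
    obtain ⟨g, hg⟩ := (hiff P' hP'S φ' hφ'S).mp hφ'
    have hval : ∀ t : preimageAlong (realInv ι hinj) P',
        conjHom _ g t = ι ⟨φ' ⟨realInv ι hinj ⟨t, preimageAlong_le _ P' t.2⟩,
          preimageAlong_map_mem _ P' t⟩, hφ'S _⟩ := by
      intro t
      rw [hg]
      have h1 := apply_realInv ι hinj ⟨t, preimageAlong_le _ P' t.2⟩
      show g * (t : G) * g⁻¹ = _
      congr 2
      exact h1.symm
    have hvalT : ∀ t : preimageAlong (realInv ι hinj) P', conjHom _ g t ∈ ι.range := by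
      intro t
      rw [hval t]
      exact apply_mem_range ι _
    refine ⟨conjHom _ g, ⟨preimageAlong_le _ P', hvalT, g, fun t => rfl⟩,
      preimageAlong_le _ P', hvalT, fun t => preimageAlong_map_mem _ P' t, ?_⟩
    intro t
    exact (realInv_eq ι hinj ⟨conjHom _ g t, hvalT t⟩ _ (hval t).symm).symm
  · rintro ⟨hP'S, φ, ⟨-, hφT, g, hg⟩, hind⟩
    have hspec : ∀ x : P', φ' x = realInv ι hinj ⟨φ ⟨ι ⟨x, hP'S x.2⟩, hpreι x (hP'S x.2)⟩,
        hφT _⟩ := by
      intro x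
      have hx1 : realInv ι hinj ⟨ι ⟨x, hP'S x.2⟩, apply_mem_range ι _⟩ = x :=
        realInv_eq ι hinj _ ⟨x, hP'S x.2⟩ rfl
      have h1 := inducedAlong_apply (realInv ι hinj) hind ⟨ι ⟨x, hP'S x.2⟩, hpreι x (hP'S x.2)⟩
        (apply_mem_range ι _) (by rw [hx1]; exact x.2) (hφT _)
      rw [← h1]
      congr 1
      exact Subtype.ext hx1.symm
    have hφ'S : ∀ x : P', φ' x ∈ S := by
      intro x
      rw [hspec x]
      exact realInv_mem ι hinj _
    refine (hiff P' hP'S φ' hφ'S).mpr ⟨g, fun x => ?_⟩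
    have h3 : (⟨φ' x, hφ'S x⟩ : S) = ⟨realInv ι hinj ⟨φ ⟨ι ⟨x, hP'S x.2⟩, hpreι x (hP'S x.2)⟩,
        hφT _⟩, realInv_mem ι hinj _⟩ := Subtype.ext (hspec x)
    rw [h3, apply_realInv]
    exact hg _

/-- A system realized by a finite group on a Sylow subgroup is saturated. -/
theorem isSaturated_of_realizedBy [Finite G] (p : ℕ) [Fact p.Prime] (F : FusionSystem S)
    (ι : S →* G) (hreal : F.IsRealizedBy ι) (T : Sylow p G) (hT : (T : Subgroup G) = ι.range) :
    F.IsSaturated p := by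
  have hsat : (groupFusionSystem ι.range).IsSaturated p := hT ▸ Cfsg.Agent.S5076.result p T
  have hTp : IsPGroup p ↥ι.range := hT ▸ T.isPGroup'
  obtain ⟨-, hker, hrange, hiff⟩ := realizedBy_isFactorSystem F ι hreal
  exact factor_isSaturated (groupFusionSystem ι.range) (bot_stronglyClosed _) _ hker hrange F hiff
    p hTp hsat

/-- A subgroup normal in the system is only conjugate to itself. -/
theorem eq_of_isConj_of_isNormal [Finite S] (F : FusionSystem S) {Q Q' : Subgroup Ω}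
    (hQ : F.IsNormal Q) (h : F.IsConj Q Q') : Q' = Q := by
  have hsc := stronglyClosed_of_isNormal F hQ
  have hcard := card_eq_of_isConj F h
  obtain ⟨χ, hχ, rfl⟩ := h
  have hfin : Finite Q := finite_of_le hQ.1
  apply Subgroup.eq_of_le_of_card_ge
  · rintro _ ⟨x, rfl⟩
    exact hsc.2 Q le_rfl χ hχ x
  · exact hcard.le

/-- A fusion system with a model is constrained. -/
theorem isConstrained_of_isModel [Finite S] (p : ℕ) [Fact p.Prime] (F : FusionSystem S)
    (ι : S →* G) (hG : F.IsModel p G ι) : F.IsConstrained p := by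
  obtain ⟨hfin, hreal, ⟨T, hT⟩, hC⟩ := hG
  have hsat := isSaturated_of_realizedBy p F ι hreal T hT
  refine ⟨hsat, ?_⟩
  have hinj := hreal.1
  obtain ⟨-, hker, hrange, hiff⟩ := realizedBy_isFactorSystem F ι hreal
  have hcoreT : pCore p G ≤ ι.range := hT ▸ Cfsg.Agent.Helper14.pCore_le_sylow p T
  have hnormG : (groupFusionSystem ι.range).IsNormal (pCore p G) :=
    hT ▸ Cfsg.Agent.S5102.result p T (pCore p G) (Cfsg.Agent.Helper14.pCore_isPGroup p)
  have hfinT : Finite ↥ι.range := inferInstance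
  have hQN : F.IsNormal (imageAlong (realInv ι hinj) (pCore p G)) :=
    factor_isNormal (groupFusionSystem ι.range) (bot_stronglyClosed _) _ hker hrange F hiff hnormG
  refine ⟨_, hQN, hQN.1, ?_⟩
  intro Q' hQ'
  rw [eq_of_isConj_of_isNormal F hQN hQ']
  rintro y ⟨hyS, hyC⟩
  have hιy : ι ⟨y, hyS⟩ ∈ pCore p G := by
    apply hC
    rw [Subgroup.mem_centralizer_iff]
    intro k hk
    have hkT : k ∈ ι.range := hcoreT hk
    have hs : realInv ι hinj ⟨k, hkT⟩ ∈ imageAlong (realInv ι hinj) (pCore p G) :=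
      ⟨⟨k, hkT⟩, hk, rfl⟩
    have h1 := Subgroup.mem_centralizer_iff.mp hyC _ hs
    have h2 := apply_realInv ι hinj ⟨k, hkT⟩
    have h3 : (⟨realInv ι hinj ⟨k, hkT⟩, realInv_mem ι hinj _⟩ : S) * ⟨y, hyS⟩ =
        ⟨y, hyS⟩ * ⟨realInv ι hinj ⟨k, hkT⟩, realInv_mem ι hinj _⟩ := Subtype.ext h1
    have h4 := congrArg ι h3
    rw [map_mul, map_mul, h2] at h4
    exact h4
  refine ⟨⟨ι ⟨y, hyS⟩, apply_mem_range ι _⟩, hιy, ?_⟩
  exact realInv_eq ι hinj _ ⟨y, hyS⟩ rfl

end Realized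

end Cfsg.Agent.Helper25
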