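import Mathlib
import Cfsg.Agent.Helper25.FusionTransport

set_option autoImplicit false

/-! The fusion system of a subgroup `H` on a Sylow subgroup `T` of `H` is saturated. -/

namespace Cfsg.Agent.Helper25

open Cfsg Cfsg.FusionSystem

variable {Ω : Type*} [Group Ω]

theorem fusionSystemOfSubgroup_isRealizedBy (H T : Subgroup Ω) (hTH : T ≤ H) :
    (fusionSystemOfSubgroup H T hTH).IsRealizedBy (Subgroup.inclusion hTH) := by
  refine ⟨Subgroup.inclusion_injective hTH, ?_⟩
  intro P hP φ hφ
  constructor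
  · rintro ⟨-, -, g, hgH, hg⟩
    exact ⟨⟨g, hgH⟩, fun x => Subtype.ext (hg x)⟩
  · rintro ⟨g, hg⟩
    exact ⟨hP, hφ, g.1, g.2, fun x => congrArg Subtype.val (hg x)⟩

/-- The fusion system of `H` on `T` is saturated when `T` is a Sylow `p`-subgroup of `H`. -/
theorem fusionSystemOfSubgroup_isSaturated (p : ℕ) [Fact p.Prime] (H T : Subgroup Ω) (hTH : T ≤ H)
    [Finite H] (T' : Sylow p H) (hT' : (T' : Subgroup H) = T.subgroupOf H) :
    (fusionSystemOfSubgroup H T hTH).IsSaturated p := by
  apply isSaturated_of_realizedBy p _ (Subgroup.inclusion hTH)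
    (fusionSystemOfSubgroup_isRealizedBy H T hTH) T'
  rw [hT', Subgroup.inclusion_range]

end Cfsg.Agent.Helper25
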