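import Mathlib
import Cfsg.Agent.Helper25.FusionSubgroupSat
import Cfsg.Agent.Helper3.SylowSubnormal
import Cfsg.Agent.S5076

set_option autoImplicit false

/-! The fusion system of a normal subgroup is a normal subsystem. -/

namespace Cfsg.Agent.Helper25

open Cfsg Cfsg.FusionSystem

variable {G : Type*} [Group G]

/-- An element conjugating a finite subgroup into itself normalizes it. -/
theorem mem_normalizer_of_conj_mem_fns {K : Subgroup G} [Finite K] {g : G}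
    (h : ∀ x ∈ K, g * x * g⁻¹ ∈ K) : g ∈ Subgroup.normalizer (K : Set G) := by
  let f : K → K := fun x => ⟨g * x * g⁻¹, h x x.2⟩
  have hinj : Function.Injective f := by
    intro a b hab
    have h1 : g * (a : G) * g⁻¹ = g * (b : G) * g⁻¹ := congrArg Subtype.val hab
    exact Subtype.ext (mul_left_cancel (mul_right_cancel h1))
  have hsurj := Finite.surjective_of_injective hinj
  rw [Subgroup.mem_normalizer_iff]
  intro y
  constructor
  · exact h y
  · intro hy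
    obtain ⟨k, hk⟩ := hsurj ⟨g * y * g⁻¹, hy⟩
    have h1 : g * (k : G) * g⁻¹ = g * y * g⁻¹ := congrArg Subtype.val hk
    have h2 : (k : G) = y := mul_left_cancel (mul_right_cancel h1)
    rw [← h2]
    exact k.2

variable [Finite G]

theorem sylow_inf_normal_isSylowIn (p : ℕ) [Fact p.Prime] (S : Sylow p G) (H : Subgroup G)
    [H.Normal] : ∃ T' : Sylow p H, (T' : Subgroup H) = ((S : Subgroup G) ⊓ H).subgroupOf H := by
  have h := (isSylowIn_iff_card p ((S : Subgroup G) ⊓ H) H).mpr (by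
    rw [inf_assoc, inf_idem]
    exact Cfsg.Agent.Helper3.card_sylow_inf_normal S H)
  exact h

/-- Frattini argument for `T = S ∩ H`. -/
theorem exists_normalizer_mul (p : ℕ) [Fact p.Prime] (S : Sylow p G) (H : Subgroup G)
    [H.Normal] (g : G) :
    ∃ n ∈ Subgroup.normalizer ((((S : Subgroup G) ⊓ H : Subgroup G)) : Set G), ∃ h ∈ H,
      g = n * h := by
  obtain ⟨T', hT'⟩ := sylow_inf_normal_isSylowIn p S H
  have h1 := Sylow.normalizer_sup_eq_top T'
  have h2 : (T' : Subgroup H).map H.subtype = (S : Subgroup G) ⊓ H := by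
    rw [hT']
    exact Subgroup.map_subgroupOf_eq_of_le inf_le_right
  rw [h2] at h1
  have hg : g ∈ ((Subgroup.normalizer ((((S : Subgroup G) ⊓ H : Subgroup G)) : Set G) ⊔ H :
      Subgroup G) : Set G) := by
    rw [h1]
    trivial
  rw [Subgroup.mul_normal, Set.mem_mul] at hg
  obtain ⟨n, hn, h, hh, rfl⟩ := hg
  exact ⟨n, hn, h, hh, rfl⟩

omit [Finite G] in
theorem inf_normal_stronglyClosed (p : ℕ) (S : Sylow p G) (H : Subgroup G) [hH : H.Normal] :
    (groupFusionSystem (S : Subgroup G)).StronglyClosed ((S : Subgroup G) ⊓ H) := by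
  refine ⟨inf_le_left, fun R hR φ hφ x => ?_⟩
  obtain ⟨-, hφS, g, hg⟩ := hφ
  refine ⟨hφS x, ?_⟩
  rw [hg x]
  exact hH.conj_mem _ (hR x.2).2 g

/-- The fusion system of `H` on `S ∩ H` is invariant in the fusion system of `G` on `S`. -/
theorem subgroupSystem_isInvariantIn (p : ℕ) [Fact p.Prime] (S : Sylow p G) (H : Subgroup G)
    [hH : H.Normal] :
    (fusionSystemOfSubgroup H ((S : Subgroup G) ⊓ H) inf_le_right).IsInvariantIn
      (groupFusionSystem (S : Subgroup G)) := by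
  have hTS : (S : Subgroup G) ⊓ H ≤ (S : Subgroup G) := inf_le_left
  refine ⟨?_, inf_normal_stronglyClosed p S H, ?_, ?_⟩
  · rintro P φ ⟨hP, hφT, g, -, hg⟩
    exact ⟨hP.trans hTS, fun x => hTS (hφT x), g, hg⟩
  · -- invariance
    intro P hPT φ hφ α hα
    obtain ⟨-, hφT, h, hh, hφh⟩ := hφ
    obtain ⟨-, -, g, hg⟩ := (mem_autGroup_iff (groupFusionSystem (S : Subgroup G)) hTS α).mp hα
    have hg' : ∀ x : ↥((S : Subgroup G) ⊓ H), ((α x : ↥((S : Subgroup G) ⊓ H)) : G) =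
        g * (x : G) * g⁻¹ := hg
    have hval : ∀ y : ↥((P.subgroupOf ((S : Subgroup G) ⊓ H)).map
        (((S : Subgroup G) ⊓ H).subtype.comp α.toMonoidHom)),
        ∃ x : P, (y : G) = g * (x : G) * g⁻¹ ∧
          g * h * g⁻¹ * (y : G) * (g * h * g⁻¹)⁻¹ =
            ((α ⟨φ x, hφT x⟩ : ↥((S : Subgroup G) ⊓ H)) : G) := by
      rintro ⟨_, x₀, hx₀, rfl⟩
      refine ⟨⟨x₀, hx₀⟩, hg' x₀, ?_⟩
      rw [hg']
      show g * h * g⁻¹ * ((α x₀ : ↥((S : Subgroup G) ⊓ H)) : G) * (g * h * g⁻¹)⁻¹ =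
        g * φ ⟨x₀, hx₀⟩ * g⁻¹
      rw [hg', hφh]
      show g * h * g⁻¹ * (g * (x₀ : G) * g⁻¹) * (g * h * g⁻¹)⁻¹ = g * (h * (x₀ : G) * h⁻¹) * g⁻¹
      group
    refine ⟨conjHom _ (g * h * g⁻¹), ⟨?_, ?_, g * h * g⁻¹, hH.conj_mem h hh g, fun y => rfl⟩, ?_⟩
    · rintro _ ⟨x, -, rfl⟩
      exact (α x).2
    · intro y
      obtain ⟨x, -, hx⟩ := hval y
      show g * h * g⁻¹ * (y : G) * (g * h * g⁻¹)⁻¹ ∈ _
      rw [hx]
      exact (α _).2
    · intro x hφx hαx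
      show g * h * g⁻¹ * ((α ⟨x, hPT x.2⟩ : ↥((S : Subgroup G) ⊓ H)) : G) * (g * h * g⁻¹)⁻¹ = _
      rw [hg', hg']
      show g * h * g⁻¹ * (g * (x : G) * g⁻¹) * (g * h * g⁻¹)⁻¹ = g * φ x * g⁻¹
      rw [hφh]
      group
  · -- Frattini
    intro P hPT φ hφ
    obtain ⟨hPS, hφS, g, hg⟩ := hφ
    obtain ⟨n, hn, h, hh, rfl⟩ := exists_normalizer_mul p S H g
    have hval : ∀ x : P, h * (x : G) * h⁻¹ ∈ (S : Subgroup G) ⊓ H := by
      intro x
      have h1 : φ x ∈ (S : Subgroup G) ⊓ H := by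
        refine ⟨hφS x, ?_⟩
        rw [hg x]
        exact hH.conj_mem _ (hPT x.2).2 _
      have h2 : h * (x : G) * h⁻¹ = n⁻¹ * φ x * n⁻¹⁻¹ := by
        rw [hg x]
        group
      rw [h2]
      exact (Subgroup.mem_normalizer_iff.mp (Subgroup.inv_mem _ hn) _).mp h1
    refine ⟨((S : Subgroup G) ⊓ H).normalizerMonoidHom ⟨n, hn⟩, ?_, conjHom P h,
      ⟨hPT, hval, h, hh, fun x => rfl⟩, ?_⟩
    · rw [mem_autGroup_iff _ hTS]
      exact ⟨hTS, fun x => hTS (((S : Subgroup G) ⊓ H).normalizerMonoidHom ⟨n, hn⟩ x).2, n,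
        fun x => rfl⟩
    · intro x hx
      rw [hg x, normalizerMonoidHom_coe]
      show n * h * (x : G) * (n * h)⁻¹ = n * (h * (x : G) * h⁻¹) * n⁻¹
      group

/-- Extension condition for the fusion system of a normal subgroup. -/
theorem subgroupSystem_extension (p : ℕ) [Fact p.Prime] (S : Sylow p G) (H : Subgroup G)
    [hH : H.Normal] (h : G) (hh : h ∈ H)
    (hhN : h ∈ Subgroup.normalizer ((((S : Subgroup G) ⊓ H : Subgroup G)) : Set G)) :
    ∃ n ∈ H, (∀ x ∈ (S : Subgroup G) ⊓ H, n * x * n⁻¹ = h * x * h⁻¹) ∧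
      ∀ d ∈ centralizerIn (S : Subgroup G) ((S : Subgroup G) ⊓ H),
        n * d * n⁻¹ ∈ centralizerIn (S : Subgroup G) ((S : Subgroup G) ⊓ H) := by
  have hTnorm : ∀ s ∈ (S : Subgroup G), ∀ t ∈ (S : Subgroup G) ⊓ H,
      s * t * s⁻¹ ∈ (S : Subgroup G) ⊓ H := fun s hs t ht =>
    ⟨Subgroup.mul_mem _ (Subgroup.mul_mem _ hs ht.1) (Subgroup.inv_mem _ hs), hH.conj_mem t ht.2 s⟩
  have hSN : (S : Subgroup G) ≤
      Subgroup.normalizer ((((S : Subgroup G) ⊓ H : Subgroup G)) : Set G) := by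
    intro s hs
    have hfin : Finite ↥((S : Subgroup G) ⊓ H) := inferInstance
    exact mem_normalizer_of_conj_mem_fns (fun x hx => hTnorm s hs x hx)
  -- conjugation by an element of the normalizer of T preserves the centralizer of T
  have hcent : ∀ n ∈ Subgroup.normalizer ((((S : Subgroup G) ⊓ H : Subgroup G)) : Set G),
      ∀ c ∈ Subgroup.centralizer ((((S : Subgroup G) ⊓ H : Subgroup G)) : Set G),
      n * c * n⁻¹ ∈ Subgroup.centralizer ((((S : Subgroup G) ⊓ H : Subgroup G)) : Set G) := by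
    intro n hn c hc
    rw [Subgroup.mem_centralizer_iff]
    intro t ht
    have ht₀ : n⁻¹ * t * n⁻¹⁻¹ ∈ (S : Subgroup G) ⊓ H :=
      (Subgroup.mem_normalizer_iff.mp (Subgroup.inv_mem _ hn) t).mp ht
    have h1 := Subgroup.mem_centralizer_iff.mp hc _ ht₀
    calc t * (n * c * n⁻¹) = n * ((n⁻¹ * t * n⁻¹⁻¹) * c) * n⁻¹ := by group
      _ = n * (c * (n⁻¹ * t * n⁻¹⁻¹)) * n⁻¹ := by rw [h1]
      _ = n * c * n⁻¹ * t := by group
  set N₁ := Subgroup.normalizer ((((S : Subgroup G) ⊓ H : Subgroup G)) : Set G) with hN₁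
  set K : Subgroup ↥N₁ :=
    (H ⊓ Subgroup.centralizer ((((S : Subgroup G) ⊓ H : Subgroup G)) : Set G)).subgroupOf N₁
    with hK
  have hKn : K.Normal := by
    constructor
    rintro ⟨k, hkN⟩ hk ⟨n, hnN⟩
    rw [hK, Subgroup.mem_subgroupOf] at hk ⊢
    exact ⟨hH.conj_mem k hk.1 n, hcent n hnN k hk.2⟩
  set U : Subgroup ↥N₁ :=
    ((centralizerIn (S : Subgroup G) ((S : Subgroup G) ⊓ H)).subgroupOf N₁).map
      (MulAut.conj (⟨h, hhN⟩ : ↥N₁)).toMonoidHom with hU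
  have hDp : IsPGroup p ↥(centralizerIn (S : Subgroup G) ((S : Subgroup G) ⊓ H)) :=
    isPGroup_of_le S.isPGroup' inf_le_left
  have hUp : IsPGroup p ↥U := (hDp.comap_subtype).map _
  have hUK : U ≤ ((S.subtype hSN : Sylow p ↥N₁) : Subgroup ↥N₁) ⊔ K := by
    rintro _ ⟨⟨d, hdN⟩, hd, rfl⟩
    have hd' : d ∈ centralizerIn (S : Subgroup G) ((S : Subgroup G) ⊓ H) := hd
    have e : (MulAut.conj (⟨h, hhN⟩ : ↥N₁)).toMonoidHom ⟨d, hdN⟩ =
        ⟨d, hdN⟩ * (⟨d, hdN⟩⁻¹ * (⟨h, hhN⟩ * ⟨d, hdN⟩ * ⟨h, hhN⟩⁻¹)) := by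
      simp [MulAut.conj_apply]
    rw [e]
    refine Subgroup.mul_mem _ (Subgroup.mem_sup_left ?_) (Subgroup.mem_sup_right ?_)
    · rw [Sylow.coe_subtype, Subgroup.mem_subgroupOf]
      exact hd'.1
    · rw [hK, Subgroup.mem_subgroupOf]
      show d⁻¹ * (h * d * h⁻¹) ∈ _
      refine ⟨?_, ?_⟩
      · have : d⁻¹ * (h * d * h⁻¹) = (d⁻¹ * h * d⁻¹⁻¹) * h⁻¹ := by group
        rw [this]
        exact H.mul_mem (hH.conj_mem h hh d⁻¹) (H.inv_mem hh)
      · exact Subgroup.mul_mem _ (Subgroup.inv_mem _ hd'.2) (hcent h hhN d hd'.2)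
  obtain ⟨k, hkK, hk⟩ := exists_mem_normal_conj_mem p (S.subtype hSN) K hUp hUK
  rw [hK, Subgroup.mem_subgroupOf] at hkK
  obtain ⟨hkH, hkC⟩ := hkK
  refine ⟨(k : G) * h, H.mul_mem hkH hh, ?_, ?_⟩
  · intro x hx
    have hx' : h * x * h⁻¹ ∈ (S : Subgroup G) ⊓ H := (Subgroup.mem_normalizer_iff.mp hhN x).mp hx
    have h1 := Subgroup.mem_centralizer_iff.mp hkC _ hx'
    calc (k : G) * h * x * ((k : G) * h)⁻¹ = ((k : G) * (h * x * h⁻¹)) * (k : G)⁻¹ := by group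
      _ = ((h * x * h⁻¹) * (k : G)) * (k : G)⁻¹ := by rw [h1]
      _ = h * x * h⁻¹ := by group
  · intro d hd
    have hdN : d ∈ N₁ := hSN hd.1
    have h1 := hk ((MulAut.conj (⟨h, hhN⟩ : ↥N₁)).toMonoidHom ⟨d, hdN⟩) ⟨⟨d, hdN⟩, hd, rfl⟩
    rw [Sylow.coe_subtype, Subgroup.mem_subgroupOf] at h1
    have h2 : (k : G) * (h * d * h⁻¹) * (k : G)⁻¹ ∈ (S : Subgroup G) := by
      simpa [MulAut.conj_apply] using h1
    have e : (k : G) * h * d * ((k : G) * h)⁻¹ = (k : G) * (h * d * h⁻¹) * (k : G)⁻¹ := by group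
    rw [e]
    exact ⟨h2, hcent k k.2 _ (hcent h hhN d hd.2)⟩

/-- The fusion system of a normal subgroup `H` on `S ∩ H` is a normal subsystem of the fusion
system of `G` on `S`. -/
theorem subgroupSystem_isNormalIn (p : ℕ) [Fact p.Prime] (S : Sylow p G) (H : Subgroup G)
    [hH : H.Normal] :
    (fusionSystemOfSubgroup H ((S : Subgroup G) ⊓ H) inf_le_right).IsNormalIn
      (groupFusionSystem (S : Subgroup G)) p := by
  have hTS : (S : Subgroup G) ⊓ H ≤ (S : Subgroup G) := inf_le_left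
  refine ⟨⟨?_, Cfsg.Agent.S5076.result p S, subgroupSystem_isInvariantIn p S H⟩, ?_⟩
  · obtain ⟨T', hT'⟩ := sylow_inf_normal_isSylowIn p S H
    exact fusionSystemOfSubgroup_isSaturated p H _ inf_le_right T' hT'
  · intro α hα
    obtain ⟨-, -, h, hh, hαh⟩ := (mem_autGroup_iff
      (fusionSystemOfSubgroup H ((S : Subgroup G) ⊓ H) inf_le_right) le_rfl α).mp hα
    have hαh' : ∀ x : ↥((S : Subgroup G) ⊓ H), ((α x : ↥((S : Subgroup G) ⊓ H)) : G) =
        h * (x : G) * h⁻¹ := hαh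
    have hhN : h ∈ Subgroup.normalizer ((((S : Subgroup G) ⊓ H : Subgroup G)) : Set G) := by
      apply mem_normalizer_of_conj_mem_fns
      intro x hx
      rw [← hαh' ⟨x, hx⟩]
      exact (α ⟨x, hx⟩).2
    obtain ⟨n, hnH, hnT, hnD⟩ := subgroupSystem_extension p S H h hh hhN
    have hP₀S : (S : Subgroup G) ⊓ H ⊔ centralizerIn (S : Subgroup G) ((S : Subgroup G) ⊓ H) ≤
        (S : Subgroup G) := sup_le hTS inf_le_left
    have hmap : ((S : Subgroup G) ⊓ H ⊔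
        centralizerIn (S : Subgroup G) ((S : Subgroup G) ⊓ H)).map (MulAut.conj n).toMonoidHom ≤
        (S : Subgroup G) ⊓ H ⊔ centralizerIn (S : Subgroup G) ((S : Subgroup G) ⊓ H) := by
      rw [Subgroup.map_sup]
      apply sup_le_sup
      · rintro _ ⟨x, hx, rfl⟩
        show n * x * n⁻¹ ∈ _
        rw [hnT x hx]
        exact (Subgroup.mem_normalizer_iff.mp hhN x).mp hx
      · rintro _ ⟨d, hd, rfl⟩
        exact hnD d hd
    have hnP₀ : n ∈ Subgroup.normalizer ((((S : Subgroup G) ⊓ H ⊔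
        centralizerIn (S : Subgroup G) ((S : Subgroup G) ⊓ H) : Subgroup G)) : Set G) := by
      apply mem_normalizer_of_conj_mem_fns
      intro y hy
      exact hmap ⟨y, hy, rfl⟩
    refine ⟨Subgroup.normalizerMonoidHom _ ⟨n, hnP₀⟩, ?_, ?_, ?_⟩
    · rw [mem_autGroup_iff _ hP₀S]
      exact ⟨hP₀S, fun y => hP₀S (Subgroup.normalizerMonoidHom _ ⟨n, hnP₀⟩ y).2, n, fun y => rfl⟩
    · intro x
      rw [normalizerMonoidHom_coe, hαh' x]
      exact hnT x x.2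
    · intro c hc
      rw [normalizerMonoidHom_coe]
      show (c : G)⁻¹ * (n * (c : G) * n⁻¹) ∈ _
      have h1 := hnD c hc
      refine ⟨⟨?_, ?_⟩, ?_⟩
      · exact Subgroup.mul_mem _ (Subgroup.inv_mem _ hc.1) h1.1
      · have : (c : G)⁻¹ * (n * (c : G) * n⁻¹) = ((c : G)⁻¹ * n * (c : G)⁻¹⁻¹) * n⁻¹ := by group
        rw [this]
        exact H.mul_mem (hH.conj_mem n hnH _) (H.inv_mem hnH)
      · exact Subgroup.mul_mem _ (Subgroup.inv_mem _ hc.2) h1.2

end Cfsg.Agent.Helper25
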