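import Mathlib
import Cfsg.Agent.Helper25.FusionHyperfocal
import Cfsg.Agent.Helper9.Focal
import Cfsg.Agent.Helper3.SylowSubnormal
import Cfsg.Agent.S5076
import Cfsg.Agent.S5092

set_option autoImplicit false

namespace Cfsg.Agent.Helper25

open Cfsg Cfsg.FusionSystem
open scoped commutatorElement

/-- For a surjective homomorphism from a finite group, `O^p` of the target is contained in the image
of `O^p` of the source. -/
theorem pResidual_le_map_of_surjective {A B : Type*} [Group A] [Group B] [Finite A] (p : ℕ)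
    [hp : Fact p.Prime] (f : A →* B) (hf : Function.Surjective f) :
    pResidual p B ≤ (pResidual p A).map f := by
  unfold pResidual
  rw [Subgroup.closure_le]
  intro b hb
  change Nat.Coprime (orderOf b) p at hb
  obtain ⟨a, rfl⟩ := hf b
  have hQ := Cfsg.Agent.Helper10.isPGroup_quotient_pResidual (H := A) p
  obtain ⟨k, hk⟩ := hQ (QuotientGroup.mk a)
  rw [← QuotientGroup.mk_pow, QuotientGroup.eq_one_iff] at hk
  have hcop : Nat.Coprime (p ^ k) (orderOf (f a)) := (Nat.Coprime.pow_right k hb).symm
  obtain ⟨m, hm⟩ := exists_pow_eq_self_of_coprime hcop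
  have h1 : f ((a ^ (p ^ k)) ^ m) = f a := by
    rw [map_pow, map_pow]; exact hm
  rw [SetLike.mem_coe, ← h1]
  exact ⟨_, Subgroup.pow_mem _ hk m, rfl⟩

/-- `O^p(O^p(X)) = O^p(X)`. -/
theorem pResidual_pResidual_top {X : Type*} [Group X] (p : ℕ) :
    pResidual p ↥(pResidual p X) = ⊤ := by
  rw [eq_top_iff]
  rintro ⟨x, hx⟩ -
  have key : ∀ y ∈ pResidual p X, ∀ hy : y ∈ pResidual p X,
      (⟨y, hy⟩ : ↥(pResidual p X)) ∈ pResidual p ↥(pResidual p X) := by
    intro y hy
    unfold pResidual at hy
    induction hy using Subgroup.closure_induction with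
    | mem z hz =>
      intro hz'
      apply Subgroup.subset_closure
      change Nat.Coprime (orderOf z) p at hz
      show Nat.Coprime (orderOf (⟨z, hz'⟩ : ↥(pResidual p X))) p
      rwa [Subgroup.orderOf_mk]
    | one => intro _; exact one_mem _
    | mul a b ha hb iha ihb =>
      intro hab
      have ha' : a ∈ pResidual p X := ha
      have hb' : b ∈ pResidual p X := hb
      exact mul_mem (iha ha') (ihb hb')
    | inv a ha iha =>
      intro hai
      have ha' : a ∈ pResidual p X := ha
      exact inv_mem (iha ha')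
  exact key x hx hx

/-- The hyperfocal subgroup of the fusion system of a finite group lies in `O^p(G)`. -/
theorem hyperfocal_groupFusion_le {G : Type*} [Group G] [Finite G] (p : ℕ) [Fact p.Prime]
    (S : Subgroup G) : (groupFusionSystem S).hyperfocalSubgroup p ≤ pResidual p G := by
  unfold hyperfocalSubgroup
  rw [Subgroup.closure_le]
  rintro _ ⟨P, α, x, hPS, hα, rfl⟩
  -- the surjection `N_G(P) → Aut_F(P)`
  have hmem : ∀ n : Subgroup.normalizer (P : Set G),
      P.normalizerMonoidHom n ∈ (groupFusionSystem S).autGroup P := by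
    intro n
    rw [Cfsg.Agent.S5076.autGroup_groupFusion S P hPS, mem_autInducedBy_iff]
    exact ⟨n, Subgroup.mem_top _, fun y => rfl⟩
  let f : Subgroup.normalizer (P : Set G) →* (groupFusionSystem S).autGroup P :=
    P.normalizerMonoidHom.codRestrict _ hmem
  have hf : Function.Surjective f := by
    rintro ⟨β, hβ⟩
    rw [Cfsg.Agent.S5076.autGroup_groupFusion S P hPS, autInducedBy_eq_map] at hβ
    obtain ⟨n, -, rfl⟩ := hβ
    exact ⟨n, rfl⟩
  obtain ⟨n, hn, rfl⟩ := pResidual_le_map_of_surjective p f hf hα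
  have hnK : ((n : G)) ∈ pResidual p G :=
    map_mem_pResidual p (Subgroup.normalizer (P : Set G)).subtype hn
  have hnorm : (pResidual p G).Normal := Cfsg.Agent.Helper10.pResidual_normal p
  show (x : G)⁻¹ * ((n : G) * (x : G) * (n : G)⁻¹) ∈ pResidual p G
  have h1 : (x : G)⁻¹ * (n : G) * (x : G)⁻¹⁻¹ ∈ pResidual p G := hnorm.conj_mem _ hnK _
  have h2 := (pResidual p G).mul_mem h1 ((pResidual p G).inv_mem hnK)
  have e : (x : G)⁻¹ * (n : G) * (x : G)⁻¹⁻¹ * (n : G)⁻¹ = (x : G)⁻¹ * ((n : G) * (x : G) * (n : G)⁻¹) := by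
    group
  rwa [e] at h2

/-- In a finite `p`-group, a normal subgroup which together with the derived subgroup generates
the whole group is the whole group. -/
theorem eq_top_of_sup_commutator {T : Type*} [Group T] [Finite T] (p : ℕ) [Fact p.Prime]
    (hT : IsPGroup p T) (H : Subgroup T) [H.Normal] (h : H ⊔ commutator T = ⊤) : H = ⊤ := by
  by_contra hne
  have hnil : Group.IsNilpotent T := hT.isNilpotent
  have hsolT : Group.IsSolvable T := inferInstance
  have hsol : Group.IsSolvable (T ⧸ H) := inferInstance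
  have hnt : Nontrivial (T ⧸ H) := by
    rw [← Finite.one_lt_card_iff_nontrivial, ← Subgroup.index_eq_card]
    have h1 : H.index ≠ 1 := fun h1 => hne (Subgroup.index_eq_one.mp h1)
    have h2 : H.index ≠ 0 := Subgroup.index_ne_zero_of_finite
    omega
  have hlt := Group.IsSolvable.commutator_lt_top_of_nontrivial (T ⧸ H)
  have hsurj : Function.Surjective (QuotientGroup.mk' H) := QuotientGroup.mk'_surjective H
  have h1 : (commutator T).map (QuotientGroup.mk' H) = commutator (T ⧸ H) := by
    rw [commutator_def, Subgroup.map_commutator, Subgroup.map_top_of_surjective _ hsurj,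
      commutator_def]
  have h2 : (H ⊔ commutator T).map (QuotientGroup.mk' H) = ⊤ := by
    rw [h, Subgroup.map_top_of_surjective _ hsurj]
  rw [Subgroup.map_sup, QuotientGroup.map_mk'_self, bot_sup_eq, h1] at h2
  exact hlt.ne h2

/-- Mathlib's focal subgroup is contained in the focal subgroup of the fusion system. -/
theorem focalSubgroup_le_focal {X : Type*} [Group X] (T : Subgroup X) :
    Subgroup.focalSubgroup T ≤ (groupFusionSystem T).focalSubgroup := by
  rw [Subgroup.focalSubgroup_def, Subgroup.closure_le]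
  rintro g ⟨hgT, x, hxT, u, rfl⟩
  unfold FusionSystem.focalSubgroup
  apply Subgroup.subset_closure
  have hle : Subgroup.zpowers x⁻¹ ≤ T := by
    rw [Subgroup.zpowers_le]; exact T.inv_mem hxT
  have hux : u * x⁻¹ * u⁻¹ ∈ T := by
    have := T.mul_mem (T.inv_mem hxT) hgT
    have e : x⁻¹ * ⁅x, u⁆ = u * x⁻¹ * u⁻¹ := by
      rw [commutatorElement_def]; group
    rwa [e] at this
  have hφ : conjHom (Subgroup.zpowers x⁻¹) u ∈ (groupFusionSystem T).Hom (Subgroup.zpowers x⁻¹) := by
    refine ⟨hle, ?_, u, fun z => rfl⟩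
    rintro ⟨_, k, rfl⟩
    show u * (x⁻¹) ^ k * u⁻¹ ∈ T
    have e : u * (x⁻¹) ^ k * u⁻¹ = (u * x⁻¹ * u⁻¹) ^ k := by
      have := map_zpow (MulAut.conj u) x⁻¹ k
      simpa [MulAut.conj_apply] using this
    rw [e]
    exact Subgroup.zpow_mem _ hux k
  refine ⟨Subgroup.zpowers x⁻¹, conjHom _ u, ⟨x⁻¹, Subgroup.mem_zpowers _⟩, hφ, ?_⟩
  rw [commutatorElement_def]
  show x * u * x⁻¹ * u⁻¹ = x⁻¹⁻¹ * (u * x⁻¹ * u⁻¹)
  group

/-- The hyperfocal subgroup of the fusion system of a subgroup `K` on `T₁ ≤ K`, viewed in `G`, is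
contained in that of `G` on any `S` containing the image of `T₁`. -/
theorem hyperfocal_map_subtype_le {G : Type*} [Group G] (p : ℕ) (K : Subgroup G)
    (T₁ : Subgroup K) (S : Subgroup G) (hTS : T₁.map K.subtype ≤ S) :
    ((groupFusionSystem T₁).hyperfocalSubgroup p).map K.subtype ≤
      (groupFusionSystem S).hyperfocalSubgroup p := by
  unfold hyperfocalSubgroup
  rw [MonoidHom.map_closure, Subgroup.closure_le]
  rintro _ ⟨_, ⟨P₁, α₁, x, hP₁T, hα₁, rfl⟩, rfl⟩
  apply Subgroup.subset_closure
  have hPS : P₁.map K.subtype ≤ S := (Subgroup.map_mono hP₁T).trans hTS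
  set e : P₁ ≃* P₁.map K.subtype := P₁.equivMapOfInjective K.subtype K.subtype_injective with he
  have hecoe : ∀ y : P₁, ((e y : P₁.map K.subtype) : G) = ((y : K) : G) := fun y => rfl
  have hmem : ∀ β : (groupFusionSystem T₁).autGroup P₁,
      MulAut.congr e (β : MulAut P₁) ∈ (groupFusionSystem S).autGroup (P₁.map K.subtype) := by
    rintro ⟨β, hβ⟩
    rw [Cfsg.Agent.S5076.autGroup_groupFusion T₁ P₁ hP₁T, mem_autInducedBy_iff] at hβ
    obtain ⟨k, -, hk⟩ := hβ
    rw [Cfsg.Agent.S5076.autGroup_groupFusion S _ hPS, mem_autInducedBy_iff]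
    refine ⟨(k : G), Subgroup.mem_top _, fun z => ?_⟩
    show ((e (β (e.symm z)) : P₁.map K.subtype) : G) = (k : G) * (z : G) * (k : G)⁻¹
    rw [hecoe, hk]
    have : (((e.symm z : P₁) : K) : G) = (z : G) := by
      rw [← hecoe, MulEquiv.apply_symm_apply]
    show (k : G) * (((e.symm z : P₁) : K) : G) * (k : G)⁻¹ = _
    rw [this]
  let f : (groupFusionSystem T₁).autGroup P₁ →* (groupFusionSystem S).autGroup (P₁.map K.subtype) :=
    ((MulAut.congr e).toMonoidHom.comp ((groupFusionSystem T₁).autGroup P₁).subtype).codRestrict _ hmem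
  refine ⟨P₁.map K.subtype, f α₁, e x, hPS, map_mem_pResidual p f hα₁, ?_⟩
  show K.subtype ((x : K)⁻¹ * (((α₁ : MulAut P₁) x : P₁) : K)) =
    ((e x : P₁.map K.subtype) : G)⁻¹ * ((e ((α₁ : MulAut P₁) (e.symm (e x))) : P₁.map K.subtype) : G)
  rw [MulEquiv.symm_apply_apply, hecoe, hecoe, map_mul, map_inv]
  rfl

/-- **Hyperfocal subgroup theorem** (Puig): the hyperfocal subgroup of the fusion system of a
finite group `G` on a Sylow `p`-subgroup `S` is `S ∩ O^p(G)`. -/
theorem hyperfocal_groupFusion_eq {G : Type*} [Group G] [Finite G] (p : ℕ) [Fact p.Prime]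
    (S : Sylow p G) :
    (groupFusionSystem (S : Subgroup G)).hyperfocalSubgroup p =
      (S : Subgroup G) ⊓ pResidual p G := by
  apply le_antisymm
  · exact le_inf (hyperfocalSubgroup_le _ p) (hyperfocal_groupFusion_le p _)
  · have hKn : (pResidual p G).Normal := Cfsg.Agent.Helper10.pResidual_normal p
    have hcard := Cfsg.Agent.Helper3.card_sylow_inf_normal S (pResidual p G)
    have hcard' : Nat.card (((S : Subgroup G) ⊓ pResidual p G).subgroupOf (pResidual p G)) =
        p ^ (Nat.card (pResidual p G)).factorization p := by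
      rw [Cfsg.Agent.Helper3.card_subgroupOf_eq_card_inf, inf_assoc, inf_idem]
      exact hcard
    set TK : Sylow p (pResidual p G) := Sylow.ofCard _ hcard' with hTK
    have hTKcoe : (TK : Subgroup (pResidual p G)) =
        ((S : Subgroup G) ⊓ pResidual p G).subgroupOf (pResidual p G) := Sylow.coe_ofCard _ _
    have hsatK : (groupFusionSystem (TK : Subgroup (pResidual p G))).IsSaturated p :=
      Cfsg.Agent.S5076.result p TK
    have h1 : (TK : Subgroup (pResidual p G)) ≤
        Subgroup.focalSubgroup (TK : Subgroup (pResidual p G)) := by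
      have := Cfsg.Agent.Helper9.sylow_inf_pResidual_le_focalSubgroup TK
      rwa [pResidual_pResidual_top, inf_top_eq] at this
    have h2 : (TK : Subgroup (pResidual p G)) ≤
        (groupFusionSystem (TK : Subgroup (pResidual p G))).focalSubgroup :=
      h1.trans (focalSubgroup_le_focal _)
    rw [Cfsg.Agent.S5092.result p TK.2 _ hsatK] at h2
    have hHle : (groupFusionSystem (TK : Subgroup (pResidual p G))).hyperfocalSubgroup p ≤
        (TK : Subgroup (pResidual p G)) := hyperfocalSubgroup_le _ p
    have hHN := le_normalizer_hyperfocalSubgroup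
      (groupFusionSystem (TK : Subgroup (pResidual p G))) p
    have hnorm : (((groupFusionSystem (TK : Subgroup (pResidual p G))).hyperfocalSubgroup p).subgroupOf
        (TK : Subgroup (pResidual p G))).Normal :=
      (Subgroup.normal_subgroupOf_iff_le_normalizer hHle).mpr hHN
    have hsup : ((groupFusionSystem (TK : Subgroup (pResidual p G))).hyperfocalSubgroup p).subgroupOf
        (TK : Subgroup (pResidual p G)) ⊔ commutator (TK : Subgroup (pResidual p G)) = ⊤ := by
      have hcomm : commutator (TK : Subgroup (pResidual p G)) =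
          (⁅(TK : Subgroup (pResidual p G)), (TK : Subgroup (pResidual p G))⁆).subgroupOf
            (TK : Subgroup (pResidual p G)) := by
        rw [← Subgroup.map_subtype_commutator]
        exact (Subgroup.comap_map_eq_self_of_injective (Subgroup.subtype_injective _) _).symm
      rw [hcomm, ← Subgroup.subgroupOf_sup hHle (Subgroup.commutator_le_self _),
        Subgroup.subgroupOf_eq_top]
      exact h2
    have htop := eq_top_of_sup_commutator p TK.2 _ hsup
    have hHeq : (groupFusionSystem (TK : Subgroup (pResidual p G))).hyperfocalSubgroup p =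
        (TK : Subgroup (pResidual p G)) :=
      le_antisymm hHle (Subgroup.subgroupOf_eq_top.mp htop)
    have hmapTK : (TK : Subgroup (pResidual p G)).map (pResidual p G).subtype =
        (S : Subgroup G) ⊓ pResidual p G := by
      rw [hTKcoe, Subgroup.map_subgroupOf_eq_of_le inf_le_right]
    have h3 := hyperfocal_map_subtype_le p (pResidual p G) (TK : Subgroup (pResidual p G))
      (S : Subgroup G) (by rw [hmapTK]; exact inf_le_left)
    rw [hHeq, hmapTK] at h3
    exact h3

end Cfsg.Agent.Helper25
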