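import Mathlib
import Cfsg.Agent.Helper25.HyperfocalGroup
import Cfsg.Agent.Helper25.FusionAlperin2
import Cfsg.Agent.Helper25.FusionSubgroupSat
import Cfsg.Agent.Helper25.FusionNormalSubgroup

set_option autoImplicit false

namespace Cfsg.Agent.Helper25

open Cfsg Cfsg.FusionSystem

section general

variable {Ω : Type*} [Group Ω] {S : Subgroup Ω}

/-- For a fully automized `P`, the group `Aut_D(P)` is generated by `Aut_S(P)` and its elements of
order prime to `p`. -/
theorem autGroup_le_of_automized [Finite S] (p : ℕ) [Fact p.Prime] (D : FusionSystem S)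
    {P : Subgroup Ω} (hFA : D.IsFullyAutomized p P) (X : Subgroup (MulAut P))
    (hX₁ : autInducedBy S P ≤ X)
    (hX₂ : ∀ α ∈ D.autGroup P, Nat.Coprime (orderOf α) p → α ∈ X) : D.autGroup P ≤ X := by
  obtain ⟨hPS, R, hR⟩ := hFA
  have hfinP : Finite P := finite_of_le hPS
  have hfinA : Finite (MulAut P) :=
    Finite.of_injective (fun e : MulAut P => (e : P → P)) (fun a b h => DFunLike.coe_injective h)
  have htop := Cfsg.Agent.Helper10.sylow_sup_pResidual R
  have hle : (R : Subgroup (D.autGroup P)) ⊔ pResidual p (D.autGroup P) ≤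
      X.subgroupOf (D.autGroup P) := by
    apply sup_le
    · rw [hR]
      intro a ha
      exact hX₁ ha
    · unfold pResidual
      rw [Subgroup.closure_le]
      intro a ha
      have ha' : Nat.Coprime (orderOf a) p := ha
      rw [← Subgroup.orderOf_coe] at ha'
      exact hX₂ a a.2 ha'
  intro α hα
  have h1 : (⟨α, hα⟩ : D.autGroup P) ∈ X.subgroupOf (D.autGroup P) :=
    hle (htop ▸ Subgroup.mem_top _)
  exact h1

/-- `S` itself is fully automized in a saturated system. -/
theorem top_isFullyAutomized [Finite S] (p : ℕ) (D : FusionSystem S) (hD : D.IsSaturated p) :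
    D.IsFullyAutomized p S := by
  obtain ⟨Q, ⟨φ, hφ, hr⟩, hFA, -⟩ := hD S le_rfl
  have := range_eq_of_hom_top D hφ
  rw [this] at hr
  subst hr
  exact hFA

/-- The subgroups used in Alperin's theorem are fully automized. -/
theorem isFullyAutomized_of_alperin [Finite S] (p : ℕ) [Fact p.Prime] (hS : IsPGroup p S)
    (D : FusionSystem S) (hD : D.IsSaturated p) {P : Subgroup Ω}
    (hP : P = S ∨ D.IsEssential p P) : D.IsFullyAutomized p P := by
  rcases hP with rfl | hP
  · exact top_isFullyAutomized p D hD
  · exact (((Cfsg.Agent.S5077.result p hS D).mp hD).1 P hP.2.1).2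

end general

section grp

variable {G : Type*} [Group G] [Finite G]

/-- Elements of `O^p(Aut_G(P))` are induced by elements of `O^p(G)`. -/
theorem exists_pResidual_of_mem_pResidual_autGroup (p : ℕ) [Fact p.Prime] (S P : Subgroup G)
    (hPS : P ≤ S) (α : (groupFusionSystem S).autGroup P)
    (hα : α ∈ pResidual p ((groupFusionSystem S).autGroup P)) :
    ∃ g ∈ pResidual p G, ∀ x : P, (((α : MulAut P) x : P) : G) = g * (x : G) * g⁻¹ := by
  have hmem : ∀ n : Subgroup.normalizer (P : Set G),
      P.normalizerMonoidHom n ∈ (groupFusionSystem S).autGroup P := by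
    intro n
    rw [Cfsg.Agent.S5076.autGroup_groupFusion S P hPS, mem_autInducedBy_iff]
    exact ⟨n, Subgroup.mem_top _, fun y => rfl⟩
  let f : Subgroup.normalizer (P : Set G) →* (groupFusionSystem S).autGroup P :=
    P.normalizerMonoidHom.codRestrict _ hmem
  have hf : Function.Surjective f := by
    rintro ⟨β, hβ⟩
    rw [Cfsg.Agent.S5076.autGroup_groupFusion S P hPS, autInducedBy_eq_map] at hβ
    obtain ⟨n, -, rfl⟩ := hβ
    exact ⟨n, rfl⟩
  obtain ⟨n, hn, rfl⟩ := pResidual_le_map_of_surjective p f hf hα
  have hnK : ((n : G)) ∈ pResidual p G :=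
    map_mem_pResidual p (Subgroup.normalizer (P : Set G)).subtype hn
  exact ⟨n, hnK, fun x => rfl⟩

/-- The automorphism group of `F_T(K)` on a subgroup of `T`. -/
theorem mem_autGroup_fusionSystemOfSubgroup (K T : Subgroup G) (hTK : T ≤ K) {P : Subgroup G}
    (hPT : P ≤ T) (α : MulAut P) :
    α ∈ (fusionSystemOfSubgroup K T hTK).autGroup P ↔
      ∃ g ∈ K, ∀ x : P, ((α x : P) : G) = g * (x : G) * g⁻¹ := by
  rw [mem_autGroup_iff _ hPT]
  constructor
  · rintro ⟨-, -, g, hg, h⟩
    exact ⟨g, hg, h⟩
  · rintro ⟨g, hg, h⟩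
    exact ⟨hPT, fun x => hPT (α x).2, g, hg, h⟩

/-- The main comparison: a saturated subsystem `E` of `F_S(G)` over `T = S ∩ O^p(G)` of `p`-power
index has the same maps as `F_T(O^p(G))`. -/
theorem hom_eq_of_pPowerIndex (p : ℕ) [Fact p.Prime] (S : Sylow p G) (T : Subgroup G)
    (hT : T = (S : Subgroup G) ⊓ pResidual p G) (hTK : T ≤ pResidual p G)
    (E : FusionSystem T) (hsat : E.IsSaturated p)
    (hsub : E.IsSubsystemOf (groupFusionSystem (S : Subgroup G)))
    (hidx : ∀ P : Subgroup G, P ≤ T →
      (pResidual p ((groupFusionSystem (S : Subgroup G)).autGroup P)).map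
        ((groupFusionSystem (S : Subgroup G)).autGroup P).subtype ≤ E.autGroup P) :
    ∀ P : Subgroup G, E.Hom P = (fusionSystemOfSubgroup (pResidual p G) T hTK).Hom P := by
  have hTS : T ≤ (S : Subgroup G) := hT ▸ inf_le_left
  have hfinT : Finite T := inferInstance
  have hTp : IsPGroup p T := S.isPGroup'.of_injective (Subgroup.inclusion hTS)
    (Subgroup.inclusion_injective _)
  have hKn : (pResidual p G).Normal := Cfsg.Agent.Helper10.pResidual_normal p
  obtain ⟨T', hT'⟩ := sylow_inf_normal_isSylowIn p S (pResidual p G)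
  have hFKsat : (fusionSystemOfSubgroup (pResidual p G) T hTK).IsSaturated p := by
    apply fusionSystemOfSubgroup_isSaturated p (pResidual p G) T hTK T'
    rw [hT', hT]
  set FK := fusionSystemOfSubgroup (pResidual p G) T hTK with hFK
  have hFKsub : FK.IsSubsystemOf (groupFusionSystem (S : Subgroup G)) := by
    rintro P φ ⟨hPT, hφT, g, -, hg⟩
    exact ⟨hPT.trans hTS, fun x => hTS (hφT x), g, hg⟩
  -- `E ≤ FK`
  have h1 : E ≤ FK := by
    apply alperin_le p hTp E hsat FK
    intro P hP
    have hFA := isFullyAutomized_of_alperin p hTp E hsat hP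
    have hPT : P ≤ T := hFA.1
    apply autGroup_le_of_automized p E hFA
    · exact autInducedBy_le_autGroup FK hPT
    · intro α hα hcop
      have hαF : α ∈ (groupFusionSystem (S : Subgroup G)).autGroup P := by
        rw [mem_autGroup_iff _ (hPT.trans hTS)]
        exact hsub _ ((mem_autGroup_iff E hPT α).mp hα)
      have hres : (⟨α, hαF⟩ : (groupFusionSystem (S : Subgroup G)).autGroup P) ∈
          pResidual p ((groupFusionSystem (S : Subgroup G)).autGroup P) := by
        apply Subgroup.subset_closure
        show Nat.Coprime (orderOf (⟨α, hαF⟩ : (groupFusionSystem (S : Subgroup G)).autGroup P)) p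
        rw [Subgroup.orderOf_mk]
        exact hcop
      obtain ⟨g, hgK, hg⟩ := exists_pResidual_of_mem_pResidual_autGroup p (S : Subgroup G) P
        (hPT.trans hTS) _ hres
      rw [mem_autGroup_fusionSystemOfSubgroup _ _ _ hPT]
      exact ⟨g, hgK, hg⟩
  -- `FK ≤ E`
  have h2 : FK ≤ E := by
    apply alperin_le p hTp FK hFKsat E
    intro P hP
    have hFA := isFullyAutomized_of_alperin p hTp FK hFKsat hP
    have hPT : P ≤ T := hFA.1
    apply autGroup_le_of_automized p FK hFA
    · exact autInducedBy_le_autGroup E hPT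
    · intro α hα hcop
      have hαF : α ∈ (groupFusionSystem (S : Subgroup G)).autGroup P := by
        rw [mem_autGroup_iff _ (hPT.trans hTS)]
        exact hFKsub _ ((mem_autGroup_iff FK hPT α).mp hα)
      have hres : (⟨α, hαF⟩ : (groupFusionSystem (S : Subgroup G)).autGroup P) ∈
          pResidual p ((groupFusionSystem (S : Subgroup G)).autGroup P) := by
        apply Subgroup.subset_closure
        show Nat.Coprime (orderOf (⟨α, hαF⟩ : (groupFusionSystem (S : Subgroup G)).autGroup P)) p
        rw [Subgroup.orderOf_mk]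
        exact hcop
      exact hidx P hPT ⟨_, hres, rfl⟩
  intro P
  exact Set.Subset.antisymm (h1 P) (h2 P)

end grp

end Cfsg.Agent.Helper25
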