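import Mathlib
import Cfsg.Agent.Helper25.FusionHyperfocal
import Cfsg.Agent.Helper25.FusionResidualGroup
import Cfsg.Agent.Helper25.FusionCore
import Cfsg.Agent.Helper25.FusionPrimeIndex
import Cfsg.Agent.Helper25.FusionInvariant
import Cfsg.Agent.S5104

set_option autoImplicit false

/-! A saturated subsystem of `p`-power index over a normal subgroup `T` of `S` is normal. -/

namespace Cfsg.Agent.Helper25

open Cfsg Cfsg.FusionSystem

variable {Ω : Type*} [Group Ω] {S : Subgroup Ω}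

/-- An element of `Aut_F(R)` of order prime to `p` lies in `O^p(Aut_F(R))`. -/
theorem mem_pResidual_of_coprime (F : FusionSystem S) (p : ℕ) {R : Subgroup Ω} {α : MulAut R}
    (hα : α ∈ F.autGroup R) (hcop : Nat.Coprime (orderOf α) p) :
    (⟨α, hα⟩ : F.autGroup R) ∈ pResidual p (F.autGroup R) := by
  apply Subgroup.subset_closure
  show Nat.Coprime (orderOf (⟨α, hα⟩ : F.autGroup R)) p
  rwa [Subgroup.orderOf_mk]

/-- An element of `Aut_F(R)` of order prime to `p` moves elements by elements of the hyperfocal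
subgroup. -/
theorem inv_mul_apply_mem_hyperfocal (F : FusionSystem S) (p : ℕ) {R : Subgroup Ω} (hRS : R ≤ S)
    {α : MulAut R} (hα : α ∈ F.autGroup R) (hcop : Nat.Coprime (orderOf α) p) (x : R) :
    (x : Ω)⁻¹ * ((α x : R) : Ω) ∈ F.hyperfocalSubgroup p :=
  Subgroup.subset_closure ⟨R, ⟨α, hα⟩, x, hRS, mem_pResidual_of_coprime F p hα hcop, rfl⟩

/-- Alperin generation in the form: `Aut_F(R)`, for `R = S` or `R` essential, is generated by
`Aut_S(R)` and the elements of order prime to `p`. -/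
theorem le_of_coprime_autGroup_le [Finite S] (p : ℕ) [Fact p.Prime] (hS : IsPGroup p S)
    (F : FusionSystem S) (hF : F.IsSaturated p) (D : FusionSystem S)
    (h : ∀ R : Subgroup Ω, R ≤ S → ∀ α ∈ F.autGroup R, Nat.Coprime (orderOf α) p →
      α ∈ D.autGroup R) : F ≤ D := by
  apply alperin_le p hS F hF
  intro R hR
  have hFA := isFullyAutomized_of_alperin p hS F hF hR
  exact autGroup_le_of_automized p F hFA _ (autInducedBy_le_autGroup D hFA.1) (h R hFA.1)

/-- Every map of `F` preserves, in both directions, membership in a subgroup `T` normalized by `S`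
and containing the hyperfocal subgroup. -/
theorem le_preservingSystem_of_hyperfocal_le [Finite S] (p : ℕ) [Fact p.Prime] (hS : IsPGroup p S)
    (F : FusionSystem S) (hF : F.IsSaturated p) {T : Subgroup Ω}
    (hTn : S ≤ Subgroup.normalizer (T : Set Ω)) (hT : F.hyperfocalSubgroup p ≤ T) :
    F ≤ preservingSystem F T hTn := by
  apply le_of_coprime_autGroup_le p hS F hF
  intro R hRS α hα hcop
  rw [mem_autGroup_iff _ hRS]
  refine ⟨(mem_autGroup_iff F hRS α).mp hα, fun x => ?_⟩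
  have hgen : (x : Ω)⁻¹ * ((α x : R) : Ω) ∈ T :=
    hT (inv_mul_apply_mem_hyperfocal F p hRS hα hcop x)
  show (x : Ω) ∈ T ↔ ((α x : R) : Ω) ∈ T
  constructor
  · intro hx
    have := T.mul_mem hx hgen
    rwa [mul_inv_cancel_left] at this
  · intro hux
    have := T.mul_mem hux (T.inv_mem hgen)
    rwa [mul_inv_rev, inv_inv, ← mul_assoc, mul_inv_cancel, one_mul] at this

theorem stronglyClosed_of_hyperfocal_le [Finite S] (p : ℕ) [Fact p.Prime] (hS : IsPGroup p S)
    (F : FusionSystem S) (hF : F.IsSaturated p) {T : Subgroup Ω} (hTS : T ≤ S)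
    (hTn : S ≤ Subgroup.normalizer (T : Set Ω)) (hT : F.hyperfocalSubgroup p ≤ T) :
    F.StronglyClosed T := by
  refine ⟨hTS, fun R hR φ hφ x => ?_⟩
  exact ((le_preservingSystem_of_hyperfocal_le p hS F hF hTn hT R hφ).2 x).mp (hR x.2)

/-- The full subsystem of `F` on a subgroup `T ≤ S`. -/
def fullOn (F : FusionSystem S) (T : Subgroup Ω) (hTS : T ≤ S) : FusionSystem T where
  Hom P := {φ | φ ∈ F.Hom P ∧ P ≤ T ∧ ∀ x, φ x ∈ T}
  le_of_mem := fun h => h.2
  injective_of_mem := fun h => F.injective_of_mem h.1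
  conj_mem := by
    intro P g hP hg
    refine ⟨F.conj_mem (hP.trans hTS) (hTS hg), hP, fun x => ?_⟩
    exact T.mul_mem (T.mul_mem hg (hP x.2)) (T.inv_mem hg)
  comp_mem := by
    rintro P Q φ ψ ⟨hφ, hP, -⟩ ⟨hψ, -, hψT⟩ h
    exact ⟨F.comp_mem hφ hψ h, hP, fun x => hψT _⟩
  inv_mem := by
    rintro P φ ⟨hφ, hP, hφT⟩
    obtain ⟨ψ, hψ, hinv⟩ := F.inv_mem hφ
    refine ⟨ψ, ⟨hψ, ?_, ?_⟩, hinv⟩
    · rintro _ ⟨x, rfl⟩
      exact hφT x
    · rintro ⟨_, x, rfl⟩
      rw [hinv x]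
      exact hP x.2

theorem fullOn_autGroup (F : FusionSystem S) (T : Subgroup Ω) (hTS : T ≤ S) :
    (fullOn F T hTS).autGroup T = F.autGroup T := by
  ext α
  rw [mem_autGroup_iff _ le_rfl, mem_autGroup_iff F hTS]
  constructor
  · intro h
    exact h.1
  · intro h
    exact ⟨h, le_rfl, fun x => (α x).2⟩

theorem invCond_fullOn_iff (F : FusionSystem S) {T : Subgroup Ω} (hTS : T ≤ S)
    (E : FusionSystem T) : InvCond E (fullOn F T hTS) ↔ InvCond E F := by
  unfold InvCond
  rw [fullOn_autGroup]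

/-- The invariance condition for a saturated subsystem of `p`-power index. -/
theorem invCond_of_pPowerIndex [Finite S] (p : ℕ) [Fact p.Prime] (hS : IsPGroup p S)
    (F : FusionSystem S) {T : Subgroup Ω} (hTS : T ≤ S) (E : FusionSystem T)
    (hEs : E.IsSaturated p)
    (hidx : ∀ P : Subgroup Ω, P ≤ T →
      (pResidual p (F.autGroup P)).map (F.autGroup P).subtype ≤ E.autGroup P)
    (hEF : E.IsSubsystemOf F) : InvCond E F := by
  have hfinT : Finite T := finite_of_le hTS
  have hTp : IsPGroup p T := isPGroup_of_le hS hTS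
  have hle : E ≤ coreSystem (fullOn F T hTS) E := by
    apply le_of_coprime_autGroup_le p hTp E hEs
    intro R hRT γ hγ hcop
    rw [mem_autGroup_iff _ hRT]
    refine ⟨hRT, (mem_autGroup_iff E hRT γ).mp hγ, fun α hα => ?_⟩
    rw [fullOn_autGroup] at hα
    have hγF : γ ∈ F.autGroup R := by
      rw [mem_autGroup_iff F (hRT.trans hTS)]
      exact hEF R ((mem_autGroup_iff E hRT γ).mp hγ)
    have hρ : (autHom α).comp (Subgroup.inclusion hRT) ∈ F.Hom R :=
      restrict_mem F hRT ((mem_autGroup_iff F hTS α).mp hα)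
    have hr : ((autHom α).comp (Subgroup.inclusion hRT)).range = imgAut α R := by
      ext y
      constructor
      · rintro ⟨x, rfl⟩
        exact apply_mem_imgAut α hRT x
      · intro hy
        obtain ⟨x, rfl⟩ := exists_of_mem_imgAut α hRT hy
        exact ⟨x, rfl⟩
    set e := isoOfHom _ (F.injective_of_mem hρ) hr with he
    have hγ' : MulAut.congr e γ ∈ F.autGroup (imgAut α R) := congr_mem_autGroup F hρ hr hγF
    have hord : Nat.Coprime (orderOf (MulAut.congr e γ)) p := by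
      rw [MulEquiv.orderOf_eq]
      exact hcop
    have hE' : MulAut.congr e γ ∈ E.autGroup (imgAut α R) :=
      hidx _ (imgAut_le α R) ⟨⟨_, hγ'⟩, mem_pResidual_of_coprime F p hγ' hord, rfl⟩
    refine ⟨autHom (MulAut.congr e γ), (mem_autGroup_iff E (imgAut_le α R) _).mp hE', ?_⟩
    intro x hφx hαx
    have hex : e x = ⟨((α ⟨x, hRT x.2⟩ : T) : Ω), hαx⟩ := Subtype.ext rfl
    show ((e (γ (e.symm ⟨_, hαx⟩)) : imgAut α R) : Ω) = _
    rw [← hex, MulEquiv.symm_apply_apply]
    rfl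
  have hcore := coreSystem_invCond (fullOn F T hTS) E
  rw [invCond_fullOn_iff] at hcore
  -- transfer from the core to `E`
  intro P hPT φ hφ α hα
  obtain ⟨χ, hχ, hχe⟩ := hcore P hPT φ (hle P hφ) α hα
  exact ⟨χ, coreSystem_isSubsystemOf _ E _ hχ, hχe⟩


/-- The maps of `F` preserving `T` (in both directions) whose restriction to the intersection of
the source with `T` is a map of the system `D` over `T`. -/
def resPre (F : FusionSystem S) {T : Subgroup Ω} (hTn : S ≤ Subgroup.normalizer (T : Set Ω))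
    (D : FusionSystem T)
    (hconj : ∀ P : Subgroup Ω, P ≤ T → ∀ s ∈ S, conjHom P s ∈ D.Hom P) : FusionSystem S where
  Hom P := {φ | φ ∈ F.Hom P ∧ (∀ x : P, (x : Ω) ∈ T ↔ φ x ∈ T) ∧
    φ.comp (Subgroup.inclusion (inf_le_left : P ⊓ T ≤ P)) ∈ D.Hom (P ⊓ T)}
  le_of_mem := fun h => F.le_of_mem h.1
  injective_of_mem := fun h => F.injective_of_mem h.1
  conj_mem := by
    intro P g hP hg
    refine ⟨F.conj_mem hP hg, fun x => Subgroup.mem_normalizer_iff.mp (hTn hg) x, ?_⟩
    have e : (conjHom P g).comp (Subgroup.inclusion (inf_le_left : P ⊓ T ≤ P)) =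
        conjHom (P ⊓ T) g := by
      ext x
      rfl
    rw [e]
    exact hconj _ inf_le_right g hg
  comp_mem := by
    rintro P Q φ ψ ⟨hφ, hφT, hφD⟩ ⟨hψ, hψT, hψD⟩ h
    refine ⟨F.comp_mem hφ hψ h, fun x => ?_, ?_⟩
    · rw [hφT x]
      exact hψT ⟨φ x, h x⟩
    · have hv : ∀ x : ↥(P ⊓ T), (φ.comp (Subgroup.inclusion (inf_le_left : P ⊓ T ≤ P))) x ∈ Q ⊓ T := by
        intro x
        exact Subgroup.mem_inf.mpr ⟨h _, (hφT _).mp x.2.2⟩
      have := D.comp_mem hφD hψD hv
      have e : (ψ.comp (φ.codRestrict Q h)).comp (Subgroup.inclusion (inf_le_left : P ⊓ T ≤ P)) =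
          (ψ.comp (Subgroup.inclusion (inf_le_left : Q ⊓ T ≤ Q))).comp
            ((φ.comp (Subgroup.inclusion (inf_le_left : P ⊓ T ≤ P))).codRestrict (Q ⊓ T) hv) := by
        ext x
        rfl
      rw [e]
      exact this
  inv_mem := by
    rintro P φ ⟨hφ, hφT, hφD⟩
    obtain ⟨ψ, hψ, hinv⟩ := F.inv_mem hφ
    refine ⟨ψ, ⟨hψ, ?_, ?_⟩, hinv⟩
    · rintro ⟨_, x, rfl⟩
      rw [hinv x]
      exact (hφT x).symm
    · obtain ⟨ψ₀, hψ₀, hinv₀⟩ := D.inv_mem hφD
      have hr : (φ.comp (Subgroup.inclusion (inf_le_left : P ⊓ T ≤ P))).range = φ.range ⊓ T := by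
        ext y
        constructor
        · rintro ⟨x, rfl⟩
          exact Subgroup.mem_inf.mpr ⟨⟨_, rfl⟩, (hφT _).mp x.2.2⟩
        · rintro ⟨⟨x, rfl⟩, hyT⟩
          exact ⟨⟨x, Subgroup.mem_inf.mpr ⟨x.2, (hφT x).mpr hyT⟩⟩, rfl⟩
      have h1 := cast_mem D hr.symm hψ₀
      have e : ψ.comp (Subgroup.inclusion (inf_le_left : φ.range ⊓ T ≤ φ.range)) =
          ψ₀.comp (Subgroup.inclusion hr.symm.le) := by
        ext ⟨y, ⟨x, rfl⟩, hyT⟩
        have hxT : (x : Ω) ∈ T := (hφT x).mpr hyT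
        have h2 := hinv₀ ⟨x, Subgroup.mem_inf.mpr ⟨x.2, hxT⟩⟩
        have h3 := hinv x
        show ψ ⟨φ x, _⟩ = ψ₀ ⟨φ x, _⟩
        rw [h3]
        exact h2.symm
      rw [e]
      exact h1


/-- Restriction of powers. -/
theorem restrict_pow_coe {R R' : Subgroup Ω} (hle : R' ≤ R) (α : MulAut R) (α' : MulAut R')
    (h : ∀ y : R', ((α' y : R') : Ω) = ((α (Subgroup.inclusion hle y) : R) : Ω)) (n : ℕ) (y : R') :
    (((α' ^ n) y : R') : Ω) = (((α ^ n) (Subgroup.inclusion hle y) : R) : Ω) := by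
  induction n with
  | zero => rfl
  | succ n ih =>
    rw [pow_succ', pow_succ', MulAut.mul_apply, MulAut.mul_apply, h]
    congr 2
    exact Subtype.ext ih

theorem orderOf_dvd_of_restrict {R R' : Subgroup Ω} (hle : R' ≤ R) (α : MulAut R) (α' : MulAut R')
    (h : ∀ y : R', ((α' y : R') : Ω) = ((α (Subgroup.inclusion hle y) : R) : Ω)) :
    orderOf α' ∣ orderOf α := by
  apply orderOf_dvd_of_pow_eq_one
  apply MulEquiv.ext
  intro y
  apply Subtype.ext
  rw [restrict_pow_coe hle α α' h, pow_orderOf_eq_one]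
  rfl

/-- Frattini condition for a saturated subsystem of `p`-power index over `T ⊴ S`. -/
theorem frattini_of_pPowerIndex [Finite S] (p : ℕ) [Fact p.Prime] (hS : IsPGroup p S)
    (F : FusionSystem S) (hF : F.IsSaturated p) {T : Subgroup Ω} (hTS : T ≤ S)
    (hTn : S ≤ Subgroup.normalizer (T : Set Ω)) (hT : F.hyperfocalSubgroup p ≤ T)
    (E : FusionSystem T) (hEs : E.IsSaturated p)
    (hidx : ∀ P : Subgroup Ω, P ≤ T →
      (pResidual p (F.autGroup P)).map (F.autGroup P).subtype ≤ E.autGroup P)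
    (hEF : E.IsSubsystemOf F) :
    ∀ (P : Subgroup Ω), P ≤ T → ∀ (φ : P →* Ω), φ ∈ F.Hom P →
      ∃ α ∈ F.autGroup T, ∃ φ₀ ∈ E.Hom P, ∀ (x : P) (hx : φ₀ x ∈ T),
        φ x = ((α ⟨φ₀ x, hx⟩ : T) : Ω) := by
  have hI := invCond_of_pPowerIndex p hS F hTS E hEs hidx hEF
  have hconj : ∀ P : Subgroup Ω, P ≤ T → ∀ s ∈ S, conjHom P s ∈ (decSystem F E hI).Hom P := by
    intro P hPT s hs
    refine ⟨hPT, T.normalizerMonoidHom ⟨s, hTn hs⟩, ?_, P.subtype, subtype_mem E hPT,
      fun x hx => rfl⟩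
    rw [mem_autGroup_iff F hTS]
    have e : autHom (T.normalizerMonoidHom ⟨s, hTn hs⟩) = conjHom T s := by
      ext x
      rfl
    rw [e]
    exact F.conj_mem hTS hs
  have hpres := le_preservingSystem_of_hyperfocal_le p hS F hF hTn hT
  have hle : F ≤ resPre F hTn (decSystem F E hI) hconj := by
    apply le_of_coprime_autGroup_le p hS F hF
    intro R hRS α hα hcop
    rw [mem_autGroup_iff _ hRS]
    have hαF := (mem_autGroup_iff F hRS α).mp hα
    have hiff := (hpres R hαF).2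
    refine ⟨hαF, hiff, ?_⟩
    have hρ : (autHom α).comp (Subgroup.inclusion (inf_le_left : R ⊓ T ≤ R)) ∈ F.Hom (R ⊓ T) :=
      restrict_mem F inf_le_left hαF
    have hr : ((autHom α).comp (Subgroup.inclusion (inf_le_left : R ⊓ T ≤ R))).range = R ⊓ T := by
      ext y
      constructor
      · rintro ⟨x, rfl⟩
        exact Subgroup.mem_inf.mpr ⟨(α _).2, (hiff _).mp x.2.2⟩
      · rintro ⟨hyR, hyT⟩
        have h1 : ((α.symm ⟨y, hyR⟩ : R) : Ω) ∈ T := by
          rw [hiff]
          show ((α (α.symm ⟨y, hyR⟩) : R) : Ω) ∈ T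
          rw [MulEquiv.apply_symm_apply]
          exact hyT
        refine ⟨⟨_, Subgroup.mem_inf.mpr ⟨(α.symm ⟨y, hyR⟩).2, h1⟩⟩, ?_⟩
        show ((α (α.symm ⟨y, hyR⟩) : R) : Ω) = y
        rw [MulEquiv.apply_symm_apply]
    set α' : MulAut ↥(R ⊓ T) := isoOfHom _ (F.injective_of_mem hρ) hr with hα'
    have hα'F : α' ∈ F.autGroup (R ⊓ T) := by
      rw [mem_autGroup_iff F (inf_le_left.trans hRS)]
      exact hρ
    have hdvd : orderOf α' ∣ orderOf α :=
      orderOf_dvd_of_restrict (inf_le_left : R ⊓ T ≤ R) α α' (fun y => rfl)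
    have hcop' : Nat.Coprime (orderOf α') p := Nat.Coprime.coprime_dvd_left hdvd hcop
    have hα'E : α' ∈ E.autGroup (R ⊓ T) :=
      hidx _ inf_le_right ⟨⟨_, hα'F⟩, mem_pResidual_of_coprime F p hα'F hcop', rfl⟩
    have hρE : (autHom α).comp (Subgroup.inclusion (inf_le_left : R ⊓ T ≤ R)) ∈ E.Hom (R ⊓ T) :=
      (mem_autGroup_iff E inf_le_right α').mp hα'E
    exact ⟨inf_le_right, 1, Subgroup.one_mem _, _, hρE, fun x hx => rfl⟩
  intro P hPT φ hφ
  obtain ⟨-, -, hD⟩ := hle P hφ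
  have e : P ⊓ T = P := inf_of_le_left hPT
  have h1 := cast_mem (decSystem F E hI) e.symm hD
  have e2 : (φ.comp (Subgroup.inclusion (inf_le_left : P ⊓ T ≤ P))).comp
      (Subgroup.inclusion e.symm.le) = φ := by
    ext x
    rfl
  rw [e2] at h1
  obtain ⟨-, α, hα, φ₀, hφ₀, he⟩ := h1
  exact ⟨α, hα, φ₀, hφ₀, he⟩


/-! ### The extension condition -/

theorem aut_apply_mem_centralizer {T : Subgroup Ω} (α : MulAut T) {z : T}
    (hz : (z : Ω) ∈ Subgroup.centralizer (T : Set Ω)) :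
    ((α z : T) : Ω) ∈ Subgroup.centralizer (T : Set Ω) := by
  rw [Subgroup.mem_centralizer_iff]
  intro t ht
  have h1 : (⟨t, ht⟩ : T) = α (α.symm ⟨t, ht⟩) := (MulEquiv.apply_symm_apply α _).symm
  have h2 : (α.symm ⟨t, ht⟩ : T) * z = z * α.symm ⟨t, ht⟩ := by
    apply Subtype.ext
    exact (Subgroup.mem_centralizer_iff.mp hz) _ (α.symm ⟨t, ht⟩).2
  have h3 : (⟨t, ht⟩ : T) * α z = α z * ⟨t, ht⟩ := by
    rw [h1, ← map_mul, ← map_mul, h2]
  exact congrArg Subtype.val h3

/-- The automorphisms of `T` that extend to `T C_S(T)` acting trivially modulo `Z(T)` on `C_S(T)`. -/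
def extSubgroup (F : FusionSystem S) (T : Subgroup Ω) (hTS : T ≤ S) : Subgroup (MulAut T) where
  carrier := {α | ∃ β ∈ F.autGroup (T ⊔ centralizerIn S T),
    (∀ x : T, ((β (Subgroup.inclusion le_sup_left x) : ↥(T ⊔ centralizerIn S T)) : Ω) =
      ((α x : T) : Ω)) ∧
    ∀ c : ↥(T ⊔ centralizerIn S T), (c : Ω) ∈ centralizerIn S T →
      (c : Ω)⁻¹ * ((β c : ↥(T ⊔ centralizerIn S T)) : Ω) ∈ T ⊓ Subgroup.centralizer (T : Set Ω)}
  one_mem' := ⟨1, Subgroup.one_mem _, fun x => rfl, fun c hc => by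
    simp only [MulAut.one_apply, inv_mul_cancel]
    exact Subgroup.one_mem _⟩
  mul_mem' := by
    rintro α₁ α₂ ⟨β₁, hβ₁, h₁, k₁⟩ ⟨β₂, hβ₂, h₂, k₂⟩
    refine ⟨β₁ * β₂, mul_mem hβ₁ hβ₂, fun x => ?_, fun c hc => ?_⟩
    · rw [MulAut.mul_apply, MulAut.mul_apply]
      have e : β₂ (Subgroup.inclusion le_sup_left x) = Subgroup.inclusion le_sup_left (α₂ x) :=
        Subtype.ext (h₂ x)
      rw [e, h₁]
    · have hz := k₂ c hc
      have hzT : (c : Ω)⁻¹ * ((β₂ c : ↥(T ⊔ centralizerIn S T)) : Ω) ∈ T := hz.1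
      have e : β₂ c = c * Subgroup.inclusion le_sup_left ⟨_, hzT⟩ := by
        apply Subtype.ext
        show _ = (c : Ω) * ((c : Ω)⁻¹ * _)
        rw [mul_inv_cancel_left]
      rw [MulAut.mul_apply, e, map_mul]
      have e2 : (c : Ω)⁻¹ * ((β₁ c * β₁ (Subgroup.inclusion le_sup_left ⟨_, hzT⟩) :
          ↥(T ⊔ centralizerIn S T)) : Ω) =
          ((c : Ω)⁻¹ * ((β₁ c : ↥(T ⊔ centralizerIn S T)) : Ω)) * ((α₁ ⟨_, hzT⟩ : T) : Ω) := by
        rw [← h₁, mul_assoc]
        rfl
      rw [e2]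
      refine Subgroup.mul_mem _ (k₁ c hc) (Subgroup.mem_inf.mpr ⟨(α₁ _).2, ?_⟩)
      exact aut_apply_mem_centralizer α₁ hz.2
  inv_mem' := by
    rintro α ⟨β, hβ, h, k⟩
    have hext : ∀ x : T, β⁻¹ (Subgroup.inclusion le_sup_left x) =
        Subgroup.inclusion le_sup_left (α⁻¹ x) := by
      intro x
      show β.symm _ = _
      rw [MulEquiv.symm_apply_eq]
      apply Subtype.ext
      rw [h]
      show (x : Ω) = ((α (α.symm x) : T) : Ω)
      rw [MulEquiv.apply_symm_apply]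
    refine ⟨β⁻¹, inv_mem hβ, fun x => by rw [hext x]; rfl, fun c hc => ?_⟩
    have hUS : T ⊔ centralizerIn S T ≤ S := sup_le hTS inf_le_left
    -- `d = β⁻¹ c` lies in `C_S(T)`
    have hd : ((β⁻¹ c : ↥(T ⊔ centralizerIn S T)) : Ω) ∈ centralizerIn S T := by
      refine Subgroup.mem_inf.mpr ⟨hUS (β⁻¹ c).2, ?_⟩
      rw [Subgroup.mem_centralizer_iff]
      intro t ht
      have hcc := Subgroup.mem_centralizer_iff.mp (Subgroup.mem_inf.mp hc).2
      have h1 : β (Subgroup.inclusion le_sup_left ⟨t, ht⟩ * β⁻¹ c) =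
          β (β⁻¹ c * Subgroup.inclusion le_sup_left ⟨t, ht⟩) := by
        rw [map_mul, map_mul]
        have h2 : β (β⁻¹ c) = c := MulEquiv.apply_symm_apply β c
        rw [h2]
        apply Subtype.ext
        show ((β (Subgroup.inclusion le_sup_left ⟨t, ht⟩) : ↥(T ⊔ centralizerIn S T)) : Ω) * (c : Ω) =
          (c : Ω) * ((β (Subgroup.inclusion le_sup_left ⟨t, ht⟩) : ↥(T ⊔ centralizerIn S T)) : Ω)
        rw [h]
        exact hcc _ (α _).2
      exact congrArg Subtype.val (β.injective h1)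
    have hz := k (β⁻¹ c) hd
    have h2 : β (β⁻¹ c) = c := MulEquiv.apply_symm_apply β c
    rw [h2] at hz
    have := Subgroup.inv_mem _ hz
    rwa [mul_inv_rev, inv_inv] at this

theorem autInducedBy_le_extSubgroup (F : FusionSystem S) {T : Subgroup Ω} (hTS : T ≤ S) :
    autInducedBy T T ≤ extSubgroup F T hTS := by
  intro α hα
  obtain ⟨t, ht, hαt⟩ := (mem_autInducedBy_iff _ _ _).mp hα
  have hUS : T ⊔ centralizerIn S T ≤ S := sup_le hTS inf_le_left
  refine ⟨MulAut.conj ⟨t, (le_sup_left : T ≤ T ⊔ centralizerIn S T) ht⟩, ?_, fun x => ?_,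
    fun c hc => ?_⟩
  · rw [mem_autGroup_iff F hUS]
    have e : autHom (MulAut.conj (⟨t, (le_sup_left : T ≤ T ⊔ centralizerIn S T) ht⟩ :
        ↥(T ⊔ centralizerIn S T))) = conjHom (T ⊔ centralizerIn S T) t := by
      ext x
      simp [conjHom, MulAut.conj_apply]
    rw [e]
    exact F.conj_mem hUS (hTS ht)
  · rw [hαt x]
    simp [MulAut.conj_apply]
  · have hcc := Subgroup.mem_centralizer_iff.mp (Subgroup.mem_inf.mp hc).2 t ht
    have e : (c : Ω)⁻¹ * (((MulAut.conj (⟨t, (le_sup_left : T ≤ T ⊔ centralizerIn S T) ht⟩ :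
        ↥(T ⊔ centralizerIn S T))) c : ↥(T ⊔ centralizerIn S T)) : Ω) = 1 := by
      simp only [MulAut.conj_apply, Subgroup.coe_mul, Subgroup.coe_inv]
      rw [hcc]
      group
    rw [e]
    exact Subgroup.one_mem _


/-- A strongly closed subgroup of a saturated system is receptive. -/
theorem isReceptive_of_stronglyClosed [Finite S] (p : ℕ) (F : FusionSystem S)
    (hF : F.IsSaturated p) {T : Subgroup Ω} (hT : F.StronglyClosed T) : F.IsReceptive T := by
  obtain ⟨Q, ⟨φ, hφ, hr⟩, -, hrec⟩ := hF T hT.1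
  have hfinT : Finite T := finite_of_le hT.1
  have hle : φ.range ≤ T := by
    rintro _ ⟨x, rfl⟩
    exact hT.2 T le_rfl φ hφ x
  have hfinr : Finite φ.range := finite_of_le (hle.trans hT.1)
  have hcard : Nat.card T ≤ Nat.card φ.range :=
    Nat.card_le_card_of_injective (fun x => (⟨φ x, x, rfl⟩ : φ.range))
      (fun x y hxy => F.injective_of_mem hφ (congrArg Subtype.val hxy))
  have : φ.range = T := Subgroup.eq_of_le_of_card_ge hle hcard
  rw [this] at hr
  subst hr
  exact hrec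

/-- Elements of `Aut_F(T)` of order prime to `p` satisfy the extension condition. -/
theorem coprime_mem_extSubgroup [Finite S] (p : ℕ) [hp : Fact p.Prime]
    (F : FusionSystem S) (hF : F.IsSaturated p) {T : Subgroup Ω} (hT : F.StronglyClosed T)
    (hhyp : F.hyperfocalSubgroup p ≤ T) {α : MulAut T} (hα : α ∈ F.autGroup T)
    (hcop : Nat.Coprime (orderOf α) p) : α ∈ extSubgroup F T hT.1 := by
  have hTS := hT.1
  have hUS : T ⊔ centralizerIn S T ≤ S := sup_le hTS inf_le_left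
  have hfinU : Finite ↥(T ⊔ centralizerIn S T) := finite_of_le hUS
  have hαF := (mem_autGroup_iff F hTS α).mp hα
  obtain ⟨ψ, hψ, hag⟩ := (isReceptive_of_stronglyClosed p F hF hT).2 T (autHom α) hαF
    (autHom_range α)
  have hUle : T ⊔ centralizerIn S T ≤ extender S T (autHom α) :=
    sup_le (le_extender hTS (autHom α) (fun x => hTS (α x).2))
      (Cfsg.Agent.S5104.centralizerIn_le_extender T (autHom α))
  have hβ₁ : ψ.comp (Subgroup.inclusion hUle) ∈ F.Hom (T ⊔ centralizerIn S T) :=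
    restrict_mem F hUle hψ
  have hinj := F.injective_of_mem hβ₁
  -- value on `T`
  have hval : ∀ x : T, (ψ.comp (Subgroup.inclusion hUle)) (Subgroup.inclusion le_sup_left x) =
      ((α x : T) : Ω) := by
    intro x
    exact hag x x.2 (hUle (le_sup_left (a := T) x.2))
  -- the range
  have hrle : (ψ.comp (Subgroup.inclusion hUle)).range ≤ T ⊔ centralizerIn S T := by
    rw [MonoidHom.range_eq_map, ← Subgroup.subgroupOf_self (T ⊔ centralizerIn S T),
      Subgroup.subgroupOf_sup le_sup_left le_sup_right, Subgroup.map_sup]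
    apply sup_le_sup
    · rintro _ ⟨u, hu, rfl⟩
      have huT : (u : Ω) ∈ T := hu
      have : u = Subgroup.inclusion (le_sup_left : T ≤ T ⊔ centralizerIn S T) ⟨(u : Ω), huT⟩ :=
        Subtype.ext rfl
      rw [this, hval]
      exact (α _).2
    · rintro _ ⟨u, hu, rfl⟩
      have huC : (u : Ω) ∈ centralizerIn S T := hu
      refine Subgroup.mem_inf.mpr ⟨(F.le_of_mem hβ₁).2 u, ?_⟩
      rw [Subgroup.mem_centralizer_iff]
      intro t ht
      have hcc := Subgroup.mem_centralizer_iff.mp (Subgroup.mem_inf.mp huC).2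
      have h1 : (⟨t, ht⟩ : T) = α (α.symm ⟨t, ht⟩) := (MulEquiv.apply_symm_apply α _).symm
      have h2 : t = (ψ.comp (Subgroup.inclusion hUle))
          (Subgroup.inclusion le_sup_left (α.symm ⟨t, ht⟩)) := by
        rw [hval, ← h1]
      rw [h2, ← map_mul, ← map_mul]
      congr 1
      apply Subtype.ext
      exact hcc _ (α.symm ⟨t, ht⟩).2
  have hr : (ψ.comp (Subgroup.inclusion hUle)).range = T ⊔ centralizerIn S T := by
    have hfinr : Finite (ψ.comp (Subgroup.inclusion hUle)).range := finite_of_le (hrle.trans hUS)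
    apply Subgroup.eq_of_le_of_card_ge hrle
    exact Nat.card_le_card_of_injective
      (fun x => (⟨(ψ.comp (Subgroup.inclusion hUle)) x, x, rfl⟩ :
        (ψ.comp (Subgroup.inclusion hUle)).range))
      (fun x y hxy => hinj (congrArg Subtype.val hxy))
  set β₂ : MulAut ↥(T ⊔ centralizerIn S T) := isoOfHom _ hinj hr with hβ₂def
  have hβ₂F : β₂ ∈ F.autGroup (T ⊔ centralizerIn S T) := by
    rw [mem_autGroup_iff F hUS]
    exact hβ₁
  have hβ₂ext : ∀ y : T, ((α y : T) : Ω) =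
      ((β₂ (Subgroup.inclusion le_sup_left y) : ↥(T ⊔ centralizerIn S T)) : Ω) := by
    intro y
    exact (hval y).symm
  -- kill the `p`-part
  have hfinA : Finite (MulAut ↥(T ⊔ centralizerIn S T)) :=
    Finite.of_injective (fun e : MulAut ↥(T ⊔ centralizerIn S T) => (e : _ → _))
      (fun a b h => DFunLike.coe_injective h)
  set N := orderOf β₂ with hN
  have hNpos : N ≠ 0 := (orderOf_pos β₂).ne'
  set q := p ^ N.factorization p with hq
  have hqcop : Nat.Coprime q (orderOf α) := (Nat.Coprime.pow_left _ hcop.symm)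
  obtain ⟨j, hj⟩ := exists_pow_eq_self_of_coprime hqcop
  have hβF : β₂ ^ (q * j) ∈ F.autGroup (T ⊔ centralizerIn S T) := pow_mem hβ₂F _
  have hβcop : Nat.Coprime (orderOf (β₂ ^ (q * j))) p := by
    have h1 : (β₂ ^ q) ^ (N / q) = 1 := by
      rw [← pow_mul, Nat.ordProj_mul_ordCompl_eq_self N p]
      exact pow_orderOf_eq_one β₂
    have h2 : orderOf (β₂ ^ q) ∣ N / q := orderOf_dvd_of_pow_eq_one h1
    have h3 : orderOf (β₂ ^ (q * j)) ∣ orderOf (β₂ ^ q) := by
      rw [pow_mul]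
      exact orderOf_pow_dvd j
    have h4 : Nat.Coprime (N / q) p := (Nat.coprime_ordCompl hp.out hNpos).symm
    exact Nat.Coprime.coprime_dvd_left (h3.trans h2) h4
  have hβext : ∀ x : T, (((β₂ ^ (q * j)) (Subgroup.inclusion le_sup_left x) :
      ↥(T ⊔ centralizerIn S T)) : Ω) = ((α x : T) : Ω) := by
    intro x
    have h1 := restrict_pow_coe (le_sup_left : T ≤ T ⊔ centralizerIn S T) β₂ α hβ₂ext (q * j) x
    rw [← h1, pow_mul, hj]
  refine ⟨β₂ ^ (q * j), hβF, hβext, fun c hc => ?_⟩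
  refine Subgroup.mem_inf.mpr ⟨hhyp (inv_mul_apply_mem_hyperfocal F p hUS hβF hβcop c), ?_⟩
  have hcC := (Subgroup.mem_inf.mp hc).2
  refine Subgroup.mul_mem _ (Subgroup.inv_mem _ hcC) ?_
  rw [Subgroup.mem_centralizer_iff]
  intro t ht
  have hcc := Subgroup.mem_centralizer_iff.mp hcC
  set β := β₂ ^ (q * j) with hβdef
  have h1 : (⟨t, ht⟩ : T) = α (α.symm ⟨t, ht⟩) := (MulEquiv.apply_symm_apply α _).symm
  have h2 : t = ((β (Subgroup.inclusion le_sup_left (α.symm ⟨t, ht⟩)) :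
      ↥(T ⊔ centralizerIn S T)) : Ω) := by
    rw [hβext, ← h1]
  rw [h2, ← Subgroup.coe_mul, ← Subgroup.coe_mul, ← map_mul, ← map_mul]
  congr 2
  apply Subtype.ext
  exact hcc _ (α.symm ⟨t, ht⟩).2

/-- S5120: a saturated subsystem of `p`-power index over a subgroup `T ⊴ S` is normal. -/
theorem isNormalIn_of_pPowerIndex [Finite S] (p : ℕ) [Fact p.Prime] (hS : IsPGroup p S)
    (F : FusionSystem S) (hF : F.IsSaturated p) {T : Subgroup Ω} (hTS : T ≤ S)
    (hTn : S ≤ Subgroup.normalizer (T : Set Ω)) (hT : F.hyperfocalSubgroup p ≤ T)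
    (E : FusionSystem T) (hEs : E.IsSaturated p) (hEi : E.HasPPowerIndexIn F p) :
    E.IsNormalIn F p := by
  obtain ⟨hEF, -, hidx⟩ := hEi
  have hTsc := stronglyClosed_of_hyperfocal_le p hS F hF hTS hTn hT
  have hI := invCond_of_pPowerIndex p hS F hTS E hEs hidx hEF
  have hFr := frattini_of_pPowerIndex p hS F hF hTS hTn hT E hEs hidx hEF
  refine ⟨⟨hEs, hF, hEF, hTsc, hI, hFr⟩, ?_⟩
  have hfinT : Finite T := finite_of_le hTS
  have hle : E.autGroup T ≤ extSubgroup F T hTS := by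
    apply autGroup_le_of_automized p E (top_isFullyAutomized p E hEs)
    · exact autInducedBy_le_extSubgroup F hTS
    · intro α hα hcop
      have hαF : α ∈ F.autGroup T := by
        rw [mem_autGroup_iff F hTS]
        exact hEF T ((mem_autGroup_iff E le_rfl α).mp hα)
      exact coprime_mem_extSubgroup p F hF hTsc hT hαF hcop
  intro α hα
  exact hle hα

end Cfsg.Agent.Helper25
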