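import Mathlib
import Cfsg.Agent.Helper25.FusionKNormSys
import Cfsg.Agent.Helper25.FusionTransport
import Cfsg.Agent.Helper25.FusionNormal

set_option autoImplicit false

/-! The normalizer system of a fully normalized centric radical subgroup is constrained, and the
largest normal `p`-subgroup of any of its models is the image of that subgroup. -/

namespace Cfsg.Agent.Helper25

open Cfsg Cfsg.FusionSystem

section Norm

variable {Ω : Type*} [Group Ω] {S : Subgroup Ω}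

/-- `R` is normal in its normalizer system. -/
theorem normalizerSystem_isNormal (F : FusionSystem S) {R : Subgroup Ω} (hRS : R ≤ S)
    (E : FusionSystem (normalizerIn S R)) (hE : F.IsNormalizerSystem R E) : E.IsNormal R := by
  have hRN : R ≤ normalizerIn S R := fun x hx => ⟨hRS hx, Subgroup.le_normalizer hx⟩
  refine ⟨hRN, ?_⟩
  intro P φ hφ
  rw [hE P] at hφ
  obtain ⟨hφF, hPN, hval, ψ, hψ, hψP, hψR⟩ := hφ
  have hle : (P ⊔ R) ⊔ R ≤ P ⊔ R := sup_le le_rfl le_sup_right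
  have hmemR : ∀ z : ↥(P ⊔ R), (z : Ω) ∈ R → ψ z ∈ R := by
    intro z hz
    have h0 : ψ z ∈ (R.subgroupOf (P ⊔ R)).map ψ := ⟨z, hz, rfl⟩
    exact (show ∀ Y : Subgroup Ω, (R.subgroupOf (P ⊔ R)).map ψ = Y → ψ z ∈ Y from
      fun Y hY => hY ▸ h0) R hψR
  have hsurjR : ∀ y ∈ R, ∃ z : ↥(P ⊔ R), (z : Ω) ∈ R ∧ ψ z = y := by
    intro y hy
    have h0 : y ∈ (R.subgroupOf (P ⊔ R)).map ψ :=
      (show ∀ Y : Subgroup Ω, (R.subgroupOf (P ⊔ R)).map ψ = Y → y ∈ Y →
        y ∈ (R.subgroupOf (P ⊔ R)).map ψ from fun Y hY h => hY ▸ h) R hψR hy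
    obtain ⟨z, hz, rfl⟩ := h0
    exact ⟨z, hz, rfl⟩
  refine ⟨ψ, ?_, hψP, hψR⟩
  rw [hE (P ⊔ R)]
  refine ⟨hψ, sup_le hPN hRN, ?_, ψ.comp (Subgroup.inclusion hle), restrict_mem F hle hψ,
    fun x => ?_, ?_⟩
  · intro x
    have h1 : ψ x ∈ ψ.range := ⟨x, rfl⟩
    rw [range_sup_eq ψ, map_subgroupOf_eq_range ψ φ hψP, hψR] at h1
    have h2 : φ.range ⊔ R ≤ normalizerIn S R := by
      apply sup_le _ hRN
      rintro _ ⟨y, rfl⟩
      exact hval y
    exact h2 h1
  · show ψ _ = ψ x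
    congr 1
  · ext y
    constructor
    · rintro ⟨x, hx, rfl⟩
      exact hmemR (Subgroup.inclusion hle x) hx
    · intro hy
      obtain ⟨x, hx, rfl⟩ := hsurjR y hy
      exact ⟨Subgroup.inclusion (le_sup_left : P ⊔ R ≤ (P ⊔ R) ⊔ R) x, hx, by
        show ψ _ = ψ x
        congr 1⟩

/-- `Aut_{N_F(R)}(R) = Aut_F(R)`. -/
theorem normalizerSystem_autGroup (F : FusionSystem S) {R : Subgroup Ω} (hRS : R ≤ S)
    (E : FusionSystem (normalizerIn S R)) (hE : F.IsNormalizerSystem R E) :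
    E.autGroup R = F.autGroup R := by
  have hRN : R ≤ normalizerIn S R := fun x hx => ⟨hRS hx, Subgroup.le_normalizer hx⟩
  ext β
  rw [mem_autGroup_iff E hRN, mem_autGroup_iff F hRS, hE R]
  constructor
  · intro h
    exact h.1
  · intro h
    have hle : R ⊔ R ≤ R := sup_le le_rfl le_rfl
    refine ⟨h, hRN, fun x => hRN (β x).2, (autHom β).comp (Subgroup.inclusion hle),
      restrict_mem F hle h, fun x => ?_, ?_⟩
    · show (autHom β) _ = (autHom β) x
      congr 1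
    · ext y
      constructor
      · rintro ⟨x, -, rfl⟩
        exact (β _).2
      · intro hy
        refine ⟨Subgroup.inclusion (le_sup_left : R ≤ R ⊔ R) (β⁻¹ ⟨y, hy⟩), (β⁻¹ ⟨y, hy⟩).2, ?_⟩
        show ((β (Subgroup.inclusion hle (Subgroup.inclusion le_sup_left (β⁻¹ ⟨y, hy⟩))) : R) : Ω) = y
        have h1 : Subgroup.inclusion hle (Subgroup.inclusion (le_sup_left : R ≤ R ⊔ R)
            (β⁻¹ ⟨y, hy⟩)) = β⁻¹ ⟨y, hy⟩ := Subtype.ext rfl
        rw [h1, MulAut.apply_inv_self]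

/-- The normalizer system of a fully normalized centric subgroup is constrained. -/
theorem normalizerSystem_isConstrained [Finite S] (p : ℕ) [Fact p.Prime] (hS : IsPGroup p S)
    (F : FusionSystem S) (hF : F.IsSaturated p) (R : Subgroup Ω) (hRn : F.IsFullyNormalized R)
    (hRc : F.IsCentric R) (E : FusionSystem (normalizerIn S R)) (hE : F.IsNormalizerSystem R E) :
    E.IsConstrained p ∧ E.IsCentric R := by
  have hRS := hRc.1
  have hRN : R ≤ normalizerIn S R := fun x hx => ⟨hRS hx, Subgroup.le_normalizer hx⟩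
  have hfinN : Finite (normalizerIn S R) := finite_of_le inf_le_left
  have hnorm := normalizerSystem_isNormal F hRS E hE
  have hcen : E.IsCentric R := by
    refine ⟨hRN, fun Q' hQ' => ?_⟩
    rw [eq_of_isConj_of_isNormal E hnorm hQ']
    have h1 : centralizerIn (normalizerIn S R) R ≤ centralizerIn S R :=
      inf_le_inf_right _ inf_le_left
    exact h1.trans (hRc.2 R (isConj_refl F hRS))
  exact ⟨⟨normalizerSystem_isSaturated p hS F hF R hRn E hE, R, hnorm, hcen⟩, hcen⟩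

end Norm

section Model

variable {Ω : Type*} [Group Ω] {S : Subgroup Ω} {G : Type*} [Group G]

/-- In a model, the subgroup of `S` corresponding to `O_p(G)` is normal in the system. -/
theorem pCore_isNormal_of_isModel [Finite S] (p : ℕ) [Fact p.Prime] (F : FusionSystem S)
    (ι : S →* G) (hG : F.IsModel p G ι) :
    F.IsNormal (imageAlong (realInv ι hG.2.1.1) (pCore p G)) := by
  obtain ⟨hfin, hreal, ⟨T, hT⟩, hC⟩ := hG
  have hinj := hreal.1
  obtain ⟨-, hker, hrange, hiff⟩ := realizedBy_isFactorSystem F ι hreal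
  have hnormG : (groupFusionSystem ι.range).IsNormal (pCore p G) :=
    hT ▸ Cfsg.Agent.S5102.result p T (pCore p G) (Cfsg.Agent.Helper14.pCore_isPGroup p)
  have hfinT : Finite ↥ι.range := inferInstance
  exact factor_isNormal (groupFusionSystem ι.range) (bot_stronglyClosed _) _ hker hrange F hiff
    hnormG

end Model

section Main

variable {Ω : Type*} [Group Ω] {S : Subgroup Ω} {G : Type*} [Group G]

/-- In a model of the normalizer system of a fully normalized centric radical subgroup `R`, the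
largest normal `p`-subgroup is the image of `R`. -/
theorem pCore_eq_of_isModel_normalizerSystem [Finite S] (p : ℕ) [Fact p.Prime]
    (hS : IsPGroup p S) (F : FusionSystem S) (hF : F.IsSaturated p) (R : Subgroup Ω)
    (hRn : F.IsFullyNormalized R) (hRc : F.IsCentric R) (hRr : F.IsRadical p R)
    (E : FusionSystem (normalizerIn S R)) (hE : F.IsNormalizerSystem R E)
    (ι : ↥(normalizerIn S R) →* G) (hM : E.IsModel p G ι) :
    (pCore p G : Subgroup G) = (R.subgroupOf (normalizerIn S R)).map ι := by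
  have hRS := hRc.1
  have hRN : R ≤ normalizerIn S R := fun x hx => ⟨hRS hx, Subgroup.le_normalizer hx⟩
  have hNS : normalizerIn S R ≤ S := inf_le_left
  have hfinN : Finite (normalizerIn S R) := finite_of_le hNS
  have hNp : IsPGroup p (normalizerIn S R) := isPGroup_of_le hS hNS
  obtain ⟨-, hRcenE⟩ := normalizerSystem_isConstrained p hS F hF R hRn hRc E hE
  have hRnormE := normalizerSystem_isNormal F hRS E hE
  have hQ₀ := pCore_isNormal_of_isModel p E ι hM
  obtain ⟨hfin, hreal, ⟨T, hT⟩, hC⟩ := hM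
  have hinj := hreal.1
  set Q₀ := imageAlong (realInv ι hinj) (pCore p G) with hQ₀def
  have hQ₀N : Q₀ ≤ normalizerIn S R := hQ₀.1
  have hcoreT : pCore p G ≤ ι.range := hT ▸ Cfsg.Agent.Helper14.pCore_le_sylow p T
  have hpn : (pCore p G).Normal := Cfsg.Agent.Helper14.pCore_normal p
  -- elements of `Q₀`
  have hmemQ₀ : ∀ k (hk : k ∈ pCore p G), realInv ι hinj ⟨k, hcoreT hk⟩ ∈ Q₀ :=
    fun k hk => ⟨⟨k, hcoreT hk⟩, hk, rfl⟩
  have hιQ₀ : ∀ q : Q₀, ι ⟨q, hQ₀N q.2⟩ ∈ pCore p G := by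
    rintro ⟨_, t, ht, rfl⟩
    have h1 := apply_realInv ι hinj t
    have h2 : (⟨realInv ι hinj t, hQ₀N ⟨t, ht, rfl⟩⟩ : normalizerIn S R) =
        ⟨realInv ι hinj t, realInv_mem ι hinj t⟩ := Subtype.ext rfl
    show ι ⟨realInv ι hinj t, _⟩ ∈ pCore p G
    rw [h2, h1]
    exact ht
  -- (1) `Q₀ ≤ R`
  have hOpE : OpAutLeInn E p R := by
    intro K hKA hnorm hKp
    have hEF := normalizerSystem_autGroup F hRS E hE
    exact opAutLeInn_of_isRadical F p hRr K (hEF ▸ hKA)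
      (fun α hα k hk => hnorm α (hEF.symm ▸ hα) k hk) hKp
  have hQ₀R : Q₀ ≤ R :=
    le_of_opAutLeInn p hNp E hQ₀.1 (le_normalizer_of_isNormal E hQ₀) hRN
      (hRcenE.2 R (isConj_refl E hRN)) hOpE (autInducedBy_normalized_of_isNormal E hQ₀ hRN)
  apply le_antisymm
  · intro k hk
    refine ⟨⟨realInv ι hinj ⟨k, hcoreT hk⟩, realInv_mem ι hinj _⟩, ?_, apply_realInv ι hinj _⟩
    exact hQ₀R (hmemQ₀ k hk)
  · -- (2) the image of `R` is a normal `p`-subgroup
    have hp : IsPGroup p ((R.subgroupOf (normalizerIn S R)).map ι) :=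
      (hNp.to_subgroup _).map ι
    have hn : ((R.subgroupOf (normalizerIn S R)).map ι).Normal := by
      constructor
      rintro _ ⟨s, hs, rfl⟩ g
      have hsR : (s : Ω) ∈ R := hs
      -- conjugation by `g` on `Q₀`
      have hconjO : ∀ q : Q₀,
          (((MulAut.conj g).toMonoidHom.comp ι).comp (Subgroup.inclusion hQ₀N)) q ∈ ι.range := by
        intro q
        exact hcoreT (hpn.conj_mem _ (hιQ₀ q) g)
      set φg : Q₀ →* Ω := (realInv ι hinj).comp
        ((((MulAut.conj g).toMonoidHom.comp ι).comp (Subgroup.inclusion hQ₀N)).codRestrict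
          ι.range hconjO) with hφg
      have hφgval : ∀ q : Q₀, φg q ∈ normalizerIn S R := fun q => realInv_mem ι hinj _
      have hφgι : ∀ q : Q₀, ι ⟨φg q, hφgval q⟩ = g * ι ⟨q, hQ₀N q.2⟩ * g⁻¹ :=
        fun q => apply_realInv ι hinj _
      have hφgE : φg ∈ E.Hom Q₀ := (hreal.2 Q₀ hQ₀N φg hφgval).mpr ⟨g, hφgι⟩
      obtain ⟨ψ, hψ, hψQ₀, hψR⟩ := hRnormE.2 Q₀ φg hφgE
      have hψval := (E.le_of_mem hψ).2
      have hsupN : Q₀ ⊔ R ≤ normalizerIn S R := (E.le_of_mem hψ).1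
      obtain ⟨g', hg'⟩ := (hreal.2 (Q₀ ⊔ R) hsupN ψ hψval).mp hψ
      have hmemR : ∀ z : ↥(Q₀ ⊔ R), (z : Ω) ∈ R → ψ z ∈ R := by
        intro z hz
        have h0 : ψ z ∈ (R.subgroupOf (Q₀ ⊔ R)).map ψ := ⟨z, hz, rfl⟩
        exact (show ∀ Y : Subgroup Ω, (R.subgroupOf (Q₀ ⊔ R)).map ψ = Y → ψ z ∈ Y from
          fun Y hY => hY ▸ h0) R hψR
      -- `g⁻¹ g'` centralizes `O_p(G)`
      have hcent : g⁻¹ * g' ∈ Subgroup.centralizer ((pCore p G : Subgroup G) : Set G) := by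
        rw [Subgroup.mem_centralizer_iff]
        intro k hk
        set q : Q₀ := ⟨realInv ι hinj ⟨k, hcoreT hk⟩, hmemQ₀ k hk⟩ with hq
        have hιq : ι ⟨q, hQ₀N q.2⟩ = k := apply_realInv ι hinj ⟨k, hcoreT hk⟩
        have h1 := hg' (Subgroup.inclusion le_sup_left q)
        have h2 : (⟨ψ (Subgroup.inclusion le_sup_left q), hψval _⟩ : normalizerIn S R) =
            ⟨φg q, hφgval q⟩ := Subtype.ext (hψQ₀ q)
        have h3 : (⟨((Subgroup.inclusion (le_sup_left : Q₀ ≤ Q₀ ⊔ R) q : ↥(Q₀ ⊔ R)) : Ω),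
            hsupN (Subgroup.inclusion (le_sup_left : Q₀ ≤ Q₀ ⊔ R) q).2⟩ : normalizerIn S R) =
            ⟨q, hQ₀N q.2⟩ := Subtype.ext rfl
        rw [h2, h3, hφgι, hιq] at h1
        -- `g k g⁻¹ = g' k g'⁻¹`
        calc k * (g⁻¹ * g') = g⁻¹ * (g * k * g⁻¹) * g' := by group
          _ = g⁻¹ * (g' * k * g'⁻¹) * g' := by rw [h1]
          _ = g⁻¹ * g' * k := by group
      have hcO : g⁻¹ * g' ∈ pCore p G := hC hcent
      set qc : Q₀ := ⟨realInv ι hinj ⟨g⁻¹ * g', hcoreT hcO⟩, hmemQ₀ _ hcO⟩ with hqc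
      have hιqc : ι ⟨qc, hQ₀N qc.2⟩ = g⁻¹ * g' := apply_realInv ι hinj ⟨_, hcoreT hcO⟩
      -- the element `s' = qc * s * qc⁻¹`
      set n : normalizerIn S R := ⟨qc, hQ₀N qc.2⟩ with hn
      have hnR : (n : Ω) ∈ Subgroup.normalizer (R : Set Ω) := n.2.2
      have hs'R : ((n⁻¹ * s * n : normalizerIn S R) : Ω) ∈ R := by
        have h0 : ((n : Ω))⁻¹ * (s : Ω) * (((n : Ω))⁻¹)⁻¹ ∈ R :=
          (Subgroup.mem_normalizer_iff.mp (inv_mem hnR) _).mp hsR
        rw [inv_inv] at h0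
        exact h0
      set r' : R := ⟨((n⁻¹ * s * n : normalizerIn S R) : Ω), hs'R⟩ with hr'
      have h4 := hg' (Subgroup.inclusion le_sup_right r')
      have h5 : (⟨((Subgroup.inclusion (le_sup_right : R ≤ Q₀ ⊔ R) r' : ↥(Q₀ ⊔ R)) : Ω),
          hsupN (Subgroup.inclusion (le_sup_right : R ≤ Q₀ ⊔ R) r').2⟩ : normalizerIn S R) =
          n⁻¹ * s * n := Subtype.ext rfl
      rw [h5, map_mul, map_mul, map_inv, hιqc] at h4
      have h6 : g * ι s * g⁻¹ = g' * ((g⁻¹ * g')⁻¹ * ι s * (g⁻¹ * g')) * g'⁻¹ := by group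
      rw [h6, ← h4]
      exact ⟨_, hmemR _ r'.2, rfl⟩
    exact Cfsg.Agent.Helper14.le_pCore p hn hp

end Main

end Cfsg.Agent.Helper25
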