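import Cfsg.Prelude.Def_FusionComponents
import Cfsg.Agent.Helper25.FusionSat
import Cfsg.Agent.S5077
import Cfsg.Agent.S5079

set_option autoImplicit false

namespace Cfsg.Agent.Helper25

open Cfsg Cfsg.FusionSystem

variable {Ω : Type*} [Group Ω] {S : Subgroup Ω}

/-- In a saturated system, a fully normalized subgroup `P` receives a map `N_S(Q) → N_S(P)` of the
system carrying `Q` onto `P`, for every `Q` conjugate to `P`. -/
theorem exists_normalizer_hom_of_fullyNormalized [Finite S] (p : ℕ) [Fact p.Prime]
    (hS : IsPGroup p S) (F : FusionSystem S) (hF : F.IsSaturated p) {P Q : Subgroup Ω}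
    (hP : F.IsFullyNormalized P) (hQ : F.IsConj Q P) :
    ∃ φ ∈ F.Hom (normalizerIn S Q), (∀ x, φ x ∈ normalizerIn S P) ∧
      (Q.subgroupOf (normalizerIn S Q)).map φ = P := by
  have h := (Cfsg.Agent.S5077.result p hS F).mp hF
  obtain ⟨hFC, hFA⟩ := h.1 P hP
  exact Cfsg.Agent.S5079.result p hS F P Q hFA (h.2 P hFC) hQ

/-- A subgroup of a strongly closed `U` that is fully normalized in a saturated `F` is fully
normalized in every subsystem of `F` over `U`. -/
theorem isFullyNormalized_of_subsystem [Finite S] (p : ℕ) [Fact p.Prime]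
    (hS : IsPGroup p S) (F : FusionSystem S) (hF : F.IsSaturated p) {U : Subgroup Ω}
    (D : FusionSystem U) (hD : D.IsSubsystemOf F) (hU : F.StronglyClosed U) {P : Subgroup Ω}
    (hPU : P ≤ U) (hP : F.IsFullyNormalized P) : D.IsFullyNormalized P := by
  refine ⟨hPU, fun Q hQ => ?_⟩
  have hQF : F.IsConj Q P := by
    obtain ⟨φ, hφ, hr⟩ := hQ
    exact isConj_symm F ⟨φ, hD _ hφ, hr⟩
  obtain ⟨φ, hφ, hφN, -⟩ := exists_normalizer_hom_of_fullyNormalized p hS F hF hP hQF
  have hle : normalizerIn U Q ≤ normalizerIn S Q := inf_le_inf_right _ hU.1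
  have hleU : normalizerIn U Q ≤ U := inf_le_left
  have hres := restrict_mem F hle hφ
  have hval : ∀ x : normalizerIn U Q, φ (Subgroup.inclusion hle x) ∈ normalizerIn U P := by
    intro x
    refine ⟨hU.2 _ hleU _ hres x, (hφN _).2⟩
  have hfin : Finite (normalizerIn U P) :=
    finite_of_le ((inf_le_left : normalizerIn U P ≤ U).trans hU.1)
  refine Nat.card_le_card_of_injective (fun x => ⟨φ (Subgroup.inclusion hle x), hval x⟩) ?_
  intro a b hab
  have h1 : φ (Subgroup.inclusion hle a) = φ (Subgroup.inclusion hle b) :=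
    congrArg Subtype.val hab
  exact Subgroup.inclusion_injective hle (F.injective_of_mem hφ h1)

theorem IsSubnormalIn.le {T : Subgroup Ω} {E : FusionSystem T} {F : FusionSystem S} {p : ℕ}
    (h : E.IsSubnormalIn F p) : T ≤ S := by
  induction h with
  | refl F p => exact le_rfl
  | step _ hDF ih => exact ih.trans hDF.1.2.2.2.1.1

/-- A subgroup fully normalized in a saturated system is fully normalized in every subnormal
subsystem containing it. -/
theorem isFullyNormalized_of_subnormal {T : Subgroup Ω} {E : FusionSystem T} {F : FusionSystem S}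
    {p : ℕ} (h : E.IsSubnormalIn F p) :
    ∀ [Finite S] [Fact p.Prime], IsPGroup p S → F.IsSaturated p → ∀ P : Subgroup Ω, P ≤ T →
      F.IsFullyNormalized P → E.IsFullyNormalized P := by
  induction h with
  | refl F p => intro _ _ _ _ P _ hP; exact hP
  | step hED hDF ih =>
    rename_i U S E D F p
    intro _ _ hS hF P hPT hP
    have hUS : U ≤ S := hDF.1.2.2.2.1.1
    have hfinU : Finite U := finite_of_le hUS
    have hPD : D.IsFullyNormalized P :=
      isFullyNormalized_of_subsystem p hS F hF D hDF.1.2.2.1 hDF.1.2.2.2.1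
        (hPT.trans (IsSubnormalIn.le hED)) hP
    exact ih (hS.of_injective (Subgroup.inclusion hUS) (Subgroup.inclusion_injective _))
      hDF.1.1 P hPT hPD

end Cfsg.Agent.Helper25
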