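import Mathlib
import Cfsg.Agent.Helper25.FusionTransport
import Cfsg.Agent.Helper25.FusionInvariant
import Cfsg.Agent.Helper25.FusionSubnormal

set_option autoImplicit false

/-! Isomorphisms of fusion systems (factor systems modulo the trivial subgroup): pushing maps
forward, pulling them back, the inverse isomorphism. -/

namespace Cfsg.Agent.Helper25

open Cfsg Cfsg.FusionSystem

section ImageBasic

variable {Ω Ω' : Type*} [Group Ω] [Group Ω'] {S : Subgroup Ω}

theorem mem_imageAlong_iff (θ : S →* Ω') (P : Subgroup Ω) (y : Ω') :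
    y ∈ imageAlong θ P ↔ ∃ x : S, (x : Ω) ∈ P ∧ θ x = y := by
  unfold imageAlong
  constructor
  · rintro ⟨x, hx, rfl⟩
    exact ⟨x, hx, rfl⟩
  · rintro ⟨x, hx, rfl⟩
    exact ⟨x, hx, rfl⟩

theorem apply_mem_imageAlong (θ : S →* Ω') {P : Subgroup Ω} (hP : P ≤ S) (x : P) :
    θ ⟨x, hP x.2⟩ ∈ imageAlong θ P :=
  (mem_imageAlong_iff θ P _).mpr ⟨⟨x, hP x.2⟩, x.2, rfl⟩

theorem imageAlong_mono (θ : S →* Ω') {P Q : Subgroup Ω} (h : P ≤ Q) :
    imageAlong θ P ≤ imageAlong θ Q := by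
  intro y hy
  obtain ⟨x, hx, rfl⟩ := (mem_imageAlong_iff θ P y).mp hy
  exact (mem_imageAlong_iff θ Q _).mpr ⟨x, h hx, rfl⟩

theorem imageAlong_le_of_range (θ : S →* Ω') {S' : Subgroup Ω'} (hrange : θ.range = S')
    (P : Subgroup Ω) : imageAlong θ P ≤ S' := by
  intro y hy
  obtain ⟨x, -, rfl⟩ := (mem_imageAlong_iff θ P y).mp hy
  rw [← hrange]
  exact ⟨x, rfl⟩

theorem imageAlong_self (θ : S →* Ω') : imageAlong θ S = θ.range := by
  ext y
  rw [mem_imageAlong_iff]
  constructor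
  · rintro ⟨x, -, rfl⟩
    exact ⟨x, rfl⟩
  · rintro ⟨x, rfl⟩
    exact ⟨x, x.2, rfl⟩

theorem preimageAlong_imageAlong_inj (θ : S →* Ω') (hinj : Function.Injective θ)
    {P : Subgroup Ω} (hP : P ≤ S) : preimageAlong θ (imageAlong θ P) = P := by
  ext x
  rw [mem_preimageAlong]
  constructor
  · rintro ⟨hx, h⟩
    obtain ⟨z, hz, hzx⟩ := (mem_imageAlong_iff θ P _).mp h
    have := hinj hzx
    have h2 : (z : Ω) = x := congrArg (fun w : S => (w : Ω)) this
    rw [← h2]
    exact hz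
  · intro hx
    exact ⟨hP hx, apply_mem_imageAlong θ hP ⟨x, hx⟩⟩

theorem imageAlong_preimageAlong (θ : S →* Ω') {S' : Subgroup Ω'} (hrange : θ.range = S')
    {P' : Subgroup Ω'} (hP' : P' ≤ S') : imageAlong θ (preimageAlong θ P') = P' := by
  ext y
  rw [mem_imageAlong_iff]
  constructor
  · rintro ⟨x, hx, rfl⟩
    obtain ⟨_, h⟩ := (mem_preimageAlong θ P' _).mp hx
    exact h
  · intro hy
    have : y ∈ θ.range := by
      rw [hrange]
      exact hP' hy
    obtain ⟨x, rfl⟩ := this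
    exact ⟨x, (mem_preimageAlong θ P' _).mpr ⟨x.2, hy⟩, rfl⟩

theorem preimageAlong_mono (θ : S →* Ω') {P' Q' : Subgroup Ω'} (h : P' ≤ Q') :
    preimageAlong θ P' ≤ preimageAlong θ Q' := by
  intro x hx
  obtain ⟨hxS, hx'⟩ := (mem_preimageAlong θ P' x).mp hx
  exact (mem_preimageAlong θ Q' x).mpr ⟨hxS, h hx'⟩

/-- The isomorphism from `P` onto its image. -/
noncomputable def imgEquiv (θ : S →* Ω') (hinj : Function.Injective θ) {P : Subgroup Ω}
    (hP : P ≤ S) {P' : Subgroup Ω'} (hP' : imageAlong θ P = P') : P ≃* P' :=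
  MulEquiv.ofBijective
    ((θ.comp (Subgroup.inclusion hP)).codRestrict P'
      (fun x => hP' ▸ apply_mem_imageAlong θ hP x))
    ⟨fun x y hxy => by
      have h1 : θ (Subgroup.inclusion hP x) = θ (Subgroup.inclusion hP y) :=
        congrArg Subtype.val hxy
      have h2 := hinj h1
      exact Subtype.ext (congrArg (fun z : S => (z : Ω)) h2), by
      rintro ⟨y, hy⟩
      rw [← hP'] at hy
      obtain ⟨x, hx, rfl⟩ := (mem_imageAlong_iff θ P y).mp hy
      exact ⟨⟨x, hx⟩, Subtype.ext rfl⟩⟩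

theorem imgEquiv_coe (θ : S →* Ω') (hinj : Function.Injective θ) {P : Subgroup Ω}
    (hP : P ≤ S) {P' : Subgroup Ω'} (hP' : imageAlong θ P = P') (x : P) :
    ((imgEquiv θ hinj hP hP' x : P') : Ω') = θ ⟨x, hP x.2⟩ := rfl

theorem imgEquiv_symm_apply (θ : S →* Ω') (hinj : Function.Injective θ) {P : Subgroup Ω}
    (hP : P ≤ S) {P' : Subgroup Ω'} (hP' : imageAlong θ P = P') (x : P)
    (h : θ ⟨x, hP x.2⟩ ∈ P') :
    (imgEquiv θ hinj hP hP').symm ⟨θ ⟨x, hP x.2⟩, h⟩ = x := by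
  rw [MulEquiv.symm_apply_eq]
  exact Subtype.ext rfl

theorem apply_imgEquiv_symm (θ : S →* Ω') (hinj : Function.Injective θ) {P : Subgroup Ω}
    (hP : P ≤ S) {P' : Subgroup Ω'} (hP' : imageAlong θ P = P') (y : P') :
    θ ⟨((imgEquiv θ hinj hP hP').symm y : P), hP ((imgEquiv θ hinj hP hP').symm y).2⟩ = y := by
  have := imgEquiv_coe θ hinj hP hP' ((imgEquiv θ hinj hP hP').symm y)
  rw [MulEquiv.apply_symm_apply] at this
  exact this.symm

/-- The homomorphism induced on the image by a homomorphism with values in `S`. -/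
noncomputable def pushHom (θ : S →* Ω') (hinj : Function.Injective θ) {P : Subgroup Ω}
    (hP : P ≤ S) {P' : Subgroup Ω'} (hP' : imageAlong θ P = P') (φ : P →* Ω)
    (hφS : ∀ x : P, φ x ∈ S) : P' →* Ω' :=
  (θ.comp (φ.codRestrict S hφS)).comp (imgEquiv θ hinj hP hP').symm.toMonoidHom

theorem pushHom_apply (θ : S →* Ω') (hinj : Function.Injective θ) {P : Subgroup Ω}
    (hP : P ≤ S) {P' : Subgroup Ω'} (hP' : imageAlong θ P = P') (φ : P →* Ω)
    (hφS : ∀ x : P, φ x ∈ S) (x : P) (h : θ ⟨x, hP x.2⟩ ∈ P') :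
    pushHom θ hinj hP hP' φ hφS ⟨θ ⟨x, hP x.2⟩, h⟩ = θ ⟨φ x, hφS x⟩ := by
  unfold pushHom
  simp only [MonoidHom.comp_apply, MulEquiv.coe_toMonoidHom]
  rw [imgEquiv_symm_apply]
  rfl

theorem pushHom_apply' (θ : S →* Ω') (hinj : Function.Injective θ) {P : Subgroup Ω}
    (hP : P ≤ S) {P' : Subgroup Ω'} (hP' : imageAlong θ P = P') (φ : P →* Ω)
    (hφS : ∀ x : P, φ x ∈ S) (y : P') :
    pushHom θ hinj hP hP' φ hφS y =
      θ ⟨φ ((imgEquiv θ hinj hP hP').symm y), hφS _⟩ := rfl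

theorem pushHom_induced (θ : S →* Ω') (hinj : Function.Injective θ) {P : Subgroup Ω}
    (hP : P ≤ S) {P' : Subgroup Ω'} (hP' : imageAlong θ P = P') (φ : P →* Ω)
    (hφS : ∀ x : P, φ x ∈ S) : InducedAlong θ φ (pushHom θ hinj hP hP' φ hφS) :=
  ⟨hP, hφS, fun x => hP' ▸ apply_mem_imageAlong θ hP x,
    fun x => pushHom_apply θ hinj hP hP' φ hφS x _⟩

/-- An induced homomorphism on the image is determined. -/
theorem inducedAlong_unique_right (θ : S →* Ω') {P : Subgroup Ω} {φ : P →* Ω}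
    {P' : Subgroup Ω'} (hP' : P' ≤ imageAlong θ P) {φ₁ φ₂ : P' →* Ω'}
    (h₁ : InducedAlong θ φ φ₁) (h₂ : InducedAlong θ φ φ₂) : φ₁ = φ₂ := by
  ext y
  obtain ⟨x, hx, hxy⟩ := (mem_imageAlong_iff θ P _).mp (hP' y.2)
  have ey : y = ⟨θ ⟨((⟨x, hx⟩ : P) : Ω), x.2⟩, by rw [hxy]; exact y.2⟩ := Subtype.ext hxy.symm
  rw [ey, inducedAlong_apply θ h₁ ⟨x, hx⟩ x.2 _ (h₁.2.1 _),
    inducedAlong_apply θ h₂ ⟨x, hx⟩ x.2 _ (h₁.2.1 _)]

/-- Along an injective homomorphism, the inducing homomorphism is determined. -/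
theorem inducedAlong_unique_left (θ : S →* Ω') (hinj : Function.Injective θ) {P : Subgroup Ω}
    {φ₁ φ₂ : P →* Ω} {P' : Subgroup Ω'} {φ' : P' →* Ω'}
    (h₁ : InducedAlong θ φ₁ φ') (h₂ : InducedAlong θ φ₂ φ') : φ₁ = φ₂ := by
  ext x
  have hxS : (x : Ω) ∈ S := h₁.1 x.2
  have hx' : θ ⟨x, hxS⟩ ∈ P' := h₁.2.2.1 x
  have e1 := inducedAlong_apply θ h₁ x hxS hx' (h₁.2.1 x)
  have e2 := inducedAlong_apply θ h₂ x hxS hx' (h₂.2.1 x)
  have := hinj (e1.symm.trans e2)
  exact congrArg (fun z : S => (z : Ω)) this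

/-- The inverse of an injective homomorphism with image `S'`. -/
noncomputable def invHom (θ : S →* Ω') (hinj : Function.Injective θ) {S' : Subgroup Ω'}
    (hrange : θ.range = S') : S' →* Ω :=
  S.subtype.comp (MulEquiv.ofBijective
    (θ.codRestrict S' (fun s => hrange ▸ ⟨s, rfl⟩))
    ⟨fun x y hxy => hinj (congrArg Subtype.val hxy), by
      rintro ⟨y, hy⟩
      rw [← hrange] at hy
      obtain ⟨x, rfl⟩ := hy
      exact ⟨x, Subtype.ext rfl⟩⟩).symm.toMonoidHom

theorem invHom_mem (θ : S →* Ω') (hinj : Function.Injective θ) {S' : Subgroup Ω'}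
    (hrange : θ.range = S') (y : S') : invHom θ hinj hrange y ∈ S :=
  Subtype.property _

theorem invHom_apply (θ : S →* Ω') (hinj : Function.Injective θ) {S' : Subgroup Ω'}
    (hrange : θ.range = S') (s : S) (h : θ s ∈ S') :
    invHom θ hinj hrange ⟨θ s, h⟩ = s := by
  unfold invHom
  simp only [MonoidHom.comp_apply, MulEquiv.coe_toMonoidHom, Subgroup.subtype_apply]
  congr 1
  rw [MulEquiv.symm_apply_eq]
  exact Subtype.ext rfl

theorem apply_invHom (θ : S →* Ω') (hinj : Function.Injective θ) {S' : Subgroup Ω'}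
    (hrange : θ.range = S') (y : S') :
    θ ⟨invHom θ hinj hrange y, invHom_mem θ hinj hrange y⟩ = y := by
  have hy : (y : Ω') ∈ θ.range := by
    rw [hrange]
    exact y.2
  obtain ⟨s, hs⟩ := hy
  have e : y = ⟨θ s, hs ▸ y.2⟩ := Subtype.ext hs.symm
  rw [e]
  congr 1
  exact Subtype.ext (invHom_apply θ hinj hrange s _)

theorem invHom_injective (θ : S →* Ω') (hinj : Function.Injective θ) {S' : Subgroup Ω'}
    (hrange : θ.range = S') : Function.Injective (invHom θ hinj hrange) := by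
  intro y z hyz
  apply Subtype.ext
  rw [← apply_invHom θ hinj hrange y, ← apply_invHom θ hinj hrange z]
  congr 1
  exact Subtype.ext hyz

theorem invHom_range (θ : S →* Ω') (hinj : Function.Injective θ) {S' : Subgroup Ω'}
    (hrange : θ.range = S') : (invHom θ hinj hrange).range = S := by
  ext x
  constructor
  · rintro ⟨y, rfl⟩
    exact invHom_mem θ hinj hrange y
  · intro hx
    exact ⟨⟨θ ⟨x, hx⟩, hrange ▸ ⟨_, rfl⟩⟩, invHom_apply θ hinj hrange ⟨x, hx⟩ _⟩

theorem preimageAlong_invHom (θ : S →* Ω') (hinj : Function.Injective θ) {S' : Subgroup Ω'}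
    (hrange : θ.range = S') (P : Subgroup Ω) :
    preimageAlong (invHom θ hinj hrange) P = imageAlong θ P := by
  ext y
  rw [mem_preimageAlong, mem_imageAlong_iff]
  constructor
  · rintro ⟨hy, h⟩
    refine ⟨⟨invHom θ hinj hrange ⟨y, hy⟩, invHom_mem θ hinj hrange _⟩, h, ?_⟩
    exact apply_invHom θ hinj hrange ⟨y, hy⟩
  · rintro ⟨x, hx, rfl⟩
    have h : θ x ∈ S' := hrange ▸ ⟨x, rfl⟩
    refine ⟨h, ?_⟩
    rw [invHom_apply θ hinj hrange x h]
    exact hx

theorem imageAlong_invHom (θ : S →* Ω') (hinj : Function.Injective θ) {S' : Subgroup Ω'}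
    (hrange : θ.range = S') (P' : Subgroup Ω') :
    imageAlong (invHom θ hinj hrange) P' = preimageAlong θ (P' ⊓ S') := by
  ext x
  rw [mem_preimageAlong, mem_imageAlong_iff]
  constructor
  · rintro ⟨y, hy, rfl⟩
    refine ⟨invHom_mem θ hinj hrange y, ?_⟩
    rw [apply_invHom θ hinj hrange y]
    exact ⟨hy, y.2⟩
  · rintro ⟨hx, h⟩
    exact ⟨⟨θ ⟨x, hx⟩, h.2⟩, h.1, invHom_apply θ hinj hrange ⟨x, hx⟩ _⟩

end ImageBasic

section Iso

variable {Ω Ω' : Type*} [Group Ω] [Group Ω'] {S : Subgroup Ω} {S' : Subgroup Ω'}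
  {F : FusionSystem S} {θ : S →* Ω'} {F' : FusionSystem S'}

theorem iso_injective (h : F.IsFactorSystem ⊥ θ F') : Function.Injective θ := by
  rw [injective_iff_map_eq_one]
  intro s hs
  have := (h.2.1 s).mp hs
  exact Subtype.ext (Subgroup.mem_bot.mp this)

theorem iso_range (h : F.IsFactorSystem ⊥ θ F') : θ.range = S' := h.2.2.1

theorem iso_apply_mem (h : F.IsFactorSystem ⊥ θ F') (s : S) : θ s ∈ S' := by
  rw [← iso_range h]
  exact ⟨s, rfl⟩

/-- Pushing a map of `F` forward along the isomorphism gives a map of `F'`. -/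
theorem iso_push (h : F.IsFactorSystem ⊥ θ F') {P : Subgroup Ω} {φ : P →* Ω}
    (hφ : φ ∈ F.Hom P) {P' : Subgroup Ω'} (hP' : imageAlong θ P = P') :
    pushHom θ (iso_injective h) (F.le_of_mem hφ).1 hP' φ (F.le_of_mem hφ).2 ∈ F'.Hom P' := by
  have hinj := iso_injective h
  have hPS := (F.le_of_mem hφ).1
  have hφS := (F.le_of_mem hφ).2
  have hpre : preimageAlong θ P' = P := by
    rw [← hP']
    exact preimageAlong_imageAlong_inj θ hinj hPS
  have hP'S : P' ≤ S' := by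
    rw [← hP']
    exact imageAlong_le_of_range θ (iso_range h) P
  refine (h.2.2.2 P' _).mpr ⟨hP'S, φ.comp (Subgroup.inclusion hpre.le),
    cast_mem F hpre hφ, ?_⟩
  refine ⟨preimageAlong_le θ P', fun x => hφS _, fun x => preimageAlong_map_mem θ P' x, ?_⟩
  intro x
  exact pushHom_apply θ hinj hPS hP' φ hφS (Subgroup.inclusion hpre.le x) _

theorem iso_push_exists (h : F.IsFactorSystem ⊥ θ F') {P : Subgroup Ω} {φ : P →* Ω}
    (hφ : φ ∈ F.Hom P) {P' : Subgroup Ω'} (hP' : imageAlong θ P = P') :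
    ∃ φ' ∈ F'.Hom P', InducedAlong θ φ φ' :=
  ⟨_, iso_push h hφ hP', pushHom_induced θ (iso_injective h) _ hP' φ _⟩

/-- Pulling a map of `F'` back along the isomorphism gives a map of `F`. -/
theorem iso_pull (h : F.IsFactorSystem ⊥ θ F') {P' : Subgroup Ω'} {φ' : P' →* Ω'}
    (hφ' : φ' ∈ F'.Hom P') {P : Subgroup Ω} (hP : preimageAlong θ P' = P) :
    ∃ φ ∈ F.Hom P, InducedAlong θ φ φ' := by
  subst hP
  exact ((h.2.2.2 P' φ').mp hφ').2

theorem iso_mem_of_induced (h : F.IsFactorSystem ⊥ θ F') {P : Subgroup Ω} (hP : P ≤ S)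
    {φ : P →* Ω} {P' : Subgroup Ω'} {φ' : P' →* Ω'} (hφ' : φ' ∈ F'.Hom P')
    (hP' : imageAlong θ P = P') (hind : InducedAlong θ φ φ') : φ ∈ F.Hom P := by
  have hinj := iso_injective h
  have hpre : preimageAlong θ P' = P := by
    rw [← hP']
    exact preimageAlong_imageAlong_inj θ hinj hP
  obtain ⟨ψ, hψ, hψind⟩ := iso_pull h hφ' hpre
  rw [inducedAlong_unique_left θ hinj hind hψind]
  exact hψ

theorem iso_mem_of_induced' (h : F.IsFactorSystem ⊥ θ F') {P : Subgroup Ω}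
    {φ : P →* Ω} (hφ : φ ∈ F.Hom P) {P' : Subgroup Ω'} {φ' : P' →* Ω'}
    (hP' : imageAlong θ P = P') (hind : InducedAlong θ φ φ') : φ' ∈ F'.Hom P' := by
  have h1 := iso_push h hφ hP'
  have h2 := pushHom_induced θ (iso_injective h) (F.le_of_mem hφ).1 hP' φ (F.le_of_mem hφ).2
  rw [inducedAlong_unique_right θ hP'.ge hind h2]
  exact h1

/-- The inverse of an isomorphism of fusion systems is an isomorphism. -/
theorem iso_symm (h : F.IsFactorSystem ⊥ θ F') :
    F'.IsFactorSystem ⊥ (invHom θ (iso_injective h) (iso_range h)) F := by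
  have hinj := iso_injective h
  have hrange := iso_range h
  refine ⟨bot_le, fun y => ?_, invHom_range θ hinj hrange, fun P φ => ?_⟩
  · constructor
    · intro hy
      have h1 : invHom θ hinj hrange y = invHom θ hinj hrange 1 := by rw [hy, map_one]
      have := invHom_injective θ hinj hrange h1
      rw [this]
      exact Subgroup.mem_bot.mpr rfl
    · intro hy
      have : y = 1 := Subtype.ext (Subgroup.mem_bot.mp hy)
      rw [this, map_one]
  · have hpre := preimageAlong_invHom θ hinj hrange P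
    constructor
    · intro hφ
      have hPS := (F.le_of_mem hφ).1
      have hφS := (F.le_of_mem hφ).2
      refine ⟨hPS, pushHom θ hinj hPS hpre.symm φ hφS, iso_push h hφ hpre.symm, ?_⟩
      have hP''S : preimageAlong (invHom θ hinj hrange) P ≤ S' := preimageAlong_le _ _
      refine ⟨hP''S, fun y => ?_, fun y => preimageAlong_map_mem _ P y, fun y => ?_⟩
      · rw [pushHom_apply']
        exact iso_apply_mem h _
      · have e1 : invHom θ hinj hrange ⟨(y : Ω'), hP''S y.2⟩ =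
            ((imgEquiv θ hinj hPS hpre.symm).symm y : P) := by
          have h2 := apply_imgEquiv_symm θ hinj hPS hpre.symm y
          have h3 : (⟨(y : Ω'), hP''S y.2⟩ : S') = ⟨θ ⟨((imgEquiv θ hinj hPS hpre.symm).symm y : P),
              hPS ((imgEquiv θ hinj hPS hpre.symm).symm y).2⟩, by rw [h2]; exact hP''S y.2⟩ :=
            Subtype.ext h2.symm
          rw [h3, invHom_apply]
        have e2 : (⟨invHom θ hinj hrange ⟨(y : Ω'), hP''S y.2⟩,
            preimageAlong_map_mem _ P y⟩ : P) = (imgEquiv θ hinj hPS hpre.symm).symm y :=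
          Subtype.ext e1
        rw [e2]
        have e3 : (⟨pushHom θ hinj hPS hpre.symm φ hφS y, by
            rw [pushHom_apply']; exact iso_apply_mem h _⟩ : S') =
            ⟨θ ⟨φ ((imgEquiv θ hinj hPS hpre.symm).symm y), hφS _⟩, iso_apply_mem h _⟩ :=
          Subtype.ext (pushHom_apply' θ hinj hPS hpre.symm φ hφS y)
        rw [e3, invHom_apply]
    · rintro ⟨hPS, φ', hφ', hind⟩
      obtain ⟨hP''S, hφ'S, hmap, he⟩ := hind
      have hmemP'' : ∀ x : P, θ ⟨x, hPS x.2⟩ ∈ preimageAlong (invHom θ hinj hrange) P := by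
        intro x
        rw [hpre]
        exact apply_mem_imageAlong θ hPS x
      have hinvx : ∀ x : P, invHom θ hinj hrange ⟨θ ⟨x, hPS x.2⟩, hP''S (hmemP'' x)⟩ = x :=
        fun x => invHom_apply θ hinj hrange ⟨x, hPS x.2⟩ _
      have hφx : ∀ x : P, φ x = invHom θ hinj hrange ⟨φ' ⟨θ ⟨x, hPS x.2⟩, hmemP'' x⟩, hφ'S _⟩ := by
        intro x
        rw [← he ⟨θ ⟨x, hPS x.2⟩, hmemP'' x⟩]
        congr 1
        exact Subtype.ext (hinvx x).symm
      have hφS : ∀ x : P, φ x ∈ S := by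
        intro x
        rw [hφx x]
        exact invHom_mem θ hinj hrange _
      refine iso_mem_of_induced h hPS hφ' hpre.symm ⟨hPS, hφS, hmemP'', fun x => ?_⟩
      have h4 := apply_invHom θ hinj hrange ⟨φ' ⟨θ ⟨x, hPS x.2⟩, hmemP'' x⟩, hφ'S _⟩
      refine Eq.trans h4.symm ?_
      congr 1
      exact Subtype.ext (hφx x).symm

end Iso

end Cfsg.Agent.Helper25
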