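import Mathlib
import Cfsg.Agent.Helper25.FusionIso

set_option autoImplicit false

/-! Transport of properties along isomorphisms of fusion systems: strongly closed subgroups,
subsystems, invariance, saturation, normal subsystems. -/

namespace Cfsg.Agent.Helper25

open Cfsg Cfsg.FusionSystem

section Compat

variable {Ω Ω' : Type*} [Group Ω] [Group Ω'] {S T : Subgroup Ω}

theorem imageAlong_restrict {θ : S →* Ω'} (hTS : T ≤ S) {θT : T →* Ω'}
    (hθT : ∀ x : T, θT x = θ ⟨x, hTS x.2⟩) {P : Subgroup Ω} (hP : P ≤ T) :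
    imageAlong θT P = imageAlong θ P := by
  ext y
  rw [mem_imageAlong_iff, mem_imageAlong_iff]
  constructor
  · rintro ⟨x, hx, rfl⟩
    exact ⟨⟨x, hTS x.2⟩, hx, (hθT x).symm⟩
  · rintro ⟨x, hx, rfl⟩
    exact ⟨⟨x, hP hx⟩, hx, hθT _⟩

theorem preimageAlong_restrict {θ : S →* Ω'} (hinj : Function.Injective θ) (hTS : T ≤ S)
    {θT : T →* Ω'} (hθT : ∀ x : T, θT x = θ ⟨x, hTS x.2⟩) {P' : Subgroup Ω'}
    (hP' : P' ≤ θT.range) : preimageAlong θT P' = preimageAlong θ P' := by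
  ext x
  rw [mem_preimageAlong, mem_preimageAlong]
  constructor
  · rintro ⟨hx, h⟩
    refine ⟨hTS hx, ?_⟩
    rw [hθT] at h
    exact h
  · rintro ⟨hx, h⟩
    obtain ⟨t, ht⟩ := hP' h
    rw [hθT] at ht
    have := hinj ht
    have hxT : x ∈ T := by
      have e : (t : Ω) = x := congrArg (fun w : S => (w : Ω)) this
      rw [← e]
      exact t.2
    refine ⟨hxT, ?_⟩
    rw [hθT]
    exact h

theorem inducedAlong_restrict {θ : S →* Ω'} (hTS : T ≤ S) {θT : T →* Ω'}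
    (hθT : ∀ x : T, θT x = θ ⟨x, hTS x.2⟩) {P : Subgroup Ω} {φ : P →* Ω} {P' : Subgroup Ω'}
    {φ' : P' →* Ω'} (h : InducedAlong θT φ φ') : InducedAlong θ φ φ' := by
  obtain ⟨hP, hφT, hP', he⟩ := h
  refine ⟨hP.trans hTS, fun x => hTS (hφT x), fun x => ?_, fun x => ?_⟩
  · have := hP' x
    rw [hθT] at this
    exact this
  · have h1 := he x
    refine Eq.trans ?_ (h1.trans (hθT ⟨φ x, hφT x⟩))
    congr 1
    exact Subtype.ext (hθT ⟨x, hP x.2⟩).symm

theorem inducedAlong_corestrict {θ : S →* Ω'} (hTS : T ≤ S) {θT : T →* Ω'}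
    (hθT : ∀ x : T, θT x = θ ⟨x, hTS x.2⟩) {P : Subgroup Ω} (hP : P ≤ T) {φ : P →* Ω}
    (hφT : ∀ x : P, φ x ∈ T) {P' : Subgroup Ω'}
    {φ' : P' →* Ω'} (h : InducedAlong θ φ φ') : InducedAlong θT φ φ' := by
  obtain ⟨hPS, hφS, hP', he⟩ := h
  refine ⟨hP, hφT, fun x => ?_, fun x => ?_⟩
  · rw [hθT]
    exact hP' x
  · have h1 := he x
    refine Eq.trans ?_ (h1.trans (hθT ⟨φ x, hφT x⟩).symm)
    congr 1
    exact Subtype.ext (hθT ⟨x, hP x.2⟩)

theorem inducedAlong_apply_eq (θ : S →* Ω') {P : Subgroup Ω} {φ : P →* Ω} {P' : Subgroup Ω'}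
    {φ' : P' →* Ω'} (h : InducedAlong θ φ φ') (x : P) (y : P') (hxS : (x : Ω) ∈ S)
    (hxy : (y : Ω') = θ ⟨x, hxS⟩) (hφS : φ x ∈ S) : φ' y = θ ⟨φ x, hφS⟩ := by
  have e : y = ⟨θ ⟨x, hxS⟩, hxy ▸ y.2⟩ := Subtype.ext hxy
  rw [e]
  exact inducedAlong_apply θ h x hxS _ hφS

theorem pushHom_apply_eq (θ : S →* Ω') (hinj : Function.Injective θ) {P : Subgroup Ω}
    (hP : P ≤ S) {P' : Subgroup Ω'} (hP' : imageAlong θ P = P') (φ : P →* Ω)
    (hφS : ∀ x : P, φ x ∈ S) (x : P) (y : P') (hxy : (y : Ω') = θ ⟨x, hP x.2⟩) :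
    pushHom θ hinj hP hP' φ hφS y = θ ⟨φ x, hφS x⟩ := by
  have e : y = ⟨θ ⟨x, hP x.2⟩, hxy ▸ y.2⟩ := Subtype.ext hxy
  rw [e]
  exact pushHom_apply θ hinj hP hP' φ hφS x _

theorem imageAlong_sup (θ : S →* Ω') {A B : Subgroup Ω} (hA : A ≤ S) (hB : B ≤ S) :
    imageAlong θ (A ⊔ B) = imageAlong θ A ⊔ imageAlong θ B := by
  unfold imageAlong
  rw [Subgroup.subgroupOf_sup hA hB, Subgroup.map_sup]

theorem imageAlong_centralizerIn (θ : S →* Ω') (hinj : Function.Injective θ)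
    {S' : Subgroup Ω'} (hrange : θ.range = S') (hTS : T ≤ S) :
    imageAlong θ (centralizerIn S T) = centralizerIn S' (imageAlong θ T) := by
  ext y
  rw [mem_imageAlong_iff]
  constructor
  · rintro ⟨x, hx, rfl⟩
    refine ⟨hrange ▸ ⟨x, rfl⟩, ?_⟩
    intro z hz
    obtain ⟨t, ht, rfl⟩ := (mem_imageAlong_iff θ T z).mp hz
    have h1 : (t : Ω) * x = x * t := hx.2 t ht
    have h2 : t * x = x * t := Subtype.ext h1
    rw [← map_mul, ← map_mul, h2]
  · rintro ⟨hyS, hyc⟩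
    rw [← hrange] at hyS
    obtain ⟨x, rfl⟩ := hyS
    refine ⟨x, ⟨x.2, ?_⟩, rfl⟩
    intro t ht
    have h1 := hyc (θ ⟨t, hTS ht⟩) (apply_mem_imageAlong θ hTS ⟨t, ht⟩)
    rw [← map_mul, ← map_mul] at h1
    have h2 := hinj h1
    exact congrArg (fun w : S => (w : Ω)) h2

theorem imageAlong_inf_centralizer (θ : S →* Ω') (hTS : T ≤ S) {z : Ω}
    (hz : z ∈ T ⊓ Subgroup.centralizer (T : Set Ω)) :
    θ ⟨z, hTS hz.1⟩ ∈ imageAlong θ T ⊓ Subgroup.centralizer (imageAlong θ T : Set Ω') := by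
  refine ⟨apply_mem_imageAlong θ hTS ⟨z, hz.1⟩, ?_⟩
  intro w hw
  obtain ⟨t, ht, rfl⟩ := (mem_imageAlong_iff θ T w).mp hw
  have h1 : (t : Ω) * z = z * t := hz.2 t ht
  have h2 : t * ⟨z, hTS hz.1⟩ = ⟨z, hTS hz.1⟩ * t := Subtype.ext h1
  rw [← map_mul, ← map_mul, h2]

end Compat

section Transport

variable {Ω Ω' : Type*} [Group Ω] [Group Ω'] {S : Subgroup Ω} {S' : Subgroup Ω'}
  {F : FusionSystem S} {θ : S →* Ω'} {F' : FusionSystem S'}

/-- The image of a strongly closed subgroup under an isomorphism is strongly closed. -/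
theorem iso_stronglyClosed (h : F.IsFactorSystem ⊥ θ F') {T : Subgroup Ω}
    (hT : F.StronglyClosed T) : F'.StronglyClosed (imageAlong θ T) := by
  have hinj := iso_injective h
  have hrange := iso_range h
  refine ⟨imageAlong_le_of_range θ hrange T, ?_⟩
  intro R' hR' φ' hφ' x'
  have hR'S : R' ≤ S' := (F'.le_of_mem hφ').1
  obtain ⟨φ, hφ, hind⟩ := iso_pull h hφ' rfl
  obtain ⟨x, hx⟩ := exists_preimageAlong θ hrange hR'S x'
  have hRT : preimageAlong θ R' ≤ T := by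
    have := preimageAlong_mono θ hR'
    rwa [preimageAlong_imageAlong_inj θ hinj hT.1] at this
  have h1 := inducedAlong_apply θ hind x (preimageAlong_le θ R' x.2)
    (preimageAlong_map_mem θ R' x) ((F.le_of_mem hφ).2 x)
  have e : x' = ⟨θ ⟨x, preimageAlong_le θ R' x.2⟩, preimageAlong_map_mem θ R' x⟩ :=
    Subtype.ext hx.symm
  rw [e, h1]
  have h2 : φ x ∈ T := hT.2 _ hRT φ hφ x
  exact (mem_imageAlong_iff θ T _).mpr ⟨_, h2, rfl⟩

variable {T : Subgroup Ω} {T' : Subgroup Ω'} {E : FusionSystem T} {θT : T →* Ω'}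
  {E' : FusionSystem T'}

theorem iso_sub_range (hTS : T ≤ S) (hθT : ∀ x : T, θT x = θ ⟨x, hTS x.2⟩)
    (hE' : E.IsFactorSystem ⊥ θT E') : imageAlong θ T = T' := by
  rw [← imageAlong_restrict hTS hθT le_rfl, imageAlong_self]
  exact iso_range hE'

/-- Subsystems are carried to subsystems. -/
theorem iso_isSubsystemOf (h : F.IsFactorSystem ⊥ θ F') (hTS : T ≤ S)
    (hθT : ∀ x : T, θT x = θ ⟨x, hTS x.2⟩) (hE' : E.IsFactorSystem ⊥ θT E')
    (hEF : E.IsSubsystemOf F) : E'.IsSubsystemOf F' := by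
  intro P' φ' hφ'
  have hP'T' : P' ≤ T' := (E'.le_of_mem hφ').1
  obtain ⟨φ, hφ, hind⟩ := iso_pull hE' hφ' rfl
  have hPT : preimageAlong θT P' ≤ T := preimageAlong_le θT P'
  have himg : imageAlong θ (preimageAlong θT P') = P' := by
    rw [← imageAlong_restrict hTS hθT hPT]
    exact imageAlong_preimageAlong θT (iso_range hE') hP'T'
  exact iso_mem_of_induced' h (hEF _ hφ) himg (inducedAlong_restrict hTS hθT hind)

/-- Strong invariance is carried along an isomorphism. -/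
theorem iso_strongInv (h : F.IsFactorSystem ⊥ θ F') (hTS : T ≤ S)
    (hθT : ∀ x : T, θT x = θ ⟨x, hTS x.2⟩) (hE' : E.IsFactorSystem ⊥ θT E')
    (hSI : StrongInv E F) : StrongInv E' F' := by
  have hinj := iso_injective h
  have hinjT := iso_injective hE'
  have hrangeT := iso_range hE'
  intro P' Q' hPQ' hQ'T' φ' hφ' hφQ' ψ' hψ'
  have hP'T' : P' ≤ T' := hPQ'.trans hQ'T'
  have hPQ : preimageAlong θT P' ≤ preimageAlong θT Q' := preimageAlong_mono θT hPQ'
  have hQT : preimageAlong θT Q' ≤ T := preimageAlong_le θT Q'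
  have hPT : preimageAlong θT P' ≤ T := preimageAlong_le θT P'
  obtain ⟨φ, hφ, hindφ⟩ := iso_pull hE' hφ' rfl
  have hQ'r : Q' ≤ θT.range := by rw [hrangeT]; exact hQ'T'
  obtain ⟨ψ, hψ, hindψ⟩ := iso_pull h hψ' (preimageAlong_restrict hinj hTS hθT hQ'r).symm
  have hφT : ∀ x : preimageAlong θT P', φ x ∈ T := (E.le_of_mem hφ).2
  have hψS : ∀ x : preimageAlong θT Q', ψ x ∈ S := (F.le_of_mem hψ).2
  -- the value of φ' on images
  have hφ'val : ∀ (x : preimageAlong θT P') (x' : P'), (x' : Ω') = θT ⟨x, hPT x.2⟩ →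
      φ' x' = θT ⟨φ x, hφT x⟩ := fun x x' hx =>
    inducedAlong_apply_eq θT hindφ x x' (hPT x.2) hx (hφT x)
  have hψ'val : ∀ (x : preimageAlong θT Q') (x' : Q'), (x' : Ω') = θT ⟨x, hQT x.2⟩ →
      ψ' x' = θ ⟨ψ x, hψS x⟩ := fun x x' hx =>
    inducedAlong_apply_eq θ hindψ x x' (hTS (hQT x.2)) (hx.trans (hθT _)) (hψS x)
  have hφQ : ∀ x : preimageAlong θT P', φ x ∈ preimageAlong θT Q' := by
    intro x
    refine (mem_preimageAlong θT Q' _).mpr ⟨hφT x, ?_⟩
    have h1 := hφ'val x ⟨θT ⟨x, hPT x.2⟩, preimageAlong_map_mem θT P' x⟩ rfl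
    rw [← h1]
    exact hφQ' _
  obtain ⟨χ, hχ, hχe⟩ := hSI _ _ hPQ hQT φ hφ hφQ ψ hψ
  have hRT : ((preimageAlong θT P').subgroupOf (preimageAlong θT Q')).map ψ ≤ T :=
    (E.le_of_mem hχ).1
  have hχT := (E.le_of_mem hχ).2
  -- the image of the source of χ
  have hR' : imageAlong θT (((preimageAlong θT P').subgroupOf (preimageAlong θT Q')).map ψ) =
      (P'.subgroupOf Q').map ψ' := by
    ext y
    rw [mem_imageAlong_iff]
    constructor
    · rintro ⟨r, ⟨q, hq, hqr⟩, rfl⟩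
      have hq' : (q : Ω) ∈ preimageAlong θT P' := hq
      refine ⟨⟨θT ⟨q, hQT q.2⟩, preimageAlong_map_mem θT Q' q⟩, ?_, ?_⟩
      · exact preimageAlong_map_mem θT P' ⟨q, hq'⟩
      · rw [hψ'val q _ rfl, hθT]
        congr 1
        exact Subtype.ext hqr
    · rintro ⟨q', hq', rfl⟩
      have hq'P : (q' : Ω') ∈ P' := hq'
      obtain ⟨x, hx⟩ := exists_preimageAlong θT hrangeT hP'T' ⟨q', hq'P⟩
      have hxQ : (x : Ω) ∈ preimageAlong θT Q' := hPQ x.2
      have hmem : ψ ⟨x, hxQ⟩ ∈ ((preimageAlong θT P').subgroupOf (preimageAlong θT Q')).map ψ :=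
        ⟨⟨x, hxQ⟩, x.2, rfl⟩
      refine ⟨⟨ψ ⟨x, hxQ⟩, hRT hmem⟩, hmem, ?_⟩
      rw [hψ'val ⟨x, hxQ⟩ q' hx.symm, hθT]
  refine ⟨pushHom θT hinjT hRT hR' χ hχT, iso_push hE' hχ hR', ?_⟩
  intro x' hx'
  obtain ⟨x, hx⟩ := exists_preimageAlong θT hrangeT hP'T' x'
  have hxQ : (x : Ω) ∈ preimageAlong θT Q' := hPQ x.2
  have hmem : ψ (Subgroup.inclusion hPQ x) ∈
      ((preimageAlong θT P').subgroupOf (preimageAlong θT Q')).map ψ :=
    ⟨Subgroup.inclusion hPQ x, x.2, rfl⟩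
  have e1 : ψ' (Subgroup.inclusion hPQ' x') = θT ⟨ψ (Subgroup.inclusion hPQ x), hRT hmem⟩ := by
    rw [hψ'val (Subgroup.inclusion hPQ x) (Subgroup.inclusion hPQ' x') hx.symm, hθT]
  rw [pushHom_apply_eq θT hinjT hRT hR' χ hχT ⟨ψ (Subgroup.inclusion hPQ x), hmem⟩ _ e1]
  have e2 : χ ⟨ψ (Subgroup.inclusion hPQ x), hmem⟩ = ψ ⟨φ x, hφQ x⟩ := hχe x hmem
  have e3 : (⟨φ' x', hφQ' x'⟩ : Q') = ⟨θT ⟨φ x, hφT x⟩, by
      rw [← hφ'val x x' hx.symm]; exact hφQ' x'⟩ := Subtype.ext (hφ'val x x' hx.symm)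
  rw [e3, hψ'val ⟨φ x, hφQ x⟩ _ rfl, hθT]
  congr 1
  exact Subtype.ext e2

theorem iso_finite [Finite S] (h : F.IsFactorSystem ⊥ θ F') : Finite S' :=
  Finite.of_surjective (fun s : S => (⟨θ s, iso_apply_mem h s⟩ : S')) (by
    rintro ⟨y, hy⟩
    rw [← iso_range h] at hy
    obtain ⟨s, rfl⟩ := hy
    exact ⟨s, rfl⟩)

theorem iso_isPGroup (h : F.IsFactorSystem ⊥ θ F') {p : ℕ} (hS : IsPGroup p S) :
    IsPGroup p S' := by
  have hrange := iso_range h
  subst hrange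
  exact IsPGroup.of_surjective hS θ.rangeRestrict θ.rangeRestrict_surjective

theorem iso_isSaturated [Finite S] (p : ℕ) [Fact p.Prime] (hS : IsPGroup p S)
    (h : F.IsFactorSystem ⊥ θ F') (hF : F.IsSaturated p) : F'.IsSaturated p :=
  factor_isSaturated F (bot_stronglyClosed F) θ h.2.1 h.2.2.1 F' h.2.2.2 p hS hF

/-- Invariant subsystems of saturated systems are carried to invariant subsystems. -/
theorem iso_isInvariantIn [Finite S] (p : ℕ) [Fact p.Prime] (hS : IsPGroup p S)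
    (h : F.IsFactorSystem ⊥ θ F') (hF : F.IsSaturated p) (hTS : T ≤ S)
    (hθT : ∀ x : T, θT x = θ ⟨x, hTS x.2⟩) (hE' : E.IsFactorSystem ⊥ θT E')
    (hinv : E.IsInvariantIn F) : E'.IsInvariantIn F' := by
  have := iso_finite h
  have hS' := iso_isPGroup h hS
  have hF' := iso_isSaturated p hS h hF
  have hsub := iso_isSubsystemOf h hTS hθT hE' hinv.1
  have hT' : F'.StronglyClosed T' := by
    rw [← iso_sub_range hTS hθT hE']
    exact iso_stronglyClosed h hinv.2.1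
  exact (isInvariantIn_iff_strongInv p hS' F' hF' E' hsub hT').mpr
    (iso_strongInv h hTS hθT hE' (strongInv_of_isInvariantIn hinv))

/-- Automorphisms in `Aut_F(P)` are carried to `Aut_{F'}(P')`. -/
theorem iso_congr_mem_autGroup (h : F.IsFactorSystem ⊥ θ F') {P : Subgroup Ω} (hP : P ≤ S)
    {P' : Subgroup Ω'} (hP' : imageAlong θ P = P') {α : MulAut P} (hα : α ∈ F.autGroup P) :
    MulAut.congr (imgEquiv θ (iso_injective h) hP hP') α ∈ F'.autGroup P' := by
  have hP'S : P' ≤ S' := by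
    rw [← hP']
    exact imageAlong_le_of_range θ (iso_range h) P
  rw [mem_autGroup_iff F' hP'S]
  have hαF := (mem_autGroup_iff F hP α).mp hα
  have e : autHom (MulAut.congr (imgEquiv θ (iso_injective h) hP hP') α) =
      pushHom θ (iso_injective h) (F.le_of_mem hαF).1 hP' (autHom α) (F.le_of_mem hαF).2 := by
    ext y
    rfl
  rw [e]
  exact iso_push h hαF hP'

theorem iso_congr_symm_mem_autGroup (h : F.IsFactorSystem ⊥ θ F') {P : Subgroup Ω} (hP : P ≤ S)
    {P' : Subgroup Ω'} (hP' : imageAlong θ P = P') {α' : MulAut P'} (hα' : α' ∈ F'.autGroup P') :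
    (MulAut.congr (imgEquiv θ (iso_injective h) hP hP')).symm α' ∈ F.autGroup P := by
  have hinj := iso_injective h
  have hP'S : P' ≤ S' := by
    rw [← hP']
    exact imageAlong_le_of_range θ (iso_range h) P
  rw [mem_autGroup_iff F hP]
  have hα'F := (mem_autGroup_iff F' hP'S α').mp hα'
  refine iso_mem_of_induced h hP hα'F hP' ⟨hP, fun x => hP (Subtype.property _),
    fun x => hP' ▸ apply_mem_imageAlong θ hP x, fun x => ?_⟩
  have e : (⟨θ ⟨x, hP x.2⟩, hP' ▸ apply_mem_imageAlong θ hP x⟩ : P') =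
      imgEquiv θ hinj hP hP' x := Subtype.ext rfl
  rw [e]
  exact (apply_imgEquiv_symm θ hinj hP hP' (α' (imgEquiv θ hinj hP hP' x))).symm

/-- The extension condition for normal subsystems is carried along an isomorphism. -/
theorem iso_extension (h : F.IsFactorSystem ⊥ θ F') (hTS : T ≤ S)
    (hθT : ∀ x : T, θT x = θ ⟨x, hTS x.2⟩) (hE' : E.IsFactorSystem ⊥ θT E')
    (hext : ∀ α ∈ E.autGroup T, ∃ β ∈ F.autGroup (T ⊔ centralizerIn S T),
      (∀ x : T, ((β (Subgroup.inclusion le_sup_left x) : ↥(T ⊔ centralizerIn S T)) : Ω) =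
        ((α x : T) : Ω)) ∧
      ∀ c : ↥(T ⊔ centralizerIn S T), (c : Ω) ∈ centralizerIn S T →
        (c : Ω)⁻¹ * ((β c : ↥(T ⊔ centralizerIn S T)) : Ω) ∈
          T ⊓ Subgroup.centralizer (T : Set Ω)) :
    ∀ α' ∈ E'.autGroup T', ∃ β' ∈ F'.autGroup (T' ⊔ centralizerIn S' T'),
      (∀ x : T', ((β' (Subgroup.inclusion le_sup_left x) : ↥(T' ⊔ centralizerIn S' T')) : Ω') =
        ((α' x : T') : Ω')) ∧
      ∀ c : ↥(T' ⊔ centralizerIn S' T'), (c : Ω') ∈ centralizerIn S' T' →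
        (c : Ω')⁻¹ * ((β' c : ↥(T' ⊔ centralizerIn S' T')) : Ω') ∈
          T' ⊓ Subgroup.centralizer (T' : Set Ω') := by
  have hinj := iso_injective h
  have hinjT := iso_injective hE'
  have hrange := iso_range h
  intro α' hα'
  have hT' : imageAlong θT T = T' := (imageAlong_self θT).trans (iso_range hE')
  have hθTT' : imageAlong θ T = T' := iso_sub_range hTS hθT hE'
  obtain ⟨β, hβ, hβext, hβc⟩ := hext _ (iso_congr_symm_mem_autGroup hE' le_rfl hT' hα')
  have hNS : T ⊔ centralizerIn S T ≤ S := sup_le hTS inf_le_left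
  have hCimg : imageAlong θ (centralizerIn S T) = centralizerIn S' T' := by
    rw [imageAlong_centralizerIn θ hinj hrange hTS, hθTT']
  have hN' : imageAlong θ (T ⊔ centralizerIn S T) = T' ⊔ centralizerIn S' T' := by
    have hCS : centralizerIn S T ≤ S := inf_le_left
    rw [imageAlong_sup θ hTS hCS, hCimg, hθTT']
  refine ⟨MulAut.congr (imgEquiv θ hinj hNS hN') β, iso_congr_mem_autGroup h hNS hN' hβ, ?_, ?_⟩
  · intro x'
    have hx'val : θ ⟨((imgEquiv θT hinjT le_rfl hT').symm x' : T),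
        hTS ((imgEquiv θT hinjT le_rfl hT').symm x').2⟩ = x' := by
      rw [← hθT]
      exact apply_imgEquiv_symm θT hinjT le_rfl hT' x'
    have e1 : (imgEquiv θ hinj hNS hN').symm (Subgroup.inclusion le_sup_left x') =
        Subgroup.inclusion le_sup_left ((imgEquiv θT hinjT le_rfl hT').symm x') := by
      rw [MulEquiv.symm_apply_eq]
      exact Subtype.ext hx'val.symm
    show θ ⟨(β ((imgEquiv θ hinj hNS hN').symm (Subgroup.inclusion le_sup_left x')) :
      ↥(T ⊔ centralizerIn S T)), _⟩ = _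
    have e2 := hβext ((imgEquiv θT hinjT le_rfl hT').symm x')
    rw [← e1] at e2
    have e3 : ((((MulAut.congr (imgEquiv θT hinjT le_rfl hT')).symm α')
        ((imgEquiv θT hinjT le_rfl hT').symm x') : T) : Ω) =
        (((imgEquiv θT hinjT le_rfl hT').symm (α' x') : T) : Ω) := by
      show (((imgEquiv θT hinjT le_rfl hT').symm (α' ((imgEquiv θT hinjT le_rfl hT')
        ((imgEquiv θT hinjT le_rfl hT').symm x'))) : T) : Ω) = _
      rw [MulEquiv.apply_symm_apply]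
    have e4 : θ ⟨(((imgEquiv θT hinjT le_rfl hT').symm (α' x') : T) : Ω),
        hTS ((imgEquiv θT hinjT le_rfl hT').symm (α' x')).2⟩ = ((α' x' : T') : Ω') := by
      rw [← hθT]
      exact apply_imgEquiv_symm θT hinjT le_rfl hT' (α' x')
    rw [← e4]
    congr 1
    exact Subtype.ext (e2.trans e3)
  · intro c' hc'
    have hcval : θ ⟨((imgEquiv θ hinj hNS hN').symm c' : ↥(T ⊔ centralizerIn S T)),
        hNS ((imgEquiv θ hinj hNS hN').symm c').2⟩ = c' :=
      apply_imgEquiv_symm θ hinj hNS hN' c'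
    have hc : (((imgEquiv θ hinj hNS hN').symm c' : ↥(T ⊔ centralizerIn S T)) : Ω) ∈
        centralizerIn S T := by
      have hc'' : (c' : Ω') ∈ imageAlong θ (centralizerIn S T) := by
        rw [hCimg]
        exact hc'
      obtain ⟨s, hs, hsc⟩ := (mem_imageAlong_iff θ _ _).mp hc''
      have h1 := hinj (hsc.trans hcval.symm)
      have h2 : (s : Ω) = ((imgEquiv θ hinj hNS hN').symm c' : ↥(T ⊔ centralizerIn S T)) :=
        congrArg (fun w : S => (w : Ω)) h1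
      rw [← h2]
      exact hs
    have h3 := hβc _ hc
    have h4 := imageAlong_inf_centralizer θ hTS h3
    rw [hθTT'] at h4
    have e5 : (c' : Ω')⁻¹ * ((MulAut.congr (imgEquiv θ hinj hNS hN') β c' :
        ↥(T' ⊔ centralizerIn S' T')) : Ω') =
        θ ⟨(((imgEquiv θ hinj hNS hN').symm c' : ↥(T ⊔ centralizerIn S T)) : Ω)⁻¹ *
          ((β ((imgEquiv θ hinj hNS hN').symm c') : ↥(T ⊔ centralizerIn S T)) : Ω),
          hTS h3.1⟩ := by
      have e6 : (⟨(((imgEquiv θ hinj hNS hN').symm c' : ↥(T ⊔ centralizerIn S T)) : Ω)⁻¹ *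
          ((β ((imgEquiv θ hinj hNS hN').symm c') : ↥(T ⊔ centralizerIn S T)) : Ω),
          hTS h3.1⟩ : S) =
          (⟨((imgEquiv θ hinj hNS hN').symm c' : ↥(T ⊔ centralizerIn S T)),
            hNS ((imgEquiv θ hinj hNS hN').symm c').2⟩ : S)⁻¹ *
          ⟨(β ((imgEquiv θ hinj hNS hN').symm c') : ↥(T ⊔ centralizerIn S T)),
            hNS (β ((imgEquiv θ hinj hNS hN').symm c')).2⟩ := Subtype.ext rfl
      rw [e6, map_mul, map_inv, hcval]
      rfl
    rw [e5]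
    exact h4

/-- Normal subsystems are carried to normal subsystems along an isomorphism. -/
theorem iso_isNormalIn [Finite S] (p : ℕ) [Fact p.Prime] (hS : IsPGroup p S)
    (h : F.IsFactorSystem ⊥ θ F') (hTS : T ≤ S)
    (hθT : ∀ x : T, θT x = θ ⟨x, hTS x.2⟩) (hE' : E.IsFactorSystem ⊥ θT E')
    (hE : E.IsNormalIn F p) : E'.IsNormalIn F' p := by
  obtain ⟨⟨hEsat, hFsat, hinv⟩, hext⟩ := hE
  have : Finite T := finite_of_le hTS
  have hTp : IsPGroup p T := hS.to_le hTS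
  exact ⟨⟨iso_isSaturated p hTp hE' hEsat, iso_isSaturated p hS h hFsat,
    iso_isInvariantIn p hS h hFsat hTS hθT hE' hinv⟩, iso_extension h hTS hθT hE' hext⟩

end Transport

end Cfsg.Agent.Helper25
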