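import Mathlib
import Cfsg.Agent.Helper25.FusionIso2

set_option autoImplicit false

/-! Uniqueness, existence, composition and cancellation of factor systems; transport of
subnormality along isomorphisms of fusion systems. -/

namespace Cfsg.Agent.Helper25

open Cfsg Cfsg.FusionSystem

section Ext

variable {Ω : Type*} [Group Ω] {S : Subgroup Ω}

theorem fusionSystem_ext {E₁ E₂ : FusionSystem S} (h : ∀ P : Subgroup Ω, E₁.Hom P = E₂.Hom P) :
    E₁ = E₂ := by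
  cases E₁
  cases E₂
  simp only [FusionSystem.mk.injEq]
  funext P
  exact h P

end Ext

section Unique

variable {Ω Ω' : Type*} [Group Ω] [Group Ω'] {S : Subgroup Ω}

/-- A factor system is determined by the system, the subgroup and the homomorphism. -/
theorem factor_unique {F : FusionSystem S} {S₀ : Subgroup Ω} {θ₁ θ₂ : S →* Ω'}
    (hθ : ∀ s : S, θ₁ s = θ₂ s)
    {S₁ S₂ : Subgroup Ω'} {F₁ : FusionSystem S₁} {F₂ : FusionSystem S₂}
    (h₁ : F.IsFactorSystem S₀ θ₁ F₁) (h₂ : F.IsFactorSystem S₀ θ₂ F₂) :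
    ∃ _ : S₁ = S₂, ∀ P' : Subgroup Ω', F₁.Hom P' = F₂.Hom P' := by
  have e : θ₁ = θ₂ := MonoidHom.ext hθ
  subst e
  have hS : S₁ = S₂ := h₁.2.2.1.symm.trans h₂.2.2.1
  refine ⟨hS, fun P' => ?_⟩
  ext φ'
  rw [h₁.2.2.2 P' φ', h₂.2.2.2 P' φ', hS]

/-- The image system along an injective homomorphism. -/
theorem exists_iso_image [Finite S] (F : FusionSystem S) (θ : S →* Ω')
    (hinj : Function.Injective θ) :
    ∃ F' : FusionSystem θ.range, F.IsFactorSystem ⊥ θ F' := by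
  have hker : ∀ s : S, θ s = 1 ↔ (s : Ω) ∈ (⊥ : Subgroup Ω) := by
    intro s
    rw [Subgroup.mem_bot]
    constructor
    · intro h
      have : s = 1 := hinj (h.trans (map_one θ).symm)
      rw [this]
      rfl
    · intro h
      have : s = 1 := Subtype.ext h
      rw [this, map_one]
  exact ⟨factorSystem F (bot_stronglyClosed F) θ hker rfl,
    factorSystem_isFactorSystem F (bot_stronglyClosed F) θ hker rfl⟩

end Unique

section Subnormal

universe u v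

variable {Ω : Type u} [Group Ω]

theorem isSubnormalIn_of_eq {S : Subgroup Ω} {F : FusionSystem S} {p : ℕ} {T : Subgroup Ω}
    {E : FusionSystem T} (hT : T = S) (hHom : ∀ P : Subgroup Ω, E.Hom P = F.Hom P) :
    E.IsSubnormalIn F p := by
  subst hT
  rw [fusionSystem_ext hHom]
  exact IsSubnormalIn.refl _ _

/-- Subnormal subsystems are carried to subnormal subsystems along an isomorphism. -/
theorem iso_isSubnormalIn {S T : Subgroup Ω} {E : FusionSystem T} {F : FusionSystem S} {p : ℕ}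
    (hsub : E.IsSubnormalIn F p) :
    ∀ [Finite S] [Fact p.Prime], IsPGroup p S →
      ∀ {Ω' : Type v} [Group Ω'] {S' T' : Subgroup Ω'} (θ : S →* Ω') (F' : FusionSystem S'),
        F.IsFactorSystem ⊥ θ F' → ∀ (θT : T →* Ω'),
          (∀ (x : T) (hx : (x : Ω) ∈ S), θT x = θ ⟨x, hx⟩) →
          ∀ (E' : FusionSystem T'), E.IsFactorSystem ⊥ θT E' → E'.IsSubnormalIn F' p := by
  induction hsub with
  | refl F p =>
    intro _ _ hS Ω' _ S' T' θ F' h θT hθT E' hE'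
    obtain ⟨hTS, hHom⟩ := factor_unique (fun s => hθT s s.2) hE' h
    exact isSubnormalIn_of_eq hTS hHom
  | @step U S E D F p hED hDF ih =>
    intro _ _ hS Ω' _ S' T' θ F' h θT hθT E' hE'
    have hUS : U ≤ S := hDF.1.2.2.2.1.1
    have : Finite U := finite_of_le hUS
    have hinj := iso_injective h
    have hinjU : Function.Injective (θ.comp (Subgroup.inclusion hUS)) :=
      hinj.comp (Subgroup.inclusion_injective hUS)
    obtain ⟨D', hD'⟩ := exists_iso_image D (θ.comp (Subgroup.inclusion hUS)) hinjU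
    have hD'F' : D'.IsNormalIn F' p := iso_isNormalIn p hS h hUS (fun x => rfl) hD' hDF
    have hE'D' : E'.IsSubnormalIn D' p :=
      ih (hS.to_le hUS) (θ.comp (Subgroup.inclusion hUS)) D' hD' θT
        (fun x hx => hθT x (hUS hx)) E' hE'
    exact IsSubnormalIn.step hE'D' hD'F'

end Subnormal

section Comp

variable {Ω Ω' Ω'' : Type*} [Group Ω] [Group Ω'] [Group Ω''] {S : Subgroup Ω}
  {S' : Subgroup Ω'} {S'' : Subgroup Ω''}

theorem inducedAlong_comp {θ : S →* Ω'} {θ' : S' →* Ω''} {γ : S →* Ω''}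
    (hθS' : ∀ s : S, θ s ∈ S') (hγ : ∀ s : S, γ s = θ' ⟨θ s, hθS' s⟩)
    {P : Subgroup Ω} {φ : P →* Ω} {P' : Subgroup Ω'} {φ' : P' →* Ω'} {P'' : Subgroup Ω''}
    {φ'' : P'' →* Ω''} (h₁ : InducedAlong θ φ φ') (h₂ : InducedAlong θ' φ' φ'') :
    InducedAlong γ φ φ'' := by
  obtain ⟨hP, hφS, hP', he₁⟩ := h₁
  obtain ⟨hP'S', hφ'S', hP'', he₂⟩ := h₂
  have hmem : ∀ x : P, γ ⟨x, hP x.2⟩ ∈ P'' := by
    intro x
    rw [hγ]
    exact hP'' ⟨θ ⟨x, hP x.2⟩, hP' x⟩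
  refine ⟨hP, hφS, hmem, fun x => ?_⟩
  have e1 : (⟨γ ⟨x, hP x.2⟩, hmem x⟩ : P'') =
      ⟨θ' ⟨((⟨θ ⟨x, hP x.2⟩, hP' x⟩ : P') : Ω'), hP'S' (hP' x)⟩,
        hP'' ⟨θ ⟨x, hP x.2⟩, hP' x⟩⟩ := Subtype.ext (hγ _)
  rw [e1, he₂, hγ]
  congr 1
  exact Subtype.ext (he₁ x)

theorem preimageAlong_comp {θ : S →* Ω'} {π : S' →* Ω''} {γ : S →* Ω''}
    (hθS' : ∀ s : S, θ s ∈ S') (hγ : ∀ s : S, γ s = π ⟨θ s, hθS' s⟩) (P'' : Subgroup Ω'') :
    preimageAlong γ P'' = preimageAlong θ (preimageAlong π P'') := by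
  ext x
  rw [mem_preimageAlong, mem_preimageAlong]
  constructor
  · rintro ⟨hx, h⟩
    refine ⟨hx, (mem_preimageAlong π P'' _).mpr ⟨hθS' _, ?_⟩⟩
    rw [← hγ]
    exact h
  · rintro ⟨hx, h⟩
    obtain ⟨h1, h2⟩ := (mem_preimageAlong π P'' _).mp h
    refine ⟨hx, ?_⟩
    rw [hγ]
    exact h2

/-- An isomorphism followed by a factor map is a factor map. -/
theorem iso_comp_factor {F : FusionSystem S} {θ : S →* Ω'} {F' : FusionSystem S'}
    (h₁ : F.IsFactorSystem ⊥ θ F') {Z' : Subgroup Ω'} {π : S' →* Ω''} {X : FusionSystem S''}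
    (h₂ : F'.IsFactorSystem Z' π X) {γ : S →* Ω''}
    (hγ : ∀ s : S, γ s = π ⟨θ s, iso_apply_mem h₁ s⟩) :
    F.IsFactorSystem (preimageAlong θ Z') γ X := by
  have hinj := iso_injective h₁
  have hrange := iso_range h₁
  refine ⟨preimageAlong_le θ Z', fun s => ?_, ?_, fun P'' φ'' => ?_⟩
  · rw [hγ, h₂.2.1, mem_preimageAlong]
    exact ⟨fun hh => ⟨s.2, hh⟩, fun ⟨_, hh⟩ => hh⟩
  · ext y
    constructor
    · rintro ⟨s, rfl⟩
      rw [hγ, ← h₂.2.2.1]
      exact ⟨_, rfl⟩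
    · intro hy
      rw [← h₂.2.2.1] at hy
      obtain ⟨t, rfl⟩ := hy
      have ht : (t : Ω') ∈ θ.range := by
        rw [hrange]
        exact t.2
      obtain ⟨s, hs⟩ := ht
      refine ⟨s, ?_⟩
      rw [hγ]
      congr 1
      exact Subtype.ext hs
  · have hpre := preimageAlong_comp (iso_apply_mem h₁) hγ P''
    rw [h₂.2.2.2 P'' φ'']
    constructor
    · rintro ⟨hP'', φ', hφ', hind'⟩
      obtain ⟨φ, hφ, hind⟩ := iso_pull h₁ hφ' hpre.symm
      exact ⟨hP'', φ, hφ, inducedAlong_comp (iso_apply_mem h₁) hγ hind hind'⟩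
    · rintro ⟨hP'', φ, hφ, hind⟩
      have hPS := (F.le_of_mem hφ).1
      have hφS := (F.le_of_mem hφ).2
      have hP'S' : preimageAlong π P'' ≤ S' := preimageAlong_le π P''
      have hP' : imageAlong θ (preimageAlong γ P'') = preimageAlong π P'' := by
        rw [hpre]
        exact imageAlong_preimageAlong θ hrange hP'S'
      refine ⟨hP'', pushHom θ hinj hPS hP' φ hφS, iso_push h₁ hφ hP', hP'S',
        fun y => ?_, fun y => preimageAlong_map_mem π P'' y, fun y => ?_⟩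
      · rw [pushHom_apply']
        exact iso_apply_mem h₁ _
      · have hy := apply_imgEquiv_symm θ hinj hPS hP' y
        have e1 : (⟨π ⟨y, hP'S' y.2⟩, preimageAlong_map_mem π P'' y⟩ : P'') =
            ⟨γ ⟨((imgEquiv θ hinj hPS hP').symm y : ↥(preimageAlong γ P'')),
              hPS ((imgEquiv θ hinj hPS hP').symm y).2⟩, by
              rw [hγ]
              have := preimageAlong_map_mem π P'' y
              convert this using 2
              exact Subtype.ext hy⟩ := by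
          apply Subtype.ext
          show π ⟨y, hP'S' y.2⟩ = γ _
          rw [hγ]
          congr 1
          exact Subtype.ext hy.symm
        rw [e1, inducedAlong_apply γ hind _ (hPS ((imgEquiv θ hinj hPS hP').symm y).2) _
          (hφS _), hγ]
        congr 1

/-- Two factor systems modulo the same strongly closed subgroup are isomorphic. -/
theorem factor_cancel [Finite S] {F : FusionSystem S} {T₀ : Subgroup Ω}
    (hT₀ : F.StronglyClosed T₀) {π₁ : S →* Ω'} {Y : FusionSystem S'}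
    (h₁ : F.IsFactorSystem T₀ π₁ Y) {π₂ : S →* Ω''} {X : FusionSystem S''}
    (h₂ : F.IsFactorSystem T₀ π₂ X) {ρ : S' →* Ω''}
    (hπ₁ : ∀ s : S, π₁ s ∈ S') (hρ : ∀ s : S, π₂ s = ρ ⟨π₁ s, hπ₁ s⟩) :
    Y.IsFactorSystem ⊥ ρ X := by
  have hsurj : ∀ y : S', ∃ s : S, π₁ s = y := by
    intro y
    have : (y : Ω') ∈ π₁.range := by
      rw [h₁.2.2.1]
      exact y.2
    exact this
  refine ⟨bot_le, fun y => ?_, ?_, fun P₂ φ₂ => ?_⟩
  · obtain ⟨s, hs⟩ := hsurj y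
    have e : y = ⟨π₁ s, hπ₁ s⟩ := Subtype.ext hs.symm
    rw [e, ← hρ, h₂.2.1, ← h₁.2.1, Subgroup.mem_bot]
  · ext z
    constructor
    · rintro ⟨y, rfl⟩
      obtain ⟨s, hs⟩ := hsurj y
      have e : y = ⟨π₁ s, hπ₁ s⟩ := Subtype.ext hs.symm
      rw [e, ← hρ, ← h₂.2.2.1]
      exact ⟨s, rfl⟩
    · intro hz
      rw [← h₂.2.2.1] at hz
      obtain ⟨s, rfl⟩ := hz
      exact ⟨⟨π₁ s, hπ₁ s⟩, (hρ s).symm⟩
  · have hpre := preimageAlong_comp hπ₁ hρ P₂
    have hP₁S' : preimageAlong ρ P₂ ≤ S' := preimageAlong_le ρ P₂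
    rw [h₂.2.2.2 P₂ φ₂]
    constructor
    · rintro ⟨hP₂, φ, hφ, hind⟩
      have hψ := cast_mem F hpre.symm hφ
      obtain ⟨φ₁, hind₁⟩ := exists_inducedAlong F hT₀ π₁ h₁.2.1 h₁.2.2.1 hP₁S' hψ
      have hφ₁ : φ₁ ∈ Y.Hom (preimageAlong ρ P₂) :=
        (h₁.2.2.2 _ φ₁).mpr ⟨hP₁S', _, hψ, hind₁⟩
      have hφ₁S' := (Y.le_of_mem hφ₁).2
      refine ⟨hP₂, φ₁, hφ₁, hP₁S', hφ₁S', fun y => preimageAlong_map_mem ρ P₂ y, fun y => ?_⟩
      obtain ⟨x, hx⟩ := exists_preimageAlong π₁ h₁.2.2.1 hP₁S' y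
      have hxS : (x : Ω) ∈ S := preimageAlong_le π₁ _ x.2
      have hφ₁y : φ₁ y = π₁ ⟨(φ.comp (Subgroup.inclusion hpre.symm.le)) x, (F.le_of_mem hψ).2 x⟩ :=
        inducedAlong_apply_eq π₁ hind₁ x y hxS hx.symm _
      have hxP : (x : Ω) ∈ preimageAlong π₂ P₂ := hpre.symm.le x.2
      have e1 : (⟨ρ ⟨y, hP₁S' y.2⟩, preimageAlong_map_mem ρ P₂ y⟩ : P₂) =
          ⟨π₂ ⟨((⟨x, hxP⟩ : ↥(preimageAlong π₂ P₂)) : Ω), hxS⟩,
            preimageAlong_map_mem π₂ P₂ ⟨x, hxP⟩⟩ := by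
        apply Subtype.ext
        show ρ ⟨y, hP₁S' y.2⟩ = π₂ ⟨x, hxS⟩
        rw [hρ]
        congr 1
        exact Subtype.ext hx.symm
      rw [e1, inducedAlong_apply π₂ hind ⟨x, hxP⟩ hxS _ ((F.le_of_mem hφ).2 _), hρ]
      congr 1
      exact Subtype.ext hφ₁y.symm
    · rintro ⟨hP₂, φ₁, hφ₁, hind₁⟩
      obtain ⟨-, ψ, hψ, hindψ⟩ := (h₁.2.2.2 _ φ₁).mp hφ₁
      have hcomp : InducedAlong π₂ ψ φ₂ := inducedAlong_comp hπ₁ hρ hindψ hind₁
      have key : ∀ (Q : Subgroup Ω) (hQ : Q = preimageAlong π₁ (preimageAlong ρ P₂)),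
          ∃ φ ∈ F.Hom Q, InducedAlong π₂ φ φ₂ := by
        intro Q hQ
        subst hQ
        exact ⟨ψ, hψ, hcomp⟩
      obtain ⟨φ, hφ, hind⟩ := key _ hpre
      exact ⟨hP₂, φ, hφ, hind⟩

end Comp

end Cfsg.Agent.Helper25
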