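import Mathlib
import Cfsg.Agent.Helper25.FusionSubgroupSat
import Cfsg.Agent.S5144

set_option autoImplicit false

/-! A quasisimple fusion system lives on a nonabelian group. -/

namespace Cfsg.Agent.Helper25

open Cfsg Cfsg.FusionSystem

section Inner

variable {Ω : Type*} [Group Ω] {S : Subgroup Ω}

/-- In the inner system of an abelian group all maps are inclusions. -/
theorem inner_abelian_apply (hab : ∀ a ∈ S, ∀ b ∈ S, a * b = b * a) {P : Subgroup Ω}
    {φ : P →* Ω} (hφ : φ ∈ (fusionSystemOfSubgroup S S le_rfl).Hom P) (x : P) : φ x = x := by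
  obtain ⟨hP, -, g, hg, hφg⟩ := hφ
  rw [hφg x, hab g hg x (hP x.2), mul_inv_cancel_right]

theorem inner_isSaturated [Finite S] (p : ℕ) [Fact p.Prime] (hS : IsPGroup p S) :
    (fusionSystemOfSubgroup S S le_rfl).IsSaturated p := by
  obtain ⟨T'⟩ : Nonempty (Sylow p S) := inferInstance
  have htop : IsPGroup p (⊤ : Subgroup S) := hS.to_subgroup ⊤
  have h1 : (⊤ : Subgroup S) = T' := T'.is_maximal' htop le_top
  apply fusionSystemOfSubgroup_isSaturated p S S le_rfl T'
  rw [← h1, Subgroup.subgroupOf_self]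

/-- The inner system of an abelian `S` is normal in every saturated system over `S`. -/
theorem inner_isNormalIn_of_abelian [Finite S] (p : ℕ) [Fact p.Prime] (hS : IsPGroup p S)
    (hab : ∀ a ∈ S, ∀ b ∈ S, a * b = b * a) (E : FusionSystem S) (hE : E.IsSaturated p) :
    (fusionSystemOfSubgroup S S le_rfl).IsNormalIn E p := by
  have hsc : E.StronglyClosed S := by
    refine ⟨le_rfl, fun R _ φ hφ x => (E.le_of_mem hφ).2 x⟩
  have hSN : E.IsNormal S :=
    Cfsg.Agent.S5089.isNormal_of_abelian_stronglyClosed p hS E hE S hab hsc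
  refine ⟨⟨inner_isSaturated p hS, hE, ?_, hsc, ?_, ?_⟩, ?_⟩
  · -- subsystem
    rintro P φ ⟨hP, hφS, g, hg, hφg⟩
    have : φ = conjHom P g := by
      ext x
      exact hφg x
    rw [this]
    exact E.conj_mem hP hg
  · -- invariance
    intro P hPS φ hφ α hα
    refine ⟨Subgroup.subtype _, subtype_mem _ ?_, ?_⟩
    · rintro _ ⟨x, -, rfl⟩
      exact (α x).2
    · intro x hφx hαx
      have h1 := inner_abelian_apply hab hφ x
      show ((α ⟨x, hPS x.2⟩ : S) : Ω) = ((α ⟨φ x, hφx⟩ : S) : Ω)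
      congr 2
      exact Subtype.ext h1.symm
  · -- Frattini
    intro P hPS φ hφ
    obtain ⟨ψ, hψ, hext, -⟩ := hSN.2 P φ hφ
    have hsup : P ⊔ S = S := sup_of_le_right hPS
    have hψ' := cast_mem E hsup.symm hψ
    have hr := range_eq_of_hom_top E hψ'
    refine ⟨isoOfHom _ (E.injective_of_mem hψ') hr, ?_, P.subtype,
      subtype_mem _ hPS, ?_⟩
    · rw [mem_autGroup_iff E le_rfl]
      have : autHom (isoOfHom _ (E.injective_of_mem hψ') hr) =
          ψ.comp (Subgroup.inclusion hsup.symm.le) := by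
        ext x
        rfl
      rw [this]
      exact hψ'
    · intro x hx
      rw [isoOfHom_coe]
      rw [← hext x]
      rfl
  · -- extension condition
    intro α hα
    refine ⟨1, Subgroup.one_mem _, ?_, ?_⟩
    · intro x
      have hα' := (mem_autGroup_iff (fusionSystemOfSubgroup S S le_rfl) le_rfl α).mp hα
      have h1 := inner_abelian_apply hab hα' x
      exact h1.symm
    · intro c _
      simp

end Inner

section Quasi

variable {Ω : Type*} [Group Ω] {S : Subgroup Ω}

theorem stronglyClosed_of_isCentral (F : FusionSystem S) {Q : Subgroup Ω} (hQ : F.IsCentral Q) :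
    F.StronglyClosed Q := by
  refine ⟨hQ.1, fun R hRQ φ hφ x => ?_⟩
  obtain ⟨ψ, -, hext, hfix⟩ := hQ.2 R φ hφ
  have h1 := hext x
  have h2 := hfix ⟨x, hRQ x.2⟩
  have e : Subgroup.inclusion (le_sup_left : R ≤ R ⊔ Q) x =
      Subgroup.inclusion (le_sup_right : Q ≤ R ⊔ Q) ⟨x, hRQ x.2⟩ := Subtype.ext rfl
  rw [e, h2] at h1
  rw [← h1]
  exact hRQ x.2

/-- A quasisimple fusion system is not over an abelian group. -/
theorem not_commutative_of_quasisimple [Finite S] (p : ℕ) [Fact p.Prime] (hS : IsPGroup p S)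
    (F : FusionSystem S) (hq : F.Quasisimple p) : ¬ IsMulCommutative S := by
  intro hc
  obtain ⟨hF, hhyp, hsimp⟩ := hq
  have hab : ∀ a ∈ S, ∀ b ∈ S, a * b = b * a := by
    intro a ha b hb
    exact congrArg Subtype.val (hc.is_comm.comm (⟨a, ha⟩ : S) ⟨b, hb⟩)
  have hZsc : F.StronglyClosed F.center :=
    stronglyClosed_of_isCentral F (Cfsg.Agent.S5144.result F)
  have hker : ∀ s : S, (QuotientGroup.mk' ((F.center).subgroupOf S)) s = 1 ↔
      (s : Ω) ∈ F.center := by
    intro s
    rw [QuotientGroup.mk'_apply, QuotientGroup.eq_one_iff, Subgroup.mem_subgroupOf]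
  have hrange : (QuotientGroup.mk' ((F.center).subgroupOf S)).range = ⊤ :=
    MonoidHom.range_eq_top.mpr (QuotientGroup.mk'_surjective _)
  have hE := factorSystem_isFactorSystem F hZsc _ hker hrange
  obtain ⟨hEsat, hne, hnorm⟩ := hsimp _ hE
  obtain ⟨hfinS', hS'p⟩ := factor_finite_pgroup p hS _ hrange
  have hab' : ∀ a ∈ (⊤ : Subgroup (S ⧸ (F.center).subgroupOf S)),
      ∀ b ∈ (⊤ : Subgroup (S ⧸ (F.center).subgroupOf S)), a * b = b * a := by
    intro a _ b _
    obtain ⟨x, rfl⟩ := QuotientGroup.mk_surjective a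
    obtain ⟨y, rfl⟩ := QuotientGroup.mk_surjective b
    rw [← QuotientGroup.mk_mul, ← QuotientGroup.mk_mul, hc.is_comm.comm x y]
  have hD := inner_isNormalIn_of_abelian p hS'p hab' _ hEsat
  rcases hnorm _ _ hD with h | ⟨-, hHom⟩
  · exact hne h
  · -- every map of F is the identity modulo the centre
    have hmor := (isSurjectiveMorphism_of_isFactorSystem p hS F hF hZsc _ _ hE).1
    have hclaim : ∀ (P : Subgroup Ω) (φ : P →* Ω), φ ∈ F.Hom P →
        ∀ x : P, (x : Ω)⁻¹ * φ x ∈ F.center := by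
      intro P φ hφ x
      obtain ⟨φ', hφ', hPS, hφS, hP', hind⟩ := hmor.2 P φ hφ
      rw [← hHom] at hφ'
      have h1 := inner_abelian_apply hab' hφ' ⟨_, hP' x⟩
      rw [hind x] at h1
      have h2 : (QuotientGroup.mk' ((F.center).subgroupOf S))
          ((⟨x, hPS x.2⟩ : S)⁻¹ * ⟨φ x, hφS x⟩) = 1 := by
        rw [map_mul, map_inv, h1, inv_mul_cancel]
      exact (hker _).mp h2
    have hle : F.hyperfocalSubgroup p ≤ F.center := by
      unfold hyperfocalSubgroup
      rw [Subgroup.closure_le]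
      rintro y ⟨P, α, x, hPS, -, rfl⟩
      exact hclaim P (autHom α.1) ((mem_autGroup_iff F hPS α.1).mp α.2) x
    rw [hhyp] at hle
    apply hne
    rw [eq_bot_iff]
    intro a _
    obtain ⟨x, rfl⟩ := QuotientGroup.mk_surjective a
    rw [Subgroup.mem_bot, QuotientGroup.eq_one_iff, Subgroup.mem_subgroupOf]
    exact hle x.2

end Quasi

end Cfsg.Agent.Helper25
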