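import Mathlib
import Cfsg.Agent.Helper25.FusionIso3
import Cfsg.Agent.Helper25.FusionQuasisimple
import Cfsg.Agent.S5256

set_option autoImplicit false

/-! Transport of the centre, of simplicity and of quasisimplicity along isomorphisms of fusion
systems. -/

namespace Cfsg.Agent.Helper25

open Cfsg Cfsg.FusionSystem

section Center

variable {Ω Ω' : Type*} [Group Ω] [Group Ω'] {S : Subgroup Ω} {S' : Subgroup Ω'}
  {F : FusionSystem S} {θ : S →* Ω'} {F' : FusionSystem S'}

/-- Central subgroups are carried to central subgroups. -/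
theorem iso_isCentral (h : F.IsFactorSystem ⊥ θ F') {Q : Subgroup Ω} (hQ : F.IsCentral Q) :
    F'.IsCentral (imageAlong θ Q) := by
  have hinj := iso_injective h
  have hrange := iso_range h
  refine ⟨imageAlong_le_of_range θ hrange Q, fun P' φ' hφ' => ?_⟩
  have hP'S' : P' ≤ S' := (F'.le_of_mem hφ').1
  obtain ⟨φ, hφ, hind⟩ := iso_pull h hφ' rfl
  have hPS : preimageAlong θ P' ≤ S := preimageAlong_le θ P'
  have hφS := (F.le_of_mem hφ).2
  obtain ⟨ψ, hψ, hext, hfix⟩ := hQ.2 _ φ hφ
  have hPQS : preimageAlong θ P' ⊔ Q ≤ S := sup_le hPS hQ.1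
  have hψS := (F.le_of_mem hψ).2
  have hPQ' : imageAlong θ (preimageAlong θ P' ⊔ Q) = P' ⊔ imageAlong θ Q := by
    rw [imageAlong_sup θ hPS hQ.1, imageAlong_preimageAlong θ hrange hP'S']
  refine ⟨pushHom θ hinj hPQS hPQ' ψ hψS, iso_push h hψ hPQ', fun x' => ?_, fun x' => ?_⟩
  · obtain ⟨x, hx⟩ := exists_preimageAlong θ hrange hP'S' x'
    rw [pushHom_apply_eq θ hinj hPQS hPQ' ψ hψS (Subgroup.inclusion le_sup_left x) _ hx.symm,
      inducedAlong_apply_eq θ hind x x' (hPS x.2) hx.symm (hφS x)]
    congr 1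
    exact Subtype.ext (hext x)
  · obtain ⟨q, hq, hqx⟩ := (mem_imageAlong_iff θ Q _).mp x'.2
    have hqx' : ((Subgroup.inclusion (le_sup_right : imageAlong θ Q ≤ P' ⊔ imageAlong θ Q) x' :
        ↥(P' ⊔ imageAlong θ Q)) : Ω') =
        θ ⟨((Subgroup.inclusion (le_sup_right : Q ≤ preimageAlong θ P' ⊔ Q) ⟨q, hq⟩ :
          ↥(preimageAlong θ P' ⊔ Q)) : Ω), hPQS (Subgroup.mem_sup_right hq)⟩ :=
      hqx.symm
    rw [pushHom_apply_eq θ hinj hPQS hPQ' ψ hψS (Subgroup.inclusion le_sup_right ⟨q, hq⟩) _ hqx']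
    rw [← hqx]
    congr 1
    exact Subtype.ext (hfix ⟨q, hq⟩)

/-- The centre of the image system is the image of the centre. -/
theorem iso_center [Finite S] (h : F.IsFactorSystem ⊥ θ F') :
    F'.center = imageAlong θ F.center := by
  have hinj := iso_injective h
  have hrange := iso_range h
  have := iso_finite h
  apply le_antisymm
  · have hc := iso_isCentral (iso_symm h) (Cfsg.Agent.S5144.result F')
    have hle : imageAlong (invHom θ hinj hrange) F'.center ≤ F.center := le_sSup hc
    intro y hy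
    have hyS' : y ∈ S' := (Cfsg.Agent.S5144.result F').1 hy
    refine (mem_imageAlong_iff θ _ _).mpr
      ⟨⟨invHom θ hinj hrange ⟨y, hyS'⟩, invHom_mem θ hinj hrange _⟩, ?_, ?_⟩
    · exact hle ((mem_imageAlong_iff _ _ _).mpr ⟨⟨y, hyS'⟩, hy, rfl⟩)
    · exact apply_invHom θ hinj hrange ⟨y, hyS'⟩
  · exact le_sSup (iso_isCentral h (Cfsg.Agent.S5144.result F))

theorem iso_preimage_center [Finite S] (h : F.IsFactorSystem ⊥ θ F') :
    preimageAlong θ F'.center = F.center := by
  rw [iso_center h]
  exact preimageAlong_imageAlong_inj θ (iso_injective h) (Cfsg.Agent.S5144.result F).1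

end Center

section Simple

variable {Ω Ω' : Type*} [Group Ω] [Group Ω'] {S : Subgroup Ω} {S' : Subgroup Ω'}
  {F : FusionSystem S} {θ : S →* Ω'} {F' : FusionSystem S'}

/-- Simplicity is carried along an isomorphism. -/
theorem iso_isSimple [Finite S] (p : ℕ) [Fact p.Prime] (hS : IsPGroup p S)
    (h : F.IsFactorSystem ⊥ θ F') (hF : F.IsSimple p) : F'.IsSimple p := by
  have hinj := iso_injective h
  have hrange := iso_range h
  have hfin' := iso_finite h
  have hS' := iso_isPGroup h hS
  obtain ⟨hFsat, hSne, hnorm⟩ := hF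
  refine ⟨iso_isSaturated p hS h hFsat, ?_, fun T' D' hD' => ?_⟩
  · intro hbot
    apply hSne
    rw [eq_bot_iff]
    intro s hs
    have h1 : θ ⟨s, hs⟩ ∈ S' := iso_apply_mem h _
    rw [hbot, Subgroup.mem_bot] at h1
    have h2 : (⟨s, hs⟩ : S) = 1 := hinj (h1.trans (map_one θ).symm)
    rw [Subgroup.mem_bot]
    exact congrArg (fun w : S => (w : Ω)) h2
  · have hT'S' : T' ≤ S' := hD'.1.2.2.2.1.1
    have hsymm := iso_symm h
    have : Finite T' := finite_of_le hT'S'
    have hinjT : Function.Injective ((invHom θ hinj hrange).comp (Subgroup.inclusion hT'S')) :=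
      (invHom_injective θ hinj hrange).comp (Subgroup.inclusion_injective hT'S')
    obtain ⟨D, hD⟩ := exists_iso_image D' _ hinjT
    have hDF : D.IsNormalIn F p := iso_isNormalIn p hS' hsymm hT'S' (fun x => rfl) hD hD'
    rcases hnorm _ D hDF with hb | ⟨hr, hHom⟩
    · left
      rw [eq_bot_iff]
      intro x hx
      have h1 : ((invHom θ hinj hrange).comp (Subgroup.inclusion hT'S')) ⟨x, hx⟩ ∈
          ((invHom θ hinj hrange).comp (Subgroup.inclusion hT'S')).range := ⟨_, rfl⟩
      rw [hb, Subgroup.mem_bot] at h1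
      have h2 : (⟨x, hx⟩ : T') = 1 := hinjT (h1.trans (map_one _).symm)
      rw [Subgroup.mem_bot]
      exact congrArg (fun w : T' => (w : Ω')) h2
    · have hTS : T' = S' := by
        apply le_antisymm hT'S'
        intro y hy
        have h1 : invHom θ hinj hrange ⟨y, hy⟩ ∈
            ((invHom θ hinj hrange).comp (Subgroup.inclusion hT'S')).range := by
          rw [hr]
          exact invHom_mem θ hinj hrange _
        obtain ⟨t, ht⟩ := h1
        have h2 : Subgroup.inclusion hT'S' t = ⟨y, hy⟩ := invHom_injective θ hinj hrange ht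
        have h3 : (t : Ω') = y := congrArg (fun w : S' => (w : Ω')) h2
        rw [← h3]
        exact t.2
      refine Or.inr ⟨hTS, fun P' => ?_⟩
      apply Set.Subset.antisymm (hD'.1.2.2.1 P')
      intro φ' hφ'
      have hP'S' : P' ≤ S' := (F'.le_of_mem hφ').1
      have hφ'S' := (F'.le_of_mem hφ').2
      have hP'T' : P' ≤ T' := hTS ▸ hP'S'
      have hφ'T' : ∀ x : P', φ' x ∈ T' := fun x => hTS ▸ hφ'S' x
      have hpush := iso_push hsymm hφ' (rfl : imageAlong (invHom θ hinj hrange) P' = _)
      have hind := pushHom_induced (invHom θ hinj hrange) (invHom_injective θ hinj hrange)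
        hP'S' (rfl : imageAlong (invHom θ hinj hrange) P' = _) φ' hφ'S'
      rw [← hHom] at hpush
      refine iso_mem_of_induced hD hP'T' hpush ?_ ?_
      · exact imageAlong_restrict hT'S' (fun x => rfl) hP'T'
      · exact inducedAlong_corestrict hT'S' (fun x => rfl) hP'T' hφ'T' hind

end Simple

section Quasi

variable {Ω Ω' : Type*} [Group Ω] [Group Ω'] {T : Subgroup Ω} {R : Subgroup Ω'}
  {C : FusionSystem T} {γ : T →* Ω'} {E : FusionSystem R}

/-- Quasisimplicity is carried along an isomorphism. -/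
theorem iso_quasisimple [Finite T] (p : ℕ) [Fact p.Prime] (hT : IsPGroup p T)
    (h : C.IsFactorSystem ⊥ γ E) (hC : C.Quasisimple p) : E.Quasisimple p := by
  obtain ⟨hCsat, hhyp, hsimp⟩ := hC
  have hrange := iso_range h
  refine ⟨iso_isSaturated p hT h hCsat, ?_, fun X hX => ?_⟩
  · rw [Cfsg.Agent.S5256.result p hT C hCsat ⊥ (bot_stronglyClosed C) γ E h, hhyp, ← hrange]
    ext y
    constructor
    · rintro ⟨x, -, rfl⟩
      exact ⟨x, rfl⟩
    · rintro ⟨x, rfl⟩
      exact ⟨x, Subgroup.mem_subgroupOf.mpr x.2, rfl⟩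
  · have hZC : C.StronglyClosed C.center :=
      stronglyClosed_of_isCentral C (Cfsg.Agent.S5144.result C)
    have hkerC : ∀ s : T, (QuotientGroup.mk' ((C.center).subgroupOf T)) s = 1 ↔
        (s : Ω) ∈ C.center := by
      intro s
      rw [QuotientGroup.mk'_apply, QuotientGroup.eq_one_iff, Subgroup.mem_subgroupOf]
    have hrangeC : (QuotientGroup.mk' ((C.center).subgroupOf T)).range = ⊤ :=
      MonoidHom.range_eq_top.mpr (QuotientGroup.mk'_surjective _)
    have hY := factorSystem_isFactorSystem C hZC _ hkerC hrangeC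
    have hYs := hsimp _ hY
    obtain ⟨hfinY, hYp⟩ := factor_finite_pgroup p hT _ hrangeC
    have hcomp := iso_comp_factor h hX
      (γ := (QuotientGroup.mk' ((E.center).subgroupOf R)).comp (γ.codRestrict R (iso_apply_mem h)))
      (fun s => rfl)
    rw [iso_preimage_center h] at hcomp
    have hle : (C.center).subgroupOf T ≤
        ((QuotientGroup.mk' ((E.center).subgroupOf R)).comp
          (γ.codRestrict R (iso_apply_mem h))).ker := by
      intro s hs
      rw [MonoidHom.mem_ker]
      exact (hcomp.2.1 s).mpr (Subgroup.mem_subgroupOf.mp hs)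
    have hiso := factor_cancel hZC hY hcomp
      (ρ := (QuotientGroup.lift _ _ hle).comp
        (⊤ : Subgroup (T ⧸ (C.center).subgroupOf T)).subtype)
      (fun s => Subgroup.mem_top _) (fun s => rfl)
    exact iso_isSimple p hYp hiso hYs

end Quasi

end Cfsg.Agent.Helper25
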