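import Mathlib
import Cfsg.Agent.Helper25.FusionIso4
import Cfsg.Agent.Helper25.FusionAlperin2

set_option autoImplicit false

/-! Systems carried to themselves by an automorphism; images of subnormal subsystems under maps
of the ambient system. -/

namespace Cfsg.Agent.Helper25

open Cfsg Cfsg.FusionSystem

section ConjClosed

variable {Ω : Type*} [Group Ω] {S U : Subgroup Ω}

/-- The system `D` over `U` is carried into itself by the automorphism `α` of `U`. -/
def ConjClosed (D : FusionSystem U) (α : MulAut U) : Prop :=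
  ∀ (P : Subgroup Ω) (hP : P ≤ U) (φ : P →* Ω) (hφ : φ ∈ D.Hom P),
    ∃ (P₂ : Subgroup Ω) (χ : P₂ →* Ω), χ ∈ D.Hom P₂ ∧
      (∀ x : P, ((α ⟨x, hP x.2⟩ : U) : Ω) ∈ P₂) ∧
      (∀ y ∈ P₂, ∃ x : P, ((α ⟨x, hP x.2⟩ : U) : Ω) = y) ∧
      ∀ (x : P) (h2 : ((α ⟨x, hP x.2⟩ : U) : Ω) ∈ P₂),
        χ ⟨(α ⟨x, hP x.2⟩ : U), h2⟩ = ((α ⟨φ x, (D.le_of_mem hφ).2 x⟩ : U) : Ω)

theorem conjClosed_of_invCond {D : FusionSystem U} {F : FusionSystem S} (hI : InvCond D F)
    {α : MulAut U} (hα : α ∈ F.autGroup U) : ConjClosed D α :=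
  fun _ hP _ hφ => invCond_apply hI hP hφ hα

/-- A system is carried into itself by its own automorphisms of the underlying group. -/
theorem conjClosed_self (F : FusionSystem S) {α : MulAut S} (hα : α ∈ F.autGroup S) :
    ConjClosed F α := by
  intro P hP φ hφ
  have ha : autHom α ∈ F.Hom S := (mem_autGroup_iff F le_rfl α).mp hα
  have haP : (autHom α).comp (Subgroup.inclusion hP) ∈ F.Hom P := restrict_mem F hP ha
  have hφS := (F.le_of_mem hφ).2
  obtain ⟨ψ, hψ, hψinv, hψr⟩ := exists_inv_mem F haP rfl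
  have hψP : ∀ y : ((autHom α).comp (Subgroup.inclusion hP)).range, ψ y ∈ P := by
    intro y
    exact hψr.le ⟨y, rfl⟩
  have h1 : φ.comp (ψ.codRestrict P hψP) ∈ F.Hom _ := F.comp_mem hψ hφ hψP
  have h1S : ∀ y : ((autHom α).comp (Subgroup.inclusion hP)).range,
      (φ.comp (ψ.codRestrict P hψP)) y ∈ S := fun y => hφS _
  have h2 := F.comp_mem h1 ha h1S
  refine ⟨_, _, h2, fun x => ⟨x, rfl⟩, ?_, fun x hx => ?_⟩
  · rintro y ⟨x, rfl⟩
    exact ⟨x, rfl⟩
  · show ((α ⟨φ (ψ.codRestrict P hψP ⟨_, hx⟩), _⟩ : S) : Ω) = _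
    have e : ψ.codRestrict P hψP ⟨((α ⟨x, hP x.2⟩ : S) : Ω), hx⟩ = x := by
      apply Subtype.ext
      exact hψinv x hx
    congr 2
    apply Subtype.ext
    show φ (ψ.codRestrict P hψP ⟨_, hx⟩) = φ x
    rw [e]

/-- A system carried into itself by `α` and by `α⁻¹` is isomorphic to itself along `α`. -/
theorem conjClosed_iso_self {D : FusionSystem U} {α : MulAut U} (h₁ : ConjClosed D α)
    (h₂ : ConjClosed D α⁻¹) : D.IsFactorSystem ⊥ (autHom α) D := by
  refine ⟨bot_le, fun s => ?_, autHom_range α, fun P' φ' => ?_⟩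
  · rw [Subgroup.mem_bot]
    constructor
    · intro h
      have h1 : α s = 1 := Subtype.ext h
      have h2 : s = 1 := by
        rw [← map_one α] at h1
        exact α.injective h1
      rw [h2]
      rfl
    · intro h
      have : s = 1 := Subtype.ext h
      rw [this, map_one]
  · constructor
    · intro hφ'
      have hP'U : P' ≤ U := (D.le_of_mem hφ').1
      have hφ'U := (D.le_of_mem hφ').2
      refine ⟨hP'U, ?_⟩
      obtain ⟨P₂, χ, hχ, hmem, hsurj, hχe⟩ := h₂ P' hP'U φ' hφ'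
      have hP₂ : P₂ = preimageAlong (autHom α) P' := by
        ext y
        rw [mem_preimageAlong]
        constructor
        · intro hy
          obtain ⟨x, rfl⟩ := hsurj y hy
          refine ⟨(α⁻¹ ⟨x, hP'U x.2⟩).2, ?_⟩
          show ((α (α⁻¹ ⟨x, hP'U x.2⟩) : U) : Ω) ∈ P'
          rw [MulAut.apply_inv_self]
          exact x.2
        · rintro ⟨hyU, hy⟩
          have h1 := hmem ⟨_, hy⟩
          have e : (α⁻¹ ⟨((⟨autHom α ⟨y, hyU⟩, hy⟩ : P') : Ω), hP'U hy⟩ : U) = ⟨y, hyU⟩ := by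
            show α⁻¹ (α ⟨y, hyU⟩) = _
            rw [MulAut.inv_apply_self]
          rw [e] at h1
          exact h1
      subst hP₂
      refine ⟨χ, hχ, preimageAlong_le _ P', (D.le_of_mem hχ).2,
        fun y => preimageAlong_map_mem _ P' y, fun y => ?_⟩
      have hyU : (y : Ω) ∈ U := preimageAlong_le _ P' y.2
      have hy' : autHom α ⟨y, hyU⟩ ∈ P' := preimageAlong_map_mem _ P' y
      have e : (α⁻¹ ⟨((⟨autHom α ⟨y, hyU⟩, hy'⟩ : P') : Ω), hP'U hy'⟩ : U) = ⟨y, hyU⟩ := by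
        show α⁻¹ (α ⟨y, hyU⟩) = _
        rw [MulAut.inv_apply_self]
      have hmem' : ((α⁻¹ ⟨((⟨autHom α ⟨y, hyU⟩, hy'⟩ : P') : Ω), hP'U hy'⟩ : U) : Ω) ∈
          preimageAlong (autHom α) P' := by
        rw [e]
        exact y.2
      have h3 := hχe ⟨autHom α ⟨y, hyU⟩, hy'⟩ hmem'
      have e2 : (⟨((α⁻¹ ⟨((⟨autHom α ⟨y, hyU⟩, hy'⟩ : P') : Ω), hP'U hy'⟩ : U) : Ω), hmem'⟩ :
          ↥(preimageAlong (autHom α) P')) = y := Subtype.ext (congrArg (fun w : U => (w : Ω)) e)
      rw [e2] at h3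
      show φ' ⟨autHom α ⟨y, hyU⟩, hy'⟩ = ((α ⟨χ y, _⟩ : U) : Ω)
      have e3 : (⟨χ y, (D.le_of_mem hχ).2 y⟩ : U) =
          α⁻¹ ⟨φ' ⟨autHom α ⟨y, hyU⟩, hy'⟩, hφ'U _⟩ := Subtype.ext h3
      rw [e3, MulAut.apply_inv_self]
    · rintro ⟨hP'U, φ, hφ, hind⟩
      have hPU : preimageAlong (autHom α) P' ≤ U := preimageAlong_le _ P'
      obtain ⟨P₂, χ, hχ, hmem, hsurj, hχe⟩ := h₁ _ hPU φ hφ
      have hP₂ : P₂ = P' := by
        ext y
        constructor
        · intro hy
          obtain ⟨x, rfl⟩ := hsurj y hy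
          exact preimageAlong_map_mem _ P' x
        · intro hy
          have hx : ((α⁻¹ ⟨y, hP'U hy⟩ : U) : Ω) ∈ preimageAlong (autHom α) P' := by
            refine (mem_preimageAlong _ _ _).mpr ⟨(α⁻¹ ⟨y, hP'U hy⟩).2, ?_⟩
            show ((α (α⁻¹ ⟨y, hP'U hy⟩) : U) : Ω) ∈ P'
            rw [MulAut.apply_inv_self]
            exact hy
          have h1 := hmem ⟨_, hx⟩
          have e : (α ⟨((⟨((α⁻¹ ⟨y, hP'U hy⟩ : U) : Ω), hx⟩ :
              ↥(preimageAlong (autHom α) P')) : Ω), hPU hx⟩ : U) = ⟨y, hP'U hy⟩ := by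
            show α (α⁻¹ ⟨y, hP'U hy⟩) = _
            rw [MulAut.apply_inv_self]
          rw [e] at h1
          exact h1
      subst hP₂
      have e : φ' = χ := by
        ext y
        obtain ⟨x, hx⟩ := hsurj y y.2
        have ey : y = ⟨((α ⟨x, hPU x.2⟩ : U) : Ω), hmem x⟩ := Subtype.ext hx.symm
        rw [ey, hχe x (hmem x)]
        exact inducedAlong_apply (autHom α) hind x (hPU x.2) _ _
      rw [e]
      exact hχ

end ConjClosed

section Image

universe u

variable {Ω : Type u} [Group Ω]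

/-- The image of a subnormal subsystem under a map of the ambient system is subnormal. -/
theorem image_isSubnormalIn {S T : Subgroup Ω} {C : FusionSystem T} {F : FusionSystem S} {p : ℕ}
    (hsub : C.IsSubnormalIn F p) :
    ∀ [Finite S] [Fact p.Prime], IsPGroup p S → ∀ (γ : T →* Ω), γ ∈ F.Hom T →
      ∀ {R : Subgroup Ω} (E : FusionSystem R), C.IsFactorSystem ⊥ γ E →
        E.IsSubnormalIn F p := by
  induction hsub with
  | refl F p =>
    intro _ _ hS γ hγ R E hE
    have hr : γ.range = _ := range_eq_of_hom_top F hγ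
    have hinj := F.injective_of_mem hγ
    have hα : isoOfHom γ hinj hr ∈ F.autGroup _ :=
      (mem_autGroup_iff F le_rfl _).mpr hγ
    have hself := conjClosed_iso_self (conjClosed_self F hα)
      (conjClosed_self F (Subgroup.inv_mem _ hα))
    obtain ⟨hRS, hHom⟩ := factor_unique (fun s => rfl) hE hself
    exact isSubnormalIn_of_eq hRS hHom
  | @step U S C D F p hCD hDF ih =>
    intro _ _ hS γ hγ R E hE
    have hUS : U ≤ S := hDF.1.2.2.2.1.1
    have hTU := IsSubnormalIn.le hCD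
    have : Finite U := finite_of_le hUS
    have : Finite _ := finite_of_le hTU
    have hUp : IsPGroup p U := hS.to_le hUS
    obtain ⟨α, hα, γ₀, hγ₀, hfr⟩ := hDF.1.2.2.2.2.2 _ hTU γ hγ
    have hγ₀U := (D.le_of_mem hγ₀).2
    obtain ⟨E₀, hE₀⟩ := exists_iso_image C γ₀ (D.injective_of_mem hγ₀)
    have hE₀D : E₀.IsSubnormalIn D p := ih hUp γ₀ hγ₀ E₀ hE₀
    have hI : InvCond D F := hDF.1.2.2.2.2.1
    have hDD : D.IsFactorSystem ⊥ (autHom α) D :=
      conjClosed_iso_self (conjClosed_of_invCond hI hα)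
        (conjClosed_of_invCond hI (Subgroup.inv_mem _ hα))
    have hrU : γ₀.range ≤ U := by
      rintro _ ⟨x, rfl⟩
      exact hγ₀U x
    have hcancel : E₀.IsFactorSystem ⊥ ((autHom α).comp (Subgroup.inclusion hrU)) E :=
      factor_cancel (bot_stronglyClosed C) hE₀ hE (fun s => ⟨s, rfl⟩)
        (fun s => hfr s (hγ₀U s))
    have hED : E.IsSubnormalIn D p :=
      iso_isSubnormalIn hE₀D hUp (autHom α) D hDD _ (fun x hx => rfl) E hcancel
    exact IsSubnormalIn.step hED hDF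

end Image

end Cfsg.Agent.Helper25
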