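import Mathlib
import Cfsg.Agent.Helper25.FusionIso5

set_option autoImplicit false

/-! Components and layers under isomorphisms and automorphisms of fusion systems. -/

namespace Cfsg.Agent.Helper25

open Cfsg Cfsg.FusionSystem

section Pair

variable {Ω Ω' : Type*} [Group Ω] [Group Ω'] {S : Subgroup Ω}

/-- Containment of subsystems is carried along restrictions of one homomorphism. -/
theorem iso_isSubsystemOf_pair (θ : S →* Ω') {TA TB : Subgroup Ω} {A : FusionSystem TA}
    {B : FusionSystem TB} (hAS : TA ≤ S) (hBS : TB ≤ S) {θA : TA →* Ω'} {θB : TB →* Ω'}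
    (hθA : ∀ x : TA, θA x = θ ⟨x, hAS x.2⟩) (hθB : ∀ x : TB, θB x = θ ⟨x, hBS x.2⟩)
    {TA' TB' : Subgroup Ω'} {A' : FusionSystem TA'} {B' : FusionSystem TB'}
    (hA' : A.IsFactorSystem ⊥ θA A') (hB' : B.IsFactorSystem ⊥ θB B')
    (hAB : A.IsSubsystemOf B) : A'.IsSubsystemOf B' := by
  intro P' φ' hφ'
  obtain ⟨φ, hφ, hind⟩ := iso_pull hA' hφ' rfl
  have hφB := hAB _ hφ
  have hPB := (B.le_of_mem hφB).1
  have hφBT := (B.le_of_mem hφB).2
  have hPA : preimageAlong θA P' ≤ TA := preimageAlong_le θA P'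
  have himg : imageAlong θB (preimageAlong θA P') = P' := by
    rw [imageAlong_restrict hBS hθB hPB, ← imageAlong_restrict hAS hθA hPA]
    exact imageAlong_preimageAlong θA (iso_range hA') (A'.le_of_mem hφ').1
  exact iso_mem_of_induced' hB' hφB himg
    (inducedAlong_corestrict hBS hθB hPB hφBT (inducedAlong_restrict hAS hθA hind))

/-- The inverse of a restriction of the inverse agrees with the homomorphism. -/
theorem invHom_restrict_agree (θ : S →* Ω') (hinj : Function.Injective θ) {S' : Subgroup Ω'}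
    (hrange : θ.range = S') {U' : Subgroup Ω'} (hU' : U' ≤ S')
    (hinjU : Function.Injective ((invHom θ hinj hrange).comp (Subgroup.inclusion hU')))
    (y : ((invHom θ hinj hrange).comp (Subgroup.inclusion hU')).range) (hy : (y : Ω) ∈ S) :
    invHom ((invHom θ hinj hrange).comp (Subgroup.inclusion hU')) hinjU rfl y = θ ⟨y, hy⟩ := by
  have hy2 := y.2
  obtain ⟨u, hu⟩ := hy2
  have e : y = ⟨((invHom θ hinj hrange).comp (Subgroup.inclusion hU')) u, ⟨u, rfl⟩⟩ :=
    Subtype.ext hu.symm
  have h1 := invHom_apply ((invHom θ hinj hrange).comp (Subgroup.inclusion hU')) hinjU rfl u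
    ⟨u, rfl⟩
  have h2 := apply_invHom θ hinj hrange (Subgroup.inclusion hU' u)
  have h3 : θ ⟨(y : Ω), hy⟩ = (u : Ω') := by
    refine Eq.trans ?_ h2
    congr 1
    exact Subtype.ext hu.symm
  rw [h3, e]
  exact h1

end Pair

section Component

universe u v

variable {Ω : Type u} [Group Ω] {Ω' : Type v} [Group Ω'] {S : Subgroup Ω} {S' : Subgroup Ω'}
  {F : FusionSystem S} {θ : S →* Ω'} {F' : FusionSystem S'}

/-- Components are carried to components along an isomorphism. -/
theorem iso_isComponentIn [Finite S] (p : ℕ) [Fact p.Prime] (hS : IsPGroup p S)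
    (h : F.IsFactorSystem ⊥ θ F') {U : Subgroup Ω} {C : FusionSystem U} {θU : U →* Ω'}
    (hθU : ∀ (x : U) (hx : (x : Ω) ∈ S), θU x = θ ⟨x, hx⟩) {U' : Subgroup Ω'}
    {C' : FusionSystem U'} (hC' : C.IsFactorSystem ⊥ θU C') (hC : C.IsComponentIn F p) :
    C'.IsComponentIn F' p := by
  have hUS : U ≤ S := IsSubnormalIn.le hC.1
  have : Finite U := finite_of_le hUS
  exact ⟨iso_isSubnormalIn hC.1 hS θ F' h θU hθU C' hC',
    iso_quasisimple p (hS.to_le hUS) hC' hC.2⟩

end Component

section Layer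

variable {Ω : Type*} [Group Ω] {S : Subgroup Ω}

/-- Two layers of a system coincide. -/
theorem layer_unique {F : FusionSystem S} {p : ℕ} {T₁ T₂ : Subgroup Ω} {E₁ : FusionSystem T₁}
    {E₂ : FusionSystem T₂} (h₁ : E₁.IsLayerOf F p) (h₂ : E₂.IsLayerOf F p) :
    T₁ = T₂ ∧ ∀ P : Subgroup Ω, E₁.Hom P = E₂.Hom P := by
  have h12 : E₁.IsSubsystemOf E₂ := h₁.2.2 _ E₂ h₂.1 h₂.2.1
  have h21 : E₂.IsSubsystemOf E₁ := h₂.2.2 _ E₁ h₁.1 h₁.2.1
  refine ⟨le_antisymm ?_ ?_, fun P => Set.Subset.antisymm (h12 P) (h21 P)⟩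
  · exact (E₂.le_of_mem (h12 _ (subtype_mem E₁ le_rfl))).1
  · exact (E₁.le_of_mem (h21 _ (subtype_mem E₂ le_rfl))).1

/-- A morphism from `F` to itself given by an automorphism of `S` carries `F` into itself. -/
theorem conjClosed_of_isMorphism {F : FusionSystem S} {α : MulAut S}
    (hα : F.IsMorphism F (S.subtype.comp α.toMonoidHom)) : ConjClosed F α := by
  intro P hP φ hφ
  obtain ⟨φ', hφ', hind⟩ := hα.2 P φ hφ
  refine ⟨_, φ', hφ', fun x => apply_mem_imageAlong _ hP x, ?_, fun x hx => ?_⟩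
  · intro y hy
    obtain ⟨x, hx, rfl⟩ := (mem_imageAlong_iff _ P y).mp hy
    exact ⟨⟨x, hx⟩, rfl⟩
  · exact inducedAlong_apply _ hind x (hP x.2) hx _

/-- The image of a layer under an automorphism of the system is a layer. -/
theorem layer_image [Finite S] (p : ℕ) [Fact p.Prime] (hS : IsPGroup p S) {F : FusionSystem S}
    {θ : S →* Ω} (hiso : F.IsFactorSystem ⊥ θ F) {T : Subgroup Ω} {E : FusionSystem T}
    (hE : E.IsLayerOf F p) (hTS : T ≤ S) {T' : Subgroup Ω} {E' : FusionSystem T'}
    (hE' : E.IsFactorSystem ⊥ (θ.comp (Subgroup.inclusion hTS)) E') : E'.IsLayerOf F p := by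
  have hinj := iso_injective hiso
  have hrange := iso_range hiso
  have hsymm := iso_symm hiso
  refine ⟨iso_isNormalIn p hS hiso hTS (fun x => rfl) hE' hE.1, ?_, ?_⟩
  · intro U C hC
    have hUS : U ≤ S := IsSubnormalIn.le hC.1
    have : Finite U := finite_of_le hUS
    have hinjU : Function.Injective ((invHom θ hinj hrange).comp (Subgroup.inclusion hUS)) :=
      (invHom_injective θ hinj hrange).comp (Subgroup.inclusion_injective hUS)
    obtain ⟨C₁, hC₁⟩ := exists_iso_image C _ hinjU
    have hC₁comp : C₁.IsComponentIn F p :=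
      iso_isComponentIn p hS hsymm
        (θU := (invHom θ hinj hrange).comp (Subgroup.inclusion hUS)) (fun x hx => rfl) hC₁ hC
    have hC₁E : C₁.IsSubsystemOf E := hE.2.1 _ C₁ hC₁comp
    have hU₁S : ((invHom θ hinj hrange).comp (Subgroup.inclusion hUS)).range ≤ S :=
      IsSubnormalIn.le hC₁comp.1
    exact iso_isSubsystemOf_pair θ hU₁S hTS
      (fun y => invHom_restrict_agree θ hinj hrange hUS hinjU y (hU₁S y.2)) (fun x => rfl)
      (iso_symm hC₁) hE' hC₁E
  · intro R D hD hcont
    have hRS : R ≤ S := hD.1.2.2.2.1.1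
    have : Finite R := finite_of_le hRS
    have hinjR : Function.Injective ((invHom θ hinj hrange).comp (Subgroup.inclusion hRS)) :=
      (invHom_injective θ hinj hrange).comp (Subgroup.inclusion_injective hRS)
    obtain ⟨D₁, hD₁⟩ := exists_iso_image D _ hinjR
    have hD₁F : D₁.IsNormalIn F p := iso_isNormalIn p hS hsymm hRS (fun x => rfl) hD₁ hD
    have hR₁S : ((invHom θ hinj hrange).comp (Subgroup.inclusion hRS)).range ≤ S :=
      hD₁F.1.2.2.2.1.1
    have hcont₁ : ∀ (U : Subgroup Ω) (C : FusionSystem U), C.IsComponentIn F p →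
        C.IsSubsystemOf D₁ := by
      intro U C hC
      have hUS : U ≤ S := IsSubnormalIn.le hC.1
      have : Finite U := finite_of_le hUS
      have hinjU : Function.Injective (θ.comp (Subgroup.inclusion hUS)) :=
        hinj.comp (Subgroup.inclusion_injective hUS)
      obtain ⟨C', hC'⟩ := exists_iso_image C _ hinjU
      have hC'comp : C'.IsComponentIn F p :=
        iso_isComponentIn p hS hiso
        (θU := θ.comp (Subgroup.inclusion hUS)) (fun x hx => rfl) hC' hC
      have hC'D : C'.IsSubsystemOf D := hcont _ C' hC'comp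
      have hU'S : (θ.comp (Subgroup.inclusion hUS)).range ≤ S := IsSubnormalIn.le hC'comp.1
      refine iso_isSubsystemOf_pair (invHom θ hinj hrange) hU'S hRS
        (θA := invHom (θ.comp (Subgroup.inclusion hUS)) hinjU rfl) ?_ (fun x => rfl)
        (iso_symm hC') hD₁ hC'D
      intro y
      have hy2 := y.2
      obtain ⟨u, hu⟩ := hy2
      have e : y = ⟨(θ.comp (Subgroup.inclusion hUS)) u, ⟨u, rfl⟩⟩ := Subtype.ext hu.symm
      have h1 := invHom_apply (θ.comp (Subgroup.inclusion hUS)) hinjU rfl u ⟨u, rfl⟩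
      have h2 := invHom_apply θ hinj hrange (Subgroup.inclusion hUS u) (hU'S ⟨u, rfl⟩)
      have e1 : invHom (θ.comp (Subgroup.inclusion hUS)) hinjU rfl y = (u : Ω) :=
        (congrArg _ e).trans h1
      have e2 : invHom θ hinj hrange ⟨y, hU'S y.2⟩ = (u : Ω) := by
        refine Eq.trans ?_ h2
        congr 1
        exact Subtype.ext hu.symm
      exact e1.trans e2.symm
    have hED₁ : E.IsSubsystemOf D₁ := hE.2.2 _ D₁ hD₁F hcont₁
    exact iso_isSubsystemOf_pair θ hTS hR₁S (fun x => rfl)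
      (fun y => invHom_restrict_agree θ hinj hrange hRS hinjR y (hR₁S y.2))
      hE' (iso_symm hD₁) hED₁

end Layer

end Cfsg.Agent.Helper25
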