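import Mathlib
import Cfsg.Agent.Helper25.FusionIso6
import Cfsg.Agent.Helper25.FusionNormalSubgroup

set_option autoImplicit false

/-! Realizations of fusion systems as isomorphisms onto group fusion systems; a simple realizable
system is realized by a simple group. -/

namespace Cfsg.Agent.Helper25

open Cfsg Cfsg.FusionSystem

section Realize

universe u

variable {Ω : Type*} [Group Ω] {S : Subgroup Ω} {G : Type*} [Group G] {F : FusionSystem S}

/-- An isomorphism onto a group fusion system is a realization. -/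
theorem isRealizedBy_of_iso {ι : S →* G} {R : Subgroup G}
    (h : F.IsFactorSystem ⊥ ι (groupFusionSystem R)) : F.IsRealizedBy ι := by
  have hinj := iso_injective h
  refine ⟨hinj, fun P hP φ hφS => ?_⟩
  constructor
  · intro hφ
    obtain ⟨-, -, g, hg⟩ := iso_push h hφ (rfl : imageAlong ι P = _)
    refine ⟨g, fun x => ?_⟩
    have h1 := hg ⟨ι ⟨x, hP x.2⟩, apply_mem_imageAlong ι hP x⟩
    rw [pushHom_apply] at h1
    exact h1
  · rintro ⟨g, hg⟩
    refine iso_mem_of_induced h hP (φ' := pushHom ι hinj hP rfl φ hφS) ?_ rfl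
      (pushHom_induced ι hinj hP rfl φ hφS)
    refine ⟨imageAlong_le_of_range ι (iso_range h) P, fun y => ?_, g, fun y => ?_⟩
    · rw [pushHom_apply']
      exact iso_apply_mem h _
    · rw [pushHom_apply', hg]
      congr 2
      exact apply_imgEquiv_symm ι hinj hP rfl y

/-- A realization is an isomorphism onto the fusion system of the group on the image. -/
theorem isFactorSystem_of_isRealizedBy {ι : S →* G} (hι : F.IsRealizedBy ι) :
    F.IsFactorSystem ⊥ ι (groupFusionSystem ι.range) := by
  have h0 := realizedBy_isFactorSystem F ι hι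
  have h1 := iso_symm h0
  have e : invHom (realInv ι hι.1) (iso_injective h0) (iso_range h0) = ι := by
    ext s
    have h2 := invHom_apply (realInv ι hι.1) (iso_injective h0) (iso_range h0)
      ⟨ι s, apply_mem_range ι s⟩ (realInv_mem ι hι.1 _)
    have h3 : (⟨realInv ι hι.1 ⟨ι s, apply_mem_range ι s⟩, realInv_mem ι hι.1 _⟩ : S) = s :=
      Subtype.ext (realInv_apply ι hι.1 s _)
    rw [h3] at h2
    exact h2
  rw [e] at h1
  exact h1

theorem preimageAlong_bot_of_injective {Ω' : Type*} [Group Ω'] (θ : S →* Ω')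
    (hinj : Function.Injective θ) : preimageAlong θ ⊥ = ⊥ := by
  ext x
  rw [mem_preimageAlong, Subgroup.mem_bot]
  constructor
  · rintro ⟨hx, h⟩
    rw [Subgroup.mem_bot] at h
    have : (⟨x, hx⟩ : S) = 1 := hinj (h.trans (map_one θ).symm)
    exact congrArg (fun w : S => (w : Ω)) this
  · intro h
    subst h
    exact ⟨S.one_mem, by
      rw [Subgroup.mem_bot]
      exact map_one θ⟩

end Realize

section Simple

universe u

variable {Ω : Type u} [Group Ω] {S : Subgroup Ω} {F : FusionSystem S}

/-- A realization of a simple system by a group with a proper nontrivial normal subgroup gives a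
realization by a smaller group. -/
theorem exists_smaller_realization [Finite S] (p : ℕ) [Fact p.Prime]
    (hsimple : F.IsSimple p) {G : Type u} [Group G] [Finite G] (ι : S →* G)
    (hι : F.IsRealizedBy ι) (T : Sylow p G) (hT : (T : Subgroup G) = ι.range)
    (N : Subgroup G) [hN : N.Normal] (hN1 : N ≠ ⊥) (hN2 : N ≠ ⊤) :
    ∃ (G' : Type u) (_ : Group G') (_ : Finite G') (ι' : S →* G'), F.IsRealizedBy ι' ∧
      (∃ T' : Sylow p G', (T' : Subgroup G') = ι'.range) ∧ Nat.card G' < Nat.card G := by
  have hinj := hι.1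
  have hFG : F.IsFactorSystem ⊥ ι (groupFusionSystem (T : Subgroup G)) :=
    hT ▸ isFactorSystem_of_isRealizedBy hι
  have hrange : ι.range = (T : Subgroup G) := hT.symm
  have hGF := iso_symm hFG
  have hTGp : IsPGroup p (T : Subgroup G) := T.isPGroup'
  have hθι : ∀ s : S, invHom ι hinj hrange ⟨ι s, hrange ▸ ⟨s, rfl⟩⟩ = s :=
    fun s => invHom_apply ι hinj hrange s _
  have hιθ : ∀ t : (T : Subgroup G), ι ⟨invHom ι hinj hrange t, invHom_mem ι hinj hrange t⟩ = t :=
    fun t => apply_invHom ι hinj hrange t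
  have hTN : (T : Subgroup G) ⊓ N ≤ (T : Subgroup G) := inf_le_left
  have hEN := subgroupSystem_isNormalIn p T N
  have hinjN : Function.Injective ((invHom ι hinj hrange).comp (Subgroup.inclusion hTN)) :=
    (invHom_injective ι hinj hrange).comp (Subgroup.inclusion_injective hTN)
  obtain ⟨D, hD⟩ := exists_iso_image
    (fusionSystemOfSubgroup N ((T : Subgroup G) ⊓ N) inf_le_right) _ hinjN
  have hDF : D.IsNormalIn F p := iso_isNormalIn p hTGp hGF hTN (fun x => rfl) hD hEN
  rcases hsimple.2.2 _ D hDF with hb | ⟨hr, hHom⟩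
  · -- `N` is a `p'`-group: pass to the quotient
    have hbot : (T : Subgroup G) ⊓ N = ⊥ := by
      rw [eq_bot_iff]
      intro x hx
      have h1 : ((invHom ι hinj hrange).comp (Subgroup.inclusion hTN)) ⟨x, hx⟩ ∈
          ((invHom ι hinj hrange).comp (Subgroup.inclusion hTN)).range := ⟨_, rfl⟩
      rw [hb, Subgroup.mem_bot] at h1
      have h2 : (⟨x, hx⟩ : ↥((T : Subgroup G) ⊓ N)) = 1 := hinjN (h1.trans (map_one _).symm)
      rw [Subgroup.mem_bot]
      exact congrArg (fun w : ↥((T : Subgroup G) ⊓ N) => (w : G)) h2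
    have hquot := groupFusion_isFactorSystem p T N
    rw [hbot] at hquot
    have hcomp := iso_comp_factor hFG hquot (γ := (QuotientGroup.mk' N).comp ι) (fun s => rfl)
    rw [preimageAlong_bot_of_injective ι hinj] at hcomp
    refine ⟨G ⧸ N, inferInstance, inferInstance, (QuotientGroup.mk' N).comp ι,
      isRealizedBy_of_iso hcomp, ⟨T.mapSurjective (QuotientGroup.mk'_surjective N), ?_⟩, ?_⟩
    · rw [Sylow.coe_mapSurjective, MonoidHom.range_comp, hrange]
    · have h1 := Subgroup.card_eq_card_quotient_mul_card_subgroup N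
      have h2 : 1 < Nat.card N := (Subgroup.one_lt_card_iff_ne_bot N).mpr hN1
      have h3 : 0 < Nat.card (G ⧸ N) := Nat.card_pos
      rw [h1]
      nlinarith
  · -- `N` contains the Sylow subgroup and realizes the system
    have hTGN : (T : Subgroup G) ≤ N := by
      intro t ht
      have h1 : invHom ι hinj hrange ⟨t, ht⟩ ∈
          ((invHom ι hinj hrange).comp (Subgroup.inclusion hTN)).range := by
        rw [hr]
        exact invHom_mem ι hinj hrange _
      obtain ⟨u, hu⟩ := h1
      have h2 : Subgroup.inclusion hTN u = ⟨t, ht⟩ := invHom_injective ι hinj hrange hu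
      have h3 : (u : G) = t := congrArg (fun w : (T : Subgroup G) => (w : G)) h2
      rw [← h3]
      exact u.2.2
    have hιT : ∀ s : S, ι s ∈ (T : Subgroup G) := fun s => hrange ▸ ⟨s, rfl⟩
    have hιN : ∀ s : S, ι s ∈ N := fun s => hTGN (hιT s)
    refine ⟨N, inferInstance, inferInstance, ι.codRestrict N hιN, ⟨?_, ?_⟩,
      ⟨T.subtype hTGN, ?_⟩, ?_⟩
    · intro a b hab
      exact hinj (congrArg Subtype.val hab)
    · intro P hP φ hφS
      constructor
      · intro hφ
        rw [← hHom] at hφ
        obtain ⟨ψ, ⟨-, -, g, hgN, hg⟩, hind⟩ := iso_pull hD hφ rfl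
        refine ⟨⟨g, hgN⟩, fun x => ?_⟩
        apply Subtype.ext
        show ι ⟨φ x, hφS x⟩ = g * ι ⟨x, hP x.2⟩ * g⁻¹
        have hxTN : ι ⟨x, hP x.2⟩ ∈ (T : Subgroup G) ⊓ N := ⟨hιT _, hιN _⟩
        have hxpre : ι ⟨x, hP x.2⟩ ∈
            preimageAlong ((invHom ι hinj hrange).comp (Subgroup.inclusion hTN)) P := by
          refine (mem_preimageAlong _ _ _).mpr ⟨hxTN, ?_⟩
          show invHom ι hinj hrange ⟨ι ⟨x, hP x.2⟩, _⟩ ∈ P
          rw [hθι]
          exact x.2
        have h1 := inducedAlong_apply_eq _ hind ⟨ι ⟨x, hP x.2⟩, hxpre⟩ x hxTN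
          (hθι ⟨x, hP x.2⟩).symm (hind.2.1 _)
        have hy := hind.2.1 ⟨ι ⟨x, hP x.2⟩, hxpre⟩
        have h2 := hιθ ⟨ψ ⟨ι ⟨x, hP x.2⟩, hxpre⟩, hy.1⟩
        have h3 : ι ⟨φ x, hφS x⟩ = ψ ⟨ι ⟨x, hP x.2⟩, hxpre⟩ := by
          refine Eq.trans ?_ h2
          congr 1
          exact Subtype.ext h1
        rw [h3, hg]
      · rintro ⟨n, hn⟩
        refine (hι.2 P hP φ hφS).mpr ⟨(n : G), fun x => ?_⟩
        exact congrArg Subtype.val (hn x)
    · ext y
      rw [Sylow.coe_subtype, Subgroup.mem_subgroupOf]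
      constructor
      · intro hy
        have hy' : (y : G) ∈ ι.range := by
          rw [hrange]
          exact hy
        obtain ⟨s, hs⟩ := hy'
        exact ⟨s, Subtype.ext hs⟩
      · rintro ⟨s, rfl⟩
        exact hιT s
    · have h1 : Nat.card N ≤ Nat.card G := Subgroup.card_le_card_group N
      have h2 : Nat.card N ≠ Nat.card G := fun h => hN2 ((Subgroup.card_eq_iff_eq_top N).mp h)
      omega

end Simple

end Cfsg.Agent.Helper25
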