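import Mathlib
import Cfsg.Agent.Helper25.FusionIso4

set_option autoImplicit false

/-! Transport of normal and centric subgroups, and of constrainedness, along isomorphisms of
fusion systems. -/

namespace Cfsg.Agent.Helper25

open Cfsg Cfsg.FusionSystem

variable {Ω Ω' : Type*} [Group Ω] [Group Ω'] {S : Subgroup Ω} {S' : Subgroup Ω'}
  {F : FusionSystem S} {θ : S →* Ω'} {F' : FusionSystem S'}

/-- Normal subgroups are carried to normal subgroups. -/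
theorem iso_isNormal (h : F.IsFactorSystem ⊥ θ F') {Q : Subgroup Ω} (hQ : F.IsNormal Q) :
    F'.IsNormal (imageAlong θ Q) := by
  have hinj := iso_injective h
  have hrange := iso_range h
  refine ⟨imageAlong_le_of_range θ hrange Q, fun P' φ' hφ' => ?_⟩
  have hP'S' : P' ≤ S' := (F'.le_of_mem hφ').1
  obtain ⟨φ, hφ, hind⟩ := iso_pull h hφ' rfl
  have hPS : preimageAlong θ P' ≤ S := preimageAlong_le θ P'
  have hφS := (F.le_of_mem hφ).2
  obtain ⟨ψ, hψ, hext, hmap⟩ := hQ.2 _ φ hφ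
  have hPQS : preimageAlong θ P' ⊔ Q ≤ S := sup_le hPS hQ.1
  have hψS := (F.le_of_mem hψ).2
  have hPQ' : imageAlong θ (preimageAlong θ P' ⊔ Q) = P' ⊔ imageAlong θ Q := by
    rw [imageAlong_sup θ hPS hQ.1, imageAlong_preimageAlong θ hrange hP'S']
  have hψQ : ∀ q : ↥(preimageAlong θ P' ⊔ Q), (q : Ω) ∈ Q → ψ q ∈ Q := by
    intro q hq
    have h0 : ψ q ∈ (Q.subgroupOf (preimageAlong θ P' ⊔ Q)).map ψ := ⟨q, hq, rfl⟩
    have h00 : ∀ Y : Subgroup Ω, (Q.subgroupOf (preimageAlong θ P' ⊔ Q)).map ψ = Y → ψ q ∈ Y :=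
      fun Y hY => hY ▸ h0
    exact h00 Q hmap
  refine ⟨pushHom θ hinj hPQS hPQ' ψ hψS, iso_push h hψ hPQ', fun x' => ?_, ?_⟩
  · obtain ⟨x, hx⟩ := exists_preimageAlong θ hrange hP'S' x'
    rw [pushHom_apply_eq θ hinj hPQS hPQ' ψ hψS (Subgroup.inclusion le_sup_left x) _ hx.symm,
      inducedAlong_apply_eq θ hind x x' (hPS x.2) hx.symm (hφS x)]
    congr 1
    exact Subtype.ext (hext x)
  · ext y
    constructor
    · rintro ⟨x', hx', rfl⟩
      obtain ⟨q, hq, hqx⟩ := (mem_imageAlong_iff θ Q _).mp hx'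
      have hqx' : ((x' : ↥(P' ⊔ imageAlong θ Q)) : Ω') =
          θ ⟨((Subgroup.inclusion (le_sup_right : Q ≤ preimageAlong θ P' ⊔ Q) ⟨q, hq⟩ :
            ↥(preimageAlong θ P' ⊔ Q)) : Ω), hPQS (Subgroup.mem_sup_right hq)⟩ :=
        hqx.symm
      rw [pushHom_apply_eq θ hinj hPQS hPQ' ψ hψS (Subgroup.inclusion le_sup_right ⟨q, hq⟩) _ hqx']
      refine (mem_imageAlong_iff θ Q _).mpr ⟨_, hψQ _ hq, rfl⟩
    · intro hy
      obtain ⟨q₂, hq₂, hq₂y⟩ := (mem_imageAlong_iff θ Q _).mp hy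
      have h0 : (q₂ : Ω) ∈ (Q.subgroupOf (preimageAlong θ P' ⊔ Q)).map ψ := by
        rw [hmap]; exact hq₂
      obtain ⟨q, hq, hqq⟩ := h0
      have hθq : θ ⟨q, hPQS q.2⟩ ∈ P' ⊔ imageAlong θ Q :=
        Subgroup.mem_sup_right ((mem_imageAlong_iff θ Q _).mpr ⟨⟨q, hPQS q.2⟩, hq, rfl⟩)
      refine ⟨⟨θ ⟨q, hPQS q.2⟩, hθq⟩, (mem_imageAlong_iff θ Q _).mpr ⟨⟨q, hPQS q.2⟩, hq, rfl⟩, ?_⟩
      rw [pushHom_apply_eq θ hinj hPQS hPQ' ψ hψS q _ rfl, ← hq₂y]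
      congr 1
      exact Subtype.ext hqq

/-- Centric subgroups are carried to centric subgroups. -/
theorem iso_isCentric (h : F.IsFactorSystem ⊥ θ F') {Q : Subgroup Ω} (hQ : F.IsCentric Q) :
    F'.IsCentric (imageAlong θ Q) := by
  have hinj := iso_injective h
  have hrange := iso_range h
  refine ⟨imageAlong_le_of_range θ hrange Q, ?_⟩
  rintro _ ⟨φ', hφ', rfl⟩
  have hpre : preimageAlong θ (imageAlong θ Q) = Q := preimageAlong_imageAlong_inj θ hinj hQ.1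
  obtain ⟨φ, hφ, hind⟩ := iso_pull h hφ' hpre
  have hc := hQ.2 φ.range ⟨φ, hφ, rfl⟩
  have hφS := (F.le_of_mem hφ).2
  have hRS : φ.range ≤ S := by
    rintro _ ⟨x, rfl⟩
    exact hφS x
  have hR : imageAlong θ φ.range = φ'.range := by
    obtain ⟨hP, hφS', hP', heq⟩ := hind
    ext y
    rw [mem_imageAlong_iff]
    constructor
    · rintro ⟨z, ⟨x, hx⟩, rfl⟩
      refine ⟨⟨θ ⟨x, hP x.2⟩, hP' x⟩, ?_⟩
      rw [heq x]
      congr 1
      exact Subtype.ext hx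
    · rintro ⟨x', rfl⟩
      obtain ⟨q, hq, hqx⟩ := (mem_imageAlong_iff θ Q _).mp x'.2
      refine ⟨⟨φ ⟨q, hq⟩, hφS' ⟨q, hq⟩⟩, ⟨⟨q, hq⟩, rfl⟩, ?_⟩
      rw [← heq ⟨q, hq⟩]
      congr 1
      exact Subtype.ext hqx
  rw [← hR, ← imageAlong_centralizerIn θ hinj hrange hRS]
  exact imageAlong_mono θ hc

/-- Constrainedness is carried along isomorphisms of fusion systems. -/
theorem iso_isConstrained [Finite S] (p : ℕ) [Fact p.Prime] (hS : IsPGroup p S)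
    (h : F.IsFactorSystem ⊥ θ F') (hF : F.IsConstrained p) : F'.IsConstrained p := by
  obtain ⟨hsat, Q, hQ, hQc⟩ := hF
  exact ⟨iso_isSaturated p hS h hsat, imageAlong θ Q, iso_isNormal h hQ, iso_isCentric h hQc⟩

end Cfsg.Agent.Helper25
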