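import Mathlib
import Cfsg.Prelude.Def_FusionSystem
import Cfsg.Prelude.Def_KGroupFacts
import Cfsg.Agent.Helper25.FusionSat
import Cfsg.Agent.Helper25.FusionNormal
import Cfsg.Agent.Helper25.FusionResidualGroup

set_option autoImplicit false

/-! Automorphism groups of dihedral and generalized quaternion 2-groups are 2-groups. -/

namespace Cfsg.Agent.Helper25

open Cfsg Cfsg.FusionSystem

/-- A group with a cyclic subgroup `⟨c⟩` of order `2^a` of index two, all elements outside of which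
have order different from that of `c`: every automorphism has `2`-power order. -/
theorem aut_pow_eq_one_of_cyclic_index_two {S : Type*} [Group S] [Finite S] (c s : S) (a : ℕ)
    (ha : 1 ≤ a) (hc : orderOf c = 2 ^ a)
    (hgen : ∀ x : S, x ∈ Subgroup.zpowers c ∨ ∃ y ∈ Subgroup.zpowers c, x = s * y)
    (hs : s ∉ Subgroup.zpowers c)
    (hord : ∀ x : S, x ∉ Subgroup.zpowers c → orderOf x ≠ orderOf c)
    (α : MulAut S) : α ^ (2 ^ (a - 1) * 2 ^ a) = 1 := by
  have hpres : ∀ γ : MulAut S, γ c ∈ Subgroup.zpowers c := by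
    intro γ
    by_contra h
    exact hord _ h (MulEquiv.orderOf_eq γ c)
  have hpres' : ∀ γ : MulAut S, ∀ y ∈ Subgroup.zpowers c, γ y ∈ Subgroup.zpowers c := by
    rintro γ _ ⟨k, rfl⟩
    show γ (c ^ k) ∈ _
    rw [map_zpow]
    exact Subgroup.zpow_mem _ (hpres γ) k
  obtain ⟨u, hu⟩ : ∃ u : ℕ, c ^ u = α c := by
    have := mem_powers_iff_mem_zpowers.mpr (hpres α)
    exact this
  have hpow : ∀ k : ℕ, (α ^ k) c = c ^ (u ^ k) := by
    intro k
    induction k with
    | zero => simp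
    | succ k ih =>
      rw [pow_succ, MulAut.mul_apply, ← hu, map_pow, ih, ← pow_mul, pow_succ]
  have hcop : Nat.Coprime u (2 ^ a) := by
    have h1 : orderOf (c ^ u) = orderOf c := by rw [hu]; exact MulEquiv.orderOf_eq α c
    rw [orderOf_pow, hc] at h1
    have hpos : 0 < 2 ^ a := pow_pos (by norm_num) a
    have h2 : Nat.gcd (2 ^ a) u = 1 := by
      rcases (Nat.div_eq_self.mp h1) with h | h
      · omega
      · exact h
    rw [Nat.coprime_comm]
    exact h2
  have htot : Nat.totient (2 ^ a) = 2 ^ (a - 1) := by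
    rw [Nat.totient_prime_pow Nat.prime_two (by omega)]
    simp
  have hβc : (α ^ (2 ^ (a - 1))) c = c := by
    rw [hpow]
    have h1 := Nat.ModEq.pow_totient hcop
    rw [htot, ← hc] at h1
    have h2 := pow_eq_pow_iff_modEq.mpr h1
    rw [h2, pow_one]
  set β := α ^ (2 ^ (a - 1)) with hβ
  have hβk : ∀ k : ℕ, ∀ z ∈ Subgroup.zpowers c, (β ^ k) z = z := by
    intro k
    have h1 : (β ^ k) c = c := by
      induction k with
      | zero => simp
      | succ k ih => rw [pow_succ, MulAut.mul_apply, hβc, ih]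
    rintro _ ⟨j, rfl⟩
    show (β ^ k) (c ^ j) = c ^ j
    rw [map_zpow, h1]
  have hβs : β s ∉ Subgroup.zpowers c := by
    intro h
    apply hs
    have := hpres' β⁻¹ _ h
    simpa using this
  obtain ⟨y, hy, hβsy⟩ : ∃ y ∈ Subgroup.zpowers c, β s = s * y := by
    rcases hgen (β s) with h | h
    · exact absurd h hβs
    · exact h
  have hβpow : ∀ k : ℕ, (β ^ k) s = s * y ^ k := by
    intro k
    induction k with
    | zero => simp
    | succ k ih =>
      rw [pow_succ, MulAut.mul_apply, hβsy, map_mul, ih, hβk k y hy, pow_succ, mul_assoc]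
  have hy1 : y ^ (2 ^ a) = 1 := by
    obtain ⟨j, rfl⟩ := hy
    show (c ^ j) ^ (2 ^ a) = 1
    rw [← zpow_natCast, ← zpow_mul, mul_comm, zpow_mul, zpow_natCast, ← hc, pow_orderOf_eq_one,
      one_zpow]
  rw [pow_mul]
  apply MulEquiv.ext
  intro x
  rw [MulAut.one_apply]
  rcases hgen x with h | ⟨z, hz, rfl⟩
  · exact hβk _ x h
  · rw [map_mul, hβpow, hy1, mul_one, hβk _ z hz]

theorem isPGroup_mulAut_of_cyclic_index_two {S : Type*} [Group S] [Finite S] (c s : S) (a : ℕ)
    (ha : 1 ≤ a) (hc : orderOf c = 2 ^ a)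
    (hgen : ∀ x : S, x ∈ Subgroup.zpowers c ∨ ∃ y ∈ Subgroup.zpowers c, x = s * y)
    (hs : s ∉ Subgroup.zpowers c)
    (hord : ∀ x : S, x ∉ Subgroup.zpowers c → orderOf x ≠ orderOf c) : IsPGroup 2 (MulAut S) := by
  intro α
  refine ⟨(a - 1) + a, ?_⟩
  rw [pow_add]
  exact aut_pow_eq_one_of_cyclic_index_two c s a ha hc hgen hs hord α

theorem isPGroup_mulAut_dihedral (a : ℕ) (ha : 2 ≤ a) : IsPGroup 2 (MulAut (DihedralGroup (2 ^ a))) := by
  haveI : NeZero (2 ^ a) := ⟨(pow_pos (by norm_num) a).ne'⟩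
  have hmem : ∀ i : ZMod (2 ^ a), DihedralGroup.r i ∈ Subgroup.zpowers (DihedralGroup.r (1 : ZMod (2 ^ a))) := by
    intro i
    refine ⟨(i.val : ℤ), ?_⟩
    show DihedralGroup.r 1 ^ (i.val : ℤ) = _
    rw [DihedralGroup.r_one_zpow]
    congr 1
    simp
  have hnot : ∀ i : ZMod (2 ^ a), DihedralGroup.sr i ∉ Subgroup.zpowers (DihedralGroup.r (1 : ZMod (2 ^ a))) := by
    rintro i ⟨k, hk⟩
    have hk' : DihedralGroup.r 1 ^ k = DihedralGroup.sr i := hk
    rw [DihedralGroup.r_one_zpow] at hk'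
    cases hk'
  refine isPGroup_mulAut_of_cyclic_index_two (DihedralGroup.r 1) (DihedralGroup.sr 0) a (by omega)
    DihedralGroup.orderOf_r_one ?_ (hnot 0) ?_
  · rintro (i | i)
    · exact Or.inl (hmem i)
    · exact Or.inr ⟨DihedralGroup.r i, hmem i, by rw [DihedralGroup.sr_mul_r, zero_add]⟩
  · rintro (i | i) hx
    · exact absurd (hmem i) hx
    · rw [DihedralGroup.orderOf_sr, DihedralGroup.orderOf_r_one]
      have : 2 ^ 2 ≤ 2 ^ a := Nat.pow_le_pow_right (by norm_num) ha
      omega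


theorem isPGroup_mulAut_quaternion (b : ℕ) (hb : 2 ≤ b) :
    IsPGroup 2 (MulAut (QuaternionGroup (2 ^ b))) := by
  haveI : NeZero (2 ^ b) := ⟨(pow_pos (by norm_num) b).ne'⟩
  haveI : NeZero (2 * 2 ^ b) := ⟨by positivity⟩
  have hmem : ∀ i : ZMod (2 * 2 ^ b),
      QuaternionGroup.a i ∈ Subgroup.zpowers (QuaternionGroup.a (1 : ZMod (2 * 2 ^ b))) := by
    intro i
    refine ⟨(i.val : ℤ), ?_⟩
    show QuaternionGroup.a 1 ^ (i.val : ℤ) = _
    rw [zpow_natCast, QuaternionGroup.a_one_pow]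
    congr 1
    simp
  have hnot : ∀ i : ZMod (2 * 2 ^ b),
      QuaternionGroup.xa i ∉ Subgroup.zpowers (QuaternionGroup.a (1 : ZMod (2 * 2 ^ b))) := by
    intro i h
    obtain ⟨k, hk⟩ := mem_powers_iff_mem_zpowers.mpr h
    have hk' : QuaternionGroup.a 1 ^ k = QuaternionGroup.xa i := hk
    rw [QuaternionGroup.a_one_pow] at hk'
    cases hk'
  have hord : orderOf (QuaternionGroup.a (1 : ZMod (2 * 2 ^ b))) = 2 ^ (b + 1) := by
    rw [QuaternionGroup.orderOf_a_one, pow_succ, mul_comm]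
  refine isPGroup_mulAut_of_cyclic_index_two (QuaternionGroup.a 1) (QuaternionGroup.xa 0) (b + 1)
    (by omega) hord ?_ (hnot 0) ?_
  · rintro (i | i)
    · exact Or.inl (hmem i)
    · exact Or.inr ⟨QuaternionGroup.a i, hmem i, by rw [QuaternionGroup.xa_mul_a, zero_add]⟩
  · rintro (i | i) hx
    · exact absurd (hmem i) hx
    · rw [QuaternionGroup.orderOf_xa, hord]
      have : 2 ^ 3 ≤ 2 ^ (b + 1) := Nat.pow_le_pow_right (by norm_num) (by omega)
      omega

/-- `Aut_S(S)` is the group of inner automorphisms. -/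
theorem autInducedBy_self_eq_inn {Ω : Type*} [Group Ω] (S : Subgroup Ω) :
    autInducedBy S S = Cfsg.Inn S := by
  ext α
  rw [mem_autInducedBy_iff]
  constructor
  · rintro ⟨g, hg, h⟩
    refine ⟨⟨g, hg⟩, ?_⟩
    apply MulEquiv.ext
    intro x
    apply Subtype.ext
    rw [h x]
    simp [MulAut.conj_apply]
  · rintro ⟨g, rfl⟩
    exact ⟨g, g.2, fun x => by simp [MulAut.conj_apply]⟩

/-- In a saturated fusion system over `S` with `Aut(S)` a `p`-group, `Aut_F(S) = Inn(S)`. -/
theorem autGroup_top_eq_inn {Ω : Type*} [Group Ω] {S : Subgroup Ω} [Finite S] (p : ℕ) [Fact p.Prime]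
    (F : FusionSystem S) (hF : F.IsSaturated p) (hA : IsPGroup p (MulAut S)) :
    F.autGroup S = Cfsg.Inn S := by
  obtain ⟨-, R, hR⟩ := top_isFullyAutomized p F hF
  have hAp : IsPGroup p (F.autGroup S) := hA.to_subgroup _
  have htop : IsPGroup p (⊤ : Subgroup (F.autGroup S)) :=
    hAp.of_equiv Subgroup.topEquiv.symm
  have h1 : (⊤ : Subgroup (F.autGroup S)) = R := R.is_maximal' htop le_top
  rw [hR] at h1
  have h2 : F.autGroup S ≤ autInducedBy S S := Subgroup.subgroupOf_eq_top.mp h1.symm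
  rw [← autInducedBy_self_eq_inn]
  exact le_antisymm h2 (autInducedBy_le_autGroup F le_rfl)

end Cfsg.Agent.Helper25
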