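import Mathlib

set_option autoImplicit false

/-! An endomorphism computation: if `G ^ p = 1` in `End A` (`A` an abelian group, `p ≥ 5`),
`(G - 1)²` maps `A` into `pA` and every element killed by `p` is a multiple of `p`, then
`G - 1` maps `A` into `pA`. -/

namespace Cfsg.Agent.Helper25.EndBinom

variable {A : Type*} [AddCommGroup A]

/-- Endomorphisms mapping `A` into `p ^ k • A`. -/
def imIdeal (p k : ℕ) : AddSubgroup (AddMonoid.End A) where
  carrier := {φ | ∀ a, ∃ b, φ a = p ^ k • b}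
  zero_mem' := fun a => ⟨0, by simp⟩
  add_mem' := by
    intro φ ψ hφ hψ a
    obtain ⟨b, hb⟩ := hφ a
    obtain ⟨c, hc⟩ := hψ a
    exact ⟨b + c, by show φ a + ψ a = _; rw [hb, hc, smul_add]⟩
  neg_mem' := by
    intro φ hφ a
    obtain ⟨b, hb⟩ := hφ a
    exact ⟨-b, by show -(φ a) = _; rw [hb, smul_neg]⟩

theorem mem_imIdeal {p k : ℕ} {φ : AddMonoid.End A} :
    φ ∈ imIdeal (A := A) p k ↔ ∀ a, ∃ b, φ a = p ^ k • b := Iff.rfl

theorem mul_mem_imIdeal {p j k : ℕ} {φ ψ : AddMonoid.End A} (hφ : φ ∈ imIdeal (A := A) p j)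
    (hψ : ψ ∈ imIdeal (A := A) p k) : φ * ψ ∈ imIdeal (A := A) p (j + k) := by
  intro a
  obtain ⟨b, hb⟩ := hψ a
  obtain ⟨c, hc⟩ := hφ b
  refine ⟨c, ?_⟩
  rw [AddMonoid.End.coe_mul, Function.comp_apply, hb, map_nsmul, hc, smul_smul, ← pow_add, add_comm]

theorem mul_mem_imIdeal_left {p k : ℕ} {φ : AddMonoid.End A} (hφ : φ ∈ imIdeal (A := A) p k)
    (ψ : AddMonoid.End A) : φ * ψ ∈ imIdeal (A := A) p k := by
  intro a
  obtain ⟨b, hb⟩ := hφ (ψ a)
  exact ⟨b, by rw [AddMonoid.End.coe_mul, Function.comp_apply, hb]⟩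

theorem mul_natCast_mem_imIdeal {p k : ℕ} {φ : AddMonoid.End A} (hφ : φ ∈ imIdeal (A := A) p k)
    (c : ℕ) : φ * ((p * c : ℕ) : AddMonoid.End A) ∈ imIdeal (A := A) p (k + 1) := by
  intro a
  obtain ⟨b, hb⟩ := hφ (c • a)
  refine ⟨b, ?_⟩
  rw [AddMonoid.End.coe_mul, Function.comp_apply, AddMonoid.End.natCast_apply, mul_smul, map_nsmul, hb, smul_smul,
    ← pow_succ']

theorem key (p : ℕ) [hp : Fact p.Prime] (hp5 : 5 ≤ p) (G : AddMonoid.End A) (hG : G ^ p = 1)
    (hN2 : ∀ a, ∃ b, (G - 1) ((G - 1) a) = p • b)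
    (hΩ : ∀ a : A, p • a = 0 → ∃ b, a = p • b) : ∀ a, ∃ b, (G - 1) a = p • b := by
  set N := G - 1 with hN
  have hGN : G = N + 1 := by rw [hN]; abel
  have hNN : N * N ∈ imIdeal (A := A) p 1 := by
    intro a
    obtain ⟨b, hb⟩ := hN2 a
    exact ⟨b, by rw [AddMonoid.End.coe_mul, Function.comp_apply, hb, pow_one]⟩
  have hbin := (Commute.one_right N).add_pow p
  rw [← hGN, hG] at hbin
  simp only [one_pow, mul_one] at hbin
  -- peel off `m = 0` and `m = 1`
  obtain ⟨q, hq⟩ : ∃ q, p = q + 2 := ⟨p - 2, by omega⟩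
  rw [hq, Finset.sum_range_succ', Finset.sum_range_succ'] at hbin
  simp only [pow_zero, Nat.choose_zero_right, Nat.cast_one, mul_one, zero_add, pow_one,
    Nat.choose_one_right] at hbin
  have hrest : ∑ k ∈ Finset.range (q + 1), N ^ (k + 1 + 1) * (((q + 2).choose (k + 1 + 1) : ℕ) :
      AddMonoid.End A) ∈ imIdeal (A := A) p 2 := by
    apply AddSubgroup.sum_mem
    intro k hk
    rw [Finset.mem_range] at hk
    have hpow : N ^ (k + 1 + 1) = N * N * N ^ k := by
      rw [show k + 1 + 1 = 2 + k by ring, pow_add, sq]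
    by_cases hkq : k = q
    · subst hkq
      rw [Nat.choose_self, Nat.cast_one, mul_one, hpow]
      obtain ⟨r, hr⟩ : ∃ r, k = r + 2 := ⟨k - 2, by omega⟩
      have : N ^ k = N * N * N ^ r := by
        rw [hr, show r + 2 = 2 + r by ring, pow_add, sq]
      rw [this, ← mul_assoc]
      exact mul_mem_imIdeal_left (mul_mem_imIdeal hNN hNN) _
    · have hlt : k + 1 + 1 < q + 2 := by omega
      have hdvd : p ∣ (q + 2).choose (k + 1 + 1) := by
        rw [← hq]
        exact Nat.Prime.dvd_choose_self hp.out (by omega) (by omega)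
      obtain ⟨c, hc⟩ := hdvd
      rw [hc]
      exact mul_natCast_mem_imIdeal (hpow ▸ mul_mem_imIdeal_left hNN _) c
  have hNp : N * ((q + 2 : ℕ) : AddMonoid.End A) ∈ imIdeal (A := A) p 2 := by
    have h2 : N * ((q + 2 : ℕ) : AddMonoid.End A) =
        - ∑ k ∈ Finset.range (q + 1), N ^ (k + 1 + 1) * (((q + 2).choose (k + 1 + 1) : ℕ) :
          AddMonoid.End A) := by
      have h4 : ∑ k ∈ Finset.range (q + 1), N ^ (k + 1 + 1) * (((q + 2).choose (k + 1 + 1) : ℕ) :
          AddMonoid.End A) + N * ((q + 2 : ℕ) : AddMonoid.End A) + 1 = 0 + 1 := by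
        rw [zero_add]; exact hbin.symm
      exact eq_neg_of_add_eq_zero_right (add_right_cancel h4)
    rw [h2]
    exact AddSubgroup.neg_mem _ hrest
  intro a
  obtain ⟨b, hb⟩ := hNp a
  rw [AddMonoid.End.coe_mul, Function.comp_apply, AddMonoid.End.natCast_apply, ← hq, map_nsmul] at hb
  have h0 : p • (N a - p • b) = 0 := by
    rw [smul_sub, hb, smul_smul, ← sq, sub_self]
  obtain ⟨c, hc⟩ := hΩ _ h0
  exact ⟨b + c, by rw [smul_add, ← hc]; abel⟩

end Cfsg.Agent.Helper25.EndBinom
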