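import Mathlib
import Cfsg.Agent.Helper25.CharChain
import Cfsg.Agent.Helper25.OrderPCube
import Cfsg.Agent.Helper25.EndBinom

set_option autoImplicit false

/-! Automorphisms of finite abelian `p`-groups of rank at most two. -/

namespace Cfsg.Agent.Helper25.AbRank2

open scoped commutatorElement

variable {H : Type*} [Group H]

/-- The `n`-th power homomorphism of a commutative group. -/
def cpow (hcomm : ∀ a b : H, a * b = b * a) (n : ℕ) : H →* H :=
  OrderPCube.powHom n (fun x y => Commute.mul_pow (hcomm x y) n)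

theorem cpow_apply (hcomm : ∀ a b : H, a * b = b * a) (n : ℕ) (x : H) : cpow hcomm n x = x ^ n := rfl

theorem mem_cpow_ker (hcomm : ∀ a b : H, a * b = b * a) (n : ℕ) (x : H) :
    x ∈ (cpow hcomm n).ker ↔ x ^ n = 1 := Iff.rfl

theorem mem_cpow_range (hcomm : ∀ a b : H, a * b = b * a) (n : ℕ) (x : H) :
    x ∈ (cpow hcomm n).range ↔ ∃ y, y ^ n = x := Iff.rfl

theorem cpow_ker_char (hcomm : ∀ a b : H, a * b = b * a) (n : ℕ) (α : MulAut H) :
    ∀ x ∈ (cpow hcomm n).ker, α x ∈ (cpow hcomm n).ker :=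
  OrderPCube.ker_char n _ α

theorem cpow_range_char (hcomm : ∀ a b : H, a * b = b * a) (n : ℕ) (α : MulAut H) :
    ∀ x ∈ (cpow hcomm n).range, α x ∈ (cpow hcomm n).range :=
  OrderPCube.range_char n _ α

/-- An automorphism of order prime to `p` of an abelian `p`-group which is trivial on the elements
of order dividing `p` is trivial. -/
theorem coprime_trivial_of_omega (p : ℕ) [hp : Fact p.Prime] (hH : IsPGroup p H)
    (hcomm : ∀ a b : H, a * b = b * a) (γ : MulAut H) (hcop : (orderOf γ).Coprime p)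
    (hΩ : ∀ x : H, x ^ p = 1 → γ x = x) : γ = 1 := by
  have key : ∀ k : ℕ, ∀ x : H, x ^ (p ^ k) = 1 → γ x = x := by
    intro k
    induction k with
    | zero =>
      intro x hx
      rw [pow_zero, pow_one] at hx
      rw [hx, map_one]
    | succ k ih =>
      intro x hx
      have h1 : γ (x ^ p) = x ^ p := by
        apply ih
        rw [← pow_mul, ← pow_succ']
        exact hx
      have h2 : (x⁻¹ * γ x) ^ p = 1 := by
        rw [Commute.mul_pow (hcomm _ _), inv_pow, ← map_pow, h1, inv_mul_cancel]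
      exact PFour.apply_eq_of_fixes p hH γ hcop x (hΩ _ h2)
  apply MulEquiv.ext
  intro x
  obtain ⟨k, hk⟩ := hH x
  exact key k x hk

/-- Variant of `CharChain.commutator_mulAut_isPGroup` where the chain starts at a subgroup `U 0`
on which automorphisms of order prime to `p` are detected. -/
theorem commutator_isPGroup_of_chain [Finite H] (p : ℕ) [Fact p.Prime] (hH : IsPGroup p H)
    (U : ℕ → Subgroup H) (n : ℕ) (hn : U n = ⊥)
    (hW : ∀ γ : MulAut H, (orderOf γ).Coprime p → (∀ x ∈ U 0, γ x = x) → γ = 1)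
    (hchar : ∀ j, ∀ α : MulAut H, ∀ x ∈ U j, α x ∈ U j)
    (hcyc : ∀ j, ∃ g ∈ U j, ∀ y ∈ U j, ∃ k : ℤ, (g ^ k)⁻¹ * y ∈ U (j + 1)) :
    IsPGroup p (commutator (MulAut H)) := by
  have hnorm : ∀ j, (U j).Normal := by
    intro j
    constructor
    intro x hx g
    exact hchar j (MulAut.conj g) x hx
  let K : Subgroup (MulAut H) :=
    { carrier := {γ | ∀ j, ∀ x ∈ U j, x⁻¹ * γ x ∈ U (j + 1)}
      one_mem' := by
        intro j x _
        simp
      mul_mem' := by
        intro γ δ hγ hδ j x hx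
        have h1 := hδ j x hx
        have h2 := hγ j (δ x) (hchar j δ x hx)
        have : x⁻¹ * (γ * δ) x = (x⁻¹ * δ x) * ((δ x)⁻¹ * γ (δ x)) := by
          rw [MulAut.mul_apply]; group
        rw [this]
        exact (U (j + 1)).mul_mem h1 h2
      inv_mem' := by
        intro γ hγ j x hx
        have h1 := hγ j (γ⁻¹ x) (hchar j γ⁻¹ x hx)
        rw [MulAut.apply_inv_self] at h1
        have : x⁻¹ * γ⁻¹ x = ((γ⁻¹ x)⁻¹ * x)⁻¹ := by group
        rw [this]
        exact (U (j + 1)).inv_mem h1 }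
  have hle : commutator (MulAut H) ≤ K := by
    rw [commutator_def, Subgroup.commutator_le]
    intro α _ β _ j x hx
    have := hnorm (j + 1)
    obtain ⟨g, hg, hgc⟩ := hcyc j
    exact CharChain.comm_stab_step (U j) (U (j + 1)) α β (hchar j α) (hchar j β) (hchar j α⁻¹)
      (hchar j β⁻¹) (hchar (j + 1) α) (hchar (j + 1) β) g hg hgc x hx
  have hK : IsPGroup p K := by
    apply PFour.isPGroup_of_coprime_trivial
    intro γ hγ
    have hγ' : Nat.Coprime (orderOf (γ : MulAut H)) p := by rwa [Subgroup.orderOf_coe]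
    have h1 := PFour.trivial_of_stabilizes_chain p hH (γ : MulAut H) hγ' U n hn γ.2
    exact Subtype.ext (hW _ hγ' h1)
  exact hK.to_le hle

end Cfsg.Agent.Helper25.AbRank2
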