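import Mathlib
import Cfsg.Agent.Helper25.AbRank2

set_option autoImplicit false

/-! A `p`-power-order automorphism of an abelian group of order at most `p²` is "quadratic". -/

namespace Cfsg.Agent.Helper25.AbRank2

variable {Q : Type*} [Group Q]

/-- `q ↦ q⁻¹ γ(q)` as a homomorphism of a commutative group. -/
def nHom (hcomm : ∀ a b : Q, a * b = b * a) (γ : MulAut Q) : Q →* Q where
  toFun q := q⁻¹ * γ q
  map_one' := by simp
  map_mul' a b := by
    rw [map_mul, mul_inv_rev, hcomm b⁻¹ a⁻¹, mul_assoc, ← mul_assoc b⁻¹, hcomm b⁻¹ (γ a), mul_assoc,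
      ← mul_assoc]

theorem nHom_apply (hcomm : ∀ a b : Q, a * b = b * a) (γ : MulAut Q) (q : Q) :
    nHom hcomm γ q = q⁻¹ * γ q := rfl

theorem quad_of_card_le [Finite Q] (p : ℕ) [hp : Fact p.Prime] (hQ : IsPGroup p Q)
    (hcomm : ∀ a b : Q, a * b = b * a) (hcard : Nat.card Q ≤ p ^ 2) (γ : MulAut Q)
    (hγ : γ ^ p = 1) : ∀ q : Q, nHom hcomm γ (nHom hcomm γ q) = 1 := by
  set f := nHom hcomm γ with hf
  obtain ⟨k, hk⟩ := IsPGroup.iff_card.mp hQ
  have hk2 : k ≤ 2 := by
    rw [hk] at hcard
    exact (Nat.pow_le_pow_iff_right hp.out.one_lt).mp hcard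
  have hprod : Nat.card f.ker * Nat.card f.range = Nat.card Q := by
    rw [← Subgroup.index_ker]; exact Subgroup.card_mul_index _
  -- fixed point congruence
  have hΓ : IsPGroup p (Subgroup.zpowers γ) := by
    have hdvd : orderOf γ ∣ p := orderOf_dvd_of_pow_eq_one hγ
    rcases (Nat.dvd_prime hp.out).mp hdvd with h | h
    · apply IsPGroup.of_card (n := 0)
      rw [Nat.card_zpowers, h, pow_zero]
    · apply IsPGroup.of_card (n := 1)
      rw [Nat.card_zpowers, h, pow_one]
  have hfix : (MulAction.fixedPoints (Subgroup.zpowers γ) Q) = (f.ker : Set Q) := by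
    ext q
    simp only [MulAction.mem_fixedPoints, SetLike.mem_coe, MonoidHom.mem_ker]
    constructor
    · intro h
      have h1 := h ⟨γ, Subgroup.mem_zpowers γ⟩
      have h2 : γ q = q := h1
      rw [hf, nHom_apply, h2, inv_mul_cancel]
    · intro h ⟨δ, hδ⟩
      have h2 : γ q = q := by
        rw [hf, nHom_apply] at h
        exact (inv_mul_eq_one.mp h).symm
      obtain ⟨m, rfl⟩ := Subgroup.mem_zpowers_iff.mp hδ
      show (γ ^ m) q = q
      have hfixm : ∀ m : ℕ, (γ ^ m) q = q := by
        intro m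
        induction m with
        | zero => simp
        | succ m ih => rw [pow_succ, MulAut.mul_apply, h2, ih]
      rcases Int.eq_nat_or_neg m with ⟨n, rfl | rfl⟩
      · rw [zpow_natCast]; exact hfixm n
      · rw [zpow_neg, zpow_natCast]
        have := hfixm n
        rw [← this, MulAut.inv_apply_self, this]
  have hcong := hΓ.card_modEq_card_fixedPoints Q
  rw [hfix] at hcong
  have hcong' : Nat.card Q ≡ Nat.card f.ker [MOD p] := hcong
  intro q
  by_cases hk0 : k = 0
  · subst hk0
    rw [pow_zero] at hk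
    have : Subsingleton Q := (Nat.card_eq_one_iff_unique.mp hk).1
    exact Subsingleton.elim _ _
  -- `p ∣ card ker`
  have hpQ : p ∣ Nat.card Q := by rw [hk]; exact dvd_pow_self p hk0
  have hpker : p ∣ Nat.card f.ker := by
    have := (Nat.modEq_zero_iff_dvd.mpr hpQ)
    exact Nat.modEq_zero_iff_dvd.mp (hcong'.symm.trans this)
  have hrange_le : Nat.card f.range ≤ p := by
    obtain ⟨c, hc⟩ := hpker
    rw [hc, hk] at hprod
    have hcpos : 0 < c := by
      rcases Nat.eq_zero_or_pos c with h | h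
      · rw [h, mul_zero] at hc
        exact absurd hc Nat.card_pos.ne'
      · exact h
    have hrpos : 0 < Nat.card f.range := Nat.card_pos
    have h1 : p * (c * Nat.card f.range) = p * p ^ (k - 1) := by
      rw [← mul_assoc, hprod, ← pow_succ']
      congr 1; omega
    have h2 := Nat.eq_of_mul_eq_mul_left hp.out.pos h1
    have h3 : Nat.card f.range ≤ p ^ (k - 1) := by
      rw [← h2]; exact Nat.le_mul_of_pos_left _ hcpos
    calc Nat.card f.range ≤ p ^ (k - 1) := h3
      _ ≤ p ^ 1 := Nat.pow_le_pow_right hp.out.pos (by omega)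
      _ = p := pow_one p
  set r := f q with hr
  have hrR : r ∈ f.range := ⟨q, rfl⟩
  by_cases hr1 : r = 1
  · rw [hr1, map_one]
  -- `range f` has order exactly `p`
  have hRdvd : Nat.card f.range ∣ p ^ k := by
    rw [← hk]; exact Subgroup.card_subgroup_dvd_card _
  obtain ⟨j, -, hj⟩ := (Nat.dvd_prime_pow hp.out).mp hRdvd
  have hj1 : j = 1 := by
    have hjle : j ≤ 1 := by
      rw [hj] at hrange_le
      by_contra hcon
      push Not at hcon
      have : p ^ 2 ≤ p ^ j := Nat.pow_le_pow_right hp.out.pos hcon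
      have h2 : p < p ^ 2 := by
        calc p = p ^ 1 := (pow_one p).symm
          _ < p ^ 2 := Nat.pow_lt_pow_right hp.out.one_lt (by norm_num)
      omega
    have hj0 : j ≠ 0 := by
      rintro rfl
      rw [pow_zero, Subgroup.card_eq_one] at hj
      rw [hj, Subgroup.mem_bot] at hrR
      exact hr1 hrR
    omega
  rw [hj1, pow_one] at hj
  have hrp : r ^ p = 1 := by
    have h1 : (⟨r, hrR⟩ : f.range) ^ Nat.card f.range = 1 := pow_card_eq_one'
    rw [hj] at h1
    exact congrArg Subtype.val h1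
  have hord : orderOf r = p := orderOf_eq_prime hrp hr1
  -- `γ r ∈ range f = zpowers r`
  have hγr : γ r ∈ f.range := ⟨γ q, by
    rw [hr, hf, nHom_apply, nHom_apply, map_mul, map_inv]⟩
  have hzp : ∀ y ∈ f.range, y ∈ Subgroup.zpowers r := by
    intro y hy
    have hle : Subgroup.zpowers r ≤ f.range := by
      rw [Subgroup.zpowers_le]; exact hrR
    have : Subgroup.zpowers r = f.range :=
      Subgroup.eq_of_le_of_card_ge hle (by rw [Nat.card_zpowers, hord, hj])
    rw [this]; exact hy
  obtain ⟨i, hi⟩ := (mem_powers_iff_mem_zpowers.mpr (hzp _ hγr))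
  have hi' : r ^ i = γ r := hi
  have hpowm : ∀ m : ℕ, (γ ^ m) r = r ^ (i ^ m) := by
    intro m
    induction m with
    | zero => simp
    | succ m ih =>
      rw [pow_succ', MulAut.mul_apply, ih, map_pow, ← hi', ← pow_mul, pow_succ']
  have h1 := hpowm p
  rw [hγ, MulAut.one_apply] at h1
  have h2 : r ^ 1 = r ^ (i ^ p) := by rw [pow_one]; exact h1
  rw [pow_eq_pow_iff_modEq, hord] at h2
  have h3 : (i : ZMod p) = 1 := by
    have h4 := (ZMod.natCast_eq_natCast_iff _ _ _).mpr h2
    push_cast at h4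
    rw [ZMod.pow_card] at h4
    exact h4.symm
  have h5 : i ≡ 1 [MOD p] := by
    rw [← ZMod.natCast_eq_natCast_iff]; push_cast; exact h3
  have h6 : r ^ i = r ^ 1 := by
    rw [pow_eq_pow_iff_modEq, hord]; exact h5
  show f r = 1
  rw [hf, nHom_apply, ← hi', h6, pow_one, inv_mul_cancel]

end Cfsg.Agent.Helper25.AbRank2
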