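import Mathlib
import Cfsg.Agent.Helper25.AbRank2b

set_option autoImplicit false

/-! Automorphisms of order `p ≥ 5` of an abelian `p`-group of rank two with `Ω₁ ≤ ℧¹` act trivially
on the Frattini quotient. -/

namespace Cfsg.Agent.Helper25.AbRank2

variable {H : Type*} [Group H]

theorem normal_of_comm (hcomm : ∀ a b : H, a * b = b * a) (M : Subgroup H) : M.Normal :=
  ⟨fun x hx y => by rw [hcomm y x, mul_inv_cancel_right]; exact hx⟩

/-- Step (F1): `(g - 1)²` maps `H` into the `p`-th powers. -/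
theorem quad_mod_pow [Finite H] (p : ℕ) [hp : Fact p.Prime] (hH : IsPGroup p H)
    (hcomm : ∀ a b : H, a * b = b * a) (hidx : (cpow hcomm p).range.index ≤ p ^ 2)
    (g : MulAut H) (hg : g ^ p = 1) :
    ∀ h, ∃ y, y ^ p = (h⁻¹ * g h)⁻¹ * g (h⁻¹ * g h) := by
  set M := (cpow hcomm p).range with hM
  have hMn : M.Normal := normal_of_comm hcomm M
  have hMg : M.map g.toMonoidHom = M := by
    apply le_antisymm
    · rintro _ ⟨x, hx, rfl⟩
      exact cpow_range_char hcomm p g x hx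
    · intro x hx
      refine ⟨g⁻¹ x, cpow_range_char hcomm p g⁻¹ x hx, ?_⟩
      show g (g⁻¹ x) = x
      rw [MulAut.apply_inv_self]
  let gQ : MulAut (H ⧸ M) := QuotientGroup.congr M M g hMg
  have hgQ : ∀ x : H, gQ (x : H ⧸ M) = ((g x : H) : H ⧸ M) := fun x => QuotientGroup.congr_mk M M g hMg x
  have hgQpow : ∀ m : ℕ, ∀ x : H, (gQ ^ m) (x : H ⧸ M) = (((g ^ m) x : H) : H ⧸ M) := by
    intro m
    induction m with
    | zero => intro x; rfl
    | succ m ih =>
      intro x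
      rw [pow_succ, MulAut.mul_apply, hgQ, ih, pow_succ, MulAut.mul_apply]
  have hgQp : gQ ^ p = 1 := by
    apply MulEquiv.ext
    intro q
    induction q using QuotientGroup.induction_on with
    | H x => rw [hgQpow, hg]; rfl
  have hcommQ : ∀ a b : H ⧸ M, a * b = b * a := by
    intro a b
    induction a using QuotientGroup.induction_on with
    | H x =>
      induction b using QuotientGroup.induction_on with
      | H y => rw [← QuotientGroup.mk_mul, ← QuotientGroup.mk_mul, hcomm]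
  have hcardQ : Nat.card (H ⧸ M) ≤ p ^ 2 := by
    rw [← Subgroup.index_eq_card]; exact hidx
  have hquad := quad_of_card_le p (hH.to_quotient M) hcommQ hcardQ gQ hgQp
  intro h
  have h1 := hquad (h : H ⧸ M)
  have h2 : nHom hcommQ gQ (h : H ⧸ M) = ((h⁻¹ * g h : H) : H ⧸ M) := by
    rw [nHom_apply, hgQ, QuotientGroup.mk_mul, QuotientGroup.mk_inv]
  rw [h2, nHom_apply, hgQ, ← QuotientGroup.mk_inv, ← QuotientGroup.mk_mul,
    QuotientGroup.eq_one_iff] at h1
  exact h1

theorem aut_trivial_mod_pow [Finite H] (p : ℕ) [hp : Fact p.Prime] (hp5 : 5 ≤ p)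
    (hH : IsPGroup p H) (hcomm : ∀ a b : H, a * b = b * a)
    (hidx : (cpow hcomm p).range.index ≤ p ^ 2)
    (hΩ : ∀ x : H, x ^ p = 1 → ∃ y, y ^ p = x)
    (g : MulAut H) (hg : g ^ p = 1) : ∀ h, ∃ y, h⁻¹ * g h = y ^ p := by
  have hF1 := quad_mod_pow p hH hcomm hidx g hg
  let cg : CommGroup H := { (inferInstance : Group H) with mul_comm := hcomm }
  let G : AddMonoid.End (Additive H) := MonoidHom.toAdditive g.toMonoidHom
  have hGapp : ∀ a, G a = Additive.ofMul (g (Additive.toMul a)) := fun a => rfl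
  have hGpow : ∀ m : ℕ, ∀ a, (G ^ m) a = Additive.ofMul ((g ^ m) (Additive.toMul a)) := by
    intro m
    induction m with
    | zero => intro a; rfl
    | succ m ih =>
      intro a
      rw [pow_succ, AddMonoid.End.coe_mul, Function.comp_apply, ih, hGapp, pow_succ,
        MulAut.mul_apply]
      rfl
  have hG : G ^ p = 1 := by
    apply AddMonoid.End.ext
    intro a
    rw [hGpow, hg]
    rfl
  have hsub : ∀ a, (G - 1) a =
      Additive.ofMul ((Additive.toMul a)⁻¹ * g (Additive.toMul a)) := by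
    intro a
    show G a - a = _
    rw [hGapp]
    apply Additive.toMul.injective
    show g (Additive.toMul a) / Additive.toMul a = _
    rw [div_eq_mul_inv, mul_comm]
    rfl
  have hN2 : ∀ a, ∃ b, (G - 1) ((G - 1) a) = p • b := by
    intro a
    obtain ⟨y, hy⟩ := hF1 (Additive.toMul a)
    refine ⟨Additive.ofMul y, ?_⟩
    rw [hsub, hsub, ← ofMul_pow, hy]
    rfl
  have hΩ' : ∀ a : Additive H, p • a = 0 → ∃ b, a = p • b := by
    intro a ha
    have h1 : (Additive.toMul a) ^ p = 1 := by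
      have := congrArg Additive.toMul ha
      rwa [toMul_nsmul, toMul_zero] at this
    obtain ⟨y, hy⟩ := hΩ _ h1
    refine ⟨Additive.ofMul y, ?_⟩
    rw [← ofMul_pow, hy]
    rfl
  have hkey := EndBinom.key p hp5 G hG hN2 hΩ'
  intro h
  obtain ⟨b, hb⟩ := hkey (Additive.ofMul h)
  refine ⟨Additive.toMul b, ?_⟩
  rw [hsub] at hb
  have := congrArg Additive.toMul hb
  rw [toMul_nsmul] at this
  exact this

/-- The automorphisms acting trivially modulo `p`-th powers. -/
def K1 (hcomm : ∀ a b : H, a * b = b * a) (p : ℕ) : Subgroup (MulAut H) where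
  carrier := {γ | ∀ h, ∃ y, h⁻¹ * γ h = y ^ p}
  one_mem' := fun h => ⟨1, by simp⟩
  mul_mem' := by
    intro γ δ hγ hδ h
    obtain ⟨y₁, h1⟩ := hδ h
    obtain ⟨y₂, h2⟩ := hγ (δ h)
    refine ⟨y₁ * y₂, ?_⟩
    rw [Commute.mul_pow (hcomm _ _), ← h1, ← h2, MulAut.mul_apply]
    group
  inv_mem' := by
    intro γ hγ h
    obtain ⟨y, hy⟩ := hγ (γ⁻¹ h)
    rw [MulAut.apply_inv_self] at hy
    refine ⟨y⁻¹, ?_⟩
    rw [inv_pow, ← hy]
    group

theorem mem_K1 (hcomm : ∀ a b : H, a * b = b * a) (p : ℕ) (γ : MulAut H) :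
    γ ∈ K1 hcomm p ↔ ∀ h, ∃ y, h⁻¹ * γ h = y ^ p := Iff.rfl

theorem K1_normal (hcomm : ∀ a b : H, a * b = b * a) (p : ℕ) : (K1 hcomm p).Normal := by
  constructor
  intro γ hγ δ h
  obtain ⟨y, hy⟩ := hγ (δ⁻¹ h)
  refine ⟨δ y, ?_⟩
  rw [← map_pow, ← hy, map_mul, map_inv, MulAut.apply_inv_self]
  rfl

theorem K1_isPGroup [Finite H] (p : ℕ) [hp : Fact p.Prime] (hH : IsPGroup p H)
    (hcomm : ∀ a b : H, a * b = b * a) : IsPGroup p (K1 hcomm p) := by
  apply PFour.isPGroup_of_coprime_trivial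
  intro γ hγ
  have hγ' : Nat.Coprime (orderOf (γ : MulAut H)) p := by rwa [Subgroup.orderOf_coe]
  obtain ⟨n, hn⟩ := IsPGroup.iff_card.mp hH
  have hexp : ∀ x : H, x ^ (p ^ n) = 1 := fun x => by rw [← hn]; exact pow_card_eq_one'
  have hUn : (cpow hcomm (p ^ n)).range = ⊥ := by
    rw [eq_bot_iff]
    rintro _ ⟨x, rfl⟩
    rw [Subgroup.mem_bot, cpow_apply, hexp]
  have hstab : ∀ j, ∀ x ∈ (cpow hcomm (p ^ j)).range,
      x⁻¹ * (γ : MulAut H) x ∈ (cpow hcomm (p ^ (j + 1))).range := by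
    rintro j _ ⟨z, rfl⟩
    obtain ⟨y, hy⟩ := γ.2 z
    refine ⟨y, ?_⟩
    rw [cpow_apply, cpow_apply, pow_succ', pow_mul, ← hy, Commute.mul_pow (hcomm _ _), inv_pow,
      map_pow]
  have h1 := PFour.trivial_of_stabilizes_chain p hH (γ : MulAut H) hγ'
    (fun j => (cpow hcomm (p ^ j)).range) n hUn hstab
  apply Subtype.ext
  apply MulEquiv.ext
  intro x
  exact h1 x ⟨x, by rw [cpow_apply, pow_zero, pow_one]⟩

end Cfsg.Agent.Helper25.AbRank2
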