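import Mathlib
import Cfsg.Agent.Helper25.AbRank2

set_option autoImplicit false

/-! Homocyclic abelian `p`-groups of rank two are `C_{p^a} × C_{p^a}`. -/

namespace Cfsg.Agent.Helper25.AbRank2

variable {H : Type*} [Group H]

/-- `i ↦ x ^ i` on `ZMod n`, when `x ^ n = 1`. -/
def zl (n : ℕ) (x : H) (hx : x ^ n = 1) : ZMod n →+ Additive H :=
  ZMod.lift n ⟨zmultiplesHom (Additive H) (Additive.ofMul x), by
    show (n : ℤ) • Additive.ofMul x = 0
    rw [natCast_zsmul, ← ofMul_pow, hx]; rfl⟩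

theorem zl_natCast (n : ℕ) (x : H) (hx : x ^ n = 1) (i : ℕ) :
    zl n x hx (i : ZMod n) = Additive.ofMul (x ^ i) := by
  have h1 : ((i : ℤ) : ZMod n) = (i : ZMod n) := Int.cast_natCast i
  rw [← h1, zl, ZMod.lift_coe]
  show (i : ℤ) • Additive.ofMul x = _
  rw [natCast_zsmul, ← ofMul_pow]

/-- `(s, t) ↦ x ^ s * y ^ t`. -/
def pairHom (hcomm : ∀ a b : H, a * b = b * a) (n : ℕ) (x y : H) (hx : x ^ n = 1) (hy : y ^ n = 1) :
    Multiplicative (ZMod n × ZMod n) →* H where
  toFun z := Additive.toMul (zl n x hx (Multiplicative.toAdd z).1) *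
    Additive.toMul (zl n y hy (Multiplicative.toAdd z).2)
  map_one' := by simp
  map_mul' z w := by
    rw [toAdd_mul, Prod.fst_add, Prod.snd_add, (zl n x hx).map_add, (zl n y hy).map_add, toMul_add,
      toMul_add]
    set a := Additive.toMul (zl n x hx (Multiplicative.toAdd z).1)
    set b := Additive.toMul (zl n x hx (Multiplicative.toAdd w).1)
    set c := Additive.toMul (zl n y hy (Multiplicative.toAdd z).2)
    set d := Additive.toMul (zl n y hy (Multiplicative.toAdd w).2)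
    calc a * b * (c * d) = a * (b * c) * d := by group
      _ = a * (c * b) * d := by rw [hcomm b c]
      _ = a * c * (b * d) := by group

theorem pairHom_natCast (hcomm : ∀ a b : H, a * b = b * a) (n : ℕ) (x y : H) (hx : x ^ n = 1)
    (hy : y ^ n = 1) (i j : ℕ) :
    pairHom hcomm n x y hx hy (Multiplicative.ofAdd ((i : ZMod n), (j : ZMod n))) = x ^ i * y ^ j := by
  show Additive.toMul (zl n x hx (i : ZMod n)) * Additive.toMul (zl n y hy (j : ZMod n)) = _
  rw [zl_natCast, zl_natCast]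
  rfl

theorem pairHom_eq (hcomm : ∀ a b : H, a * b = b * a) (n : ℕ) [NeZero n] (x y : H) (hx : x ^ n = 1)
    (hy : y ^ n = 1) (z : Multiplicative (ZMod n × ZMod n)) :
    pairHom hcomm n x y hx hy z =
      x ^ (Multiplicative.toAdd z).1.val * y ^ (Multiplicative.toAdd z).2.val := by
  have h := pairHom_natCast hcomm n x y hx hy (Multiplicative.toAdd z).1.val
    (Multiplicative.toAdd z).2.val
  rw [ZMod.natCast_zmod_val, ZMod.natCast_zmod_val] at h
  exact h

theorem pairHom_injective (hcomm : ∀ a b : H, a * b = b * a) (n : ℕ) [NeZero n] (x y : H)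
    (hox : orderOf x = n) (hoy : orderOf y = n)
    (hdisj : Subgroup.zpowers x ⊓ Subgroup.zpowers y = ⊥) :
    Function.Injective (pairHom hcomm n x y (hox ▸ pow_orderOf_eq_one x)
      (hoy ▸ pow_orderOf_eq_one y)) := by
  rw [injective_iff_map_eq_one]
  intro z hz
  rw [pairHom_eq] at hz
  set s := (Multiplicative.toAdd z).1 with hs
  set t := (Multiplicative.toAdd z).2 with ht
  have h1 : x ^ s.val = (y ^ t.val)⁻¹ := eq_inv_of_mul_eq_one_left hz
  have h2 : x ^ s.val ∈ Subgroup.zpowers x ⊓ Subgroup.zpowers y := by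
    refine ⟨Subgroup.pow_mem _ (Subgroup.mem_zpowers x) _, ?_⟩
    rw [h1]
    exact Subgroup.inv_mem _ (Subgroup.pow_mem _ (Subgroup.mem_zpowers y) _)
  rw [hdisj, Subgroup.mem_bot] at h2
  have h3 : y ^ t.val = 1 := by
    rw [h2] at h1
    exact inv_eq_one.mp h1.symm
  have hs0 : s = 0 := by
    have := orderOf_dvd_of_pow_eq_one h2
    rw [hox] at this
    have hlt := ZMod.val_lt s
    have : s.val = 0 := Nat.eq_zero_of_dvd_of_lt this hlt
    exact (ZMod.val_eq_zero s).mp this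
  have ht0 : t = 0 := by
    have := orderOf_dvd_of_pow_eq_one h3
    rw [hoy] at this
    have hlt := ZMod.val_lt t
    have : t.val = 0 := Nat.eq_zero_of_dvd_of_lt this hlt
    exact (ZMod.val_eq_zero t).mp this
  have : Multiplicative.toAdd z = 0 := Prod.ext hs0 ht0
  exact this

theorem disjoint_zpowers_of_prime [Finite H] (p : ℕ) [hp : Fact p.Prime] {u v : H}
    (hv : orderOf v = p) (hvu : v ∉ Subgroup.zpowers u) :
    Subgroup.zpowers u ⊓ Subgroup.zpowers v = ⊥ := by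
  have hdvd : Nat.card ↥(Subgroup.zpowers u ⊓ Subgroup.zpowers v) ∣ p := by
    rw [← hv, ← Nat.card_zpowers]
    exact Subgroup.card_dvd_of_le inf_le_right
  rcases (Nat.dvd_prime hp.out).mp hdvd with h | h
  · exact Subgroup.card_eq_one.mp h
  · exfalso
    have heq : Subgroup.zpowers u ⊓ Subgroup.zpowers v = Subgroup.zpowers v :=
      Subgroup.eq_of_le_of_card_ge inf_le_right (by rw [h, Nat.card_zpowers, hv])
    apply hvu
    have : v ∈ Subgroup.zpowers u ⊓ Subgroup.zpowers v := by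
      rw [heq]; exact Subgroup.mem_zpowers v
    exact this.1

/-- An element of order dividing `p` in `⟨x⟩`, `x` of order `p ^ (m + 1)`, lies in
`⟨x ^ (p ^ m)⟩`. -/
theorem mem_zpowers_pow_of_pow_eq_one [Finite H] (p : ℕ) [hp : Fact p.Prime] (m : ℕ) {x z : H}
    (hox : orderOf x = p ^ (m + 1)) (hz : z ∈ Subgroup.zpowers x) (hzp : z ^ p = 1) :
    z ∈ Subgroup.zpowers (x ^ (p ^ m)) := by
  obtain ⟨i, rfl⟩ := mem_powers_iff_mem_zpowers.mpr hz
  have h1 : x ^ (i * p) = 1 := by rw [pow_mul]; exact hzp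
  have h2 := orderOf_dvd_of_pow_eq_one h1
  rw [hox, pow_succ] at h2
  obtain ⟨c, hc⟩ := Nat.dvd_of_mul_dvd_mul_right hp.out.pos h2
  show x ^ i ∈ Subgroup.zpowers (x ^ (p ^ m))
  rw [hc, pow_mul]
  exact Subgroup.pow_mem _ (Subgroup.mem_zpowers _) _

theorem homocyclic_iso [Finite H] (p : ℕ) [hp : Fact p.Prime] (hH : IsPGroup p H)
    (hcomm : ∀ a b : H, a * b = b * a) (m : ℕ)
    (hexp : ∀ x : H, x ^ (p ^ (m + 1)) = 1)
    (hΩcard : Nat.card (cpow hcomm p).ker = p ^ 2)
    (hΩ : ∀ x : H, x ^ p = 1 → ∃ y, y ^ (p ^ m) = x) :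
    Nonempty (H ≃* Multiplicative (ZMod (p ^ (m + 1)) × ZMod (p ^ (m + 1)))) := by
  set Ω := (cpow hcomm p).ker with hΩdef
  have hp1 : 1 < p := hp.out.one_lt
  -- choose `u`, `v`
  have hΩne : Ω ≠ ⊥ := by
    intro h
    rw [h, Subgroup.card_bot] at hΩcard
    have : 1 < p ^ 2 := Nat.one_lt_pow (by norm_num) hp1
    omega
  obtain ⟨⟨u, huΩ⟩, hu1⟩ := (Subgroup.ne_bot_iff_exists_ne_one).mp hΩne
  have hu1' : u ≠ 1 := fun h => hu1 (Subtype.ext h)
  have hup : u ^ p = 1 := huΩ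
  have hou : orderOf u = p := orderOf_eq_prime hup hu1'
  obtain ⟨v, hvΩ, hvu⟩ : ∃ v ∈ Ω, v ∉ Subgroup.zpowers u := by
    by_contra hcon
    push Not at hcon
    have hle : Ω ≤ Subgroup.zpowers u := hcon
    have := Subgroup.card_le_of_le hle
    rw [hΩcard, Nat.card_zpowers, hou] at this
    have h2 : p < p ^ 2 := by
      calc p = p ^ 1 := (pow_one p).symm
        _ < p ^ 2 := Nat.pow_lt_pow_right hp1 (by norm_num)
    omega
  have hvp : v ^ p = 1 := hvΩ
  have hv1 : v ≠ 1 := fun h => hvu (h ▸ Subgroup.one_mem _)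
  have hov : orderOf v = p := orderOf_eq_prime hvp hv1
  have hduv := disjoint_zpowers_of_prime p hov hvu
  have : NeZero p := ⟨hp.out.ne_zero⟩
  -- `Ω` is spanned by `u`, `v`
  have hspan : ∀ w ∈ Ω, ∃ i j : ℕ, w = u ^ i * v ^ j := by
    have hinj := pairHom_injective hcomm p u v hou hov hduv
    set f₁ := pairHom hcomm p u v (hou ▸ pow_orderOf_eq_one u) (hov ▸ pow_orderOf_eq_one v) with hf₁
    have hrle : f₁.range ≤ Ω := by
      rintro _ ⟨z, rfl⟩
      rw [hf₁, pairHom_eq]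
      show (u ^ _ * v ^ _) ^ p = 1
      rw [Commute.mul_pow (hcomm _ _), ← pow_mul, ← pow_mul, mul_comm _ p, mul_comm _ p, pow_mul,
        pow_mul, hup, hvp, one_pow, one_pow, one_mul]
    have hrcard : Nat.card f₁.range = p ^ 2 := by
      rw [Nat.card_congr (MonoidHom.ofInjective hinj).toEquiv.symm]
      rw [Nat.card_eq_fintype_card]
      simp [sq]
    have hreq : f₁.range = Ω := Subgroup.eq_of_le_of_card_ge hrle (by rw [hrcard, hΩcard])
    intro w hw
    rw [← hreq] at hw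
    obtain ⟨z, rfl⟩ := hw
    exact ⟨_, _, pairHom_eq hcomm p u v _ _ z⟩
  -- choose `x`, `y`
  obtain ⟨x, hx⟩ := hΩ u hup
  obtain ⟨y, hy⟩ := hΩ v hvp
  have hox : orderOf x = p ^ (m + 1) := orderOf_eq_prime_pow (by rw [hx]; exact hu1') (hexp x)
  have hoy : orderOf y = p ^ (m + 1) := orderOf_eq_prime_pow (by rw [hy]; exact hv1) (hexp y)
  have hdxy : Subgroup.zpowers x ⊓ Subgroup.zpowers y = ⊥ := by
    rw [eq_bot_iff]
    intro w hw
    rw [Subgroup.mem_bot]
    by_contra hw1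
    obtain ⟨k, hk⟩ := (IsPGroup.iff_orderOf.mp hH) w
    have hk0 : k ≠ 0 := by
      rintro rfl
      rw [pow_zero, orderOf_eq_one_iff] at hk
      exact hw1 hk
    obtain ⟨k', rfl⟩ := Nat.exists_eq_succ_of_ne_zero hk0
    set w' := w ^ (p ^ k') with hw'
    have hw'p : w' ^ p = 1 := by
      rw [hw', ← pow_mul, ← pow_succ, ← hk, pow_orderOf_eq_one]
    have hw'1 : w' ≠ 1 := by
      intro h
      have h3 := orderOf_dvd_of_pow_eq_one h
      rw [hk] at h3
      have h4 : p ^ (k' + 1) ≤ p ^ k' := Nat.le_of_dvd (pow_pos hp.out.pos _) h3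
      have h2 : p ^ k' < p ^ (k' + 1) := Nat.pow_lt_pow_right hp1 (Nat.lt_succ_self _)
      omega
    have h1 : w' ∈ Subgroup.zpowers u := by
      rw [← hx]
      exact mem_zpowers_pow_of_pow_eq_one p m hox (Subgroup.pow_mem _ hw.1 _) hw'p
    have h2 : w' ∈ Subgroup.zpowers v := by
      rw [← hy]
      exact mem_zpowers_pow_of_pow_eq_one p m hoy (Subgroup.pow_mem _ hw.2 _) hw'p
    have : w' ∈ Subgroup.zpowers u ⊓ Subgroup.zpowers v := ⟨h1, h2⟩
    rw [hduv, Subgroup.mem_bot] at this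
    exact hw'1 this
  have : NeZero (p ^ (m + 1)) := ⟨pow_ne_zero _ hp.out.ne_zero⟩
  have hinj := pairHom_injective hcomm (p ^ (m + 1)) x y hox hoy hdxy
  set f := pairHom hcomm (p ^ (m + 1)) x y (hox ▸ pow_orderOf_eq_one x)
    (hoy ▸ pow_orderOf_eq_one y) with hf
  have hmemr : ∀ i j : ℕ, x ^ i * y ^ j ∈ f.range := fun i j =>
    ⟨Multiplicative.ofAdd ((i : ZMod (p ^ (m + 1))), (j : ZMod (p ^ (m + 1)))),
      pairHom_natCast hcomm _ x y _ _ i j⟩
  have hsurj : ∀ k, k ≤ m + 1 → ∀ h : H, h ^ (p ^ k) = 1 → h ∈ f.range := by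
    intro k
    induction k with
    | zero =>
      intro _ h hh
      rw [pow_zero, pow_one] at hh
      rw [hh]; exact Subgroup.one_mem _
    | succ k ih =>
      intro hk h hh
      have hwΩ : h ^ (p ^ k) ∈ Ω := by
        show (h ^ (p ^ k)) ^ p = 1
        rw [← pow_mul, ← pow_succ]; exact hh
      obtain ⟨i, j, hij⟩ := hspan _ hwΩ
      obtain ⟨d, hd⟩ : ∃ d, m = d + k := ⟨m - k, by omega⟩
      set z := x ^ (i * p ^ d) * y ^ (j * p ^ d) with hz
      have hzr : z ∈ f.range := hmemr _ _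
      have hzk : z ^ (p ^ k) = h ^ (p ^ k) := by
        rw [hz, Commute.mul_pow (hcomm _ _), ← pow_mul, ← pow_mul, mul_assoc, mul_assoc, ← pow_add,
          ← hd, hij, mul_comm i, mul_comm j, pow_mul, pow_mul, hx, hy]
      have h1 : (h * z⁻¹) ^ (p ^ k) = 1 := by
        rw [Commute.mul_pow (hcomm _ _), inv_pow, hzk, mul_inv_cancel]
      have h2 := ih (by omega) _ h1
      have : h = h * z⁻¹ * z := by group
      rw [this]
      exact Subgroup.mul_mem _ h2 hzr
  have hsurj' : Function.Surjective f := by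
    intro h
    exact hsurj (m + 1) le_rfl h (hexp h)
  exact ⟨(MulEquiv.ofBijective f ⟨hinj, hsurj'⟩).symm⟩

end Cfsg.Agent.Helper25.AbRank2
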