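import Mathlib
import Cfsg.Agent.Helper25.AbRank2c
import Cfsg.Agent.Helper25.AbRank2d
import Cfsg.Agent.Helper20.FrattiniElem

set_option autoImplicit false

/-! Abelian `p`-groups of rank at most two whose automorphism group is far from a `p`-group. -/

namespace Cfsg.Agent.Helper25.AbRank2

open scoped commutatorElement

variable {H : Type*} [Group H]

theorem flag_isPGroup [Finite H] (p : ℕ) [hp : Fact p.Prime] (hH : IsPGroup p H)
    (hcomm : ∀ a b : H, a * b = b * a) (Z : Subgroup H)
    (hZchar : ∀ α : MulAut H, ∀ x ∈ Z, α x ∈ Z) (hZΩ : Z ≤ (cpow hcomm p).ker)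
    (hcard : Nat.card (cpow hcomm p).ker = p * Nat.card Z) (hZ : Nat.card Z = p ∨ Z = ⊥) :
    IsPGroup p (commutator (MulAut H)) := by
  let U : ℕ → Subgroup H := fun j => match j with
    | 0 => (cpow hcomm p).ker
    | 1 => Z
    | _ => ⊥
  have hZn : Z.Normal := normal_of_comm hcomm Z
  have hbn : (⊥ : Subgroup H).Normal := normal_of_comm hcomm ⊥
  refine commutator_isPGroup_of_chain p hH U 2 rfl ?_ ?_ ?_
  · intro γ hγ h
    exact coprime_trivial_of_omega p hH hcomm γ hγ (fun x hx => h x hx)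
  · intro j α x hx
    match j with
    | 0 => exact cpow_ker_char hcomm p α x hx
    | 1 => exact hZchar α x hx
    | (j + 2) =>
      have hx' : x = 1 := hx
      rw [hx', map_one]
      exact Subgroup.one_mem _
  · intro j
    match j with
    | 0 => exact OrderPCube.exists_gen_mod p (cpow hcomm p).ker Z hZΩ hcard
    | 1 =>
      rcases hZ with hZ | hZ
      · exact OrderPCube.exists_gen_mod p Z ⊥ bot_le (by rw [Subgroup.card_bot, mul_one, hZ])
      · refine ⟨1, Subgroup.one_mem _, fun y hy => ⟨0, ?_⟩⟩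
        have hy' : y ∈ Z := hy
        rw [hZ, Subgroup.mem_bot] at hy'
        rw [hy']
        show (1 ^ (0 : ℤ))⁻¹ * 1 ∈ (⊥ : Subgroup H)
        simp
    | (j + 2) =>
      refine ⟨1, Subgroup.one_mem _, fun y hy => ⟨0, ?_⟩⟩
      have hy' : y = 1 := hy
      rw [hy']
      show (1 ^ (0 : ℤ))⁻¹ * 1 ∈ (⊥ : Subgroup H)
      simp

theorem main [Finite H] (p : ℕ) [hp : Fact p.Prime] (hH : IsPGroup p H)
    (hcomm : ∀ a b : H, a * b = b * a)
    (hidx : (frattini H).index ≤ p ^ 2)
    (hA : ¬ IsPGroup p (commutator (MulAut H)))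
    (GF : Subgroup (MulAut H)) (hpGF : p ∣ Nat.card GF)
    (hOp : ∀ N : Subgroup GF, N.Normal → IsPGroup p N → N = ⊥) :
    ((∀ x : H, x ^ p = 1) ∧ Nat.card H = p ^ 2) ∨
      (p ≤ 3 ∧ ∃ k : ℕ, Nonempty (H ≃* Multiplicative (ZMod (p ^ k) × ZMod (p ^ k)))) := by
  have hp1 : 1 < p := hp.out.one_lt
  set P := (cpow hcomm p).range with hPdef
  set Ω := (cpow hcomm p).ker with hΩdef
  -- the Frattini subgroup lies in `P`
  have hfr : frattini H ≤ P := by
    apply Cfsg.Agent.Helper20.frattini_le_of_elemAb' p P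
    · intro a b
      have : ⁅a, b⁆ = 1 := by
        rw [commutatorElement_def, hcomm a b]; group
      rw [this]; exact Subgroup.one_mem _
    · intro a
      exact ⟨a, rfl⟩
  have hPidx : P.index ≤ p ^ 2 := by
    have h1 : P.index ∣ (frattini H).index := Subgroup.index_dvd_of_le hfr
    have h2 : (frattini H).index ≠ 0 := Subgroup.index_ne_zero_of_finite
    exact (Nat.le_of_dvd (Nat.pos_of_ne_zero h2) h1).trans hidx
  have hΩidx : Nat.card Ω = P.index := by
    have h1 : Nat.card Ω * Nat.card P = Nat.card H :=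
      OrderPCube.card_ker_mul_card_range p (fun x y => Commute.mul_pow (hcomm x y) p)
    have h2 : Nat.card P * P.index = Nat.card H := Subgroup.card_mul_index P
    have hpos : 0 < Nat.card P := Nat.card_pos
    have h3 : Nat.card P * Nat.card Ω = Nat.card P * P.index := by rw [mul_comm, h1, h2]
    exact Nat.eq_of_mul_eq_mul_left hpos h3
  have hΩle : Nat.card Ω ≤ p ^ 2 := hΩidx ▸ hPidx
  obtain ⟨b, hb⟩ := IsPGroup.iff_card.mp (hH.to_subgroup Ω)
  have hb2 : b ≤ 2 := by
    by_contra hcon
    push Not at hcon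
    have : p ^ 2 < p ^ b := Nat.pow_lt_pow_right hp1 hcon
    omega
  -- the exponent
  obtain ⟨n, hn⟩ := IsPGroup.iff_card.mp hH
  have hex : ∃ a, ∀ x : H, x ^ (p ^ a) = 1 := ⟨n, fun x => by rw [← hn]; exact pow_card_eq_one'⟩
  classical
  set a := Nat.find hex with hadef
  have ha : ∀ x : H, x ^ (p ^ a) = 1 := Nat.find_spec hex
  have ha0 : a ≠ 0 := by
    intro h0
    apply hA
    have hsub : Subsingleton H := by
      constructor
      intro x y
      have hx := ha x
      have hy := ha y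
      rw [h0, pow_zero, pow_one] at hx hy
      rw [hx, hy]
    have : Subsingleton (MulAut H) := by
      constructor
      intro α β
      apply MulEquiv.ext
      intro x
      exact Subsingleton.elim _ _
    exact IsPGroup.of_card (n := 0) (by rw [pow_zero]; exact Nat.card_unique)
  obtain ⟨m, hm⟩ := Nat.exists_eq_succ_of_ne_zero ha0
  have hexp : ∀ x : H, x ^ (p ^ (m + 1)) = 1 := by
    intro x
    have := ha x
    rwa [hm] at this
  have hmin : ∃ x₀ : H, x₀ ^ (p ^ m) ≠ 1 := by
    by_contra hcon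
    push Not at hcon
    have := Nat.find_min' hex hcon
    omega
  obtain ⟨x₀, hx₀⟩ := hmin
  set Z₁ := (cpow hcomm (p ^ m)).range with hZdef
  have hZΩ : Z₁ ≤ Ω := by
    rintro _ ⟨y, rfl⟩
    show (y ^ (p ^ m)) ^ p = 1
    rw [← pow_mul, ← pow_succ]
    exact hexp y
  have hZne : Z₁ ≠ ⊥ := by
    intro h
    have : x₀ ^ (p ^ m) ∈ Z₁ := ⟨x₀, rfl⟩
    rw [h, Subgroup.mem_bot] at this
    exact hx₀ this
  have hZchar : ∀ α : MulAut H, ∀ x ∈ Z₁, α x ∈ Z₁ := cpow_range_char hcomm (p ^ m)
  have hZdvd : Nat.card Z₁ ∣ p ^ b := hb ▸ Subgroup.card_dvd_of_le hZΩ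
  obtain ⟨c, hcb, hc⟩ := (Nat.dvd_prime_pow hp.out).mp hZdvd
  have hc0 : c ≠ 0 := by
    rintro rfl
    rw [pow_zero] at hc
    exact hZne (Subgroup.card_eq_one.mp hc)
  -- flag cases
  have hhomo : Z₁ = Ω ∧ Nat.card Ω = p ^ 2 := by
    by_contra hcon
    apply hA
    have hc1 : c = 1 ∧ b = 2 ∨ c = b := by
      rcases Nat.lt_or_ge c b with h | h
      · left; omega
      · right; omega
    rcases hc1 with ⟨hc1, hb2'⟩ | hcb'
    · apply flag_isPGroup p hH hcomm Z₁ hZchar hZΩ
      · rw [← hΩdef, hb, hc, hc1, hb2', pow_one, sq]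
      · left; rw [hc, hc1, pow_one]
    · have hZeq : Z₁ = Ω := Subgroup.eq_of_le_of_card_ge hZΩ (by rw [hb, hc, hcb'])
      have hb1 : b = 1 := by
        by_contra hb1
        have : b = 2 := by omega
        exact hcon ⟨hZeq, by rw [hb, this]⟩
      apply flag_isPGroup p hH hcomm ⊥ (fun α x hx => by
        rw [Subgroup.mem_bot] at hx ⊢; rw [hx, map_one]) bot_le
      · rw [← hΩdef, hb, hb1, pow_one, Subgroup.card_bot, mul_one]
      · right; rfl
  obtain ⟨hZeq, hΩcard⟩ := hhomo
  have hΩ' : ∀ x : H, x ^ p = 1 → ∃ y, y ^ (p ^ m) = x := by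
    intro x hx
    have : x ∈ Ω := hx
    rw [← hZeq] at this
    exact this
  rcases Nat.eq_zero_or_pos m with hm0 | hmpos
  · left
    subst hm0
    have hall : ∀ x : H, x ^ p = 1 := by
      intro x
      have := hexp x
      rwa [zero_add, pow_one] at this
    refine ⟨hall, ?_⟩
    have htop : Ω = ⊤ := by
      rw [eq_top_iff]
      intro x _
      exact hall x
    rw [← hΩcard, htop, Subgroup.card_top]
  · right
    by_cases hp3 : p ≤ 3
    · exact ⟨hp3, m + 1, homocyclic_iso p hH hcomm m hexp hΩcard hΩ'⟩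
    · exfalso
      push Not at hp3
      have hp5 : 5 ≤ p := by
        have h4 : p ≠ 4 := by
          rintro h
          have := hp.out
          rw [h] at this
          norm_num at this
        omega
      have hΩ'' : ∀ x : H, x ^ p = 1 → ∃ y, y ^ p = x := by
        intro x hx
        obtain ⟨y, hy⟩ := hΩ' x hx
        obtain ⟨m', rfl⟩ := Nat.exists_eq_succ_of_ne_zero hmpos.ne'
        refine ⟨y ^ (p ^ m'), ?_⟩
        rw [← pow_mul, ← pow_succ]
        exact hy
      obtain ⟨g, hg⟩ := exists_prime_orderOf_dvd_card' p hpGF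
      have hgp : (g : MulAut H) ^ p = 1 := by
        have : g ^ p = 1 := by rw [← hg]; exact pow_orderOf_eq_one g
        have := congrArg Subtype.val this
        simpa using this
      have hgK : (g : MulAut H) ∈ K1 hcomm p :=
        aut_trivial_mod_pow p hp5 hH hcomm hPidx hΩ'' (g : MulAut H) hgp
      have hKn := K1_normal hcomm p
      have hN : ((K1 hcomm p).subgroupOf GF) = ⊥ :=
        hOp _ inferInstance ((K1_isPGroup p hH hcomm).comap_subtype)
      have hgN : g ∈ (K1 hcomm p).subgroupOf GF := hgK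
      rw [hN, Subgroup.mem_bot] at hgN
      rw [hgN, orderOf_one] at hg
      omega

end Cfsg.Agent.Helper25.AbRank2
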