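import Mathlib
import Cfsg.Prelude.Def_FusionSystem
import Cfsg.Agent.Helper25.StronglyEmb

set_option autoImplicit false

/-! If `H` is essential in a fusion system, the derived subgroup of `Aut(H)` is not a `p`-group. -/

namespace Cfsg.Agent.Helper25

open Cfsg

/-- A finite group with a strongly `p`-embedded subgroup has a derived subgroup that is not a
`p`-group. -/
theorem not_isPGroup_commutator_of_stronglyPEmbedded {X : Type*} [Group X] [Finite X] (p : ℕ)
    [Fact p.Prime] {E : Subgroup X} (hE : IsStronglyPEmbedded p E) :
    ¬ IsPGroup p (commutator X) := by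
  intro hP
  have h1 : commutator X = ⊥ := normal_pSubgroup_eq_bot_of_stronglyPEmbedded p hE _ hP
  have hcen : Subgroup.center X = ⊤ := (commutator_eq_bot_iff_center_eq_top X).mp h1
  obtain ⟨g, hg⟩ := exists_prime_orderOf_dvd_card' p hE.1
  have hN : (Subgroup.zpowers g).Normal := by
    constructor
    intro n hn x
    have hx : x ∈ Subgroup.center X := hcen ▸ Subgroup.mem_top x
    have : x * n * x⁻¹ = n := by
      rw [Subgroup.mem_center_iff] at hx
      rw [← hx n, mul_inv_cancel_right]
    rwa [this]
  have hPz : IsPGroup p (Subgroup.zpowers g) := by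
    apply IsPGroup.of_card (n := 1)
    rw [Nat.card_zpowers, hg, pow_one]
  have h2 := normal_pSubgroup_eq_bot_of_stronglyPEmbedded p hE _ hPz
  rw [Subgroup.zpowers_eq_bot] at h2
  rw [h2, orderOf_one] at hg
  exact (Fact.out : p.Prime).one_lt.ne hg

theorem not_isPGroup_commutator_mulAut_of_isEssential {Ω : Type*} [Group Ω] {S : Subgroup Ω}
    [Finite S] (p : ℕ) [Fact p.Prime] (F : FusionSystem S) (H : Subgroup Ω)
    (hH : F.IsEssential p H) : ¬ IsPGroup p (commutator (MulAut H)) := by
  obtain ⟨hcen, -, hnorm, E, hE⟩ := hH
  have hHS : H ≤ S := hcen.1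
  have : Finite H := Finite.of_injective (Subgroup.inclusion hHS) (Subgroup.inclusion_injective hHS)
  intro hP
  set A := F.autGroup H with hA
  have h1 : IsPGroup p (commutator A) := by
    have hle : (commutator A).map A.subtype ≤ commutator (MulAut H) := by
      rw [commutator_def, commutator_def, Subgroup.map_commutator]
      exact Subgroup.commutator_mono le_top le_top
    have h2 : IsPGroup p ((commutator A).map A.subtype) := hP.to_le hle
    exact h2.of_equiv ((commutator A).equivMapOfInjective A.subtype A.subtype_injective).symm
  have h3 : IsPGroup p (commutator (A ⧸ (Inn H).subgroupOf A)) := by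
    have : commutator (A ⧸ (Inn H).subgroupOf A) =
        (commutator A).map (QuotientGroup.mk' ((Inn H).subgroupOf A)) := by
      rw [commutator_def, commutator_def, Subgroup.map_commutator,
        Subgroup.map_top_of_surjective _ (QuotientGroup.mk'_surjective _)]
    rw [this]
    exact h1.map _
  exact not_isPGroup_commutator_of_stronglyPEmbedded p hE h3

end Cfsg.Agent.Helper25
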