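import Mathlib

set_option autoImplicit false

/-!
# Piece (TOR) of S5289, part A: a torus-like element from two transvection groups

`V` a commutative group of order `p ^ 2` (`p` odd), `ℓ` a subgroup of order `p`,
`u` an automorphism with `v⁻¹ * u v ∈ ℓ`, trivial on `ℓ`, `u ≠ 1`, and `w` an automorphism with
`w ℓ ≠ ℓ`.  Then some `δ` in any subgroup of `MulAut V` containing `u, w` stabilises `ℓ` and acts
as squaring on `V / ℓ`.
-/

namespace Cfsg.Agent.Helper25.R2TOR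

/-- an element of a subgroup of prime order generates it -/
theorem exists_pow_eq_of_prime_card' {V : Type*} [Group V] {p : ℕ} [hp : Fact p.Prime]
    (A : Subgroup V) (hA : Nat.card A = p) {z : V} (hz : z ∈ A) (hz1 : z ≠ 1) {a : V}
    (ha : a ∈ A) : ∃ n : ℕ, z ^ n = a := by
  have h1 : (⟨z, hz⟩ : A) ≠ 1 := fun h => hz1 (congrArg Subtype.val h)
  obtain ⟨n, hn⟩ := mem_powers_of_prime_card (g := (⟨z, hz⟩ : A)) (g' := ⟨a, ha⟩) hA h1
  refine ⟨n, ?_⟩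
  have := congrArg Subtype.val hn
  simpa using this

theorem pow_card_eq_one_of_mem {V : Type*} [Group V] {p : ℕ} (A : Subgroup V) [Finite A]
    (hA : Nat.card A = p) {z : V} (hz : z ∈ A) : z ^ p = 1 := by
  have := pow_card_eq_one' (G := A) (x := ⟨z, hz⟩)
  rw [hA] at this
  have h2 := congrArg Subtype.val this
  simpa using h2

section PartA

variable {V : Type*} [CommGroup V]

/-- Powers of a "transvection". -/
theorem pow_apply_of_fix (u : MulAut V) (v : V) (hfix : u (v⁻¹ * u v) = v⁻¹ * u v) (i : ℕ) :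
    (u ^ i) v = v * (v⁻¹ * u v) ^ i := by
  induction i with
  | zero => simp
  | succ n ih =>
    rw [pow_succ', MulAut.mul_apply, ih, map_mul, map_pow, hfix, pow_succ]
    set c := v⁻¹ * u v with hc
    have : u v = v * c := by rw [hc, mul_inv_cancel_left]
    rw [this, mul_assoc, mul_comm c]

theorem exists_delta [Finite V] {p : ℕ} [hp : Fact p.Prime] (hp2 : p ≠ 2)
    (hV : Nat.card V = p ^ 2) (ℓ : Subgroup V) (hℓ : Nat.card ℓ = p)
    (𝒦 : Subgroup (MulAut V)) (u w : MulAut V) (hu𝒦 : u ∈ 𝒦) (hw𝒦 : w ∈ 𝒦)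
    (hu1 : ∀ v, v⁻¹ * u v ∈ ℓ) (hu3 : ∀ x ∈ ℓ, u x = x) (hu2 : u ≠ 1)
    (hw : ∃ x ∈ ℓ, w x ∉ ℓ) :
    ∃ δ ∈ 𝒦, (∀ x ∈ ℓ, δ x ∈ ℓ) ∧ ∀ v, (v ^ 2)⁻¹ * δ v ∈ ℓ := by
  classical
  have hpp : p.Prime := hp.out
  -- the second line
  set ℓ' : Subgroup V := ℓ.map (w : V ≃* V).toMonoidHom with hℓ'
  have hmemℓ' : ∀ y, y ∈ ℓ' ↔ ∃ x ∈ ℓ, w x = y := by
    intro y
    rw [hℓ', Subgroup.mem_map]
    rfl
  have hℓ'card : Nat.card ℓ' = p := by
    rw [← hℓ]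
    exact Subgroup.card_map_of_injective (w : V ≃* V).injective
  -- `l = w u w⁻¹`
  set l : MulAut V := w * u * w⁻¹ with hl
  have hl𝒦 : l ∈ 𝒦 := 𝒦.mul_mem (𝒦.mul_mem hw𝒦 hu𝒦) (𝒦.inv_mem hw𝒦)
  have hwinv : ∀ v, w (w⁻¹ v) = v := fun v => by
    rw [← MulAut.mul_apply, mul_inv_cancel, MulAut.one_apply]
  have hwinv' : ∀ v, w⁻¹ (w v) = v := fun v => by
    rw [← MulAut.mul_apply, inv_mul_cancel, MulAut.one_apply]
  have hl1 : ∀ v, v⁻¹ * l v ∈ ℓ' := by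
    intro v
    rw [hmemℓ']
    refine ⟨(w⁻¹ v)⁻¹ * u (w⁻¹ v), hu1 _, ?_⟩
    rw [map_mul, map_inv, hwinv, hl, MulAut.mul_apply, MulAut.mul_apply]
  have hl3 : ∀ y ∈ ℓ', l y = y := by
    intro y hy
    obtain ⟨x, hx, rfl⟩ := (hmemℓ' y).1 hy
    rw [hl, MulAut.mul_apply, MulAut.mul_apply, hwinv', hu3 x hx]
  -- orders
  have hpℓ : ∀ x ∈ ℓ, x ^ p = 1 := fun x hx => pow_card_eq_one_of_mem ℓ hℓ hx
  have hpℓ' : ∀ y ∈ ℓ', y ^ p = 1 := fun y hy => pow_card_eq_one_of_mem ℓ' hℓ'card hy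
  -- `ℓ ⊓ ℓ' = ⊥`
  have hdisj : ∀ z, z ∈ ℓ → z ∈ ℓ' → z = 1 := by
    intro z hz hz'
    by_contra hz0
    obtain ⟨x, hx, hwx⟩ := hw
    apply hwx
    have h1 : w x ∈ ℓ' := (hmemℓ' _).2 ⟨x, hx, rfl⟩
    obtain ⟨n, hn⟩ := exists_pow_eq_of_prime_card' ℓ' hℓ'card hz' hz0 h1
    rw [← hn]
    exact ℓ.pow_mem hz n
  have hdisj' : Disjoint ℓ ℓ' := by
    rw [Subgroup.disjoint_def]
    exact fun {z} hz hz' => hdisj z hz hz'
  have hcompl : Subgroup.IsComplement' ℓ ℓ' :=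
    Subgroup.isComplement'_of_card_mul_and_disjoint (by rw [hℓ, hℓ'card, hV, sq]) hdisj'
  have hdecomp : ∀ v : V, ∃ x ∈ ℓ, ∃ y ∈ ℓ', v = x * y := by
    intro v
    obtain ⟨⟨⟨x, hx⟩, ⟨y, hy⟩⟩, hxy, -⟩ := hcompl.existsUnique v
    exact ⟨x, hx, y, hy, hxy.symm⟩
  -- the commutator maps
  set a : V → V := fun v => v⁻¹ * u v with ha
  set b : V → V := fun v => v⁻¹ * l v with hb
  have ha_mul : ∀ v₁ v₂, a (v₁ * v₂) = a v₁ * a v₂ := by
    intro v₁ v₂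
    simp only [ha, map_mul, mul_inv]
    rw [mul_mul_mul_comm]
  have hb_mul : ∀ v₁ v₂, b (v₁ * v₂) = b v₁ * b v₂ := by
    intro v₁ v₂
    simp only [hb, map_mul, mul_inv]
    rw [mul_mul_mul_comm]
  have ha_pow : ∀ v (n : ℕ), a (v ^ n) = a v ^ n := by
    intro v n
    simp only [ha, map_pow, ← inv_pow, mul_pow]
  have hb_pow : ∀ v (n : ℕ), b (v ^ n) = b v ^ n := by
    intro v n
    simp only [hb, map_pow, ← inv_pow, mul_pow]
  have ha_mem : ∀ v, a v ∈ ℓ := hu1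
  have hb_mem : ∀ v, b v ∈ ℓ' := hl1
  have ha_ℓ : ∀ x ∈ ℓ, a x = 1 := by
    intro x hx
    simp only [ha, hu3 x hx, inv_mul_cancel]
  have hb_ℓ' : ∀ y ∈ ℓ', b y = 1 := by
    intro y hy
    simp only [hb, hl3 y hy, inv_mul_cancel]
  have hu_eq : ∀ v, u v = v * a v := fun v => by simp only [ha, mul_inv_cancel_left]
  have hl_eq : ∀ v, l v = v * b v := fun v => by simp only [hb, mul_inv_cancel_left]
  have hupow : ∀ (i : ℕ) v, (u ^ i) v = v * a v ^ i := by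
    intro i v
    exact pow_apply_of_fix u v (hu3 _ (hu1 v)) i
  have hlpow : ∀ (j : ℕ) v, (l ^ j) v = v * b v ^ j := by
    intro j v
    exact pow_apply_of_fix l v (hl3 _ (hl1 v)) j
  -- `a` is nontrivial on `ℓ'`, `b` is nontrivial on `ℓ`
  have ha_inj : ∀ y ∈ ℓ', a y = 1 → y = 1 := by
    intro y hy hay
    by_contra hy1
    apply hu2
    ext v
    rw [MulAut.one_apply, hu_eq]
    obtain ⟨x, hx, y', hy', rfl⟩ := hdecomp v
    obtain ⟨n, hn⟩ := exists_pow_eq_of_prime_card' ℓ' hℓ'card hy hy1 hy'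
    rw [ha_mul, ha_ℓ x hx, ← hn, ha_pow, hay, one_pow, one_mul, mul_one]
  have hl_ne : l ≠ 1 := by
    intro h
    apply hu2
    have : u = w⁻¹ * l * w := by rw [hl]; group
    rw [this, h]; group
  have hb_inj : ∀ x ∈ ℓ, b x = 1 → x = 1 := by
    intro x hx hbx
    by_contra hx1
    apply hl_ne
    ext v
    rw [MulAut.one_apply, hl_eq]
    obtain ⟨x', hx', y, hy, rfl⟩ := hdecomp v
    obtain ⟨n, hn⟩ := exists_pow_eq_of_prime_card' ℓ hℓ hx hx1 hx'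
    rw [hb_mul, hb_ℓ' y hy, ← hn, hb_pow, hbx, one_pow, one_mul, mul_one]
  -- the constant `k`
  obtain ⟨k, hk, hkp⟩ : ∃ k : ℕ, (∀ y ∈ ℓ', b (a y) = y ^ k) ∧ Nat.Coprime k p := by
    -- a generator of `ℓ'`
    obtain ⟨x₀, hx₀, hwx₀⟩ := hw
    set e₂ := w x₀ with he₂
    have he₂' : e₂ ∈ ℓ' := (hmemℓ' _).2 ⟨x₀, hx₀, rfl⟩
    have he₂1 : e₂ ≠ 1 := by
      intro h
      apply hwx₀
      rw [h]
      exact ℓ.one_mem
    obtain ⟨k, hk⟩ := exists_pow_eq_of_prime_card' ℓ' hℓ'card he₂' he₂1 (hb_mem (a e₂))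
    refine ⟨k, ?_, ?_⟩
    · intro y hy
      obtain ⟨n, hn⟩ := exists_pow_eq_of_prime_card' ℓ' hℓ'card he₂' he₂1 hy
      rw [← hn, ha_pow, hb_pow, ← hk, ← pow_mul, ← pow_mul, mul_comm]
    · rw [Nat.coprime_comm, Nat.Prime.coprime_iff_not_dvd hpp]
      rintro ⟨t, rfl⟩
      have h1 : b (a e₂) = 1 := by
        rw [← hk, pow_mul, hpℓ' e₂ he₂', one_pow]
      have h2 := hb_inj _ (ha_mem e₂) h1
      exact he₂1 (ha_inj _ he₂' h2)
  -- choice of `i`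
  have hp3 : 3 ≤ p := by
    have := hpp.two_le
    omega
  have hcop : Nat.Coprime ((p - 2) * k) p := by
    apply Nat.Coprime.mul_left _ hkp
    rw [Nat.coprime_comm, Nat.Prime.coprime_iff_not_dvd hpp]
    intro hdvd
    have := Nat.le_of_dvd (by omega) hdvd
    omega
  obtain ⟨i, -, hi⟩ := Nat.exists_mul_mod_eq_one_of_coprime hcop hpp.one_lt
  -- `(p - 2) * k * i = p * q + 1`
  obtain ⟨q, hq⟩ : ∃ q, (p - 2) * k * i = p * q + 1 := by
    refine ⟨(p - 2) * k * i / p, ?_⟩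
    have := Nat.div_add_mod ((p - 2) * k * i) p
    rw [hi] at this
    exact this.symm
  set δ : MulAut V := l ^ (p - 2) * u ^ i * l with hδ
  have hδ_apply : ∀ v, δ v = (l ^ (p - 2)) ((u ^ i) (l v)) := by
    intro v
    rw [hδ, MulAut.mul_apply, MulAut.mul_apply]
  have hδy : ∀ y ∈ ℓ', δ y = y ^ 2 * a y ^ i := by
    intro y hy
    rw [hδ_apply, hl3 y hy, hupow, hlpow, hb_mul, hb_ℓ' y hy, one_mul, hb_pow, hk y hy]
    -- `y * a y ^ i * ((y ^ k) ^ i) ^ (p - 2) = y ^ 2 * a y ^ i`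
    have h1 : ((y ^ k) ^ i) ^ (p - 2) = y := by
      rw [← pow_mul, ← pow_mul]
      have : k * (i * (p - 2)) = p * q + 1 := by rw [← hq]; ring
      rw [this, pow_succ, pow_mul, hpℓ' y hy, one_pow, one_mul]
    rw [h1, sq]
    rw [mul_assoc, mul_comm (a y ^ i) y, ← mul_assoc]
  have hδx : ∀ x ∈ ℓ, δ x = x * a (b x) ^ i := by
    intro x hx
    rw [hδ_apply, hl_eq, hupow, hlpow, ha_mul, ha_ℓ x hx, one_mul]
    have hbx : b x ∈ ℓ' := hb_mem x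
    have h1 : b (x * b x * a (b x) ^ i) = b x ^ (1 + k * i) := by
      rw [hb_mul, hb_mul, hb_ℓ' _ hbx, mul_one, hb_pow, hk _ hbx, ← pow_mul, pow_add, pow_one]
    rw [h1, ← pow_mul]
    have h2 : b x * b x ^ ((1 + k * i) * (p - 2)) = 1 := by
      rw [← pow_succ']
      have : (1 + k * i) * (p - 2) + 1 = p * (q + 1) := by
        have e1 : k * i * (p - 2) = p * q + 1 := by rw [← hq]; ring
        have e2 : (1 + k * i) * (p - 2) = (p - 2) + k * i * (p - 2) := by ring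
        rw [e2, e1]
        have : p - 2 + 2 = p := by omega
        calc p - 2 + (p * q + 1) + 1 = (p - 2 + 2) + p * q := by ring
          _ = p + p * q := by rw [this]
          _ = p * (q + 1) := by ring
      rw [this, pow_mul, hpℓ' _ hbx, one_pow]
    calc x * b x * a (b x) ^ i * b x ^ ((1 + k * i) * (p - 2))
        = x * a (b x) ^ i * (b x * b x ^ ((1 + k * i) * (p - 2))) := by
          simp only [mul_assoc, mul_left_comm, mul_comm]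
      _ = x * a (b x) ^ i := by rw [h2, mul_one]
  refine ⟨δ, ?_, ?_, ?_⟩
  · exact 𝒦.mul_mem (𝒦.mul_mem (𝒦.pow_mem hl𝒦 _) (𝒦.pow_mem hu𝒦 _)) hl𝒦
  · intro x hx
    rw [hδx x hx]
    exact ℓ.mul_mem hx (ℓ.pow_mem (ha_mem _) _)
  · intro v
    obtain ⟨x, hx, y, hy, rfl⟩ := hdecomp v
    rw [map_mul, hδx x hx, hδy y hy]
    have : ((x * y) ^ 2)⁻¹ * (x * a (b x) ^ i * (y ^ 2 * a y ^ i))
        = x⁻¹ * (a (b x) ^ i * a y ^ i) := by
      rw [mul_pow, mul_inv, sq x, mul_inv]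
      have e : ∀ (x y2 A B : V), x⁻¹ * x⁻¹ * y2⁻¹ * (x * A * (y2 * B)) = x⁻¹ * (A * B) := by
        intro x y2 A B
        calc x⁻¹ * x⁻¹ * y2⁻¹ * (x * A * (y2 * B))
            = x⁻¹ * (x⁻¹ * x) * (y2⁻¹ * y2) * (A * B) := by
              simp only [mul_assoc, mul_left_comm, mul_comm]
          _ = x⁻¹ * (A * B) := by rw [inv_mul_cancel, inv_mul_cancel, mul_one, mul_one]
      exact e x (y ^ 2) _ _
    rw [this]
    exact ℓ.mul_mem (ℓ.inv_mem hx)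
      (ℓ.mul_mem (ℓ.pow_mem (ha_mem _) _) (ℓ.pow_mem (ha_mem _) _))

end PartA

/-- Version for a group of order `p ^ 2` (commutativity is automatic). -/
theorem exists_delta' {V : Type*} [Group V] [Finite V] {p : ℕ} [hp : Fact p.Prime] (hp2 : p ≠ 2)
    (hV : Nat.card V = p ^ 2) (ℓ : Subgroup V) (hℓ : Nat.card ℓ = p)
    (𝒦 : Subgroup (MulAut V)) (u w : MulAut V) (hu𝒦 : u ∈ 𝒦) (hw𝒦 : w ∈ 𝒦)
    (hu1 : ∀ v, v⁻¹ * u v ∈ ℓ) (hu3 : ∀ x ∈ ℓ, u x = x) (hu2 : u ≠ 1)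
    (hw : ∃ x ∈ ℓ, w x ∉ ℓ) :
    ∃ δ ∈ 𝒦, (∀ x ∈ ℓ, δ x ∈ ℓ) ∧ ∀ v, (v ^ 2)⁻¹ * δ v ∈ ℓ := by
  letI : CommGroup V :=
    { ‹Group V› with
      mul_comm := (IsPGroup.isMulCommutative_of_card_eq_prime_sq hV).is_comm.comm }
  exact exists_delta hp2 hV ℓ hℓ 𝒦 u w hu𝒦 hw𝒦 hu1 hu3 hu2 hw

end Cfsg.Agent.Helper25.R2TOR
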