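import Mathlib
import Cfsg.Agent.Helper25.R2TORa

set_option autoImplicit false

/-!
# Piece (TOR) of S5289: a torus element of `SL₂(p)` normalising `Aut_S(E)`

See `torus_normalizing`.
-/

namespace Cfsg.Agent.Helper25.R2TOR

section Quot

variable {E : Type*} [Group E]

/-- automorphisms act on the quotient by a characteristic subgroup -/
def quotHom (N : Subgroup E) [hN : N.Characteristic] : MulAut E →* MulAut (E ⧸ N) where
  toFun φ := QuotientGroup.congr N N φ (Subgroup.characteristic_iff_map_eq.mp hN φ)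
  map_one' := by
    ext x
    induction x using QuotientGroup.induction_on with
    | H x => rfl
  map_mul' φ ψ := by
    ext x
    induction x using QuotientGroup.induction_on with
    | H x => rfl

@[simp] theorem quotHom_mk (N : Subgroup E) [hN : N.Characteristic] (φ : MulAut E) (x : E) :
    quotHom N φ (QuotientGroup.mk x) = QuotientGroup.mk (φ x) := rfl

end Quot

/-- an automorphism of `p`-power order acting on a subgroup of order `p` is trivial on it -/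
theorem fix_of_pow_eq_one {V : Type*} [Group V] {p : ℕ} [hp : Fact p.Prime] (u : MulAut V)
    (t : ℕ) (hu : u ^ (p ^ t) = 1) (x : V) (m : ℕ) (hx : orderOf x = p) (hux : u x = x ^ m) :
    u x = x := by
  have hpow : ∀ j : ℕ, (u ^ j) x = x ^ (m ^ j) := by
    intro j
    induction j with
    | zero => simp
    | succ n ih =>
      rw [pow_succ', MulAut.mul_apply, ih, map_pow, hux, ← pow_mul, pow_succ, mul_comm]
  have h1 := hpow (p ^ t)
  rw [hu, MulAut.one_apply] at h1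
  have h2 : x ^ 1 = x ^ (m ^ (p ^ t)) := by rw [pow_one]; exact h1
  rw [pow_eq_pow_iff_modEq, hx] at h2
  have h3 : ((m ^ (p ^ t) : ℕ) : ZMod p) = 1 := by
    have := (ZMod.natCast_eq_natCast_iff _ _ _).2 h2
    rw [← this]; simp
  rw [Nat.cast_pow, ZMod.pow_card_pow] at h3
  have h4 : m ≡ 1 [MOD p] := by
    rw [← ZMod.natCast_eq_natCast_iff]
    rw [h3]; simp
  rw [hux]
  have h5 : x ^ m = x ^ 1 := by
    rw [pow_eq_pow_iff_modEq, hx]; exact h4
  rw [h5, pow_one]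

theorem torus_normalizing {E : Type*} [Group E] [Finite E] {p : ℕ} [Fact p.Prime] (hp : 5 ≤ p)
    (N : Subgroup E) [N.Characteristic] (L : Subgroup E) (hNL : N ≤ L)
    (hEN : N.index = p ^ 2) (hLN : N.relIndex L = p)
    (𝒜 T : Subgroup (MulAut E)) (hT𝒜 : T ≤ 𝒜) (R : Sylow p ↥𝒜)
    (hR : (R : Subgroup ↥𝒜) = T.subgroupOf 𝒜)
    (h1 : ∀ τ ∈ T, ∀ g : E, g⁻¹ * τ g ∈ L)
    (h2 : ∃ τ ∈ T, ∃ g : E, g⁻¹ * τ g ∉ N)
    (h3 : ∃ β ∈ 𝒜, ∃ l ∈ L, β l ∉ L) :
    ∃ h ∈ 𝒜, (∀ τ ∈ T, h * τ * h⁻¹ ∈ T) ∧ ∀ g : E, (g ^ 2)⁻¹ * h g ∈ L := by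
  classical
  have hpp : p.Prime := Fact.out
  have hp2 : p ≠ 2 := by omega
  have : Finite (MulAut E) := Finite.of_injective (fun φ : MulAut E => (φ : E → E))
    (fun φ ψ h => by ext x; exact congrFun h x)
  -- the quotient `V = E / N`
  have hV : Nat.card (E ⧸ N) = p ^ 2 := by rw [← Subgroup.index_eq_card, hEN]
  set ℓ : Subgroup (E ⧸ N) := L.map (QuotientGroup.mk' N) with hℓdef
  have hmemℓ : ∀ g : E, (QuotientGroup.mk g : E ⧸ N) ∈ ℓ ↔ g ∈ L := by
    intro g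
    constructor
    · intro hg
      obtain ⟨l, hl, hlg⟩ := Subgroup.mem_map.1 hg
      have : l⁻¹ * g ∈ N := by
        rw [← QuotientGroup.eq]; exact hlg
      have h2 := L.mul_mem hl (hNL this)
      rwa [mul_inv_cancel_left] at h2
    · intro hg
      exact Subgroup.mem_map.2 ⟨g, hg, rfl⟩
  have hℓcard : Nat.card ℓ = p := by
    have hLidx : L.index = p := by
      have := Subgroup.relIndex_mul_index hNL
      rw [hLN, hEN, sq] at this
      exact Nat.eq_of_mul_eq_mul_left hpp.pos this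
    have hcomap : ℓ.comap (QuotientGroup.mk' N) = L := by
      ext g
      rw [Subgroup.mem_comap]
      exact hmemℓ g
    have hidx : ℓ.index = p := by
      rw [← hLidx, ← hcomap]
      exact (Subgroup.index_comap_of_surjective ℓ (QuotientGroup.mk'_surjective N)).symm
    have := ℓ.card_mul_index
    rw [hidx, hV, sq] at this
    exact Nat.eq_of_mul_eq_mul_right hpp.pos this
  -- the data in `MulAut V`
  obtain ⟨τ₀, hτ₀, g₀, hg₀⟩ := h2
  obtain ⟨β, hβ, l₀, hl₀, hβl₀⟩ := h3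
  set ρ := quotHom N with hρ
  -- `T` is a `p`-group
  have hTp : ∀ τ ∈ T, ∃ t : ℕ, τ ^ (p ^ t) = 1 := by
    intro τ hτ
    have hmem : (⟨τ, hT𝒜 hτ⟩ : 𝒜) ∈ (R : Subgroup ↥𝒜) := by
      rw [hR, Subgroup.mem_subgroupOf]; exact hτ
    obtain ⟨t, ht⟩ := R.2 ⟨⟨τ, hT𝒜 hτ⟩, hmem⟩
    refine ⟨t, ?_⟩
    have := congrArg (fun z : (R : Subgroup ↥𝒜) => ((z : 𝒜) : MulAut E)) ht
    simpa using this
  have hu1 : ∀ v, v⁻¹ * ρ τ₀ v ∈ ℓ := by
    intro v
    induction v using QuotientGroup.induction_on with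
    | H g =>
      have : (QuotientGroup.mk g : E ⧸ N)⁻¹ * ρ τ₀ (QuotientGroup.mk g)
          = QuotientGroup.mk (g⁻¹ * τ₀ g) := rfl
      rw [this, hmemℓ]
      exact h1 τ₀ hτ₀ g
  have hu3 : ∀ x ∈ ℓ, ρ τ₀ x = x := by
    intro x hx
    by_cases hx1 : x = 1
    · rw [hx1, map_one]
    obtain ⟨t, ht⟩ := hTp τ₀ hτ₀
    have hux : ρ τ₀ x ∈ ℓ := by
      have := ℓ.mul_mem hx (hu1 x)
      rwa [mul_inv_cancel_left] at this
    obtain ⟨m, hm⟩ := exists_pow_eq_of_prime_card' ℓ hℓcard hx hx1 hux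
    have hord : orderOf x = p := by
      have h1 : x ^ p = 1 := by
        have := pow_card_eq_one' (G := ℓ) (x := ⟨x, hx⟩)
        rw [hℓcard] at this
        have h2 := congrArg Subtype.val this
        simpa using h2
      exact orderOf_eq_prime h1 hx1
    refine fix_of_pow_eq_one (ρ τ₀) t ?_ x m hord hm.symm
    rw [← map_pow, ht, map_one]
  have hu2 : ρ τ₀ ≠ 1 := by
    intro h
    apply hg₀
    have h1 : ρ τ₀ (QuotientGroup.mk g₀) = QuotientGroup.mk g₀ := by rw [h]; rfl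
    rw [quotHom_mk, eq_comm, QuotientGroup.eq] at h1
    exact h1
  have hw : ∃ x ∈ ℓ, ρ β x ∉ ℓ := by
    refine ⟨QuotientGroup.mk l₀, (hmemℓ l₀).2 hl₀, ?_⟩
    rw [quotHom_mk, hmemℓ]
    exact hβl₀
  obtain ⟨δ, hδ𝒦, hδ1, hδ2⟩ := exists_delta' hp2 hV ℓ hℓcard (𝒜.map ρ) (ρ τ₀) (ρ β)
    (Subgroup.mem_map_of_mem ρ (hT𝒜 hτ₀)) (Subgroup.mem_map_of_mem ρ hβ) hu1 hu3 hu2 hw
  obtain ⟨d, hd𝒜, rfl⟩ := Subgroup.mem_map.1 hδ𝒦
  have hd1 : ∀ l ∈ L, d l ∈ L := by
    intro l hl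
    have := hδ1 (QuotientGroup.mk l) ((hmemℓ l).2 hl)
    rwa [quotHom_mk, hmemℓ] at this
  have hd2 : ∀ g : E, (g ^ 2)⁻¹ * d g ∈ L := by
    intro g
    have := hδ2 (QuotientGroup.mk g)
    have e : ((QuotientGroup.mk g : E ⧸ N) ^ 2)⁻¹ * ρ d (QuotientGroup.mk g)
        = QuotientGroup.mk ((g ^ 2)⁻¹ * d g) := rfl
    rwa [e, hmemℓ] at this
  -- the subgroup `Y` of `𝒜` of automorphisms trivial on `E / L`
  have hstab : ∀ γ : MulAut E, (∀ g : E, g⁻¹ * γ g ∈ L) → ∀ l ∈ L, γ l ∈ L := by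
    intro γ hγ l hl
    have := L.mul_mem hl (hγ l)
    rwa [mul_inv_cancel_left] at this
  let Y : Subgroup ↥𝒜 :=
    { carrier := {γ | ∀ g : E, g⁻¹ * (γ : MulAut E) g ∈ L}
      one_mem' := by
        intro g
        simp
      mul_mem' := by
        intro γ₁ γ₂ h₁ h₂ g
        have e : g⁻¹ * ((γ₁ * γ₂ : 𝒜) : MulAut E) g
            = g⁻¹ * (γ₁ : MulAut E) g * (γ₁ : MulAut E) (g⁻¹ * (γ₂ : MulAut E) g) := by
          rw [Subgroup.coe_mul, MulAut.mul_apply, map_mul, map_inv]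
          group
        rw [e]
        exact L.mul_mem (h₁ g) (hstab _ h₁ _ (h₂ g))
      inv_mem' := by
        intro γ hγ g
        set g' := ((γ⁻¹ : 𝒜) : MulAut E) g with hg'
        have h1 : (γ : MulAut E) g' = g := by
          rw [hg', Subgroup.coe_inv, ← MulAut.mul_apply, mul_inv_cancel, MulAut.one_apply]
        have h2 := L.inv_mem (hγ g')
        rw [mul_inv_rev, inv_inv, h1] at h2
        exact h2 }
  -- `R ≤ Y`
  have hRY : (R : Subgroup ↥𝒜) ≤ Y := by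
    intro γ hγ
    rw [hR, Subgroup.mem_subgroupOf] at hγ
    exact h1 _ hγ
  -- the conjugate `d • R`
  set dA : 𝒜 := ⟨d, hd𝒜⟩ with hdA
  have hR'Y : ((dA • R : Sylow p ↥𝒜) : Subgroup ↥𝒜) ≤ Y := by
    intro γ hγ
    rw [Sylow.coe_subgroup_smul, Subgroup.mem_smul_pointwise_iff_exists] at hγ
    obtain ⟨σ, hσ, rfl⟩ := hγ
    have hσT : (σ : MulAut E) ∈ T := by
      rw [hR, Subgroup.mem_subgroupOf] at hσ; exact hσ
    intro g
    change g⁻¹ * ((dA * σ * dA⁻¹ : 𝒜) : MulAut E) g ∈ L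
    rw [Subgroup.coe_mul, Subgroup.coe_mul, Subgroup.coe_inv, MulAut.mul_apply, MulAut.mul_apply]
    set g' := (d⁻¹ : MulAut E) g with hg'
    have hdg' : d g' = g := by
      rw [hg', ← MulAut.mul_apply, mul_inv_cancel, MulAut.one_apply]
    have h3 := hd1 _ (h1 _ hσT g')
    rw [map_mul, map_inv, hdg'] at h3
    exact h3
  obtain ⟨y, hy⟩ := MulAction.exists_smul_eq Y ((dA • R : Sylow p ↥𝒜).subtype hR'Y)
    (R.subtype hRY)
  rw [Sylow.smul_subtype] at hy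
  have hy2 : (y : 𝒜) • (dA • R : Sylow p ↥𝒜) = R := Sylow.subtype_injective hy
  rw [← mul_smul, Sylow.smul_eq_iff_mem_normalizer] at hy2
  refine ⟨(((y : 𝒜) * dA : 𝒜) : MulAut E), ((y : 𝒜) * dA).2, ?_, ?_⟩
  · intro τ hτ
    have hmem : (⟨τ, hT𝒜 hτ⟩ : 𝒜) ∈ (R : Subgroup ↥𝒜) := by
      rw [hR, Subgroup.mem_subgroupOf]; exact hτ
    have h3 := (Subgroup.mem_normalizer_iff.1 hy2 _).1 hmem
    rw [hR, Subgroup.mem_subgroupOf] at h3
    exact h3
  · intro g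
    rw [Subgroup.coe_mul, MulAut.mul_apply]
    change (g ^ 2)⁻¹ * ((y : 𝒜) : MulAut E) (d g) ∈ L
    -- `d g = g² l`, `y (g² l) ∈ g² L`
    have hyY := y.2
    have h4 : (g ^ 2)⁻¹ * ((y : 𝒜) : MulAut E) (d g)
        = (g ^ 2)⁻¹ * ((y : 𝒜) : MulAut E) (g ^ 2)
          * ((y : 𝒜) : MulAut E) ((g ^ 2)⁻¹ * d g) := by
      rw [map_mul, map_inv]
      group
    rw [h4]
    exact L.mul_mem (hyY (g ^ 2)) (hstab _ hyY _ (hd2 g))

end Cfsg.Agent.Helper25.R2TOR
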