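import Mathlib
import Cfsg.Agent.Helper27.S0429Defs
import Cfsg.Agent.Helper25.S0429KAPVALcore
import Cfsg.Agent.Helper19.S0429KAPLE
import Cfsg.Prelude.Def_Sporadic_a

/-! Board `s0429pieces` (S0429), row KAPVAL. -/

set_option autoImplicit false

namespace Cfsg.Agent.S0429P

open Finset

variable {V : Type*} [Fintype V] [DecidableEq V] {G : SimpleGraph V} [DecidableRel G.Adj]

/-- KAPVAL (S). -/
theorem KAPVAL (h : G.IsSRGWith 77 16 0 4) {a b z : V} (hab : Far G a b) (hz : Far G a z)
    (hzb : z ∉ cls G a b) : kap G a z b = 1 ∨ kap G a z b = 2 := by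
  have hne : z ≠ b := by
    rintro rfl
    exact hzb (self_mem_cls a z)
  exact KAPVAL_aux_core hab hz hzb (KAPLE h hz hab hne)

end Cfsg.Agent.S0429P
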