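import Mathlib
import Cfsg.Agent.Helper2.S2096.Defs
import Cfsg.Agent.Helper2.S3352.RankOne

set_option autoImplicit false
set_option linter.unusedSectionVars false
set_option linter.unusedVariables false

/-! S2096/S2097 part B (driver helper2), piece WXID: formal rank one identities for the Weyl and
torus elements. -/

namespace Cfsg.Agent.S2096P

open Matrix Cfsg.Agent.S3352P Cfsg.Agent.S3351P Cfsg.Agent.S2086P

variable {n : ℕ} {F : Type*} [Field F] [Fintype F] {M : Type*} [Group M] {X : J n → J n → F → M}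

/-- WXID -/
theorem wX_inv' (hX : DRel X) {a b : J n} (hab : IsRoot a b) (t : F) :
    (wX X a b t)⁻¹ = wX X a b (-t) := by
  unfold wX
  rw [_root_.mul_inv_rev, _root_.mul_inv_rev, WCONJ.X_inv hX hab, WCONJ.X_inv hX hab.symm, neg_neg, inv_neg,
    neg_neg, mul_assoc]

theorem wX_flip (hX : DRel X) {a b : J n} (hab : IsRoot a b) (t : F) :
    wX X (ng b) (ng a) t = wX X a b (-t) := by
  unfold wX
  have h1 : X (ng a) (ng b) (-t⁻¹) = X b a (-(-t)⁻¹) := by
    rw [hX.flip b a hab.symm, inv_neg]
  rw [hX.flip a b hab, h1]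

theorem wX_eq_tX_mul (hX : DRel X) {a b : J n} (hab : IsRoot a b) (t : F) :
    wX X a b t = tX X a b t * wX X a b 1 := by
  unfold tX
  rw [mul_assoc, RANKONE.wX_neg_one_mul hX hab, mul_one]

theorem tX_one (hX : DRel X) {a b : J n} (hab : IsRoot a b) : tX X a b 1 = 1 := by
  unfold tX
  rw [← wX_inv' hX hab, mul_inv_cancel]

end Cfsg.Agent.S2096P
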