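import Mathlib
import Cfsg.Agent.Helper2.S2096.Defs
import Cfsg.Agent.Helper2.S3352.RankOne
import Cfsg.Agent.Helper25.S2096WXID

set_option autoImplicit false
set_option linter.unusedSectionVars false
set_option linter.unusedVariables false

/-! S2096/S2097 part B (driver helper2), piece WXCONJW: Weyl elements conjugate Weyl elements to
Weyl elements. -/

namespace Cfsg.Agent.S2096P

open Matrix Cfsg.Agent.S3352P Cfsg.Agent.S3351P Cfsg.Agent.S2086P

namespace WXCONJW

open Cfsg.Agent.Helper2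

section stn

variable {K : Type*} [Field K] {n : ℕ}

/-- assembling a Weyl element from conjugated root elements with inverse scalars -/
theorem wg_of_conj {a b k l k' l' : Fin n} {t c : K} (hc : c ≠ 0)
    (h1 : ∀ u : K, Stn.wg a b t * Stn.xg k l u * (Stn.wg a b t)⁻¹ = Stn.xg k' l' (c * u))
    (h2 : ∀ u : K, Stn.wg a b t * Stn.xg l k u * (Stn.wg a b t)⁻¹ = Stn.xg l' k' (c⁻¹ * u))
    {u : K} (hu : u ≠ 0) :
    Stn.wg a b t * Stn.wg k l u * (Stn.wg a b t)⁻¹ = Stn.wg k' l' (c * u) := by
  rw [Stn.wg_def k l, Stn.conj_mul3, h1, h2, Stn.wg_def]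
  have e : c⁻¹ * -u⁻¹ = -(c * u)⁻¹ := by field_simp
  rw [e]

/-- Weyl elements of `Stn` conjugate Weyl elements to Weyl elements -/
theorem wg_conj_wg (h3 : 3 ≤ n) {a b : Fin n} (hab : a ≠ b) {t : K} (ht : t ≠ 0) {i j : Fin n}
    (hij : i ≠ j) :
    ∃ c : K, c ≠ 0 ∧ ∀ u : K, u ≠ 0 → Stn.wg a b t * Stn.wg i j u * (Stn.wg a b t)⁻¹ =
      Stn.wg (Equiv.swap a b i) (Equiv.swap a b j) (c * u) := by
  have ht' : t⁻¹ ≠ 0 := inv_ne_zero ht
  by_cases hia : i = a
  · subst hia
    by_cases hjb : j = b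
    · subst hjb
      obtain ⟨l, hli, hlj⟩ := Stn.exists_third h3 i j
      refine ⟨-(t⁻¹ ^ 2), neg_ne_zero.mpr (pow_ne_zero _ ht'), fun u hu => ?_⟩
      rw [Equiv.swap_apply_left, Equiv.swap_apply_right]
      apply wg_of_conj (neg_ne_zero.mpr (pow_ne_zero _ ht')) _ _ hu
      · intro v
        rw [Stn.wg_conj_ij hab hlj.symm hli.symm ht]
        congr 1; ring
      · intro v
        rw [Stn.wg_conj_ji h3 hab ht]
        congr 1; field_simp
    · refine ⟨-t⁻¹, neg_ne_zero.mpr ht', fun u hu => ?_⟩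
      rw [Equiv.swap_apply_left, Equiv.swap_apply_of_ne_of_ne (Ne.symm hij) hjb]
      apply wg_of_conj (neg_ne_zero.mpr ht') _ _ hu
      · intro v
        rw [Stn.wg_conj_il hab (Ne.symm hjb) hij ht]
        congr 1; ring
      · intro v
        rw [Stn.wg_conj_ki hab (Ne.symm hij) hjb ht]
        congr 1; field_simp
  by_cases hib : i = b
  · subst hib
    by_cases hja : j = a
    · subst hja
      obtain ⟨l, hli, hlj⟩ := Stn.exists_third h3 i j
      refine ⟨-(t ^ 2), neg_ne_zero.mpr (pow_ne_zero _ ht), fun u hu => ?_⟩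
      rw [Equiv.swap_apply_left, Equiv.swap_apply_right]
      apply wg_of_conj (neg_ne_zero.mpr (pow_ne_zero _ ht)) _ _ hu
      · intro v
        rw [Stn.wg_conj_ji h3 hab ht]
        congr 1; ring
      · intro v
        rw [Stn.wg_conj_ij hab hli.symm hlj.symm ht]
        congr 1; field_simp
    · refine ⟨t, ht, fun u hu => ?_⟩
      rw [Equiv.swap_apply_right, Equiv.swap_apply_of_ne_of_ne hja (Ne.symm hij)]
      apply wg_of_conj ht _ _ hu
      · intro v
        rw [Stn.wg_conj_jl hab hij (Ne.symm hja) ht]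
      · intro v
        rw [Stn.wg_conj_kj hab hja (Ne.symm hij) ht]
  by_cases hja : j = a
  · subst hja
    refine ⟨-t, neg_ne_zero.mpr ht, fun u hu => ?_⟩
    rw [Equiv.swap_apply_left, Equiv.swap_apply_of_ne_of_ne hij hib]
    apply wg_of_conj (neg_ne_zero.mpr ht) _ _ hu
    · intro v
      rw [Stn.wg_conj_ki hab hij hib ht]
      congr 1; ring
    · intro v
      rw [Stn.wg_conj_il hab (Ne.symm hib) (Ne.symm hij) ht]
      congr 1; field_simp
  by_cases hjb : j = b
  · subst hjb
    refine ⟨t⁻¹, ht', fun u hu => ?_⟩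
    rw [Equiv.swap_apply_right, Equiv.swap_apply_of_ne_of_ne hia hij]
    apply wg_of_conj ht' _ _ hu
    · intro v
      rw [Stn.wg_conj_kj hab hia hij ht]
    · intro v
      rw [Stn.wg_conj_jl hab (Ne.symm hij) (Ne.symm hia) ht, inv_inv]
  · refine ⟨1, one_ne_zero, fun u hu => ?_⟩
    rw [Equiv.swap_apply_of_ne_of_ne hia hib, Equiv.swap_apply_of_ne_of_ne hja hjb]
    apply wg_of_conj one_ne_zero _ _ hu
    · intro v
      rw [Stn.wg_conj_disj hia hib hja hjb, one_mul]
    · intro v
      rw [Stn.wg_conj_disj hja hjb hia hib, inv_one, one_mul]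

end stn

end WXCONJW

variable {n : ℕ} {F : Type*} [Field F] [Fintype F] {M : Type*} [Group M] {X : J n → J n → F → M}

namespace WXCONJW

open WCONJ

/-- the common half case -/
theorem conj_half_wX (hn : 3 ≤ n) (hX : DRel X) (B : Finset (Fin n)) {i j k l : Fin n}
    (hij : i ≠ j) (hkl : k ≠ l) {t : F} (ht : t ≠ 0) :
    ∃ η : F, η ≠ 0 ∧ ∀ u : F, u ≠ 0 →
      wX X (half B i) (half B j) t * wX X (half B k) (half B l) u *
          (wX X (half B i) (half B j) t)⁻¹ =
        wX X (sw (half B i) (half B j) (half B k)) (sw (half B i) (half B j) (half B l))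
          (η * u) := by
  obtain ⟨Θ, hΘ⟩ := exists_half_hom hX B
  obtain ⟨c, hc, h⟩ := wg_conj_wg hn hij ht hkl
  refine ⟨c, hc, fun u hu => ?_⟩
  have h1 := congrArg Θ (h u hu)
  have hne : Equiv.swap i j k ≠ Equiv.swap i j l := fun h' => hkl ((Equiv.swap i j).injective h')
  rw [map_mul, map_mul, map_inv, theta_wg hΘ hij, theta_wg hΘ hkl, theta_wg hΘ hne] at h1
  rw [h1, sw_half B hij, sw_half B hij]

end WXCONJW

open WXCONJW WCONJ

/-- WXCONJW -/
theorem wX_conj_wX (π : M →* Matrix (J n) (J n) F)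
    (hπ : ∀ a b, IsRoot a b → ∀ t : F, π (X a b t) = xm a b t) (hn : 3 ≤ n) (hX : DRel X) {a b : J n} (hab : IsRoot a b) {t : F} (ht : t ≠ 0)
    {c d : J n} (hcd : IsRoot c d) :
    ∃ η : F, η ≠ 0 ∧ ∀ u : F, u ≠ 0 →
      wX X a b t * wX X c d u * (wX X a b t)⁻¹ = wX X (sw a b c) (sw a b d) (η * u) := by
  rcases common_half hab hcd with h | ⟨B, i, j, k, l, hij, hkl, rfl, rfl, rfl, rfl⟩ |
    ⟨B, i, j, k, l, hij, hkl, rfl, rfl, hk, hl⟩
  · -- orthogonal roots with the same support
    have key : ∀ {c d : J n}, IsRoot c d →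
        (∀ u : F, wX X a b t * X c d u = X c d u * wX X a b t) →
        (∀ u : F, wX X a b t * X d c u = X d c u * wX X a b t) →
        (∀ u : F, X (sw a b c) (sw a b d) (-u) = X c d u) →
        (∀ u : F, X (sw a b d) (sw a b c) (-u) = X d c u) →
        ∃ η : F, η ≠ 0 ∧ ∀ u : F, u ≠ 0 →
          wX X a b t * wX X c d u * (wX X a b t)⁻¹ = wX X (sw a b c) (sw a b d) (η * u) := by
      intro c d _ h1 h1' h2 h2'
      refine ⟨-1, neg_ne_zero.mpr one_ne_zero, fun u _ => ?_⟩
      have hcomm : wX X a b t * wX X c d u = wX X c d u * wX X a b t := by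
        have k1 : Commute (wX X a b t) (X c d u) := h1 u
        have k2 : Commute (wX X a b t) (X d c (-u⁻¹)) := h1' _
        exact ((k1.mul_right k2).mul_right k1).eq
      rw [hcomm, mul_inv_cancel_right, neg_one_mul]
      show wX X c d u = X (sw a b c) (sw a b d) (-u) * X (sw a b d) (sw a b c) (-(-u)⁻¹) *
        X (sw a b c) (sw a b d) (-u)
      rw [h2 u, inv_neg, h2' (-u⁻¹)]
      rfl
    have hsa : sw a b a = b := sw_left a b hab
    have hsb : sw a b b = a := sw_right a b hab
    have hsna : sw a b (ng a) = ng b := by rw [sw_ng, hsa]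
    have hsnb : sw a b (ng b) = ng a := by rw [sw_ng, hsb]
    have f1 : ∀ u : F, X b (ng a) (-u) = X a (ng b) u := by
      intro u
      have := hX.flip a (ng b) (isRoot_ng_right hab) (-u)
      rwa [ng_ng, neg_neg] at this
    have f2 : ∀ u : F, X (ng b) a (-u) = X (ng a) b u := by
      intro u
      have := hX.flip (ng a) b (isRoot_ng_left hab) (-u)
      rwa [ng_ng, neg_neg] at this
    have f1' : ∀ u : F, X a (ng b) (-u) = X b (ng a) u := by
      intro u; rw [← f1, neg_neg]
    have f2' : ∀ u : F, X (ng a) b (-u) = X (ng b) a u := by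
      intro u; rw [← f2, neg_neg]
    have c1 : ∀ u : F, wX X a b t * X a (ng b) u = X a (ng b) u * wX X a b t :=
      fun u => wX_comm_right hX hab t u
    have c2 : ∀ u : F, wX X a b t * X (ng a) b u = X (ng a) b u * wX X a b t :=
      fun u => wX_comm_left hX hab t u
    have c3 : ∀ u : F, wX X a b t * X b (ng a) u = X b (ng a) u * wX X a b t := by
      intro u; rw [← f1']; exact wX_comm_right hX hab t (-u)
    have c4 : ∀ u : F, wX X a b t * X (ng b) a u = X (ng b) a u * wX X a b t := by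
      intro u; rw [← f2']; exact wX_comm_left hX hab t (-u)
    rcases h with ⟨rfl, rfl⟩ | ⟨rfl, rfl⟩ | ⟨rfl, rfl⟩ | ⟨rfl, rfl⟩
    · apply key hcd c1 c4
      · intro u; rw [hsa, hsnb]; exact f1 u
      · intro u; rw [hsa, hsnb]; exact f2' u
    · apply key hcd c2 c3
      · intro u; rw [hsna, hsb]; exact f2 u
      · intro u; rw [hsna, hsb]; exact f1' u
    · apply key hcd c3 c2
      · intro u; rw [hsb, hsna]; exact f1' u
      · intro u; rw [hsb, hsna]; exact f2 u
    · apply key hcd c4 c1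
      · intro u; rw [hsnb, hsa]; exact f2' u
      · intro u; rw [hsnb, hsa]; exact f1 u
  · exact conj_half_wX hn hX B hij hkl ht
  · -- the other name of the root `(c, d)`
    obtain ⟨η, hη, h⟩ := conj_half_wX (X := X) hn hX B hij hkl ht
    refine ⟨η, hη, fun u hu => ?_⟩
    have hr : IsRoot (half B k) (half B l) := isRoot_half B hkl
    have hf : wX X c d u = wX X (half B k) (half B l) (-u) := by
      have := wX_flip hX hr u
      have e1 : ng (half B l) = c := by rw [hl, ng_ng]
      have e2 : ng (half B k) = d := by rw [hk, ng_ng]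
      rw [e1, e2] at this
      exact this
    rw [hf, h (-u) (neg_ne_zero.mpr hu), hk, hl, sw_ng, sw_ng]
    have hr' : IsRoot (sw (half B i) (half B j) c) (sw (half B i) (half B j) d) := isRoot_sw hcd
    rw [wX_flip hX hr', mul_neg, neg_neg]

end Cfsg.Agent.S2096P
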