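import Mathlib
import Cfsg.Agent.Helper10.S2548Defs
import Cfsg.Agent.Helper10.MatBNC
import Cfsg.Agent.Helper23.S2546MONALG
import Cfsg.Agent.Helper23.S2546HAL
import Cfsg.Agent.Helper18.S2548TRIMID
import Cfsg.Agent.Helper19.S2548WMON
import Cfsg.Agent.Helper10.S2548PRES
import Cfsg.Agent.Helper17.S2548SUPP

set_option autoImplicit false
open scoped Matrix

/-!
# S2548 piece HAD (driver helper10): the axiom `ha` for the `D`-node `(m - 2, m)`
-/

namespace Cfsg.Agent.S2548P

open Cfsg.Agent.MatBN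
open Cfsg.Agent.S2546P (E)

variable {K : Type*} [Field K] {n : ℕ}

namespace HAD

/-- the values of the permutation `(m-2 m)(m-1 m+1)` -/
theorem tauD_val (hn : n % 2 = 0) (hn4 : 4 ≤ n) (a : Fin n) :
    (tauIK n (n / 2 - 2) (n / 2) a).val =
      if a.val = n / 2 - 2 then n / 2 else if a.val = n / 2 then n / 2 - 2
      else if a.val = n / 2 - 1 then n / 2 + 1 else if a.val = n / 2 + 1 then n / 2 - 1
      else a.val := by
  have h1 : n / 2 - 2 < n ∧ n / 2 < n := ⟨by omega, by omega⟩
  unfold tauIK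
  rw [dif_pos h1, Equiv.Perm.mul_apply, Equiv.swap_apply_def, Equiv.swap_apply_def]
  simp only [Fin.ext_iff]
  split_ifs <;> (try simp only at *) <;> (try omega)

/-- the inversions of `(m-2 m)(m-1 m+1)` -/
theorem inversions (hn : n % 2 = 0) (hn4 : 4 ≤ n) (a c : Fin n) (hac : a < c)
    (h : tauIK n (n / 2 - 2) (n / 2) c < tauIK n (n / 2 - 2) (n / 2) a) :
    (a.val = n / 2 - 2 ∧ c.val = n / 2) ∨ (a.val = n / 2 - 2 ∧ c.val = n / 2 + 1) ∨
      (a.val = n / 2 - 1 ∧ c.val = n / 2) ∨ (a.val = n / 2 - 1 ∧ c.val = n / 2 + 1) := by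
  rw [Fin.lt_def] at hac h
  rw [tauD_val hn hn4, tauD_val hn hn4] at h
  split_ifs at h <;> omega

theorem mat_mul_inv (g : OJ K n) : mat n g * mat n g⁻¹ = 1 := by
  rw [← map_mul, mul_inv_cancel, map_one]

end HAD

open HAD

namespace HAD

theorem ha_dnode (hn : n % 2 = 0) (hn4 : 4 ≤ n) (b : OJ K n) (hb : IsTri (mat n b)) :
    ∃ t : K, ∀ s x : OJ K n, mat n s = wM n (n / 2 - 2) (n / 2) →
      mat n x = xR n (n / 2 - 2) (n / 2) t → IsTri (mat n (s * (b * x⁻¹) * s⁻¹)) := by
  have g0 : n / 2 - 2 < n := by omega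
  have g1 : n / 2 - 1 < n := by omega
  have g2 : n / 2 < n := by omega
  have g3 : n / 2 + 1 < n := by omega
  have e1 : n - 1 - n / 2 = n / 2 - 1 := by omega
  have e2 : n - 1 - (n / 2 - 2) = n / 2 + 1 := by omega
  set i0 : Fin n := ⟨n / 2 - 2, g0⟩ with hi0
  set i1 : Fin n := ⟨n / 2 - 1, g1⟩ with hi1
  set i2 : Fin n := ⟨n / 2, g2⟩ with hi2
  set i3 : Fin n := ⟨n / 2 + 1, g3⟩ with hi3
  have hrt : IsRt n (n / 2 - 2) (n / 2) := ⟨g0, g2, by omega, by omega⟩
  set B := mat n b with hB
  have hp0 : B i0 i0 ≠ 0 := left_ne_zero_of_mul_eq_one (TRIMID.tri_diag hn b hb i0)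
  refine ⟨B i0 i2 / B i0 i0, ?_⟩
  intro s x hs hx
  set t : K := B i0 i2 / B i0 i0 with ht
  -- `C = B * X⁻¹` is an upper triangular isometry
  set c : OJ K n := b * x⁻¹ with hc
  set C := mat n c with hC
  have hXtri : IsTri (mat n x) := by
    rw [hx]
    exact (SUPP.isUni_xR hn hrt (by omega) t).1
  have hCtri : IsTri C := by
    rw [hC, hc, map_mul]
    exact IsTri.mul hb (IsTri.of_mul_eq_one hXtri (mat_mul_inv x))
  have hCX : C * xR n (n / 2 - 2) (n / 2) t = B := by
    rw [hC, hc, ← hx, ← map_mul, inv_mul_cancel_right]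
  have hP : PresQ n C := PRES.presQ_of_mem hn c
  have hentry : ∀ a d : Fin n, B a d = C a d + (if (d : ℕ) = n / 2 then t * C a i0 else 0) -
      (if (d : ℕ) = n / 2 + 1 then t * C a i1 else 0) := by
    intro a d
    rw [← hCX]
    unfold xR
    rw [e1, e2, mul_sub, mul_add, mul_one, Matrix.mul_smul, Matrix.mul_smul, Matrix.sub_apply,
      Matrix.add_apply, Matrix.smul_apply, Matrix.smul_apply,
      Cfsg.Agent.S2546P.HAL.mul_E_apply C (n / 2 - 2) (n / 2) g0 g2,
      Cfsg.Agent.S2546P.HAL.mul_E_apply C (n / 2 - 1) (n / 2 + 1) g1 g3]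
    simp only [smul_eq_mul, mul_ite, mul_zero]
    rfl
  -- the four entries at the inversions vanish
  have hC02 : C i0 i2 = 0 := by
    have h1 := hentry i0 i0
    have h2 := hentry i0 i2
    rw [if_neg (by simp [hi0]; omega), if_neg (by simp [hi0]; omega), add_zero, sub_zero] at h1
    rw [if_pos (by simp [hi2]), if_neg (by simp [hi2]), sub_zero] at h2
    have h3 : t * B i0 i0 = B i0 i2 := by rw [ht, div_mul_cancel₀ _ hp0]
    rw [h1] at h3
    rw [← h3] at h2
    linear_combination -h2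
  have hC12 : C i1 i2 = 0 := TRIMID.tri_mid hn c hCtri i1 i2 (by simp [hi1]; omega) (by simp [hi2])
  have hd2 : C i2 i2 ≠ 0 := left_ne_zero_of_mul_eq_one (TRIMID.tri_diag hn c hCtri i2)
  have hd3 : C i3 i3 ≠ 0 := left_ne_zero_of_mul_eq_one (TRIMID.tri_diag hn c hCtri i3)
  have hrev2 : i2.rev = i1 := by
    apply Fin.ext
    rw [Fin.val_rev]
    simp only [hi2, hi1]
    omega
  have hrev0 : i0.rev = i3 := by
    apply Fin.ext
    rw [Fin.val_rev]
    simp only [hi0, hi3]
    omega
  have hC13 : C i1 i3 = 0 := by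
    have h1 := hP.2 i2 i3 (by intro h; have := congrArg Fin.val h; simp [hi2, hi3] at this)
    rw [if_neg (by rw [hrev2]; intro h; have := congrArg Fin.val h; simp [hi1, hi3] at this; omega)] at h1
    rw [Finset.sum_eq_single i2] at h1
    · rw [hrev2] at h1
      exact (mul_eq_zero.mp h1).resolve_left hd2
    · intro i _ hi
      have hiv : i.val ≠ n / 2 := fun h => hi (Fin.ext h)
      rcases lt_trichotomy i.val (n / 2 - 2) with h | h | h
      · have : C i.rev i3 = 0 := by
          apply hCtri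
          rw [Fin.lt_def, Fin.val_rev]
          simp only [hi3]
          omega
        rw [this, mul_zero]
      · have : i = i0 := Fin.ext h
        rw [this, hC02, zero_mul]
      · by_cases h' : i.val = n / 2 - 1
        · have : i = i1 := Fin.ext h'
          rw [this, hC12, zero_mul]
        · have : C i i2 = 0 := by
            apply hCtri
            rw [Fin.lt_def]
            simp only [hi2]
            omega
          rw [this, zero_mul]
    · intro h
      exact absurd (Finset.mem_univ i2) h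
  have hC03 : C i0 i3 = 0 := by
    have h1 := hP.1 i3
    rw [QJ_apply, Finset.sum_eq_single i0] at h1
    · rw [if_pos (by simp [hi0]; omega), hrev0] at h1
      exact (mul_eq_zero.mp h1).resolve_right hd3
    · intro i _ hi
      have hiv : i.val ≠ n / 2 - 2 := fun h => hi (Fin.ext h)
      by_cases hlt : i.val < n / 2
      · rw [if_pos hlt]
        by_cases h' : i.val = n / 2 - 1
        · have : i = i1 := Fin.ext h'
          rw [this, hC13, zero_mul]
        · have : C i.rev i3 = 0 := by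
            apply hCtri
            rw [Fin.lt_def, Fin.val_rev]
            simp only [hi3]
            omega
          rw [this, mul_zero]
      · rw [if_neg hlt]
    · intro h
      exact absurd (Finset.mem_univ i0) h
  -- conjugation by the monomial matrix
  have hMon : Mon (mat n s) (tauIK n (n / 2 - 2) (n / 2)) := by
    rw [hs]
    exact WMON.mon_wM hn hrt
  rw [map_mul, map_mul]
  intro a d hda
  by_contra h0
  have h5 := (Mon.conj_apply_ne_zero_iff (A := mat n (b * x⁻¹)) hMon (mat_mul_inv s) a d).mp h0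
  apply h5
  set τ := tauIK n (n / 2 - 2) (n / 2) with hτ
  rcases lt_trichotomy (τ⁻¹ a) (τ⁻¹ d) with hlt | heq | hgt
  · have hinv : τ (τ⁻¹ d) < τ (τ⁻¹ a) := by
      rw [MONALG.apply_inv_self', MONALG.apply_inv_self']
      exact hda
    rcases inversions hn hn4 _ _ hlt hinv with ⟨ha, hd⟩ | ⟨ha, hd⟩ | ⟨ha, hd⟩ | ⟨ha, hd⟩
    · have e1 : τ⁻¹ a = i0 := Fin.ext ha
      have e2 : τ⁻¹ d = i2 := Fin.ext hd
      rw [e1, e2]
      exact hC02
    · have e1 : τ⁻¹ a = i0 := Fin.ext ha
      have e2 : τ⁻¹ d = i3 := Fin.ext hd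
      rw [e1, e2]
      exact hC03
    · have e1 : τ⁻¹ a = i1 := Fin.ext ha
      have e2 : τ⁻¹ d = i2 := Fin.ext hd
      rw [e1, e2]
      exact hC12
    · have e1 : τ⁻¹ a = i1 := Fin.ext ha
      have e2 : τ⁻¹ d = i3 := Fin.ext hd
      rw [e1, e2]
      exact hC13
  · exact absurd (τ⁻¹.injective heq) (ne_of_gt hda)
  · exact hCtri _ _ hgt

end HAD

end Cfsg.Agent.S2548P
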