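import Mathlib
import Cfsg.Agent.Helper29.TV2Basic

/-! Board `tv2pieces`, row STAB3: core (PMIN_normal_two_group, DE_normal, USPAN_U_inv as hypotheses). -/

set_option autoImplicit false

namespace Cfsg.Agent.TV2

variable {P : Type*} [Group P] [Finite P] {W : Type*} [AddCommGroup W] [Module (ZMod 2) W] [Finite W] [DistribMulAction P W]

/-- STAB3 core. -/
theorem STAB3_aux_core (C : Ctx P W)
    (hPMIN : ∀ N : Subgroup P, N.Normal → (∀ g ∈ N, g ^ 4 = 1) → N = ⊥)
    (hEn : C.E.Normal)
    (hUinv : ∀ (g : P) {u : W}, u ∈ C.U → g • u ∈ C.U)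
    {g : P} (h1 : ∀ w : W, g • w - w ∈ C.U) (h2 : ∀ u ∈ C.U, g • u - u ∈ C.U ⊓ fixS W C.E)
    (h3 : ∀ r ∈ C.U ⊓ fixS W C.E, g • r = r) : g = 1 := by
  classical
  set R : AddSubgroup W := C.U ⊓ fixS W C.E with hR
  -- R is P-invariant
  have hRinv : ∀ (k : P) {r : W}, r ∈ R → k • r ∈ R := by
    intro k r hr
    refine ⟨hUinv k hr.1, ?_⟩
    intro e he
    have h4 : k⁻¹ * e * k ∈ C.E := by
      have := hEn.conj_mem e he k⁻¹
      simpa using this
    have h5 : (k⁻¹ * e * k) • r = r := hr.2 _ h4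
    calc e • k • r = k • ((k⁻¹ * e * k) • r) := by
          rw [← mul_smul, ← mul_smul]
          congr 1
          group
      _ = k • r := by rw [h5]
  let N : Subgroup P :=
    { carrier := {g | (∀ w : W, g • w - w ∈ C.U) ∧ (∀ u ∈ C.U, g • u - u ∈ R) ∧ ∀ r ∈ R, g • r = r}
      one_mem' := by
        refine ⟨fun w => ?_, fun u _ => ?_, fun r _ => one_smul _ r⟩
        · rw [one_smul, sub_self]; exact C.U.zero_mem
        · rw [one_smul, sub_self]; exact R.zero_mem
      mul_mem' := by
        rintro x y ⟨hx1, hx2, hx3⟩ ⟨hy1, hy2, hy3⟩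
        refine ⟨fun w => ?_, fun u hu => ?_, fun r hr => ?_⟩
        · have : (x * y) • w - w = (x • (y • w) - y • w) + (y • w - w) := by
            rw [mul_smul]; abel
          rw [this]
          exact C.U.add_mem (hx1 _) (hy1 _)
        · have : (x * y) • u - u = (x • (y • u) - y • u) + (y • u - u) := by
            rw [mul_smul]; abel
          rw [this]
          exact R.add_mem (hx2 _ (hUinv y hu)) (hy2 _ hu)
        · rw [mul_smul, hy3 r hr, hx3 r hr]
      inv_mem' := by
        rintro x ⟨hx1, hx2, hx3⟩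
        refine ⟨fun w => ?_, fun u hu => ?_, fun r hr => ?_⟩
        · have : x⁻¹ • w - w = -(x • (x⁻¹ • w) - x⁻¹ • w) := by
            rw [smul_inv_smul]; abel
          rw [this]
          exact C.U.neg_mem (hx1 _)
        · have : x⁻¹ • u - u = -(x • (x⁻¹ • u) - x⁻¹ • u) := by
            rw [smul_inv_smul]; abel
          rw [this]
          exact R.neg_mem (hx2 _ (hUinv x⁻¹ hu))
        · have := hx3 r hr
          rw [inv_smul_eq_iff]
          exact this.symm }
  have hNn : N.Normal := by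
    constructor
    rintro x ⟨hx1, hx2, hx3⟩ k
    refine ⟨fun w => ?_, fun u hu => ?_, fun r hr => ?_⟩
    · have : (k * x * k⁻¹) • w - w = k • (x • (k⁻¹ • w) - k⁻¹ • w) := by
        rw [smul_sub, smul_inv_smul, mul_smul, mul_smul]
      rw [this]
      exact hUinv k (hx1 _)
    · have : (k * x * k⁻¹) • u - u = k • (x • (k⁻¹ • u) - k⁻¹ • u) := by
        rw [smul_sub, smul_inv_smul, mul_smul, mul_smul]
      rw [this]
      exact hRinv k (hx2 _ (hUinv k⁻¹ hu))
    · rw [mul_smul, mul_smul, hx3 _ (hRinv k⁻¹ hr), smul_inv_smul]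
  have h4 : ∀ x ∈ N, x ^ 4 = 1 := by
    rintro x ⟨hx1, hx2, hx3⟩
    apply C.faith
    intro w
    -- x • x • v = v + r(v), r(v) ∈ R
    have hsq : ∀ v : W, ∃ r ∈ R, x • x • v = v + r := by
      intro v
      refine ⟨x • (x • v - v) - (x • v - v), hx2 _ (hx1 v), ?_⟩
      have e1 : x • v = v + (x • v - v) := by abel
      have e2 : x • x • v = x • v + x • (x • v - v) := by
        conv_lhs => rw [e1, smul_add]
      rw [e2]
      have e3 : (x • v - v) + (x • v - v) = 0 := add_self_W _
      have e4 : x • v + x • (x • v - v) = v + (x • (x • v - v) - (x • v - v)) + ((x • v - v) + (x • v - v)) := by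
        abel
      rw [e4, e3, add_zero]
    obtain ⟨r, hr, hrw⟩ := hsq w
    have hxr : x • x • r = r := by rw [hx3 r hr, hx3 r hr]
    have e5 : x ^ 4 • w = x • x • x • x • w := by
      rw [show (4 : ℕ) = 1 + 1 + 1 + 1 from rfl, pow_add, pow_add, pow_add, pow_one, mul_smul, mul_smul, mul_smul]
    rw [e5, hrw, smul_add, smul_add, hxr, hrw, add_assoc, add_self_W, add_zero]
  have hbot := hPMIN N hNn h4
  have hgN : g ∈ N := ⟨h1, h2, h3⟩
  rw [hbot, Subgroup.mem_bot] at hgN
  exact hgN

end Cfsg.Agent.TV2
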