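import Mathlib
import Cfsg.Agent.Helper25.TV2_STAB3core
import Cfsg.Agent.Helper24.TV2_PMIN
import Cfsg.Agent.Helper24.TV2_DE
import Cfsg.Agent.Helper18.TV2_USPANa

/-! Board `tv2pieces`, row STAB3: the stub-named theorem (wrapper around `STAB3_aux_core`). -/

set_option autoImplicit false

namespace Cfsg.Agent.TV2

variable {P : Type*} [Group P] [Finite P] {W : Type*} [AddCommGroup W] [Module (ZMod 2) W] [Finite W] [DistribMulAction P W]

theorem STAB3 (C : Ctx P W) {g : P} (h1 : ∀ w : W, g • w - w ∈ C.U) (h2 : ∀ u ∈ C.U, g • u - u ∈ C.U ⊓ fixS W C.E)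
    (h3 : ∀ r ∈ C.U ⊓ fixS W C.E, g • r = r) : g = 1 :=
  STAB3_aux_core C (PMIN_normal_two_group C) (DE_normal C) (fun g {_} hu => USPAN_U_inv C g hu) h1 h2 h3

end Cfsg.Agent.TV2
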