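import Mathlib

/-! S3805 piece NORM3 (driver helper10): an integer vector with sum of squares 3 is supported on
exactly three coordinates with entries `±1`. -/

set_option autoImplicit false

namespace Cfsg.Agent.S3805P

variable {I : Type*} [Fintype I] [DecidableEq I]

/-- **NORM3.** -/
theorem norm_three_support (m : I → ℤ) (h : ∑ χ, m χ * m χ = 3) :
    ∃ x y z : I, x ≠ y ∧ x ≠ z ∧ y ≠ z ∧ (m x = 1 ∨ m x = -1) ∧ (m y = 1 ∨ m y = -1) ∧
      (m z = 1 ∨ m z = -1) ∧ ∀ w, w ≠ x → w ≠ y → w ≠ z → m w = 0 := by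
  classical
  have hle : ∀ χ, m χ * m χ ≤ 3 := by
    intro χ
    rw [← h]
    exact Finset.single_le_sum (f := fun χ => m χ * m χ) (fun i _ => mul_self_nonneg (m i))
      (Finset.mem_univ χ)
  have hval : ∀ χ, m χ = 0 ∨ m χ = 1 ∨ m χ = -1 := by
    intro χ
    have h1 := hle χ
    have h2 : m χ ≤ 1 := by nlinarith
    have h3 : -1 ≤ m χ := by nlinarith
    omega
  have hsq : ∀ χ, m χ * m χ = if m χ ≠ 0 then 1 else 0 := by
    intro χ
    rcases hval χ with h0 | h0 | h0 <;> simp [h0]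
  have hcard : (Finset.univ.filter (fun χ => m χ ≠ 0)).card = 3 := by
    have : ∑ χ, m χ * m χ = ((Finset.univ.filter (fun χ => m χ ≠ 0)).card : ℤ) := by
      rw [Finset.sum_congr rfl (fun χ _ => hsq χ)]
      rw [Finset.sum_ite]
      simp
    rw [h] at this
    exact_mod_cast this.symm
  obtain ⟨x, y, z, hxy, hxz, hyz, hS⟩ := Finset.card_eq_three.mp hcard
  have hmem : ∀ w, m w ≠ 0 ↔ (w = x ∨ w = y ∨ w = z) := by
    intro w
    have := Finset.ext_iff.mp hS w
    simpa using this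
  have hpm : ∀ w, m w ≠ 0 → (m w = 1 ∨ m w = -1) := by
    intro w hw
    rcases hval w with h0 | h0
    · exact absurd h0 hw
    · exact h0
  refine ⟨x, y, z, hxy, hxz, hyz, hpm x ((hmem x).mpr (Or.inl rfl)),
    hpm y ((hmem y).mpr (Or.inr (Or.inl rfl))), hpm z ((hmem z).mpr (Or.inr (Or.inr rfl))), ?_⟩
  intro w hwx hwy hwz
  by_contra hw
  rcases (hmem w).mp hw with h1 | h1 | h1
  · exact hwx h1
  · exact hwy h1
  · exact hwz h1

end Cfsg.Agent.S3805P
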