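import Mathlib
import Cfsg.Agent.Helper25.S3805NORM3

/-! S3805 piece FUSEDA0 (driver helper10), plus two reusable helpers on norm-3 integer vectors. -/

set_option autoImplicit false

namespace Cfsg.Agent.S3805P

variable {I : Type*} [Fintype I] [DecidableEq I]

/-- A function vanishing off three distinct points sums to its three values. -/
theorem H25_sum_three {M : Type*} [AddCommMonoid M] (g : I → M) (a b c : I) (hab : a ≠ b)
    (hac : a ≠ c) (hbc : b ≠ c) (h0 : ∀ w, w ≠ a → w ≠ b → w ≠ c → g w = 0) :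
    ∑ χ, g χ = g a + g b + g c := by
  classical
  rw [← Finset.sum_subset (Finset.subset_univ ({a, b, c} : Finset I))]
  · rw [Finset.sum_insert (by simp [hab, hac]), Finset.sum_insert (by simp [hbc]),
      Finset.sum_singleton, add_assoc]
  · intro w _ hw
    simp only [Finset.mem_insert, Finset.mem_singleton, not_or] at hw
    exact h0 w hw.1 hw.2.1 hw.2.2

/-- Norm-3 vector with two known support points: the third one. -/
theorem H25_third (m : I → ℤ) (h : ∑ χ, m χ * m χ = 3) (a b : I) (hab : a ≠ b) (ha : m a ≠ 0)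
    (hb : m b ≠ 0) :
    ∃ c, c ≠ a ∧ c ≠ b ∧ (m c = 1 ∨ m c = -1) ∧ ∀ w, w ≠ a → w ≠ b → w ≠ c → m w = 0 := by
  classical
  obtain ⟨x, y, z, hxy, hxz, hyz, hx, hy, hz, h0⟩ := norm_three_support m h
  have hmem : ∀ w, m w ≠ 0 → (w = x ∨ w = y ∨ w = z) := by
    intro w hw
    by_contra hcon
    simp only [not_or] at hcon
    exact hw (h0 w hcon.1 hcon.2.1 hcon.2.2)
  rcases hmem a ha with rfl | rfl | rfl <;> rcases hmem b hb with rfl | rfl | rfl
  · exact absurd rfl hab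
  · exact ⟨z, hxz.symm, hyz.symm, hz, fun w h1 h2 h3 => h0 w h1 h2 h3⟩
  · exact ⟨y, hxy.symm, hyz, hy, fun w h1 h2 h3 => h0 w h1 h3 h2⟩
  · exact ⟨z, hyz.symm, hxz.symm, hz, fun w h1 h2 h3 => h0 w h2 h1 h3⟩
  · exact absurd rfl hab
  · exact ⟨x, hxy, hxz, hx, fun w h1 h2 h3 => h0 w h3 h1 h2⟩
  · exact ⟨y, hyz, hxy.symm, hy, fun w h1 h2 h3 => h0 w h2 h3 h1⟩
  · exact ⟨x, hxz, hxy, hx, fun w h1 h2 h3 => h0 w h3 h2 h1⟩
  · exact absurd rfl hab

/-- **FUSEDA0.** -/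
theorem fused_A0 (one : I) (Λ : I → I) (d : I → ℕ) (v : I → ℤ) (m : I → ℤ) (κ : ℚ)
    (hvΛ : ∀ χ, v (Λ χ) = - v χ) (hdΛ : ∀ χ, d (Λ χ) = d χ)
    (hd : ∀ χ, 0 < d χ) (hd1 : d one = 1) (hv1 : v one = 1)
    (hn : ∑ χ, m χ * m χ = 3) (hone : m one = 1) (hlam : m (Λ one) = 1)
    (hdeg : ∑ χ, m χ * (d χ : ℤ) = 0) (hval : ∑ χ, m χ * v χ = 0)
    (hpsi : ∑ χ, (m χ : ℚ) * (v χ : ℚ) ^ 2 / (d χ : ℚ) = 8 * κ) : κ = 1 / 4 := by
  classical
  have hne : one ≠ Λ one := by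
    intro hcon
    have := hvΛ one
    rw [← hcon, hv1] at this
    omega
  obtain ⟨c, hca, hcb, hc, h0⟩ := H25_third m hn one (Λ one) hne (by rw [hone]; norm_num)
    (by rw [hlam]; norm_num)
  have hvL : v (Λ one) = -1 := by rw [hvΛ, hv1]
  have hdL : d (Λ one) = 1 := by rw [hdΛ, hd1]
  have e1 := H25_sum_three (fun χ => m χ * (d χ : ℤ)) one (Λ one) c hne hca.symm hcb.symm
    (fun w h1 h2 h3 => by simp [h0 w h1 h2 h3])
  have e2 := H25_sum_three (fun χ => m χ * v χ) one (Λ one) c hne hca.symm hcb.symm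
    (fun w h1 h2 h3 => by simp [h0 w h1 h2 h3])
  have e3 := H25_sum_three (fun χ => (m χ : ℚ) * (v χ : ℚ) ^ 2 / (d χ : ℚ)) one (Λ one) c hne
    hca.symm hcb.symm (fun w h1 h2 h3 => by simp [h0 w h1 h2 h3])
  rw [hdeg] at e1
  rw [hval] at e2
  rw [hpsi] at e3
  simp only [hone, hlam, hd1, hdL, hv1, hvL] at e1 e2 e3
  have hdc := hd c
  rcases hc with hc | hc
  · rw [hc] at e1
    omega
  · rw [hc] at e1 e2 e3
    have hvc : v c = 0 := by omega
    rw [hvc] at e3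
    norm_num at e3
    linarith

end Cfsg.Agent.S3805P
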