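import Mathlib
import Cfsg.Agent.Helper25.S3805FUSEDA0

/-! S3805 piece FUSEDA1 (driver helper10). -/

set_option autoImplicit false

namespace Cfsg.Agent.S3805P

variable {I : Type*} [Fintype I] [DecidableEq I]

/-- Entries of a norm-3 integer vector are `0, ±1`. -/
theorem H25_pm (m : I → ℤ) (h : ∑ χ, m χ * m χ = 3) (w : I) (hw : m w ≠ 0) :
    m w = 1 ∨ m w = -1 := by
  classical
  obtain ⟨x, y, z, -, -, -, hx, hy, hz, h0⟩ := norm_three_support m h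
  by_cases h1 : w = x
  · rw [h1]; exact hx
  by_cases h2 : w = y
  · rw [h2]; exact hy
  by_cases h3 : w = z
  · rw [h3]; exact hz
  exact absurd (h0 w h1 h2 h3) hw

/-- **FUSEDA1.** -/
theorem fused_A1 (Λ : I → I) (d : I → ℕ) (v : I → ℤ) (m : I → ℤ)
    (hΛΛ : ∀ χ, Λ (Λ χ) = χ) (hvΛ : ∀ χ, v (Λ χ) = - v χ) (hdΛ : ∀ χ, d (Λ χ) = d χ)
    (hd : ∀ χ, 0 < d χ)
    (hn : ∑ χ, m χ * m χ = 3) (hmΛ : ∀ χ, m (Λ χ) = m χ)
    (hdeg : ∑ χ, m χ * (d χ : ℤ) = 0)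
    (hpsi : ∑ χ, (m χ : ℚ) * (v χ : ℚ) ^ 2 / (d χ : ℚ) = 1 / 2) :
    ∃ χ₁ χ₂ : I, Λ χ₁ = χ₁ ∧ Λ χ₂ ≠ χ₂ ∧ χ₁ ≠ χ₂ ∧ χ₁ ≠ Λ χ₂ ∧ m χ₁ = -1 ∧ m χ₂ = 1 ∧
      m (Λ χ₂) = 1 ∧ (∀ w, w ≠ χ₁ → w ≠ χ₂ → w ≠ Λ χ₂ → m w = 0) ∧
      (d χ₂ : ℤ) = 4 * v χ₂ ^ 2 := by
  classical
  have hvfix : ∀ w, Λ w = w → v w = 0 := by
    intro w hw
    have := hvΛ w
    rw [hw] at this
    omega
  by_cases hfix : ∀ w, m w ≠ 0 → Λ w = w
  · exfalso
    have : ∑ χ, (m χ : ℚ) * (v χ : ℚ) ^ 2 / (d χ : ℚ) = 0 := by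
      apply Finset.sum_eq_zero
      intro χ _
      by_cases hχ : m χ = 0
      · simp [hχ]
      · simp [hvfix χ (hfix χ hχ)]
    rw [this] at hpsi
    norm_num at hpsi
  · push Not at hfix
    obtain ⟨a, ha, hab⟩ := hfix
    have hb : m (Λ a) ≠ 0 := by rw [hmΛ]; exact ha
    obtain ⟨c, hca, hcb, hc, h0⟩ := H25_third m hn a (Λ a) (Ne.symm hab) ha hb
    have hcne : m c ≠ 0 := by rcases hc with hc | hc <;> rw [hc] <;> norm_num
    have hΛc : Λ c = c := by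
      have h1 : m (Λ c) ≠ 0 := by rw [hmΛ]; exact hcne
      by_contra hcon
      have h2 : Λ c ≠ a := by
        intro h3
        apply hcb
        rw [← h3, hΛΛ]
      have h3 : Λ c ≠ Λ a := by
        intro h4
        apply hca
        have := congrArg Λ h4
        rwa [hΛΛ, hΛΛ] at this
      exact h1 (h0 _ h2 h3 hcon)
    have hvc : v c = 0 := hvfix c hΛc
    have e1 := H25_sum_three (fun χ => m χ * (d χ : ℤ)) a (Λ a) c (Ne.symm hab) hca.symm hcb.symm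
      (fun w h1 h2 h3 => by simp [h0 w h1 h2 h3])
    have e3 := H25_sum_three (fun χ => (m χ : ℚ) * (v χ : ℚ) ^ 2 / (d χ : ℚ)) a (Λ a) c
      (Ne.symm hab) hca.symm hcb.symm (fun w h1 h2 h3 => by simp [h0 w h1 h2 h3])
    rw [hdeg] at e1
    rw [hpsi] at e3
    simp only [hmΛ, hdΛ, hvΛ, hvc] at e1 e3
    have hda : (0 : ℚ) < (d a : ℚ) := by exact_mod_cast hd a
    have hdc : 0 < d c := hd c
    have hda' : 0 < d a := hd a
    have hq : (0 : ℚ) ≤ (v a : ℚ) ^ 2 / (d a : ℚ) := by positivity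
    have e3' : (1 : ℚ) / 2 = 2 * ((m a : ℚ) * ((v a : ℚ) ^ 2 / (d a : ℚ))) := by
      rw [e3]
      push_cast
      ring
    rcases H25_pm m hn a ha with hma | hma
    · -- `m a = 1`
      rw [hma] at e1 e3'
      have hmc : m c = -1 := by
        rcases hc with hc | hc
        · rw [hc] at e1
          omega
        · exact hc
      refine ⟨c, a, hΛc, hab, hca, hcb, hmc, hma, by rw [hmΛ]; exact hma,
        fun w h1 h2 h3 => h0 w h2 h3 h1, ?_⟩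
      have : (d a : ℚ) = 4 * (v a : ℚ) ^ 2 := by
        push_cast at e3'
        field_simp at e3'
        linarith
      exact_mod_cast this
    · exfalso
      rw [hma] at e3'
      push_cast at e3'
      linarith

end Cfsg.Agent.S3805P
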