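import Mathlib
import Cfsg.Agent.Helper25.S3805FUSEDA1

/-! S3805 piece FUSEDB0 (driver helper10). -/

set_option autoImplicit false

namespace Cfsg.Agent.S3805P

variable {I : Type*} [Fintype I] [DecidableEq I]

/-- Norm-3 vector with one known support point: the other two. -/
theorem H25_two (m : I → ℤ) (h : ∑ χ, m χ * m χ = 3) (a : I) (ha : m a ≠ 0) :
    ∃ b c, b ≠ a ∧ c ≠ a ∧ b ≠ c ∧ (m b = 1 ∨ m b = -1) ∧ (m c = 1 ∨ m c = -1) ∧
      ∀ w, w ≠ a → w ≠ b → w ≠ c → m w = 0 := by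
  classical
  obtain ⟨x, y, z, hxy, hxz, hyz, hx, hy, hz, h0⟩ := norm_three_support m h
  have hmem : a = x ∨ a = y ∨ a = z := by
    by_contra hcon
    simp only [not_or] at hcon
    exact ha (h0 a hcon.1 hcon.2.1 hcon.2.2)
  rcases hmem with rfl | rfl | rfl
  · exact ⟨y, z, hxy.symm, hxz.symm, hyz, hy, hz, fun w h1 h2 h3 => h0 w h1 h2 h3⟩
  · exact ⟨x, z, hxy, hyz.symm, hxz, hx, hz, fun w h1 h2 h3 => h0 w h2 h1 h3⟩
  · exact ⟨x, y, hxz, hyz, hxy, hx, hy, fun w h1 h2 h3 => h0 w h2 h3 h1⟩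

/-- **FUSEDB0.** -/
theorem fused_B0 (one : I) (Λ : I → I) (d : I → ℕ) (v : I → ℤ) (m : I → ℤ)
    (hΛΛ : ∀ χ, Λ (Λ χ) = χ) (hvΛ : ∀ χ, v (Λ χ) = - v χ) (hdΛ : ∀ χ, d (Λ χ) = d χ)
    (hd : ∀ χ, 0 < d χ) (hd1 : d one = 1) (hv1 : v one = 1)
    (hn : ∑ χ, m χ * m χ = 3) (hone : m one = 1)
    (hdeg : ∑ χ, m χ * (d χ : ℤ) = 0) (hval : ∑ χ, m χ * v χ = 0)
    (hΛ : ∑ χ, m χ * m (Λ χ) = 0)
    (hpsi : ∑ χ, (m χ : ℚ) * (v χ : ℚ) ^ 2 / (d χ : ℚ) = 9 / 8) :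
    ∃ c₂ c₃ : I, c₂ ≠ one ∧ c₃ ≠ one ∧ c₂ ≠ c₃ ∧ m c₂ = 1 ∧ m c₃ = -1 ∧
      (∀ w, w ≠ one → w ≠ c₂ → w ≠ c₃ → m w = 0) ∧ Λ c₂ ≠ c₂ ∧ Λ c₃ ≠ c₃ ∧
      8 * ((d c₂ : ℤ) - v c₂) ^ 2 = 9 * (d c₂ : ℤ) * (1 + (d c₂ : ℤ)) := by
  classical
  have key : ∀ c₂ c₃ : I, c₂ ≠ one → c₃ ≠ one → c₂ ≠ c₃ → m c₂ = 1 → m c₃ = -1 →
      (∀ w, w ≠ one → w ≠ c₂ → w ≠ c₃ → m w = 0) →
      Λ c₂ ≠ c₂ ∧ Λ c₃ ≠ c₃ ∧
      8 * ((d c₂ : ℤ) - v c₂) ^ 2 = 9 * (d c₂ : ℤ) * (1 + (d c₂ : ℤ)) := by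
    intro c₂ c₃ h2 h3 h23 hm2 hm3 h0
    have e1 := H25_sum_three (fun χ => m χ * (d χ : ℤ)) one c₂ c₃ h2.symm h3.symm h23
      (fun w h1 h2 h3 => by simp [h0 w h1 h2 h3])
    have e2 := H25_sum_three (fun χ => m χ * v χ) one c₂ c₃ h2.symm h3.symm h23
      (fun w h1 h2 h3 => by simp [h0 w h1 h2 h3])
    have e3 := H25_sum_three (fun χ => (m χ : ℚ) * (v χ : ℚ) ^ 2 / (d χ : ℚ)) one c₂ c₃ h2.symm
      h3.symm h23 (fun w h1 h2 h3 => by simp [h0 w h1 h2 h3])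
    have e4 := H25_sum_three (fun χ => m χ * m (Λ χ)) one c₂ c₃ h2.symm h3.symm h23
      (fun w h1 h2 h3 => by simp [h0 w h1 h2 h3])
    rw [hdeg] at e1
    rw [hval] at e2
    rw [hpsi] at e3
    rw [hΛ] at e4
    simp only [hone, hm2, hm3, hd1, hv1] at e1 e2 e3 e4
    push_cast at e1 e3
    have hd3 : (d c₃ : ℤ) = 1 + d c₂ := by linarith
    have hd3' : d c₃ = 1 + d c₂ := by exact_mod_cast hd3
    have hv3 : v c₃ = 1 + v c₂ := by linarith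
    have hd2pos : 0 < d c₂ := hd c₂
    -- location of a point with nonzero multiplicity
    have hloc : ∀ w, m w ≠ 0 → w = one ∨ w = c₂ ∨ w = c₃ := by
      intro w hw
      by_contra hcon
      simp only [not_or] at hcon
      exact hw (h0 w hcon.1 hcon.2.1 hcon.2.2)
    have hpmv : ∀ w, m w = 0 ∨ m w = 1 ∨ m w = -1 := by
      intro w
      by_cases hw : m w = 0
      · exact Or.inl hw
      · exact Or.inr (H25_pm m hn w hw)
    have t1 : 0 ≤ m (Λ one) := by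
      by_contra hneg
      have hm : m (Λ one) = -1 := by rcases hpmv (Λ one) with h | h | h <;> omega
      rcases hloc (Λ one) (by rw [hm]; norm_num) with h | h | h
      · rw [h, hone] at hm; omega
      · rw [h, hm2] at hm; omega
      · have := hdΛ one
        rw [h, hd1] at this
        omega
    have t2 : 0 ≤ m (Λ c₂) := by
      by_contra hneg
      have hm : m (Λ c₂) = -1 := by rcases hpmv (Λ c₂) with h | h | h <;> omega
      rcases hloc (Λ c₂) (by rw [hm]; norm_num) with h | h | h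
      · rw [h, hone] at hm; omega
      · rw [h, hm2] at hm; omega
      · have := hdΛ c₂
        rw [h] at this
        omega
    have t3 : m (Λ c₃) ≤ 0 := by
      by_contra hpos
      have hm : m (Λ c₃) = 1 := by rcases hpmv (Λ c₃) with h | h | h <;> omega
      rcases hloc (Λ c₃) (by rw [hm]; norm_num) with h | h | h
      · have := hdΛ c₃
        rw [h, hd1] at this
        omega
      · have := hdΛ c₃
        rw [h] at this
        omega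
      · rw [h, hm3] at hm; omega
    have z2 : m (Λ c₂) = 0 := by linarith
    have z3 : m (Λ c₃) = 0 := by linarith
    refine ⟨?_, ?_, ?_⟩
    · intro h
      rw [h, hm2] at z2
      omega
    · intro h
      rw [h, hm3] at z3
      omega
    · have hq : (8 : ℚ) * (((d c₂ : ℤ) : ℚ) - ((v c₂ : ℤ) : ℚ)) ^ 2 =
          9 * ((d c₂ : ℤ) : ℚ) * (1 + ((d c₂ : ℤ) : ℚ)) := by
        have hd2q : (0 : ℚ) < (d c₂ : ℚ) := by exact_mod_cast hd2pos
        have hd3q : (d c₃ : ℚ) = 1 + (d c₂ : ℚ) := by exact_mod_cast hd3'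
        have hv3q : (v c₃ : ℚ) = 1 + (v c₂ : ℚ) := by exact_mod_cast hv3
        rw [hd3q, hv3q] at e3
        push_cast at e3 ⊢
        have hne1 : (d c₂ : ℚ) ≠ 0 := ne_of_gt hd2q
        have hne2 : (1 : ℚ) + (d c₂ : ℚ) ≠ 0 := by positivity
        field_simp at e3
        linarith
      exact_mod_cast hq
  obtain ⟨b, c, hb1, hc1, hbc, hb, hc, h0⟩ := H25_two m hn one (by rw [hone]; norm_num)
  have e1 := H25_sum_three (fun χ => m χ * (d χ : ℤ)) one b c hb1.symm hc1.symm hbc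
    (fun w h1 h2 h3 => by simp [h0 w h1 h2 h3])
  rw [hdeg] at e1
  simp only [hone, hd1] at e1
  push_cast at e1
  have hdb := hd b
  have hdc := hd c
  rcases hb with hb | hb <;> rcases hc with hc | hc
  · rw [hb, hc] at e1; omega
  · obtain ⟨k1, k2, k3⟩ := key b c hb1 hc1 hbc hb hc h0
    exact ⟨b, c, hb1, hc1, hbc, hb, hc, h0, k1, k2, k3⟩
  · obtain ⟨k1, k2, k3⟩ := key c b hc1 hb1 hbc.symm hc hb (fun w h1 h2 h3 => h0 w h1 h3 h2)
    exact ⟨c, b, hc1, hb1, hbc.symm, hc, hb, fun w h1 h2 h3 => h0 w h1 h3 h2, k1, k2, k3⟩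
  · rw [hb, hc] at e1; omega

end Cfsg.Agent.S3805P
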