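import Mathlib
import Cfsg.Agent.Helper10.S3805Defs
import Cfsg.Agent.Helper10.S3805PSI
import Cfsg.Agent.Helper10.S3805SWAPFACTS
import Cfsg.Agent.Helper7.S3805COUNT2

/-! S3805 piece FUSEDPSI (driver helper10). -/

set_option autoImplicit false

namespace Cfsg.Agent.S3805P

open Cfsg Cfsg.Agent.Helper24

variable {G : Type*} [Group G] [Fintype G] [Fintype (IrrCharacter G)]

theorem H25_chiC_vals :
    chiC 0 (1 : D3) = 1 ∧ chiC 1 (1 : D3) = 1 ∧ chiC 2 (1 : D3) = 2 ∧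
    chiC 0 (DihedralGroup.r 1 : D3) = 1 ∧ chiC 1 (DihedralGroup.r 1 : D3) = 1 ∧
    chiC 2 (DihedralGroup.r 1 : D3) = -1 ∧
    chiC 0 (DihedralGroup.sr 0 : D3) = 1 ∧ chiC 1 (DihedralGroup.sr 0 : D3) = -1 ∧
    chiC 2 (DihedralGroup.sr 0 : D3) = 0 := by
  have e : ∀ (i : Fin 3) (t : D3) (z : ℤ), chiZ i t = z → chiC i t = (z : ℂ) := by
    intro i t z h
    rw [chiC, h]
  refine ⟨?_, ?_, ?_, ?_, ?_, ?_, ?_, ?_, ?_⟩
  · simpa using e 0 1 1 (by decide)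
  · simpa using e 1 1 1 (by decide)
  · simpa using e 2 1 2 (by decide)
  · simpa using e 0 (DihedralGroup.r 1) 1 (by decide)
  · simpa using e 1 (DihedralGroup.r 1) 1 (by decide)
  · simpa using e 2 (DihedralGroup.r 1) (-1) (by decide)
  · simpa using e 0 (DihedralGroup.sr 0) 1 (by decide)
  · simpa using e 1 (DihedralGroup.sr 0) (-1) (by decide)
  · simpa using e 2 (DihedralGroup.sr 0) 0 (by decide)

/-- **FUSEDPSI.** The values of `Ψ` in the fused case. -/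
theorem fused_psi (c : Cfg G) (huw : IsConj c.u c.w) (huv : ¬ IsConj c.u c.v) :
    ∃ κ : ℚ, c.PsiA 0 c.u c.u = ((8 * κ : ℚ) : ℂ) ∧ c.PsiA 1 c.u c.u = ((2 * κ : ℚ) : ℂ) ∧
      c.PsiB 0 c.u c.u = ((9 / 2 * κ : ℚ) : ℂ) := by
  classical
  obtain ⟨n1, n2, n3, n4, n5⟩ := count_fused c huw huv
  obtain ⟨v01, v11, v21, v0r, v1r, v2r, v0s, v1s, v2s⟩ := H25_chiC_vals
  obtain ⟨-, -, hsw, -⟩ := swap_facts c
  set idx : ℕ := (Subgroup.centralizer ({c.u} : Set G)).index with hidx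
  have hidx0 : (idx : ℂ) ≠ 0 := by
    have : idx ≠ 0 := Subgroup.index_ne_zero_of_finite
    exact_mod_cast this
  -- B side
  have b1 := psi_B c c.u c.u (1 : D3)
  have b2 := psi_B c c.u c.u (DihedralGroup.r 1 : D3)
  have b3 := psi_B c c.u c.u (DihedralGroup.sr 0 : D3)
  rw [n4] at b1
  rw [n2] at b2
  rw [n5] at b3
  -- A side
  have a1 := psi_B c.swap c.u c.u (1 : D3)
  have a2 := psi_B c.swap c.u c.u (DihedralGroup.r 1 : D3)
  have a3 := psi_B c.swap c.u c.u (DihedralGroup.sr 0 : D3)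
  simp only [Cfg.swap_ι, hsw] at a1 a2 a3
  rw [n1] at a1
  rw [n2] at a2
  rw [n3] at a3
  simp only [Fin.sum_univ_three, v01, v11, v21, v0r, v1r, v2r, v0s, v1s, v2s, ← hidx] at a1 a2 a3 b1 b2 b3
  have hG : (Nat.card G : ℂ) = ((Nat.card G : ℚ) : ℂ) := by push_cast; rfl
  refine ⟨(Nat.card G : ℚ) / ((idx : ℚ) * (idx : ℚ)), ?_, ?_, ?_⟩
  · push_cast
    field_simp
    push_cast at a1 a2 a3
    linear_combination (-1 / 6 : ℂ) * a1 - (1 / 3 : ℂ) * a2 - (1 / 2 : ℂ) * a3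
  · push_cast
    field_simp
    push_cast at a1 a2 a3
    linear_combination (-1 / 6 : ℂ) * a1 - (1 / 3 : ℂ) * a2 + (1 / 2 : ℂ) * a3
  · push_cast
    field_simp
    push_cast at b1 b2 b3
    linear_combination (-1 / 3 : ℂ) * b1 - (2 / 3 : ℂ) * b2 - (1 : ℂ) * b3

end Cfsg.Agent.S3805P
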