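import Mathlib
import Cfsg.Agent.Helper10.SwDefs

/-!
# S3211 piece INV: the involutions of `C(j)`
-/

set_option autoImplicit false

open Cfsg.Agent.Helper10.Sw

namespace Cfsg.Agent.Helper25.Sw

variable {G : Type*} [Group G] {L₁ L₂ : Subgroup G} {j n : G}

theorem invol (h : Cfg L₁ L₂ j n) {g : G} (hgj : g * j = j * g) (hg : g * g = 1) :
    g = 1 ∨ g = j ∨ ∃ a ∈ L₁, ∃ b ∈ L₂, a * a = j ∧ b * b = j ∧ g = a * b := by
  rcases h.cover g hgj with hM | hM
  · -- `g ∈ M`
    obtain ⟨x, hx, y, hy, hgxy⟩ := h.mem_sup.1 hM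
    have hxy : x * y = y * x := h.comm x hx y hy
    have hsq : (x * x) * (y * y) = 1 := by
      have h1 : x * y * (x * y) = (x * x) * (y * y) := by
        calc x * y * (x * y) = x * (y * x) * y := by group
          _ = x * (x * y) * y := by rw [hxy]
          _ = (x * x) * (y * y) := by group
      rw [← h1, ← hgxy]; exact hg
    have hx2 : x * x ∈ L₁ := L₁.mul_mem hx hx
    have hx2' : x * x ∈ L₂ := by
      have h1 : x * x = (y * y)⁻¹ := eq_inv_of_mul_eq_one_left hsq
      rw [h1]; exact L₂.inv_mem (L₂.mul_mem hy hy)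
    rcases h.inter _ hx2 hx2' with h1 | h1
    · -- `x² = 1`
      have hy2 : y * y = 1 := by rw [h1, one_mul] at hsq; exact hsq
      rcases h.inv₁ x hx h1 with hx1 | hx1 <;> rcases h.inv₂ y hy hy2 with hy1 | hy1
      · left; rw [hgxy, hx1, hy1, mul_one]
      · right; left; rw [hgxy, hx1, hy1, one_mul]
      · right; left; rw [hgxy, hx1, hy1, mul_one]
      · left; rw [hgxy, hx1, hy1]; exact h.j_sq
    · -- `x² = j`
      have hy2 : y * y = j := by
        rw [h1] at hsq
        have h2 : y * y = j⁻¹ := eq_inv_of_mul_eq_one_right hsq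
        rw [h2, h.j_inv]
      right; right
      exact ⟨x, hx, y, hy, h1, hy2, hgxy⟩
  · -- `g n⁻¹ ∈ M`: impossible
    exfalso
    obtain ⟨x, hx, y, hy, hgxy⟩ := h.mem_sup.1 hM
    have hg' : g = x * y * n := by
      have : g = g * n⁻¹ * n := by group
      rw [this, hgxy]
    have htx : n * x * n⁻¹ ∈ L₂ := h.swap₁ x hx
    have hty : n * y * n⁻¹ ∈ L₁ := h.swap₂ y hy
    set tx := n * x * n⁻¹ with htx_def
    set ty := n * y * n⁻¹ with hty_def
    have hu : x * ty ∈ L₁ := L₁.mul_mem hx hty
    have hv : y * tx ∈ L₂ := L₂.mul_mem hy htx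
    have hgg : g * g = (x * ty) * (y * tx) * j := by
      have h1 : g * g = x * y * tx * ty * (n * n) := by
        rw [hg', htx_def, hty_def]; group
      have h2 : (y * tx) * ty = ty * (y * tx) := (h.comm ty hty (y * tx) hv).symm
      calc g * g = x * y * tx * ty * (n * n) := h1
        _ = x * ((y * tx) * ty) * (n * n) := by group
        _ = x * (ty * (y * tx)) * (n * n) := by rw [h2]
        _ = (x * ty) * (y * tx) * j := by rw [h.n_sq]; group
    rw [hg] at hgg
    -- `u = (v j)⁻¹ ∈ L₂`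
    have hu2 : x * ty ∈ L₂ := by
      have h1 : x * ty = ((y * tx) * j)⁻¹ := by
        apply eq_inv_of_mul_eq_one_left
        rw [← mul_assoc]; exact hgg.symm
      rw [h1]; exact L₂.inv_mem (L₂.mul_mem hv h.j_mem₂)
    -- `τ(u) = tx * y`
    have htau : n * (x * ty) * n⁻¹ = tx * y := by
      have h1 : n * (x * ty) * n⁻¹ = (n * x * n⁻¹) * (n * ty * n⁻¹) := by group
      rw [h1, hty_def, h.tau_tau (h.j_comm₂ hy)]
    rcases h.inter _ hu hu2 with h1 | h1
    · rw [h1] at htau hgg
      have h2 : tx * y = 1 := by rw [← htau]; group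
      have h3 : y * tx = 1 := by
        have : tx = y⁻¹ := eq_inv_of_mul_eq_one_left h2
        rw [this, mul_inv_cancel]
      rw [h3, one_mul, one_mul] at hgg
      exact h.j_ne hgg.symm
    · rw [h1] at htau hgg
      have h2 : tx * y = j := by rw [← htau]; exact h.tau_j
      have h3 : y * tx = j := by
        have : tx = j * y⁻¹ := by rw [← h2]; group
        rw [this, ← mul_assoc, h.j_comm₂ hy, mul_assoc, mul_inv_cancel, mul_one]
      rw [h3, h.j_sq, one_mul] at hgg
      exact h.j_ne hgg.symm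

end Cfsg.Agent.Helper25.Sw
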