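import Mathlib
import Cfsg.Agent.Helper10.SwDefs

/-!
# S3211 piece UBM: at most four square roots of `a * b` in `M = L₁ ⊔ L₂`
-/

set_option autoImplicit false

open Cfsg.Agent.Helper10.Sw

namespace Cfsg.Agent.Helper25.Sw

variable {G : Type*} [Group G] {L₁ L₂ : Subgroup G} {j n : G}

/-- square of a quotient of commuting elements -/
theorem ubm_sq_div {x x₀ : G} (hc : x * x₀ = x₀ * x) :
    (x * x₀⁻¹) * (x * x₀⁻¹) = (x * x) * (x₀ * x₀)⁻¹ := by
  have h1 : x₀⁻¹ * x = x * x₀⁻¹ := by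
    have : x₀⁻¹ * (x * x₀) * x₀⁻¹ = x₀⁻¹ * (x₀ * x) * x₀⁻¹ := by rw [hc]
    simpa [mul_assoc] using this
  calc (x * x₀⁻¹) * (x * x₀⁻¹) = x * (x₀⁻¹ * x) * x₀⁻¹ := by group
    _ = x * (x * x₀⁻¹) * x₀⁻¹ := by rw [h1]
    _ = (x * x) * (x₀ * x₀)⁻¹ := by group

/-- the data attached to a square root of `a * b` in `M` -/
theorem ubm_decomp (h : Cfg L₁ L₂ j n) {a b : G} (ha : a ∈ L₁) (hb : b ∈ L₂)
    {m : G} (hm : m ∈ L₁ ⊔ L₂) (hmm : m * m = a * b) :
    ∃ x ∈ L₁, ∃ y ∈ L₂, m = x * y ∧ x * a = a * x ∧ y * b = b * y ∧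
      ((x * x = a ∧ y * y = b) ∨ (x * x = a * j ∧ y * y = j * b)) := by
  obtain ⟨x, hx, y, hy, hmxy⟩ := h.mem_sup.1 hm
  have hxy : x * y = y * x := h.comm x hx y hy
  have hsq : (x * x) * (y * y) = a * b := by
    have h1 : x * y * (x * y) = (x * x) * (y * y) := by
      calc x * y * (x * y) = x * (y * x) * y := by group
        _ = x * (x * y) * y := by rw [hxy]
        _ = (x * x) * (y * y) := by group
    rw [← h1, ← hmxy]; exact hmm
  have hsp := h.split (L₁.mul_mem hx hx) ha (L₂.mul_mem hy hy) hb hsq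
  refine ⟨x, hx, y, hy, hmxy, ?_, ?_, hsp⟩
  · rcases hsp with ⟨h1, -⟩ | ⟨h1, -⟩
    · rw [← h1]; group
    · have h2 : a = x * x * j := by
        rw [h1, mul_assoc, h.j_sq, mul_one]
      have hxj := h.j_comm₁ hx
      rw [h2]
      calc x * (x * x * j) = x * x * (x * j) := by group
        _ = x * x * (j * x) := by rw [hxj]
        _ = x * x * j * x := by group
  · rcases hsp with ⟨-, h1⟩ | ⟨-, h1⟩
    · rw [← h1]; group
    · have h2 : b = j * (y * y) := by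
        rw [h1, ← mul_assoc, h.j_sq, one_mul]
      have hyj := h.j_comm₂ hy
      rw [h2]
      calc y * (j * (y * y)) = (y * j) * (y * y) := by group
        _ = (j * y) * (y * y) := by rw [hyj]
        _ = j * (y * y) * y := by group

theorem ubm_mem (h : Cfg L₁ L₂ j n) {a b : G} (ha : a ∈ L₁) (hb : b ∈ L₂)
    (ha2 : a * a = j) (hb2 : b * b = j)
    {m₀ m : G} (hm₀ : m₀ ∈ L₁ ⊔ L₂) (hmm₀ : m₀ * m₀ = a * b)
    (hm : m ∈ L₁ ⊔ L₂) (hmm : m * m = a * b) :
    m = m₀ ∨ m = j * m₀ ∨ m = a * b * m₀ ∨ m = j * (a * b * m₀) := by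
  obtain ⟨x, hx, y, hy, hmxy, hxa, hyb, hsp⟩ := ubm_decomp h ha hb hm hmm
  obtain ⟨x₀, hx₀, y₀, hy₀, hmxy₀, hxa₀, hyb₀, hsp₀⟩ := ubm_decomp h ha hb hm₀ hmm₀
  have hxx₀ : x * x₀ = x₀ * x := h.ab₁ a ha ha2 x hx x₀ hx₀ hxa hxa₀
  have hyy₀ : y * y₀ = y₀ * y := h.ab₂ b hb hb2 y hy y₀ hy₀ hyb hyb₀
  have haj : a * j = j * a := h.j_comm₁ ha
  have hbj : b * j = j * b := h.j_comm₂ hb
  set e := x * x₀⁻¹ with he_def
  set f := y * y₀⁻¹ with hf_def
  have he : e ∈ L₁ := L₁.mul_mem hx (L₁.inv_mem hx₀)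
  have hf : f ∈ L₂ := L₂.mul_mem hy (L₂.inv_mem hy₀)
  have hee : e * e = (x * x) * (x₀ * x₀)⁻¹ := ubm_sq_div hxx₀
  have hff : f * f = (y * y) * (y₀ * y₀)⁻¹ := ubm_sq_div hyy₀
  -- `m = e f m₀`
  have hmef : m = e * f * m₀ := by
    have h1 : x₀ * f = f * x₀ := h.comm x₀ hx₀ f hf
    calc m = x * y := hmxy
      _ = e * (x₀ * f) * y₀ := by rw [he_def, hf_def]; group
      _ = e * (f * x₀) * y₀ := by rw [h1]
      _ = e * f * (x₀ * y₀) := by group
      _ = e * f * m₀ := by rw [hmxy₀]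
  -- `e² = f² ∈ {1, j}`
  have hcases : (e * e = 1 ∧ f * f = 1) ∨ (e * e = j ∧ f * f = j) := by
    rcases hsp with ⟨h1, h2⟩ | ⟨h1, h2⟩ <;> rcases hsp₀ with ⟨h3, h4⟩ | ⟨h3, h4⟩
    · left
      rw [hee, hff, h1, h2, h3, h4, mul_inv_cancel, mul_inv_cancel]; exact ⟨rfl, rfl⟩
    · right
      rw [hee, hff, h1, h2, h3, h4]
      constructor
      · rw [mul_inv_rev, ← mul_assoc, h.j_inv, haj, mul_assoc, mul_inv_cancel, mul_one]
      · rw [mul_inv_rev, h.j_inv, ← mul_assoc, mul_inv_cancel, one_mul]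
    · right
      rw [hee, hff, h1, h2, h3, h4]
      constructor
      · rw [haj, mul_assoc, mul_inv_cancel, mul_one]
      · rw [mul_assoc, mul_inv_cancel, mul_one]
    · left
      rw [hee, hff, h1, h2, h3, h4, mul_inv_cancel, mul_inv_cancel]; exact ⟨rfl, rfl⟩
  rcases hcases with ⟨h1, h2⟩ | ⟨h1, h2⟩
  · -- `e, f ∈ {1, j}`
    rcases h.inv₁ e he h1 with he1 | he1 <;> rcases h.inv₂ f hf h2 with hf1 | hf1
    · left; rw [hmef, he1, hf1, one_mul, one_mul]
    · right; left; rw [hmef, he1, hf1, one_mul]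
    · right; left; rw [hmef, he1, hf1, mul_one]
    · left; rw [hmef, he1, hf1, h.j_sq, one_mul]
  · -- `e ∈ {a, j a}`, `f ∈ {b, j b}`
    have hea : e * a = a * e := by
      have h3 : x₀⁻¹ * a = a * x₀⁻¹ := by
        have : x₀⁻¹ * (x₀ * a) * x₀⁻¹ = x₀⁻¹ * (a * x₀) * x₀⁻¹ := by rw [hxa₀]
        exact (by simpa [mul_assoc] using this : a * x₀⁻¹ = x₀⁻¹ * a).symm
      calc e * a = x * (x₀⁻¹ * a) := by rw [he_def]; group
        _ = x * (a * x₀⁻¹) := by rw [h3]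
        _ = (x * a) * x₀⁻¹ := by group
        _ = (a * x) * x₀⁻¹ := by rw [hxa]
        _ = a * e := by rw [he_def]; group
    have hfb : f * b = b * f := by
      have h3 : y₀⁻¹ * b = b * y₀⁻¹ := by
        have : y₀⁻¹ * (y₀ * b) * y₀⁻¹ = y₀⁻¹ * (b * y₀) * y₀⁻¹ := by rw [hyb₀]
        exact (by simpa [mul_assoc] using this : b * y₀⁻¹ = y₀⁻¹ * b).symm
      calc f * b = y * (y₀⁻¹ * b) := by rw [hf_def]; group
        _ = y * (b * y₀⁻¹) := by rw [h3]
        _ = (y * b) * y₀⁻¹ := by group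
        _ = (b * y) * y₀⁻¹ := by rw [hyb]
        _ = b * f := by rw [hf_def]; group
    have hea' : (e * a⁻¹) * (e * a⁻¹) = 1 := by
      rw [ubm_sq_div hea, h1, ha2, mul_inv_cancel]
    have hfb' : (f * b⁻¹) * (f * b⁻¹) = 1 := by
      rw [ubm_sq_div hfb, h2, hb2, mul_inv_cancel]
    have hE : e = a ∨ e = j * a := by
      rcases h.inv₁ _ (L₁.mul_mem he (L₁.inv_mem ha)) hea' with h3 | h3
      · left
        have : e = e * a⁻¹ * a := by group
        rw [this, h3, one_mul]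
      · right
        have : e = e * a⁻¹ * a := by group
        rw [this, h3]
    have hF : f = b ∨ f = j * b := by
      rcases h.inv₂ _ (L₂.mul_mem hf (L₂.inv_mem hb)) hfb' with h3 | h3
      · left
        have : f = f * b⁻¹ * b := by group
        rw [this, h3, one_mul]
      · right
        have : f = f * b⁻¹ * b := by group
        rw [this, h3]
    rcases hE with hE | hE <;> rcases hF with hF | hF
    · right; right; left; rw [hmef, hE, hF]
    · right; right; right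
      rw [hmef, hE, hF]
      calc a * (j * b) * m₀ = (a * j) * b * m₀ := by group
        _ = (j * a) * b * m₀ := by rw [haj]
        _ = j * (a * b * m₀) := by group
    · right; right; right
      rw [hmef, hE, hF]; group
    · right; right; left
      rw [hmef, hE, hF]
      calc j * a * (j * b) * m₀ = j * (a * j) * b * m₀ := by group
        _ = j * (j * a) * b * m₀ := by rw [haj]
        _ = (j * j) * a * b * m₀ := by group
        _ = a * b * m₀ := by rw [h.j_sq, one_mul]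

theorem ubm [Finite G] (h : Cfg L₁ L₂ j n) {a b : G} (ha : a ∈ L₁) (hb : b ∈ L₂)
    (ha2 : a * a = j) (hb2 : b * b = j) :
    ({m : G | m ∈ L₁ ⊔ L₂ ∧ m * m = a * b}).ncard ≤ 4 := by
  classical
  by_cases hne : ({m : G | m ∈ L₁ ⊔ L₂ ∧ m * m = a * b}).Nonempty
  · obtain ⟨m₀, hm₀, hmm₀⟩ := hne
    have hsub : {m : G | m ∈ L₁ ⊔ L₂ ∧ m * m = a * b} ⊆
        (({m₀, j * m₀, a * b * m₀, j * (a * b * m₀)} : Finset G) : Set G) := by
      rintro m ⟨hm, hmm⟩
      have := ubm_mem h ha hb ha2 hb2 hm₀ hmm₀ hm hmm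
      simp only [Finset.coe_insert, Finset.coe_singleton, Set.mem_insert_iff,
        Set.mem_singleton_iff]
      exact this
    calc ({m : G | m ∈ L₁ ⊔ L₂ ∧ m * m = a * b}).ncard
        ≤ ((({m₀, j * m₀, a * b * m₀, j * (a * b * m₀)} : Finset G) : Set G)).ncard :=
          Set.ncard_le_ncard hsub (Finset.finite_toSet _)
      _ = ({m₀, j * m₀, a * b * m₀, j * (a * b * m₀)} : Finset G).card := Set.ncard_coe_finset _
      _ ≤ 4 := Finset.card_le_four
  · rw [Set.not_nonempty_iff_eq_empty] at hne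
    rw [hne, Set.ncard_empty]; norm_num

end Cfsg.Agent.Helper25.Sw
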