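import Mathlib
import Cfsg.Agent.Helper25.SLUnitriB

set_option autoImplicit false

/-! Block upper unitriangular subgroup of `Sp_{2m}(K)`: predicates, subgroups, explicit elements. -/

namespace Cfsg.Agent.Helper25.SpU

open Matrix

variable {m : ℕ} {K : Type*} [Field K]

/-- lower-left block vanishes -/
def IsPar (M : Matrix (Fin m ⊕ Fin m) (Fin m ⊕ Fin m) K) : Prop :=
  ∀ i j, M (Sum.inr i) (Sum.inl j) = 0

theorem isPar_one : IsPar (1 : Matrix (Fin m ⊕ Fin m) (Fin m ⊕ Fin m) K) := by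
  intro i j
  exact Matrix.one_apply_ne (by simp)

theorem IsPar.mul {M N : Matrix (Fin m ⊕ Fin m) (Fin m ⊕ Fin m) K} (hM : IsPar M) (hN : IsPar N) :
    IsPar (M * N) := by
  intro i j
  rw [Matrix.mul_apply, Fintype.sum_sum_type]
  simp [hM i, hN _ j]

theorem IsPar.block_mul (M : Matrix (Fin m ⊕ Fin m) (Fin m ⊕ Fin m) K)
    {N : Matrix (Fin m ⊕ Fin m) (Fin m ⊕ Fin m) K} (hN : IsPar N) :
    (M * N).toBlocks₁₁ = M.toBlocks₁₁ * N.toBlocks₁₁ := by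
  ext i j
  simp only [toBlocks₁₁, Matrix.of_apply, Matrix.mul_apply, Fintype.sum_sum_type]
  simp [hN _ j]

theorem IsPar.block_pow {M : Matrix (Fin m ⊕ Fin m) (Fin m ⊕ Fin m) K} (hM : IsPar M) (k : ℕ) :
    IsPar (M ^ k) ∧ (M ^ k).toBlocks₁₁ = M.toBlocks₁₁ ^ k := by
  induction k with
  | zero =>
    refine ⟨by rw [pow_zero]; exact isPar_one, ?_⟩
    rw [pow_zero, pow_zero]
    ext i j
    simp [toBlocks₁₁, Matrix.one_apply]
  | succ k ih =>
    refine ⟨by rw [pow_succ]; exact ih.1.mul hM, ?_⟩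
    rw [pow_succ, IsPar.block_mul _ hM, ih.2, pow_succ]

/-- Borel type -/
def IsB (M : Matrix (Fin m ⊕ Fin m) (Fin m ⊕ Fin m) K) : Prop :=
  IsPar M ∧ SLU.IsUp M.toBlocks₁₁

/-- unipotent radical of the Borel -/
def IsU (M : Matrix (Fin m ⊕ Fin m) (Fin m ⊕ Fin m) K) : Prop :=
  IsPar M ∧ SLU.IsUT M.toBlocks₁₁

/-- Siegel radical -/
def IsR (M : Matrix (Fin m ⊕ Fin m) (Fin m ⊕ Fin m) K) : Prop :=
  IsPar M ∧ M.toBlocks₁₁ = 1

theorem block_one : (1 : Matrix (Fin m ⊕ Fin m) (Fin m ⊕ Fin m) K).toBlocks₁₁ = 1 := by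
  ext i j
  simp [toBlocks₁₁, Matrix.one_apply]

theorem isB_one : IsB (1 : Matrix (Fin m ⊕ Fin m) (Fin m ⊕ Fin m) K) :=
  ⟨isPar_one, by rw [block_one]; exact SLU.isUp_one⟩

theorem isU_one : IsU (1 : Matrix (Fin m ⊕ Fin m) (Fin m ⊕ Fin m) K) :=
  ⟨isPar_one, by rw [block_one]; exact SLU.isUT_one⟩

theorem isR_one : IsR (1 : Matrix (Fin m ⊕ Fin m) (Fin m ⊕ Fin m) K) :=
  ⟨isPar_one, block_one⟩

theorem IsB.mul {M N : Matrix (Fin m ⊕ Fin m) (Fin m ⊕ Fin m) K} (hM : IsB M) (hN : IsB N) :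
    IsB (M * N) :=
  ⟨hM.1.mul hN.1, by rw [IsPar.block_mul _ hN.1]; exact hM.2.mul hN.2⟩

theorem IsU.mul {M N : Matrix (Fin m ⊕ Fin m) (Fin m ⊕ Fin m) K} (hM : IsU M) (hN : IsU N) :
    IsU (M * N) :=
  ⟨hM.1.mul hN.1, by rw [IsPar.block_mul _ hN.1]; exact hM.2.mul hN.2⟩

theorem IsR.mul {M N : Matrix (Fin m ⊕ Fin m) (Fin m ⊕ Fin m) K} (hM : IsR M) (hN : IsR N) :
    IsR (M * N) :=
  ⟨hM.1.mul hN.1, by rw [IsPar.block_mul _ hN.1, hM.2, hN.2, mul_one]⟩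

theorem IsR.isU {M : Matrix (Fin m ⊕ Fin m) (Fin m ⊕ Fin m) K} (hM : IsR M) : IsU M :=
  ⟨hM.1, by rw [hM.2]; exact SLU.isUT_one⟩

theorem IsU.isB {M : Matrix (Fin m ⊕ Fin m) (Fin m ⊕ Fin m) K} (hM : IsU M) : IsB M :=
  ⟨hM.1, hM.2.1⟩

/-- structure of symplectic matrices with vanishing lower-left block -/
theorem par_blocks {M : Matrix (Fin m ⊕ Fin m) (Fin m ⊕ Fin m) K}
    (hM : M ∈ symplecticGroup (Fin m) K) (hP : IsPar M) :
    M = fromBlocks M.toBlocks₁₁ M.toBlocks₁₂ 0 M.toBlocks₂₂ ∧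
    M.toBlocks₁₁ᵀ * M.toBlocks₂₂ = 1 ∧
    M.toBlocks₁₂ᵀ * M.toBlocks₂₂ = M.toBlocks₂₂ᵀ * M.toBlocks₁₂ := by
  have h0 : M.toBlocks₂₁ = 0 := by
    ext i j
    exact hP i j
  have e : M = fromBlocks M.toBlocks₁₁ M.toBlocks₁₂ 0 M.toBlocks₂₂ := by
    conv_lhs => rw [← fromBlocks_toBlocks M, h0]
  refine ⟨e, ?_⟩
  rw [e] at hM
  obtain ⟨-, h2, h3⟩ := SymplecticGroup.fromBlocks_mem_iff.mp hM
  rw [transpose_zero, zero_mul, sub_zero] at h3
  exact ⟨h3, h2⟩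

/-- `[1 S; 0 1]` -/
def uS (S : Matrix (Fin m) (Fin m) K) : Matrix (Fin m ⊕ Fin m) (Fin m ⊕ Fin m) K :=
  fromBlocks 1 S 0 1

/-- `[1 0; C 1]` -/
def lS (C : Matrix (Fin m) (Fin m) K) : Matrix (Fin m ⊕ Fin m) (Fin m ⊕ Fin m) K :=
  fromBlocks 1 0 C 1

/-- `[A 0; 0 D]` -/
def lev (A D : Matrix (Fin m) (Fin m) K) : Matrix (Fin m ⊕ Fin m) (Fin m ⊕ Fin m) K :=
  fromBlocks A 0 0 D

theorem uS_mem {S : Matrix (Fin m) (Fin m) K} (hS : Sᵀ = S) :
    uS S ∈ symplecticGroup (Fin m) K := by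
  rw [uS, SymplecticGroup.fromBlocks_mem_iff]
  simp [hS]

theorem lS_mem {C : Matrix (Fin m) (Fin m) K} (hC : Cᵀ = C) :
    lS C ∈ symplecticGroup (Fin m) K := by
  rw [lS, SymplecticGroup.fromBlocks_mem_iff]
  simp [hC]

theorem lev_mem {A D : Matrix (Fin m) (Fin m) K} (h : Aᵀ * D = 1) :
    lev A D ∈ symplecticGroup (Fin m) K := by
  rw [lev, SymplecticGroup.fromBlocks_mem_iff]
  simp [h]

/-- group element `[1 S; 0 1]` (trivial if `S` is not symmetric) -/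
noncomputable def uSg (S : Matrix (Fin m) (Fin m) K) : symplecticGroup (Fin m) K :=
  open Classical in if h : Sᵀ = S then ⟨uS S, uS_mem h⟩ else 1

/-- group element `[1 0; C 1]` -/
noncomputable def lSg (C : Matrix (Fin m) (Fin m) K) : symplecticGroup (Fin m) K :=
  open Classical in if h : Cᵀ = C then ⟨lS C, lS_mem h⟩ else 1

/-- group element `[A 0; 0 D]` -/
noncomputable def levg (A D : Matrix (Fin m) (Fin m) K) : symplecticGroup (Fin m) K :=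
  open Classical in if h : Aᵀ * D = 1 then ⟨lev A D, lev_mem h⟩ else 1

theorem uSg_val {S : Matrix (Fin m) (Fin m) K} (hS : Sᵀ = S) : (uSg S).1 = uS S := by
  rw [uSg, dif_pos hS]

theorem lSg_val {C : Matrix (Fin m) (Fin m) K} (hC : Cᵀ = C) : (lSg C).1 = lS C := by
  rw [lSg, dif_pos hC]

theorem levg_val {A D : Matrix (Fin m) (Fin m) K} (h : Aᵀ * D = 1) : (levg A D).1 = lev A D := by
  rw [levg, dif_pos h]

theorem uS_mul (S S' : Matrix (Fin m) (Fin m) K) : uS S * uS S' = uS (S' + S) := by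
  simp [uS, fromBlocks_multiply]

theorem uS_zero : uS (0 : Matrix (Fin m) (Fin m) K) = 1 := by
  simp [uS]

theorem lS_mul (C C' : Matrix (Fin m) (Fin m) K) : lS C * lS C' = lS (C + C') := by
  simp [lS, fromBlocks_multiply]

theorem lS_zero : lS (0 : Matrix (Fin m) (Fin m) K) = 1 := by
  simp [lS]

theorem uSg_mul {S S' : Matrix (Fin m) (Fin m) K} (hS : Sᵀ = S) (hS' : S'ᵀ = S') :
    uSg S * uSg S' = uSg (S + S') := by
  have h : (S + S')ᵀ = S + S' := by rw [transpose_add, hS, hS']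
  apply Subtype.ext
  show (uSg S).1 * (uSg S').1 = (uSg (S + S')).1
  rw [uSg_val hS, uSg_val hS', uSg_val h, uS_mul, add_comm]

theorem uSg_zero : uSg (0 : Matrix (Fin m) (Fin m) K) = 1 := by
  apply Subtype.ext
  rw [uSg_val (transpose_zero), uS_zero]
  rfl

theorem uSg_inv {S : Matrix (Fin m) (Fin m) K} (hS : Sᵀ = S) : (uSg S)⁻¹ = uSg (-S) := by
  apply inv_eq_of_mul_eq_one_right
  rw [uSg_mul hS (by rw [transpose_neg, hS]), add_neg_cancel, uSg_zero]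

theorem lSg_mul {C C' : Matrix (Fin m) (Fin m) K} (hC : Cᵀ = C) (hC' : C'ᵀ = C') :
    lSg C * lSg C' = lSg (C + C') := by
  have h : (C + C')ᵀ = C + C' := by rw [transpose_add, hC, hC']
  apply Subtype.ext
  show (lSg C).1 * (lSg C').1 = (lSg (C + C')).1
  rw [lSg_val hC, lSg_val hC', lSg_val h, lS_mul]

theorem lSg_zero : lSg (0 : Matrix (Fin m) (Fin m) K) = 1 := by
  apply Subtype.ext
  rw [lSg_val (transpose_zero), lS_zero]
  rfl

theorem lSg_inv {C : Matrix (Fin m) (Fin m) K} (hC : Cᵀ = C) : (lSg C)⁻¹ = lSg (-C) := by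
  apply inv_eq_of_mul_eq_one_right
  rw [lSg_mul hC (by rw [transpose_neg, hC]), add_neg_cancel, lSg_zero]

theorem isR_uS (S : Matrix (Fin m) (Fin m) K) : IsR (uS S) := by
  refine ⟨fun i j => ?_, ?_⟩
  · simp [uS]
  · simp [uS]

theorem isPar_lev (A D : Matrix (Fin m) (Fin m) K) : IsPar (lev A D) := by
  intro i j
  simp [lev]

theorem lev_block (A D : Matrix (Fin m) (Fin m) K) : (lev A D).toBlocks₁₁ = A := by
  simp [lev]

/-- an element with the shape of the Siegel radical is `uS` of a symmetric matrix -/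
theorem eq_uS_of_isR {M : Matrix (Fin m ⊕ Fin m) (Fin m ⊕ Fin m) K}
    (hM : M ∈ symplecticGroup (Fin m) K) (hR : IsR M) :
    M = uS M.toBlocks₁₂ ∧ M.toBlocks₁₂ᵀ = M.toBlocks₁₂ := by
  obtain ⟨e, h1, h2⟩ := par_blocks hM hR.1
  rw [hR.2, transpose_one, one_mul] at h1
  rw [h1, mul_one, transpose_one, one_mul] at h2
  refine ⟨?_, h2⟩
  conv_lhs => rw [e, hR.2, h1]
  rfl

end Cfsg.Agent.Helper25.SpU
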