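import Mathlib
import Cfsg.Agent.Helper25.SpUA

set_option autoImplicit false

/-! Subgroups of `Sp_{2m}(K)`: Siegel parabolic, Borel, unipotent radical; `U` is a `p`-group;
`N(U) = B`; `U` is Sylow. -/

namespace Cfsg.Agent.Helper25.SpU

open Matrix

variable {m : ℕ} {K : Type*} [Field K]

theorem uS_pow (S : Matrix (Fin m) (Fin m) K) (k : ℕ) : uS S ^ k = uS (k • S) := by
  induction k with
  | zero => rw [pow_zero, zero_smul, uS_zero]
  | succ k ih => rw [pow_succ, ih, uS_mul, succ_nsmul']

/-- Levi transvection data -/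
theorem levT_aux {j k : Fin m} (hjk : j ≠ k) (c : K) :
    (1 + single j k c)ᵀ * (1 - single k j c) = 1 := by
  rw [transpose_add, transpose_one, transpose_single, add_mul, mul_sub, mul_sub, one_mul, mul_one,
    one_mul, single_mul_single_of_ne _ _ _ _ hjk]
  abel

/-- Levi transvection `x_{e_j - e_k}(c)` -/
noncomputable def levT (j k : Fin m) (c : K) : symplecticGroup (Fin m) K :=
  levg (1 + single j k c) (1 - single k j c)

theorem levT_val {j k : Fin m} (hjk : j ≠ k) (c : K) :
    (levT j k c).1 = lev (1 + single j k c) (1 - single k j c) :=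
  levg_val (levT_aux hjk c)

variable [Fintype K]

/-- Siegel parabolic -/
def parS (m : ℕ) (K : Type*) [Field K] [Fintype K] : Subgroup (symplecticGroup (Fin m) K) :=
  SLU.subgroupOfMul {g | IsPar g.1} isPar_one (fun _ _ ha hb => IsPar.mul ha hb)

/-- Borel subgroup -/
def borel (m : ℕ) (K : Type*) [Field K] [Fintype K] : Subgroup (symplecticGroup (Fin m) K) :=
  SLU.subgroupOfMul {g | IsB g.1} isB_one (fun _ _ ha hb => IsB.mul ha hb)

/-- unipotent radical of the Borel subgroup -/
def uni (m : ℕ) (K : Type*) [Field K] [Fintype K] : Subgroup (symplecticGroup (Fin m) K) :=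
  SLU.subgroupOfMul {g | IsU g.1} isU_one (fun _ _ ha hb => IsU.mul ha hb)

/-- Siegel radical -/
def radS (m : ℕ) (K : Type*) [Field K] [Fintype K] : Subgroup (symplecticGroup (Fin m) K) :=
  SLU.subgroupOfMul {g | IsR g.1} isR_one (fun _ _ ha hb => IsR.mul ha hb)

theorem mem_parS {g : symplecticGroup (Fin m) K} : g ∈ parS m K ↔ IsPar g.1 := Iff.rfl
theorem mem_borel {g : symplecticGroup (Fin m) K} : g ∈ borel m K ↔ IsB g.1 := Iff.rfl
theorem mem_uni {g : symplecticGroup (Fin m) K} : g ∈ uni m K ↔ IsU g.1 := Iff.rfl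
theorem mem_radS {g : symplecticGroup (Fin m) K} : g ∈ radS m K ↔ IsR g.1 := Iff.rfl

theorem radS_le_uni : radS m K ≤ uni m K := fun _ hg => IsR.isU hg
theorem uni_le_borel : uni m K ≤ borel m K := fun _ hg => IsU.isB hg
theorem borel_le_parS : borel m K ≤ parS m K := fun _ hg => hg.1

theorem uSg_mem_radS {S : Matrix (Fin m) (Fin m) K} (hS : Sᵀ = S) : uSg S ∈ radS m K := by
  rw [mem_radS, uSg_val hS]
  exact isR_uS S

theorem levT_mem_uni {j k : Fin m} (hjk : j < k) (c : K) : levT j k c ∈ uni m K := by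
  rw [mem_uni, levT_val (ne_of_lt hjk)]
  refine ⟨isPar_lev _ _, ?_⟩
  rw [lev_block]
  have := SLU.transvection_mem_unitri (K := K) hjk c
  rw [SLU.mem_unitri, Matrix.SpecialLinearGroup.transvection_coe] at this
  exact this

/-- `U` is a `p`-group. -/
theorem isPGroup_uni (p : ℕ) [Fact p.Prime] [CharP K p] : IsPGroup p (uni m K) := by
  intro g
  refine ⟨m + 1, ?_⟩
  apply Subtype.ext
  apply Subtype.ext
  show ((g : symplecticGroup (Fin m) K) ^ (p ^ (m + 1))).1 = 1
  have hg : IsU g.1.1 := g.2
  have hm : m ≤ p ^ m := (Nat.lt_pow_self (Fact.out : p.Prime).one_lt).le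
  have h1 := hg.1.block_pow (p ^ m)
  have h2 : (g.1.1 ^ (p ^ m)).toBlocks₁₁ = 1 := by
    rw [h1.2]
    exact SLU.pow_eq_one_of_isUT p hg.2 hm
  have hmem : g.1.1 ^ (p ^ m) ∈ symplecticGroup (Fin m) K := pow_mem g.1.2 _
  obtain ⟨e, -⟩ := eq_uS_of_isR hmem ⟨h1.1, h2⟩
  rw [SubmonoidClass.coe_pow, pow_succ, pow_mul, e, uS_pow]
  have : p • (g.1.1 ^ p ^ m).toBlocks₁₂ = 0 := by
    ext i j
    rw [Matrix.smul_apply, nsmul_eq_mul, CharP.cast_eq_zero K p, zero_mul]
    rfl
  rw [this, uS_zero]

/-- key step for the normalizer of `U` -/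
theorem entry_zero_of_normalizer {g : symplecticGroup (Fin m) K}
    (hg : g ∈ Subgroup.normalizer (uni m K : Set (symplecticGroup (Fin m) K))) (j : Fin m)
    (x : Fin m ⊕ Fin m) (t : symplecticGroup (Fin m) K) (ht : t ∈ uni m K)
    (hrow : ∀ y, t.1 (Sum.inl j) y =
      (if y = Sum.inl j then 1 else 0) + (if y = x then 1 else 0))
    (ih : ∀ l : Fin m, l < j → g.1 (Sum.inl j) (Sum.inl l) = 0) :
    g.1 x (Sum.inl j) = 0 := by
  have hu' : g⁻¹ * t * g ∈ uni m K := by
    have := (Subgroup.mem_normalizer_iff.mp (inv_mem hg) _).mp ht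
    simpa using this
  have e : g * (g⁻¹ * t * g) = t * g := by group
  have e1 : (g.1 * (g⁻¹ * t * g).1) (Sum.inl j) (Sum.inl j) =
      (t.1 * g.1) (Sum.inl j) (Sum.inl j) := by
    have := congrArg (fun z : symplecticGroup (Fin m) K => z.1 (Sum.inl j) (Sum.inl j)) e
    exact this
  have hR : (t.1 * g.1) (Sum.inl j) (Sum.inl j) =
      g.1 (Sum.inl j) (Sum.inl j) + g.1 x (Sum.inl j) := by
    rw [Matrix.mul_apply]
    simp only [hrow, add_mul, ite_mul, one_mul, zero_mul, Finset.sum_add_distrib,
      Finset.sum_ite_eq', Finset.mem_univ, if_true]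
  have hL : (g.1 * (g⁻¹ * t * g).1) (Sum.inl j) (Sum.inl j) = g.1 (Sum.inl j) (Sum.inl j) := by
    rw [Matrix.mul_apply, Fintype.sum_sum_type]
    have hz : ∑ k : Fin m, g.1 (Sum.inl j) (Sum.inr k) * (g⁻¹ * t * g).1 (Sum.inr k) (Sum.inl j)
        = 0 := by
      apply Finset.sum_eq_zero
      intro k _
      rw [hu'.1 k j, mul_zero]
    rw [hz, add_zero, Finset.sum_eq_single j]
    · have : (g⁻¹ * t * g).1 (Sum.inl j) (Sum.inl j) = 1 := hu'.2.2 j
      rw [this, mul_one]
    · intro k _ hkj
      rcases lt_or_gt_of_ne hkj with h | h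
      · rw [ih k h, zero_mul]
      · have : (g⁻¹ * t * g).1 (Sum.inl k) (Sum.inl j) = 0 := hu'.2.1 k j h
        rw [this, mul_zero]
    · intro h
      exact absurd (Finset.mem_univ j) h
  rw [hL, hR] at e1
  exact left_eq_add.mp e1

theorem normalizer_uni_le :
    Subgroup.normalizer (uni m K : Set (symplecticGroup (Fin m) K)) ≤ borel m K := by
  intro g hg
  have key : ∀ n : ℕ, ∀ j : Fin m, j.val = n →
      (∀ k : Fin m, j < k → g.1 (Sum.inl k) (Sum.inl j) = 0) ∧
      (∀ l : Fin m, g.1 (Sum.inr l) (Sum.inl j) = 0) := by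
    intro n
    induction n using Nat.strong_induction_on with
    | _ n ih =>
      intro j hj
      have ih' : ∀ l : Fin m, l < j → g.1 (Sum.inl j) (Sum.inl l) = 0 := fun l hl =>
        (ih l.val (by rw [← hj]; exact hl) l rfl).1 j hl
      constructor
      · intro k hjk
        apply entry_zero_of_normalizer hg j (Sum.inl k) (levT j k 1) (levT_mem_uni hjk 1) _ ih'
        intro y
        rw [levT_val (ne_of_lt hjk)]
        rcases y with y | y
        · simp only [lev, fromBlocks_apply₁₁, Matrix.add_apply, Matrix.one_apply,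
            Matrix.single_apply, Sum.inl.injEq]
          congr 1
          · simp [eq_comm]
          · simp [eq_comm]
        · simp [lev]
      · intro l
        by_cases hl : l = j
        · subst hl
          have hS : (single l l (1 : K))ᵀ = single l l 1 := by rw [transpose_single]
          apply entry_zero_of_normalizer hg l (Sum.inr l) (uSg (single l l 1))
            (radS_le_uni (uSg_mem_radS hS)) _ ih'
          intro y
          rw [uSg_val hS]
          rcases y with y | y
          · simp [uS, Matrix.one_apply, eq_comm]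
          · simp [uS, Matrix.single_apply, eq_comm]
        · have hS : (single j l (1 : K) + single l j 1)ᵀ = single j l 1 + single l j 1 := by
            rw [transpose_add, transpose_single, transpose_single, add_comm]
          apply entry_zero_of_normalizer hg j (Sum.inr l) (uSg (single j l 1 + single l j 1))
            (radS_le_uni (uSg_mem_radS hS)) _ ih'
          intro y
          rw [uSg_val hS]
          rcases y with y | y
          · simp [uS, Matrix.one_apply, eq_comm]
          · have hl' : ¬ (j = l) := fun h => hl h.symm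
            simp [uS, Matrix.single_apply, eq_comm, hl']
  exact ⟨fun i j => (key j.val j rfl).2 i, fun i j hji => (key j.val j rfl).1 i hji⟩

end Cfsg.Agent.Helper25.SpU
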