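import Mathlib
import Cfsg.Agent.Helper25.SpUB

set_option autoImplicit false

/-! `B ≤ N(U)`, `U` is a Sylow `p`-subgroup of `Sp_{2m}(K)`, `P_S ≤ N(R_S)`. -/

namespace Cfsg.Agent.Helper25.SpU

open Matrix

/-- A `p`-subgroup containing all `p`-elements of its normalizer is a Sylow `p`-subgroup. -/
theorem exists_sylow_of_normalizer {G : Type*} [Group G] [Finite G] (p : ℕ) [Fact p.Prime]
    (U : Subgroup G) (hU : IsPGroup p U)
    (h : ∀ x ∈ Subgroup.normalizer (U : Set G), ∀ k : ℕ, x ^ (p ^ k) = 1 → x ∈ U) :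
    ∃ P : Sylow p G, (P : Subgroup G) = U := by
  obtain ⟨P, hP⟩ := hU.exists_le_sylow
  refine ⟨P, ?_⟩
  by_contra hne
  have : Group.IsNilpotent P := P.isPGroup'.isNilpotent
  have hNC := Group.normalizerCondition_of_isNilpotent (G := P)
  have hlt' : U.subgroupOf P < ⊤ := by
    rw [lt_top_iff_ne_top]
    intro h
    rw [Subgroup.subgroupOf_eq_top] at h
    exact hne (le_antisymm h hP)
  obtain ⟨x, hxN, hxU⟩ := SetLike.exists_of_lt (hNC _ hlt')
  have hxN' : (x : G) ∈ Subgroup.normalizer (U : Set G) := by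
    rw [Subgroup.mem_normalizer_iff]
    intro h
    constructor
    · intro hh
      have := (Subgroup.mem_normalizer_iff.mp hxN ⟨h, hP hh⟩).mp (Subgroup.mem_subgroupOf.mpr hh)
      exact Subgroup.mem_subgroupOf.mp this
    · intro hh
      have hhP : h ∈ (P : Subgroup _) := by
        have e : h = (x : G)⁻¹ * ((x : G) * h * (x : G)⁻¹) * (x : G) := by group
        rw [e]
        exact mul_mem (mul_mem (inv_mem x.2) (hP hh)) x.2
      have := (Subgroup.mem_normalizer_iff.mp hxN ⟨h, hhP⟩).mpr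
        (Subgroup.mem_subgroupOf.mpr hh)
      exact Subgroup.mem_subgroupOf.mp this
  obtain ⟨k, hk⟩ := P.isPGroup' x
  have hxU' : (x : G) ∈ U := h _ hxN' k (by
    have := congrArg Subtype.val hk
    simpa using this)
  exact hxU (Subgroup.mem_subgroupOf.mpr hxU')

variable {m : ℕ} {K : Type*} [Field K] [Fintype K]

theorem block_mul_inv {g : symplecticGroup (Fin m) K} (hg : g ∈ parS m K) :
    g.1.toBlocks₁₁ * (g⁻¹).1.toBlocks₁₁ = 1 := by
  have hgi : g⁻¹ ∈ parS m K := inv_mem hg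
  rw [← IsPar.block_mul _ hgi]
  have : g.1 * (g⁻¹).1 = 1 := by
    have := congrArg Subtype.val (mul_inv_cancel g)
    exact this
  rw [this, block_one]

theorem borel_le_normalizer :
    borel m K ≤ Subgroup.normalizer (uni m K : Set (symplecticGroup (Fin m) K)) := by
  have key : ∀ g ∈ borel m K, ∀ u ∈ uni m K, g * u * g⁻¹ ∈ uni m K := by
    intro g hg u hu
    have hgi : g⁻¹ ∈ borel m K := inv_mem hg
    have hgu : g * u ∈ borel m K := mul_mem hg (uni_le_borel hu)
    have h1 : (g * u * g⁻¹).1.toBlocks₁₁ =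
        g.1.toBlocks₁₁ * u.1.toBlocks₁₁ * (g⁻¹).1.toBlocks₁₁ := by
      show (g.1 * u.1 * (g⁻¹).1).toBlocks₁₁ = _
      rw [IsPar.block_mul _ hgi.1, IsPar.block_mul _ hu.1]
    refine ⟨(mul_mem hgu hgi).1, (mul_mem hgu hgi).2, fun i => ?_⟩
    have h2 : SLU.IsUp (g.1.toBlocks₁₁ * u.1.toBlocks₁₁) := hg.2.mul hu.2.1
    rw [h1, SLU.IsUp.mul_diag h2 hgi.2, SLU.IsUp.mul_diag hg.2 hu.2.1, hu.2.2 i, mul_one,
      ← SLU.IsUp.mul_diag hg.2 hgi.2, block_mul_inv (borel_le_parS hg), Matrix.one_apply_eq]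
  intro g hg
  rw [Subgroup.mem_normalizer_iff]
  intro u
  constructor
  · exact key g hg u
  · intro hu
    have := key g⁻¹ (inv_mem hg) _ hu
    have e : g⁻¹ * (g * u * g⁻¹) * g⁻¹⁻¹ = u := by group
    rwa [e] at this

theorem parS_le_normalizer_radS :
    parS m K ≤ Subgroup.normalizer (radS m K : Set (symplecticGroup (Fin m) K)) := by
  have key : ∀ g ∈ parS m K, ∀ u ∈ radS m K, g * u * g⁻¹ ∈ radS m K := by
    intro g hg u hu
    have hgi : g⁻¹ ∈ parS m K := inv_mem hg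
    refine ⟨(hg.mul hu.1).mul hgi, ?_⟩
    show (g.1 * u.1 * (g⁻¹).1).toBlocks₁₁ = 1
    rw [IsPar.block_mul _ hgi, IsPar.block_mul _ hu.1, hu.2, mul_one, block_mul_inv hg]
  intro g hg
  rw [Subgroup.mem_normalizer_iff]
  intro u
  constructor
  · exact key g hg u
  · intro hu
    have := key g⁻¹ (inv_mem hg) _ hu
    have e : g⁻¹ * (g * u * g⁻¹) * g⁻¹⁻¹ = u := by group
    rwa [e] at this

variable (p : ℕ) [Fact p.Prime] [CharP K p]

theorem mem_uni_of_pow {g : symplecticGroup (Fin m) K} (hg : g ∈ borel m K) {k : ℕ}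
    (h : g ^ (p ^ k) = 1) : g ∈ uni m K := by
  refine ⟨hg.1, hg.2, fun i => ?_⟩
  have h1 : (g.1 ^ (p ^ k)).toBlocks₁₁ i i = 1 := by
    have : g.1 ^ (p ^ k) = 1 := by
      have := congrArg Subtype.val h
      rw [SubmonoidClass.coe_pow] at this
      exact this
    rw [this, block_one, Matrix.one_apply_eq]
  rw [(hg.1.block_pow (p ^ k)).2, (SLU.IsUp.pow hg.2 (p ^ k)).2 i] at h1
  exact SLU.eq_one_of_pow_eq_one p h1

/-- `U` is a Sylow `p`-subgroup of `Sp_{2m}(K)`. -/
theorem exists_sylow_uni :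
    ∃ P : Sylow p (symplecticGroup (Fin m) K), (P : Subgroup _) = uni m K :=
  exists_sylow_of_normalizer p (uni m K) (isPGroup_uni p)
    (fun _ hx _ hk => mem_uni_of_pow p (normalizer_uni_le hx) hk)

end Cfsg.Agent.Helper25.SpU
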