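import Mathlib
import Cfsg.Agent.Helper25.SLUnitriB

set_option autoImplicit false
set_option linter.unusedSimpArgs false

/-! Centre of `U`, the commutator formula, and the strongly closed subgroups of `U`. -/

namespace Cfsg.Agent.Helper25.SLU

open Matrix Matrix.SpecialLinearGroup MulAction

/-- A nontrivial normal subgroup of a finite `p`-group meets the centre nontrivially. -/
theorem exists_central_of_normal {G : Type*} [Group G] [Finite G] {p : ℕ} [Fact p.Prime]
    (hG : IsPGroup p G) (N : Subgroup G) [N.Normal] (hN : N ≠ ⊥) :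
    ∃ z ∈ N, z ≠ 1 ∧ z ∈ Subgroup.center G := by
  have h1 : (1 : N) ∈ fixedPoints (ConjAct G) N := by
    intro g
    exact smul_one g
  have dvd : p ∣ Nat.card N := by
    have hNp : IsPGroup p N := hG.to_subgroup N
    have : Nontrivial N := (Subgroup.nontrivial_iff_ne_bot N).2 hN
    obtain ⟨n, hn0, hn⟩ := hNp.nontrivial_iff_card.mp inferInstance
    exact hn.symm ▸ dvd_pow_self _ (ne_of_gt hn0)
  obtain ⟨b, hb, hb1⟩ :=
    (hG.of_equiv ConjAct.toConjAct).exists_fixed_point_of_prime_dvd_card_of_fixed_point N dvd h1
  refine ⟨b, b.2, ?_, ?_⟩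
  · intro h; exact hb1 (Subtype.ext h.symm)
  · rw [Subgroup.mem_center_iff]
    intro g
    have := hb (ConjAct.toConjAct g)
    have h2 : g * (b : G) * g⁻¹ = b := by
      have := congrArg Subtype.val this
      simpa [ConjAct.Subgroup.val_conj_smul, ConjAct.smul_def] using this
    calc g * b = g * b * g⁻¹ * g := by group
      _ = b * g := by rw [h2]

theorem comm_ring_identity {A : Type*} [Ring A] (a b : A) (haa : a * a = 0) (hbb : b * b = 0)
    (hba : b * a = 0) : (1 + a) * (1 + b) * (1 + -a) * (1 + -b) = 1 + a * b := by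
  have r1 : ∀ x, a * (a * x) = 0 := fun x => by rw [← mul_assoc, haa, zero_mul]
  have r2 : ∀ x, b * (b * x) = 0 := fun x => by rw [← mul_assoc, hbb, zero_mul]
  have r3 : ∀ x, b * (a * x) = 0 := fun x => by rw [← mul_assoc, hba, zero_mul]
  simp only [mul_add, add_mul, mul_one, one_mul, mul_neg, neg_mul, mul_assoc, haa, hbb, hba,
    r1, r2, r3, mul_zero, neg_zero, add_zero, neg_neg]
  abel

variable {n : ℕ} {K : Type*} [Field K]

/-- Chevalley commutator formula. -/
theorem transvection_commutator {i k j : Fin n} (hik : i ≠ k) (hkj : k ≠ j) (hij : i ≠ j)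
    (c d : K) :
    transvection hik c * transvection hkj d * (transvection hik c)⁻¹ * (transvection hkj d)⁻¹ =
      transvection hij (c * d) := by
  rw [transvection_inv, transvection_inv]
  apply Subtype.ext
  simp only [Matrix.SpecialLinearGroup.coe_mul, transvection_coe]
  rw [← Matrix.single_neg, ← Matrix.single_neg]
  rw [comm_ring_identity (Matrix.single i k c) (Matrix.single k j d)
    (Matrix.single_mul_single_of_ne _ _ _ _ hik.symm _)
    (Matrix.single_mul_single_of_ne _ _ _ _ hkj.symm _)
    (Matrix.single_mul_single_of_ne _ _ _ _ hij.symm _), Matrix.single_mul_single_same]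

/-- entries of a matrix commuting with an elementary matrix -/
theorem entries_of_comm {M : Matrix (Fin n) (Fin n) K} {k l : Fin n}
    (h : M * Matrix.single k l 1 = Matrix.single k l 1 * M) :
    (∀ r, r ≠ k → M r k = 0) ∧ (∀ s, s ≠ l → M l s = 0) ∧ M k k = M l l := by
  refine ⟨fun r hr => ?_, fun s hs => ?_, ?_⟩
  · have := congrFun (congrFun h r) l
    rw [Matrix.mul_single_apply_same, Matrix.single_mul_apply_of_ne _ _ _ _ _ hr, mul_one] at this
    exact this
  · have := congrFun (congrFun h k) s
    rw [Matrix.mul_single_apply_of_ne _ _ _ _ _ hs, Matrix.single_mul_apply_same, one_mul] at this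
    exact this.symm
  · have := congrFun (congrFun h k) l
    rw [Matrix.mul_single_apply_same, Matrix.single_mul_apply_same, mul_one, one_mul] at this
    exact this

theorem comm_single_of_comm_transvection {g : Matrix.SpecialLinearGroup (Fin n) K} {k l : Fin n}
    (hkl : k ≠ l) (h : g * transvection hkl 1 = transvection hkl 1 * g) :
    g.1 * Matrix.single k l 1 = Matrix.single k l 1 * g.1 := by
  have := congrArg Subtype.val h
  rw [Matrix.SpecialLinearGroup.coe_mul, Matrix.SpecialLinearGroup.coe_mul, transvection_coe,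
    Matrix.mul_add, Matrix.add_mul, Matrix.mul_one, Matrix.one_mul] at this
  exact add_left_cancel this

variable [Fintype K]

/-- The centre of `U` consists of the root elements for the highest root. -/
theorem eq_transvection_of_central {a b : Fin n} (ha : ∀ i, a ≤ i) (hb : ∀ i, i ≤ b)
    (hab : a ≠ b) {z : Matrix.SpecialLinearGroup (Fin n) K} (hz : z ∈ unitri n K)
    (hc : ∀ u ∈ unitri n K, z * u = u * z) : z = transvection hab (z.1 a b) := by
  apply Subtype.ext
  ext r s
  rw [transvection_coe, Matrix.add_apply, Matrix.single_apply]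
  by_cases hrs : r = s
  · subst hrs
    rw [hz.2 r, Matrix.one_apply_eq, if_neg, add_zero]
    rintro ⟨h1, h2⟩
    exact hab (h1.trans h2.symm)
  · rw [Matrix.one_apply_ne hrs, zero_add]
    by_cases h : a = r ∧ b = s
    · rw [if_pos h, h.1, h.2]
    · rw [if_neg h]
      by_cases hsb : s = b
      · have hra : r ≠ a := fun hra => h ⟨hra.symm, hsb.symm⟩
        have har : a < r := lt_of_le_of_ne (ha r) (Ne.symm hra)
        have hm := comm_single_of_comm_transvection (ne_of_lt har)
          (hc _ (transvection_mem_unitri har 1))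
        exact (entries_of_comm hm).2.1 s (Ne.symm hrs)
      · have hsb' : s < b := lt_of_le_of_ne (hb s) hsb
        have hm := comm_single_of_comm_transvection (ne_of_lt hsb')
          (hc _ (transvection_mem_unitri hsb' 1))
        exact (entries_of_comm hm).1 r hrs

/-- A nontrivial subgroup of `U` closed under fusion in `SL_n(K)` is `U` (`n ≥ 3`). -/
theorem eq_unitri_of_closed (p : ℕ) [Fact p.Prime] [CharP K p] {a m b : Fin n}
    (ha : ∀ i, a ≤ i) (hb : ∀ i, i ≤ b) (ham : a < m) (hmb : m < b)
    (T : Subgroup (Matrix.SpecialLinearGroup (Fin n) K)) (hTU : T ≤ unitri n K) (hT : T ≠ ⊥)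
    (hcl : ∀ t ∈ T, ∀ g : Matrix.SpecialLinearGroup (Fin n) K,
      g * t * g⁻¹ ∈ unitri n K → g * t * g⁻¹ ∈ T) : T = unitri n K := by
  have hab : a < b := ham.trans hmb
  have hnorm : ∀ u ∈ unitri n K, ∀ t ∈ T, u * t * u⁻¹ ∈ T := fun u hu t ht =>
    hcl t ht u (mul_mem (mul_mem hu (hTU ht)) (inv_mem hu))
  have : (T.subgroupOf (unitri n K)).Normal := by
    constructor
    intro t ht u
    rw [Subgroup.mem_subgroupOf] at ht ⊢
    exact hnorm u u.2 t ht
  have hT' : T.subgroupOf (unitri n K) ≠ ⊥ := by
    intro h
    apply hT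
    rw [eq_bot_iff]
    intro t ht
    have : (⟨t, hTU ht⟩ : unitri n K) ∈ T.subgroupOf (unitri n K) :=
      Subgroup.mem_subgroupOf.mpr ht
    rw [h, Subgroup.mem_bot] at this
    rw [Subgroup.mem_bot]
    exact congrArg Subtype.val this
  obtain ⟨z, hzT, hz1, hzc⟩ := exists_central_of_normal (isPGroup_unitri (n := n) (K := K) p) _ hT'
  have hz := eq_transvection_of_central ha hb (ne_of_lt hab) z.2 (fun u hu => by
    have := Subgroup.mem_center_iff.mp hzc ⟨u, hu⟩
    exact (congrArg Subtype.val this).symm)
  have hc0 : (z : Matrix.SpecialLinearGroup (Fin n) K).1 a b ≠ 0 := by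
    intro h0
    apply hz1
    apply Subtype.ext
    rw [hz, h0, transvection_coeff_zero]
    rfl
  have h1 : transvection (ne_of_lt hab) ((z : Matrix.SpecialLinearGroup (Fin n) K).1 a b) ∈ T := by
    rw [← hz]
    exact Subgroup.mem_subgroupOf.mp hzT
  generalize (z : Matrix.SpecialLinearGroup (Fin n) K).1 a b = c at hc0 h1
  -- Step A
  have stepA : ∀ j (haj : a < j) (hjb : j < b) (d : K),
      transvection (ne_of_lt hab) d ∈ T → transvection (ne_of_lt haj) d ∈ T := by
    intro j haj hjb d hd
    have hconj : transvection (ne_of_gt hjb) (1 : K) * transvection (ne_of_lt hab) d *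
        (transvection (ne_of_gt hjb) 1)⁻¹ =
        transvection (ne_of_lt haj) (-d) * transvection (ne_of_lt hab) d := by
      have hcomm := transvection_commutator (ne_of_lt hab) (ne_of_gt hjb) (ne_of_lt haj) d 1
      rw [mul_one] at hcomm
      have e : transvection (ne_of_gt hjb) (1 : K) * transvection (ne_of_lt hab) d *
          (transvection (ne_of_gt hjb) 1)⁻¹ =
          (transvection (ne_of_lt hab) d * transvection (ne_of_gt hjb) 1 *
            (transvection (ne_of_lt hab) d)⁻¹ * (transvection (ne_of_gt hjb) 1)⁻¹)⁻¹ *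
            transvection (ne_of_lt hab) d := by group
      rw [e, hcomm, transvection_inv]
    have hmem := hcl _ hd (transvection (ne_of_gt hjb) 1) (by
      rw [hconj]
      exact mul_mem (transvection_mem_unitri haj _) (transvection_mem_unitri hab _))
    rw [hconj] at hmem
    have h2 : transvection (ne_of_lt haj) (-d) ∈ T := by
      have := mul_mem hmem (inv_mem hd)
      rwa [mul_assoc, mul_inv_cancel, mul_one] at this
    have := inv_mem h2
    rwa [transvection_inv, neg_neg] at this
  -- Step B
  have hm1 : transvection (ne_of_lt ham) c ∈ T := stepA m ham hmb c h1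
  have stepB : ∀ d : K, transvection (ne_of_lt hab) d ∈ T := by
    intro d
    have hcomm := transvection_commutator (ne_of_lt ham) (ne_of_lt hmb) (ne_of_lt hab) c (c⁻¹ * d)
    rw [← mul_assoc, mul_inv_cancel₀ hc0, one_mul] at hcomm
    rw [← hcomm]
    have e : transvection (ne_of_lt ham) c * transvection (ne_of_lt hmb) (c⁻¹ * d) *
        (transvection (ne_of_lt ham) c)⁻¹ * (transvection (ne_of_lt hmb) (c⁻¹ * d))⁻¹ =
        transvection (ne_of_lt ham) c * (transvection (ne_of_lt hmb) (c⁻¹ * d) *
          (transvection (ne_of_lt ham) c)⁻¹ * (transvection (ne_of_lt hmb) (c⁻¹ * d))⁻¹) := by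
      group
    rw [e]
    exact mul_mem hm1 (hnorm _ (transvection_mem_unitri hmb _) _ (inv_mem hm1))
  -- Step C
  have stepC : ∀ j (haj : a < j) (d : K), transvection (ne_of_lt haj) d ∈ T := by
    intro j haj d
    by_cases hjb : j = b
    · subst hjb
      exact stepB d
    · exact stepA j haj (lt_of_le_of_ne (hb j) hjb) d (stepB d)
  -- Step D
  have stepD : ∀ i j (hij : i < j) (d : K), transvection (ne_of_lt hij) d ∈ T := by
    intro i j hij d
    by_cases hia : i = a
    · subst hia
      exact stepC j hij d
    · have hai : a < i := lt_of_le_of_ne (ha i) (Ne.symm hia)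
      have haj : a < j := hai.trans hij
      have hcomm := transvection_commutator (ne_of_gt hai) (ne_of_lt haj) (ne_of_lt hij) 1 d
      rw [one_mul] at hcomm
      have hconj : transvection (ne_of_gt hai) (1 : K) * transvection (ne_of_lt haj) d *
          (transvection (ne_of_gt hai) 1)⁻¹ =
          transvection (ne_of_lt hij) d * transvection (ne_of_lt haj) d := by
        rw [← hcomm]
        group
      have hmem := hcl _ (stepC j haj d) (transvection (ne_of_gt hai) 1) (by
        rw [hconj]
        exact mul_mem (transvection_mem_unitri hij _) (transvection_mem_unitri haj _))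
      rw [hconj] at hmem
      have := mul_mem hmem (inv_mem (stepC j haj d))
      rwa [mul_assoc, mul_inv_cancel, mul_one] at this
  apply le_antisymm hTU
  rw [← closure_rootSet_eq, Subgroup.closure_le]
  rintro x ⟨i, j, h, c, rfl⟩
  exact stepD i j h c

end Cfsg.Agent.Helper25.SLU
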