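import Mathlib
import Cfsg.Agent.Helper25.SpUC

set_option autoImplicit false

/-! Centralizer of the Siegel radical, and the centre of `U` in `Sp_{2m}(K)`. -/

namespace Cfsg.Agent.Helper25.SpU

open Matrix

variable {m : ℕ} {K : Type*} [Field K]

theorem comm_uS_blocks {A B C D S : Matrix (Fin m) (Fin m) K}
    (h : fromBlocks A B C D * uS S = uS S * fromBlocks A B C D) :
    S * C = 0 ∧ A * S = S * D ∧ C * S = 0 := by
  rw [uS, fromBlocks_multiply, fromBlocks_multiply, fromBlocks_inj] at h
  obtain ⟨h1, h2, -, h4⟩ := h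
  rw [mul_one, mul_zero, add_zero, one_mul] at h1
  rw [mul_one, one_mul, add_comm] at h2
  rw [mul_one, zero_mul, zero_add, one_mul] at h4
  exact ⟨left_eq_add.mp h1, add_left_cancel h2, add_right_cancel (h4.trans (zero_add D).symm)⟩

/-- a symplectic matrix commuting with the Siegel radical has `C = 0` and `A` diagonal -/
theorem diag_of_comm {g : symplecticGroup (Fin m) K}
    (hg : ∀ S : Matrix (Fin m) (Fin m) K, Sᵀ = S → g * uSg S = uSg S * g) :
    IsPar g.1 ∧ ∀ i k, i ≠ k → g.1.toBlocks₁₁ i k = 0 := by
  have key : ∀ k : Fin m, single k k (1 : K) * g.1.toBlocks₂₁ = 0 ∧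
      g.1.toBlocks₁₁ * single k k (1 : K) = single k k (1 : K) * g.1.toBlocks₂₂ := by
    intro k
    have hS : (single k k (1 : K))ᵀ = single k k 1 := transpose_single _ _ _
    have h1 : g.1 * uS (single k k (1 : K)) = uS (single k k 1) * g.1 := by
      have := congrArg Subtype.val (hg _ hS)
      rw [← uSg_val hS]
      exact this
    rw [← fromBlocks_toBlocks g.1] at h1
    have h2 := comm_uS_blocks h1
    exact ⟨h2.1, h2.2.1⟩
  constructor
  · intro i j
    have := congrFun (congrFun (key i).1 i) j
    rw [single_mul_apply_same, one_mul] at this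
    exact this
  · intro i k hik
    have := congrFun (congrFun (key k).2 i) k
    rw [mul_single_apply_same, mul_one, single_mul_apply_of_ne _ _ _ _ _ hik] at this
    exact this

variable [Fintype K]

/-- `p`-elements of the centralizer of the Siegel radical lie in it. -/
theorem mem_radS_of_centralizer (p : ℕ) [Fact p.Prime] [CharP K p]
    {g : symplecticGroup (Fin m) K}
    (hg : ∀ S : Matrix (Fin m) (Fin m) K, Sᵀ = S → g * uSg S = uSg S * g) {k : ℕ}
    (hk : g ^ (p ^ k) = 1) : g ∈ radS m K := by
  obtain ⟨hP, hd⟩ := diag_of_comm hg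
  have hup : SLU.IsUp g.1.toBlocks₁₁ := fun i j hji => hd i j (ne_of_gt hji)
  have hU : g ∈ uni m K := mem_uni_of_pow p ⟨hP, hup⟩ hk
  refine ⟨hP, ?_⟩
  ext i j
  by_cases hij : i = j
  · subst hij
    rw [hU.2.2 i, Matrix.one_apply_eq]
  · rw [hd i j hij, Matrix.one_apply_ne hij]

/-- the centre of `U` lies in the Siegel radical -/
theorem center_uni_le_radS {z : symplecticGroup (Fin m) K} (hz : z ∈ uni m K)
    (hc : ∀ u ∈ uni m K, z * u = u * z) : z ∈ radS m K := by
  obtain ⟨hP, hd⟩ := diag_of_comm (g := z)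
    (fun S hS => hc _ (radS_le_uni (uSg_mem_radS hS)))
  refine ⟨hP, ?_⟩
  ext i j
  by_cases hij : i = j
  · subst hij
    rw [hz.2.2 i, Matrix.one_apply_eq]
  · rw [hd i j hij, Matrix.one_apply_ne hij]

/-- shape of the central elements of `U` -/
theorem center_uni_form {i0 i1 : Fin m} (h0 : ∀ i, i0 ≤ i) (h1 : ∀ i, i0 < i → i1 ≤ i)
    (h01 : i0 < i1) {z : symplecticGroup (Fin m) K} (hz : z ∈ uni m K)
    (hc : ∀ u ∈ uni m K, z * u = u * z) :
    ∃ c d : K, 2 * d = 0 ∧
      z = uSg (single i0 i0 c + (single i0 i1 d + single i1 i0 d)) := by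
  have hR := center_uni_le_radS hz hc
  obtain ⟨e, hB⟩ := eq_uS_of_isR z.2 hR
  set B := z.1.toBlocks₁₂ with hBdef
  -- commutation with Levi transvections
  have hcomm : ∀ j k : Fin m, j < k → -(B * single k j (1 : K)) = single j k (1 : K) * B := by
    intro j k hjk
    have h2 := congrArg Subtype.val (hc _ (levT_mem_uni (K := K) hjk 1))
    have h3 : z.1 * (levT j k (1 : K)).1 = (levT j k (1 : K)).1 * z.1 := h2
    rw [levT_val (ne_of_lt hjk), e, uS, lev, fromBlocks_multiply, fromBlocks_multiply,
      fromBlocks_inj] at h3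
    have h4 := h3.2.1
    simp only [one_mul, mul_zero, zero_add, add_zero, mul_sub, mul_one, add_mul] at h4
    have h5 : B - B * single k j (1 : K) = B + single j k (1 : K) * B := h4
    have h6 : -(B * single k j (1 : K)) = single j k (1 : K) * B := by
      have := congrArg (fun X => X - B) h5
      simp only [sub_sub_cancel_left, add_sub_cancel_left] at this
      exact this
    exact h6
  have hstar : ∀ j k : Fin m, j < k → ∀ s, s ≠ j → B k s = 0 := by
    intro j k hjk s hs
    have := congrFun (congrFun (hcomm j k hjk) j) s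
    rw [Matrix.neg_apply, mul_single_apply_of_ne _ _ _ _ _ hs, single_mul_apply_same, one_mul,
      neg_zero] at this
    exact this.symm
  have hsym : ∀ r s, B r s = B s r := fun r s => by
    have := congrFun (congrFun hB s) r
    rw [Matrix.transpose_apply] at this
    exact this
  have h2d : 2 * B i0 i1 = 0 := by
    have := congrFun (congrFun (hcomm i0 i1 h01) i0) i0
    rw [Matrix.neg_apply, mul_single_apply_same, single_mul_apply_same, one_mul, mul_one] at this
    rw [hsym i1 i0] at this
    rw [two_mul]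
    exact (neg_eq_iff_add_eq_zero.mp this)
  refine ⟨B i0 i0, B i0 i1, h2d, ?_⟩
  have hBform : B = single i0 i0 (B i0 i0) + (single i0 i1 (B i0 i1) + single i1 i0 (B i0 i1)) := by
    ext r s
    simp only [Matrix.add_apply, Matrix.single_apply]
    -- zero entries
    have hz1 : ∀ r s : Fin m, i0 < r → s ≠ i0 → B r s = 0 := fun r s hr hs =>
      hstar i0 r hr s hs
    have hz2 : ∀ r : Fin m, i1 < r → B r i0 = 0 := fun r hr =>
      hstar i1 r hr i0 (ne_of_lt h01)
    by_cases hr : r = i0
    · subst hr
      by_cases hs : s = r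
      · subst hs
        have : ¬ (i1 = s) := fun h => (ne_of_lt h01) h.symm
        simp [this]
      · have hs' : r < s := lt_of_le_of_ne (h0 s) (Ne.symm hs)
        by_cases hs1 : s = i1
        · subst hs1
          have h3 : ¬ (r = s) := fun h => hs h.symm
          simp [h3]
        · have hs2 : i1 < s := lt_of_le_of_ne (h1 s hs') (Ne.symm hs1)
          have : B r s = 0 := by rw [hsym]; exact hz2 s hs2
          have h3 : ¬ (r = s) := fun h => hs h.symm
          have h4 : ¬ (i1 = s) := fun h => hs1 h.symm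
          have h5 : ¬ (i1 = r) := fun h => (ne_of_lt h01) h.symm
          simp [this, h3, h4, h5]
    · have hr' : i0 < r := lt_of_le_of_ne (h0 r) (Ne.symm hr)
      have h3 : ¬ (i0 = r) := fun h => hr h.symm
      by_cases hs : s = i0
      · subst hs
        by_cases hr1 : r = i1
        · subst hr1
          simp [h3, hsym r s]
        · have hr2 : i1 < r := lt_of_le_of_ne (h1 r hr') (Ne.symm hr1)
          have h4 : ¬ (i1 = r) := fun h => hr1 h.symm
          simp [hz2 r hr2, h3, h4]
      · have h4 : ¬ (i0 = s) := fun h => hs h.symm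
        simp [hz1 r s hr' hs, h3, h4]
  apply Subtype.ext
  rw [e]
  have hsymm : (single i0 i0 (B i0 i0) + (single i0 i1 (B i0 i1) + single i1 i0 (B i0 i1)))ᵀ =
      single i0 i0 (B i0 i0) + (single i0 i1 (B i0 i1) + single i1 i0 (B i0 i1)) := by
    rw [← hBform]
    exact hB
  rw [uSg_val hsymm, ← hBform]

end Cfsg.Agent.Helper25.SpU
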