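import Mathlib
import Cfsg.Agent.Helper25.SpUD

set_option autoImplicit false

/-! Conjugation formulas in `Sp_{2m}(K)` and the first steps of the strongly closed analysis. -/

namespace Cfsg.Agent.Helper25.SpU

open Matrix

variable {m : ℕ} {K : Type*} [Field K]

theorem conj_lS_uS {C S : Matrix (Fin m) (Fin m) K} (hC : Cᵀ = C) (hS : Sᵀ = S) :
    (lSg C * uSg S * (lSg C)⁻¹).1 = fromBlocks (1 - S * C) S (-(C * S * C)) (1 + C * S) := by
  rw [lSg_inv hC]
  show (lSg C).1 * (uSg S).1 * (lSg (-C)).1 = _
  rw [lSg_val hC, uSg_val hS, lSg_val (by rw [transpose_neg, hC]), lS, uS, lS,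
    fromBlocks_multiply, fromBlocks_multiply]
  congr 1 <;> noncomm_ring

theorem lev_conj {A A' S : Matrix (Fin m) (Fin m) K} (h : Aᵀ * A' = 1) (hS : Sᵀ = S) :
    levg A A' * uSg S * (levg A A')⁻¹ = uSg (A * S * Aᵀ) := by
  have hS' : (A * S * Aᵀ)ᵀ = A * S * Aᵀ := by
    rw [transpose_mul, transpose_mul, transpose_transpose, hS, mul_assoc]
  rw [mul_inv_eq_iff_eq_mul]
  apply Subtype.ext
  show (levg A A').1 * (uSg S).1 = (uSg (A * S * Aᵀ)).1 * (levg A A').1
  rw [levg_val h, uSg_val hS, uSg_val hS', lev, uS, uS, fromBlocks_multiply, fromBlocks_multiply]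
  congr 1
  · noncomm_ring
  · rw [mul_zero, zero_add, mul_assoc, h]
    noncomm_ring
  · noncomm_ring
  · noncomm_ring

theorem sym3 (j k : Fin m) (c d : K) :
    (single j j c + (single j k d + single k j d))ᵀ =
      single j j c + (single j k d + single k j d) := by
  rw [transpose_add, transpose_add, transpose_single, transpose_single, transpose_single,
    add_comm (single k j d)]

theorem sym2 (j k : Fin m) (d : K) :
    (single j k d + single k j d)ᵀ = single j k d + single k j d := by
  rw [transpose_add, transpose_single, transpose_single, add_comm]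

theorem sym1 (j : Fin m) (c : K) : (single j j c)ᵀ = single j j c := transpose_single _ _ _

variable [Fintype K]

/-- the conjugate of a root element by a lower root element -/
theorem conj_lower_mem_uni {j k : Fin m} (hjk : j < k) (c d : K) :
    (lSg (single k k (1 : K)) * uSg (single j j c + (single j k d + single k j d)) *
      (lSg (single k k (1 : K)))⁻¹).1 =
      fromBlocks (1 - single j k d) (single j j c + (single j k d + single k j d)) 0
        (1 + single k j d) := by
  have hne : j ≠ k := ne_of_lt hjk
  have hne' : k ≠ j := hne.symm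
  rw [conj_lS_uS (sym1 k 1) (sym3 j k c d)]
  have e1 : (single j j c + (single j k d + single k j d)) * single k k (1 : K) = single j k d := by
    simp [Matrix.add_mul, hne, hne']
  have e2 : single k k (1 : K) * (single j j c + (single j k d + single k j d)) = single k j d := by
    simp [Matrix.mul_add, hne, hne']
  rw [e1, mul_assoc, e1, e2, single_mul_single_of_ne _ _ _ _ hne', neg_zero]

end Cfsg.Agent.Helper25.SpU
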