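import Mathlib
import Cfsg.Agent.Helper25.SpUE
import Cfsg.Agent.Helper25.SLUnitriC

set_option autoImplicit false
set_option linter.unusedSimpArgs false
set_option linter.unusedSectionVars false
set_option linter.unusedVariables false

/-! Strongly closed subgroups of `U` in `Sp_{2m}(K)` contain a long root element. -/

namespace Cfsg.Agent.Helper25.SpU

open Matrix

variable {m : ℕ} {K : Type*} [Field K] [Fintype K]

/-- a subgroup of `U` closed under fusion in `Sp_{2m}(K)` -/
structure Closed (T : Subgroup (symplecticGroup (Fin m) K)) : Prop where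
  le : T ≤ uni m K
  cl : ∀ t ∈ T, ∀ g : symplecticGroup (Fin m) K, g * t * g⁻¹ ∈ uni m K → g * t * g⁻¹ ∈ T

variable {T : Subgroup (symplecticGroup (Fin m) K)}

theorem Closed.normal (hT : Closed T) {u : symplecticGroup (Fin m) K} (hu : u ∈ uni m K)
    {t : symplecticGroup (Fin m) K} (ht : t ∈ T) : u * t * u⁻¹ ∈ T :=
  hT.cl t ht u (mul_mem (mul_mem hu (hT.le ht)) (inv_mem hu))

theorem Closed.stepB1 (hT : Closed T) {j k : Fin m} (hjk : j < k) (c d : K)
    (hz : uSg (single j j c + (single j k d + single k j d)) ∈ T) :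
    uSg (single j j (c + d * d)) ∈ T := by
  have hne : j ≠ k := ne_of_lt hjk
  have hne' : k ≠ j := hne.symm
  obtain ⟨S₀, hS₀⟩ : ∃ S₀ : Matrix (Fin m) (Fin m) K,
      S₀ = single j j c + (single j k d + single k j d) := ⟨_, rfl⟩
  have hS₀s : S₀ᵀ = S₀ := by rw [hS₀]; exact sym3 j k c d
  obtain ⟨X, hX⟩ : ∃ X : symplecticGroup (Fin m) K,
      X = lSg (single k k (1 : K)) * uSg S₀ * (lSg (single k k (1 : K)))⁻¹ := ⟨_, rfl⟩
  have hXv : X.1 = fromBlocks (1 - single j k d) S₀ 0 (1 + single k j d) := by
    rw [hX, hS₀]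
    exact conj_lower_mem_uni hjk c d
  have hXU : X ∈ uni m K := by
    rw [mem_uni, hXv]
    refine ⟨fun a b => by simp, ?_⟩
    rw [toBlocks_fromBlocks₁₁]
    have := SLU.transvection_mem_unitri (K := K) hjk (-d)
    rw [SLU.mem_unitri, Matrix.SpecialLinearGroup.transvection_coe] at this
    have e : (1 : Matrix (Fin m) (Fin m) K) - single j k d = 1 + single j k (-d) := by
      rw [← single_neg, sub_eq_add_neg]
    rw [e]
    exact this
  have hXT : X ∈ T := by
    rw [hX]
    rw [hS₀]
    apply hT.cl _ hz
    rw [← hS₀, ← hX]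
    exact hXU
  have hY : uSg (single k k (1 : K)) ∈ uni m K := radS_le_uni (uSg_mem_radS (sym1 k 1))
  obtain ⟨S'', hS''⟩ : ∃ S'' : Matrix (Fin m) (Fin m) K,
      S'' = single k k (1 : K) - (single j k d + single k j d) + single j j (d * d) := ⟨_, rfl⟩
  have hS''s : S''ᵀ = S'' := by
    rw [hS'', transpose_add, transpose_sub, sym1, sym2, sym1]
  have hXY : X * uSg (single k k (1 : K)) = uSg S'' * X := by
    apply Subtype.ext
    show X.1 * (uSg (single k k (1 : K))).1 = (uSg S'').1 * X.1
    rw [hXv, uSg_val (sym1 k 1), uSg_val hS''s, uS, uS, fromBlocks_multiply, fromBlocks_multiply]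
    congr 1
    · simp
    · rw [hS'']
      simp only [Matrix.mul_add, Matrix.add_mul, Matrix.sub_mul, Matrix.mul_sub, one_mul, mul_one,
        single_mul_single_same, single_mul_single_of_ne _ _ _ _ hne,
        single_mul_single_of_ne _ _ _ _ hne', add_zero, zero_add, mul_zero, zero_mul, sub_zero]
      abel
    · simp
    · simp
  have hW : uSg S'' = X * uSg (single k k (1 : K)) * X⁻¹ := eq_mul_inv_of_mul_eq hXY.symm
  have h1 : uSg S'' * (uSg (single k k (1 : K)))⁻¹ ∈ T := by
    have e : uSg S'' * (uSg (single k k (1 : K)))⁻¹ =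
        X * (uSg (single k k (1 : K)) * X⁻¹ * (uSg (single k k (1 : K)))⁻¹) := by
      rw [hW]; group
    rw [e]
    exact mul_mem hXT (hT.normal hY (inv_mem hXT))
  have h2 : uSg S'' * (uSg (single k k (1 : K)))⁻¹ * uSg S₀ ∈ T := by
    rw [hS₀]
    exact mul_mem h1 hz
  have hneg : (-(single k k (1 : K)))ᵀ = -(single k k (1 : K)) := by
    rw [transpose_neg, sym1]
  rw [uSg_inv (sym1 k 1), uSg_mul hS''s hneg,
    uSg_mul (by rw [transpose_add, hS''s, hneg]) hS₀s] at h2
  have e3 : S'' + -single k k (1 : K) + S₀ = single j j (c + d * d) := by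
    rw [hS'', hS₀, single_add]
    abel
  rw [e3] at h2
  exact h2

/-- a nontrivial fusion-closed subgroup of `U` contains a long root element -/
theorem Closed.exists_long (p : ℕ) [Fact p.Prime] [CharP K p] (hT : Closed T) (hTne : T ≠ ⊥)
    {i0 i1 : Fin m} (h0 : ∀ i, i0 ≤ i) (h1 : ∀ i, i0 < i → i1 ≤ i) (h01 : i0 < i1)
    (hmq : (∃ i2 : Fin m, i1 < i2) ∨ 3 ≤ Fintype.card K) :
    ∃ a : K, a ≠ 0 ∧ uSg (single i0 i0 a) ∈ T := by
  have hne : i0 ≠ i1 := ne_of_lt h01
  have : (T.subgroupOf (uni m K)).Normal := by
    constructor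
    intro t ht u
    rw [Subgroup.mem_subgroupOf] at ht ⊢
    exact hT.normal u.2 ht
  have hT' : T.subgroupOf (uni m K) ≠ ⊥ := by
    intro h
    apply hTne
    rw [eq_bot_iff]
    intro t ht
    have : (⟨t, hT.le ht⟩ : uni m K) ∈ T.subgroupOf (uni m K) :=
      Subgroup.mem_subgroupOf.mpr ht
    rw [h, Subgroup.mem_bot] at this
    rw [Subgroup.mem_bot]
    exact congrArg Subtype.val this
  obtain ⟨z, hzT, hz1, hzc⟩ :=
    SLU.exists_central_of_normal (isPGroup_uni (m := m) (K := K) p) _ hT'
  obtain ⟨c, d, h2d, hz⟩ := center_uni_form h0 h1 h01 z.2 (fun u hu => by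
    have := Subgroup.mem_center_iff.mp hzc ⟨u, hu⟩
    exact (congrArg Subtype.val this).symm)
  have hzT' : uSg (single i0 i0 c + (single i0 i1 d + single i1 i0 d)) ∈ T := by
    rw [← hz]
    exact Subgroup.mem_subgroupOf.mp hzT
  by_cases hcd : c + d * d = 0
  · have hd : d ≠ 0 := by
      intro hd
      rw [hd, mul_zero, add_zero] at hcd
      apply hz1
      apply Subtype.ext
      rw [hz, hcd, hd]
      simp only [single_zero, add_zero]
      exact uSg_zero
    rcases hmq with ⟨i2, h12⟩ | hq
    · have h02 : i0 < i2 := h01.trans h12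
      have hA := levT_aux (K := K) (ne_of_gt h12) 1
      have hc1 := lev_conj hA (sym3 i0 i1 c d)
      have e : (1 + single i2 i1 (1 : K)) * (single i0 i0 c + (single i0 i1 d + single i1 i0 d)) *
          (1 + single i2 i1 (1 : K))ᵀ =
          (single i0 i0 c + (single i0 i1 d + single i1 i0 d)) +
            (single i0 i2 d + single i2 i0 d) := by
        rw [transpose_add, transpose_one, transpose_single]
        simp only [Matrix.mul_add, Matrix.add_mul, one_mul, mul_one, single_mul_single_same,
          single_mul_single_of_ne _ _ _ _ hne, single_mul_single_of_ne _ _ _ _ hne.symm,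
          add_zero, zero_add, mul_zero, zero_mul]
        abel
      rw [e] at hc1
      have hmem : uSg ((single i0 i0 c + (single i0 i1 d + single i1 i0 d)) +
          (single i0 i2 d + single i2 i0 d)) ∈ T := by
        rw [← hc1]
        apply hT.cl _ hzT'
        rw [hc1]
        exact radS_le_uni (uSg_mem_radS (by rw [transpose_add, sym3, sym2]))
      rw [← uSg_mul (sym3 i0 i1 c d) (sym2 i0 i2 d)] at hmem
      have h3 : uSg (single i0 i2 d + single i2 i0 d) ∈ T := by
        have := mul_mem (inv_mem hzT') hmem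
        rwa [← mul_assoc, inv_mul_cancel, one_mul] at this
      have h4 : uSg (single i0 i0 0 + (single i0 i2 d + single i2 i0 d)) ∈ T := by
        rw [single_zero, zero_add]
        exact h3
      have h5 := hT.stepB1 h02 0 d h4
      exact ⟨0 + d * d, by rw [zero_add]; exact mul_ne_zero hd hd, h5⟩
    · -- torus conjugation
      have h2 : (2 : K) = 0 := by
        rcases mul_eq_zero.mp h2d with h | h
        · exact h
        · exact absurd h hd
      obtain ⟨μ, hμ0, hμ1⟩ : ∃ μ : K, μ ≠ 0 ∧ μ ≠ 1 := by
        have hlt : 2 < Fintype.card K := by omega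
        obtain ⟨a, b, c', hab, hac, hbc⟩ := Fintype.two_lt_card_iff.mp hlt
        by_cases ha0 : a = 0
        · by_cases hb1 : b = 1
          · refine ⟨c', ?_, ?_⟩
            · rw [← ha0]; exact Ne.symm hac
            · rw [← hb1]; exact Ne.symm hbc
          · exact ⟨b, by rw [← ha0]; exact Ne.symm hab, hb1⟩
        · by_cases ha1 : a = 1
          · by_cases hb0 : b = 0
            · refine ⟨c', ?_, ?_⟩
              · rw [← hb0]; exact Ne.symm hbc
              · rw [← ha1]; exact Ne.symm hac
            · exact ⟨b, hb0, by rw [← ha1]; exact Ne.symm hab⟩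
          · exact ⟨a, ha0, ha1⟩
      have hA : (1 + single i1 i1 (μ - 1))ᵀ * (1 + single i1 i1 (μ⁻¹ - 1)) = 1 := by
        rw [transpose_add, transpose_one, transpose_single]
        simp only [Matrix.mul_add, Matrix.add_mul, one_mul, mul_one, single_mul_single_same]
        rw [add_assoc, ← single_add, ← single_add]
        have : μ - 1 + (μ⁻¹ - 1 + (μ - 1) * (μ⁻¹ - 1)) = 0 := by
          field_simp
          ring
        rw [this, single_zero, add_zero]
      have hc1 := lev_conj hA (sym3 i0 i1 c d)
      have e : (1 + single i1 i1 (μ - 1)) * (single i0 i0 c + (single i0 i1 d + single i1 i0 d)) *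
          (1 + single i1 i1 (μ - 1))ᵀ =
          single i0 i0 c + (single i0 i1 (d * μ) + single i1 i0 (d * μ)) := by
        have h10 : i1 ≠ i0 := hne.symm
        rw [transpose_add, transpose_one, transpose_single]
        simp only [Matrix.mul_add, Matrix.add_mul, one_mul, mul_one, single_mul_single_same,
          single_mul_single_of_ne _ _ _ _ hne, single_mul_single_of_ne _ _ _ _ h10, add_zero,
          zero_add, mul_zero, zero_mul]
        have e1 : single i0 i1 (d * μ) = single i0 i1 d + single i0 i1 (d * (μ - 1)) := by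
          rw [← single_add]; congr 1; ring
        have e2 : single i1 i0 (d * μ) = single i1 i0 d + single i1 i0 ((μ - 1) * d) := by
          rw [← single_add]; congr 1; ring
        rw [e1, e2]
        abel
      rw [e] at hc1
      have hmem : uSg (single i0 i0 c + (single i0 i1 (d * μ) + single i1 i0 (d * μ))) ∈ T := by
        rw [← hc1]
        apply hT.cl _ hzT'
        rw [hc1]
        exact radS_le_uni (uSg_mem_radS (sym3 _ _ _ _))
      have h5 := hT.stepB1 h01 c (d * μ) hmem
      refine ⟨c + d * μ * (d * μ), ?_, h5⟩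
      have hc : c = -(d * d) := eq_neg_of_add_eq_zero_left hcd
      have hneg : (-1 : K) = 1 := by
        have : (1 : K) + 1 = 0 := by rw [one_add_one_eq_two]; exact h2
        exact neg_eq_of_add_eq_zero_left this
      have e5 : c + d * μ * (d * μ) = d * d * ((μ - 1) * (μ - 1)) := by
        have : (μ - 1) * (μ - 1) = μ * μ - 2 * μ + 1 := by ring
        rw [this, h2, zero_mul, sub_zero, hc]
        have h3 : -(d * d) = d * d := by
          have : -(d * d) = (-1 : K) * (d * d) := by ring
          rw [this, hneg, one_mul]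
        rw [h3]
        ring
      rw [e5]
      exact mul_ne_zero (mul_ne_zero hd hd) (mul_ne_zero (sub_ne_zero.mpr hμ1) (sub_ne_zero.mpr hμ1))
  · exact ⟨c + d * d, hcd, hT.stepB1 h01 c d hzT'⟩

end Cfsg.Agent.Helper25.SpU
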