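import Mathlib
import Cfsg.Agent.Helper25.SpUF
import Cfsg.Agent.Helper2.SpPerfect

set_option autoImplicit false
set_option linter.unusedSimpArgs false
set_option linter.unusedSectionVars false
set_option linter.unusedVariables false

/-! A fusion-closed subgroup of `U` containing a long root element contains the Siegel radical. -/

namespace Cfsg.Agent.Helper25.SpU

open Matrix Cfsg.Agent.Helper2

variable {m : ℕ} {K : Type*} [Field K]

theorem T_elim (w : Fin m → K) (c : K) :
    Sp.T (Sum.elim w 0) c = uS ((-c) • vecMulVec w w) := by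
  ext (i | i) (j | j)
  · simp [Sp.T, uS, vecMulVec_apply, vecMul, dotProduct, J, Fintype.sum_sum_type, Matrix.one_apply]
  · simp [Sp.T, uS, vecMulVec_apply, vecMul, dotProduct, J, Fintype.sum_sum_type, Matrix.one_apply]
  · simp [Sp.T, uS, vecMulVec_apply, vecMul, dotProduct, J, Fintype.sum_sum_type, Matrix.one_apply]
  · simp [Sp.T, uS, vecMulVec_apply, vecMul, dotProduct, J, Fintype.sum_sum_type, Matrix.one_apply]

theorem vecMulVec_single_single (j k : Fin m) (b c : K) :
    vecMulVec (Pi.single j b) (Pi.single k c) = single j k (b * c) := by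
  ext r s
  rw [vecMulVec_apply, single_apply, Pi.single_apply, Pi.single_apply]
  by_cases h1 : r = j
  · by_cases h2 : s = k
    · subst h1; subst h2; simp
    · have : ¬ (k = s) := fun h => h2 h.symm
      simp [h2, this]
  · have : ¬ (j = r) := fun h => h1 h.symm
    simp [h1, this]

theorem sym_smul_vecMulVec (a : K) (w : Fin m → K) :
    (a • vecMulVec w w)ᵀ = a • vecMulVec w w := by
  rw [transpose_smul, transpose_vecMulVec]

variable [Fintype K] {T : Subgroup (symplecticGroup (Fin m) K)}

/-- all conjugates of a long root element inside the Siegel radical -/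
theorem Closed.rank_one (hT : Closed T) {i0 : Fin m} {a : K} (ha : uSg (single i0 i0 a) ∈ T)
    (w : Fin m → K) : uSg (a • vecMulVec w w) ∈ T := by
  by_cases hw : w = 0
  · subst hw
    rw [vecMulVec_zero, smul_zero, uSg_zero]
    exact one_mem T
  have hsym := sym_smul_vecMulVec a w
  have e1 : uSg (single i0 i0 a) = Sp.Tg (Sum.elim (Pi.single i0 1) 0) (-a) := by
    apply Subtype.ext
    rw [uSg_val (sym1 i0 a)]
    show _ = Sp.T _ _
    rw [T_elim, neg_neg, vecMulVec_single_single, mul_one, smul_single, smul_eq_mul, mul_one]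
  have e2 : uSg (a • vecMulVec w w) = Sp.Tg (Sum.elim w 0) (-a) := by
    apply Subtype.ext
    rw [uSg_val hsym]
    show _ = Sp.T _ _
    rw [T_elim, neg_neg]
  have hv : (Sum.elim (Pi.single i0 (1 : K)) 0 : Fin m ⊕ Fin m → K) ≠ 0 := by
    intro h
    have := congrFun h (Sum.inl i0)
    simp at this
  have hw' : (Sum.elim w 0 : Fin m ⊕ Fin m → K) ≠ 0 := by
    intro h
    apply hw
    funext i
    exact congrFun h (Sum.inl i)
  obtain ⟨g, hg⟩ := Sp.exists_symplectic_mulVec_eq _ _ hv hw'
  have h3 := Sp.conj_Tg g (Sum.elim (Pi.single i0 1) 0) (-a)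
  rw [hg, ← e1, ← e2] at h3
  rw [← h3]
  apply hT.cl _ ha
  rw [h3]
  exact radS_le_uni (uSg_mem_radS hsym)

/-- the symmetric matrices whose root element lies in `T` -/
def symT (T : Subgroup (symplecticGroup (Fin m) K)) : AddSubgroup (Matrix (Fin m) (Fin m) K) where
  carrier := {S | Sᵀ = S ∧ uSg S ∈ T}
  zero_mem' := ⟨transpose_zero, by rw [uSg_zero]; exact one_mem T⟩
  add_mem' := fun ha hb => ⟨by rw [transpose_add, ha.1, hb.1], by
    rw [← uSg_mul ha.1 hb.1]; exact mul_mem ha.2 hb.2⟩
  neg_mem' := fun ha => ⟨by rw [transpose_neg, ha.1], by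
    rw [← uSg_inv ha.1]; exact inv_mem ha.2⟩

theorem mem_symT {S : Matrix (Fin m) (Fin m) K} : S ∈ symT T ↔ Sᵀ = S ∧ uSg S ∈ T := Iff.rfl

theorem Closed.pair_mem (hT : Closed T) {i0 : Fin m} {a : K} (ha0 : a ≠ 0)
    (ha : uSg (single i0 i0 a) ∈ T) (j k : Fin m) (x : K) :
    single j k x + single k j x ∈ symT T := by
  have h1 : ∀ w : Fin m → K, a • vecMulVec w w ∈ symT T := fun w =>
    ⟨sym_smul_vecMulVec a w, hT.rank_one ha w⟩
  have h2 : ∀ v w : Fin m → K, a • (vecMulVec v w + vecMulVec w v) ∈ symT T := by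
    intro v w
    have e : a • (vecMulVec v w + vecMulVec w v) =
        a • vecMulVec (v + w) (v + w) - a • vecMulVec v v - a • vecMulVec w w := by
      rw [add_vecMulVec, vecMulVec_add, vecMulVec_add, smul_add, smul_add, smul_add, smul_add]
      abel
    rw [e]
    exact sub_mem (sub_mem (h1 _) (h1 _)) (h1 _)
  have h3 := h2 (Pi.single j (a⁻¹ * x)) (Pi.single k 1)
  rw [vecMulVec_single_single, vecMulVec_single_single, mul_one, one_mul, smul_add, smul_single,
    smul_single, smul_eq_mul, ← mul_assoc, mul_inv_cancel₀ ha0, one_mul] at h3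
  exact h3

theorem Closed.diag_mem (hT : Closed T) {i0 : Fin m} {a : K} (ha0 : a ≠ 0)
    (ha : uSg (single i0 i0 a) ∈ T) (j : Fin m) (x : K) : single j j x ∈ symT T := by
  by_cases h2 : (2 : K) = 0
  · have hchar : ringChar K = 2 := CharP.ringChar_of_prime_eq_zero Nat.prime_two (by exact_mod_cast h2)
    obtain ⟨s, hs⟩ := FiniteField.isSquare_of_char_two hchar (a⁻¹ * x)
    have h1 : a • vecMulVec (Pi.single j s) (Pi.single j s) ∈ symT T :=
      ⟨sym_smul_vecMulVec a _, hT.rank_one ha _⟩
    rw [vecMulVec_single_single, ← hs, smul_single, smul_eq_mul, ← mul_assoc,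
      mul_inv_cancel₀ ha0, one_mul] at h1
    exact h1
  · have h1 := hT.pair_mem ha0 ha j j (x / 2)
    rw [← single_add] at h1
    have : x / 2 + x / 2 = x := by field_simp; ring
    rw [this] at h1
    exact h1

theorem Closed.symT_eq (hT : Closed T) {i0 : Fin m} {a : K} (ha0 : a ≠ 0)
    (ha : uSg (single i0 i0 a) ∈ T) {S : Matrix (Fin m) (Fin m) K} (hS : Sᵀ = S) :
    S ∈ symT T := by
  obtain ⟨M, hM⟩ : ∃ M : Matrix (Fin m) (Fin m) K, M = Matrix.of fun j k => if j < k then S j k else 0 :=
    ⟨_, rfl⟩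
  have hsymm : ∀ r s, S r s = S s r := fun r s => by
    have := congrFun (congrFun hS s) r
    rw [Matrix.transpose_apply] at this
    exact this
  have hdec : S = diagonal (fun j => S j j) + (M + Mᵀ) := by
    ext r s
    rw [Matrix.add_apply, Matrix.add_apply, Matrix.transpose_apply, hM]
    simp only [Matrix.of_apply]
    rcases lt_trichotomy r s with h | h | h
    · rw [diagonal_apply_ne _ (ne_of_lt h), if_pos h, if_neg (not_lt.mpr h.le)]
      ring
    · subst h
      rw [diagonal_apply_eq, if_neg (lt_irrefl r)]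
      ring
    · rw [diagonal_apply_ne _ (ne_of_gt h), if_neg (not_lt.mpr h.le), if_pos h, hsymm s r]
      ring
  have hMM : M + Mᵀ = ∑ j, ∑ k, (single j k (M j k) + single k j (M j k)) := by
    conv_lhs => rw [matrix_eq_sum_single M]
    simp only [transpose_sum, transpose_single, ← Finset.sum_add_distrib]
  rw [hdec]
  apply add_mem
  · rw [← sum_single_eq_diagonal]
    exact sum_mem (fun j _ => hT.diag_mem ha0 ha j _)
  · rw [hMM]
    exact sum_mem (fun j _ => sum_mem (fun k _ => hT.pair_mem ha0 ha j k _))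

/-- the Siegel radical lies in `T` -/
theorem Closed.radS_le (hT : Closed T) {i0 : Fin m} {a : K} (ha0 : a ≠ 0)
    (ha : uSg (single i0 i0 a) ∈ T) : radS m K ≤ T := by
  intro g hg
  obtain ⟨e, hB⟩ := eq_uS_of_isR g.2 hg
  have : g = uSg g.1.toBlocks₁₂ := by
    apply Subtype.ext
    rw [uSg_val hB]
    exact e
  rw [this]
  exact (hT.symT_eq ha0 ha hB).2

end Cfsg.Agent.Helper25.SpU
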