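import Mathlib
import Cfsg.Agent.Helper25.SpUG

set_option autoImplicit false
set_option linter.unusedSimpArgs false
set_option linter.unusedSectionVars false
set_option linter.unusedVariables false

/-! The Levi embedding `SL_m → Sp_{2m}`; a fusion-closed subgroup of `U` containing the Siegel
radical is `U`. -/

namespace Cfsg.Agent.Helper25.SpU

open Matrix Matrix.SpecialLinearGroup

variable {m : ℕ} {K : Type*} [Field K]

theorem Lam_aux (A : Matrix.SpecialLinearGroup (Fin m) K) : A.1ᵀ * ((A⁻¹).1)ᵀ = 1 := by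
  rw [← transpose_mul, ← Matrix.SpecialLinearGroup.coe_mul, inv_mul_cancel,
    Matrix.SpecialLinearGroup.coe_one, transpose_one]

/-- the Levi embedding -/
noncomputable def Lam : Matrix.SpecialLinearGroup (Fin m) K →* symplecticGroup (Fin m) K where
  toFun A := levg A.1 ((A⁻¹).1)ᵀ
  map_one' := by
    apply Subtype.ext
    rw [levg_val (Lam_aux 1)]
    simp [lev]
  map_mul' A B := by
    apply Subtype.ext
    show (levg (A * B).1 (((A * B)⁻¹).1)ᵀ).1 = (levg A.1 ((A⁻¹).1)ᵀ).1 * (levg B.1 ((B⁻¹).1)ᵀ).1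
    rw [levg_val (Lam_aux _), levg_val (Lam_aux A), levg_val (Lam_aux B), lev, lev, lev,
      fromBlocks_multiply, _root_.mul_inv_rev, Matrix.SpecialLinearGroup.coe_mul,
      Matrix.SpecialLinearGroup.coe_mul, transpose_mul]
    simp

theorem Lam_val (A : Matrix.SpecialLinearGroup (Fin m) K) :
    (Lam A).1 = lev A.1 ((A⁻¹).1)ᵀ :=
  levg_val (Lam_aux A)

theorem Lam_transvection {j k : Fin m} (h : j ≠ k) (c : K) :
    Lam (transvection h c) = levT j k c := by
  apply Subtype.ext
  rw [Lam_val, levT_val h, transvection_inv, transvection_coe, transvection_coe, transpose_add,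
    transpose_one, transpose_single, ← single_neg, sub_eq_add_neg]

variable [Fintype K] {T : Subgroup (symplecticGroup (Fin m) K)}

theorem conj_lower_isU {j k : Fin m} (hjk : j < k) (d : K) (S D : Matrix (Fin m) (Fin m) K) :
    IsU (fromBlocks (1 - single j k d) S 0 D) := by
  refine ⟨fun a b => by simp, ?_⟩
  rw [toBlocks_fromBlocks₁₁]
  have := SLU.transvection_mem_unitri (K := K) hjk (-d)
  rw [SLU.mem_unitri, Matrix.SpecialLinearGroup.transvection_coe] at this
  have e : (1 : Matrix (Fin m) (Fin m) K) - single j k d = 1 + single j k (-d) := by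
    rw [← single_neg, sub_eq_add_neg]
  rw [e]
  exact this

theorem Lam_mem_parS (A : Matrix.SpecialLinearGroup (Fin m) K) : Lam A ∈ parS m K := by
  rw [mem_parS, Lam_val]
  exact isPar_lev _ _

theorem Closed.levT_mem (hT : Closed T) (hR : radS m K ≤ T) {j k : Fin m} (hjk : j < k) (d : K) :
    levT j k d ∈ T := by
  have hne : j ≠ k := ne_of_lt hjk
  obtain ⟨S, hS⟩ : ∃ S : Matrix (Fin m) (Fin m) K,
      S = single j j 0 + (single j k d + single k j d) := ⟨_, rfl⟩
  obtain ⟨X, hX⟩ : ∃ X : symplecticGroup (Fin m) K,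
      X = lSg (single k k (1 : K)) * uSg S * (lSg (single k k (1 : K)))⁻¹ := ⟨_, rfl⟩
  have hXv : X.1 = fromBlocks (1 - single j k d) S 0 (1 + single k j d) := by
    rw [hX, hS]
    exact conj_lower_mem_uni hjk 0 d
  have hXU : X ∈ uni m K := by
    rw [mem_uni, hXv]
    exact conj_lower_isU hjk d _ _
  have hST : uSg S ∈ T := hR (uSg_mem_radS (by rw [hS]; exact sym3 j k 0 d))
  have hXT : X ∈ T := by
    rw [hX]
    apply hT.cl _ hST
    rw [← hX]
    exact hXU
  have hY : levT j k d * X ∈ radS m K := by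
    have h1 : levT j k d ∈ uni m K := levT_mem_uni hjk d
    refine ⟨IsPar.mul h1.1 hXU.1, ?_⟩
    show ((levT j k d).1 * X.1).toBlocks₁₁ = 1
    rw [IsPar.block_mul _ hXU.1, levT_val hne, lev_block, hXv, toBlocks_fromBlocks₁₁]
    simp only [Matrix.mul_sub, Matrix.add_mul, one_mul, mul_one,
      single_mul_single_of_ne _ _ _ _ hne.symm]
    abel
  have : levT j k d = levT j k d * X * X⁻¹ := by group
  rw [this]
  exact mul_mem (hR hY) (inv_mem hXT)

/-- a fusion-closed subgroup of `U` containing the Siegel radical is `U` -/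
theorem Closed.eq_uni (hT : Closed T) (hR : radS m K ≤ T) : T = uni m K := by
  apply le_antisymm hT.le
  intro g hg
  have hdet : g.1.toBlocks₁₁.det = 1 := by
    rw [Matrix.det_of_isUpperTriangular (M := g.1.toBlocks₁₁) (fun i j h => hg.2.1 i j h)]
    apply Finset.prod_eq_one
    intro i _
    exact hg.2.2 i
  obtain ⟨A, hA⟩ : ∃ A : Matrix.SpecialLinearGroup (Fin m) K, A = ⟨g.1.toBlocks₁₁, hdet⟩ :=
    ⟨_, rfl⟩
  have hA1 : A.1 = g.1.toBlocks₁₁ := by rw [hA]
  have hAU : A ∈ SLU.unitri m K := by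
    rw [SLU.mem_unitri, hA1]
    exact hg.2
  have h1 : Lam A ∈ T := by
    have : SLU.unitri m K ≤ T.comap Lam := by
      rw [← SLU.closure_rootSet_eq, Subgroup.closure_le]
      rintro x ⟨i, j, h, c, rfl⟩
      show Lam (transvection _ c) ∈ T
      rw [Lam_transvection]
      exact hT.levT_mem hR h c
    exact this hAU
  have h2 : (Lam A)⁻¹ * g ∈ radS m K := by
    refine ⟨IsPar.mul (inv_mem (Lam_mem_parS A)) hg.1, ?_⟩
    show (((Lam A)⁻¹).1 * g.1).toBlocks₁₁ = 1
    rw [IsPar.block_mul _ hg.1, ← map_inv, Lam_val, lev_block, ← hA1,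
      ← Matrix.SpecialLinearGroup.coe_mul, inv_mul_cancel, Matrix.SpecialLinearGroup.coe_one]
  have : g = Lam A * ((Lam A)⁻¹ * g) := by group
  rw [this]
  exact mul_mem h1 (hR h2)

/-- nontrivial fusion-closed subgroups of `U` are equal to `U` -/
theorem Closed.eq_uni_of_ne_bot (p : ℕ) [Fact p.Prime] [CharP K p] (hT : Closed T) (hTne : T ≠ ⊥)
    {i0 i1 : Fin m} (h0 : ∀ i, i0 ≤ i) (h1 : ∀ i, i0 < i → i1 ≤ i) (h01 : i0 < i1)
    (hmq : (∃ i2 : Fin m, i1 < i2) ∨ 3 ≤ Fintype.card K) : T = uni m K := by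
  obtain ⟨a, ha0, ha⟩ := hT.exists_long p hTne h0 h1 h01 hmq
  exact hT.eq_uni (hT.radS_le ha0 ha)

end Cfsg.Agent.Helper25.SpU
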