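import Mathlib
import Cfsg.Prelude.Def_Classical
import Cfsg.Prelude.Def_ClassicalGeometry
import Cfsg.Prelude.Def_Characters
import Cfsg.Prelude.Def_LieExceptional
import Cfsg.Agent.Helper8.MatBNDefs
import Cfsg.Agent.Helper8.S2546Defs
import Cfsg.Agent.Helper28.S2546MODEL
import Cfsg.Agent.S0780

set_option autoImplicit false
open scoped Matrix

/-! S2546 piece TRANSGEN (driver helper8): `SUJ σ n` is generated by unitary transvections
(transport of the landed S0780 through MODEL). -/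

namespace Cfsg.Agent.S2546P

open Cfsg.Agent.MatBN

variable {K : Type*} [Field K]

namespace TRANSGEN

/-- `hJ y u` as a dot product -/
theorem hJ_eq_dot (σ : K →+* K) (n : ℕ) (y u : Fin n → K) :
    hJ σ n y u = (fun j => σ (u j.rev)) ⬝ᵥ y := by
  unfold hJ dotProduct
  apply Finset.sum_congr rfl
  intro i _
  ring

/-- `hermForm x v` as a dot product -/
theorem hermForm_eq_dot (n q : ℕ) (x v : Fin n → K) :
    Cfsg.hermForm n K q x v = (fun j => (v j) ^ q) ⬝ᵥ x := by
  unfold Cfsg.hermForm dotProduct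
  apply Finset.sum_congr rfl
  intro i _
  ring

/-- the action of `1 + c • vecMulVec v w` -/
theorem transv_mulVec {n : ℕ} (v w y : Fin n → K) (c : K) :
    (1 + c • Matrix.vecMulVec v w) *ᵥ y = y + (c * (w ⬝ᵥ y)) • v := by
  rw [Matrix.add_mulVec, Matrix.one_mulVec, Matrix.smul_mulVec, Matrix.vecMulVec_mulVec]
  congr 1
  ext i
  simp only [Pi.smul_apply, MulOpposite.smul_eq_mul_unop, MulOpposite.unop_op, smul_eq_mul]
  ring

end TRANSGEN

open TRANSGEN in
theorem closure_transvections [Fintype K] {q : ℕ} (hK : Fintype.card K = q ^ 2) (σ : K →+* K)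
    (hσq : ∀ x, σ x = x ^ q) (hσ : ∀ x, σ (σ x) = x) (n : ℕ) (hn : 3 ≤ n)
    (h32 : ¬ (n = 3 ∧ q = 2)) :
    Subgroup.closure {A : SUJ σ n | ∃ (v : Fin n → K) (c : K), hJ σ n v v = 0 ∧
      rho σ n A = 1 + c • Matrix.vecMulVec v (fun j => σ (v j.rev))} = ⊤ := by
  classical
  obtain ⟨P, e, hP, he⟩ := exists_model hK σ hσq hσ n
  have h0780 := Cfsg.Agent.S0780.result hK n hn h32
  have hPP : (P : Matrix (Fin n) (Fin n) K) *
      ((P⁻¹ : Matrix.GeneralLinearGroup (Fin n) K) : Matrix (Fin n) (Fin n) K) = 1 := by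
    rw [← Units.val_mul, mul_inv_cancel, Units.val_one]
  -- the image of a transvection is a transvection
  have himg : ∀ A : ↥(Cfsg.SU n K q), (∃ (v : Fin n → K) (c : K), Cfsg.hermForm n K q v v = 0 ∧
      ((A : Matrix.SpecialLinearGroup (Fin n) K) : Matrix (Fin n) (Fin n) K) =
        Cfsg.unitaryTransvection n q v c) →
      e A ∈ {A : SUJ σ n | ∃ (v : Fin n → K) (c : K), hJ σ n v v = 0 ∧
        rho σ n A = 1 + c • Matrix.vecMulVec v (fun j => σ (v j.rev))} := by
    rintro A ⟨v, c, hv, hA⟩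
    refine ⟨(P : Matrix (Fin n) (Fin n) K) *ᵥ v, c, by rw [hP, hv], ?_⟩
    rw [he, hA]
    unfold Cfsg.unitaryTransvection
    apply Matrix.toLin'.injective
    apply LinearMap.ext
    intro y
    rw [Matrix.toLin'_apply, Matrix.toLin'_apply, ← Matrix.mulVec_mulVec, ← Matrix.mulVec_mulVec,
      transv_mulVec, transv_mulVec, Matrix.mulVec_add, Matrix.mulVec_mulVec, hPP,
      Matrix.one_mulVec, Matrix.mulVec_smul]
    congr 2
    -- the two linear functionals agree
    rw [← hermForm_eq_dot, ← hJ_eq_dot, ← hP, Matrix.mulVec_mulVec, hPP, Matrix.one_mulVec]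
  rw [eq_top_iff]
  intro g _
  have hg : e.symm g ∈ (⊤ : Subgroup ↥(Cfsg.SU n K q)) := trivial
  rw [← h0780] at hg
  have hmap := Subgroup.mem_map_of_mem e.toMonoidHom hg
  rw [MonoidHom.map_closure] at hmap
  have hsub : (e.toMonoidHom '' {A : ↥(Cfsg.SU n K q) | ∃ (v : Fin n → K) (c : K),
      Cfsg.hermForm n K q v v = 0 ∧
      ((A : Matrix.SpecialLinearGroup (Fin n) K) : Matrix (Fin n) (Fin n) K) =
        Cfsg.unitaryTransvection n q v c}) ⊆
      {A : SUJ σ n | ∃ (v : Fin n → K) (c : K), hJ σ n v v = 0 ∧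
        rho σ n A = 1 + c • Matrix.vecMulVec v (fun j => σ (v j.rev))} := by
    rintro _ ⟨A, hA, rfl⟩
    exact himg A hA
  have := Subgroup.closure_mono hsub hmap
  simpa using this

end Cfsg.Agent.S2546P
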