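import Mathlib
import Cfsg.Prelude.Def_Classical
import Cfsg.Prelude.Def_ClassicalGeometry
import Cfsg.Prelude.Def_Characters
import Cfsg.Prelude.Def_LieExceptional
import Cfsg.Agent.Helper8.MatBNDefs
import Cfsg.Agent.Helper8.S2546Defs
import Cfsg.Agent.Helper17.S2546PRES
import Cfsg.Agent.Helper25.S2546TRANSGEN
import Cfsg.Agent.Helper1.S2546COLRED

set_option autoImplicit false
open scoped Matrix

/-! S2546 piece GEN (driver helper8): `SUJ σ n` is generated by the upper triangular elements and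
the lifts of the simple reflections. -/

namespace Cfsg.Agent.S2546P

open Cfsg.Agent.MatBN

variable {K : Type*} [Field K]

namespace GEN

/-- `rho g * rho g⁻¹ = 1` -/
theorem rho_mul_inv (σ : K →+* K) (n : ℕ) (g : SUJ σ n) : rho σ n g * rho σ n g⁻¹ = 1 := by
  rw [← map_mul, mul_inv_cancel, map_one]

theorem rho_inv_mul (σ : K →+* K) (n : ℕ) (g : SUJ σ n) : rho σ n g⁻¹ * rho σ n g = 1 := by
  rw [← map_mul, inv_mul_cancel, map_one]

/-- conjugating a transvection -/
theorem conj_transvection (σ : K →+* K) (n : ℕ) (h A : SUJ σ n) (v : Fin n → K) (c : K)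
    (hA : rho σ n A = 1 + c • Matrix.vecMulVec v (fun j => σ (v j.rev))) :
    rho σ n (h * A * h⁻¹) = 1 + c • Matrix.vecMulVec (rho σ n h *ᵥ v)
      (fun j => σ ((rho σ n h *ᵥ v) j.rev)) := by
  rw [map_mul, map_mul, hA]
  apply Matrix.toLin'.injective
  apply LinearMap.ext
  intro y
  rw [Matrix.toLin'_apply, Matrix.toLin'_apply, ← Matrix.mulVec_mulVec, ← Matrix.mulVec_mulVec,
    TRANSGEN.transv_mulVec, TRANSGEN.transv_mulVec, Matrix.mulVec_add, Matrix.mulVec_mulVec,
    rho_mul_inv, Matrix.one_mulVec, Matrix.mulVec_smul]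
  congr 2
  rw [← TRANSGEN.hJ_eq_dot, ← TRANSGEN.hJ_eq_dot, ← hJ_mulVec σ n h, Matrix.mulVec_mulVec,
    rho_mul_inv, Matrix.one_mulVec]

/-- a transvection along `e₀` is upper triangular -/
theorem isTri_transvection_e0 (σ : K →+* K) (n : ℕ) (hn : 2 ≤ n) (c c' : K) :
    IsTri (1 + c • Matrix.vecMulVec (c' • Pi.single (⟨0, by omega⟩ : Fin n) (1 : K))
      (fun j => σ ((c' • Pi.single (⟨0, by omega⟩ : Fin n) (1 : K)) j.rev))) := by
  intro a b hba
  have ha : a ≠ (⟨0, by omega⟩ : Fin n) := by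
    intro h
    rw [h] at hba
    exact absurd hba (by simp [Fin.lt_def])
  rw [Matrix.add_apply, Matrix.one_apply_ne hba.ne', Matrix.smul_apply, Matrix.vecMulVec_apply,
    Pi.smul_apply, Pi.single_eq_of_ne ha]
  simp

/-- the image of `e₀` is isotropic and nonzero -/
theorem image_e0 (σ : K →+* K) (n : ℕ) (hn : 2 ≤ n) (g : SUJ σ n) :
    rho σ n g *ᵥ Pi.single (⟨0, by omega⟩ : Fin n) (1 : K) ≠ 0 ∧
    hJ σ n (rho σ n g *ᵥ Pi.single (⟨0, by omega⟩ : Fin n) (1 : K))
      (rho σ n g *ᵥ Pi.single (⟨0, by omega⟩ : Fin n) (1 : K)) = 0 := by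
  constructor
  · intro h0
    have h1 : rho σ n g⁻¹ *ᵥ (rho σ n g *ᵥ Pi.single (⟨0, by omega⟩ : Fin n) (1 : K)) = 0 := by
      rw [h0, Matrix.mulVec_zero]
    rw [Matrix.mulVec_mulVec, rho_inv_mul, Matrix.one_mulVec] at h1
    have := congrFun h1 (⟨0, by omega⟩ : Fin n)
    simp at this
  · rw [hJ_mulVec, PRES.hJ_single, if_neg]
    intro h
    have := congrArg Fin.val h
    simp [Fin.rev] at this
    omega

/-- for `n = 2, 3` the stabilizer of the line `K e₀` is upper triangular -/
theorem isTri_of_fix_e0 (σ : K →+* K) (n : ℕ) (hn : 2 ≤ n) (hn3 : n ≤ 3) (g : SUJ σ n) (c : K)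
    (hg : rho σ n g *ᵥ Pi.single (⟨0, by omega⟩ : Fin n) (1 : K) =
      c • Pi.single (⟨0, by omega⟩ : Fin n) (1 : K)) : IsTri (rho σ n g) := by
  have hcol : ∀ a : Fin n, rho σ n g a (⟨0, by omega⟩ : Fin n) =
      c * (if a = (⟨0, by omega⟩ : Fin n) then 1 else 0) := by
    intro a
    have := congrFun hg a
    rw [Matrix.mulVec_single_one] at this
    rw [Matrix.col_apply] at this
    rw [this, Pi.smul_apply, Pi.single_apply, smul_eq_mul]
  have hc : c ≠ 0 := by
    intro hc0
    apply (image_e0 σ n hn g).1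
    rw [hg, hc0, zero_smul]
  intro a b hba
  by_cases hb0 : b = (⟨0, by omega⟩ : Fin n)
  · rw [hb0, hcol, if_neg, mul_zero]
    intro h
    rw [h, hb0] at hba
    exact absurd hba (lt_irrefl _)
  · -- then `n = 3`, `b = 1`, `a = 2`
    have hb1 : 1 ≤ b.val := by
      rcases Nat.eq_zero_or_pos b.val with h | h
      · exact absurd (Fin.ext h) hb0
      · exact h
    have hab : b.val < a.val := hba
    have ha2 : a.val < n := a.2
    have hn3' : n = 3 := by omega
    have hP := presJ_of_mem σ n g (⟨0, by omega⟩ : Fin n) b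
    rw [if_neg] at hP
    · rw [Finset.sum_eq_single (⟨0, by omega⟩ : Fin n)] at hP
      · rw [hcol, if_pos rfl, mul_one] at hP
        rcases mul_eq_zero.mp hP with h | h
        · exact absurd h hc
        · have hrev : (⟨0, by omega⟩ : Fin n).rev = a := by
            apply Fin.ext
            simp [Fin.rev]
            omega
          rw [hrev] at h
          exact (map_eq_zero σ).mp h
      · intro i _ hi
        rw [hcol, if_neg hi, mul_zero, zero_mul]
      · intro h
        exact absurd (Finset.mem_univ _) h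
    · intro h
      have := congrArg Fin.val h
      simp [Fin.rev] at this
      omega

end GEN

open GEN in
theorem gen_all [Fintype K] {q : ℕ} (hK : Fintype.card K = q ^ 2) (σ : K →+* K)
    (hσq : ∀ x, σ x = x ^ q) (hσ : ∀ x, σ (σ x) = x) (n : ℕ) (hn : 2 ≤ n) (ζ : K) (hζ : ζ ≠ 0)
    (hζσ : σ ζ = -ζ) (g : SUJ σ n) :
    g ∈ Subgroup.closure ({b : SUJ σ n | IsTri (rho σ n b)} ∪
        {s : SUJ σ n | ∃ j, j < n / 2 ∧ rho σ n s = sMat n ζ j}) := by
  classical
  set H : Subgroup (SUJ σ n) := Subgroup.closure ({b : SUJ σ n | IsTri (rho σ n b)} ∪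
        {s : SUJ σ n | ∃ j, j < n / 2 ∧ rho σ n s = sMat n ζ j}) with hH
  have hBH : ∀ b : SUJ σ n, IsTri (rho σ n b) → b ∈ H := fun b hb =>
    Subgroup.subset_closure (Or.inl hb)
  by_cases hn4 : n ≤ 3
  · -- `n = 2, 3`: column reduction alone
    obtain ⟨hne, hiso⟩ := image_e0 σ n hn g
    obtain ⟨h, hhH, c, hc⟩ := exists_col_reduce σ hσ n hn ζ hζ hζσ _ hne hiso
    have htri : IsTri (rho σ n (h * g)) := by
      apply isTri_of_fix_e0 σ n hn hn4 (h * g) c
      rw [map_mul, ← Matrix.mulVec_mulVec]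
      exact hc
    have : g = h⁻¹ * (h * g) := by group
    rw [this]
    exact H.mul_mem (H.inv_mem hhH) (hBH _ htri)
  · -- `n ≥ 4`: transvections
    have hn3 : 3 ≤ n := by omega
    have h32 : ¬ (n = 3 ∧ q = 2) := by omega
    have htop := closure_transvections hK σ hσq hσ n hn3 h32
    have hle : Subgroup.closure {A : SUJ σ n | ∃ (v : Fin n → K) (c : K), hJ σ n v v = 0 ∧
        rho σ n A = 1 + c • Matrix.vecMulVec v (fun j => σ (v j.rev))} ≤ H := by
      rw [Subgroup.closure_le]
      rintro A ⟨v, c, hv, hA⟩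
      by_cases hv0 : v = 0
      · have hA1 : rho σ n A = 1 := by
          rw [hA, hv0]
          simp
        have : A = 1 := rho_injective σ n (by rw [hA1, map_one])
        rw [this]
        exact H.one_mem
      · obtain ⟨h, hhH, c', hc'⟩ := exists_col_reduce σ hσ n hn ζ hζ hζσ v hv0 hv
        have hconj := conj_transvection σ n h A v c hA
        rw [hc'] at hconj
        have htri : IsTri (rho σ n (h * A * h⁻¹)) := by
          rw [hconj]
          exact isTri_transvection_e0 σ n hn c c'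
        have : A = h⁻¹ * (h * A * h⁻¹) * h := by group
        show A ∈ H
        rw [this]
        exact H.mul_mem (H.mul_mem (H.inv_mem hhH) (hBH _ htri)) hhH
    apply hle
    rw [htop]
    trivial

end Cfsg.Agent.S2546P
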