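import Mathlib
import Cfsg.Prelude.Def_Classical
import Cfsg.Prelude.Def_ClassicalGeometry
import Cfsg.Prelude.Def_Characters
import Cfsg.Prelude.Def_LieExceptional
import Cfsg.Agent.Helper8.MatBNDefs
import Cfsg.Agent.Helper2.BN.Parabolic

set_option autoImplicit false
open scoped Matrix

/-! S2546 piece GFINA (driver helper8): in an abstract split (B,N)-pair, `N_G(U) = B`. -/

namespace Cfsg.Agent.MatBN

section Abstract

variable {G : Type*} [Group G]

/-- GFINA: `N_G(U) = B` -/
theorem normalizer_eq_B (P : Cfsg.BNPair G) (U : Subgroup G) (hUB : U ≤ P.B)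
    (hUn : ∀ b ∈ P.B, ∀ u ∈ U, b * u * b⁻¹ ∈ U)
    (hS : ∀ s ∈ P.S, ∃ x ∈ U, s * x * s⁻¹ ∉ P.B) :
    Subgroup.normalizer (U : Set G) = P.B := by
  have hBN : P.B ≤ Subgroup.normalizer (U : Set G) := by
    intro b hb
    rw [Subgroup.mem_normalizer_iff]
    intro h
    constructor
    · intro hh
      exact hUn b hb h hh
    · intro hh
      have := hUn b⁻¹ (P.B.inv_mem hb) _ hh
      have e : b⁻¹ * (b * h * b⁻¹) * b⁻¹⁻¹ = h := by group
      rw [e] at this
      exact this
  have hpar := Cfsg.Agent.Helper2.BN.eq_parabolic_of_le (P := P) _ hBN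
  have hempty : P.S ∩ ((Subgroup.normalizer (U : Set G) : Subgroup G) : Set G) = ∅ := by
    rw [Set.eq_empty_iff_forall_notMem]
    rintro s ⟨hs, hsN⟩
    obtain ⟨x, hx, hnx⟩ := hS s hs
    apply hnx
    apply hUB
    exact (Subgroup.mem_normalizer_iff.mp hsN x).mp hx
  rw [hempty] at hpar
  rw [hpar]
  unfold Cfsg.BNPair.parabolic
  rw [Subgroup.closure_empty, sup_bot_eq]

end Abstract

end Cfsg.Agent.MatBN
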