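import Mathlib
import Cfsg.Prelude.Def_Classical
import Cfsg.Prelude.Def_ClassicalGeometry
import Cfsg.Prelude.Def_Characters
import Cfsg.Prelude.Def_LieExceptional
import Cfsg.Agent.Helper8.MatBNDefs
import Cfsg.Agent.Helper25.SpUC

set_option autoImplicit false
open scoped Matrix

/-! S2546 piece GFINB (driver helper8): in an abstract split (B,N)-pair `B = U ⋊ H`, `U` a `p`-group,
`H = B ⊓ N` a `p'`-group, `N_G(U) = B`: `U` is a Sylow `p`-subgroup and the centre is a `p'`-subgroup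
of `B`. -/

namespace Cfsg.Agent.MatBN

section Abstract

variable {G : Type*} [Group G]

namespace GFINB

/-- powers of `u * h` modulo the normal subgroup `U` of `B` -/
theorem pow_mul_mem (B U : Subgroup G) (hUn : ∀ b ∈ B, ∀ u ∈ U, b * u * b⁻¹ ∈ U)
    (u h : G) (hu : u ∈ U) (hh : h ∈ B) (j : ℕ) : ∃ u' ∈ U, (u * h) ^ j = u' * h ^ j := by
  induction j with
  | zero => exact ⟨1, U.one_mem, by simp⟩
  | succ j ih =>
    obtain ⟨u', hu', he⟩ := ih
    refine ⟨u' * (h ^ j * u * (h ^ j)⁻¹), U.mul_mem hu' (hUn _ (B.pow_mem hh j) u hu), ?_⟩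
    rw [pow_succ, he, pow_succ]
    group

/-- the `p`-elements of `B` lie in `U` -/
theorem mem_of_pow_eq_one [Finite G] (p : ℕ) [Fact p.Prime] (B H U : Subgroup G)
    (hUn : ∀ b ∈ B, ∀ u ∈ U, b * u * b⁻¹ ∈ U) (hHB : H ≤ B)
    (hBUH : ∀ b ∈ B, ∃ u ∈ U, ∃ h ∈ H, b = u * h)
    (hUH : U ⊓ H = ⊥) (hHp : ¬ p ∣ Nat.card H)
    (x : G) (hx : x ∈ B) (k : ℕ) (hxk : x ^ (p ^ k) = 1) : x ∈ U := by
  obtain ⟨u, hu, h, hh, rfl⟩ := hBUH x hx
  obtain ⟨u', hu', he⟩ := pow_mul_mem B U hUn u h hu (hHB hh) (p ^ k)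
  rw [hxk] at he
  -- `h ^ (p ^ k) ∈ U ⊓ H = ⊥`
  have hhk : h ^ (p ^ k) = 1 := by
    have h1 : h ^ (p ^ k) = u'⁻¹ := by
      have : u'⁻¹ * 1 = u'⁻¹ * (u' * h ^ (p ^ k)) := by rw [← he]
      rw [mul_one, ← mul_assoc, inv_mul_cancel, one_mul] at this
      exact this.symm
    have h2 : h ^ (p ^ k) ∈ U ⊓ H := ⟨by rw [h1]; exact U.inv_mem hu', H.pow_mem hh _⟩
    rw [hUH] at h2
    exact (Subgroup.mem_bot).mp h2
  -- the order of `h` divides `p ^ k` and `|H|`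
  have h1 : orderOf h ∣ p ^ k := orderOf_dvd_of_pow_eq_one hhk
  have h2 : orderOf (⟨h, hh⟩ : H) ∣ Nat.card H := orderOf_dvd_natCard _
  have h3 : orderOf (⟨h, hh⟩ : H) = orderOf h := Subgroup.orderOf_mk h hh
  rw [h3] at h2
  have hcop : Nat.Coprime (p ^ k) (Nat.card H) :=
    Nat.Coprime.pow_left k ((Nat.Prime.coprime_iff_not_dvd Fact.out).mpr hHp)
  have h4 : orderOf h = 1 := Nat.eq_one_of_dvd_coprimes hcop h1 h2
  rw [orderOf_eq_one_iff] at h4
  rw [h4, mul_one]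
  exact hu

end GFINB

/-- GFINB: `U` is a Sylow `p`-subgroup, and the centre is a `p'`-subgroup of `B` -/
theorem sylow_and_center [Finite G] (p : ℕ) [Fact p.Prime] (P : Cfsg.BNPair G) (U : Subgroup G)
    (hUB : U ≤ P.B) (hUn : ∀ b ∈ P.B, ∀ u ∈ U, b * u * b⁻¹ ∈ U)
    (hBUH : ∀ b ∈ P.B, ∃ u ∈ U, ∃ h ∈ P.B ⊓ P.N, b = u * h)
    (hUH : U ⊓ (P.B ⊓ P.N) = ⊥)
    (hUp : IsPGroup p U) (hHp : ¬ p ∣ Nat.card (P.B ⊓ P.N : Subgroup G))
    (hNU : Subgroup.normalizer (U : Set G) = P.B)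
    (n₀ : G) (h9 : ∀ x ∈ U, n₀⁻¹ * x * n₀ ∈ P.B → x = 1) :
    (∃ Q : Sylow p G, (Q : Subgroup G) = U) ∧ Subgroup.center G ≤ P.B ∧
      ¬ p ∣ Nat.card (Subgroup.center G) := by
  have hkey : ∀ x ∈ P.B, ∀ k : ℕ, x ^ (p ^ k) = 1 → x ∈ U := fun x hx k hxk =>
    GFINB.mem_of_pow_eq_one p P.B (P.B ⊓ P.N) U hUn inf_le_left hBUH hUH hHp x hx k hxk
  have hZB : Subgroup.center G ≤ P.B := by
    intro z hz
    rw [← hNU, Subgroup.mem_normalizer_iff]
    intro h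
    have : z * h * z⁻¹ = h := by
      rw [Subgroup.mem_center_iff] at hz
      rw [← hz h, mul_assoc, mul_inv_cancel, mul_one]
    rw [this]
  refine ⟨?_, hZB, ?_⟩
  · apply Cfsg.Agent.Helper25.SpU.exists_sylow_of_normalizer p U hUp
    intro x hx k hxk
    rw [hNU] at hx
    exact hkey x hx k hxk
  · intro hdvd
    obtain ⟨z, hz⟩ := exists_prime_orderOf_dvd_card' (G := Subgroup.center G) p hdvd
    have hz1 : (z : G) ^ (p ^ 1) = 1 := by
      rw [pow_one, ← hz]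
      have := pow_orderOf_eq_one z
      have h' := congrArg Subtype.val this
      rw [Subgroup.coe_pow, Subgroup.coe_one] at h'
      exact h'
    have hzU : (z : G) ∈ U := hkey z (hZB z.2) 1 hz1
    have hconj : n₀⁻¹ * (z : G) * n₀ = z := by
      have hc := Subgroup.mem_center_iff.mp z.2 n₀
      rw [mul_assoc, ← hc, ← mul_assoc, inv_mul_cancel, one_mul]
    have hz1' : (z : G) = 1 := h9 z hzU (by rw [hconj]; exact hUB hzU)
    have : z = 1 := Subtype.ext hz1'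
    rw [this, orderOf_one] at hz
    exact (Fact.out : p.Prime).one_lt.ne' hz.symm

end Abstract

end Cfsg.Agent.MatBN
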