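import Mathlib
import Cfsg.Prelude.Def_Classical
import Cfsg.Prelude.Def_ClassicalGeometry
import Cfsg.Prelude.Def_Characters
import Cfsg.Prelude.Def_LieExceptional
import Cfsg.Agent.Helper8.MatBNDefs
import Cfsg.Agent.Helper12.SpBNL
import Cfsg.Agent.Helper12.PSL2Char
import Cfsg.Agent.Helper24.DefectZero
import Cfsg.Agent.Helper25.S2546GFINA
import Cfsg.Agent.Helper25.S2546GFINB

set_option autoImplicit false
open scoped Matrix

/-! S2546 piece GFINC (driver helper8): the Steinberg character of `G / Z(G)` for an abstract split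
(B,N)-pair (pattern of `Cfsg/Agent/S2545.lean`). -/

namespace Cfsg.Agent.MatBN

section Abstract

variable {G : Type*} [Group G]

open Cfsg Cfsg.Agent.Helper2 Cfsg.Agent.Helper14.ExchCox Cfsg.Agent.Helper12.BNSt in
/-- GFINC: the Steinberg character of `G / Z(G)` -/
theorem exists_steinberg_of_split [Finite G] (p : ℕ) [Fact p.Prime] (P : Cfsg.BNPair G)
    (U : Subgroup G) (hUB : U ≤ P.B) (hUn : ∀ b ∈ P.B, ∀ u ∈ U, b * u * b⁻¹ ∈ U)
    (hBUH : ∀ b ∈ P.B, ∃ u ∈ U, ∃ h ∈ P.B ⊓ P.N, b = u * h)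
    (hUH : U ⊓ (P.B ⊓ P.N) = ⊥)
    (hUp : IsPGroup p U) (hHp : ¬ p ∣ Nat.card (P.B ⊓ P.N : Subgroup G))
    (hS : ∀ s ∈ P.S, ∃ x ∈ U, s * x * s⁻¹ ∉ P.B)
    (n₀ : G) (hn₀ : n₀ ∈ P.N)
    (hdesc : ∀ s ∈ P.S, ∃ x ∈ P.B, ∃ b₁ ∈ P.B, ∃ y : G, s * x = b₁ * y ∧ n₀ * y⁻¹ * n₀⁻¹ ∈ P.B)
    (h9 : ∀ x ∈ U, n₀⁻¹ * x * n₀ ∈ P.B → x = 1) :
    ∃ χ : G ⧸ Subgroup.center G → ℂ, Cfsg.IsIrrCharacter (G ⧸ Subgroup.center G) χ ∧
      ∀ Q : Sylow p (G ⧸ Subgroup.center G), χ 1 = Nat.card Q ∧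
        ∀ x : G ⧸ Subgroup.center G, x ∈ Q → x ≠ 1 → χ x = 0 := by
  classical
  have hp : p.Prime := Fact.out
  let _ : Fintype G := Fintype.ofFinite _
  let _ : Fintype P.S := Fintype.ofFinite _
  have hN : ((P.B ⊓ P.N).subgroupOf P.N).Normal := Cfsg.Agent.Helper12.BNCnt.normalH_bn P
  have hNU := normalizer_eq_B P U hUB hUn hS
  obtain ⟨⟨Q₀, hQ₀⟩, hZB, hZp⟩ := sylow_and_center p P U hUB hUn hBUH hUH hUp hHp hNU n₀ h9
  -- the Steinberg character of `G`
  have hirr : IsIrrCharacter G (altSum P) := isIrrCharacter_altSum P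
  have hdescW : ∀ j : P.S, len (sgen P) ((QuotientGroup.mk ⟨n₀, hn₀⟩ : Wq P) * sgen P j) <
      len (sgen P) (QuotientGroup.mk ⟨n₀, hn₀⟩ : Wq P) := by
    intro j
    obtain ⟨x, hx, b₁, hb₁, y, e, hy⟩ := hdesc j.1 j.2
    exact Cfsg.Agent.Helper12.SpBN.desc_of_rank_one P hn₀ j hx hb₁ e hy
  have hone : altSum P 1 = (Nat.card U : ℂ) := by
    have h := Cfsg.Agent.Helper12.BNCnt.altSum_one_mul P U ⊥ hUB hUn hBUH hUH bot_le inferInstance
      hn₀ hdescW
      (fun x hx h => by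
        rw [Subgroup.mem_bot]
        exact h9 x hx h)
    rw [Nat.card_unique, Nat.cast_one, mul_one] at h
    exact h
  have hcentral : ∀ z ∈ Subgroup.center G, altSum P z = altSum P 1 := by
    intro z hz
    unfold altSum
    apply Finset.sum_congr rfl
    intro K _
    rw [Cfsg.Agent.Helper12.SpBN.fixedPointCharacter_central _ hz]
    exact (le_sup_left : P.B ≤ _) (hZB hz)
  obtain ⟨ψ, hψ⟩ := Cfsg.Agent.Helper12.exists_irr_quotient' (Subgroup.center G)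
    (⟨_, hirr⟩ : IrrCharacter G) hcentral
  refine ⟨ψ.1, ψ.2, ?_⟩
  intro Q
  have hdeg : ψ.1 1 = ((Nat.card U : ℕ) : ℂ) := by
    have h1 := hψ 1
    rw [map_one] at h1
    rw [h1]
    exact hone
  have hU : Nat.card U = p ^ (Nat.card G).factorization p := by
    rw [← hQ₀]
    exact Sylow.card_eq_multiplicity Q₀
  have hfac : (Nat.card G).factorization p =
      (Nat.card (G ⧸ Subgroup.center G)).factorization p := by
    rw [Subgroup.card_eq_card_quotient_mul_card_subgroup (Subgroup.center G),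
      Nat.factorization_mul Nat.card_pos.ne' Nat.card_pos.ne', Finsupp.add_apply,
      Nat.factorization_eq_zero_of_not_dvd hZp, add_zero]
  have hcard : Nat.card Q = Nat.card U := by
    rw [hU, hfac]
    exact Sylow.card_eq_multiplicity Q
  refine ⟨by rw [hdeg, hcard], ?_⟩
  intro x hx hx1
  have : Fintype (G ⧸ Subgroup.center G) := Fintype.ofFinite _
  have : Fintype (IrrCharacter (G ⧸ Subgroup.center G)) := Fintype.ofFinite _
  apply Cfsg.Agent.Helper24.irr_eq_zero_of_defect_zero ψ p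
    ((Nat.card (G ⧸ Subgroup.center G)).factorization p)
    (Nat.card U) hp (Nat.ordProj_dvd _ _)
    (Nat.pow_succ_factorization_not_dvd Nat.card_pos.ne' hp) hdeg
    (by rw [hU, hfac]) x
  obtain ⟨k, hk⟩ := (IsPGroup.iff_orderOf.mp Q.2) ⟨x, hx⟩
  rw [Subgroup.orderOf_mk] at hk
  rw [hk]
  apply dvd_pow_self
  rintro rfl
  rw [pow_zero, orderOf_eq_one_iff] at hk
  exact hx1 hk

end Abstract

end Cfsg.Agent.MatBN
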