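import Mathlib
import Cfsg.Prelude.Def_Classical
import Cfsg.Prelude.Def_ClassicalGeometry
import Cfsg.Prelude.Def_Characters
import Cfsg.Prelude.Def_LieExceptional
import Cfsg.Agent.Helper8.MatBNDefs
import Cfsg.Agent.Helper23.S2546BNAXA
import Cfsg.Agent.Helper23.S2546BNAXC
import Cfsg.Agent.Helper23.S2546SPLIT
import Cfsg.Agent.Helper23.S2546OPP
import Cfsg.Agent.Helper25.S2546PGRP
import Cfsg.Agent.Helper25.S2546GFINC

set_option autoImplicit false
open scoped Matrix

/-! S2546 piece MBFINAL (driver helper8): the Steinberg character of `G / Z(G)` from a `Data`. -/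

namespace Cfsg.Agent.MatBN

variable {K : Type*} [Field K] {n : ℕ}

/-- MBFINAL: the Steinberg character from a `Data` (assembly of BNAXC, SPLIT, OPP, PGRP, GFINC) -/
theorem Data.exists_steinberg {G : Type*} [Group G] {m : ℕ} (D : Data G K n m) [Finite K] (p : ℕ)
    [Fact p.Prime] [CharP K p] :
    ∃ χ : G ⧸ Subgroup.center G → ℂ, Cfsg.IsIrrCharacter (G ⧸ Subgroup.center G) χ ∧
      ∀ Q : Sylow p (G ⧸ Subgroup.center G), χ 1 = Nat.card Q ∧
        ∀ x : G ⧸ Subgroup.center G, x ∈ Q → x ≠ 1 → χ x = 0 := by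
  have : Finite G := D.finite
  obtain ⟨P, hB, hN, hS⟩ := D.exists_bnPair
  have hH : P.B ⊓ P.N = D.torus := by rw [hB, hN]; exact D.borel_inf_Nsub
  apply exists_steinberg_of_split p P D.uni
  · rw [hB]; exact D.uni_le_borel
  · intro b hb u hu
    rw [hB] at hb
    exact D.conj_uni_mem hb hu
  · intro b hb
    rw [hB] at hb
    rw [hH]
    exact D.borel_eq_mul hb
  · rw [hH]; exact D.uni_inf_torus
  · exact D.isPGroup_uni p
  · rw [hH]; exact D.not_dvd_card_torus p
  · intro s hs
    rw [hS] at hs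
    obtain ⟨j, rfl⟩ := hs
    rw [hB]
    exact D.exists_conj_not_mem j
  · show D.n₀ ∈ P.N
    rw [hN]; exact D.n₀_mem_Nsub
  · intro s hs
    rw [hS] at hs
    obtain ⟨j, rfl⟩ := hs
    rw [hB]
    exact D.n₀_desc j
  · intro x hx h
    rw [hB] at h
    exact D.n₀_opp hx h
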