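import Mathlib
import Cfsg.Prelude.Def_Classical
import Cfsg.Prelude.Def_ClassicalGeometry
import Cfsg.Prelude.Def_Characters
import Cfsg.Prelude.Def_LieExceptional
import Cfsg.Agent.Helper8.MatBNDefs
import Cfsg.Agent.Helper8.CharComp

set_option autoImplicit false
open scoped Matrix

/-! S2546 piece TRANSPORT (driver helper8): the existence of a Steinberg character of `G / Z(G)`
transports along a group isomorphism. -/

namespace Cfsg.Agent.MatBN

section Abstract

variable {G : Type*} [Group G]

namespace TRANSPORT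

/-- an isomorphism maps the centre onto the centre -/
theorem map_center {G' : Type*} [Group G'] (e : G ≃* G') :
    (Subgroup.center G).map (e : G →* G') = Subgroup.center G' := by
  ext y
  rw [Subgroup.mem_map, Subgroup.mem_center_iff]
  constructor
  · rintro ⟨x, hx, rfl⟩ g
    rw [Subgroup.mem_center_iff] at hx
    have := hx (e.symm g)
    have h2 := congrArg e this
    rw [map_mul, map_mul, MulEquiv.apply_symm_apply] at h2
    exact h2
  · intro hy
    refine ⟨e.symm y, ?_, by simp⟩
    rw [Subgroup.mem_center_iff]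
    intro g
    apply e.injective
    rw [map_mul, map_mul, MulEquiv.apply_symm_apply]
    exact hy (e g)

end TRANSPORT

/-- TRANSPORT: the conclusion transports along a group isomorphism -/
theorem steinberg_transport {G' : Type*} [Group G'] (e : G ≃* G') (p : ℕ) [Fact p.Prime]
    (h : ∃ χ : G' ⧸ Subgroup.center G' → ℂ, Cfsg.IsIrrCharacter (G' ⧸ Subgroup.center G') χ ∧
      ∀ Q : Sylow p (G' ⧸ Subgroup.center G'), χ 1 = Nat.card Q ∧
        ∀ x : G' ⧸ Subgroup.center G', x ∈ Q → x ≠ 1 → χ x = 0) :
    ∃ χ : G ⧸ Subgroup.center G → ℂ, Cfsg.IsIrrCharacter (G ⧸ Subgroup.center G) χ ∧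
      ∀ Q : Sylow p (G ⧸ Subgroup.center G), χ 1 = Nat.card Q ∧
        ∀ x : G ⧸ Subgroup.center G, x ∈ Q → x ≠ 1 → χ x = 0 := by
  obtain ⟨χ', hirr, hχ'⟩ := h
  let ē : G ⧸ Subgroup.center G ≃* G' ⧸ Subgroup.center G' :=
    QuotientGroup.congr (Subgroup.center G) (Subgroup.center G') e (TRANSPORT.map_center e)
  refine ⟨fun x => χ' (ē x), ?_, ?_⟩
  · exact Cfsg.Agent.Helper8.isIrrCharacter_comp_surjective ē.toMonoidHom ē.surjective hirr
  · intro Q
    -- the corresponding Sylow subgroup of `G' / Z(G')`
    let Q' : Sylow p (G' ⧸ Subgroup.center G') :=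
      Q.comapOfInjective ē.symm.toMonoidHom ē.symm.injective (by
        intro x _
        exact ⟨ē x, by simp⟩)
    have hQ'mem : ∀ y : G' ⧸ Subgroup.center G', y ∈ Q' ↔ ē.symm y ∈ Q := by
      intro y
      exact Iff.rfl
    obtain ⟨h1, h2⟩ := hχ' Q'
    constructor
    · show χ' (ē 1) = Nat.card Q
      rw [map_one, h1]
      congr 1
      apply Nat.card_congr
      refine ⟨fun y => ⟨ē.symm y.1, (hQ'mem y.1).mp y.2⟩,
        fun x => ⟨ē x.1, (hQ'mem _).mpr (by rw [MulEquiv.symm_apply_apply]; exact x.2)⟩, ?_, ?_⟩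
      · intro y
        apply Subtype.ext
        simp
      · intro x
        apply Subtype.ext
        simp
    · intro x hx hx1
      show χ' (ē x) = 0
      apply h2
      · rw [hQ'mem, MulEquiv.symm_apply_apply]
        exact hx
      · intro h
        apply hx1
        apply ē.injective
        rw [h, map_one]

end Abstract

end Cfsg.Agent.MatBN
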