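import Mathlib
import Cfsg.Agent.Helper11.S4409Defs
import Cfsg.Agent.Helper1.PGroup

/-! Board `s4409pieces`, row F1 : `P' ≤ Φ(P)` for a `2`-subgroup `P`. -/

set_option autoImplicit false
set_option linter.unusedVariables false

namespace Cfsg.Agent.S4409P

open Subgroup
open scoped commutatorElement

variable {S : Type*} [Group S] [Finite S]

/-- F1 (`Helper1.IsPGroup.commutator_le_frattini`) -/
theorem der_le_fr (P : Subgroup S) (hP : IsPGroup 2 ↥P) : Der P ≤ Fr P := by
  haveI : Fact (Nat.Prime 2) := ⟨Nat.prime_two⟩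
  unfold Der Fr
  rw [← Subgroup.map_subtype_commutator]
  exact Subgroup.map_mono (Cfsg.Agent.Helper1.IsPGroup.commutator_le_frattini hP)

end Cfsg.Agent.S4409P
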