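import Mathlib
import Cfsg.Agent.Helper11.S4409Defs

/-! Board `s4409pieces`, row CARDSUP : `|Y ⊔ K| = |Y| |K|` for a `2`-group `Y` and `K` of odd order normalising it. -/

set_option autoImplicit false
set_option linter.unusedVariables false

namespace Cfsg.Agent.S4409P

open Subgroup
open scoped commutatorElement

variable {S : Type*} [Group S] [Finite S]

theorem CARDSUP_aux_inf_eq_bot (Y K : Subgroup S) (hY : IsPGroup 2 ↥Y) (hK : Odd (Nat.card ↥K)) :
    Y ⊓ K = ⊥ := by
  haveI : Fact (Nat.Prime 2) := ⟨Nat.prime_two⟩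
  obtain ⟨n, hn⟩ := (IsPGroup.iff_card).mp hY
  have hcop : Nat.Coprime (Nat.card ↥Y) (Nat.card ↥K) := by
    rw [hn]
    exact Nat.Coprime.pow_left n (Nat.coprime_two_left.mpr hK)
  exact Subgroup.inf_eq_bot_of_coprime hcop

/-- CARDSUP -/
theorem card_sup (Y K : Subgroup S) (hY : IsPGroup 2 ↥Y) (hK : Odd (Nat.card ↥K))
    (hKY : K ≤ normalizer (Y : Set S)) : Nat.card ↥(Y ⊔ K) = Nat.card ↥Y * Nat.card ↥K := by
  have hbot := CARDSUP_aux_inf_eq_bot Y K hY hK
  haveI := Subgroup.normal_subgroupOf_of_le_normalizer hKY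
  haveI := Subgroup.normal_subgroupOf_sup_of_le_normalizer hKY
  have h0 : Y.relIndex (K ⊔ Y) = Y.relIndex K :=
    Nat.card_congr (QuotientGroup.quotientInfEquivProdNormalizerQuotient K Y hKY).toEquiv.symm
  have h1 : Y.relIndex (K ⊔ Y) * Nat.card ↥Y = Nat.card ↥(K ⊔ Y) := by
    have := Subgroup.relIndex_mul_relIndex ⊥ Y (K ⊔ Y) bot_le le_sup_right
    rw [Subgroup.relIndex_bot_left, Subgroup.relIndex_bot_left] at this
    rw [mul_comm]; exact this
  have h2 : Y.relIndex K = Nat.card ↥K := by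
    rw [← Subgroup.inf_relIndex_right, hbot, Subgroup.relIndex_bot_left]
  rw [sup_comm, ← h1, h0, h2, mul_comm]

end Cfsg.Agent.S4409P
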