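import Mathlib
import Cfsg.Prelude.Def_GeometricClasses
import Cfsg.Agent.Helper2.S5886.Defs
import Cfsg.Agent.Helper2.S5664.Defs

/-! # S5664 piece SYMREL — helper25 (design helper2)

Direct computation with the explicit formula of `proj` (trace-dual basis): no decomposition of `A`,
no independence of characters. -/

set_option autoImplicit false

namespace Cfsg.Agent.S5664P

open Cfsg.Agent.S5886P

variable {F K V : Type*} [Field F] [Field K] [Algebra F K]
  [AddCommGroup V] [Module F V] [Module K V] [IsScalarTower F K V]

namespace SYMREL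

theorem skew (B : V →ₗ[K] V →ₗ[K] K) (hB : IsAltND B) (x y : V) : B x y = - B y x := by
  have h := hB.alt (x + y)
  simp only [map_add, LinearMap.add_apply, hB.alt x, hB.alt y] at h
  linear_combination h

/-- a vector `v'` with `B v' v = 1` -/
theorem exists_partner (B : V →ₗ[K] V →ₗ[K] K) (hB : IsAltND B) (v : V) (hv : v ≠ 0) :
    ∃ v' : V, B v' v = 1 := by
  obtain ⟨y, hy⟩ : ∃ y, B v y ≠ 0 := by
    by_contra hcon
    push Not at hcon
    exact hv (hB.nd v hcon)
  have hyv : B y v ≠ 0 := by
    rw [skew B hB]; exact neg_ne_zero.mpr hy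
  refine ⟨(B y v)⁻¹ • y, ?_⟩
  rw [map_smul, LinearMap.smul_apply, smul_eq_mul, inv_mul_cancel₀ hyv]

/-- value of `proj σ A` -/
theorem proj_apply [Finite F] [Finite K] (σ : K ≃ₐ[F] K) (A : V →ₗ[F] V) (x : V) :
    proj σ A x =
      ∑ i, σ ((Algebra.traceForm F K).dualBasis (traceForm_nondegenerate F K)
        (Module.finBasis F K) i) • A (Module.finBasis F K i • x) := by
  unfold proj
  rw [LinearMap.sum_apply]
  rfl

/-- the symmetric-matrix identity behind SYMREL -/
theorem key_identity [Finite F] [Finite K] (τ : K ≃ₐ[F] K)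
    (c : Fin (Module.finrank F K) → K)
    (hsym : ∀ i j, Algebra.trace F K (c i * Module.finBasis F K j) =
      Algebra.trace F K (c j * Module.finBasis F K i)) :
    (∑ i, τ ((Algebra.traceForm F K).dualBasis (traceForm_nondegenerate F K)
        (Module.finBasis F K) i) * c i) =
    ∑ i, (Algebra.traceForm F K).dualBasis (traceForm_nondegenerate F K)
        (Module.finBasis F K) i * τ (c i) := by
  classical
  set bs := Module.finBasis F K with hbs
  set db := (Algebra.traceForm F K).dualBasis (traceForm_nondegenerate F K) bs with hdb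
  have hexp : ∀ z : K, z = ∑ j, Algebra.trace F K (z * bs j) • db j := by
    intro z
    conv_lhs => rw [← db.sum_repr z]
    apply Finset.sum_congr rfl
    intro j _
    rw [hdb, LinearMap.BilinForm.dualBasis_repr_apply, Algebra.traceForm_apply]
  have hL : ∀ i, τ (db i) * c i =
      ∑ j, Algebra.trace F K (c i * bs j) • (τ (db i) * db j) := by
    intro i
    conv_lhs => rw [hexp (c i)]
    rw [Finset.mul_sum]
    apply Finset.sum_congr rfl
    intro j _
    rw [mul_smul_comm]
  have hR : ∀ i, db i * τ (c i) =
      ∑ j, Algebra.trace F K (c i * bs j) • (τ (db j) * db i) := by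
    intro i
    conv_lhs => rw [hexp (c i)]
    rw [map_sum, Finset.mul_sum]
    apply Finset.sum_congr rfl
    intro j _
    rw [map_smul, mul_smul_comm, mul_comm (db i) (τ (db j))]
  rw [Finset.sum_congr rfl (fun i _ => hL i), Finset.sum_congr rfl (fun i _ => hR i),
    Finset.sum_comm]
  apply Finset.sum_congr rfl
  intro j _
  apply Finset.sum_congr rfl
  intro i _
  rw [hsym i j]

end SYMREL

/-- SYMREL (M-L): `a' = σ⁻¹ a`. -/
theorem SYMREL [Finite F] [Finite K] (B : V →ₗ[K] V →ₗ[K] K) (hB : IsAltND B) (v : V) (hv : v ≠ 0)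
    (A : V →ₗ[F] V) (hA : A ∈ ulie (Kline (F := F) (K := K) v)) (g : V ≃ₗ[F] V)
    (hg : g ∈ SpF F B) (hgA : ∀ x, g x = x + A x) (σ : K ≃ₐ[F] K) (a a' : K)
    (h1 : proj σ A = smap B v σ a) (h2 : proj σ⁻¹ A = smap B v σ⁻¹ a') : a' = σ⁻¹ a := by
  classical
  obtain ⟨v', hv'⟩ := SYMREL.exists_partner B hB v hv
  -- coefficients of `A (b_i • v')`
  have hc : ∀ i : Fin (Module.finrank F K), ∃ c : K, A (Module.finBasis F K i • v') = c • v := by
    intro i
    have := hA.1 (Module.finBasis F K i • v')
    unfold Kline at this
    rw [Submodule.restrictScalars_mem, Submodule.mem_span_singleton] at this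
    obtain ⟨c, hc⟩ := this
    exact ⟨c, hc.symm⟩
  choose c hc using hc
  -- evaluation of the two projections at `v'`
  have hval : ∀ (τ : K ≃ₐ[F] K) (d : K), proj τ A = smap B v τ d →
      d = ∑ i, τ ((Algebra.traceForm F K).dualBasis (traceForm_nondegenerate F K)
        (Module.finBasis F K) i) * c i := by
    intro τ d hd
    have h := LinearMap.congr_fun hd v'
    rw [SYMREL.proj_apply, smap_apply, hv', map_one, mul_one] at h
    have h' : (∑ i, τ ((Algebra.traceForm F K).dualBasis (traceForm_nondegenerate F K)
        (Module.finBasis F K) i) * c i) • v = d • v := by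
      rw [← h, Finset.sum_smul]
      apply Finset.sum_congr rfl
      intro i _
      rw [hc i, mul_smul]
    have h'' := sub_eq_zero.mpr h'
    rw [← sub_smul] at h''
    rcases smul_eq_zero.mp h'' with h3 | h3
    · exact (sub_eq_zero.mp h3).symm
    · exact absurd h3 hv
  have ha := hval σ a h1
  have ha' := hval σ⁻¹ a' h2
  -- the symmetry from the isometry condition
  have hsym : ∀ i j, Algebra.trace F K (c i * Module.finBasis F K j) =
      Algebra.trace F K (c j * Module.finBasis F K i) := by
    intro i j
    have h := hg (Module.finBasis F K i • v') (Module.finBasis F K j • v')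
    unfold trf at h
    rw [hgA, hgA, hc i, hc j] at h
    have e1 : B (Module.finBasis F K i • v' + c i • v) (Module.finBasis F K j • v' + c j • v) =
        B (Module.finBasis F K i • v') (Module.finBasis F K j • v') +
          (c j * Module.finBasis F K i - c i * Module.finBasis F K j) := by
      have hvv' : B v v' = -1 := by rw [SYMREL.skew B hB, hv']
      simp only [map_add, LinearMap.add_apply, map_smul, LinearMap.smul_apply, smul_eq_mul,
        hB.alt v, hv', hvv']
      ring
    rw [e1, map_add, add_eq_left, map_sub, sub_eq_zero] at h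
    exact h.symm
  rw [ha', SYMREL.key_identity σ⁻¹ c hsym, ha, map_sum]
  apply Finset.sum_congr rfl
  intro i _
  rw [map_mul]
  congr 1
  rw [AlgEquiv.aut_inv]
  exact (σ.symm_apply_apply _).symm

end Cfsg.Agent.S5664P
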