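import Mathlib
import Cfsg.Prelude.Def_GeometricClasses
import Cfsg.Agent.Helper2.S5886.Defs
import Cfsg.Agent.Helper2.S5664.Defs
import Cfsg.Agent.Helper10.S5664YKILL
import Cfsg.Agent.Helper22.S5664YREP
import Cfsg.Agent.Helper5.S5664YKTV

/-! # S5664 piece YONE — helper25 (design helper2) -/

set_option autoImplicit false

namespace Cfsg.Agent.S5664P

open Cfsg.Agent.S5886P

variable {F K V : Type*} [Field F] [Field K] [Algebra F K]
  [AddCommGroup V] [Module F V] [Module K V] [IsScalarTower F K V]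

/-- YONE (S-M): YREP with `σ = 1`: `proj 1 A = smap B v 1 a`, in yset by YKTV. -/
theorem YONE [Finite F] [Finite K] [Finite V] (B : V →ₗ[K] V →ₗ[K] K) (hB : IsAltND B)
    (M : Subgroup (V ≃ₗ[F] V)) (hK : SpK F B ≤ M) (hM : M ≤ SpF F B) (v : V) (hv : v ≠ 0)
    (A : V →ₗ[F] V) (hA : A ∈ yset M (Kline (F := F) (K := K) v)) :
    proj (1 : K ≃ₐ[F] K) A ∈ yset M (Kline (F := F) (K := K) v) := by
  obtain ⟨a, ha⟩ := YREP B hB v hv A hA.1 (fun x hx => YKILL B hB M hM v A hA x hx)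
    (1 : K ≃ₐ[F] K)
  rw [ha]
  exact YKTV B hB M hK v a

end Cfsg.Agent.S5664P
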