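import Mathlib
import Cfsg.Prelude.Def_PLocal
import Cfsg.Agent.Helper28.S2768Defs

set_option autoImplicit false

/-! S2768 piece PSLB: a normal subgroup of `PSL₂(F)` containing a Sylow `p`-subgroup is everything. -/

namespace Cfsg.Agent.S2768P

open Subgroup Cfsg.Agent.S2768P

/-- upper unitriangular matrices -/
def PSLB_aux_x {F : Type*} [Field F] (a : F) : Matrix.SpecialLinearGroup (Fin 2) F :=
  ⟨!![1, a; 0, 1], by simp [Matrix.det_fin_two]⟩

/-- lower unitriangular matrices -/
def PSLB_aux_y {F : Type*} [Field F] (c : F) : Matrix.SpecialLinearGroup (Fin 2) F :=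
  ⟨!![1, 0; c, 1], by simp [Matrix.det_fin_two]⟩

theorem PSLB_aux_x_mul {F : Type*} [Field F] (a b : F) :
    PSLB_aux_x (a + b) = PSLB_aux_x a * PSLB_aux_x b := by
  apply Subtype.ext
  rw [Matrix.SpecialLinearGroup.coe_mul]
  ext i j
  fin_cases i <;> fin_cases j <;>
    simp [PSLB_aux_x, Matrix.mul_apply, Fin.sum_univ_two, add_comm]

theorem PSLB_aux_y_mul {F : Type*} [Field F] (a b : F) :
    PSLB_aux_y (a + b) = PSLB_aux_y a * PSLB_aux_y b := by
  apply Subtype.ext
  rw [Matrix.SpecialLinearGroup.coe_mul]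
  ext i j
  fin_cases i <;> fin_cases j <;>
    simp [PSLB_aux_y, Matrix.mul_apply, Fin.sum_univ_two, add_comm]

/-- the upper unitriangular group as a homomorphic image of `(F, +)` -/
def PSLB_aux_xHom (F : Type*) [Field F] :
    Multiplicative F →* Matrix.SpecialLinearGroup (Fin 2) F where
  toFun a := PSLB_aux_x (Multiplicative.toAdd a)
  map_one' := by
    apply Subtype.ext
    ext i j
    fin_cases i <;> fin_cases j <;> simp [PSLB_aux_x]
  map_mul' a b := PSLB_aux_x_mul _ _

/-- the lower unitriangular group as a homomorphic image of `(F, +)` -/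
def PSLB_aux_yHom (F : Type*) [Field F] :
    Multiplicative F →* Matrix.SpecialLinearGroup (Fin 2) F where
  toFun a := PSLB_aux_y (Multiplicative.toAdd a)
  map_one' := by
    apply Subtype.ext
    ext i j
    fin_cases i <;> fin_cases j <;> simp [PSLB_aux_y]
  map_mul' a b := PSLB_aux_y_mul _ _

/-- Bruhat big cell. -/
theorem PSLB_aux_big {F : Type*} [Field F] (A : Matrix.SpecialLinearGroup (Fin 2) F)
    (hr : A.1 1 0 ≠ 0) :
    A = PSLB_aux_x ((A.1 0 0 - 1) / A.1 1 0) * PSLB_aux_y (A.1 1 0) *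
      PSLB_aux_x ((A.1 1 1 - 1) / A.1 1 0) := by
  have hdet := A.2
  rw [Matrix.det_fin_two] at hdet
  apply Subtype.ext
  rw [Matrix.SpecialLinearGroup.coe_mul, Matrix.SpecialLinearGroup.coe_mul]
  ext i j
  fin_cases i <;> fin_cases j <;>
    simp [PSLB_aux_x, PSLB_aux_y, Matrix.mul_apply, Fin.sum_univ_two] <;> field_simp <;>
    first | ring1 | linear_combination hdet | linear_combination -hdet

/-- `SL₂(F)` is generated by the upper and lower unitriangular matrices. -/
theorem PSLB_aux_gen {F : Type*} [Field F] (K : Subgroup (Matrix.SpecialLinearGroup (Fin 2) F))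
    (hx : ∀ a : F, PSLB_aux_x a ∈ K) (hy : ∀ c : F, PSLB_aux_y c ∈ K) : K = ⊤ := by
  rw [eq_top_iff]
  intro A _
  have key : ∀ B : Matrix.SpecialLinearGroup (Fin 2) F, B.1 1 0 ≠ 0 → B ∈ K := by
    intro B hB
    rw [PSLB_aux_big B hB]
    exact K.mul_mem (K.mul_mem (hx _) (hy _)) (hx _)
  by_cases hA : A.1 1 0 = 0
  · have hdet := A.2
    rw [Matrix.det_fin_two, hA, mul_zero, sub_zero] at hdet
    have h00 : A.1 0 0 ≠ 0 := by
      intro h0
      rw [h0, zero_mul] at hdet
      exact zero_ne_one hdet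
    have hB : (PSLB_aux_y 1 * A).1 1 0 ≠ 0 := by
      rw [Matrix.SpecialLinearGroup.coe_mul]
      simp [PSLB_aux_y, Matrix.mul_apply, Fin.sum_univ_two, hA, h00]
    have h1 := key _ hB
    have h2 := K.mul_mem (K.inv_mem (hy 1)) h1
    rwa [inv_mul_cancel_left] at h2
  · exact key A hA

/-- PSLB (M): `PSL₂(F)` is generated by its `p`-elements: no proper normal subgroup contains a Sylow. -/
theorem PSLB (F : Type) [Field F] [Fintype F] (p : ℕ) [Fact p.Prime] (n : ℕ) (hn : 1 ≤ n)
    (hF : Fintype.card F = p ^ n)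
    (P : Sylow p (Matrix.ProjectiveSpecialLinearGroup (Fin 2) F))
    (N : Subgroup (Matrix.ProjectiveSpecialLinearGroup (Fin 2) F)) (hN : N.Normal)
    (hPN : (P : Subgroup (Matrix.ProjectiveSpecialLinearGroup (Fin 2) F)) ≤ N) : N = ⊤ := by
  classical
  set π : Matrix.SpecialLinearGroup (Fin 2) F →* Matrix.ProjectiveSpecialLinearGroup (Fin 2) F :=
    QuotientGroup.mk' (Subgroup.center (Matrix.SpecialLinearGroup (Fin 2) F)) with hπ
  have hπs : Function.Surjective π := QuotientGroup.mk'_surjective _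
  have hpF : IsPGroup p (Multiplicative F) := by
    apply IsPGroup.of_card (n := n)
    rw [Nat.card_eq_fintype_card, Fintype.card_multiplicative]
    exact hF
  -- every `p`-subgroup of `PSL₂` lies in `N`
  have hpN : ∀ Q : Subgroup (Matrix.ProjectiveSpecialLinearGroup (Fin 2) F), IsPGroup p Q → Q ≤ N := by
    intro Q hQ
    obtain ⟨R, hR⟩ := hQ.exists_le_sylow
    obtain ⟨g, hg⟩ := MulAction.exists_smul_eq (Matrix.ProjectiveSpecialLinearGroup (Fin 2) F) P R
    intro y hy
    have hy' : y ∈ ((g • P : Sylow p (Matrix.ProjectiveSpecialLinearGroup (Fin 2) F)) :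
        Subgroup (Matrix.ProjectiveSpecialLinearGroup (Fin 2) F)) := by
      rw [hg]
      exact hR hy
    rw [Sylow.coe_subgroup_smul, Subgroup.mem_pointwise_smul_iff_inv_smul_mem] at hy'
    have h1 := hN.conj_mem _ (hPN hy') g
    simpa [MulAut.smul_def, MulAut.conj_apply, mul_assoc] using h1
  have hxN : ∀ a : F, π (PSLB_aux_x a) ∈ N := by
    intro a
    have h1 : IsPGroup p (π.comp (PSLB_aux_xHom F)).range :=
      hpF.of_surjective (π.comp (PSLB_aux_xHom F)).rangeRestrict
        (π.comp (PSLB_aux_xHom F)).rangeRestrict_surjective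
    exact hpN _ h1 ⟨Multiplicative.ofAdd a, rfl⟩
  have hyN : ∀ a : F, π (PSLB_aux_y a) ∈ N := by
    intro a
    have h1 : IsPGroup p (π.comp (PSLB_aux_yHom F)).range :=
      hpF.of_surjective (π.comp (PSLB_aux_yHom F)).rangeRestrict
        (π.comp (PSLB_aux_yHom F)).rangeRestrict_surjective
    exact hpN _ h1 ⟨Multiplicative.ofAdd a, rfl⟩
  have htop : N.comap π = ⊤ := PSLB_aux_gen (N.comap π) hxN hyN
  rw [eq_top_iff]
  intro y _
  obtain ⟨A, rfl⟩ := hπs y
  have : A ∈ N.comap π := by
    rw [htop]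
    exact Subgroup.mem_top _
  exact this

end Cfsg.Agent.S2768P
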