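import Mathlib
import Cfsg.Prelude.Def_PLocal
import Cfsg.Agent.Helper28.S2768Defs

set_option autoImplicit false

/-! S2768 piece TRANSP: `RankOne` is invariant under isomorphism. -/

namespace Cfsg.Agent.S2768P

open Subgroup Cfsg.Agent.S2768P

/-- TRANSP (S): `RankOne` is invariant under isomorphism. -/
theorem TRANSP {X Y : Type*} [Group X] [Group Y] [Finite X] (p : ℕ) [Fact p.Prime] (e : X ≃* Y)
    (h : RankOne p Y) : RankOne p X := by
  have hinj : Function.Injective e.toMonoidHom := e.injective
  have hsurj : Function.Surjective e.toMonoidHom := e.surjective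
  -- the image Sylow subgroup
  let img : Sylow p X → Sylow p Y := fun P => P.mapSurjective hsurj
  have himg : ∀ P : Sylow p X, ((img P : Sylow p Y) : Subgroup Y) = (P : Subgroup X).map e.toMonoidHom :=
    fun P => rfl
  refine ⟨?_, ?_, ?_, ?_, ?_⟩
  · intro P a ha b hb
    apply hinj
    rw [map_mul, map_mul]
    exact h.comm (img P) _ (by rw [himg]; exact Subgroup.mem_map_of_mem _ ha) _
      (by rw [himg]; exact Subgroup.mem_map_of_mem _ hb)
  · intro P₁ P₂ hne
    have hne' : img P₁ ≠ img P₂ := by
      intro he
      apply hne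
      apply Sylow.ext
      have h1 : ((img P₁ : Sylow p Y) : Subgroup Y) = ((img P₂ : Sylow p Y) : Subgroup Y) := by
        rw [he]
      rw [himg, himg] at h1
      exact Subgroup.map_injective hinj h1
    have h2 := h.ti (img P₁) (img P₂) hne'
    rw [himg, himg, ← Subgroup.map_inf _ _ _ hinj] at h2
    exact (Subgroup.map_eq_bot_iff_of_injective _ hinj).1 h2
  · intro P hP
    apply h.ne_top (img P)
    rw [himg, hP, ← MonoidHom.range_eq_map, MonoidHom.range_eq_top]
    exact hsurj
  · intro P N hN hPN
    have hN' : (N.map e.toMonoidHom).Normal := hN.map _ hsurj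
    have h2 := h.gen (img P) (N.map e.toMonoidHom) hN' (by rw [himg]; exact Subgroup.map_mono hPN)
    rw [eq_top_iff]
    intro x _
    have hx : e.toMonoidHom x ∈ N.map e.toMonoidHom := by
      rw [h2]
      exact Subgroup.mem_top _
    obtain ⟨n, hn, hnx⟩ := hx
    rw [← hinj hnx]
    exact hn
  · intro P U₁ hU hne hnorm
    have h2 := h.irr (img P) (U₁.map e.toMonoidHom) (by rw [himg]; exact Subgroup.map_mono hU)
      (by
        intro hb
        exact hne ((Subgroup.map_eq_bot_iff_of_injective _ hinj).1 hb))
      (by
        rw [himg, ← Subgroup.map_equiv_normalizer_eq, ← Subgroup.map_equiv_normalizer_eq]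
        exact Subgroup.map_mono hnorm)
    rw [himg] at h2
    exact Subgroup.map_injective hinj h2

end Cfsg.Agent.S2768P
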