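import Mathlib
import Cfsg.Prelude.Def_PLocal
import Cfsg.Agent.Helper28.S2768Defs
import Cfsg.Agent.Helper14.PCore
import Cfsg.Agent.Helper1.S2768VF1

set_option autoImplicit false

/-! S2768 piece NOOA (5.4): `[V, S^g] < [V, G]`. -/

namespace Cfsg.Agent.S2768P

open Subgroup Cfsg.Agent.S2768P

variable {G : Type*} [Group G] [Finite G] {p : ℕ} [Fact p.Prime]

/-- In a nilpotent subgroup `T`, a subgroup `N ≤ T` with `[N, T] = N` is trivial. -/
theorem NOOA_aux_nil {G : Type*} [Group G] (T N : Subgroup G) (hT : Group.IsNilpotent ↥T)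
    (hNT : N ≤ T) (h : ⁅N, T⁆ = N) : N = ⊥ := by
  obtain ⟨n, hn⟩ := (Subgroup.isNilpotent_iff_lowerCentralSeries T).1 hT
  have key : ∀ k : ℕ, N ≤ T.lowerCentralSeries k := by
    intro k
    induction k with
    | zero => exact hNT
    | succ k ih =>
      rw [Subgroup.lowerCentralSeries_succ, ← h]
      exact Subgroup.commutator_mono ih le_rfl
  have := key n
  rw [hn] at this
  exact le_bot_iff.1 this

/-- NOOA (M): 5.4, `[V, S^g] < [V, G]`. -/
theorem NOOA (S : Sylow p G) (M : Subgroup G) (hb : Basic p S M)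
    (hZ : ¬ (Z (S : Subgroup G)).Normal) (g : G) :
    ⁅V (S : Subgroup G), cj g (S : Subgroup G)⁆ < ⁅V (S : Subgroup G), (⊤ : Subgroup G)⁆ := by
  obtain ⟨hVQ, hQC, -, -⟩ := VF1 S M hb
  set Sg : Subgroup G := (S : Subgroup G) with hSg
  set Vv : Subgroup G := V Sg with hVv
  set T : Subgroup G := cj g Sg with hT
  set V1 : Subgroup G := ⁅Vv, (⊤ : Subgroup G)⁆ with hV1
  have hVn : Vv.Normal := by
    rw [hVv]
    unfold V
    exact Subgroup.normalClosure_normal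
  have hV1n : V1.Normal := by
    rw [hV1]
    exact Subgroup.commutator_normal Vv ⊤
  have hV1V : V1 ≤ Vv := Subgroup.commutator_le_left Vv ⊤
  have hZV : Z Sg ≤ Vv := by
    rw [hVv]
    unfold V
    exact Subgroup.subset_normalClosure
  -- `V` is abelian
  have hVab : ∀ a ∈ Vv, ∀ b ∈ Vv, a * b = b * a := by
    intro a ha b hb'
    have := (Subgroup.mem_centralizer_iff.1 (hQC (hVQ hb'))) a ha
    exact this
  -- `Q ≤ T`
  have hQn : (Cfsg.pCore p G).Normal := Cfsg.Agent.Helper14.pCore_normal p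
  have hQS : Cfsg.pCore p G ≤ Sg := Cfsg.Agent.Helper14.pCore_le_sylow p S
  have hQT : Cfsg.pCore p G ≤ T := by
    intro x hx
    refine ⟨g⁻¹ * x * g, hQS ?_, ?_⟩
    · have := hQn.conj_mem x hx g⁻¹
      simpa using this
    · simp [MulAut.conj_apply, mul_assoc]
  have hV1T : V1 ≤ T := hV1V.trans (hVQ.trans hQT)
  -- `T` is nilpotent
  have hTp : IsPGroup p ↥T := S.isPGroup'.map _
  have hTnil : Group.IsNilpotent ↥T := hTp.isNilpotent
  -- `V1 ≠ ⊥`
  have hV1ne : V1 ≠ ⊥ := by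
    intro hbot
    apply hZ
    rw [hV1, Subgroup.commutator_eq_bot_iff_le_centralizer] at hbot
    refine ⟨fun z hz x => ?_⟩
    have hzc := (Subgroup.mem_centralizer_iff.1 (hbot (hZV hz))) x (Subgroup.mem_top x)
    have e : x * z * x⁻¹ = z := by
      rw [hzc, mul_inv_cancel_right]
    rw [e]
    exact hz
  -- commutators `[x, y]`, `y ∈ V`, lie in `V1`
  have hcomm : ∀ x : G, ∀ y ∈ Vv, x * y * x⁻¹ * y⁻¹ ∈ V1 := by
    intro x y hy
    rw [hV1, Subgroup.commutator_comm, ← commutatorElement_def]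
    exact Subgroup.commutator_mem_commutator (Subgroup.mem_top x) hy
  -- `Y = Z(T) V1` is normal and contains `Z(S)`
  set Y : Subgroup G := cj g (Z Sg) ⊔ V1 with hY
  have hcjV : cj g (Z Sg) ≤ Vv := by
    rintro _ ⟨z, hz, rfl⟩
    exact hVn.conj_mem z (hZV hz) g
  have hYV : Y ≤ Vv := sup_le hcjV hV1V
  have hYn : Y.Normal := by
    refine ⟨fun y hy x => ?_⟩
    have h1 := hcomm x y (hYV hy)
    have h2 : x * y * x⁻¹ = (x * y * x⁻¹ * y⁻¹) * y := by group
    rw [h2]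
    exact Y.mul_mem ((le_sup_right : V1 ≤ Y) h1) hy
  have hZY : Z Sg ≤ Y := by
    intro z hz
    have h1 : g * z * g⁻¹ ∈ cj g (Z Sg) := ⟨z, hz, rfl⟩
    have h2 : g * z⁻¹ * g⁻¹ * (z⁻¹)⁻¹ ∈ V1 := hcomm g z⁻¹ (Vv.inv_mem (hZV hz))
    have e : z = (g * z * g⁻¹) * (g * z⁻¹ * g⁻¹ * (z⁻¹)⁻¹) := by group
    rw [e]
    exact Y.mul_mem ((le_sup_left : cj g (Z Sg) ≤ Y) h1) ((le_sup_right : V1 ≤ Y) h2)
  have hVY : Vv ≤ Y := by
    rw [hVv]
    unfold V
    exact Subgroup.normalClosure_le_normal hZY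
  -- `[V, T] ≤ [V1, T]`
  have hle : ⁅Vv, T⁆ ≤ ⁅V1, T⁆ := by
    rw [Subgroup.commutator_le]
    intro v hv t ht
    have hvY : v ∈ (↑(cj g (Z Sg) ⊔ V1) : Set G) := hVY hv
    rw [Subgroup.mul_normal] at hvY
    obtain ⟨c, hc, w, hw, rfl⟩ := hvY
    -- `c` commutes with `t`
    obtain ⟨z, hz, rfl⟩ := hc
    obtain ⟨s, hs, rfl⟩ := ht
    have hzs : z * s = s * z := by
      have h1 : z ∈ centralizer (Sg : Set G) := (Subgroup.mem_inf.1 hz).2
      exact ((Subgroup.mem_centralizer_iff.1 h1) s hs).symm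
    set c : G := (MulAut.conj g).toMonoidHom z with hc
    set t : G := (MulAut.conj g).toMonoidHom s with ht
    have hct : c * t = t * c := by
      rw [hc, ht, ← map_mul, ← map_mul, hzs]
    have hcV : c ∈ Vv := hcjV ⟨z, hz, rfl⟩
    have hwV : w ∈ Vv := hV1V hw
    have hwt : w * t * w⁻¹ * t⁻¹ ∈ Vv := by
      have h1 : t * w⁻¹ * t⁻¹ ∈ Vv := hVn.conj_mem _ (Vv.inv_mem hwV) t
      have := Vv.mul_mem hwV h1
      simpa [mul_assoc] using this
    have hcw := hVab c hcV _ hwt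
    have e : c * w * t * (c * w)⁻¹ * t⁻¹ = w * t * w⁻¹ * t⁻¹ := by
      have hct' : t * c⁻¹ = c⁻¹ * t := by
        rw [eq_inv_mul_iff_mul_eq, ← mul_assoc, hct, mul_assoc, mul_inv_cancel, mul_one]
      calc c * w * t * (c * w)⁻¹ * t⁻¹ = c * (w * t * w⁻¹) * c⁻¹ * t⁻¹ := by group
        _ = c * (w * t * w⁻¹) * (t⁻¹ * (t * c⁻¹)) * t⁻¹ := by group
        _ = c * (w * t * w⁻¹) * (t⁻¹ * (c⁻¹ * t)) * t⁻¹ := by rw [hct']
        _ = c * (w * t * w⁻¹ * t⁻¹) * c⁻¹ := by group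
        _ = (w * t * w⁻¹ * t⁻¹) * c * c⁻¹ := by rw [hcw]
        _ = w * t * w⁻¹ * t⁻¹ := by group
    rw [commutatorElement_def, e, ← commutatorElement_def]
    exact Subgroup.commutator_mem_commutator hw ⟨s, hs, rfl⟩
  refine lt_of_le_of_ne (Subgroup.commutator_mono le_rfl le_top) ?_
  intro heq
  apply hV1ne
  apply NOOA_aux_nil T V1 hTnil hV1T
  apply le_antisymm
  · exact Subgroup.commutator_le_left V1 T
  · calc V1 = ⁅Vv, T⁆ := heq.symm
      _ ≤ ⁅V1, T⁆ := hle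

end Cfsg.Agent.S2768P
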