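import Mathlib
import Cfsg.Prelude.Def_GeometricClasses
import Cfsg.Agent.Helper2.S5886.Defs
import Cfsg.Agent.Helper2.S5664.Defs

/-! # S5664 chapter T (r = p = 2), pieces TCHAR2 and TTRND — helper25 (design helper12) -/

set_option autoImplicit false

namespace Cfsg.Agent.S5664P

open Cfsg.Agent.S5886P

variable {F K V : Type*} [Field F] [Field K] [Algebra F K]
  [AddCommGroup V] [Module F V] [Module K V] [IsScalarTower F K V]

/-- TCHAR2 (S): characteristic 2 consequences. -/
theorem TCHAR2 [CharP F 2] (B : V →ₗ[K] V →ₗ[K] K) (hB : IsAltND B) :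
    (∀ a : K, a + a = 0) ∧ (∀ x : V, x + x = 0) ∧ (∀ x y : V, B x y = B y x) := by
  haveI : CharP K 2 := charP_of_injective_algebraMap (algebraMap F K).injective 2
  have h1 : ∀ a : K, a + a = 0 := fun a => CharTwo.add_self_eq_zero a
  have h2 : ∀ x : V, x + x = 0 := by
    intro x
    have : x + x = ((1 : K) + 1) • x := by rw [add_smul, one_smul]
    rw [this, h1, zero_smul]
  refine ⟨h1, h2, ?_⟩
  intro x y
  have h := hB.alt (x + y)
  simp only [map_add, LinearMap.add_apply, hB.alt x, hB.alt y] at h
  have h3 : B x y + B y x = 0 := by linear_combination h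
  have h4 : B x y = - B y x := eq_neg_of_add_eq_zero_left h3
  rw [h4]
  exact CharTwo.neg_eq (B y x)

end Cfsg.Agent.S5664P
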