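import Mathlib
import Cfsg.Prelude.Def_GeometricClasses
import Cfsg.Agent.Helper2.S5886.Defs
import Cfsg.Agent.Helper2.S5664.Defs

/-! # S5664 chapter T (r = p = 2), piece TGAL2 — helper25 (design helper12) -/

set_option autoImplicit false

namespace Cfsg.Agent.S5664P

open Cfsg.Agent.S5886P

variable {F K V : Type*} [Field F] [Field K] [Algebra F K]
  [AddCommGroup V] [Module F V] [Module K V] [IsScalarTower F K V]

/-- TGAL2 (S): a quadratic extension of finite fields has a non-trivial automorphism. -/
theorem TGAL2 [Finite F] [Finite K] (hr2 : Module.finrank F K = 2) : ∃ σ : K ≃ₐ[F] K, σ ≠ 1 := by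
  have : IsGalois F K := inferInstance
  have hcard : Nat.card (K ≃ₐ[F] K) = 2 := by
    rw [IsGalois.card_aut_eq_finrank F K, hr2]
  have hnt : Nontrivial (K ≃ₐ[F] K) := by
    rw [← Finite.one_lt_card_iff_nontrivial, hcard]
    norm_num
  exact exists_ne 1

end Cfsg.Agent.S5664P
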