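import Mathlib
import Cfsg.Prelude.Def_GeometricClasses
import Cfsg.Agent.Helper2.S5886.Defs
import Cfsg.Agent.Helper2.S5664.Defs

/-! # S5664 chapter T (r = p = 2), piece TKSPAN — helper25 (design helper12) -/

set_option autoImplicit false

namespace Cfsg.Agent.S5664P

open Cfsg.Agent.S5886P

variable {F K V : Type*} [Field F] [Field K] [Algebra F K]
  [AddCommGroup V] [Module F V] [Module K V] [IsScalarTower F K V]

/-- TKSPAN (S-M): `k ∉ F`, `[K : F] = 2`: `1, k` span `K`. -/
theorem TKSPAN [Finite F] [Finite K] (hr2 : Module.finrank F K = 2) (k : K)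
    (hk : k ∉ Set.range (algebraMap F K)) (c : K) : ∃ a b : F, c = algebraMap F K a + b • k := by
  have hli : LinearIndependent F ![(1 : K), k] := by
    rw [LinearIndependent.pair_iff]
    intro s t hst
    by_cases ht : t = 0
    · subst ht
      rw [zero_smul, add_zero, Algebra.smul_def, mul_one] at hst
      have : s = 0 := (algebraMap F K).injective (by rw [hst, map_zero])
      exact ⟨this, rfl⟩
    · exfalso
      apply hk
      refine ⟨-(s / t), ?_⟩
      have h1 : t • k = -(s • (1 : K)) := eq_neg_of_add_eq_zero_right hst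
      have h2 : k = t⁻¹ • (t • k) := by rw [smul_smul, inv_mul_cancel₀ ht, one_smul]
      rw [h2, h1, Algebra.smul_def, Algebra.smul_def, mul_one, map_neg, map_div₀, map_inv₀]
      ring
  have hspan : Submodule.span F (Set.range ![(1 : K), k]) = ⊤ :=
    hli.span_eq_top_of_card_eq_finrank' (by rw [hr2]; rfl)
  have hc : c ∈ Submodule.span F (Set.range ![(1 : K), k]) := by rw [hspan]; trivial
  rw [Matrix.range_cons, Matrix.range_cons, Matrix.range_empty, Set.union_empty,
    Set.singleton_union, Submodule.mem_span_pair] at hc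
  obtain ⟨a, b, hab⟩ := hc
  refine ⟨a, b, ?_⟩
  rw [← hab, Algebra.smul_def, mul_one]

end Cfsg.Agent.S5664P
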