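import Mathlib
import Cfsg.Prelude.Def_GeometricClasses
import Cfsg.Agent.Helper2.S5886.Defs
import Cfsg.Agent.Helper2.S5664.Defs
import Cfsg.Agent.Helper26.S5886PROJA
import Cfsg.Agent.Helper22.S5886PROJB
import Cfsg.Agent.Helper5.S5664YKTV
import Cfsg.Agent.Helper25.S5664SYMREL

/-! # S5664 chapter C3' (r = p = 2), piece TYLIN — helper25 (design helper2) -/

set_option autoImplicit false

namespace Cfsg.Agent.S5664P

open Cfsg.Agent.S5886P

variable {F K V : Type*} [Field F] [Field K] [Algebra F K]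
  [AddCommGroup V] [Module F V] [Module K V] [IsScalarTower F K V]

/-- `smap B v 1 a` is `K`-linear -/
theorem TYLIN.smap_one_semi (B : V →ₗ[K] V →ₗ[K] K) (v : V) (a : K) :
    IsSemi (1 : K ≃ₐ[F] K) (smap B v (1 : K ≃ₐ[F] K) a) := by
  intro k x
  rw [smap_apply, smap_apply, map_smul, LinearMap.smul_apply, smul_eq_mul]
  simp only [AlgEquiv.one_apply]
  rw [← mul_smul]
  congr 1
  ring

/-- every `A ∈ yset` is `IsSemi 1` (`r = 2`, non-full) -/
theorem TYLIN.semi [Finite F] [Finite K] [Finite V] (hr2 : Module.finrank F K = 2)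
    (B : V →ₗ[K] V →ₗ[K] K) (hB : IsAltND B)
    (M : Subgroup (V ≃ₗ[F] V)) (hK : SpK F B ≤ M) (v : V) (hv : v ≠ 0)
    (hS : Sig' (K := K) M (Kline (F := F) (K := K) v) ≠ Set.univ)
    (A : V →ₗ[F] V) (hA : A ∈ yset M (Kline (F := F) (K := K) v)) :
    IsSemi (1 : K ≃ₐ[F] K) A := by
  classical
  have : IsGalois F K := inferInstance
  letI : Fintype (K ≃ₐ[F] K) := Fintype.ofFinite _
  -- `1 ∈ Sig'`
  have h1S : (1 : K ≃ₐ[F] K) ∈ Sig' (K := K) M (Kline (F := F) (K := K) v) := by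
    refine ⟨smap B v (1 : K ≃ₐ[F] K) 1, YKTV B hB M hK v 1, ?_⟩
    rw [PROJ.of_semi_eq _ _ (TYLIN.smap_one_semi B v 1)]
    obtain ⟨v', hv'⟩ := SYMREL.exists_partner B hB v hv
    intro h0
    have := LinearMap.congr_fun h0 v'
    rw [smap_apply, hv', LinearMap.zero_apply] at this
    simp only [AlgEquiv.one_apply, mul_one, one_smul] at this
    exact hv this
  -- some `σ ∉ Sig'`
  obtain ⟨σ, hσ⟩ : ∃ σ : K ≃ₐ[F] K, σ ∉ Sig' (K := K) M (Kline (F := F) (K := K) v) := by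
    by_contra hcon
    push Not at hcon
    exact hS (Set.eq_univ_of_forall hcon)
  have hσ1 : (1 : K ≃ₐ[F] K) ≠ σ := by
    intro h; rw [← h] at hσ; exact hσ h1S
  have hcard : Fintype.card (K ≃ₐ[F] K) = 2 := by
    rw [← Nat.card_eq_fintype_card, IsGalois.card_aut_eq_finrank F K, hr2]
  have huniv : (Finset.univ : Finset (K ≃ₐ[F] K)) = {1, σ} := by
    symm
    apply Finset.eq_univ_of_card
    rw [Finset.card_pair hσ1, hcard]
  have hσA : proj σ A = 0 := by
    by_contra h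
    exact hσ ⟨A, hA, h⟩
  have hsum := PROJ.sum (F := F) (K := K) A
  rw [finsum_eq_sum_of_fintype] at hsum
  have hsum' : ∑ τ : K ≃ₐ[F] K, proj τ A = proj (1 : K ≃ₐ[F] K) A + proj σ A := by
    rw [huniv, Finset.sum_pair hσ1]
  have hA1 : A = proj (1 : K ≃ₐ[F] K) A := by
    calc A = ∑ τ : K ≃ₐ[F] K, proj τ A := hsum.symm
      _ = proj (1 : K ≃ₐ[F] K) A + proj σ A := hsum'
      _ = proj (1 : K ≃ₐ[F] K) A := by rw [hσA, add_zero]
  rw [hA1]
  exact PROJ.semi 1 A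

/-- TYLIN (M): `r = 2`, non-full: every `A ∈ yset` is `K`-linear. -/
theorem TYLIN [Finite F] [Finite K] [Finite V] (hr2 : Module.finrank F K = 2)
    (B : V →ₗ[K] V →ₗ[K] K) (hB : IsAltND B)
    (M : Subgroup (V ≃ₗ[F] V)) (hK : SpK F B ≤ M) (v : V) (hv : v ≠ 0)
    (hS : Sig' (K := K) M (Kline (F := F) (K := K) v) ≠ Set.univ)
    (A : V →ₗ[F] V) (hA : A ∈ yset M (Kline (F := F) (K := K) v)) (c : K) (x : V) :
    A (c • x) = c • A x := by
  have h := TYLIN.semi hr2 B hB M hK v hv hS A hA c x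
  rw [h]
  rfl

end Cfsg.Agent.S5664P
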