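import Mathlib
import Cfsg.Prelude.Def_GeometricClasses
import Cfsg.Agent.Helper2.S5886.Defs
import Cfsg.Agent.Helper2.S5664.Defs

/-! # S5664 chapter T (r = p = 2), piece TTRND — helper25 (design helper12) -/

set_option autoImplicit false

namespace Cfsg.Agent.S5664P

open Cfsg.Agent.S5886P

variable {F K V : Type*} [Field F] [Field K] [Algebra F K]
  [AddCommGroup V] [Module F V] [Module K V] [IsScalarTower F K V]

/-- TTRND (S): non-degeneracy of the trace form of `K / F`. -/
theorem TTRND [Finite F] [Finite K] (a : K) (h : ∀ c : K, Algebra.trace F K (c * a) = 0) : a = 0 := by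
  have hnd := traceForm_nondegenerate F K
  apply hnd.2
  intro c
  rw [Algebra.traceForm_apply]
  exact h c

end Cfsg.Agent.S5664P
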