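import Mathlib
import Cfsg.Prelude.Def_Characters
import Cfsg.Agent.Helper12.LSpWDefs
import Cfsg.Agent.Helper12.LSpWPDefs
import Cfsg.Agent.Helper12.LSLDefs
import Cfsg.Agent.Helper12.RUSpB
import Cfsg.Agent.Helper12.LSpWFin
import Cfsg.Agent.Helper20.PermCharI
import Cfsg.Agent.Helper25.SpUH
import Cfsg.Agent.Helper12.WGDefs
import Cfsg.Agent.Helper12.WGDefsC
import Cfsg.Agent.Helper12.WGDefsD
import Cfsg.Agent.Helper12.WGStruct
import Cfsg.Agent.Helper24.Invariants
import Cfsg.Agent.Helper22.WGGEN
import Cfsg.Agent.Helper8.WGKEYB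

set_option autoImplicit false

/-! # S2524 part B, piece FIXJ (driver helper12): a nontrivial irreducible character of
`Sp_{2(m+1)}` with spectrum of rank at most one has no fixed vectors under the stabiliser of `e0`. -/

namespace Cfsg.Agent.S2524P

open Matrix Cfsg Cfsg.Agent.S2333P Cfsg.Agent.Helper2.Sp Cfsg.Agent.Helper12.LSp Cfsg.Agent.Helper25
open Cfsg.Agent.Helper12.LSL Cfsg.Agent.Helper20.PermChar Cfsg.Agent.Helper24
open Representation Module

variable {F : Type*} [Field F] [Fintype F]

/-- `Lam` of the transvection `1 + E_{10}` moves the line of `e0` -/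
theorem fixj_lam_e0 {m : ℕ} (hm : 1 ≤ m) (a : F) :
    ((SpU.Lam (Matrix.SpecialLinearGroup.transvection
      (show (⟨1, by omega⟩ : Fin (m + 1)) ≠ 0 from by
        intro h
        have := congrArg Fin.val h
        simp at this) (1 : F)) : ↥(symplecticGroup (Fin (m + 1)) F)) :
        Matrix (Fin (m + 1) ⊕ Fin (m + 1)) (Fin (m + 1) ⊕ Fin (m + 1)) F) *ᵥ e0 ≠ a • e0 := by
  intro h
  have h1 := congrFun h (Sum.inl ⟨1, by omega⟩)
  rw [SpU.Lam_val] at h1
  have hne : (⟨1, by omega⟩ : Fin (m + 1)) ≠ 0 := by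
    intro h
    have := congrArg Fin.val h
    simp at this
  simp [e0, SpU.lev, Matrix.SpecialLinearGroup.transvection_coe, Matrix.transvection,
    Matrix.mulVec_single_one, hne, Matrix.add_apply, Matrix.one_apply] at h1

/-- **FIXJ**: no fixed vectors of the stabiliser of `e0` -/
theorem fixJ (hodd : Odd (Fintype.card F)) {m : ℕ} (hm : 1 ≤ m) (ψ : AddChar F ℂ) (hψ : ψ ≠ 1)
    (χ : ↥(symplecticGroup (Fin (m + 1)) F) → ℂ)
    (hχ : IsIrrCharacter ↥(symplecticGroup (Fin (m + 1)) F) χ) (h1 : χ ≠ (fun _ => 1))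
    (hrk : RankLeOne ψ (US (m + 1) F) χ) :
    classInner (fun x : Gam m F => χ (iota m F x)) (fun _ => 1) = 0 := by
  classical
  have h2 : (2 : F) ≠ 0 := two_ne_zero_of_odd_card hodd
  obtain ⟨n, ρ, hρ, rfl⟩ := hχ
  haveI := hρ
  -- the invariants of the whole group vanish
  have hinv0 : invariants ρ = ⊥ := by
    haveI : Invertible (Nat.card ↥(symplecticGroup (Fin (m + 1)) F) : ℂ) := by
      apply invertibleOfNonzero
      have := Nat.card_pos (α := ↥(symplecticGroup (Fin (m + 1)) F))
      exact_mod_cast this.ne'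
    have e1 := card_inv_mul_sum_char_eq_finrank ρ
    have e2 : classInner ρ.character (fun _ => (1 : ℂ)) = 0 := by
      rw [classInner_of_isIrrCharacter ⟨n, ρ, hρ, rfl⟩ isIrrCharacter_const_one, if_neg h1]
    have e3 : classInner ρ.character (fun _ => (1 : ℂ)) =
        (Nat.card ↥(symplecticGroup (Fin (m + 1)) F) : ℂ)⁻¹ *
          ∑ g : ↥(symplecticGroup (Fin (m + 1)) F), ρ.character g := by
      unfold classInner
      congr 1
      refine Finset.sum_congr rfl ?_
      intro g _
      rw [map_one, mul_one]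
    rw [← e3, e2] at e1
    have e4 : finrank ℂ (invariants ρ) = 0 := by exact_mod_cast e1.symm
    exact Submodule.finrank_eq_zero.mp e4
  -- the invariants of the stabiliser of `e0` vanish
  have hJ0 : invariants (ρ.comp (iota m F)) = ⊥ := by
    rw [eq_bot_iff]
    intro u hu
    rw [mem_invariants] at hu
    have huJ : ∀ x : Gam m F, ρ (iota m F x) u = u := fun x => hu x
    have huQ : ∀ Y : Multiplicative ↥(SymM (m + 1) F), ρ (US (m + 1) F Y) u = u := by
      intro Y
      rw [← iota_qt]
      exact huJ _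
    have huL : ∀ A : Matrix.SpecialLinearGroup (Fin (m + 1)) F, ρ (SpU.Lam A) u = u :=
      fun A => keyB h2 ψ hψ ρ hrk A u huQ
    let S : Subgroup ↥(symplecticGroup (Fin (m + 1)) F) :=
      { carrier := {g | ρ g u = u}
        one_mem' := by simp
        mul_mem' := by
          intro a b ha hb
          simp only [Set.mem_ofPred_eq] at ha hb ⊢
          rw [map_mul, Module.End.mul_apply, hb, ha]
        inv_mem' := by
          intro a ha
          simp only [Set.mem_ofPred_eq] at ha ⊢
          calc ρ a⁻¹ u = ρ a⁻¹ (ρ a u) := by rw [ha]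
            _ = (ρ a⁻¹ * ρ a) u := rfl
            _ = u := by rw [← map_mul, inv_mul_cancel, map_one]; rfl }
    have hS : S = ⊤ := gen_top S (fun x => huJ x) _ (huL _) (fixj_lam_e0 hm)
    rw [Submodule.mem_bot, ← Submodule.mem_bot ℂ, ← hinv0, mem_invariants]
    intro g
    have hg : g ∈ S := by
      rw [hS]
      exact Subgroup.mem_top g
    exact hg
  -- conclusion
  haveI : Invertible (Nat.card (Gam m F) : ℂ) := by
    apply invertibleOfNonzero
    have := Nat.card_pos (α := Gam m F)
    exact_mod_cast this.ne'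
  have e5 := card_inv_mul_sum_char_eq_finrank (ρ.comp (iota m F))
  rw [hJ0, finrank_bot] at e5
  rw [← Nat.cast_zero, ← e5]
  unfold classInner
  congr 1
  refine Finset.sum_congr rfl ?_
  intro x _
  rw [map_one, mul_one]
  rfl

end Cfsg.Agent.S2524P
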