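import Mathlib
import Cfsg.Prelude.Def_Characters
import Cfsg.Agent.Helper24.Generalized
import Cfsg.Agent.Helper24.Orthogonality
import Cfsg.Agent.Helper24.Linear
import Cfsg.Agent.Helper24.RealChar
import Cfsg.Agent.Helper24.Artin
import Cfsg.Agent.Helper8.PosDef

set_option autoImplicit false

/-! # S2524 part B, piece GRAM (driver helper12): the Gram trick. -/

namespace Cfsg.Agent.S2524P

open Cfsg Cfsg.Agent.Helper24

open scoped ComplexConjugate

/-- **GRAM**: the Gram trick -/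
theorem gram_trick {G : Type*} [Group G] [Fintype G] {J : Type*} [Group J] (ι : J →* G)
    (htriv : ∀ ξ : G → ℂ, IsIrrCharacter G ξ → (∀ x : J, ξ (ι x) = ξ 1) → ξ = fun _ => 1)
    (X A0 A1 : G → ℂ) (hX : IsIrrCharacter G X) (h0 : IsIrrCharacter G A0)
    (h1 : IsIrrCharacter G A1) (h01 : A0 ≠ A1) (b0 b1 : ℕ)
    (hJ : ∀ x : J, X (ι x) = b0 * A0 (ι x) + b1 * A1 (ι x))
    (hnorm : ∀ g : G, X g - b0 * A0 g - b1 * A1 g ≠ 0 → Complex.normSq (A0 g + A1 g) = 1) :
    X = A0 ∨ X = A1 := by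
  classical
  let _ : Fintype (IrrCharacter G) := Fintype.ofFinite _
  by_contra hcon
  rw [not_or] at hcon
  obtain ⟨hXA0, hXA1⟩ := hcon
  -- inner products
  have iXX : classInner X X = 1 := classInner_irr_self ⟨X, hX⟩
  have i00 : classInner A0 A0 = 1 := classInner_irr_self ⟨A0, h0⟩
  have i11 : classInner A1 A1 = 1 := classInner_irr_self ⟨A1, h1⟩
  have ne_of : ∀ {a b : G → ℂ} (ha : IsIrrCharacter G a) (hb : IsIrrCharacter G b), a ≠ b →
      classInner a b = 0 := by
    intro a b ha hb hab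
    exact classInner_irr_ne (χ := ⟨a, ha⟩) (ψ := ⟨b, hb⟩)
      (fun h => hab (congrArg Subtype.val h))
  have iX0 : classInner X A0 = 0 := ne_of hX h0 hXA0
  have i0X : classInner A0 X = 0 := ne_of h0 hX (Ne.symm hXA0)
  have iX1 : classInner X A1 = 0 := ne_of hX h1 hXA1
  have i1X : classInner A1 X = 0 := ne_of h1 hX (Ne.symm hXA1)
  have i01 : classInner A0 A1 = 0 := ne_of h0 h1 h01
  have i10 : classInner A1 A0 = 0 := ne_of h1 h0 (Ne.symm h01)
  -- the difference
  set Δ : G → ℂ := X - (b0 : ℂ) • A0 - (b1 : ℂ) • A1 with hΔ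
  have hΔapp : ∀ g, Δ g = X g - b0 * A0 g - b1 * A1 g := by
    intro g
    simp [hΔ]
  have hΔgen : IsGeneralizedCharacter G Δ := by
    rw [hΔ]
    exact IsGeneralizedCharacter.sub (IsGeneralizedCharacter.sub
      (IsIrrCharacter.isGeneralizedCharacter hX)
      (IsGeneralizedCharacter.nsmul (IsIrrCharacter.isGeneralizedCharacter h0) b0))
      (IsGeneralizedCharacter.nsmul (IsIrrCharacter.isGeneralizedCharacter h1) b1)
  have hΔΔ : classInner Δ Δ = 1 + (b0 : ℂ) ^ 2 + (b1 : ℂ) ^ 2 := by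
    simp only [hΔ, classInner_sub_left, classInner_sub_right, classInner_smul_left,
      classInner_smul_right, iXX, i00, i11, iX0, i0X, iX1, i1X, i01, i10, map_natCast]
    ring
  set c : ℂ := (b0 : ℂ) + (b1 : ℂ) with hc
  have hΔω : classInner Δ (A0 + A1) = -c := by
    simp only [hΔ, classInner_sub_left, classInner_add_right, classInner_smul_left,
      i00, i11, iX0, iX1, i01, i10]
    rw [hc]
    ring
  -- the product with the conjugate of `A0 + A1`
  set Θ : G → ℂ := Δ * (fun g => conj ((A0 + A1) g)) with hΘ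
  have hΘapp : ∀ g, Θ g = Δ g * conj (A0 g + A1 g) := by
    intro g
    rfl
  have hΘgen : IsGeneralizedCharacter G Θ := by
    apply IsGeneralizedCharacter.mul hΔgen
    apply IsCharacter.isGeneralizedCharacter
    apply isCharacter_star
    exact IsCharacter.add (IsIrrCharacter.isCharacter h0) (IsIrrCharacter.isCharacter h1)
  have hΘΘ : classInner Θ Θ = classInner Δ Δ := by
    unfold classInner
    congr 1
    apply Finset.sum_congr rfl
    intro g _
    rw [hΘapp]
    by_cases hg : Δ g = 0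
    · rw [hg]
      simp
    · have h1' : Complex.normSq (A0 g + A1 g) = 1 := by
        apply hnorm
        rw [← hΔapp]
        exact hg
      have h2 : (A0 g + A1 g) * conj (A0 g + A1 g) = 1 := by
        rw [Complex.mul_conj, h1']
        simp
      rw [map_mul, Complex.conj_conj]
      calc Δ g * conj (A0 g + A1 g) * (conj (Δ g) * (A0 g + A1 g))
          = Δ g * conj (Δ g) * ((A0 g + A1 g) * conj (A0 g + A1 g)) := by ring
        _ = Δ g * conj (Δ g) := by rw [h2, mul_one]
  have hΘ1 : classInner Θ (fun _ => (1 : ℂ)) = -c := by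
    rw [← hΔω]
    unfold classInner
    congr 1
    apply Finset.sum_congr rfl
    intro g _
    rw [hΘapp]
    simp
  have h1Θ : classInner (fun _ => (1 : ℂ)) Θ = -c := by
    rw [← classInner_conj_symm, hΘ1, hc]
    simp
  have i11' : classInner (fun _ : G => (1 : ℂ)) (fun _ => (1 : ℂ)) = 1 :=
    classInner_irr_self (trivIrr G)
  -- remove the trivial constituent
  set Θ' : G → ℂ := Θ + c • (fun _ => (1 : ℂ)) with hΘ'
  have hcconj : conj c = c := by
    rw [hc]
    simp
  have hΘ'Θ' : classInner Θ' Θ' = ((1 - 2 * (b0 : ℤ) * (b1 : ℤ) : ℤ) : ℂ) := by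
    rw [hΘ']
    simp only [classInner_add_left, classInner_add_right, classInner_smul_left,
      classInner_smul_right, hΘΘ, hΔΔ, hΘ1, h1Θ, i11', hcconj]
    rw [hc]
    push_cast
    ring
  have hΘ'gen : IsGeneralizedCharacter G Θ' := by
    have e : Θ' = Θ + ((b0 + b1 : ℕ) : ℂ) • (trivIrr G : G → ℂ) := by
      rw [hΘ', hc]
      push_cast
      rfl
    rw [e]
    exact IsGeneralizedCharacter.add hΘgen (IsGeneralizedCharacter.nsmul
      (IsIrrCharacter.isGeneralizedCharacter (trivIrr G).2) (b0 + b1))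
  have hnn := Cfsg.Agent.Helper8.int_nonneg_of_classInner_self hΘ'Θ'
  have hb : b0 * b1 = 0 := by
    have : (b0 : ℤ) * (b1 : ℤ) = 0 := by
      have h3 : 0 ≤ (b0 : ℤ) * (b1 : ℤ) := by positivity
      nlinarith
    exact_mod_cast this
  have hΘ'one : classInner Θ' Θ' = 1 := by
    rw [hΘ'Θ']
    have : (b0 : ℤ) * (b1 : ℤ) = 0 := by exact_mod_cast hb
    have h4 : (1 - 2 * (b0 : ℤ) * (b1 : ℤ) : ℤ) = 1 := by
      rw [mul_assoc, this]
      norm_num
    rw [h4]
    simp
  obtain ⟨ψ, hψ⟩ := IsGeneralizedCharacter.eq_or_eq_neg_of_classInner_self hΘ'gen hΘ'one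
  -- `Θ'` on `ι J`
  have hΘ'J : ∀ x : J, Θ' (ι x) = c := by
    intro x
    have : Δ (ι x) = 0 := by
      rw [hΔapp, hJ x]
      ring
    show Θ (ι x) + c • (1 : ℂ) = c
    rw [hΘapp, this]
    simp
  obtain ⟨d, hd, hd1⟩ := isIrrCharacter_one ψ.2
  have hι1 : ι 1 = 1 := map_one ι
  rcases hψ with hψ | hψ
  · -- `Θ' = ψ`: then `ψ` is constant on `ι J`, hence trivial
    have hconst : ∀ x : J, (ψ : G → ℂ) (ι x) = (ψ : G → ℂ) 1 := by
      intro x
      rw [← hψ, hΘ'J x, ← hι1, hΘ'J 1]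
    have hψ1 : (ψ : G → ℂ) = fun _ => 1 := htriv _ ψ.2 hconst
    -- but `Θ'` is orthogonal to the trivial character
    have h5 : classInner Θ' (fun _ => (1 : ℂ)) = 0 := by
      rw [hΘ']
      simp only [classInner_add_left, classInner_smul_left, hΘ1, i11']
      ring
    rw [hψ, hψ1, i11'] at h5
    exact one_ne_zero h5
  · -- `Θ' = -ψ`: impossible at `1`
    have h6 := hΘ'J 1
    rw [hι1, hψ, Pi.neg_apply, hd1, hc] at h6
    have h7 : (-(d : ℤ) : ℂ) = ((b0 + b1 : ℕ) : ℤ) := by
      push_cast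
      exact h6
    have h8 : -(d : ℤ) = ((b0 + b1 : ℕ) : ℤ) := by exact_mod_cast h7
    omega

end Cfsg.Agent.S2524P
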