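import Mathlib
import Cfsg.Prelude.Def_Characters
import Cfsg.Agent.Helper12.WGDefs
import Cfsg.Agent.Helper12.WGDefsC
import Cfsg.Agent.Helper3.WGBaseDefs

set_option autoImplicit false

/-! # S2524 chapter BASE, piece BASE-SYM1 (sub-driver helper3): `1 × 1` symmetric matrices. -/

namespace Cfsg.Agent.S2524P

open Matrix Cfsg Cfsg.Agent.S2333P Cfsg.Agent.Helper12

variable {F : Type*} [Field F] [Fintype F]

/-- **BASE-SYM1** -/
theorem base_sym1_eq (T : ↥(SymM 1 F)) : T = base_sym1 (T.1 0 0) := by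
  apply Subtype.ext
  ext i j
  rw [base_sym1_apply, Subsingleton.elim i 0, Subsingleton.elim j 0]

/-- **BASE-SYM1** -/
theorem base_eq_zero_iff (T : ↥(SymM 1 F)) : T = 0 ↔ T.1 0 0 = 0 := by
  constructor
  · intro h
    rw [h]
    rfl
  · intro h
    rw [base_sym1_eq T, h]
    apply Subtype.ext
    ext i j
    rfl

/-- **BASE-SYM1** -/
theorem base_ofClass_iff (c : F) (T : ↥(SymM 1 F)) :
    OfClass c T ↔ ∃ x : F, x ≠ 0 ∧ T.1 0 0 = c * x ^ 2 := by
  constructor
  · rintro ⟨x, hx, hT⟩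
    refine ⟨x 0, ?_, ?_⟩
    · intro h0
      apply hx
      funext i
      rw [Subsingleton.elim i 0, h0]
      rfl
    · rw [hT, rk1_apply]
      ring
  · rintro ⟨x, hx, hT⟩
    refine ⟨fun _ => x, ?_, ?_⟩
    · intro h0
      apply hx
      exact congrFun h0 0
    · apply Subtype.ext
      ext i j
      rw [rk1_apply, Subsingleton.elim i 0, Subsingleton.elim j 0, hT]
      ring

end Cfsg.Agent.S2524P
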