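import Mathlib
import Cfsg.Prelude.Def_Characters
import Cfsg.Agent.Helper7.S2333Defs
import Cfsg.Agent.Helper7.S2333Basic
import Cfsg.Agent.Helper12.WGDefs
import Cfsg.Agent.Helper13.WGGapDefs

set_option autoImplicit false

/-! # S2524 chapter GAP, piece GAP-HPLANE (driver helper13). -/

namespace Cfsg.Agent.S2524P

open Matrix Cfsg Cfsg.Agent.S2333P

variable {F : Type*} [Field F] [Fintype F]

/-- **GAP-HPLANE**: an affine hyperplane `polar Q u · = b` has at most `q^(n-1)` points
(any `b`, any characteristic) -/
theorem gap_card_polar_eq_le (n : ℕ) (M : Matrix (Fin n) (Fin n) F)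
    (u w : Fin n → F) (hw : polar (qf M) u w ≠ 0) (b : F) :
    Fintype.card F * (open Classical in
      Finset.univ.filter (fun v : Fin n → F => polar (qf M) u v = b)).card ≤
      Fintype.card F ^ n := by
  classical
  have hcard : Fintype.card F * (Finset.univ.filter
      (fun v : Fin n → F => polar (qf M) u v = b)).card =
      ((Finset.univ.filter (fun v : Fin n → F => polar (qf M) u v = b)) ×ˢ
        (Finset.univ : Finset F)).card := by
    rw [Finset.card_product, Finset.card_univ, mul_comm]
  have htot : Fintype.card F ^ n = (Finset.univ : Finset (Fin n → F)).card := by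
    rw [Finset.card_univ, Fintype.card_fun, Fintype.card_fin]
  rw [hcard, htot]
  apply Finset.card_le_card_of_injOn (fun p : (Fin n → F) × F => p.1 + p.2 • w)
  · intro p _
    exact Finset.mem_coe.mpr (Finset.mem_univ _)
  · intro p hp p' hp' hpp
    have hp1 := (Finset.mem_filter.mp (Finset.mem_product.mp (Finset.mem_coe.mp hp)).1).2
    have hp1' := (Finset.mem_filter.mp (Finset.mem_product.mp (Finset.mem_coe.mp hp')).1).2
    have hpp : p.1 + p.2 • w = p'.1 + p'.2 • w := hpp
    have hf := congrArg (fun z => polar (qf M) u z) hpp
    simp only [polar_add_right, polar_smul_right, hp1, hp1'] at hf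
    have h2 : p.2 = p'.2 := by
      have : (p.2 - p'.2) * polar (qf M) u w = 0 := by linear_combination hf
      rcases mul_eq_zero.mp this with h1 | h1
      · exact sub_eq_zero.mp h1
      · exact absurd h1 hw
    rw [h2] at hpp
    exact Prod.ext (add_right_cancel hpp) h2

end Cfsg.Agent.S2524P
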