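import Mathlib
import Cfsg.Prelude.Def_GeometricClasses
import Cfsg.Prelude.Def_Classical
import Cfsg.Agent.Helper6.S5992Defs
import Cfsg.Agent.Helper27.Inv2Defs

/-! Inv2 piece C2PLANES (driver helper27): the two reflection planes `⟨v, N v⟩` of a `c`-type
involution of rank 2. -/

set_option autoImplicit false

namespace Cfsg.Agent.Inv2P

open Cfsg.Agent.Helper2.SympInvol Cfsg.Agent.Helper2.SympUnits Cfsg.Agent.S5961P Cfsg.Agent.S5992P

namespace C2PLANES

/-- one reflection plane `⟨v, N v⟩`, `Q (N v) ≠ 0` -/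
theorem plane {F V : Type*} [Field F] [AddCommGroup V] [Module F V]
    [FiniteDimensional F V] (h2 : (2 : F) = 0) (Q : QuadraticForm F V) (t : Module.End F V)
    (ht : IsInv2 Q t) (v : V) (h : Q ((t - 1) v) ≠ 0) :
    Module.finrank F (Submodule.span F {v, (t - 1) v}) = 2 ∧
    Nondeg (PB Q) (Submodule.span F {v, (t - 1) v}) ∧
    InvOn t (Submodule.span F {v, (t - 1) v}) ∧
    rk t (Submodule.span F {v, (t - 1) v}) = 1 := by
  have hB : PB Q v ((t - 1) v) ≠ 0 := by rw [← Q_N h2 ht]; exact h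
  have hB' : PB Q ((t - 1) v) v ≠ 0 := by rw [PB_comm]; exact hB
  have hvv : PB Q v v = 0 := PB_self_zero h2 Q v
  have hnn : PB Q ((t - 1) v) ((t - 1) v) = 0 := PB_N_N h2 ht v v
  have hNv0 : (t - 1) v ≠ 0 := by
    intro h0
    apply h
    rw [h0, map_zero]
  -- pairing of a combination with `N v` and `v`
  have hp1 : ∀ a b : F, PB Q (a • v + b • (t - 1) v) ((t - 1) v) = a * PB Q v ((t - 1) v) := by
    intro a b
    rw [map_add, LinearMap.add_apply, map_smul, map_smul, LinearMap.smul_apply,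
      LinearMap.smul_apply, hnn, smul_eq_mul, smul_eq_mul, mul_zero, add_zero]
  have hp2 : ∀ a b : F, PB Q (a • v + b • (t - 1) v) v = b * PB Q ((t - 1) v) v := by
    intro a b
    rw [map_add, LinearMap.add_apply, map_smul, map_smul, LinearMap.smul_apply,
      LinearMap.smul_apply, hvv, smul_eq_mul, smul_eq_mul, mul_zero, zero_add]
  have hv_mem : v ∈ Submodule.span F {v, (t - 1) v} := Submodule.subset_span (by simp)
  have hN_mem : (t - 1) v ∈ Submodule.span F {v, (t - 1) v} := Submodule.subset_span (by simp)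
  refine ⟨?_, ?_, ?_, ?_⟩
  · have hli : LinearIndependent F ![v, (t - 1) v] := by
      rw [LinearIndependent.pair_iff]
      intro a b hab
      have h1 := hp1 a b
      have h2' := hp2 a b
      rw [hab, map_zero, LinearMap.zero_apply] at h1 h2'
      refine ⟨?_, ?_⟩
      · rcases mul_eq_zero.mp h1.symm with h | h
        · exact h
        · exact absurd h hB
      · rcases mul_eq_zero.mp h2'.symm with h | h
        · exact h
        · exact absurd h hB'
    have := finrank_span_eq_card hli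
    rw [Fintype.card_fin] at this
    have hr : Set.range ![v, (t - 1) v] = {v, (t - 1) v} := by
      rw [Matrix.range_cons, Matrix.range_cons, Matrix.range_empty, Set.union_empty,
        Set.singleton_union]
    rw [hr] at this
    exact this
  · intro w hw hw0
    obtain ⟨a, b, rfl⟩ := Submodule.mem_span_pair.mp hw
    by_cases ha : a = 0
    · have hb : b ≠ 0 := by
        intro hb
        apply hw0
        rw [ha, hb, zero_smul, zero_smul, add_zero]
      exact ⟨v, hv_mem, by rw [hp2]; exact mul_ne_zero hb hB'⟩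
    · exact ⟨(t - 1) v, hN_mem, by rw [hp1]; exact mul_ne_zero ha hB⟩
  · intro w hw
    obtain ⟨a, b, rfl⟩ := Submodule.mem_span_pair.mp hw
    rw [map_add, map_smul, map_smul, t_N_apply h2 ht, t_apply t v, smul_add]
    exact Submodule.add_mem _ (Submodule.add_mem _ (Submodule.smul_mem _ _ hv_mem)
      (Submodule.smul_mem _ _ hN_mem)) (Submodule.smul_mem _ _ hN_mem)
  · unfold rk
    have hmap : (Submodule.span F {v, (t - 1) v}).map (t - 1) = Submodule.span F {(t - 1) v} := by
      rw [Submodule.map_span, Set.image_pair, N_N_apply h2 ht]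
      apply le_antisymm
      · rw [Submodule.span_le]
        rintro x hx
        rcases hx with rfl | hx
        · exact Submodule.subset_span rfl
        · rw [Set.mem_singleton_iff.mp hx]
          exact Submodule.zero_mem _
      · exact Submodule.span_mono (by simp)
    rw [hmap]
    exact finrank_span_singleton hNv0

end C2PLANES

/-- C2PLANES: the two reflection planes of C2SPLIT -/
theorem c2_planes {F V : Type*} [Field F] [AddCommGroup V] [Module F V]
    [FiniteDimensional F V] (h2 : (2 : F) = 0) (Q : QuadraticForm F V) (t : Module.End F V)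
    (ht : IsInv2 Q t) (v₁ v₂ : V) (h₁ : Q ((t - 1) v₁) = 1) (h₂ : Q ((t - 1) v₂) = 1)
    (h₁₂ : PB Q v₁ v₂ = 0) (h₁₂' : PB Q v₁ ((t - 1) v₂) = 0) :
    Module.finrank F (Submodule.span F {v₁, (t - 1) v₁}) = 2 ∧
    Module.finrank F (Submodule.span F {v₂, (t - 1) v₂}) = 2 ∧
    Nondeg (PB Q) (Submodule.span F {v₁, (t - 1) v₁}) ∧
    Nondeg (PB Q) (Submodule.span F {v₂, (t - 1) v₂}) ∧
    Orth (PB Q) (Submodule.span F {v₁, (t - 1) v₁}) (Submodule.span F {v₂, (t - 1) v₂}) ∧
    InvOn t (Submodule.span F {v₁, (t - 1) v₁}) ∧ InvOn t (Submodule.span F {v₂, (t - 1) v₂}) ∧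
    rk t (Submodule.span F {v₁, (t - 1) v₁}) = 1 ∧
    rk t (Submodule.span F {v₂, (t - 1) v₂}) = 1 := by
  obtain ⟨a1, a2, a3, a4⟩ := C2PLANES.plane h2 Q t ht v₁ (by rw [h₁]; exact one_ne_zero)
  obtain ⟨b1, b2, b3, b4⟩ := C2PLANES.plane h2 Q t ht v₂ (by rw [h₂]; exact one_ne_zero)
  refine ⟨a1, b1, a2, b2, ?_, a3, b3, a4, b4⟩
  intro u hu w hw
  obtain ⟨a, b, rfl⟩ := Submodule.mem_span_pair.mp hu
  obtain ⟨c, e, rfl⟩ := Submodule.mem_span_pair.mp hw
  have h3 : PB Q ((t - 1) v₁) v₂ = 0 := by rw [PB_N_left ht]; exact h₁₂'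
  have h4 : PB Q ((t - 1) v₁) ((t - 1) v₂) = 0 := PB_N_N h2 ht v₁ v₂
  simp only [map_add, map_smul, LinearMap.add_apply, LinearMap.smul_apply, h₁₂, h₁₂', h3, h4,
    smul_eq_mul, mul_zero, add_zero]
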