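import Mathlib
import Cfsg.Prelude.Def_GeometricClasses
import Cfsg.Prelude.Def_Classical
import Cfsg.Agent.Helper6.S5992Defs
import Cfsg.Agent.Helper27.Inv2Defs
import Cfsg.Agent.Helper14.Inv2ORTHC2
import Cfsg.Agent.Helper25.Inv2C2PLANES

/-! Inv2 piece C2SPLIT (driver helper27): a `c`-type involution of rank 2 has two orthogonal
normalised reflection vectors. -/

set_option autoImplicit false

namespace Cfsg.Agent.Inv2P

open Cfsg.Agent.Helper2.SympInvol Cfsg.Agent.Helper2.SympUnits Cfsg.Agent.S5961P Cfsg.Agent.S5992P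

namespace C2SPLIT

/-- square roots in a finite field of characteristic two -/
theorem exists_sqrt {F : Type*} [Field F] [Fintype F] (h2 : (2 : F) = 0) (a : F) :
    ∃ b : F, b * b = a := by
  have hch : ringChar F = 2 := by
    apply CharP.ringChar_of_prime_eq_zero Nat.prime_two
    exact_mod_cast h2
  obtain ⟨b, hb⟩ := FiniteField.isSquare_of_char_two hch a
  exact ⟨b, hb.symm⟩

/-- normalisation of a vector with `Q (N v) ≠ 0` -/
theorem exists_normalised {F V : Type*} [Field F] [Fintype F] [AddCommGroup V] [Module F V]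
    (h2 : (2 : F) = 0) (Q : QuadraticForm F V) (t : Module.End F V) (v : V)
    (hv : Q ((t - 1) v) ≠ 0) : ∃ c : F, Q ((t - 1) (c • v)) = 1 := by
  obtain ⟨c, hc⟩ := exists_sqrt h2 (Q ((t - 1) v))⁻¹
  exact ⟨c, by rw [Q_N_smul, hc, inv_mul_cancel₀ hv]⟩

end C2SPLIT

/-- C2SPLIT: a `c`-type involution of rank 2: two orthogonal reflection planes, normalised -/
theorem c2_split {F V : Type*} [Field F] [Fintype F] [AddCommGroup V] [Module F V]
    [FiniteDimensional F V] (h2 : (2 : F) = 0) (Q : QuadraticForm F V) (t : Module.End F V)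
    (ht : IsInv2 Q t) (M : Submodule F V) (hM : Nondeg (PB Q) M) (hMt : InvOn t M)
    (hrk : rk t M = 2) (v₀ : V) (hv₀M : v₀ ∈ M) (hv₀ : Q ((t - 1) v₀) ≠ 0) :
    ∃ v₁ ∈ M, ∃ v₂ ∈ M, Q ((t - 1) v₁) = 1 ∧ Q ((t - 1) v₂) = 1 ∧ PB Q v₁ v₂ = 0 ∧
      PB Q v₁ ((t - 1) v₂) = 0 := by
  obtain ⟨c₁, hc₁⟩ := C2SPLIT.exists_normalised h2 Q t v₀ hv₀
  set v₁ : V := c₁ • v₀ with hv₁
  have hv₁M : v₁ ∈ M := M.smul_mem _ hv₀M
  have hNv₁M : (t - 1) v₁ ∈ M := (invOn_iff_N t M).mp hMt v₁ hv₁M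
  obtain ⟨-, hPnd, hPt, hPrk⟩ := C2PLANES.plane h2 Q t ht v₁ (by rw [hc₁]; exact one_ne_zero)
  have hPM : Submodule.span F {v₁, (t - 1) v₁} ≤ M := by
    rw [Submodule.span_le]
    rintro x hx
    rcases hx with rfl | hx
    · exact hv₁M
    · rw [Set.mem_singleton_iff.mp hx]; exact hNv₁M
  obtain ⟨M₁, hM₁M, hM₁nd, hPM₁, -, -, -, hM₁t, hrkadd⟩ :=
    orth_compl_inv h2 Q t ht M _ hPM hM hPnd hMt hPt
  have hrk1 : rk t M₁ = 1 := by omega
  -- a vector of `M₁` moved by `t`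
  have hex : ∃ v ∈ M₁, (t - 1) v ≠ 0 := by
    by_contra hcon
    push Not at hcon
    have h0 : rk t M₁ = 0 := by
      rw [rk_eq_zero_iff]
      intro v hv
      have := hcon v hv
      rwa [N_apply, sub_eq_zero] at this
    omega
  obtain ⟨v, hvM₁, hNv⟩ := hex
  have hNvM₁ : (t - 1) v ∈ M₁ := (invOn_iff_N t M₁).mp hM₁t v hvM₁
  -- `Q (N v) ≠ 0`
  have hQNv : Q ((t - 1) v) ≠ 0 := by
    intro hQ0
    obtain ⟨w, hwM₁, hw⟩ := hM₁nd _ hNvM₁ hNv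
    apply hw
    -- `N w = c • N v`
    have hfr : Module.finrank F ↥(M₁.map (t - 1)) = 1 := hrk1
    have hmem : (t - 1) v ∈ M₁.map (t - 1) := ⟨v, hvM₁, rfl⟩
    have hmemw : (t - 1) w ∈ M₁.map (t - 1) := ⟨w, hwM₁, rfl⟩
    have hnz : (⟨(t - 1) v, hmem⟩ : ↥(M₁.map (t - 1))) ≠ 0 := by
      intro h
      apply hNv
      exact congrArg Subtype.val h
    obtain ⟨c, hc⟩ := (finrank_eq_one_iff_of_nonzero' _ hnz).mp hfr ⟨(t - 1) w, hmemw⟩
    have hc' : c • (t - 1) v = (t - 1) w := congrArg Subtype.val hc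
    rw [PB_comm, ← PB_N_left ht, ← hc', map_smul, LinearMap.smul_apply, PB_comm, ← Q_N h2 ht, hQ0,
      smul_zero]
  obtain ⟨c₂, hc₂⟩ := C2SPLIT.exists_normalised h2 Q t v hQNv
  have hv₂M₁ : c₂ • v ∈ M₁ := M₁.smul_mem _ hvM₁
  have hNv₂M₁ : (t - 1) (c₂ • v) ∈ M₁ := (invOn_iff_N t M₁).mp hM₁t _ hv₂M₁
  have hv₁P : v₁ ∈ Submodule.span F {v₁, (t - 1) v₁} := Submodule.subset_span (by simp)
  exact ⟨v₁, hv₁M, c₂ • v, hM₁M hv₂M₁, hc₁, hc₂, hPM₁ v₁ hv₁P _ hv₂M₁, hPM₁ v₁ hv₁P _ hNv₂M₁⟩
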