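import Mathlib
import Cfsg.Agent.Helper7.K2M.Defs
import Cfsg.Agent.Helper13.K2MSPDefs
import Cfsg.Agent.Helper4.K2MQB
import Cfsg.Agent.Helper13.K2MSPSING

set_option autoImplicit false
set_option linter.unusedSectionVars false
set_option linter.unusedVariables false

/-! # S5694, `k = 2` minus blocks, chapter SPREAD: piece SPHYP — helper25 (design helper13) -/

namespace Cfsg.Agent.K2M

open Matrix Cfsg.Agent.OC2P Cfsg.Agent.Helper28.Sg Cfsg.Agent.Helper28.Spin
  Cfsg.Agent.Helper12.OrthGen

variable {F : Type*} [Field F] [Fintype F] {t : ℕ} {Q : QuadraticForm F (Fin t × Fin 2 → F)}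
  {q : QuadraticForm F (Fin 2 → F)}

/-- the polar form of two two-block vectors on the same blocks -/
theorem SPHYP.B_pair (bm : BM Q q) {l l' : Fin t} (h : l ≠ l') (y y' a a' : Fin 2 → F) :
    B Q (binj l y + binj l' y') (binj l a + binj l' a') =
      QuadraticMap.polar ⇑q y a + QuadraticMap.polar ⇑q y' a' := by
  show QuadraticMap.polar ⇑Q (binj l y + binj l' y') (binj l a + binj l' a') = _
  rw [QuadraticMap.polar_add_left, QuadraticMap.polar_add_right, QuadraticMap.polar_add_right]
  have e1 : QuadraticMap.polar ⇑Q (binj l y) (binj l a) = QuadraticMap.polar ⇑q y a := by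
    have := QB.B_binj_left bm l y (binj l a)
    rw [bproj_binj] at this
    exact this
  have e2 : QuadraticMap.polar ⇑Q (binj l y) (binj l' a') = 0 := QB.B_binj_binj_ne bm h y a'
  have e3 : QuadraticMap.polar ⇑Q (binj l' y') (binj l a) = 0 := QB.B_binj_binj_ne bm h.symm y' a
  have e4 : QuadraticMap.polar ⇑Q (binj l' y') (binj l' a') = QuadraticMap.polar ⇑q y' a' := by
    have := QB.B_binj_left bm l' y' (binj l' a')
    rw [bproj_binj] at this
    exact this
  rw [e1, e2, e3, e4, add_zero, zero_add]

/-- SPHYP (M): a hyperbolic pair of two-block vectors on the blocks `l ≠ l'`. -/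
theorem SPHYP (bm : BM Q q) {l l' : Fin t} (hll' : l ≠ l') :
    ∃ y y' a a' : Fin 2 → F, HypPair Q (binj l y + binj l' y') (binj l a + binj l' a') := by
  classical
  set y : Fin 2 → F := Pi.single 0 1 with hy
  have hy0 : y ≠ 0 := by
    intro h
    have := congrFun h 0
    rw [hy, Pi.single_eq_same, Pi.zero_apply] at this
    exact one_ne_zero this
  obtain ⟨y', hy'⟩ := SPSING.exists_neg bm y
  obtain ⟨y₁, hy₁⟩ := QB.exists_polar_ne bm hy0
  set c : F := q y₁ with hc
  refine ⟨y, y', y₁ - c • y, -c • y', ?_, ?_, ?_⟩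
  · rw [SPSING.Q_pair bm hll', hy', add_neg_cancel]
  · rw [SPSING.Q_pair bm hll']
    have h1 : q (y₁ - c • y) = c * c * q y := by
      have : y₁ - c • y = y₁ + (-c) • y := by rw [neg_smul, sub_eq_add_neg]
      rw [this, QuadraticMap.map_add (⇑q) y₁ ((-c) • y), QuadraticMap.map_smul,
        QuadraticMap.polar_smul_right, QuadraticMap.polar_comm, hy₁, smul_eq_mul, smul_eq_mul, ← hc]
      ring
    have h2 : q (-c • y') = c * c * q y' := by
      rw [QuadraticMap.map_smul, smul_eq_mul]
      ring
    rw [h1, h2, hy']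
    ring
  · rw [SPHYP.B_pair bm hll']
    have h1 : QuadraticMap.polar ⇑q y (y₁ - c • y) = 1 - c * (2 * q y) := by
      rw [QuadraticMap.polar_sub_right, QuadraticMap.polar_smul_right, hy₁,
        QuadraticMap.polar_self, smul_eq_mul]
      simp only [nsmul_eq_mul, Nat.cast_ofNat]
    have h2 : QuadraticMap.polar ⇑q y' (-c • y') = -c * (2 * q y') := by
      rw [QuadraticMap.polar_smul_right, QuadraticMap.polar_self, smul_eq_mul]
      simp only [nsmul_eq_mul, Nat.cast_ofNat]
    rw [h1, h2, hy']
    ring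

end Cfsg.Agent.K2M
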