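import Mathlib
import Cfsg.Agent.Helper13.PGDefs

/-!
# S2490 piece N144A: Burnside transfer inside a normal subgroup `N` with `N ∩ N_G(X) = X`
-/

set_option autoImplicit false

open Cfsg.Agent.Helper13.PG MulAction

namespace Cfsg.Agent.Helper25.PG

variable {G : Type*} [Group G]

theorem factorization_7920_eleven : (7920 : ℕ).factorization 11 = 1 := by
  have h : (7920 : ℕ) = 11 ^ 1 * 720 := by norm_num
  rw [h, Nat.factorization_mul (by norm_num) (by norm_num),
    Nat.Prime.factorization_pow (by norm_num)]
  simp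
  rw [Nat.factorization_eq_zero_of_not_dvd (by norm_num)]

theorem card_sylow_eleven_eq [Finite G] (hord : Nat.card G = 7920) (X : Sylow 11 G) :
    Nat.card (X : Subgroup G) = 11 := by
  have : Fact (Nat.Prime 11) := ⟨by norm_num⟩
  rw [Sylow.card_eq_multiplicity, hord, factorization_7920_eleven, pow_one]

theorem exists_normal_complement [Finite G] (hord : Nat.card G = 7920) (X : Sylow 11 G)
    (N : Subgroup G) (hNn : N.Normal) (hXN : (X : Subgroup G) ≤ N)
    (hNX : N ⊓ Subgroup.normalizer ((X : Subgroup G) : Set G) = (X : Subgroup G)) :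
    ∃ L : Subgroup G, L.Normal ∧ Nat.card ↥L * 11 = Nat.card ↥N := by
  classical
  have : Fact (Nat.Prime 11) := ⟨by norm_num⟩
  have hX11 : Nat.card (X : Subgroup G) = 11 := card_sylow_eleven_eq hord X
  set X' : Sylow 11 N := X.subtype hXN with hX'
  have hX'coe : (X' : Subgroup N) = (X : Subgroup G).subgroupOf N := Sylow.coe_subtype X hXN
  have hX'card : Nat.card (X' : Subgroup N) = 11 := by
    rw [hX'coe]
    exact (Nat.card_congr (Subgroup.subgroupOfEquivOfLe hXN).toEquiv).trans hX11
  -- `X'` is commutative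
  have hcomm : ∀ a ∈ (X' : Subgroup N), ∀ b ∈ (X' : Subgroup N), a * b = b * a := by
    have : IsCyclic (X' : Subgroup N) := isCyclic_of_prime_card hX'card
    intro a ha b hb
    have := (IsCyclic.commGroup (α := (X' : Subgroup N))).mul_comm ⟨a, ha⟩ ⟨b, hb⟩
    exact congrArg Subtype.val this
  -- `N_N(X') = X'`
  have hnorm : Subgroup.normalizer ((X' : Subgroup N) : Set N) = (X' : Subgroup N) := by
    rw [hX'coe, ← Subgroup.subgroupOf_normalizer_eq hXN, ← Subgroup.inf_subgroupOf_left, hNX]
  have hP : Subgroup.normalizer ((X' : Subgroup N) : Set N) ≤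
      Subgroup.centralizer ((X' : Subgroup N) : Set N) := by
    rw [hnorm]
    intro a ha
    rw [Subgroup.mem_centralizer_iff]
    intro b hb
    exact hcomm b hb a ha
  set K := (MonoidHom.transferSylow X' hP).ker with hK
  have hcompl : K.IsComplement' (X' : Subgroup N) := MonoidHom.ker_transferSylow_isComplement' X' hP
  have hKn : K.Normal := MonoidHom.normal_ker _
  have hcard : Nat.card K * 11 = Nat.card N := by
    rw [← hX'card]; exact hcompl.card_mul_card
  -- `11 ∤ |K|`
  have hN7920 : Nat.card N ∣ 7920 := hord ▸ Subgroup.card_subgroup_dvd_card N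
  have hK720 : Nat.card K ∣ 720 := by
    have h1 : Nat.card K * 11 ∣ 720 * 11 := by rw [hcard]; exact hN7920
    exact Nat.dvd_of_mul_dvd_mul_right (by norm_num) h1
  have hKcop : Nat.Coprime (Nat.card K) 11 := by
    have h720 : Nat.Coprime 720 11 := by norm_num
    exact Nat.Coprime.coprime_dvd_left hK720 h720
  -- membership in `K`: `y ^ |K| = 1`
  have hmem : ∀ y : N, y ∈ K ↔ y ^ Nat.card K = 1 := by
    intro y
    constructor
    · intro hy
      have h1 : (⟨y, hy⟩ : K) ^ Nat.card K = 1 := pow_card_eq_one'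
      have h2 : ((⟨y, hy⟩ : K) ^ Nat.card K : K).1 = (1 : K).1 := congrArg Subtype.val h1
      rw [SubgroupClass.coe_pow] at h2
      exact h2
    · intro hy
      -- image in `N ⧸ K` has order dividing `|K|` and `11`
      have hq : Nat.card (N ⧸ K) = 11 := by
        have h1 := Subgroup.card_eq_card_quotient_mul_card_subgroup K
        rw [← hcard] at h1
        have hKpos : 0 < Nat.card K := Nat.card_pos
        have : Nat.card K * 11 = Nat.card K * Nat.card (N ⧸ K) := by rw [h1]; ring
        exact (Nat.eq_of_mul_eq_mul_left hKpos this).symm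
      have h1 : ((QuotientGroup.mk' K) y) ^ Nat.card K = 1 := by
        rw [← map_pow, hy, map_one]
      have h2 : ((QuotientGroup.mk' K) y) ^ 11 = 1 := by
        rw [← hq]; exact pow_card_eq_one'
      have h3 : orderOf ((QuotientGroup.mk' K) y) ∣ Nat.gcd (Nat.card K) 11 :=
        Nat.dvd_gcd (orderOf_dvd_of_pow_eq_one h1) (orderOf_dvd_of_pow_eq_one h2)
      rw [hKcop] at h3
      have h4 : (QuotientGroup.mk' K) y = 1 := by
        rw [← orderOf_eq_one_iff]; exact Nat.dvd_one.mp h3
      exact (QuotientGroup.eq_one_iff y).mp h4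
  refine ⟨K.map N.subtype, ?_, ?_⟩
  · -- normal in `G`
    constructor
    intro z hz g
    obtain ⟨y, hyK, rfl⟩ := Subgroup.mem_map.mp hz
    have hgy : g * (y : G) * g⁻¹ ∈ N := hNn.conj_mem _ y.2 g
    refine Subgroup.mem_map.mpr ⟨⟨g * (y : G) * g⁻¹, hgy⟩, ?_, rfl⟩
    rw [hmem]
    have hy := (hmem y).mp hyK
    have hy' : (y : G) ^ Nat.card K = 1 := by
      have := congrArg Subtype.val hy
      simpa using this
    apply Subtype.ext
    simp only [SubgroupClass.coe_pow, OneMemClass.coe_one]
    rw [conj_pow, hy', mul_one, mul_inv_cancel]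
  · rw [← hcard]
    congr 1
    exact Nat.card_congr (K.equivMapOfInjective N.subtype N.subtype_injective).symm.toEquiv
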