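import Mathlib
import Cfsg.Agent.Helper27.S0996Defs
import Cfsg.Agent.Helper24.ColumnOrth

set_option autoImplicit false

namespace Cfsg.Agent.S0996P

open Cfsg Cfsg.Agent.Helper24 Cfsg.Agent.Helper1.W2p

universe u

variable {G : Type u} [Group G]

section L6
variable [Fintype G] [Fintype (IrrCharacter G)] {p : ℕ} [Fact p.Prime] {P : Subgroup G} {n : ℕ}
  [Fintype (Lin P)]

/-- ORTH -/
theorem orth_invol (B : Basic p P n) (D : BrauerData p P) (T : Dict p P n D) (S : Struc p P n D)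
    (hε : D.ε = -1) (ht : Nat.card D.Y = n + 1)
    (hY : ∀ ψ ∈ D.Y, D.a ψ = 1 ∧ irrDeg ψ + eN P = p) (x₀ : G) (ho : orderOf x₀ = 2)
    (hC : Nat.card ↥(Subgroup.centralizer ({x₀} : Set G)) = eN P * (n + 1))
    (c : IrrCharacter G → ℤ) (s₀ : ℤ) (hc : ∀ χ : IrrCharacter G, (χ : G → ℂ) x₀ = (c χ : ℂ))
    (hc1 : c (trivIrr G) = 1) (hcX : ∀ χ ∈ Xp D, |c χ| ≤ (n : ℤ) + 1)
    (hcm : ∀ χ ∈ D.X, D.δ χ = -1 → c χ = 0) (hs₀ : s₀ = 1 ∨ s₀ = -1)
    (hcY : ∀ ψ ∈ D.Y, c ψ = s₀)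
    (hcO : ∀ χ : IrrCharacter G, χ ∉ D.X → χ ∉ D.Y → c χ = (mult P (1 : Lin P) χ : ℤ)) :
    (∀ χ ∈ Xp D, c χ ^ 2 = ((n : ℤ) + 1) ^ 2) ∧
    ((1 + n * p : ℤ) * ∑ χ ∈ Xp D, c χ =
      -(1 + ((n : ℤ) + 1) * ((p : ℤ) - eN P) * s₀ + p * n)) := by
  classical
  -- the five classes of irreducible characters
  set XFm : Finset (IrrCharacter G) := (XF D).filter (fun χ => D.δ χ = -1) with hXFm
  set O : Finset (IrrCharacter G) :=
    Finset.univ.filter (fun χ : IrrCharacter G => χ ∉ D.X ∧ χ ∉ D.Y) with hO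
  have hXp : (XF D).filter (fun χ => D.δ χ = 1 ∧ χ ≠ trivIrr G) = Xp D := by
    ext χ
    rw [Finset.mem_filter, mem_XF, mem_Xp]
  have hrest : (XF D).filter (fun χ => ¬ (D.δ χ = 1 ∧ χ ≠ trivIrr G)) = insert (trivIrr G) XFm := by
    ext χ
    rw [Finset.mem_filter, mem_XF, Finset.mem_insert, hXFm, Finset.mem_filter, mem_XF]
    constructor
    · rintro ⟨hχX, hnot⟩
      by_cases h1 : χ = trivIrr G
      · exact Or.inl h1
      · right
        refine ⟨hχX, ?_⟩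
        rcases D.δ_pm χ hχX with h2 | h2
        · exact absurd ⟨h2, h1⟩ hnot
        · exact h2
    · rintro (rfl | ⟨hχX, hδ⟩)
      · exact ⟨D.triv_mem, fun h => h.2 rfl⟩
      · refine ⟨hχX, fun h => ?_⟩
        rw [h.1] at hδ
        omega
  have htriv_not : trivIrr G ∉ XFm := by
    rw [hXFm, Finset.mem_filter]
    rintro ⟨-, h⟩
    rw [D.δ_triv] at h
    omega
  have hunivX : (Finset.univ.filter (fun χ : IrrCharacter G => χ ∈ D.X)) = XF D := by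
    ext χ
    rw [Finset.mem_filter, mem_XF]
    simp
  have hunivY : ((Finset.univ.filter (fun χ : IrrCharacter G => ¬ χ ∈ D.X)).filter
      (fun χ => χ ∈ D.Y)) = YF D := by
    ext χ
    rw [Finset.mem_filter, Finset.mem_filter, mem_YF]
    constructor
    · rintro ⟨-, h⟩
      exact h
    · intro h
      exact ⟨⟨Finset.mem_univ _, fun hX => (Set.disjoint_left.mp D.disj hX) h⟩, h⟩
  have hunivO : ((Finset.univ.filter (fun χ : IrrCharacter G => ¬ χ ∈ D.X)).filter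
      (fun χ => ¬ χ ∈ D.Y)) = O := by
    rw [hO, Finset.filter_filter]
  have split : ∀ f : IrrCharacter G → ℤ, ∑ χ : IrrCharacter G, f χ =
      f (trivIrr G) + ∑ χ ∈ Xp D, f χ + ∑ χ ∈ XFm, f χ + ∑ χ ∈ YF D, f χ + ∑ χ ∈ O, f χ := by
    intro f
    rw [← Finset.sum_filter_add_sum_filter_not Finset.univ (fun χ : IrrCharacter G => χ ∈ D.X) f,
      hunivX,
      ← Finset.sum_filter_add_sum_filter_not
        (Finset.univ.filter (fun χ : IrrCharacter G => ¬ χ ∈ D.X)) (fun χ => χ ∈ D.Y) f,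
      hunivY, hunivO,
      ← Finset.sum_filter_add_sum_filter_not (XF D) (fun χ => D.δ χ = 1 ∧ χ ≠ trivIrr G) f,
      hXp, hrest, Finset.sum_insert htriv_not]
    ring
  -- membership facts
  have hXFm_mem : ∀ χ ∈ XFm, χ ∈ D.X ∧ D.δ χ = -1 := by
    intro χ hχ
    rw [hXFm, Finset.mem_filter, mem_XF] at hχ
    exact hχ
  have hXFm_ne : ∀ χ ∈ XFm, χ ≠ trivIrr G := by
    intro χ hχ h1
    rw [h1] at hχ
    exact htriv_not hχ
  have hO_mem : ∀ χ ∈ O, χ ∉ D.X ∧ χ ∉ D.Y := by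
    intro χ hχ
    rw [hO, Finset.mem_filter] at hχ
    exact hχ.2
  have hs₀sq : s₀ ^ 2 = 1 := by
    rcases hs₀ with h | h <;> rw [h] <;> norm_num
  have hcardY : ((YF D).card : ℤ) = (n : ℤ) + 1 := by
    rw [card_YF, ht]
    push_cast
    ring
  -- the norm of `π`
  have hpi : ∑ χ ∈ O, (mult P (1 : Lin P) χ : ℤ) ^ 2 = (n : ℤ) := by
    have h1 : ∑ χ : IrrCharacter G, (mult P (1 : Lin P) χ : ℤ) ^ 2 = (n : ℤ) + 1 := by
      have := S.pi_norm
      exact_mod_cast this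
    rw [split (fun χ => (mult P (1 : Lin P) χ : ℤ) ^ 2)] at h1
    have e1 : ∑ χ ∈ Xp D, (mult P (1 : Lin P) χ : ℤ) ^ 2 = 0 := by
      apply Finset.sum_eq_zero
      intro χ hχ
      obtain ⟨hχX, -, hne⟩ := (mem_Xp D χ).mp hχ
      rw [S.pi_zero χ (Or.inl ⟨hχX, hne⟩)]
      simp
    have e2 : ∑ χ ∈ XFm, (mult P (1 : Lin P) χ : ℤ) ^ 2 = 0 := by
      apply Finset.sum_eq_zero
      intro χ hχ
      rw [S.pi_zero χ (Or.inl ⟨(hXFm_mem χ hχ).1, hXFm_ne χ hχ⟩)]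
      simp
    have e3 : ∑ χ ∈ YF D, (mult P (1 : Lin P) χ : ℤ) ^ 2 = 0 := by
      apply Finset.sum_eq_zero
      intro χ hχ
      rw [S.pi_zero χ (Or.inr ((mem_YF D χ).mp hχ))]
      simp
    rw [e1, e2, e3, T.triv_one] at h1
    push_cast at h1
    linarith
  -- first orthogonality relation
  have horth1 : ∑ χ : IrrCharacter G, c χ ^ 2 = (eN P : ℤ) * ((n : ℤ) + 1) := by
    have h1 := sum_irr_mul_conj (G := G) x₀ x₀
    rw [if_pos (IsConj.refl x₀), hC] at h1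
    have h2 : ∑ χ : IrrCharacter G, (χ : G → ℂ) x₀ * (starRingEnd ℂ) ((χ : G → ℂ) x₀) =
        ((∑ χ : IrrCharacter G, c χ ^ 2 : ℤ) : ℂ) := by
      push_cast
      refine Finset.sum_congr rfl (fun χ _ => ?_)
      rw [hc χ, map_intCast, pow_two]
    rw [h2] at h1
    exact_mod_cast h1
  have hY_ne : (D.Y).Nonempty := by
    by_contra hemp
    rw [Set.not_nonempty_iff_eq_empty] at hemp
    rw [hemp] at ht
    simp at ht
  obtain ⟨ψ₀, hψ₀⟩ := hY_ne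
  have hstar : (eN P : ℤ) = ((n : ℤ) + 1) * ((Xp D).card : ℤ) + 2 := by
    have h1 := S.star_neg hε ψ₀ hψ₀
    rw [(hY ψ₀ hψ₀).1] at h1
    have : ((((n + 1) * (Xp D).card + 1 + 1 : ℕ)) : ℤ) = (eN P : ℤ) := by rw [h1]
    push_cast at this
    linarith
  have hsumsq : ∑ χ ∈ Xp D, c χ ^ 2 = ∑ χ ∈ Xp D, ((n : ℤ) + 1) ^ 2 := by
    rw [split (fun χ => c χ ^ 2)] at horth1
    have e2 : ∑ χ ∈ XFm, c χ ^ 2 = 0 := by
      apply Finset.sum_eq_zero
      intro χ hχ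
      rw [hcm χ (hXFm_mem χ hχ).1 (hXFm_mem χ hχ).2]
      simp
    have e3 : ∑ χ ∈ YF D, c χ ^ 2 = (n : ℤ) + 1 := by
      rw [Finset.sum_congr rfl (fun χ hχ => by rw [hcY χ ((mem_YF D χ).mp hχ), hs₀sq]),
        Finset.sum_const, hcardY.symm]
      simp
    have e4 : ∑ χ ∈ O, c χ ^ 2 = (n : ℤ) := by
      rw [← hpi]
      refine Finset.sum_congr rfl (fun χ hχ => ?_)
      rw [hcO χ (hO_mem χ hχ).1 (hO_mem χ hχ).2]
    rw [e2, e3, e4, hc1] at horth1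
    rw [Finset.sum_const, nsmul_eq_mul]
    rw [hstar] at horth1
    linarith
  have hle : ∀ χ ∈ Xp D, c χ ^ 2 ≤ ((n : ℤ) + 1) ^ 2 := by
    intro χ hχ
    have h1 := abs_le.mp (hcX χ hχ)
    exact sq_le_sq' h1.1 h1.2
  have hsq := (Finset.sum_eq_sum_iff_of_le hle).mp hsumsq
  refine ⟨hsq, ?_⟩
  -- second orthogonality relation
  have hx1 : x₀ ≠ 1 := by
    rintro rfl
    rw [orderOf_one] at ho
    omega
  have horth2 : ∑ χ : IrrCharacter G, c χ * (irrDeg χ : ℤ) = 0 := by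
    have h1 := sum_irr_mul_conj (G := G) x₀ 1
    have hnc : ¬ IsConj x₀ 1 := by
      intro h
      exact hx1 (isConj_one_right.mp h.symm)
    rw [if_neg hnc] at h1
    have h2 : ∑ χ : IrrCharacter G, (χ : G → ℂ) x₀ * (starRingEnd ℂ) ((χ : G → ℂ) 1) =
        ((∑ χ : IrrCharacter G, c χ * (irrDeg χ : ℤ) : ℤ) : ℂ) := by
      push_cast
      refine Finset.sum_congr rfl (fun χ _ => ?_)
      rw [hc χ, irrDeg_spec, map_natCast]
    rw [h2] at h1
    exact_mod_cast h1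
  rw [split (fun χ => c χ * (irrDeg χ : ℤ))] at horth2
  have htd : irrDeg (trivIrr G) = 1 := by
    rw [irrDeg_eq_one_iff]
    rfl
  have e1 : ∑ χ ∈ Xp D, c χ * (irrDeg χ : ℤ) = (1 + n * p : ℤ) * ∑ χ ∈ Xp D, c χ := by
    rw [Finset.mul_sum]
    refine Finset.sum_congr rfl (fun χ hχ => ?_)
    obtain ⟨hχX, hδ, hne⟩ := (mem_Xp D χ).mp hχ
    rw [S.degXp χ hχX hδ hne]
    push_cast
    ring
  have e2 : ∑ χ ∈ XFm, c χ * (irrDeg χ : ℤ) = 0 := by
    apply Finset.sum_eq_zero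
    intro χ hχ
    rw [hcm χ (hXFm_mem χ hχ).1 (hXFm_mem χ hχ).2]
    simp
  have e3 : ∑ χ ∈ YF D, c χ * (irrDeg χ : ℤ) = ((n : ℤ) + 1) * (s₀ * ((p : ℤ) - eN P)) := by
    have h1 : ∀ χ ∈ YF D, c χ * (irrDeg χ : ℤ) = s₀ * ((p : ℤ) - eN P) := by
      intro χ hχ
      have hχY := (mem_YF D χ).mp hχ
      rw [hcY χ hχY]
      have := (hY χ hχY).2
      have h2 : ((irrDeg χ + eN P : ℕ) : ℤ) = (p : ℤ) := by rw [this]
      push_cast at h2
      have h3 : (irrDeg χ : ℤ) = (p : ℤ) - eN P := by linarith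
      rw [h3]
    rw [Finset.sum_congr rfl h1, Finset.sum_const, nsmul_eq_mul, hcardY]
  have e4 : ∑ χ ∈ O, c χ * (irrDeg χ : ℤ) = (p : ℤ) * n := by
    rw [← hpi, Finset.mul_sum]
    refine Finset.sum_congr rfl (fun χ hχ => ?_)
    rw [hcO χ (hO_mem χ hχ).1 (hO_mem χ hχ).2, S.other χ (hO_mem χ hχ).1 (hO_mem χ hχ).2]
    push_cast
    ring
  rw [e1, e2, e3, e4, hc1, htd] at horth2
  push_cast at horth2
  linarith

end L6

end Cfsg.Agent.S0996P
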