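import Mathlib
import Cfsg.Agent.Helper27.S0996Defs

set_option autoImplicit false

namespace Cfsg.Agent.S0996P

open Cfsg Cfsg.Agent.Helper24 Cfsg.Agent.Helper1.W2p

universe u

variable {G : Type u} [Group G]

section L6
variable [Fintype G] [Fintype (IrrCharacter G)] {p : ℕ} [Fact p.Prime] {P : Subgroup G} {n : ℕ}
  [Fintype (Lin P)]

/-- VALS -/
theorem vals_invol (B : Basic p P n) (D : BrauerData p P) (T : Dict p P n D) (S : Struc p P n D)
    (hε : D.ε = -1) (ht : Nat.card D.Y = n + 1) (φ₀ : Lin P)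
    (hφ₀ : ∀ ψ ∈ D.Y, mult P φ₀ ψ = 1) (x₀ : G) (hx : x₀ ∈ NP P) (ho : orderOf x₀ = 2) :
    ∃ (c : IrrCharacter G → ℤ) (s₀ : ℤ), (∀ χ : IrrCharacter G, (χ : G → ℂ) x₀ = (c χ : ℂ)) ∧
      c (trivIrr G) = 1 ∧ (∀ χ ∈ Xp D, |c χ| ≤ (n : ℤ) + 1) ∧
      (∀ χ ∈ D.X, D.δ χ = -1 → c χ = 0) ∧ (s₀ = 1 ∨ s₀ = -1) ∧ (∀ ψ ∈ D.Y, c ψ = s₀) ∧
      (∀ χ : IrrCharacter G, χ ∉ D.X → χ ∉ D.Y → c χ = (mult P (1 : Lin P) χ : ℤ)) := by
  classical
  have hp5 : 5 ≤ p := B.five_le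
  -- `x₀ ∉ P`
  have hxP : x₀ ∉ P := by
    intro hxP
    have h1 : orderOf (⟨x₀, hxP⟩ : P) ∣ Nat.card P := orderOf_dvd_natCard _
    have h2 : orderOf (⟨x₀, hxP⟩ : P) = orderOf x₀ := by
      rw [← Subgroup.orderOf_coe]
    rw [h2, ho, B.card_P] at h1
    have hp : p.Prime := Fact.out
    have := (Nat.prime_dvd_prime_iff_eq Nat.prime_two hp).mp h1
    omega
  set h : ↥(NP P) := ⟨x₀, hx⟩ with hh
  have hh2 : h * h = 1 := by
    apply Subtype.ext
    show x₀ * x₀ = 1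
    rw [← pow_two, ← ho]
    exact pow_orderOf_eq_one x₀
  -- the signs
  have hsq : ∀ φ : Lin P, lam P φ h = 1 ∨ lam P φ h = -1 := by
    intro φ
    have h1 : lam P φ h * lam P φ h = 1 := by
      unfold lam
      rw [← Units.val_mul, ← map_mul, ← QuotientGroup.mk_mul, hh2, QuotientGroup.mk_one, map_one,
        Units.val_one]
    exact mul_self_eq_one_iff.mp h1
  let sgn : Lin P → ℤ := fun φ => if lam P φ h = 1 then 1 else -1
  have hsgn : ∀ φ : Lin P, lam P φ h = (sgn φ : ℂ) := by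
    intro φ
    show lam P φ h = ((if lam P φ h = 1 then (1 : ℤ) else -1 : ℤ) : ℂ)
    rcases hsq φ with h1 | h1
    · rw [if_pos h1, h1]; simp
    · have hne : lam P φ h ≠ 1 := by
        rw [h1]; norm_num
      rw [if_neg hne, h1]; simp
  have hsgn_pm : ∀ φ : Lin P, sgn φ = 1 ∨ sgn φ = -1 := by
    intro φ
    show (if lam P φ h = 1 then (1 : ℤ) else -1) = 1 ∨ (if lam P φ h = 1 then (1 : ℤ) else -1) = -1
    by_cases h1 : lam P φ h = 1
    · left; rw [if_pos h1]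
    · right; rw [if_neg h1]
  have hsgn_one : sgn (1 : Lin P) = 1 := by
    have h1 : lam P (1 : Lin P) h = 1 := by
      unfold lam
      rw [MonoidHom.one_apply, Units.val_one]
    show (if lam P (1 : Lin P) h = 1 then (1 : ℤ) else -1) = 1
    rw [if_pos h1]
  have habs : ∀ φ : Lin P, |sgn φ| = 1 := by
    intro φ
    rcases hsgn_pm φ with h1 | h1 <;> rw [h1] <;> simp
  let c : IrrCharacter G → ℤ := fun χ => ∑ φ : Lin P, (mult P φ χ : ℤ) * sgn φ
  have hc : ∀ χ : IrrCharacter G, (χ : G → ℂ) x₀ = (c χ : ℂ) := by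
    intro χ
    have h1 := T.val χ h hxP
    show (χ : G → ℂ) x₀ = ((∑ φ : Lin P, (mult P φ χ : ℤ) * sgn φ : ℤ) : ℂ)
    rw [show (χ : G → ℂ) x₀ = (χ : G → ℂ) (h : G) from rfl, h1]
    push_cast
    refine Finset.sum_congr rfl (fun φ _ => ?_)
    rw [hsgn φ]
  -- vanishing of multiplicities outside the support
  have hzero_ne : ∀ φ : Lin P, φ ≠ 1 → ∀ χ : IrrCharacter G,
      (χ ∈ D.X → D.δ χ = -1 → mult P φ χ = 0) ∧ (χ ∉ D.X → χ ∉ D.Y → mult P φ χ = 0) := by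
    intro φ hφ χ
    rcases S.form φ hφ with ⟨χ₀, hχ₀X, hδ₀, -, -, hz⟩ | ⟨-, -, hz⟩
    · constructor
      · intro hχX hδ
        apply hz
        rintro rfl
        rw [hδ₀] at hδ
        omega
      · intro hχX _
        apply hz
        rintro rfl
        exact hχX hχ₀X
    · constructor
      · intro hχX _
        apply hz
        intro hχY
        exact (Set.disjoint_left.mp D.disj hχX) hχY
      · intro _ hχY
        exact hz χ hχY
  have hsingle : ∀ χ : IrrCharacter G, (∀ φ : Lin P, φ ≠ 1 → mult P φ χ = 0) →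
      c χ = (mult P (1 : Lin P) χ : ℤ) := by
    intro χ hz
    show ∑ φ : Lin P, (mult P φ χ : ℤ) * sgn φ = _
    rw [Finset.sum_eq_single (1 : Lin P)]
    · rw [hsgn_one, mul_one]
    · intro φ _ hφ
      rw [hz φ hφ]; simp
    · intro h1
      exact absurd (Finset.mem_univ _) h1
  refine ⟨c, sgn φ₀, hc, ?_, ?_, ?_, hsgn_pm φ₀, ?_, ?_⟩
  · -- trivial character
    rw [hsingle (trivIrr G) (fun φ hφ => T.triv_ne φ hφ), T.triv_one]
    rfl
  · -- X₊
    intro χ hχ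
    obtain ⟨hχX, hδ, hne⟩ := (mem_Xp D χ).mp hχ
    have h1 := T.sumX χ hχX
    rw [hδ, S.degXp χ hχX hδ hne] at h1
    have h2 : ∑ φ : Lin P, (mult P φ χ : ℤ) = (n : ℤ) + 1 := by
      have hp0 : (p : ℤ) ≠ 0 := by
        have : 0 < p := by omega
        exact_mod_cast this.ne'
      apply mul_left_cancel₀ hp0
      rw [h1]
      push_cast
      ring
    calc |c χ| ≤ ∑ φ : Lin P, |(mult P φ χ : ℤ) * sgn φ| := Finset.abs_sum_le_sum_abs _ _
      _ = ∑ φ : Lin P, (mult P φ χ : ℤ) := by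
          refine Finset.sum_congr rfl (fun φ _ => ?_)
          rw [abs_mul, habs φ, mul_one, abs_of_nonneg (Int.natCast_nonneg _)]
      _ = (n : ℤ) + 1 := h2
  · -- X₋
    intro χ hχX hδ
    have hne : χ ≠ trivIrr G := by
      rintro rfl
      rw [D.δ_triv] at hδ
      omega
    rw [hsingle χ (fun φ hφ => (hzero_ne φ hφ χ).1 hχX hδ), S.pi_zero χ (Or.inl ⟨hχX, hne⟩)]
    rfl
  · -- Y
    intro ψ hψ
    have ha : D.a ψ = 1 := by
      have h1 := (S.negY hε ψ hψ).2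
      rw [ht] at h1
      have : 0 < n + 1 := by omega
      exact Nat.eq_of_mul_eq_mul_right this (by rw [h1, one_mul])
    have hsum : ∑ φ : Lin P, mult P φ ψ = 1 := by rw [T.sumY ψ hψ, ha]
    have hz : ∀ φ : Lin P, φ ≠ φ₀ → mult P φ ψ = 0 := by
      intro φ hφ
      by_contra hne
      have h1 : mult P φ₀ ψ + mult P φ ψ ≤ ∑ φ : Lin P, mult P φ ψ := by
        have hsub : ({φ₀, φ} : Finset (Lin P)) ⊆ Finset.univ := Finset.subset_univ _
        have := Finset.sum_le_sum_of_subset (f := fun φ : Lin P => mult P φ ψ) hsub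
        rwa [Finset.sum_pair (Ne.symm hφ)] at this
      rw [hsum, hφ₀ ψ hψ] at h1
      omega
    show ∑ φ : Lin P, (mult P φ ψ : ℤ) * sgn φ = sgn φ₀
    rw [Finset.sum_eq_single φ₀]
    · rw [hφ₀ ψ hψ]; simp
    · intro φ _ hφ
      rw [hz φ hφ]; simp
    · intro h1
      exact absurd (Finset.mem_univ _) h1
  · -- other
    intro χ hχX hχY
    exact hsingle χ (fun φ hφ => (hzero_ne φ hφ χ).2 hχX hχY)

end L6

end Cfsg.Agent.S0996P
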