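import Mathlib
import Cfsg.Prelude.Def_Characters
import Cfsg.Prelude.Def_Blocks
import Cfsg.Agent.Helper24.Abelian
import Cfsg.Agent.Helper24.Linear
import Cfsg.Agent.Helper24.Classes
import Cfsg.Agent.Helper24.Span
import Cfsg.Agent.Helper8.PrincipalParity
import Cfsg.Agent.Helper1.W2pDefs
import Cfsg.Agent.Lead.S4705Defs

/-!
# S4705 piece ENDA: the class of the involution `t` is the set `{ψ = -1}` = all involutions
-/

set_option autoImplicit false

namespace Cfsg.Agent.S4705P

open Cfsg Cfsg.Agent.Helper24 Cfsg.Agent.Helper1.W2p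
open scoped ComplexConjugate

universe u

variable {G : Type u} [Group G] [Finite G]

/-! ### ENDA -/
theorem involution_class {H : Type u} [Group H] [Finite H] (p : ℕ) [Fact p.Prime] (hp5 : 5 < p)
    (ψ : IrrCharacter H) (hdeg : irrDeg ψ = p - 2)
    (hcard : Nat.card H = p * (p - 1) * (p - 2))
    (h01 : ∀ g : H, ¬ p ∣ orderOf g → g ≠ 1 → (ψ : H → ℂ) g = 0 ∨ (ψ : H → ℂ) g = -1)
    (hcnt : Nat.card {g : H // (ψ : H → ℂ) g = -1} = p * (p - 2))
    (t : H) (ht : orderOf t = 2) (hψt : (ψ : H → ℂ) t = -1)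
    (hm : Nat.card (Subgroup.centralizer ({t} : Set H)) = p - 1) :
    (∀ g : H, (ψ : H → ℂ) g = -1 ↔ orderOf g = 2) ∧ (∀ s : H, orderOf s = 2 → IsConj t s) := by
  classical
  have hp : p.Prime := Fact.out
  have hpodd : Odd p := hp.odd_of_ne_two (by omega)
  -- class size
  have hcl : Nat.card {x : H // IsConj t x} = p * (p - 2) := by
    have h1 := card_conj_mul_card_centralizer t
    rw [hm, hcard] at h1
    have hp1 : 0 < p - 1 := by omega
    have h2 : Nat.card {x : H // IsConj t x} * (p - 1) = (p * (p - 2)) * (p - 1) := by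
      rw [h1]; ring
    exact Nat.eq_of_mul_eq_mul_right hp1 h2
  have hsub : ∀ x : H, IsConj t x → (ψ : H → ℂ) x = -1 := fun x hx => by
    rw [← IsClassFunction.eq_of_isConj (isClassFunction_irr ψ) hx]; exact hψt
  have hset : {x : H | IsConj t x} = {g : H | (ψ : H → ℂ) g = -1} := by
    refine Set.eq_of_subset_of_ncard_le (fun x hx => hsub x hx) ?_ (Set.toFinite _)
    rw [← Nat.card_coe_set_eq, ← Nat.card_coe_set_eq]
    exact le_of_eq (hcnt.trans hcl.symm)
  have hconj_of : ∀ g : H, (ψ : H → ℂ) g = -1 → IsConj t g := by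
    intro g hg
    have : g ∈ {x : H | IsConj t x} := by rw [hset]; exact hg
    exact this
  have hval_of : ∀ g : H, orderOf g = 2 → (ψ : H → ℂ) g = -1 := by
    intro g hg
    obtain ⟨d, m, hd, hmm⟩ :=
      Cfsg.Agent.Helper8.char_involution (IsIrrCharacter.isCharacter ψ.2) hg
    have hd' : d = p - 2 := by
      have := irrDeg_spec ψ
      rw [hd, hdeg] at this
      exact_mod_cast this
    have hg1 : g ≠ 1 := by
      intro h; rw [h, orderOf_one] at hg; omega
    have hpg : ¬ p ∣ orderOf g := by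
      rw [hg]; intro h
      have := Nat.le_of_dvd (by norm_num) h
      omega
    rcases h01 g hpg hg1 with h0 | h1
    · exfalso
      rw [hmm] at h0
      have h2 : (2 * m : ℕ) = d := by
        have : ((2 * m : ℕ) : ℂ) = (d : ℂ) := by
          push_cast; linear_combination h0
        exact_mod_cast this
      obtain ⟨j, hj⟩ := hpodd
      omega
    · exact h1
  refine ⟨fun g => ⟨fun hg => ?_, hval_of g⟩, fun s hs => hconj_of s (hval_of s hs)⟩
  obtain ⟨c, hc⟩ := isConj_iff.mp (hconj_of g hg)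
  rw [← hc, ← MulAut.conj_apply, MulEquiv.orderOf_eq, ht]

end Cfsg.Agent.S4705P
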