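import Mathlib
import Cfsg.Prelude.Def_Characters
import Cfsg.Prelude.Def_Blocks
import Cfsg.Agent.Helper24.Abelian
import Cfsg.Agent.Helper24.Linear
import Cfsg.Agent.Helper24.Expansion
import Cfsg.Agent.Helper8.CharComp
import Cfsg.Agent.Helper1.W2pDefs
import Cfsg.Agent.Lead.S4705Defs

/-!
# S4705 piece ENDB: the centralizer of an involution is an elementary abelian 2-group of
order `p - 1`
-/

set_option autoImplicit false

namespace Cfsg.Agent.Helper25.S4705ENDB

open Cfsg Cfsg.Agent.Helper24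

/-- the sum of a character over a subgroup is a natural multiple of the order of the subgroup -/
theorem sum_subgroup_eq {H : Type*} [Group H] [Finite H] {χ : H → ℂ} (hχ : IsCharacter H χ)
    (A : Subgroup H) [Fintype A] :
    ∃ m : ℕ, ∑ a : A, χ (a : H) = (m : ℂ) * (Nat.card A : ℂ) := by
  classical
  have : Fintype (IrrCharacter A) := Fintype.ofFinite _
  have hres : IsCharacter A (fun h : A => χ h) := Cfsg.Agent.Helper8.isCharacter_restrict A hχ
  have hone : IsCharacter A (fun _ : A => (1 : ℂ)) :=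
    IsIrrCharacter.isCharacter isIrrCharacter_const_one
  obtain ⟨m, hm⟩ := IsCharacter.classInner_nat hres hone
  refine ⟨m, ?_⟩
  unfold classInner at hm
  simp only [map_one, mul_one] at hm
  have hne : (Nat.card A : ℂ) ≠ 0 := Nat.cast_ne_zero.mpr Nat.card_pos.ne'
  rw [inv_mul_eq_iff_eq_mul₀ hne] at hm
  rw [hm]; ring

/-- the sum of a character over the powers of an element -/
theorem sum_range_pow {H : Type*} [Group H] [Finite H] {χ : H → ℂ} (hχ : IsCharacter H χ)
    (x : H) :
    ∃ m : ℕ, ∑ i ∈ Finset.range (orderOf x), χ (x ^ i) = (m : ℂ) * (orderOf x : ℂ) := by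
  classical
  have : Fintype (Subgroup.zpowers x) := Fintype.ofFinite _
  obtain ⟨m, hm⟩ := sum_subgroup_eq hχ (Subgroup.zpowers x)
  refine ⟨m, ?_⟩
  rw [Nat.card_zpowers] at hm
  rw [← hm, ← Fin.sum_univ_eq_sum_range (fun i => χ (x ^ i)) (orderOf x)]
  exact Fintype.sum_equiv (finEquivZPowers (isOfFinOrder_of_finite x)) _ _ (fun i => rfl)

end Cfsg.Agent.Helper25.S4705ENDB

namespace Cfsg.Agent.S4705P

open Cfsg Cfsg.Agent.Helper24 Cfsg.Agent.Helper1.W2p
open scoped ComplexConjugate

universe u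

variable {G : Type u} [Group G] [Finite G]

/-! ### ENDB -/
theorem centralizer_elementary {H : Type u} [Group H] [Finite H] (p : ℕ) [Fact p.Prime]
    (hp5 : 5 < p) (ψ : IrrCharacter H) (hdeg : irrDeg ψ = p - 2)
    (h01 : ∀ g : H, ¬ p ∣ orderOf g → g ≠ 1 → (ψ : H → ℂ) g = 0 ∨ (ψ : H → ℂ) g = -1)
    (hinv : ∀ g : H, (ψ : H → ℂ) g = -1 ↔ orderOf g = 2)
    (s : H) (hs : orderOf s = 2)
    (hm : Nat.card (Subgroup.centralizer ({s} : Set H)) = p - 1) :
    (∃ a : ℕ, p - 1 = 2 ^ a) ∧ ∀ c ∈ Subgroup.centralizer ({s} : Set H), c ^ 2 = 1 := by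
  classical
  have hp : p.Prime := Fact.out
  have hψ1 : (ψ : H → ℂ) 1 = ((p - 2 : ℕ) : ℂ) := by rw [irrDeg_spec, hdeg]
  have hχ : IsCharacter H (ψ : H → ℂ) := IsIrrCharacter.isCharacter ψ.2
  -- values at elements whose order is not `2` and prime to `p`
  have hzero : ∀ g : H, ¬ p ∣ orderOf g → g ≠ 1 → orderOf g ≠ 2 → (ψ : H → ℂ) g = 0 := by
    intro g hpg hg1 hg2
    rcases h01 g hpg hg1 with h | h
    · exact h
    · exact absurd ((hinv g).mp h) hg2
  -- first part: `p - 1` is a power of `2`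
  have hpow : ∃ a : ℕ, p - 1 = 2 ^ a := by
    rcases Nat.eq_two_pow_or_exists_odd_prime_and_dvd (p - 1) with h | ⟨r, hr, hrd, hrodd⟩
    · exact h
    · exfalso
      have : Fact r.Prime := ⟨hr⟩
      obtain ⟨y', hy'⟩ := exists_prime_orderOf_dvd_card' (G := Subgroup.centralizer ({s} : Set H)) r
        (by rw [hm]; exact hrd)
      set y : H := (y' : H) with hy
      have hyo : orderOf y = r := by rw [hy, Subgroup.orderOf_coe, hy']
      have hrlt : r < p := by
        have := Nat.le_of_dvd (by omega) hrd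
        omega
      obtain ⟨m, hmm⟩ := Cfsg.Agent.Helper25.S4705ENDB.sum_range_pow hχ y
      rw [hyo] at hmm
      have hsum : ∑ i ∈ Finset.range r, (ψ : H → ℂ) (y ^ i) = ((p - 2 : ℕ) : ℂ) := by
        rw [Finset.sum_eq_single 0]
        · rw [pow_zero, hψ1]
        · intro i hi hi0
          have hir : i < r := Finset.mem_range.mp hi
          have hcop : Nat.Coprime r i := Nat.coprime_of_lt_prime hi0 hir hr
          have hoi : orderOf (y ^ i) = r := by
            rw [orderOf_pow' y hi0, hyo, Nat.Coprime.gcd_eq_one hcop, Nat.div_one]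
          apply hzero
          · rw [hoi]
            intro hdvd
            have := Nat.le_of_dvd hr.pos hdvd
            omega
          · intro h1
            rw [h1, orderOf_one] at hoi
            exact hr.one_lt.ne hoi
          · rw [hoi]
            intro h2
            rw [h2] at hrodd
            exact absurd hrodd (by decide)
        · intro h
          exact absurd (Finset.mem_range.mpr hr.pos) h
      rw [hsum] at hmm
      have h3 : p - 2 = m * r := by exact_mod_cast hmm
      have h4 : r ∣ p - 2 := ⟨m, by rw [h3, mul_comm]⟩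
      have h5 : r ∣ (p - 1) - (p - 2) := Nat.dvd_sub hrd h4
      have h6 : (p - 1) - (p - 2) = 1 := by omega
      rw [h6] at h5
      exact hr.one_lt.ne' (Nat.dvd_one.mp h5)
  refine ⟨hpow, ?_⟩
  obtain ⟨a, ha⟩ := hpow
  intro c hc
  have hco : orderOf c ∣ 2 ^ a := by
    rw [← ha, ← hm]
    exact Subgroup.orderOf_dvd_natCard _ hc
  obtain ⟨j, _, hj⟩ := (Nat.dvd_prime_pow Nat.prime_two).mp hco
  by_cases hj1 : j ≤ 1
  · apply orderOf_dvd_iff_pow_eq_one.mp
    rw [hj]
    exact pow_dvd_pow 2 hj1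
  · exfalso
    have hj1 : 2 ≤ j := by omega
    -- an element of order 4
    set u : H := c ^ (2 ^ (j - 2)) with hu
    have huo : orderOf u = 4 := by
      rw [hu, orderOf_pow_of_dvd (by positivity) (by rw [hj]; exact pow_dvd_pow 2 (by omega)), hj,
        Nat.pow_div (by omega) (by norm_num)]
      have : j - (j - 2) = 2 := by omega
      rw [this]
    obtain ⟨m, hmm⟩ := Cfsg.Agent.Helper25.S4705ENDB.sum_range_pow hχ u
    rw [huo] at hmm
    have hp4 : ∀ n : ℕ, n ∣ 4 → ¬ p ∣ n := by
      intro n hn hpn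
      have := Nat.le_of_dvd (by norm_num) (hpn.trans hn)
      omega
    have hu1 : (ψ : H → ℂ) u = 0 := by
      apply hzero
      · rw [huo]; exact hp4 4 dvd_rfl
      · intro h; rw [h, orderOf_one] at huo; omega
      · rw [huo]; norm_num
    have hu2o : orderOf (u ^ 2) = 2 := by
      rw [orderOf_pow_of_dvd (by norm_num) (by rw [huo]; norm_num), huo]
    have hu2 : (ψ : H → ℂ) (u ^ 2) = -1 := (hinv _).mpr hu2o
    have hu3o : orderOf (u ^ 3) = 4 := by
      rw [orderOf_pow' u (by norm_num), huo]; norm_num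
    have hu3 : (ψ : H → ℂ) (u ^ 3) = 0 := by
      apply hzero
      · rw [hu3o]; exact hp4 4 dvd_rfl
      · intro h; rw [h, orderOf_one] at hu3o; omega
      · rw [hu3o]; norm_num
    rw [Finset.sum_range_succ, Finset.sum_range_succ, Finset.sum_range_succ,
      Finset.sum_range_one, pow_zero, pow_one, hψ1, hu1, hu2, hu3] at hmm
    have h3 : ((p - 2 : ℕ) : ℤ) - 1 = (m : ℤ) * 4 := by
      have : (((p - 2 : ℕ) : ℤ) : ℂ) - 1 = ((m : ℤ) : ℂ) * 4 := by
        push_cast at hmm ⊢
        linear_combination hmm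
      exact_mod_cast this
    -- `4 ∣ p - 1`
    have ha3 : 2 ≤ a := by
      by_contra hlt
      have hlt : a < 2 := by omega
      interval_cases a
      · simp at ha; omega
      · simp at ha; omega
    have h4 : 4 ∣ p - 1 := by
      rw [ha]
      exact pow_dvd_pow 2 ha3
    obtain ⟨m', hm'⟩ := h4
    have h5 : ((p - 2 : ℕ) : ℤ) = (p : ℤ) - 2 := by
      rw [Nat.cast_sub (by omega)]; norm_num
    omega

end Cfsg.Agent.S4705P
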