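import Mathlib

/-!
S0997 reduction piece R-QDIV (helper3's board): a degree `D ≡ ±1 (mod p)`, `D ≠ 1`, dividing
`p * q^b * g₀` with `g₀ < p - 1`, is divisible by `q`.
-/

set_option autoImplicit false

namespace Cfsg.Agent.S0997R

namespace QDIV

/-- `D ≡ ±1 (mod p)` is coprime to the prime `p`. -/
theorem coprime_of_modEq {p D : ℕ} {δ : ℤ} (hp : p.Prime) (hδ : δ = 1 ∨ δ = -1)
    (hmod : (D : ℤ) ≡ δ [ZMOD p]) : Nat.Coprime D p := by
  rw [Nat.coprime_comm, Nat.Prime.coprime_iff_not_dvd hp]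
  intro hpD
  have h0 : (D : ℤ) ≡ 0 [ZMOD p] := by
    rw [Int.modEq_zero_iff_dvd]; exact_mod_cast hpD
  have h1 : δ ≡ 0 [ZMOD p] := hmod.symm.trans h0
  rw [Int.modEq_zero_iff_dvd] at h1
  have h2 : (p : ℤ) ∣ 1 := by
    rcases hδ with rfl | rfl
    · exact h1
    · exact (dvd_neg.mp h1)
  have h3 := Int.eq_one_of_dvd_one (Int.natCast_nonneg p) h2
  have := hp.two_le
  omega

/-- `D ≡ ±1 (mod p)` in natural-number form. -/
theorem cases_of_modEq {p D : ℕ} {δ : ℤ} (hδ : δ = 1 ∨ δ = -1) (hD : 0 < D)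
    (hmod : (D : ℤ) ≡ δ [ZMOD p]) :
    (δ = 1 ∧ ∃ t : ℕ, D = p * t + 1) ∨ (δ = -1 ∧ ∃ t : ℕ, D + 1 = p * t) := by
  have h := hmod.dvd
  rcases hδ with rfl | rfl
  · left
    refine ⟨rfl, ?_⟩
    have h1 : (p : ℤ) ∣ ((D - 1 : ℕ) : ℤ) := by
      rw [Nat.cast_sub hD, Nat.cast_one]
      have : (D : ℤ) - 1 = -(1 - (D : ℤ)) := by ring
      rw [this]; exact (dvd_neg.mpr h)
    obtain ⟨t, ht⟩ := Int.natCast_dvd_natCast.mp h1
    exact ⟨t, by omega⟩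
  · right
    refine ⟨rfl, ?_⟩
    have h1 : (p : ℤ) ∣ ((D + 1 : ℕ) : ℤ) := by
      rw [Nat.cast_add, Nat.cast_one]
      have : (D : ℤ) + 1 = -(-1 - (D : ℤ)) := by ring
      rw [this]; exact (dvd_neg.mpr h)
    obtain ⟨t, ht⟩ := Int.natCast_dvd_natCast.mp h1
    exact ⟨t, ht⟩

end QDIV

/-- R-QDIV -/
theorem q_dvd_deg {p q b g₀ D : ℕ} {δ : ℤ} (hp : p.Prime) (hq : q.Prime) (hg0 : 0 < g₀)
    (hg : g₀ < p - 1) (hδ : δ = 1 ∨ δ = -1) (hmod : (D : ℤ) ≡ δ [ZMOD p])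
    (hdvd : D ∣ p * q ^ b * g₀) (hne : D ≠ 1) : q ∣ D := by
  by_contra hqD
  have hDp : Nat.Coprime D p := QDIV.coprime_of_modEq hp hδ hmod
  have hDq : Nat.Coprime D q := ((Nat.Prime.coprime_iff_not_dvd hq).mpr hqD).symm
  have h1 : D ∣ q ^ b * g₀ := by
    have : D ∣ p * (q ^ b * g₀) := by rwa [mul_assoc] at hdvd
    exact hDp.dvd_of_dvd_mul_left this
  have h2 : D ∣ g₀ := (hDq.pow_right b).dvd_of_dvd_mul_left h1
  have hDle : D ≤ g₀ := Nat.le_of_dvd hg0 h2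
  have hDpos : 0 < D := Nat.pos_of_dvd_of_pos h2 hg0
  rcases QDIV.cases_of_modEq hδ hDpos hmod with ⟨-, t, ht⟩ | ⟨-, t, ht⟩
  · rcases Nat.eq_zero_or_pos t with rfl | htpos
    · omega
    · have : p ≤ p * t := Nat.le_mul_of_pos_right p htpos
      omega
  · rcases Nat.eq_zero_or_pos t with rfl | htpos
    · omega
    · have : p ≤ p * t := Nat.le_mul_of_pos_right p htpos
      omega

end Cfsg.Agent.S0997R
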