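import Mathlib
import Cfsg.Agent.Helper25.S0997QDIV

/-!
S0997 reduction piece R-ARB (helper3's board): arithmetic of case B
(exceptional degree `p - f`): `f = 2` or `f = 2^i`, `2 f = p - 1`.
-/

set_option autoImplicit false

namespace Cfsg.Agent.S0997R

set_option maxHeartbeats 1600000 in
/-- R-ARB -/
theorem arith_caseB {ι : Type*} {p q b g₀ f n : ℕ} (hp : p.Prime) (hq : q.Prime) (hpq : p ≠ q)
    (hf2 : 2 ≤ f) (hfd : f ∣ p - 1) (hfne : f ≠ p - 1) (hg0 : 0 < g₀) (hg : g₀ < p - 1)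
    (hcard : p * f * (1 + n * p) = p * q ^ b * g₀)
    (X : Finset ι) (deg : ι → ℕ) (δ : ι → ℤ) (o : ι) (ho : o ∈ X) (hδo : δ o = 1) (hdo : deg o = 1)
    (hδ : ∀ i ∈ X, δ i = 1 ∨ δ i = -1)
    (hdX : ∀ i ∈ X, (deg i : ℤ) ≡ δ i [ZMOD p])
    (hdvd : ∀ i ∈ X, deg i ∣ p * q ^ b * g₀)
    (hne : ∀ i ∈ X, i ≠ o → deg i ≠ 1)
    (hdd : p - f ∣ p * q ^ b * g₀)
    (hrel : ∑ i ∈ X, δ i * (deg i : ℤ) = - ((p - f : ℕ) : ℤ)) :
    f = 2 ∨ ∃ i : ℕ, 1 ≤ i ∧ f = 2 ^ i ∧ 2 * f = p - 1 := by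
  classical
  have hp3 : 3 ≤ p := by omega
  -- 2 f ≤ p - 1
  obtain ⟨k, hk⟩ := hfd
  have hk2 : 2 ≤ k := by
    rcases Nat.lt_or_ge k 2 with h | h
    · interval_cases k
      · omega
      · exfalso; apply hfne; omega
    · exact h
  have h2f : 2 * f ≤ p - 1 := by
    rw [hk]; calc 2 * f = f * 2 := by ring
      _ ≤ f * k := Nat.mul_le_mul_left f hk2
  obtain ⟨d, hd⟩ : ∃ d, d = p - f := ⟨_, rfl⟩
  have hdf : d + f = p := by omega
  have h2d : p + 1 ≤ 2 * d := by omega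
  have hdpos : 0 < d := by omega
  have hdlt : d < p := by omega
  rw [← hd] at hdd hrel
  -- split off the trivial character
  have hsplit : δ o * (deg o : ℤ) + ∑ i ∈ X.erase o, δ i * (deg i : ℤ)
      = ∑ i ∈ X, δ i * (deg i : ℤ) :=
    Finset.add_sum_erase X (fun i => δ i * (deg i : ℤ)) ho
  rw [hδo, hdo, hrel] at hsplit
  have hS : ∑ i ∈ X.erase o, δ i * (deg i : ℤ) = -((d : ℤ) + 1) := by
    have : ((1 : ℕ) : ℤ) = 1 := Nat.cast_one
    rw [this] at hsplit; linarith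
  -- q divides the other degrees
  have hqdeg : ∀ i ∈ X.erase o, q ∣ deg i := by
    intro i hi
    obtain ⟨hio, hiX⟩ := Finset.mem_erase.mp hi
    exact q_dvd_deg hp hq hg0 hg (hδ i hiX) (hdX i hiX) (hdvd i hiX) (hne i hiX hio)
  have hqS : (q : ℤ) ∣ ∑ i ∈ X.erase o, δ i * (deg i : ℤ) := by
    apply Finset.dvd_sum
    intro i hi
    exact Dvd.dvd.mul_left (by exact_mod_cast hqdeg i hi) (δ i)
  have hqd1 : q ∣ d + 1 := by
    rw [hS, dvd_neg] at hqS
    exact_mod_cast hqS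
  have hqd : ¬ q ∣ d := by
    intro h
    have := (Nat.dvd_add_right h).mp hqd1
    have := Nat.le_of_dvd one_pos this
    have := hq.two_le
    omega
  -- d ∣ g₀, hence g₀ = d
  have hdp : Nat.Coprime d p :=
    ((Nat.Prime.coprime_iff_not_dvd hp).mpr (Nat.not_dvd_of_pos_of_lt hdpos hdlt)).symm
  have hdq : Nat.Coprime d q := ((Nat.Prime.coprime_iff_not_dvd hq).mpr hqd).symm
  have hdg0 : d ∣ g₀ := by
    have h1 : d ∣ p * (q ^ b * g₀) := by rwa [mul_assoc] at hdd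
    have h2 := hdp.dvd_of_dvd_mul_left h1
    exact (hdq.pow_right b).dvd_of_dvd_mul_left h2
  have hg0d : g₀ = d := by
    obtain ⟨k', hk'⟩ := hdg0
    rcases Nat.lt_or_ge k' 2 with h | h
    · interval_cases k'
      · omega
      · omega
    · have : d * 2 ≤ d * k' := Nat.mul_le_mul_left d h
      omega
  subst hg0d
  -- f ∣ q ^ b
  have hcard' : f * (1 + n * p) = q ^ b * g₀ := by
    have : p * (f * (1 + n * p)) = p * (q ^ b * g₀) := by
      rw [← mul_assoc, ← mul_assoc]; exact hcard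
    exact Nat.eq_of_mul_eq_mul_left hp.pos this
  have hfd' : Nat.Coprime f g₀ := by
    have h1 : Nat.gcd f g₀ ∣ p := by
      rw [← hdf]; exact dvd_add (Nat.gcd_dvd_right _ _) (Nat.gcd_dvd_left _ _)
    rcases (Nat.dvd_prime hp).mp h1 with h | h
    · exact h
    · exfalso
      have := Nat.le_of_dvd (by omega) (Nat.gcd_dvd_left f g₀)
      omega
  have hfq : f ∣ q ^ b := by
    have : f ∣ q ^ b * g₀ := ⟨_, hcard'.symm⟩
    exact hfd'.dvd_of_dvd_mul_right this
  obtain ⟨i, -, hfi⟩ := (Nat.dvd_prime_pow hq).mp hfq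
  have hi1 : 1 ≤ i := by
    rcases Nat.eq_zero_or_pos i with rfl | h
    · simp at hfi; omega
    · exact h
  -- q = 2
  have hqf : q ∣ f := by rw [hfi]; exact dvd_pow_self q (by omega)
  have hq2 : q = 2 := by
    have h1 : q ∣ p - 1 := by rw [hk]; exact Dvd.dvd.mul_right hqf k
    have h2 : q ∣ p + 1 := by
      have : p + 1 = (g₀ + 1) + f := by omega
      rw [this]; exact dvd_add hqd1 hqf
    have h3 : q ∣ (p + 1) - (p - 1) := Nat.dvd_sub h2 h1
    have h4 : (p + 1) - (p - 1) = 2 := by omega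
    rw [h4] at h3
    exact (Nat.prime_dvd_prime_iff_eq hq Nat.prime_two).mp h3
  subst hq2
  rcases Nat.lt_or_ge i 2 with hi2 | hi2
  · left
    have : i = 1 := by omega
    rw [hfi, this]; norm_num
  right
  refine ⟨i, hi1, hfi, ?_⟩
  -- 4 ∣ f
  have h4f : 4 ∣ f := by
    rw [hfi]
    have : (4 : ℕ) = 2 ^ 2 := by norm_num
    rw [this]; exact pow_dvd_pow 2 hi2
  obtain ⟨c, hc⟩ := h4f
  have h4p : p - 1 = 4 * (c * k) := by rw [hk, hc]; ring
  -- some degree is 2 mod 4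
  have hex : ∃ j ∈ X.erase o, ¬ 4 ∣ deg j := by
    by_contra hcon
    push Not at hcon
    have h4S : (4 : ℤ) ∣ ∑ i ∈ X.erase o, δ i * (deg i : ℤ) := by
      apply Finset.dvd_sum
      intro j hj
      exact Dvd.dvd.mul_left (by exact_mod_cast hcon j hj) (δ j)
    rw [hS, dvd_neg] at h4S
    have h4' : 4 ∣ g₀ + 1 := by exact_mod_cast h4S
    omega
  obtain ⟨j, hj, h4j⟩ := hex
  obtain ⟨hjo, hjX⟩ := Finset.mem_erase.mp hj
  obtain ⟨s, hs⟩ := hqdeg j hj
  have hsodd : ¬ 2 ∣ s := by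
    intro h
    apply h4j
    obtain ⟨t, ht⟩ := h
    exact ⟨t, by rw [hs, ht]; ring⟩
  -- s ∣ g₀
  have hjp : Nat.Coprime (deg j) p := QDIV.coprime_of_modEq hp (hδ j hjX) (hdX j hjX)
  have hsg0 : s ∣ g₀ := by
    have h1 : deg j ∣ p * (2 ^ b * g₀) := by have := hdvd j hjX; rwa [mul_assoc] at this
    have h2 : deg j ∣ 2 ^ b * g₀ := hjp.dvd_of_dvd_mul_left h1
    have h3 : s ∣ 2 ^ b * g₀ := Dvd.dvd.trans ⟨2, by rw [hs]; ring⟩ h2
    have hs2 : Nat.Coprime s 2 :=
      ((Nat.Prime.coprime_iff_not_dvd Nat.prime_two).mpr hsodd).symm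
    exact (hs2.pow_right b).dvd_of_dvd_mul_left h3
  have hsle : s ≤ g₀ := Nat.le_of_dvd hdpos hsg0
  have hjpos : 0 < deg j := by
    rcases Nat.eq_zero_or_pos (deg j) with h | h
    · exfalso; apply h4j; rw [h]; exact dvd_zero 4
    · exact h
  have hjne : deg j ≠ 1 := hne j hjX hjo
  -- deg j = p + 1
  have hjp1 : deg j = p + 1 := by
    rcases QDIV.cases_of_modEq (hδ j hjX) hjpos (hdX j hjX) with ⟨-, t, ht⟩ | ⟨-, t, ht⟩
    · rcases Nat.lt_or_ge t 2 with h | h
      · interval_cases t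
        · omega
        · omega
      · have : p * 2 ≤ p * t := Nat.mul_le_mul_left p h
        omega
    · rcases Nat.lt_or_ge t 2 with h | h
      · interval_cases t
        · omega
        · exfalso
          -- deg j = p - 1 = 4 * (...) so s even
          apply hsodd
          have : s = 2 * (c * k) := by
            have h1 : 2 * s = p - 1 := by omega
            omega
          exact ⟨_, this⟩
      · have : p * 2 ≤ p * t := Nat.mul_le_mul_left p h
        omega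
  -- d = s
  have hds : g₀ = s := by
    obtain ⟨k', hk'⟩ := hsg0
    rcases Nat.lt_or_ge k' 2 with h | h
    · interval_cases k'
      · omega
      · omega
    · have : s * 2 ≤ s * k' := Nat.mul_le_mul_left s h
      omega
  omega

end Cfsg.Agent.S0997R
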