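import Mathlib
import Cfsg.Agent.Helper2.GL2SylowThm
import Cfsg.Agent.Helper14.L2Max

set_option autoImplicit false

/-!
Two distinct Sylow `p`-subgroups of `GL₂(p)` generate `SL₂(p)`; consequently a finite group
with a faithful representation in `GL₂(p)`, order divisible by `p` and no nontrivial normal
`p`-subgroup contains a copy of `SL₂(p)`.
-/

namespace Cfsg.Agent.Helper25.TwoSylow

open Matrix Cfsg.Agent.Helper2.GL2 Cfsg.Agent.Helper14
open scoped Pointwise

variable (p : ℕ) [Fact p.Prime]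

/-- The range of `SL₂ → GL₂`. -/
noncomputable def slRange : Subgroup (GL (Fin 2) (ZMod p)) :=
  (SpecialLinearGroup.toGL : SpecialLinearGroup (Fin 2) (ZMod p) →* GL (Fin 2) (ZMod p)).range

theorem mem_slRange_of_det {g : GL (Fin 2) (ZMod p)}
    (h : Matrix.GeneralLinearGroup.det g = 1) : g ∈ slRange p := by
  have hdet : (g : Matrix (Fin 2) (Fin 2) (ZMod p)).det = 1 := by
    have := congrArg Units.val h
    simpa using this
  refine ⟨⟨(g : Matrix (Fin 2) (Fin 2) (ZMod p)), hdet⟩, ?_⟩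
  apply Units.ext
  rfl

theorem det_eq_one_of_pow {g : GL (Fin 2) (ZMod p)} {k : ℕ} (h : g ^ (p ^ k) = 1) :
    Matrix.GeneralLinearGroup.det g = 1 := by
  set x := Matrix.GeneralLinearGroup.det g with hx
  have h1 : x ^ (p ^ k) = 1 := by
    rw [hx, ← map_pow, h, map_one]
  have h2 : x ^ (p - 1) = 1 := ZMod.units_pow_card_sub_one_eq_one p x
  have hp : p.Prime := Fact.out
  have hcop : Nat.Coprime (p ^ k) (p - 1) := by
    apply Nat.Coprime.pow_left
    rw [Nat.Prime.coprime_iff_not_dvd hp]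
    intro hdvd
    have h2le := hp.two_le
    have := Nat.le_of_dvd (by omega) hdvd
    omega
  have h3 : orderOf x ∣ 1 := by
    rw [← Nat.Coprime.gcd_eq_one hcop]
    exact Nat.dvd_gcd (orderOf_dvd_of_pow_eq_one h1) (orderOf_dvd_of_pow_eq_one h2)
  exact orderOf_eq_one_iff.1 (Nat.dvd_one.1 h3)

theorem normal_slRange : (slRange p).Normal := by
  have : slRange p = (Matrix.GeneralLinearGroup.det :
      GL (Fin 2) (ZMod p) →* (ZMod p)ˣ).ker := by
    ext g
    constructor
    · rintro ⟨s, rfl⟩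
      rw [MonoidHom.mem_ker]
      exact SpecialLinearGroup.coeToGL_det s
    · intro hg
      exact mem_slRange_of_det p (MonoidHom.mem_ker.1 hg)
  rw [this]
  infer_instance

theorem card_sylow_GL2' (R : Sylow p (GL (Fin 2) (ZMod p))) :
    Nat.card (R : Subgroup (GL (Fin 2) (ZMod p))) = p := by
  obtain ⟨P0, hP0⟩ := exists_sylow_eq_U (F := ZMod p) p
  rw [Sylow.card_eq_multiplicity R, ← Sylow.card_eq_multiplicity P0, hP0, card_U, Nat.card_zmod]

/-- The unitriangular subgroup together with any other Sylow `p`-subgroup generates `SL₂(p)`. -/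
theorem U_sup_sylow (P0 : Sylow p (GL (Fin 2) (ZMod p)))
    (hP0 : (P0 : Subgroup (GL (Fin 2) (ZMod p))) = U) (R : Sylow p (GL (Fin 2) (ZMod p)))
    (hR : R ≠ P0) : (U ⊔ (R : Subgroup (GL (Fin 2) (ZMod p)))) = slRange p := by
  have hp : p.Prime := Fact.out
  have hRle : (R : Subgroup (GL (Fin 2) (ZMod p))) ≤ slRange p := by
    intro h hh
    obtain ⟨k, hk⟩ := R.2 ⟨h, hh⟩
    have hk' : h ^ (p ^ k) = 1 := by
      have := congrArg Subtype.val hk
      simpa using this
    exact mem_slRange_of_det p (det_eq_one_of_pow p hk')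
  have hUle : (U : Subgroup (GL (Fin 2) (ZMod p))) ≤ slRange p := by
    rw [← hP0]
    intro h hh
    obtain ⟨k, hk⟩ := P0.2 ⟨h, hh⟩
    have hk' : h ^ (p ^ k) = 1 := by
      have := congrArg Subtype.val hk
      simpa using this
    exact mem_slRange_of_det p (det_eq_one_of_pow p hk')
  apply le_antisymm (sup_le hUle hRle)
  -- the comap to SL2 is everything
  set H : Subgroup (SpecialLinearGroup (Fin 2) (ZMod p)) :=
    (U ⊔ (R : Subgroup (GL (Fin 2) (ZMod p)))).comap SpecialLinearGroup.toGL with hH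
  have hstab : sl2Stab (ZMod p) ≤ H := by
    intro g hg
    rw [mem_sl2Stab, sl2_stab_iff] at hg
    have hdet := sl2_det' g
    rw [hg.1, hg.2, one_mul, mul_zero, sub_zero] at hdet
    rw [hH, Subgroup.mem_comap]
    apply Subgroup.mem_sup_left
    rw [mem_U_iff]
    refine ⟨g.1 0 1, ?_⟩
    apply gl_ext
    · show (1 : ZMod p) = g.1 0 0
      rw [hg.1]
    · rfl
    · show (0 : ZMod p) = g.1 1 0
      rw [hg.2]
    · show (1 : ZMod p) = g.1 1 1
      rw [hdet]
  -- a nontrivial element of R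
  have hRcard := card_sylow_GL2' p R
  obtain ⟨h, hhR, hh1⟩ : ∃ h ∈ (R : Subgroup (GL (Fin 2) (ZMod p))), h ≠ 1 := by
    by_contra hcon
    push Not at hcon
    have : (R : Subgroup (GL (Fin 2) (ZMod p))) = ⊥ := by
      rw [Subgroup.eq_bot_iff_forall]
      exact hcon
    rw [this, Subgroup.card_bot] at hRcard
    exact hp.one_lt.ne hRcard
  have hh10 : h 1 0 ≠ 0 := by
    intro h0
    have hnorm : h ∈ Subgroup.normalizer ((P0 : Subgroup (GL (Fin 2) (ZMod p))) : Set _) := by
      rw [hP0]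
      exact mem_normalizer_U_iff.2 h0
    have hz : IsPGroup p (Subgroup.zpowers h) := R.2.to_le (by
      rw [Subgroup.zpowers_le]
      exact hhR)
    have h1 := hz.inf_normalizer_sylow P0
    have h2 : h ∈ Subgroup.zpowers h ⊓
        Subgroup.normalizer ((P0 : Subgroup (GL (Fin 2) (ZMod p))) : Set _) :=
      ⟨Subgroup.mem_zpowers h, hnorm⟩
    have h2' : h ∈ Subgroup.zpowers h ⊓ (P0 : Subgroup (GL (Fin 2) (ZMod p))) := h1.le h2
    have h3 : h ∈ (R : Subgroup (GL (Fin 2) (ZMod p))) ⊓ (P0 : Subgroup _) := ⟨hhR, h2'.2⟩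
    rw [inf_eq_bot_of_ne p R P0 hR, Subgroup.mem_bot] at h3
    exact hh1 h3
  obtain ⟨h', hh'⟩ := hRle hhR
  have hh'H : h' ∈ H := by
    rw [hH, Subgroup.mem_comap, hh']
    exact Subgroup.mem_sup_right hhR
  have hh'10 : h'.1 1 0 ≠ 0 := by
    have : h'.1 1 0 = h 1 0 := by
      rw [← hh']
      rfl
    rw [this]
    exact hh10
  have htop := sl2_top_of_stab_le H hstab h' hh'H hh'10
  rintro _ ⟨s, rfl⟩
  have : s ∈ H := by
    rw [htop]
    exact Subgroup.mem_top s
  exact this

/-- Any two distinct Sylow `p`-subgroups of `GL₂(p)` generate `SL₂(p)`. -/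
theorem sylow_sup_sylow (R₁ R₂ : Sylow p (GL (Fin 2) (ZMod p))) (h : R₁ ≠ R₂) :
    ((R₁ : Subgroup (GL (Fin 2) (ZMod p))) ⊔ (R₂ : Subgroup _)) = slRange p := by
  obtain ⟨P0, hP0⟩ := exists_sylow_eq_U (F := ZMod p) p
  obtain ⟨g, rfl⟩ := MulAction.exists_smul_eq (GL (Fin 2) (ZMod p)) P0 R₁
  have hne : g⁻¹ • R₂ ≠ P0 := by
    intro hcon
    apply h
    rw [← hcon, smul_inv_smul]
  have h1 := U_sup_sylow p P0 hP0 (g⁻¹ • R₂) hne
  have h2 : ((g • P0 : Sylow p (GL (Fin 2) (ZMod p))) : Subgroup (GL (Fin 2) (ZMod p))) ⊔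
      (R₂ : Subgroup _) = MulAut.conj g • (U ⊔ ((g⁻¹ • R₂ : Sylow p _) : Subgroup _)) := by
    rw [Subgroup.smul_sup, ← hP0]
    congr 1
    rw [Sylow.coe_subgroup_smul, ← mul_smul, ← map_mul, mul_inv_cancel, map_one, one_smul]
  rw [h2, h1]
  have := normal_slRange p
  exact Subgroup.Normal.conj_smul_eq_self g (slRange p)

/-- A finite group with a faithful representation in `GL₂(p)`, order divisible by `p` and no
nontrivial normal `p`-subgroup contains a copy of `SL₂(p)`. -/
theorem exists_sl2_subgroup {A : Type*} [Group A] [Finite A]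
    (φ : A →* GL (Fin 2) (ZMod p)) (hφ : Function.Injective φ) (hdvd : p ∣ Nat.card A)
    (hOp : ∀ N : Subgroup A, N.Normal → IsPGroup p N → N = ⊥) :
    ∃ K : Subgroup A, Nonempty (↥K ≃* SpecialLinearGroup (Fin 2) (ZMod p)) := by
  have hp : p.Prime := Fact.out
  obtain ⟨P₁⟩ : Nonempty (Sylow p A) := inferInstance
  have hP₁ne : (P₁ : Subgroup A) ≠ ⊥ := by
    intro hbot
    have h1 := Sylow.card_eq_multiplicity P₁
    rw [hbot, Subgroup.card_bot] at h1
    have h2 : (Nat.card A).factorization p = 0 := by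
      by_contra hne
      have : 1 < p ^ (Nat.card A).factorization p := Nat.one_lt_pow hne hp.one_lt
      omega
    have h3 := (hp.dvd_iff_one_le_factorization Nat.card_pos.ne').1 hdvd
    omega
  obtain ⟨P₂, hP₂⟩ : ∃ P₂ : Sylow p A, P₂ ≠ P₁ := by
    by_contra hcon
    push Not at hcon
    have : Subsingleton (Sylow p A) := ⟨fun a b => (hcon a).trans (hcon b).symm⟩
    exact hP₁ne (hOp _ (Sylow.normal_of_subsingleton P₁) P₁.2)
  have hP₂ne : (P₂ : Subgroup A) ≠ ⊥ := by
    intro hbot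
    apply hP₁ne
    have h1 := Sylow.card_eq_multiplicity P₁
    have h2 := Sylow.card_eq_multiplicity P₂
    rw [hbot, Subgroup.card_bot] at h2
    rw [← h2] at h1
    exact Subgroup.card_eq_one.1 h1
  -- Sylow subgroups of GL2 containing the images
  have himg : ∀ P : Sylow p A, (P : Subgroup A) ≠ ⊥ →
      ∃ R : Sylow p (GL (Fin 2) (ZMod p)), (R : Subgroup _) = (P : Subgroup A).map φ := by
    intro P hP
    have hpg : IsPGroup p ((P : Subgroup A).map φ) := P.2.map φ
    obtain ⟨R, hR⟩ := hpg.exists_le_sylow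
    refine ⟨R, ?_⟩
    have hcard := card_sylow_GL2' p R
    symm
    have hne : (P : Subgroup A).map φ ≠ ⊥ := by
      intro hbot
      apply hP
      rw [Subgroup.map_eq_bot_iff, φ.ker_eq_bot_iff.2 hφ] at hbot
      exact le_bot_iff.1 hbot
    -- a nontrivial subgroup of a group of prime order
    have hprime : (Nat.card (R : Subgroup (GL (Fin 2) (ZMod p)))).Prime := hcard.symm ▸ hp
    have : Fact (Nat.card (R : Subgroup (GL (Fin 2) (ZMod p)))).Prime := ⟨hprime⟩
    have h1 : ((P : Subgroup A).map φ).subgroupOf (R : Subgroup _) = ⊥ ∨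
        ((P : Subgroup A).map φ).subgroupOf (R : Subgroup _) = ⊤ :=
      Subgroup.eq_bot_or_eq_top_of_prime_card _
    rcases h1 with h1 | h1
    · exfalso
      apply hne
      rw [Subgroup.subgroupOf_eq_bot, disjoint_iff, inf_eq_left.2 hR] at h1
      exact h1
    · rw [Subgroup.subgroupOf_eq_top] at h1
      exact le_antisymm hR h1
  obtain ⟨R₁, hR₁⟩ := himg P₁ hP₁ne
  obtain ⟨R₂, hR₂⟩ := himg P₂ hP₂ne
  have hRne : R₁ ≠ R₂ := by
    intro hcon
    apply hP₂
    apply Sylow.ext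
    have : (P₁ : Subgroup A).map φ = (P₂ : Subgroup A).map φ := by
      rw [← hR₁, ← hR₂, hcon]
    exact (Subgroup.map_injective hφ this).symm
  have hsup := sylow_sup_sylow p R₁ R₂ hRne
  set K : Subgroup A := (P₁ : Subgroup A) ⊔ (P₂ : Subgroup A) with hK
  have hKmap : K.map φ = slRange p := by
    rw [hK, Subgroup.map_sup, ← hR₁, ← hR₂, hsup]
  refine ⟨K, ⟨?_⟩⟩
  exact ((K.equivMapOfInjective φ hφ).trans (MulEquiv.subgroupCongr hKmap)).trans
    (MonoidHom.ofInjective SpecialLinearGroup.toGL_injective).symm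

end Cfsg.Agent.Helper25.TwoSylow
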