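import Mathlib
import Cfsg.Agent.Helper4.S5033Defs
import Cfsg.Agent.Helper25.RankOne2
import Cfsg.Agent.Helper15.S5033T
open Cfsg Cfsg.Agent.S5033P

set_option autoImplicit false

/-! S5033 piece R0: rank one pairs inside `G`. -/

namespace Cfsg.Agent.S5033P

variable {G : Type*} [Group G] {S : Set (Subgroup G)}

/-- R0a. -/
theorem R0.dichotomy {A B M : Subgroup G} (h : IsRankOnePair A B) (hM : M ≤ A ⊔ B)
    (hn : A ⊔ B ≤ Subgroup.normalizer (M : Set G)) :
    M ⊔ A = A ⊔ B ∨ M ≤ Subgroup.centralizer ((A ⊔ B : Subgroup G) : Set G) := by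
  obtain ⟨hX, hp⟩ := T.rankOneGroup h
  have hNorm : (M.subgroupOf (A ⊔ B)).Normal :=
    (Subgroup.normal_subgroupOf_iff_le_normalizer hM).2 hn
  rcases Cfsg.Agent.Helper25.rankOne_normal_cases hX hp (M.subgroupOf (A ⊔ B)) with h1 | h1
  · left
    have h2 := congrArg (Subgroup.map (A ⊔ B).subtype) h1
    rw [Subgroup.map_sup, Subgroup.subgroupOf_map_subtype, Subgroup.subgroupOf_map_subtype,
      ← MonoidHom.range_eq_map, Subgroup.range_subtype, inf_eq_left.2 hM,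
      inf_eq_left.2 (le_sup_left : A ≤ A ⊔ B)] at h2
    exact h2
  · right
    intro m hm
    rw [Subgroup.mem_centralizer_iff]
    intro x hx
    have hm' : (⟨m, hM hm⟩ : ↥(A ⊔ B)) ∈ M.subgroupOf (A ⊔ B) := Subgroup.mem_subgroupOf.2 hm
    have := (Subgroup.mem_center_iff.1 (h1 hm')) ⟨x, hx⟩
    exact congrArg Subtype.val this

/-- R0b. -/
theorem R0.not_class_two {A B : Subgroup G} (h : IsRankOnePair A B) :
    ¬ (⁅A ⊔ B, A ⊔ B⁆ ≤ Subgroup.centralizer ((A ⊔ B : Subgroup G) : Set G)) := by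
  intro hle
  obtain ⟨hX, hp⟩ := T.rankOneGroup h
  have hc : ∀ x y : ↥(A ⊔ B), x * y * x⁻¹ * y⁻¹ ∈ Subgroup.center ↥(A ⊔ B) := by
    intro x y
    rw [Subgroup.mem_center_iff]
    intro w
    have h1 : (x : G) * y * (x : G)⁻¹ * (y : G)⁻¹ ∈ ⁅A ⊔ B, A ⊔ B⁆ := by
      rw [← commutatorElement_def]
      exact Subgroup.commutator_mem_commutator x.2 y.2
    have h2 := (Subgroup.mem_centralizer_iff.1 (hle h1)) w w.2
    exact Subtype.ext h2
  have h2 : Subgroup.upperCentralSeries ↥(A ⊔ B) 2 = ⊤ := by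
    rw [eq_top_iff]
    intro x _
    rw [show (2 : ℕ) = 1 + 1 from rfl, Subgroup.mem_upperCentralSeries_succ_iff,
      Subgroup.upperCentralSeries_one]
    exact hc x
  rw [Cfsg.Agent.Helper25.rankOne_upperCentralSeries_two hX hp] at h2
  exact Cfsg.Agent.Helper25.rankOne_center_ne_top hX hp h2

end Cfsg.Agent.S5033P
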