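import Cfsg.Agent.Helper25.RankOneI
import Cfsg.Agent.Helper25.RankOne2
import Cfsg.Agent.Helper9.Basic

set_option autoImplicit false
set_option linter.unusedSectionVars false
set_option linter.unusedVariables false
open scoped Pointwise
open scoped commutatorElement

/-! The structure dichotomy for special rank one groups with abelian unipotent subgroups. -/

namespace Cfsg.Agent.Helper25.RankOne

open Cfsg Cfsg.Agent.Helper25

variable {X : Type*} [Group X] {A B : Subgroup X}

theorem SP.card_comm (s : SP A B) (hcard : 3 < ENat.card A) :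
    3 < ENat.card ↥⁅A, rankOneDiagonal A B⁆ := by
  obtain ⟨x, hx, hx1, -, -⟩ := exists_ne_of_card hcard 1 1 1
  rcases s.main with ⟨p, hp, hexp⟩ | ⟨htf, -⟩
  · by_cases h2 : p = 2
    · subst h2; exact s.two_case hexp hcard
    by_cases h3 : p = 3
    · subst h3; exact s.three_case hexp hcard
    have : Fact p.Prime := ⟨hp⟩
    have ho : orderOf x = p := orderOf_eq_prime (hexp x hx) hx1
    have hd : ∀ i : ℕ, x ^ i = 1 → p ∣ i := by
      intro i hi
      rw [← ho]; exact orderOf_dvd_of_pow_eq_one hi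
    have n2 : ¬ p ∣ 2 := fun h => h2 ((Nat.prime_dvd_prime_iff_eq hp Nat.prime_two).mp h)
    have n3 : ¬ p ∣ 3 := fun h => h3 ((Nat.prime_dvd_prime_iff_eq hp Nat.prime_three).mp h)
    refine s.cube_case hx (fun h => n2 (hd 2 h)) (fun h => n3 (hd 3 h)) ?_ ?_
    · intro h
      have := hd 6 h
      rw [show (6 : ℕ) = 2 * 3 by norm_num] at this
      rcases hp.dvd_mul.mp this with h' | h'
      · exact n2 h'
      · exact n3 h'
    · intro h
      have := hd 9 h
      rw [show (9 : ℕ) = 3 * 3 by norm_num] at this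
      rcases hp.dvd_mul.mp this with h' | h'
      · exact n3 h'
      · exact n3 h'
  · have hne : ∀ i : ℕ, 0 < i → x ^ i ≠ 1 := fun i hi h =>
      htf x hx hx1 (isOfFinOrder_iff_pow_eq_one.2 ⟨i, hi, h⟩)
    exact s.cube_case hx (hne 2 (by norm_num)) (hne 3 (by norm_num)) (hne 6 (by norm_num))
      (hne 9 (by norm_num))

lemma center_sl2_two : Subgroup.center (Matrix.SpecialLinearGroup (Fin 2) (ZMod 2)) = ⊥ := by
  rw [eq_bot_iff]
  intro z hz
  obtain ⟨z10, z01, z00, z11⟩ := center_entries (p := 2) hz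
  have h1 : ∀ t : ZMod 2, t ^ 2 = 1 → t = 1 := by decide
  have ha := h1 _ z00
  rw [Subgroup.mem_bot]
  exact sl2_ext (by simp [ha]) (by simp [z01]) (by simp [z10]) (by simp [z11, ha])

/-- the small case -/
theorem SP.small_case (s : SP A B) (hX : A ⊔ B = ⊤) (hcard : ENat.card A ≤ 3) :
    Nonempty (X ≃* Matrix.SpecialLinearGroup (Fin 2) (ZMod 2)) ∨
    Nonempty (X ≃* Matrix.SpecialLinearGroup (Fin 2) (ZMod 3)) ∨
    Nonempty (X ≃* Matrix.ProjectiveSpecialLinearGroup (Fin 2) (ZMod 3)) := by
  have hfin : Finite A := by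
    rw [← ENat.card_lt_top]
    exact lt_of_le_of_lt hcard (by exact ENat.natCast_lt_top 3)
  have hnat : Nat.card A ≤ 3 := by
    rw [ENat.card_eq_coe_natCard] at hcard
    exact_mod_cast hcard
  -- a nonidentity element
  obtain ⟨a, ha, ha1⟩ : ∃ a ∈ A, a ≠ 1 := by
    by_contra hcon
    push Not at hcon
    have hB : ∀ b ∈ B, b = 1 := by
      intro b hb
      by_contra hb1
      obtain ⟨a, ha⟩ := s.exR b hb hb1
      exact ha.2.1 (hcon a ha.1)
    apply s.ne
    ext g
    constructor
    · intro hg; rw [hcon g hg]; exact B.one_mem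
    · intro hg; rw [hB g hg]; exact A.one_mem
  obtain ⟨b, hb⟩ := s.exL a ha ha1
  have h2le : 2 ≤ Nat.card A := by
    have : Nontrivial A := ⟨⟨⟨a, ha⟩, 1, fun h => ha1 (congrArg Subtype.val h)⟩⟩
    exact Finite.one_lt_card
  -- generation
  have key : ∀ p : ℕ, ∀ [Fact p.Prime], Nat.card A = p →
      (∀ u ∈ A, u ^ p = 1) ∧ (⊤ : Subgroup X) = Subgroup.closure ({a, b} : Set X) := by
    intro p _ hp
    constructor
    · intro u hu
      have := pow_card_eq_one' (x := (⟨u, hu⟩ : A))
      rw [hp] at this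
      exact congrArg Subtype.val this
    · apply le_antisymm _ le_top
      rw [← hX, sup_le_iff]
      have haY : a ∈ Subgroup.closure ({a, b} : Set X) := Subgroup.subset_closure (by simp)
      have hbY : b ∈ Subgroup.closure ({a, b} : Set X) := Subgroup.subset_closure (by simp)
      have hAY : A ≤ Subgroup.closure ({a, b} : Set X) := by
        intro u hu
        have := mem_zpowers_of_prime_card (G := A) hp (g := ⟨a, ha⟩) (g' := ⟨u, hu⟩)
          (fun h => ha1 (congrArg Subtype.val h))
        obtain ⟨k, hk⟩ := Subgroup.mem_zpowers_iff.mp this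
        have : u = a ^ k := by
          have := congrArg Subtype.val hk
          simpa using this.symm
        rw [this]
        exact Subgroup.zpow_mem _ haY k
      refine ⟨hAY, ?_⟩
      intro y hy
      rw [← s.cj_nn_left hb, mem_cj] at hy
      have hn : nn a b ∈ Subgroup.closure ({a, b} : Set X) := by
        unfold nn
        exact Subgroup.mul_mem _ (Subgroup.mul_mem _ haY (Subgroup.inv_mem _ hbY)) haY
      have := Subgroup.mul_mem _ (Subgroup.mul_mem _ hn (hAY hy)) (Subgroup.inv_mem _ hn)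
      have e : nn a b * ((nn a b)⁻¹ * y * nn a b) * (nn a b)⁻¹ = y := by group
      rwa [e] at this
  have e0 : ∀ Y : Subgroup X, (⊤ : Subgroup X) = Y → X ≃* Y := fun Y h =>
    Subgroup.topEquiv.symm.trans (MulEquiv.subgroupCongr h)
  have hcases : Nat.card A = 2 ∨ Nat.card A = 3 := by omega
  rcases hcases with h2 | h3
  · have : Fact (Nat.Prime 2) := ⟨Nat.prime_two⟩
    obtain ⟨hexp, htop⟩ := key 2 h2
    left
    rcases s.closure_equiv (p := 2) hexp hb with he | he
    · obtain ⟨e⟩ := he
      exact ⟨(e0 _ htop).trans e⟩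
    · obtain ⟨e⟩ := he
      exact ⟨((e0 _ htop).trans e).trans ((QuotientGroup.quotientMulEquivOfEq
        center_sl2_two).trans QuotientGroup.quotientBot)⟩
  · have : Fact (Nat.Prime 3) := ⟨Nat.prime_three⟩
    obtain ⟨hexp, htop⟩ := key 3 h3
    right
    rcases s.closure_equiv (p := 3) hexp hb with he | he
    · obtain ⟨e⟩ := he
      exact Or.inl ⟨(e0 _ htop).trans e⟩
    · obtain ⟨e⟩ := he
      exact Or.inr ⟨(e0 _ htop).trans e⟩

end Cfsg.Agent.Helper25.RankOne
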