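import Mathlib
import Cfsg.Agent.Helper4.S5033Defs
import Cfsg.Agent.S5020
import Cfsg.Agent.Helper7.Quasisimple
import Cfsg.Agent.Helper25.S5033R0
import Cfsg.Agent.Helper15.S5033T
open Cfsg Cfsg.Agent.S5033P

set_option autoImplicit false

/-! S5033 piece R1: special rank one pairs with `|A| > 3` inside `G`. -/

namespace Cfsg.Agent.S5033P

variable {G : Type*} [Group G] {S : Set (Subgroup G)}

/-- The commutator subgroup of `↥X`, pushed forward to `G`. -/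
theorem R1.aux_map (X : Subgroup G) : (commutator ↥X).map X.subtype = ⁅X, X⁆ := by
  rw [commutator_def, Subgroup.map_commutator, ← MonoidHom.range_eq_map, Subgroup.range_subtype]

/-- The commutator subgroup of `↥X` is isomorphic to `⁅X, X⁆`. -/
noncomputable def R1.aux_equiv (X : Subgroup G) :
    ↥(commutator ↥X) ≃* ↥(⁅X, X⁆ : Subgroup G) :=
  ((commutator ↥X).equivMapOfInjective X.subtype X.subtype_injective).trans
    (MulEquiv.subgroupCongr (R1.aux_map X))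

/-- The second alternative of S5020 holds in `↥(A ⊔ B)`. -/
theorem R1.aux_alt {A B : Subgroup G} (h : IsSpecialRankOnePair A B) (hA : IsMulCommutative A)
    (hB : IsMulCommutative B) (hc : 3 < ENat.card A) :
    IsQuasisimple ↥(commutator ↥(A ⊔ B)) ∧
      3 < ENat.card ↥(⁅A.subgroupOf (A ⊔ B),
        rankOneDiagonal (A.subgroupOf (A ⊔ B)) (B.subgroupOf (A ⊔ B))⁆ : Subgroup ↥(A ⊔ B)) := by
  rcases Cfsg.Agent.S5020.result (T.rankOneGroup h.1) (T.special h) (T.abelian hA hB) with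
    ⟨h1, -⟩ | ⟨-, h2, h3⟩
  · exfalso
    have e : ENat.card ↥(A.subgroupOf (A ⊔ B)) = ENat.card ↥A :=
      ENat.card_congr (Subgroup.subgroupOfEquivOfLe (le_sup_left : A ≤ A ⊔ B)).toEquiv
    rw [e] at h1
    exact absurd hc (not_lt.2 h1)
  · exact ⟨h2, h3⟩

/-- R1q. -/
theorem R1.quasi {A B : Subgroup G} (h : IsSpecialRankOnePair A B) (hA : IsMulCommutative A)
    (hB : IsMulCommutative B) (hc : 3 < ENat.card A) :
    IsQuasisimple ↥(⁅A ⊔ B, A ⊔ B⁆ : Subgroup G) :=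
  Cfsg.Agent.Helper7.isQuasisimple_of_mulEquiv (R1.aux_equiv (A ⊔ B)) (R1.aux_alt h hA hB hc).1

/-- R1a. -/
theorem R1.exists_mem {A B : Subgroup G} (h : IsSpecialRankOnePair A B) (hA : IsMulCommutative A)
    (hB : IsMulCommutative B) (hc : 3 < ENat.card A) :
    ∃ e ∈ A, e ≠ 1 ∧ e ∈ ⁅A ⊔ B, A ⊔ B⁆ := by
  have h3 := (R1.aux_alt h hA hB hc).2
  set A' : Subgroup ↥(A ⊔ B) := A.subgroupOf (A ⊔ B) with hA'
  set H' : Subgroup ↥(A ⊔ B) := rankOneDiagonal A' (B.subgroupOf (A ⊔ B)) with hH'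
  have hnt : Nontrivial ↥(⁅A', H'⁆ : Subgroup ↥(A ⊔ B)) := by
    rw [← ENat.one_lt_card_iff_nontrivial]
    exact lt_trans (by norm_num) h3
  obtain ⟨y, hy⟩ := exists_ne (1 : ↥(⁅A', H'⁆ : Subgroup ↥(A ⊔ B)))
  have hle1 : (⁅A', H'⁆ : Subgroup ↥(A ⊔ B)) ≤ A' := by
    rw [Subgroup.commutator_le]
    intro a ha k hk
    have hkN : k ∈ Subgroup.normalizer (A' : Set ↥(A ⊔ B)) := hk.1.2
    rw [commutatorElement_def]
    have h1 : k * a⁻¹ * k⁻¹ ∈ A' := (Subgroup.mem_normalizer_iff.1 hkN a⁻¹).1 (A'.inv_mem ha)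
    have := A'.mul_mem ha h1
    simpa [mul_assoc] using this
  have hle2 : (⁅A', H'⁆ : Subgroup ↥(A ⊔ B)) ≤ commutator ↥(A ⊔ B) := by
    rw [commutator_def]
    exact Subgroup.commutator_mono le_top le_top
  refine ⟨((y : ↥(A ⊔ B)) : G), ?_, ?_, ?_⟩
  · exact Subgroup.mem_subgroupOf.1 (hle1 y.2)
  · intro he
    apply hy
    apply Subtype.ext
    apply Subtype.ext
    exact he
  · rw [← R1.aux_map]
    exact Subgroup.mem_map_of_mem _ (hle2 y.2)

/-- R1b. -/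
theorem R1.perfect {A B : Subgroup G} (h : IsSpecialRankOnePair A B) (hA : IsMulCommutative A)
    (hB : IsMulCommutative B) (hc : 3 < ENat.card A) :
    ⁅⁅A ⊔ B, A ⊔ B⁆, ⁅A ⊔ B, A ⊔ B⁆⁆ = ⁅A ⊔ B, A ⊔ B⁆ := by
  have hp : Group.IsPerfect ↥(⁅A ⊔ B, A ⊔ B⁆ : Subgroup G) := (R1.quasi h hA hB hc).1
  have h1 := R1.aux_map (⁅A ⊔ B, A ⊔ B⁆ : Subgroup G)
  rw [hp.commutator_eq_top, ← MonoidHom.range_eq_map, Subgroup.range_subtype] at h1
  exact h1.symm

/-- Conjugation-invariance in one direction gives containment in the normaliser. -/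
theorem R1.aux_le_normalizer {X Z : Subgroup G} (h : ∀ x ∈ X, ∀ y ∈ Z, x * y * x⁻¹ ∈ Z) :
    X ≤ Subgroup.normalizer (Z : Set G) := by
  intro x hx
  rw [Subgroup.mem_normalizer_iff]
  intro y
  constructor
  · exact h x hx y
  · intro hy
    have := h x⁻¹ (X.inv_mem hx) _ hy
    simpa [mul_assoc] using this

/-- An abelian subgroup `A` normalising `M`: `(M ⊔ A)' ≤ M` (own copy, to be independent of GEN). -/
theorem R1.aux_comm_sup_le {A M : Subgroup G} (hA : IsMulCommutative A)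
    (hn : A ≤ Subgroup.normalizer (M : Set G)) : ⁅M ⊔ A, M ⊔ A⁆ ≤ M := by
  rw [Subgroup.commutator_le]
  intro x hx y hy
  have hx' : x ∈ (↑(M ⊔ A) : Set G) := hx
  have hy' : y ∈ (↑(M ⊔ A) : Set G) := hy
  rw [Subgroup.coe_mul_of_right_le_normalizer_left M A hn] at hx' hy'
  obtain ⟨m, hm, a, ha, rfl⟩ := hx'
  obtain ⟨m', hm', a', ha', rfl⟩ := hy'
  have hcomm : a * a' = a' * a :=
    congrArg Subtype.val (hA.is_comm.comm (⟨a, ha⟩ : A) ⟨a', ha'⟩)
  have hc2 : a' * a⁻¹ = a⁻¹ * a' := by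
    rw [eq_inv_mul_iff_mul_eq, ← mul_assoc, hcomm, mul_assoc, mul_inv_cancel, mul_one]
  have h1 : a * m' * a⁻¹ ∈ M := (Subgroup.mem_normalizer_iff.1 (hn ha) m').1 hm'
  have h2 : a' * m⁻¹ * a'⁻¹ ∈ M :=
    (Subgroup.mem_normalizer_iff.1 (hn ha') m⁻¹).1 (M.inv_mem hm)
  have e : m * a * (m' * a') * (m * a)⁻¹ * (m' * a')⁻¹
      = m * (a * m' * a⁻¹) * (a' * m⁻¹ * a'⁻¹) * m'⁻¹ := by
    calc m * a * (m' * a') * (m * a)⁻¹ * (m' * a')⁻¹
        = m * a * m' * (a' * a⁻¹) * m⁻¹ * a'⁻¹ * m'⁻¹ := by group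
      _ = m * a * m' * (a⁻¹ * a') * m⁻¹ * a'⁻¹ * m'⁻¹ := by rw [hc2]
      _ = m * (a * m' * a⁻¹) * (a' * m⁻¹ * a'⁻¹) * m'⁻¹ := by group
  rw [commutatorElement_def, e]
  exact M.mul_mem (M.mul_mem (M.mul_mem hm h1) h2) (M.inv_mem hm')

/-- R1c. -/
theorem R1.central {A B M : Subgroup G} (h : IsSpecialRankOnePair A B) (hA : IsMulCommutative A)
    (hB : IsMulCommutative B) (hc : 3 < ENat.card A) (hM : M ≤ ⁅A ⊔ B, A ⊔ B⁆)
    (hn : ⁅A ⊔ B, A ⊔ B⁆ ≤ Subgroup.normalizer (M : Set G)) (hne : M ≠ ⁅A ⊔ B, A ⊔ B⁆) :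
    M ≤ Subgroup.centralizer ((A ⊔ B : Subgroup G) : Set G) := by
  set X : Subgroup G := A ⊔ B with hX
  set X' : Subgroup G := ⁅X, X⁆ with hX'
  have hX'X : X' ≤ X := by
    rw [hX', Subgroup.commutator_le]
    intro a ha b hb
    rw [commutatorElement_def]
    exact X.mul_mem (X.mul_mem (X.mul_mem ha hb) (X.inv_mem ha)) (X.inv_mem hb)
  have hq : IsQuasisimple ↥X' := R1.quasi h hA hB hc
  -- `M` is central in `X'`
  have hMn : (M.subgroupOf X').Normal := (Subgroup.normal_subgroupOf_iff_le_normalizer hM).2 hn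
  have hMc : M.subgroupOf X' ≤ Subgroup.center ↥X' := by
    rcases Cfsg.Agent.Helper7.IsQuasisimple.normal_eq_top_or_le_center hq (M.subgroupOf X') with
      h1 | h1
    · exfalso
      apply hne
      apply le_antisymm hM
      rw [Subgroup.subgroupOf_eq_top] at h1
      exact h1
    · exact h1
  set Z : Subgroup G := X' ⊓ Subgroup.centralizer (X' : Set G) with hZ
  have hMZ : M ≤ Z := by
    intro m hm
    refine Subgroup.mem_inf.2 ⟨hM hm, ?_⟩
    rw [Subgroup.mem_centralizer_iff]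
    intro w hw
    have hm' : (⟨m, hM hm⟩ : ↥X') ∈ M.subgroupOf X' := Subgroup.mem_subgroupOf.2 hm
    have := (Subgroup.mem_center_iff.1 (hMc hm')) ⟨w, hw⟩
    exact congrArg Subtype.val this
  have hZX : Z ≤ X := inf_le_left.trans hX'X
  have hXnX' : X ≤ Subgroup.normalizer (X' : Set G) := Subgroup.normalizer_commutator_ge_left X X
  have hXZ : X ≤ Subgroup.normalizer (Z : Set G) := by
    apply R1.aux_le_normalizer
    intro x hx y hy
    have hxn := hXnX' hx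
    obtain ⟨hy1, hy2⟩ := Subgroup.mem_inf.1 hy
    refine Subgroup.mem_inf.2 ⟨(Subgroup.mem_normalizer_iff.1 hxn y).1 hy1, ?_⟩
    rw [Subgroup.mem_centralizer_iff]
    intro w hw
    have hw' : x⁻¹ * w * x ∈ X' := by
      have := (Subgroup.mem_normalizer_iff.1 (Subgroup.inv_mem _ hxn) w).1 hw
      simpa using this
    have hyc := (Subgroup.mem_centralizer_iff.1 hy2) _ hw'
    calc w * (x * y * x⁻¹) = x * ((x⁻¹ * w * x) * y) * x⁻¹ := by group
      _ = x * (y * (x⁻¹ * w * x)) * x⁻¹ := by rw [hyc]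
      _ = x * y * x⁻¹ * w := by group
  rcases R0.dichotomy h.1 hZX hXZ with h1 | h1
  · exfalso
    have hAn : A ≤ Subgroup.normalizer (Z : Set G) := le_sup_left.trans hXZ
    have h2 := R1.aux_comm_sup_le hA hAn
    rw [h1] at h2
    -- `X' ≤ Z ≤ C(X')`, so `X'` is abelian, hence trivial
    have h3 : ⁅X', X'⁆ = ⊥ := by
      rw [Subgroup.commutator_eq_bot_iff_le_centralizer]
      exact h2.trans inf_le_right
    rw [R1.perfect h hA hB hc] at h3
    obtain ⟨e, -, he1, he⟩ := R1.exists_mem h hA hB hc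
    rw [h3, Subgroup.mem_bot] at he
    exact he1 he
  · exact hMZ.trans h1

end Cfsg.Agent.S5033P
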