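import Mathlib
import Cfsg.Prelude.Def_RootSubgroups
import Cfsg.Agent.Helper25.RankOne
import Cfsg.Agent.Helper25.RootBasic
import Cfsg.Agent.Helper25.RootComm
import Cfsg.Agent.Helper25.RootComm2
import Cfsg.Agent.Helper25.RootComm3
import Cfsg.Agent.Helper25.RootComm4

set_option autoImplicit false

/-! Lines `A B ∩ S` (for `B` a line partner of `A`) and rank one partners of `A`
(Timmesfeld II (2.13)). -/

namespace Cfsg.Agent.Helper25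

open Cfsg
open scoped commutatorElement

variable {G : Type*} [Group G] {S : Set (Subgroup G)}

section Line

set_option linter.unusedSectionVars false

variable {A B E : Subgroup G} (hS : IsRootSubgroupSet S) (hA : A ∈ S) (hE : E ∈ S)
  (hAE : IsRankOnePair A E) (hB : B ∈ linePartners S A)

include hS hA hE hAE hB

theorem line_inf : A ⊓ B = ⊥ := by
  rcases root_inf_eq_bot_or_eq hS hE hAE hB.1.1 with h | h
  · exact h
  · exact absurd h.symm hB.1.2.1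

theorem line_comm : ∀ x ∈ A ⊔ B, ∀ y ∈ A ⊔ B, x * y = y * x := by
  have hAB : ∀ a ∈ A, ∀ b ∈ B, a * b = b * a := root_commutator_eq_bot_iff.mp hB.1.2.2
  intro x hx y hy
  obtain ⟨a, ha, b, hb, rfl⟩ := mem_sup_of_commute hAB hx
  obtain ⟨a', ha', b', hb', rfl⟩ := mem_sup_of_commute hAB hy
  have e1 := root_comm_of_mem hS hA ha ha'
  have e2 := root_comm_of_mem hS hB.1.1 hb hb'
  have e3 := hAB a' ha' b hb
  have e4 := hAB a ha b' hb'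
  calc a * b * (a' * b') = a * (b * a') * b' := by group
    _ = a * (a' * b) * b' := by rw [e3]
    _ = (a * a') * (b * b') := by group
    _ = (a' * a) * (b' * b) := by rw [e1, e2]
    _ = a' * (a * b') * b := by group
    _ = a' * (b' * a) * b := by rw [e4]
    _ = a' * b' * (a * b) := by group

theorem line_member_inf {T : Subgroup G} (hT : T ∈ membersIn S (A ⊔ B)) (hTA : T ≠ A) :
    A ⊓ T = ⊥ := by
  rcases root_inf_eq_bot_or_eq hS hE hAE hT.1 with h | h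
  · exact h
  · exact absurd h.symm hTA

theorem line_root {T : Subgroup G} (hT : T ∈ membersIn S (A ⊔ B)) (hTA : T ≠ A) :
    ∀ a ∈ A, ∀ t ∈ T, a ≠ 1 → t ≠ 1 → a * t ∈ rootElements S := by
  intro a ha t ht _ ht1
  have hne : a * t ≠ 1 := by
    intro h
    have h1 : t = a⁻¹ := eq_inv_of_mul_eq_one_right h
    have : t ∈ A ⊓ T := Subgroup.mem_inf.mpr ⟨by rw [h1]; exact A.inv_mem ha, ht⟩
    rw [line_member_inf hS hA hE hAE hB hT hTA] at this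
    exact ht1 this
  obtain ⟨C, hC, hxC⟩ := hB.2.2.1 (a * t)
    (Subgroup.mul_mem _ (Subgroup.mem_sup_left ha) (hT.2 ht)) hne
  exact ⟨hne, C, hC.1, hxC⟩

/-- A member of the line other than `A` does not commute with a rank one partner of `A`. -/
theorem line_not_commute {T : Subgroup G} (hT : T ∈ membersIn S (A ⊔ B)) (hTA : T ≠ A) :
    ⁅E, T⁆ ≠ ⊥ := by
  intro h
  rw [root_commutator_eq_bot_iff] at h
  obtain ⟨t, ht, ht1⟩ := root_exists_ne_one hS hT.1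
  obtain ⟨a, ha, ha1⟩ := rankOne_exists_ne_one hAE
  have hcomm := line_comm hS hA hE hAE hB
  have hz : t ∈ Subgroup.centralizer ((A ⊔ E : Subgroup G) : Set G) :=
    mem_centralizer_sup (fun a ha => hcomm t (hT.2 ht) a (Subgroup.mem_sup_left ha))
      (fun e he => (h e he t ht).symm)
  apply root_central_mul_not_root hS hE hAE hz ht1 ha ha1
  rw [hcomm t (hT.2 ht) a (Subgroup.mem_sup_left ha)]
  exact line_root hS hA hE hAE hB hT hTA a ha t ht ha1 ht1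

/-- Some member of the line `A B ∩ S` is a commutator partner of `E`. -/
theorem line_exists_cc : ∃ T ∈ membersIn S (A ⊔ B), T ≠ A ∧ RootCommutatorCase S E T := by
  by_contra hcon
  push Not at hcon
  have key : ∀ T ∈ membersIn S (A ⊔ B), T ≠ A → IsRankOnePair E T := by
    intro T hT hTA
    rcases hS.pair E hE T hT.1 with h | h | h
    · exact absurd h (line_not_commute hS hA hE hAE hB hT hTA)
    · exact h
    · exact absurd h (hcon T hT hTA)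
  have hBmem : B ∈ membersIn S (A ⊔ B) := ⟨hB.1.1, le_sup_right⟩
  have hEB := key B hBmem hB.1.2.1
  obtain ⟨a, ha, ha1⟩ := rankOne_exists_ne_one hAE
  obtain ⟨e, he, he1, hae⟩ := hAE.cond_left a ha ha1
  obtain ⟨b, hb, hb1, hbe⟩ := hEB.cond_left e he he1
  have hinf := line_inf hS hA hE hAE hB
  have hbA : b ∉ A := by
    intro h
    have : b ∈ A ⊓ B := Subgroup.mem_inf.mpr ⟨h, hb⟩
    rw [hinf] at this
    exact hb1 this
  have htA : a * b⁻¹ ∉ A := by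
    intro h
    apply hbA
    have : b = (a * b⁻¹)⁻¹ * a := by group
    rw [this]; exact A.mul_mem (A.inv_mem h) ha
  have ht1 : a * b⁻¹ ≠ 1 := by
    intro h
    apply htA; rw [h]; exact A.one_mem
  have htmem : a * b⁻¹ ∈ A ⊔ B :=
    Subgroup.mul_mem _ (Subgroup.mem_sup_left ha) (Subgroup.mem_sup_right (B.inv_mem hb))
  obtain ⟨T', hT', htT'⟩ := hB.2.2.1 _ htmem ht1
  have hT'A : T' ≠ A := by
    rintro rfl
    exact htA htT'
  have hET' := key T' hT' hT'A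
  have hAB : ∀ a ∈ A, ∀ b ∈ B, a * b = b * a := root_commutator_eq_bot_iff.mp hB.1.2.2
  -- `conjBy E (a b⁻¹)` commutes with `E`
  have h1 : conjBy E (a * b⁻¹) = conjBy (conjBy B e⁻¹) a := by
    rw [← hbe, conjBy_conjBy]
  have h2 : E = conjBy (conjBy A e⁻¹) a := by
    rw [hae, conjBy_conjBy, mul_inv_cancel, conjBy_one]
  have hcomm : ∀ x ∈ conjBy E (a * b⁻¹), ∀ y ∈ E, x * y = y * x := by
    intro x hx y hy
    rw [h1, conjBy_conjBy, mem_conjBy_iff] at hx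
    rw [h2, conjBy_conjBy, mem_conjBy_iff] at hy
    have := hAB _ hy _ hx
    have ex : x = (a * e⁻¹) * ((a * e⁻¹)⁻¹ * x * (a * e⁻¹)) * (a * e⁻¹)⁻¹ := by group
    have ey : y = (a * e⁻¹) * ((a * e⁻¹)⁻¹ * y * (a * e⁻¹)) * (a * e⁻¹)⁻¹ := by group
    calc x * y = (a * e⁻¹) * (((a * e⁻¹)⁻¹ * x * (a * e⁻¹)) * ((a * e⁻¹)⁻¹ * y * (a * e⁻¹))) *
          (a * e⁻¹)⁻¹ := by group
      _ = (a * e⁻¹) * (((a * e⁻¹)⁻¹ * y * (a * e⁻¹)) * ((a * e⁻¹)⁻¹ * x * (a * e⁻¹))) *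
          (a * e⁻¹)⁻¹ := by rw [this]
      _ = y * x := by group
  have hmem : conjBy E (a * b⁻¹) ∈ unipotentSubgroups E T' :=
    ⟨a * b⁻¹, Subgroup.mem_sup_right htT', rfl⟩
  have hne : conjBy E (a * b⁻¹) ≠ E := fun h =>
    ht1 (rankOne_eq_one_of_normalizes (RankOnePair_symm hET') htT' (conjBy_eq_self_iff.mp h))
  exact rankOne_unipotent_not_commute hET' hmem (rankOne_left_mem_unipotent _ _) hne hcomm

theorem line_data {T K : Subgroup G} (hT : T ∈ membersIn S (A ⊔ B)) (hTA : T ≠ A)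
    (hc : RootCommutatorCase S E T) (hK : K ∈ S) (hTK : IsRankOnePair T K) :
    RootCommutatorCase S A ⁅E, T⁆ ∧ ⁅A, ⁅E, T⁆⁆ = T ∧ A ⊔ T = A ⊔ B := by
  have hcomm := line_comm hS hA hE hAE hB
  have hcommAT : ∀ a ∈ A, ∀ t ∈ T, a * t = t * a := fun a ha t ht =>
    hcomm a (Subgroup.mem_sup_left ha) t (hT.2 ht)
  have hroot := line_root hS hA hE hAE hB hT hTA
  have hnr : ¬ IsRankOnePair E T := root_not_rankOne_of_commutator_mem hS hE hc.1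
  have hc2 := ml_cc2 hS hA hE hAE hT.1 hcommAT hroot hnr
  have heq := ml_eq hS hA hE hAE hT.1 hK hTK hcommAT hroot hnr
  refine ⟨hc2, heq, le_antisymm (sup_le le_sup_left hT.2) (sup_le le_sup_left ?_)⟩
  have hp := cc_partition hS hA hc2 hE hAE
  rw [heq] at hp
  have hAB : ∀ a ∈ A, ∀ b ∈ B, a * b = b * a := root_commutator_eq_bot_iff.mp hB.1.2.2
  obtain ⟨t, ht, ht1⟩ := root_exists_ne_one hS hT.1
  obtain ⟨a₀, ha₀, b₀, hb₀, rfl⟩ := mem_sup_of_commute hAB (hT.2 ht)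
  have hb₀1 : b₀ ≠ 1 := by
    rintro rfl
    rw [mul_one] at ht ht1
    have : a₀ ∈ A ⊓ T := Subgroup.mem_inf.mpr ⟨ha₀, ht⟩
    rw [line_member_inf hS hA hE hAE hB hT hTA] at this
    exact ht1 this
  have hb₀mem : b₀ ∈ A ⊔ T := by
    have : b₀ = a₀⁻¹ * (a₀ * b₀) := by group
    rw [this]
    exact Subgroup.mul_mem _ (Subgroup.mem_sup_left (A.inv_mem ha₀)) (Subgroup.mem_sup_right ht)
  obtain ⟨T'', hT'', hbT''⟩ := hp.2.1 b₀ hb₀mem hb₀1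
  have hT''mem : T'' ∈ membersIn S (A ⊔ B) := ⟨hT''.1, hT''.2.trans (sup_le le_sup_left hT.2)⟩
  have hBmem : B ∈ membersIn S (A ⊔ B) := ⟨hB.1.1, le_sup_right⟩
  by_cases hne : T'' = B
  · rw [← hne]; exact hT''.2
  · exfalso
    have := hB.2.2.2 T'' hT''mem B hBmem hne
    have h1 : b₀ ∈ T'' ⊓ B := Subgroup.mem_inf.mpr ⟨hbT'', hb₀⟩
    rw [this] at h1
    exact hb₀1 h1

/-- A root subgroup normalizing the line, fixing one member and transitive on the others. -/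
theorem line_stab (hF : ∀ A ∈ S, ∃ E ∈ S, IsRankOnePair A E) :
    ∃ T ∈ membersIn S (A ⊔ B), T ≠ A ∧ A ⊔ T = A ⊔ B ∧ ¬ IsRankOnePair E T ∧
      ∃ D ∈ normalizingMembers S (A ⊔ B), (∀ d ∈ D, conjBy T d = T) ∧
        ∀ C ∈ membersIn S (A ⊔ B), C ≠ T → ∀ C' ∈ membersIn S (A ⊔ B), C' ≠ T →
          ∃ d ∈ D, conjBy C d = C' := by
  obtain ⟨T, hT, hTA, hc⟩ := line_exists_cc hS hA hE hAE hB
  obtain ⟨K, hK, hTK⟩ := hF T hT.1
  obtain ⟨hc2, heq, hsup⟩ := line_data hS hA hE hAE hB hT hTA hc hK hTK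
  have hnr : ¬ IsRankOnePair E T := root_not_rankOne_of_commutator_mem hS hE hc.1
  have hmem := cc_members hS hA hc2 hE hAE
  rw [heq, hsup] at hmem
  have hfix : ∀ d ∈ ⁅E, T⁆, conjBy T d = T := by
    intro d hd
    apply conjBy_eq_self_of_commute
    intro x hx
    have hx' : x ∈ ⁅A, ⁅E, T⁆⁆ := by rw [heq]; exact hx
    exact cc_central_right hc2 hd hx'
  have hnorm : ⁅E, T⁆ ≤ Subgroup.normalizer ((A ⊔ B : Subgroup G) : Set G) := by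
    have hfw : ∀ d ∈ ⁅E, T⁆, ∀ x ∈ A ⊔ B, d * x * d⁻¹ ∈ A ⊔ B := by
      intro d hd x hx
      rw [← hsup] at hx ⊢
      have hAT : ∀ a ∈ A, ∀ t ∈ T, a * t = t * a := fun a ha t ht =>
        line_comm hS hA hE hAE hB a (Subgroup.mem_sup_left ha) t (hT.2 ht)
      obtain ⟨a, ha, t, ht, rfl⟩ := mem_sup_of_commute hAT hx
      have h1 : d * a * d⁻¹ ∈ A ⊔ T := by
        have := cc_conjBy_le (A := A) (B := ⁅E, T⁆) hd (conj_mem_conjBy ha)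
        rwa [heq] at this
      have h2 : d * t * d⁻¹ = t := by
        have ht' : t ∈ ⁅A, ⁅E, T⁆⁆ := by rw [heq]; exact ht
        have := cc_central_right hc2 hd ht'
        rw [this]; group
      have : d * (a * t) * d⁻¹ = (d * a * d⁻¹) * (d * t * d⁻¹) := by group
      rw [this, h2]
      exact Subgroup.mul_mem _ h1 (Subgroup.mem_sup_right ht)
    intro d hd
    rw [Subgroup.mem_normalizer_iff]
    intro x
    constructor
    · exact hfw d hd x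
    · intro hx
      have := hfw d⁻¹ (Subgroup.inv_mem _ hd) _ hx
      have e : d⁻¹ * (d * x * d⁻¹) * d⁻¹⁻¹ = x := by group
      rwa [e] at this
  refine ⟨T, hT, hTA, hsup, hnr, ⁅E, T⁆, ⟨hc.1, hnorm⟩, hfix, ?_⟩
  intro C hC hCT C' hC' hC'T
  rw [hmem] at hC hC'
  rcases hC with ⟨d₁, hd₁, rfl⟩ | hC
  swap
  · exact absurd hC hCT
  rcases hC' with ⟨d₂, hd₂, rfl⟩ | hC'
  swap
  · exact absurd hC' hC'T
  refine ⟨d₂ * d₁⁻¹, Subgroup.mul_mem _ hd₂ (Subgroup.inv_mem _ hd₁), ?_⟩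
  show conjBy (conjBy A d₁) (d₂ * d₁⁻¹) = conjBy A d₂
  rw [conjBy_conjBy, inv_mul_cancel_right]

end Line

/-- Abstract two-transitivity from two point stabilizers. -/
theorem two_trans_of_stabs {Ω : Set (Subgroup G)} {K D₁ D₂ : Subgroup G} {T₁ T₂ T₃ : Subgroup G}
    (hK : ∀ x ∈ K, ∀ C ∈ Ω, conjBy C x ∈ Ω) (hD₁ : D₁ ≤ K) (hD₂ : D₂ ≤ K)
    (hT₁ : T₁ ∈ Ω) (hT₂ : T₂ ∈ Ω) (hT₃ : T₃ ∈ Ω) (h12 : T₁ ≠ T₂) (h31 : T₃ ≠ T₁) (h32 : T₃ ≠ T₂)
    (hfix₁ : ∀ d ∈ D₁, conjBy T₁ d = T₁)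
    (htr₁ : ∀ C ∈ Ω, C ≠ T₁ → ∀ C' ∈ Ω, C' ≠ T₁ → ∃ d ∈ D₁, conjBy C d = C')
    (htr₂ : ∀ C ∈ Ω, C ≠ T₂ → ∀ C' ∈ Ω, C' ≠ T₂ → ∃ d ∈ D₂, conjBy C d = C') :
    ∀ C₁ ∈ Ω, ∀ C₂ ∈ Ω, ∀ E₁ ∈ Ω, ∀ E₂ ∈ Ω, C₁ ≠ C₂ → E₁ ≠ E₂ →
      ∃ x ∈ K, conjBy C₁ x = E₁ ∧ conjBy C₂ x = E₂ := by
  have stepa : ∀ C ∈ Ω, ∃ x ∈ K, conjBy C x = T₁ := by
    intro C hC
    by_cases h1 : C = T₁
    · exact ⟨1, K.one_mem, by rw [conjBy_one, h1]⟩
    by_cases h2 : C = T₂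
    · obtain ⟨d₁, hd₁, e₁⟩ := htr₁ T₂ hT₂ h12.symm T₃ hT₃ h31
      obtain ⟨d₂, hd₂, e₂⟩ := htr₂ T₃ hT₃ h32 T₁ hT₁ h12
      refine ⟨d₂ * d₁, K.mul_mem (hD₂ hd₂) (hD₁ hd₁), ?_⟩
      rw [h2, ← conjBy_conjBy, e₁, e₂]
    · obtain ⟨d₂, hd₂, e₂⟩ := htr₂ C hC h2 T₁ hT₁ h12
      exact ⟨d₂, hD₂ hd₂, e₂⟩
  intro C₁ hC₁ C₂ hC₂ E₁ hE₁ E₂ hE₂ hC hE
  obtain ⟨x₁, hx₁, ex₁⟩ := stepa C₁ hC₁
  obtain ⟨y₁, hy₁, ey₁⟩ := stepa E₁ hE₁
  have hC₂' : conjBy C₂ x₁ ≠ T₁ := by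
    intro h
    apply hC
    exact conjBy_injective x₁ (ex₁.trans h.symm)
  have hE₂' : conjBy E₂ y₁ ≠ T₁ := by
    intro h
    apply hE
    exact conjBy_injective y₁ (ey₁.trans h.symm)
  obtain ⟨k, hk, ek⟩ := htr₁ _ (hK x₁ hx₁ C₂ hC₂) hC₂' _ (hK y₁ hy₁ E₂ hE₂) hE₂'
  refine ⟨y₁⁻¹ * k * x₁, K.mul_mem (K.mul_mem (K.inv_mem hy₁) (hD₁ hk)) hx₁, ?_, ?_⟩
  · rw [← conjBy_conjBy, ex₁, ← conjBy_conjBy, hfix₁ k hk]
    rw [conjBy_eq_iff] at ey₁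
    exact ey₁.symm
  · rw [← conjBy_conjBy, ← conjBy_conjBy, ek, conjBy_conjBy, inv_mul_cancel, conjBy_one]

end Cfsg.Agent.Helper25
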