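import Mathlib
import Cfsg.Prelude.Def_RootSubgroups
import Cfsg.Agent.Helper25.RankOne
import Cfsg.Agent.Helper25.RootBasic
import Cfsg.Agent.Helper25.RootComm
import Cfsg.Agent.Helper25.RootComm2
import Cfsg.Agent.Helper25.RootComm3
import Cfsg.Agent.Helper25.RootComm4
import Cfsg.Agent.Helper25.RootComm5
import Cfsg.Agent.Helper25.RootLine

set_option autoImplicit false

/-! Connectedness of the line graph and the commuting graph of a non-degenerate class of abstract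
root subgroups (Timmesfeld II (2.17)). -/

namespace Cfsg.Agent.Helper25

open Cfsg
open scoped commutatorElement

variable {G : Type*} [Group G] {S : Set (Subgroup G)}

theorem conjBy_eq_bot_iff {X : Subgroup G} {g : G} : conjBy X g = ⊥ ↔ X = ⊥ := by
  constructor
  · intro h
    rw [eq_bot_iff]
    intro x hx
    have h1 : g * x * g⁻¹ ∈ conjBy X g := conj_mem_conjBy hx
    rw [h, Subgroup.mem_bot] at h1
    rw [Subgroup.mem_bot]
    have : x = g⁻¹ * (g * x * g⁻¹) * g := by group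
    rw [this, h1]; group
  · rintro rfl
    exact Subgroup.map_bot _

theorem linePartners_symm {A B : Subgroup G} (hA : A ∈ S) (hB : B ∈ linePartners S A) :
    A ∈ linePartners S B := by
  refine ⟨⟨hA, hB.1.2.1.symm, ?_⟩, ?_⟩
  · rw [Subgroup.commutator_comm]; exact hB.1.2.2
  · rw [sup_comm]; exact hB.2

theorem linePartners_conj (hS : IsRootSubgroupSet S) {A B : Subgroup G}
    (hB : B ∈ linePartners S A) (g : G) : conjBy B g ∈ linePartners S (conjBy A g) := by
  have hsup : conjBy A g ⊔ conjBy B g = conjBy (A ⊔ B) g := (Subgroup.map_sup A B _).symm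
  refine ⟨⟨hS.conj_mem B hB.1.1 g, fun h => hB.1.2.1 (conjBy_injective g h), ?_⟩, ?_⟩
  · have : ⁅conjBy A g, conjBy B g⁆ = conjBy ⁅A, B⁆ g := (Subgroup.map_commutator A B _).symm
    rw [this, hB.1.2.2]
    exact Subgroup.map_bot _
  · rw [hsup]
    have hback : ∀ T ∈ membersIn S (conjBy (A ⊔ B) g), conjBy T g⁻¹ ∈ membersIn S (A ⊔ B) := by
      intro T hT
      refine ⟨hS.conj_mem T hT.1 g⁻¹, ?_⟩
      have := conjBy_mono hT.2 g⁻¹
      rwa [conjBy_conjBy, inv_mul_cancel, conjBy_one] at this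
    refine ⟨fun T hT => hT.2, ?_, ?_⟩
    · intro x hx hx1
      rw [mem_conjBy_iff] at hx
      have hx1' : g⁻¹ * x * g ≠ 1 := by
        intro h
        apply hx1
        have : x = g * (g⁻¹ * x * g) * g⁻¹ := by group
        rw [this, h]; group
      obtain ⟨C, hC, hxC⟩ := hB.2.2.1 _ hx hx1'
      refine ⟨conjBy C g, ⟨hS.conj_mem C hC.1 g, conjBy_mono hC.2 g⟩, ?_⟩
      rw [mem_conjBy_iff]; exact hxC
    · intro T₁ hT₁ T₂ hT₂ hne
      have h1 := hB.2.2.2 _ (hback T₁ hT₁) _ (hback T₂ hT₂)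
        (fun h => hne (conjBy_injective g⁻¹ h))
      rw [← conjBy_inf, conjBy_eq_bot_iff] at h1
      exact h1

/-- A rank one pair `(A, B)` is joined in the line graph, provided `A` has a line partner and all
members have rank one partners. -/
theorem root_rankOne_econn (hS : IsRootSubgroupSet S)
    (hF : ∀ A ∈ S, ∃ E ∈ S, IsRankOnePair A E) {A B C₁ : Subgroup G} (hA : A ∈ S) (hB : B ∈ S)
    (hAB : IsRankOnePair A B) (hC₁ : C₁ ∈ linePartners S A) :
    Relation.ReflTransGen (EAdj S S) A B := by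
  obtain ⟨T, hT, hTA, hc⟩ := line_exists_cc hS hA hB hAB hC₁
  obtain ⟨K, hK, hTK⟩ := hF T hT.1
  obtain ⟨-, -, hsup⟩ := line_data hS hA hB hAB hC₁ hT hTA hc hK hTK
  have hcomm := line_comm hS hA hB hAB hC₁
  have hTΛ : T ∈ linePartners S A := by
    refine ⟨⟨hT.1, hTA, ?_⟩, ?_⟩
    · rw [root_commutator_eq_bot_iff]
      intro x hx y hy
      exact hcomm x (Subgroup.mem_sup_left hx) y (hT.2 hy)
    · rw [hsup]; exact hC₁.2
  have hBΛ : B ∈ linePartners S ⁅B, T⁆ := cc_linePartner hS hB hc hA (RankOnePair_symm hAB)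
  have hTΛ' : T ∈ linePartners S ⁅B, T⁆ := by
    have := cc_linePartner hS hT.1 (rootCommutatorCase_symm hc) hK hTK
    rwa [Subgroup.commutator_comm] at this
  have hDΛ : ⁅B, T⁆ ∈ linePartners S T := linePartners_symm hc.1 hTΛ'
  exact Relation.ReflTransGen.head ⟨hA, hT.1, hTΛ⟩
    (Relation.ReflTransGen.head ⟨hT.1, hc.1, hDΛ⟩
      (Relation.ReflTransGen.single ⟨hc.1, hB, hBΛ⟩))

/-- Timmesfeld II (2.17). -/
theorem root_econn (hS : IsRootSubgroupClass S) (hnd : IsNondegenerateRootSet S) :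
    IsConnectedFamily (EAdj S S) S ∧ IsConnectedFamily (DAdj S) S := by
  obtain ⟨hS, -, hconj⟩ := hS
  obtain ⟨-, ⟨A₁, hA₁, B₁, hB₁, hAB₁⟩, ⟨A₀, hA₀, B₀, hB₀, hc₀⟩⟩ := hnd
  have hF : ∀ A ∈ S, ∃ E ∈ S, IsRankOnePair A E := by
    intro A hA
    obtain ⟨g, rfl⟩ := hconj A₁ hA₁ A hA
    exact ⟨conjBy B₁ g, hS.conj_mem B₁ hB₁ g, rankOnePair_conjBy hAB₁ g⟩
  -- every member has a line partner
  have hΛ : ∀ A ∈ S, ∃ C ∈ S, C ∈ linePartners S A := by
    intro A hA
    obtain ⟨E₀, hE₀, hAE₀⟩ := hF A₀ hA₀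
    have h0 : A₀ ∈ linePartners S ⁅A₀, B₀⁆ := cc_linePartner hS hA₀ hc₀ hE₀ hAE₀
    obtain ⟨g, rfl⟩ := hconj _ hc₀.1 A hA
    exact ⟨conjBy A₀ g, hS.conj_mem A₀ hA₀ g, linePartners_conj hS h0 g⟩
  have hE : IsConnectedFamily (EAdj S S) S := by
    intro A hA B hB
    obtain ⟨g, rfl⟩ := hconj A hA B hB
    have hreach := root_reach_conj hS hF hA g
    have key : ∀ X Y : Subgroup G, Relation.ReflTransGen (FAdj S) X Y →
        Relation.ReflTransGen (EAdj S S) X Y := by
      intro X Y h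
      induction h with
      | refl => exact Relation.ReflTransGen.refl
      | @tail Y Z _ hYZ ih =>
        obtain ⟨C₁, -, hC₁⟩ := hΛ Y hYZ.1
        exact ih.trans (root_rankOne_econn hS hF hYZ.1 hYZ.2.1 hYZ.2.2 hC₁)
    exact key _ _ hreach
  refine ⟨hE, ?_⟩
  intro A hA B hB
  have hle : EAdj S S ≤ DAdj S := fun X Y h => ⟨h.1, h.2.1, h.2.2.1.2.1.symm, h.2.2.1.2.2⟩
  exact Relation.ReflTransGen.mono hle A B (hE A hA B hB)

end Cfsg.Agent.Helper25
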