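import Mathlib
import Cfsg.Prelude.Def_RootSubgroups
import Cfsg.Agent.Helper25.RankOne
import Cfsg.Agent.Helper25.RootBasic
import Cfsg.Agent.Helper25.RootComm
import Cfsg.Agent.Helper25.RootComm2
import Cfsg.Agent.Helper25.RootComm3

set_option autoImplicit false

/-! Opposite commutator partners generate a rank one group (Timmesfeld II (2.11)), part 1. -/

namespace Cfsg.Agent.Helper25

open Cfsg
open scoped commutatorElement

variable {G : Type*} [Group G] {S : Set (Subgroup G)}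

section Opp

set_option linter.unusedSectionVars false

variable {A B D : Subgroup G} (hS : IsRootSubgroupSet S) (hA : A ∈ S) (hB : B ∈ S)
  (hC : ⁅A, B⁆ ∈ S) (hD : D ∈ S) (hDC : ⁅D, ⁅A, B⁆⁆ = A)

include hS hA hB hC hD hDC

theorem opp_cc1 : RootCommutatorCase S A B := root_commutatorCase_of_mem hS hA hB hC

theorem opp_cc2 : RootCommutatorCase S D ⁅A, B⁆ :=
  root_commutatorCase_of_mem hS hD hC (by rw [hDC]; exact hA)

theorem opp_comm_DA : ∀ d ∈ D, ∀ a ∈ A, d * a = a * d := by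
  intro d hd a ha
  have hc₂ := opp_cc2 hS hA hB hC hD hDC
  have ha' : a ∈ ⁅D, ⁅A, B⁆⁆ := by rw [hDC]; exact ha
  exact (hc₂.2.1 a ha' d (Subgroup.mem_sup_left hd)).symm

theorem opp_comm_mem {d c : G} (hd : d ∈ D) (hc : c ∈ ⁅A, B⁆) : d * c * d⁻¹ * c⁻¹ ∈ A := by
  have := cc_comm_mem (A := D) (B := ⁅A, B⁆) hd hc
  rwa [hDC] at this

theorem opp_rankOne : IsRankOnePair B D := by
  have hc₁ := opp_cc1 hS hA hB hC hD hDC
  have hc₂ := opp_cc2 hS hA hB hC hD hDC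
  have hDA := opp_comm_DA hS hA hB hC hD hDC
  rcases hS.pair B hB D hD with h | h | h
  · -- `B` and `D` commute
    exfalso
    rw [root_commutator_eq_bot_iff] at h
    apply hS.ne_bot A hA
    rw [← hDC, root_commutator_eq_bot_iff]
    intro d hd c hc
    have hle : A ⊔ B ≤ Subgroup.centralizer ({d} : Set G) := by
      refine sup_le ?_ ?_
      · intro a ha
        rw [Subgroup.mem_centralizer_iff]
        intro y hy
        rw [Set.mem_singleton_iff] at hy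
        rw [hy]; exact hDA d hd a ha
      · intro b hb
        rw [Subgroup.mem_centralizer_iff]
        intro y hy
        rw [Set.mem_singleton_iff] at hy
        rw [hy]; exact (h b hb d hd).symm
    have := hle (Subgroup.commutator_le_sup A B hc)
    rw [Subgroup.mem_centralizer_iff] at this
    exact this d rfl
  · exact h
  · -- commutator case: impossible
    exfalso
    obtain ⟨b, hb, hb1⟩ := root_exists_ne_one hS hB
    obtain ⟨d, hd, hd1⟩ := root_exists_ne_one hS hD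
    have hbinv1 : b⁻¹ ≠ 1 := fun h1 => hb1 (inv_eq_one.mp h1)
    have hcomm := root_commutatorCase_conj_commute hS hD h hb
    -- key: `[d, [b, [d, [b⁻¹, a]]]] = 1` for all `a ∈ A`
    have key : ∀ a ∈ A, ∀ d' ∈ D,
        d' * (b * (d * (b⁻¹ * a * b * a⁻¹) * d⁻¹ * (b⁻¹ * a * b * a⁻¹)⁻¹) * b⁻¹ *
          (d * (b⁻¹ * a * b * a⁻¹) * d⁻¹ * (b⁻¹ * a * b * a⁻¹)⁻¹)⁻¹) =
        (b * (d * (b⁻¹ * a * b * a⁻¹) * d⁻¹ * (b⁻¹ * a * b * a⁻¹)⁻¹) * b⁻¹ *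
          (d * (b⁻¹ * a * b * a⁻¹) * d⁻¹ * (b⁻¹ * a * b * a⁻¹)⁻¹)⁻¹) * d' := by
      intro a ha d' hd'
      have hc₁m : b⁻¹ * a * b * a⁻¹ ∈ ⁅A, B⁆ := by
        have := cc_comm_mem' (A := A) (B := B) ha (B.inv_mem hb)
        simpa using this
      have hc₃m : b * a * b⁻¹ * a⁻¹ ∈ ⁅A, B⁆ := cc_comm_mem' ha hb
      have ha₁m := opp_comm_mem hS hA hB hC hD hDC hd hc₁m
      obtain ⟨c₁, hc₁e, hc₁m⟩ : ∃ c₁, c₁ = b⁻¹ * a * b * a⁻¹ ∧ c₁ ∈ ⁅A, B⁆ := ⟨_, rfl, hc₁m⟩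
      rw [← hc₁e] at ha₁m ⊢
      obtain ⟨c₃, hc₃e, hc₃m⟩ : ∃ c₃, c₃ = b * a * b⁻¹ * a⁻¹ ∧ c₃ ∈ ⁅A, B⁆ := ⟨_, rfl, hc₃m⟩
      have hc₂m : b * (d * c₁ * d⁻¹ * c₁⁻¹) * b⁻¹ * (d * c₁ * d⁻¹ * c₁⁻¹)⁻¹ ∈ ⁅A, B⁆ :=
        cc_comm_mem' ha₁m hb
      obtain ⟨a₁, ha₁e, ha₁m⟩ : ∃ a₁, a₁ = d * c₁ * d⁻¹ * c₁⁻¹ ∧ a₁ ∈ A := ⟨_, rfl, ha₁m⟩
      rw [← ha₁e] at hc₂m ⊢
      obtain ⟨c₂, hc₂e, hc₂m⟩ : ∃ c₂, c₂ = b * a₁ * b⁻¹ * a₁⁻¹ ∧ c₂ ∈ ⁅A, B⁆ := ⟨_, rfl, hc₂m⟩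
      rw [← hc₂e]
      -- `c₁ c₃ = 1`
      have h13 : c₁ * c₃ = 1 := by
        have e1 : b * c₁ = c₁ * b := cc_central_right hc₁ hb hc₁m
        have : c₁ * c₃ = c₁ * b * a * b⁻¹ * a⁻¹ := by rw [hc₃e]; group
        rw [this, ← e1, hc₁e]; group
      -- `y = (b d b⁻¹) a (b d b⁻¹)⁻¹ = c₂ * a₁ * a`
      have hy : (b * d * b⁻¹) * a * (b * d * b⁻¹)⁻¹ = c₂ * a₁ * a := by
        have e1 : (b * d * b⁻¹) * a * (b * d * b⁻¹)⁻¹ = b * (d * (c₁ * a) * d⁻¹) * b⁻¹ := by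
          rw [hc₁e]; group
        have e2 : d * (c₁ * a) * d⁻¹ = a₁ * c₁ * a := by
          have e3 := hDA d⁻¹ (D.inv_mem hd) a ha
          have : d * (c₁ * a) * d⁻¹ = d * c₁ * (d⁻¹ * a) := by
            rw [e3]; group
          rw [this, ha₁e]; group
        have e4 : b * (a₁ * c₁ * a) * b⁻¹ = c₂ * a₁ * c₁ * (c₃ * a) := by
          have e5 : b * c₁ = c₁ * b := cc_central_right hc₁ hb hc₁m
          have : b * (a₁ * c₁ * a) * b⁻¹ = b * a₁ * (b⁻¹ * (b * c₁)) * a * b⁻¹ := by group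
          rw [this, e5, hc₂e, hc₃e]; group
        have e6 : c₁ * (c₃ * a) = a := by rw [← mul_assoc, h13, one_mul]
        rw [e1, e2, e4, mul_assoc (c₂ * a₁), e6]
      -- `d'` commutes with `y`
      have hyd : d' * (c₂ * a₁ * a) = (c₂ * a₁ * a) * d' := by
        rw [← hy]
        have h1 := hcomm (b * d * b⁻¹) (conj_mem_conjBy hd) d' hd'
        have h2 := hDA d' hd' a ha
        have h1' : d' * (b * d * b⁻¹)⁻¹ = (b * d * b⁻¹)⁻¹ * d' := by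
          rw [eq_inv_mul_iff_mul_eq, ← mul_assoc, h1, mul_assoc, mul_inv_cancel, mul_one]
        calc d' * (b * d * b⁻¹ * a * (b * d * b⁻¹)⁻¹)
            = (d' * (b * d * b⁻¹)) * a * (b * d * b⁻¹)⁻¹ := by group
          _ = (b * d * b⁻¹) * (d' * a) * (b * d * b⁻¹)⁻¹ := by rw [← h1]; group
          _ = (b * d * b⁻¹) * a * (d' * (b * d * b⁻¹)⁻¹) := by rw [h2]; group
          _ = _ := by rw [h1']; group
      have h3 := hDA d' hd' (a₁ * a) (A.mul_mem ha₁m ha)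
      have h4 : c₂ * a₁ * a = (a₁ * a) * c₂ := by
        rw [mul_assoc]; exact (cc_central_left hc₁ (A.mul_mem ha₁m ha) hc₂m).symm
      have h5 : (a₁ * a) * (d' * c₂) = (a₁ * a) * (c₂ * d') := by
        calc (a₁ * a) * (d' * c₂) = (d' * (a₁ * a)) * c₂ := by rw [h3]; group
          _ = d' * ((a₁ * a) * c₂) := by group
          _ = d' * (c₂ * a₁ * a) := by rw [h4]
          _ = (c₂ * a₁ * a) * d' := hyd
          _ = (a₁ * a) * c₂ * d' := by rw [h4]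
          _ = (a₁ * a) * (c₂ * d') := by group
      exact mul_left_cancel h5
    -- surjectivity chain
    apply hS.ne_bot A hA
    rw [eq_bot_iff]
    intro x hx
    rw [Subgroup.mem_bot]
    have hx' : x ∈ ⁅D, ⁅A, B⁆⁆ := by rw [hDC]; exact hx
    obtain ⟨c₂, hc₂m, hx2⟩ := cc_exists_right hc₂ hd hd1 hx'
    obtain ⟨a₁, ha₁m, hx3⟩ := cc_exists_left hc₁ hb hb1 hc₂m
    have ha₁' : a₁ ∈ ⁅D, ⁅A, B⁆⁆ := by rw [hDC]; exact ha₁m
    obtain ⟨c₁, hc₁m, hx4⟩ := cc_exists_right hc₂ hd hd1 ha₁'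
    obtain ⟨a, ha, hx5⟩ := cc_exists_left hc₁ (B.inv_mem hb) hbinv1 hc₁m
    have hk := key a⁻¹ (A.inv_mem ha) d hd
    -- rewrite the key identity in terms of the chain
    have e1 : b⁻¹ * a⁻¹ * b * a⁻¹⁻¹ = c₁ := by
      have h5 := cc_comm_inv hc₁ ha (B.inv_mem hb)
      rw [hx5] at h5
      have e5 : b * c₁ = c₁ * b := cc_central_right hc₁ hb hc₁m
      have e6 : b⁻¹ * a⁻¹ * b * a⁻¹⁻¹ = b⁻¹ * (a⁻¹ * b⁻¹⁻¹ * a * b⁻¹) * b := by group
      rw [e6, h5, mul_assoc, ← e5]; group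
    rw [e1, hx4] at hk
    have e2 : b * a₁ * b⁻¹ * a₁⁻¹ = c₂⁻¹ := by rw [← hx3]; group
    rw [e2] at hk
    -- `d` commutes with `c₂⁻¹`, so `x = 1`
    rw [← hx2]
    have : d * c₂ = c₂ * d := by
      have h6 : d * c₂⁻¹ * d⁻¹ = c₂⁻¹ := by rw [hk]; group
      have h7 : d * c₂ * d⁻¹ = c₂ := by
        have : d * c₂ * d⁻¹ = (d * c₂⁻¹ * d⁻¹)⁻¹ := by group
        rw [this, h6, inv_inv]
      calc d * c₂ = (d * c₂ * d⁻¹) * d := by group
        _ = c₂ * d := by rw [h7]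
    rw [this]; group

end Opp

end Cfsg.Agent.Helper25
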