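import Mathlib
import Cfsg.Prelude.Def_RootSubgroups
import Cfsg.Agent.Helper25.RankOne
import Cfsg.Agent.Helper25.RootBasic
import Cfsg.Agent.Helper25.RootComm
import Cfsg.Agent.Helper25.RootComm2
import Cfsg.Agent.Helper25.RootComm3
import Cfsg.Agent.Helper25.RootNat

set_option autoImplicit false

/-! Opposite commutator partners generate a rank one group (Timmesfeld II (2.11)), part 2:
the natural module `N = A C`. -/

namespace Cfsg.Agent.Helper25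

open Cfsg
open scoped commutatorElement

variable {G : Type*} [Group G] {S : Set (Subgroup G)}

section Opp

set_option linter.unusedSectionVars false

variable {A B D : Subgroup G} (hS : IsRootSubgroupSet S) (hA : A ∈ S) (hB : B ∈ S)
  (hC : ⁅A, B⁆ ∈ S) (hD : D ∈ S) (hDC : ⁅D, ⁅A, B⁆⁆ = A)

include hS hA hB hC hD hDC

theorem opp_nc1 {a b : G} (ha : a ∈ A) (ha1 : a ≠ 1) (hb : b ∈ B) (hb1 : b ≠ 1) :
    a * b ≠ b * a :=
  cc_not_commute' hS hB (opp_cc1 hS hA hB hC hD hDC) hD (opp_rankOne hS hA hB hC hD hDC)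
    ha ha1 hb hb1

theorem opp_nc2 {d c : G} (hd : d ∈ D) (hd1 : d ≠ 1) (hc : c ∈ ⁅A, B⁆) (hc1 : c ≠ 1) :
    d * c ≠ c * d :=
  cc_not_commute hS hD (opp_cc2 hS hA hB hC hD hDC) hB
    (RankOnePair_symm (opp_rankOne hS hA hB hC hD hDC)) hd hd1 hc hc1

theorem opp_inf : A ⊓ ⁅A, B⁆ = ⊥ := by
  rw [eq_bot_iff]
  intro x hx
  rw [Subgroup.mem_bot]
  by_contra hx1
  obtain ⟨b, hb, hb1⟩ := root_exists_ne_one hS hB
  have hc₁ := opp_cc1 hS hA hB hC hD hDC
  exact opp_nc1 hS hA hB hC hD hDC hx.1 hx1 hb hb1 (cc_central_right hc₁ hb hx.2).symm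

theorem opp_comm_AC : ∀ a ∈ A, ∀ c ∈ ⁅A, B⁆, a * c = c * a := fun _ ha _ hc =>
  cc_central_left (opp_cc1 hS hA hB hC hD hDC) ha hc

/-- `D` normalizes `N = A C`. -/
theorem opp_conjBy_C_le {d : G} (hd : d ∈ D) : conjBy ⁅A, B⁆ d ≤ A ⊔ ⁅A, B⁆ := by
  have h1 := cc_conjBy_le (A := ⁅A, B⁆) (B := D) hd
  rw [Subgroup.commutator_comm ⁅A, B⁆ D, hDC, sup_comm] at h1
  exact h1

theorem opp_N_conj_B {b n : G} (hb : b ∈ B) (hn : n ∈ A ⊔ ⁅A, B⁆) :
    b * n * b⁻¹ ∈ A ⊔ ⁅A, B⁆ := by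
  have hc₁ := opp_cc1 hS hA hB hC hD hDC
  obtain ⟨a, ha, c, hc, rfl⟩ := mem_sup_of_commute (opp_comm_AC hS hA hB hC hD hDC) hn
  have h1 : b * a * b⁻¹ ∈ A ⊔ ⁅A, B⁆ := cc_conjBy_le hb (conj_mem_conjBy ha)
  have h2 : b * c = c * b := cc_central_right hc₁ hb hc
  have : b * (a * c) * b⁻¹ = (b * a * b⁻¹) * c := by
    have : b * (a * c) * b⁻¹ = b * a * (b⁻¹ * (b * c)) * b⁻¹ := by group
    rw [this, h2]; group
  rw [this]
  exact Subgroup.mul_mem _ h1 (Subgroup.mem_sup_right hc)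

theorem opp_N_conj_D {d n : G} (hd : d ∈ D) (hn : n ∈ A ⊔ ⁅A, B⁆) :
    d * n * d⁻¹ ∈ A ⊔ ⁅A, B⁆ := by
  obtain ⟨a, ha, c, hc, rfl⟩ := mem_sup_of_commute (opp_comm_AC hS hA hB hC hD hDC) hn
  have h1 : d * c * d⁻¹ ∈ A ⊔ ⁅A, B⁆ :=
    opp_conjBy_C_le hS hA hB hC hD hDC hd (conj_mem_conjBy hc)
  have h2 : d * a = a * d := opp_comm_DA hS hA hB hC hD hDC d hd a ha
  have : d * (a * c) * d⁻¹ = a * (d * c * d⁻¹) := by
    have : d * (a * c) * d⁻¹ = (d * a) * c * d⁻¹ := by group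
    rw [this, h2]; group
  rw [this]
  exact Subgroup.mul_mem _ (Subgroup.mem_sup_left ha) h1

/-- An element of `N` centralized by `B` lies in `C`. -/
theorem opp_cent_B {n : G} (hn : n ∈ A ⊔ ⁅A, B⁆) (hcomm : ∀ b ∈ B, b * n = n * b) :
    n ∈ ⁅A, B⁆ := by
  have hc₁ := opp_cc1 hS hA hB hC hD hDC
  obtain ⟨a, ha, c, hc, rfl⟩ := mem_sup_of_commute (opp_comm_AC hS hA hB hC hD hDC) hn
  obtain ⟨b, hb, hb1⟩ := root_exists_ne_one hS hB
  have h1 := hcomm b hb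
  have h2 : b * c = c * b := cc_central_right hc₁ hb hc
  have h3 : a * b = b * a := by
    have : b * a * c = a * b * c := by
      calc b * a * c = b * (a * c) := by group
        _ = a * c * b := h1
        _ = a * (c * b) := by group
        _ = a * (b * c) := by rw [h2]
        _ = a * b * c := by group
    exact (mul_right_cancel this).symm
  by_cases ha1 : a = 1
  · rw [ha1, one_mul]; exact hc
  · exact absurd h3 (opp_nc1 hS hA hB hC hD hDC ha ha1 hb hb1)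

/-- An element of `N` centralized by `D` lies in `A`. -/
theorem opp_cent_D {n : G} (hn : n ∈ A ⊔ ⁅A, B⁆) (hcomm : ∀ d ∈ D, d * n = n * d) :
    n ∈ A := by
  obtain ⟨a, ha, c, hc, rfl⟩ := mem_sup_of_commute (opp_comm_AC hS hA hB hC hD hDC) hn
  obtain ⟨d, hd, hd1⟩ := root_exists_ne_one hS hD
  have h1 := hcomm d hd
  have h2 : d * a = a * d := opp_comm_DA hS hA hB hC hD hDC d hd a ha
  have h3 : d * c = c * d := by
    have : a * (d * c) = a * (c * d) := by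
      calc a * (d * c) = (a * d) * c := by group
        _ = (d * a) * c := by rw [h2]
        _ = d * (a * c) := by group
        _ = a * c * d := h1
        _ = a * (c * d) := by group
    exact mul_left_cancel this
  by_cases hc1 : c = 1
  · rw [hc1, mul_one]; exact ha
  · exact absurd h3 (opp_nc2 hS hA hB hC hD hDC hd hd1 hc hc1)

/-- The key relation: `b⁻¹ A b = a⁻¹ ... ` transfers to the centralizers in `N`. -/
theorem opp_key {b d : G} (hb : b ∈ B) (hd : d ∈ D)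
    (hbd : conjBy B d⁻¹ = conjBy D b⁻¹) : conjBy ⁅A, B⁆ d⁻¹ = conjBy A b⁻¹ := by
  have hc₁ := opp_cc1 hS hA hB hC hD hDC
  ext x
  rw [mem_conjBy_iff, mem_conjBy_iff, inv_inv, inv_inv]
  constructor
  · intro hx
    -- `x` commutes with `d⁻¹ B d = b⁻¹ D b`, so `b x b⁻¹` commutes with `D`
    have hxN : x ∈ A ⊔ ⁅A, B⁆ := by
      have h1 := opp_N_conj_D hS hA hB hC hD hDC (D.inv_mem hd) (Subgroup.mem_sup_right hx)
      have : d⁻¹ * (d * x * d⁻¹) * d⁻¹⁻¹ = x := by group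
      rwa [this] at h1
    apply opp_cent_D hS hA hB hC hD hDC (opp_N_conj_B hS hA hB hC hD hDC hb hxN)
    intro d' hd'
    -- `b⁻¹ d' b ∈ b⁻¹ D b = d⁻¹ B d`
    have h1 : b⁻¹ * d' * b ∈ conjBy B d⁻¹ := by
      rw [hbd]
      have := conj_mem_conjBy (A := D) (g := b⁻¹) hd'
      rwa [inv_inv] at this
    rw [mem_conjBy_iff, inv_inv] at h1
    -- `d (b⁻¹ d' b) d⁻¹ ∈ B` commutes with `d x d⁻¹ ∈ C`
    have h2 := cc_central_right hc₁ h1 hx
    have h3 : b⁻¹ * d' * b * x = x * (b⁻¹ * d' * b) := by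
      have e1 : b⁻¹ * d' * b * x = d⁻¹ * ((d * (b⁻¹ * d' * b) * d⁻¹) * (d * x * d⁻¹)) * d := by
        group
      rw [e1, h2]; group
    calc d' * (b * x * b⁻¹) = b * (b⁻¹ * d' * b * x) * b⁻¹ := by group
      _ = b * (x * (b⁻¹ * d' * b)) * b⁻¹ := by rw [h3]
      _ = b * x * b⁻¹ * d' := by group
  · intro hx
    have hxN : x ∈ A ⊔ ⁅A, B⁆ := by
      have h1 := opp_N_conj_B hS hA hB hC hD hDC (B.inv_mem hb) (Subgroup.mem_sup_left hx)
      have : b⁻¹ * (b * x * b⁻¹) * b⁻¹⁻¹ = x := by group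
      rwa [this] at h1
    apply opp_cent_B hS hA hB hC hD hDC (opp_N_conj_D hS hA hB hC hD hDC hd hxN)
    intro b' hb'
    have h1 : d⁻¹ * b' * d ∈ conjBy D b⁻¹ := by
      rw [← hbd]
      have := conj_mem_conjBy (A := B) (g := d⁻¹) hb'
      rwa [inv_inv] at this
    rw [mem_conjBy_iff, inv_inv] at h1
    have h2 := opp_comm_DA hS hA hB hC hD hDC _ h1 _ hx
    have h3 : d⁻¹ * b' * d * x = x * (d⁻¹ * b' * d) := by
      have e1 : d⁻¹ * b' * d * x = b⁻¹ * ((b * (d⁻¹ * b' * d) * b⁻¹) * (b * x * b⁻¹)) * b := by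
        group
      rw [e1, h2]; group
    calc b' * (d * x * d⁻¹) = d * (d⁻¹ * b' * d * x) * d⁻¹ := by group
      _ = d * (x * (d⁻¹ * b' * d)) * d⁻¹ := by rw [h3]
      _ = d * x * d⁻¹ * b' := by group

end Opp

end Cfsg.Agent.Helper25
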