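import Mathlib
import Cfsg.Prelude.Def_RootSubgroups
import Cfsg.Agent.Helper25.RankOne
import Cfsg.Agent.Helper25.RootBasic
import Cfsg.Agent.Helper25.RootComm
import Cfsg.Agent.Helper25.RootComm2
import Cfsg.Agent.Helper25.RootComm3
import Cfsg.Agent.Helper25.RootNat
import Cfsg.Agent.Helper25.RootNat2

set_option autoImplicit false

/-! Opposite commutator partners generate a rank one group (Timmesfeld II (2.11)), part 3:
orbits on the natural module. -/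

namespace Cfsg.Agent.Helper25

open Cfsg
open scoped commutatorElement

variable {G : Type*} [Group G] {S : Set (Subgroup G)}

theorem conj_iff_of_forward {K : Subgroup G} {P : Set (Subgroup G)}
    (h : ∀ k ∈ K, ∀ T ∈ P, conjBy T k ∈ P) : ∀ k ∈ K, ∀ T, T ∈ P ↔ conjBy T k ∈ P := by
  intro k hk T
  constructor
  · exact h k hk T
  · intro hT
    have := h k⁻¹ (K.inv_mem hk) _ hT
    rwa [conjBy_conjBy, inv_mul_cancel, conjBy_one] at this

/-- The subgroup of elements permuting a family of subgroups. -/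
def conjStab (P : Set (Subgroup G)) : Subgroup G where
  carrier := {g | ∀ T, T ∈ P ↔ conjBy T g ∈ P}
  one_mem' := by
    intro T
    rw [conjBy_one]
  mul_mem' := by
    intro g h hg hh T
    rw [← conjBy_conjBy]
    exact (hh T).trans (hg _)
  inv_mem' := by
    intro g hg T
    have := hg (conjBy T g⁻¹)
    rw [conjBy_conjBy, mul_inv_cancel, conjBy_one] at this
    exact this.symm

theorem mem_conjStab {P : Set (Subgroup G)} {g : G} :
    g ∈ conjStab P ↔ ∀ T, T ∈ P ↔ conjBy T g ∈ P := Iff.rfl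

section Opp

set_option linter.unusedSectionVars false

variable {A B D : Subgroup G} (hS : IsRootSubgroupSet S) (hA : A ∈ S) (hB : B ∈ S)
  (hC : ⁅A, B⁆ ∈ S) (hD : D ∈ S) (hDC : ⁅D, ⁅A, B⁆⁆ = A)

include hS hA hB hC hD hDC

theorem opp_P_eq : (fun b : G => conjBy A b) '' (B : Set G) ∪ {⁅A, B⁆} =
    (fun d : G => conjBy ⁅A, B⁆ d) '' (D : Set G) ∪ {A} := by
  have hBD := opp_rankOne hS hA hB hC hD hDC
  ext T
  constructor
  · rintro (⟨b', hb', rfl⟩ | hT)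
    · by_cases hb'1 : b' = 1
      · right
        show conjBy A b' = A
        rw [hb'1, conjBy_one]
      · left
        have hbinv1 : b'⁻¹ ≠ 1 := fun h => hb'1 (inv_eq_one.mp h)
        obtain ⟨d, hd, -, hbd⟩ := hBD.cond_left b'⁻¹ (B.inv_mem hb') hbinv1
        have := opp_key hS hA hB hC hD hDC (B.inv_mem hb') hd hbd
        rw [inv_inv] at this
        exact ⟨d⁻¹, D.inv_mem hd, this⟩
    · left
      rw [Set.mem_singleton_iff] at hT
      exact ⟨1, D.one_mem, by rw [hT]; exact conjBy_one _⟩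
  · rintro (⟨d', hd', rfl⟩ | hT)
    · by_cases hd'1 : d' = 1
      · right
        show conjBy ⁅A, B⁆ d' = ⁅A, B⁆
        rw [hd'1, conjBy_one]
      · left
        have hdinv1 : d'⁻¹ ≠ 1 := fun h => hd'1 (inv_eq_one.mp h)
        obtain ⟨b, hb, -, hbd⟩ := hBD.cond_right d'⁻¹ (D.inv_mem hd') hdinv1
        have := opp_key hS hA hB hC hD hDC hb (D.inv_mem hd') hbd.symm
        rw [inv_inv] at this
        exact ⟨b⁻¹, B.inv_mem hb, this.symm⟩
    · left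
      rw [Set.mem_singleton_iff] at hT
      exact ⟨1, B.one_mem, by rw [hT]; exact conjBy_one _⟩

theorem opp_sup_le_conjStab :
    B ⊔ D ≤ conjStab ((fun b : G => conjBy A b) '' (B : Set G) ∪ {⁅A, B⁆}) := by
  have hc₁ := opp_cc1 hS hA hB hC hD hDC
  refine sup_le ?_ ?_
  · intro b hb
    rw [mem_conjStab]
    refine conj_iff_of_forward ?_ b hb
    rintro k hk T (⟨b', hb', rfl⟩ | hT)
    · left
      exact ⟨k * b', B.mul_mem hk hb', (conjBy_conjBy A b' k).symm⟩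
    · right
      rw [Set.mem_singleton_iff] at hT
      rw [hT]
      exact conjBy_eq_self_of_commute (fun x hx => cc_central_right hc₁ hk hx)
  · intro d hd
    rw [mem_conjStab, opp_P_eq hS hA hB hC hD hDC]
    refine conj_iff_of_forward ?_ d hd
    rintro k hk T (⟨d', hd', rfl⟩ | hT)
    · left
      exact ⟨k * d', D.mul_mem hk hd', (conjBy_conjBy _ d' k).symm⟩
    · right
      rw [Set.mem_singleton_iff] at hT
      rw [hT]
      exact conjBy_eq_self_of_commute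
        (fun x hx => opp_comm_DA hS hA hB hC hD hDC k hk x hx)

/-- some `b ∈ B#`, `d ∈ D#` with `d⁻¹ C d = b⁻¹ A b`. -/
theorem opp_exists_key : ∃ b ∈ B, ∃ d ∈ D, conjBy ⁅A, B⁆ d⁻¹ = conjBy A b⁻¹ := by
  have hBD := opp_rankOne hS hA hB hC hD hDC
  obtain ⟨b, hb, hb1⟩ := root_exists_ne_one hS hB
  obtain ⟨d, hd, -, hbd⟩ := hBD.cond_left b hb hb1
  exact ⟨b, hb, d, hd, opp_key hS hA hB hC hD hDC hb hd hbd⟩

theorem opp_orbit_A : {E | ∃ x ∈ B ⊔ D, E = conjBy A x} =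
    (fun b : G => conjBy A b) '' (B : Set G) ∪ {⁅A, B⁆} := by
  ext E
  constructor
  · rintro ⟨x, hx, rfl⟩
    have h1 := opp_sup_le_conjStab hS hA hB hC hD hDC hx
    rw [mem_conjStab] at h1
    exact (h1 A).mp (Or.inl ⟨1, B.one_mem, conjBy_one A⟩)
  · rintro (⟨b, hb, rfl⟩ | hE)
    · exact ⟨b, Subgroup.mem_sup_left hb, rfl⟩
    · rw [Set.mem_singleton_iff] at hE
      obtain ⟨b, hb, d, hd, hk⟩ := opp_exists_key hS hA hB hC hD hDC
      refine ⟨d * b⁻¹, Subgroup.mul_mem _ (Subgroup.mem_sup_right hd)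
        (Subgroup.mem_sup_left (B.inv_mem hb)), ?_⟩
      rw [hE, ← conjBy_conjBy, ← hk, conjBy_conjBy, mul_inv_cancel, conjBy_one]

theorem opp_orbit_C : {E | ∃ x ∈ B ⊔ D, E = conjBy ⁅A, B⁆ x} =
    (fun b : G => conjBy A b) '' (B : Set G) ∪ {⁅A, B⁆} := by
  ext E
  constructor
  · rintro ⟨x, hx, rfl⟩
    have h1 := opp_sup_le_conjStab hS hA hB hC hD hDC hx
    rw [mem_conjStab] at h1
    exact (h1 _).mp (Or.inr rfl)
  · intro hE
    rw [opp_P_eq hS hA hB hC hD hDC] at hE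
    rcases hE with ⟨d, hd, rfl⟩ | hE
    · exact ⟨d, Subgroup.mem_sup_right hd, rfl⟩
    · rw [Set.mem_singleton_iff] at hE
      obtain ⟨b, hb, d, hd, hk⟩ := opp_exists_key hS hA hB hC hD hDC
      refine ⟨b * d⁻¹, Subgroup.mul_mem _ (Subgroup.mem_sup_left hb)
        (Subgroup.mem_sup_right (D.inv_mem hd)), ?_⟩
      rw [hE, ← conjBy_conjBy, hk, conjBy_conjBy, mul_inv_cancel, conjBy_one]

theorem opp_partition : IsSubgroupPartition (A ⊔ ⁅A, B⁆)
    ((fun b : G => conjBy A b) '' (B : Set G) ∪ {⁅A, B⁆}) := by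
  have hc₁ := opp_cc1 hS hA hB hC hD hDC
  have hinf := opp_inf hS hA hB hC hD hDC
  have hAC : ∀ b ∈ B, conjBy A b ⊓ ⁅A, B⁆ = ⊥ := by
    intro b hb
    rw [eq_bot_iff]
    intro x hx
    have h1 := (mem_conjBy_iff.mp hx.1)
    have h2 : b⁻¹ * x * b = x := by
      have := cc_central_right hc₁ hb hx.2
      rw [mul_assoc, ← this]; group
    rw [h2] at h1
    rw [← hinf]
    exact ⟨h1, hx.2⟩
  have hAA : ∀ b ∈ B, ∀ b' ∈ B, conjBy A b ≠ conjBy A b' → conjBy A b ⊓ conjBy A b' = ⊥ := by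
    intro b hb b' hb' hne
    rw [eq_bot_iff]
    intro x hx
    rw [Subgroup.mem_bot]
    have h1 := (mem_conjBy_iff.mp hx.1)
    have h2 := (mem_conjBy_iff.mp hx.2)
    -- a := b⁻¹ x b, a' := b'⁻¹ x b' = b'' a b''⁻¹ with b'' = b'⁻¹ b
    have hb'' : b'⁻¹ * b ∈ B := B.mul_mem (B.inv_mem hb') hb
    have h3 : (b'⁻¹ * b) * (b⁻¹ * x * b) * (b'⁻¹ * b)⁻¹ * (b⁻¹ * x * b)⁻¹ ∈ ⁅A, B⁆ :=
      cc_comm_mem' h1 hb''
    have h4 : (b'⁻¹ * b) * (b⁻¹ * x * b) * (b'⁻¹ * b)⁻¹ * (b⁻¹ * x * b)⁻¹ ∈ A := by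
      have e : (b'⁻¹ * b) * (b⁻¹ * x * b) * (b'⁻¹ * b)⁻¹ * (b⁻¹ * x * b)⁻¹ =
          (b'⁻¹ * x * b') * (b⁻¹ * x * b)⁻¹ := by group
      rw [e]; exact A.mul_mem h2 (A.inv_mem h1)
    have h5 : (b'⁻¹ * b) * (b⁻¹ * x * b) * (b'⁻¹ * b)⁻¹ * (b⁻¹ * x * b)⁻¹ = 1 := by
      have : (b'⁻¹ * b) * (b⁻¹ * x * b) * (b'⁻¹ * b)⁻¹ * (b⁻¹ * x * b)⁻¹ ∈ A ⊓ ⁅A, B⁆ :=
        ⟨h4, h3⟩
      rw [hinf] at this
      exact this
    have h6 : (b⁻¹ * x * b) * (b'⁻¹ * b) = (b'⁻¹ * b) * (b⁻¹ * x * b) := by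
      have e : (b'⁻¹ * b) * (b⁻¹ * x * b) =
          ((b'⁻¹ * b) * (b⁻¹ * x * b) * (b'⁻¹ * b)⁻¹ * (b⁻¹ * x * b)⁻¹) *
            ((b⁻¹ * x * b) * (b'⁻¹ * b)) := by group
      rw [e, h5, one_mul]
    by_cases ha1 : b⁻¹ * x * b = 1
    · have : x = b * (b⁻¹ * x * b) * b⁻¹ := by group
      rw [this, ha1]; group
    · exfalso
      by_cases hb''1 : b'⁻¹ * b = 1
      · apply hne
        have : b = b' := by
          have := congrArg (b' * ·) hb''1
          simpa using this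
        rw [this]
      · exact opp_nc1 hS hA hB hC hD hDC h1 ha1 hb'' hb''1 h6
  refine ⟨?_, ?_, ?_⟩
  · rintro T (⟨b, hb, rfl⟩ | hT)
    · exact cc_conjBy_le hb
    · rw [Set.mem_singleton_iff] at hT
      rw [hT]; exact le_sup_right
  · intro x hx hx1
    obtain ⟨a, ha, c, hcm, rfl⟩ :=
      mem_sup_of_commute (opp_comm_AC hS hA hB hC hD hDC) hx
    by_cases ha1 : a = 1
    · exact ⟨⁅A, B⁆, Or.inr rfl, by simpa [ha1] using hcm⟩
    · obtain ⟨b, hb, hab⟩ := cc_mul_mem_conjBy hc₁ ha ha1 hcm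
      exact ⟨conjBy A b, Or.inl ⟨b, hb, rfl⟩, by rw [hab]; exact conj_mem_conjBy ha⟩
  · rintro T₁ (⟨b, hb, rfl⟩ | hT₁) T₂ (⟨b', hb', rfl⟩ | hT₂) hne
    · exact hAA b hb b' hb' hne
    · rw [Set.mem_singleton_iff] at hT₂
      rw [hT₂]; exact hAC b hb
    · rw [Set.mem_singleton_iff] at hT₁
      rw [hT₁, inf_comm]; exact hAC b' hb'
    · rw [Set.mem_singleton_iff] at hT₁ hT₂
      exact absurd (hT₁.trans hT₂.symm) hne

end Opp

end Cfsg.Agent.Helper25
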