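import Mathlib
import Cfsg.Prelude.Def_RootSubgroups
import Cfsg.Agent.Helper25.RankOne
import Cfsg.Agent.Helper25.RootBasic
import Cfsg.Agent.Helper25.RootComm
import Cfsg.Agent.Helper25.RootComm2
import Cfsg.Agent.Helper25.RootComm3
import Cfsg.Agent.Helper25.RootNat
import Cfsg.Agent.Helper25.RootNat2
import Cfsg.Agent.Helper25.RootNat3

set_option autoImplicit false

/-! Opposite commutator partners generate a rank one group (Timmesfeld II (2.11)), part 4: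
the kernel of the action on the natural module is central. -/

namespace Cfsg.Agent.Helper25

open Cfsg
open scoped commutatorElement

variable {G : Type*} [Group G] {S : Set (Subgroup G)}

/-- injectivity of `b ↦ [a, b]` from the hom property -/
theorem cc_inj_right {A B : Subgroup G} (hc : RootCommutatorCase S A B) {a b b₂ : G} (ha : a ∈ A)
    (hb : b ∈ B) (hb₂ : b₂ ∈ B) (hnc : ∀ b' ∈ B, a * b' = b' * a → b' = 1)
    (h : a * b₂ * a⁻¹ * b₂⁻¹ = a * b * a⁻¹ * b⁻¹) : b₂ = b := by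
  have hb₃ : b⁻¹ * b₂ ∈ B := B.mul_mem (B.inv_mem hb) hb₂
  have h1 := cc_mul_right hc ha hb hb₃
  have e : b * (b⁻¹ * b₂) = b₂ := by group
  rw [e, h] at h1
  have h2 : a * (b⁻¹ * b₂) * a⁻¹ * (b⁻¹ * b₂)⁻¹ = 1 := by
    have := congrArg ((a * b * a⁻¹ * b⁻¹)⁻¹ * ·) h1
    simpa using this.symm
  have h3 : a * (b⁻¹ * b₂) = (b⁻¹ * b₂) * a := by
    have : a * (b⁻¹ * b₂) = (a * (b⁻¹ * b₂) * a⁻¹ * (b⁻¹ * b₂)⁻¹) * ((b⁻¹ * b₂) * a) := by group
    rw [this, h2, one_mul]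
  have h4 := hnc _ hb₃ h3
  have := congrArg (b * ·) h4
  simpa using this

section Opp

set_option linter.unusedSectionVars false

variable {A B D : Subgroup G} (hS : IsRootSubgroupSet S) (hA : A ∈ S) (hB : B ∈ S)
  (hC : ⁅A, B⁆ ∈ S) (hD : D ∈ S) (hDC : ⁅D, ⁅A, B⁆⁆ = A)

include hS hA hB hC hD hDC

theorem opp_central : ∀ x ∈ (B ⊔ D) ⊓ Subgroup.centralizer ((A ⊔ ⁅A, B⁆ : Subgroup G) : Set G),
    ∀ y ∈ B ⊔ D, x * y = y * x := by
  intro x hx y hy
  have hxX : x ∈ B ⊔ D := hx.1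
  have hxN : ∀ n ∈ A ⊔ ⁅A, B⁆, x * n = n * x := commute_of_mem_centralizer hx.2
  have hxA : ∀ a ∈ A, x * a = a * x := fun a ha => hxN a (Subgroup.mem_sup_left ha)
  have hxC : ∀ c ∈ ⁅A, B⁆, x * c = c * x := fun c hc => hxN c (Subgroup.mem_sup_right hc)
  have hxinvA : ∀ a ∈ A, x⁻¹ * a = a * x⁻¹ := by
    intro a ha
    rw [inv_mul_eq_iff_eq_mul, ← mul_assoc, hxA a ha, mul_assoc, mul_inv_cancel, mul_one]
  have hxinvC : ∀ c ∈ ⁅A, B⁆, x⁻¹ * c = c * x⁻¹ := by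
    intro c hc
    rw [inv_mul_eq_iff_eq_mul, ← mul_assoc, hxC c hc, mul_assoc, mul_inv_cancel, mul_one]
  have hc₁ := opp_cc1 hS hA hB hC hD hDC
  have hc₂ := opp_cc2 hS hA hB hC hD hDC
  have hBD := opp_rankOne hS hA hB hC hD hDC
  have hDA := opp_comm_DA hS hA hB hC hD hDC
  obtain ⟨a, ha, ha1⟩ := root_exists_ne_one hS hA
  obtain ⟨c, hc, hc1⟩ := root_exists_ne_one hS hC
  obtain ⟨b₀, hb₀, hb₀1⟩ := root_exists_ne_one hS hB
  obtain ⟨d₀, hd₀, hd₀1⟩ := root_exists_ne_one hS hD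
  -- Step 1: `x` normalizes `B`
  have hxB : conjBy B x = B := by
    have hmem : conjBy B x ∈ unipotentSubgroups B D := ⟨x, hxX, rfl⟩
    rcases rankOne_unipotent_cases hBD hmem with h | ⟨b, hb, h⟩
    · exact h
    · exfalso
      have h1 : b * d₀ * b⁻¹ ∈ conjBy B x := by rw [h]; exact conj_mem_conjBy hd₀
      rw [mem_conjBy_iff] at h1
      have h2 := cc_central_right hc₁ h1 hc
      have h3 : (b * d₀ * b⁻¹) * c = c * (b * d₀ * b⁻¹) := by
        have e1 : (b * d₀ * b⁻¹) * c = x * ((x⁻¹ * (b * d₀ * b⁻¹) * x) * (x⁻¹ * c)) := by group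
        rw [e1, hxinvC c hc, ← mul_assoc (x⁻¹ * (b * d₀ * b⁻¹) * x), h2]
        have e2 : x * (c * (x⁻¹ * (b * d₀ * b⁻¹) * x) * x⁻¹) = (x * c) * x⁻¹ * (b * d₀ * b⁻¹) := by
          group
        rw [e2, hxC c hc]; group
      have h4 : b * c = c * b := cc_central_right hc₁ hb hc
      have h4' : b⁻¹ * c = c * b⁻¹ := cc_central_right hc₁ (B.inv_mem hb) hc
      apply opp_nc2 hS hA hB hC hD hDC hd₀ hd₀1 hc hc1
      calc d₀ * c = b⁻¹ * ((b * d₀ * b⁻¹) * (b * c)) := by group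
        _ = b⁻¹ * ((b * d₀ * b⁻¹) * c * b) := by rw [h4]; group
        _ = (b⁻¹ * c) * (b * d₀ * b⁻¹) * b := by rw [h3]; group
        _ = c * d₀ := by rw [h4']; group
  -- Step 2: `x` normalizes `D`
  have hxD : conjBy D x = D := by
    have hDB := RankOnePair_symm hBD
    have hmem : conjBy D x ∈ unipotentSubgroups D B := ⟨x, by rw [sup_comm]; exact hxX, rfl⟩
    rcases rankOne_unipotent_cases hDB hmem with h | ⟨d, hd, h⟩
    · exact h
    · exfalso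
      have h1 : d * b₀ * d⁻¹ ∈ conjBy D x := by rw [h]; exact conj_mem_conjBy hb₀
      rw [mem_conjBy_iff] at h1
      have h2 := hDA _ h1 a ha
      have h3 : (d * b₀ * d⁻¹) * a = a * (d * b₀ * d⁻¹) := by
        have e1 : (d * b₀ * d⁻¹) * a = x * ((x⁻¹ * (d * b₀ * d⁻¹) * x) * (x⁻¹ * a)) := by group
        rw [e1, hxinvA a ha, ← mul_assoc (x⁻¹ * (d * b₀ * d⁻¹) * x), h2]
        have e2 : x * (a * (x⁻¹ * (d * b₀ * d⁻¹) * x) * x⁻¹) = (x * a) * x⁻¹ * (d * b₀ * d⁻¹) := by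
          group
        rw [e2, hxA a ha]; group
      have h4 : d * a = a * d := hDA d hd a ha
      have h4' : d⁻¹ * a = a * d⁻¹ := hDA _ (D.inv_mem hd) a ha
      apply opp_nc1 hS hA hB hC hD hDC ha ha1 hb₀ hb₀1
      symm
      calc b₀ * a = d⁻¹ * ((d * b₀ * d⁻¹) * (d * a)) := by group
        _ = d⁻¹ * ((d * b₀ * d⁻¹) * a * d) := by rw [h4]; group
        _ = (d⁻¹ * a) * (d * b₀ * d⁻¹) * d := by rw [h3]; group
        _ = a * b₀ := by rw [h4']; group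
  -- Step 3: `x` centralizes `B`
  have hxb : ∀ b ∈ B, x * b = b * x := by
    intro b hb
    have hb₂ : x * b * x⁻¹ ∈ B := by
      have := conj_mem_conjBy (A := B) (g := x) hb
      rwa [hxB] at this
    have hcm : a * b * a⁻¹ * b⁻¹ ∈ ⁅A, B⁆ := cc_comm_mem ha hb
    have h1 : a * (x * b * x⁻¹) * a⁻¹ * (x * b * x⁻¹)⁻¹ = a * b * a⁻¹ * b⁻¹ := by
      have e1 : a * (x * b * x⁻¹) * a⁻¹ * (x * b * x⁻¹)⁻¹ =
          (a * x) * b * (x⁻¹ * a⁻¹) * x * b⁻¹ * x⁻¹ := by group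
      rw [e1, ← hxA a ha, hxinvA a⁻¹ (A.inv_mem ha)]
      have e2 : x * a * b * (a⁻¹ * x⁻¹) * x * b⁻¹ * x⁻¹ = x * (a * b * a⁻¹ * b⁻¹) * x⁻¹ := by group
      rw [e2, hxC _ hcm]; group
    have h2 := cc_inj_right hc₁ ha hb hb₂ (fun b' hb' h => by
      by_contra hb'1
      exact opp_nc1 hS hA hB hC hD hDC ha ha1 hb' hb'1 h) h1
    calc x * b = (x * b * x⁻¹) * x := by group
      _ = b * x := by rw [h2]
  -- Step 4: `x` centralizes `D`
  have hxd : ∀ d ∈ D, x * d = d * x := by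
    intro d hd
    have hd₂ : x * d * x⁻¹ ∈ D := by
      have := conj_mem_conjBy (A := D) (g := x) hd
      rwa [hxD] at this
    have hc₂' := rootCommutatorCase_symm hc₂
    have hcm : c * d * c⁻¹ * d⁻¹ ∈ A := by
      have := cc_comm_mem' (A := D) (B := ⁅A, B⁆) hd hc
      rwa [hDC] at this
    have h1 : c * (x * d * x⁻¹) * c⁻¹ * (x * d * x⁻¹)⁻¹ = c * d * c⁻¹ * d⁻¹ := by
      have e1 : c * (x * d * x⁻¹) * c⁻¹ * (x * d * x⁻¹)⁻¹ =
          (c * x) * d * (x⁻¹ * c⁻¹) * x * d⁻¹ * x⁻¹ := by group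
      rw [e1, ← hxC c hc, hxinvC c⁻¹ (Subgroup.inv_mem _ hc)]
      have e2 : x * c * d * (c⁻¹ * x⁻¹) * x * d⁻¹ * x⁻¹ = x * (c * d * c⁻¹ * d⁻¹) * x⁻¹ := by group
      rw [e2, hxA _ hcm]; group
    have h2 := cc_inj_right hc₂' hc hd hd₂ (fun d' hd' h => by
      by_contra hd'1
      exact opp_nc2 hS hA hB hC hD hDC hd' hd'1 hc hc1 h.symm) h1
    calc x * d = (x * d * x⁻¹) * x := by group
      _ = d * x := by rw [h2]
  have hle : B ⊔ D ≤ Subgroup.centralizer ({x} : Set G) := by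
    refine sup_le ?_ ?_
    · intro b hb
      rw [Subgroup.mem_centralizer_iff]
      intro z hz
      rw [Set.mem_singleton_iff] at hz
      rw [hz]; exact hxb b hb
    · intro d hd
      rw [Subgroup.mem_centralizer_iff]
      intro z hz
      rw [Set.mem_singleton_iff] at hz
      rw [hz]; exact hxd d hd
  have := hle hy
  rw [Subgroup.mem_centralizer_iff] at this
  exact this x rfl

end Opp

end Cfsg.Agent.Helper25
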