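import Mathlib
import Cfsg.Prelude.Def_RootSubgroups
import Cfsg.Agent.Helper25.RootNat4
import Cfsg.Agent.Helper25.RootLine
import Cfsg.Agent.Helper25.RootEConn

/-!
# Timmesfeld II (2.12)-(2.14): rank one pairs in a non-degenerate class are special
-/

set_option autoImplicit false
set_option linter.unusedSectionVars false
set_option linter.unusedVariables false

namespace Cfsg.Agent.Helper25

open Cfsg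

variable {G : Type*} [Group G] {S : Set (Subgroup G)}

section Special

variable {T B A : Subgroup G} (hS : IsRootSubgroupSet S) (hT : T ∈ S) (hB : B ∈ S)
  (hD : ⁅T, B⁆ ∈ S) (hA : A ∈ S) (hAD : ⁅A, ⁅T, B⁆⁆ = T)

include hS hT hB hD hA hAD

/-- The key relation `b⁻¹ [a,d] b = [a,d] d⁻¹` (`β α = 1`). -/
theorem special_rel {a b : G} (ha : a ∈ A) (hb : b ∈ B)
    (hab : conjBy A b⁻¹ = conjBy B a⁻¹) {d : G} (hd : d ∈ ⁅T, B⁆) :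
    b⁻¹ * (a * d * a⁻¹ * d⁻¹) * b = (a * d * a⁻¹ * d⁻¹) * d⁻¹ := by
  have hc₁ := opp_cc1 hS hT hB hD hA hAD
  have hAT := opp_comm_DA hS hT hB hD hA hAD
  have hTD := opp_comm_AC hS hT hB hD hA hAD
  have hinf := opp_inf hS hT hB hD hA hAD
  have hkey : conjBy ⁅T, B⁆ a⁻¹ = conjBy T b⁻¹ := opp_key hS hT hB hD hA hAD hb ha hab.symm
  have ht : a * d * a⁻¹ * d⁻¹ ∈ T := opp_comm_mem hS hT hB hD hA hAD ha hd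
  -- `s = a⁻¹ d a d⁻¹ = t⁻¹`
  have hs : a⁻¹ * d * a * d⁻¹ = (a * d * a⁻¹ * d⁻¹)⁻¹ := by
    have h1 := hAT a⁻¹ (A.inv_mem ha) _ ht
    have e : a⁻¹ * d * a * d⁻¹ = a⁻¹ * (a * d * a⁻¹ * d⁻¹)⁻¹ * a := by group
    rw [e]
    have h2 : Commute a⁻¹ (a * d * a⁻¹ * d⁻¹)⁻¹ := (show Commute a⁻¹ _ from h1).inv_right
    rw [h2.eq]; group
  -- `a⁻¹ d a ∈ b⁻¹ T b`
  have hmem : a⁻¹ * d * a⁻¹⁻¹ ∈ conjBy T b⁻¹ := by rw [← hkey]; exact conj_mem_conjBy hd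
  rw [mem_conjBy_iff] at hmem
  -- t₁ := b (a⁻¹ d a) b⁻¹ ∈ T
  set t₁ := b⁻¹⁻¹ * (a⁻¹ * d * a⁻¹⁻¹) * b⁻¹ with ht₁
  have he : b⁻¹ * t₁ * b⁻¹⁻¹ * t₁⁻¹ ∈ ⁅T, B⁆ := cc_comm_mem' hmem (B.inv_mem hb)
  have hdecomp : (a * d * a⁻¹ * d⁻¹)⁻¹ * d = t₁ * (b⁻¹ * t₁ * b⁻¹⁻¹ * t₁⁻¹) := by
    have h1 : (a * d * a⁻¹ * d⁻¹)⁻¹ * d = b⁻¹ * t₁ * b⁻¹⁻¹ := by rw [← hs, ht₁]; group
    rw [h1]
    have h2 := hTD t₁ hmem _ he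
    rw [h2]; group
  -- uniqueness of the decomposition in `T × D`
  have hTinv : (a * d * a⁻¹ * d⁻¹)⁻¹ ∈ T := T.inv_mem ht
  have hx : t₁⁻¹ * (a * d * a⁻¹ * d⁻¹)⁻¹ ∈ T ⊓ ⁅T, B⁆ := by
    refine Subgroup.mem_inf.mpr ⟨T.mul_mem (T.inv_mem hmem) hTinv, ?_⟩
    have e : t₁⁻¹ * (a * d * a⁻¹ * d⁻¹)⁻¹ = (b⁻¹ * t₁ * b⁻¹⁻¹ * t₁⁻¹) * d⁻¹ := by
      have h3 : (a * d * a⁻¹ * d⁻¹)⁻¹ = t₁ * (b⁻¹ * t₁ * b⁻¹⁻¹ * t₁⁻¹) * d⁻¹ := by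
        rw [← hdecomp]; group
      rw [h3]; group
    rw [e]
    exact Subgroup.mul_mem _ he (Subgroup.inv_mem _ hd)
  rw [hinf, Subgroup.mem_bot] at hx
  have ht₁eq : t₁ = (a * d * a⁻¹ * d⁻¹)⁻¹ := inv_mul_eq_one.mp hx
  -- so `b⁻¹ t⁻¹ b = t⁻¹ d`
  have h4 : b⁻¹ * (a * d * a⁻¹ * d⁻¹)⁻¹ * b = (a * d * a⁻¹ * d⁻¹)⁻¹ * d := by
    have h1 : (a * d * a⁻¹ * d⁻¹)⁻¹ * d = b⁻¹ * t₁ * b⁻¹⁻¹ := by rw [← hs, ht₁]; group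
    rw [h1, ht₁eq]; group
  have h5 : b⁻¹ * (a * d * a⁻¹ * d⁻¹) * b = (b⁻¹ * (a * d * a⁻¹ * d⁻¹)⁻¹ * b)⁻¹ := by group
  rw [h5, h4]
  have h6 := hTD _ ht d⁻¹ (Subgroup.inv_mem _ hd)
  rw [h6]; group

/-- Timmesfeld II (2.12): the rank one pair `(A, B)` acting on a natural module is special. -/
theorem special_eq {a b : G} (ha : a ∈ A) (ha1 : a ≠ 1) (hb : b ∈ B) (hb1 : b ≠ 1)
    (hab : conjBy A b⁻¹ = conjBy B a⁻¹) : b⁻¹ * a * b = a⁻¹ * b⁻¹ * a := by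
  have hc₁ := opp_cc1 hS hT hB hD hA hAD
  have hc₂ := opp_cc2 hS hT hB hD hA hAD
  have hBA : IsRankOnePair B A := opp_rankOne hS hT hB hD hA hAD
  have hAT := opp_comm_DA hS hT hB hD hA hAD
  have hTD := opp_comm_AC hS hT hB hD hA hAD
  have hBD : ∀ b ∈ B, ∀ d ∈ ⁅T, B⁆, b * d = d * b := fun b hb d hd =>
    cc_central_right hc₁ hb hd
  have hkey : conjBy ⁅T, B⁆ a⁻¹ = conjBy T b⁻¹ := opp_key hS hT hB hD hA hAD hb ha hab.symm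
  have hrel : ∀ d ∈ ⁅T, B⁆, b⁻¹ * (a * d * a⁻¹ * d⁻¹) * b = (a * d * a⁻¹ * d⁻¹) * d⁻¹ :=
    fun d hd => special_rel hS hT hB hD hA hAD ha hb hab hd
  have hbi : b⁻¹ ∈ B := B.inv_mem hb
  have hai : a⁻¹ ∈ A := A.inv_mem ha
  have e1' : ∀ d ∈ ⁅T, B⁆, b⁻¹ * d * b = d := by
    intro d hd
    rw [hBD b⁻¹ hbi d hd]; group
  have e1 : ∀ d ∈ ⁅T, B⁆, b * d * b⁻¹ = d := by
    intro d hd
    rw [hBD b hb d hd]; group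
  have h1 : ∀ d ∈ ⁅T, B⁆, (b⁻¹ * a * b) * d * (b⁻¹ * a * b)⁻¹ = a * d * a⁻¹ * d⁻¹ := by
    intro d hd
    calc (b⁻¹ * a * b) * d * (b⁻¹ * a * b)⁻¹ = b⁻¹ * a * (b * d * b⁻¹) * a⁻¹ * b := by group
      _ = b⁻¹ * a * d * a⁻¹ * b := by rw [e1 d hd]
      _ = (b⁻¹ * (a * d * a⁻¹ * d⁻¹) * b) * (b⁻¹ * d * b) := by group
      _ = ((a * d * a⁻¹ * d⁻¹) * d⁻¹) * d := by rw [hrel d hd, e1' d hd]
      _ = a * d * a⁻¹ * d⁻¹ := by group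
  have h2 : ∀ d ∈ ⁅T, B⁆, (a⁻¹ * b⁻¹ * a) * d * (a⁻¹ * b⁻¹ * a)⁻¹ = a * d * a⁻¹ * d⁻¹ := by
    intro d hd
    have ht : a * d * a⁻¹ * d⁻¹ ∈ T := opp_comm_mem hS hT hB hD hA hAD ha hd
    calc (a⁻¹ * b⁻¹ * a) * d * (a⁻¹ * b⁻¹ * a)⁻¹
        = a⁻¹ * ((b⁻¹ * (a * d * a⁻¹ * d⁻¹) * b) * (b⁻¹ * d * b)) * a := by group
      _ = a⁻¹ * (((a * d * a⁻¹ * d⁻¹) * d⁻¹) * d) * a := by rw [hrel d hd, e1' d hd]
      _ = a⁻¹ * (a * d * a⁻¹ * d⁻¹) * a := by group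
      _ = a * d * a⁻¹ * d⁻¹ := by rw [hAT a⁻¹ hai _ ht]; group
  -- `h = g₁⁻¹ g₂` centralizes `D`
  have hDc : ∀ d ∈ ⁅T, B⁆,
      ((b⁻¹ * a * b)⁻¹ * (a⁻¹ * b⁻¹ * a)) * d = d * ((b⁻¹ * a * b)⁻¹ * (a⁻¹ * b⁻¹ * a)) := by
    intro d hd
    calc ((b⁻¹ * a * b)⁻¹ * (a⁻¹ * b⁻¹ * a)) * d
        = (b⁻¹ * a * b)⁻¹ * ((a⁻¹ * b⁻¹ * a) * d * (a⁻¹ * b⁻¹ * a)⁻¹) * (a⁻¹ * b⁻¹ * a) := by
          group
      _ = (b⁻¹ * a * b)⁻¹ * ((b⁻¹ * a * b) * d * (b⁻¹ * a * b)⁻¹) * (a⁻¹ * b⁻¹ * a) := by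
          rw [h2 d hd, h1 d hd]
      _ = d * ((b⁻¹ * a * b)⁻¹ * (a⁻¹ * b⁻¹ * a)) := by group
  -- `h` centralizes `T' = b⁻¹ T b = a⁻¹ D a`
  have hT' : ∀ x ∈ conjBy T b⁻¹,
      ((b⁻¹ * a * b)⁻¹ * (a⁻¹ * b⁻¹ * a)) * x = x * ((b⁻¹ * a * b)⁻¹ * (a⁻¹ * b⁻¹ * a)) := by
    intro x hx
    have hx2 : x ∈ conjBy ⁅T, B⁆ a⁻¹ := by rw [hkey]; exact hx
    rw [mem_conjBy_iff] at hx hx2
    have c1 : Commute (b⁻¹ * a * b) x := by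
      have := hAT a ha _ hx
      show b⁻¹ * a * b * x = x * (b⁻¹ * a * b)
      calc b⁻¹ * a * b * x = b⁻¹ * (a * (b⁻¹⁻¹ * x * b⁻¹)) * b := by group
        _ = b⁻¹ * ((b⁻¹⁻¹ * x * b⁻¹) * a) * b := by rw [this]
        _ = x * (b⁻¹ * a * b) := by group
    have c2 : Commute (a⁻¹ * b⁻¹ * a) x := by
      have := hBD b⁻¹ hbi _ hx2
      show a⁻¹ * b⁻¹ * a * x = x * (a⁻¹ * b⁻¹ * a)
      calc a⁻¹ * b⁻¹ * a * x = a⁻¹ * (b⁻¹ * (a⁻¹⁻¹ * x * a⁻¹)) * a := by group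
        _ = a⁻¹ * ((a⁻¹⁻¹ * x * a⁻¹) * b⁻¹) * a := by rw [this]
        _ = x * (a⁻¹ * b⁻¹ * a) := by group
    exact (c1.inv_left.mul_left c2).eq
  -- `h` centralizes `T`
  have hTc : ∀ t ∈ T,
      ((b⁻¹ * a * b)⁻¹ * (a⁻¹ * b⁻¹ * a)) * t = t * ((b⁻¹ * a * b)⁻¹ * (a⁻¹ * b⁻¹ * a)) := by
    intro t ht
    have ht' : t ∈ ⁅A, ⁅T, B⁆⁆ := by rw [hAD]; exact ht
    obtain ⟨d, hd, hdt⟩ := cc_exists_right hc₂ ha ha1 ht'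
    have hr := hrel d hd
    rw [hdt] at hr
    have hmem : b⁻¹ * t * b ∈ conjBy T b⁻¹ := by
      have := conj_mem_conjBy (A := T) (g := b⁻¹) ht
      rwa [inv_inv] at this
    have c1 : Commute ((b⁻¹ * a * b)⁻¹ * (a⁻¹ * b⁻¹ * a)) (b⁻¹ * t * b) := hT' _ hmem
    have c2 : Commute ((b⁻¹ * a * b)⁻¹ * (a⁻¹ * b⁻¹ * a)) d := hDc d hd
    have e : t = (b⁻¹ * t * b) * d := by rw [hr]; group
    have c3 := c1.mul_right c2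
    rw [← e] at c3
    exact c3.eq
  have hcent : (b⁻¹ * a * b)⁻¹ * (a⁻¹ * b⁻¹ * a) ∈
      Subgroup.centralizer ((T ⊔ ⁅T, B⁆ : Subgroup G) : Set G) := mem_centralizer_sup hTc hDc
  have haX : a ∈ B ⊔ A := Subgroup.mem_sup_right ha
  have hbX : b ∈ B ⊔ A := Subgroup.mem_sup_left hb
  have hX : (b⁻¹ * a * b)⁻¹ * (a⁻¹ * b⁻¹ * a) ∈ B ⊔ A := by
    refine Subgroup.mul_mem _ (Subgroup.inv_mem _ ?_) ?_
    · exact Subgroup.mul_mem _ (Subgroup.mul_mem _ (Subgroup.inv_mem _ hbX) haX) hbX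
    · exact Subgroup.mul_mem _ (Subgroup.mul_mem _ (Subgroup.inv_mem _ haX)
        (Subgroup.inv_mem _ hbX)) haX
  have hcen := opp_central hS hT hB hD hA hAD _ (Subgroup.mem_inf.mpr ⟨hX, hcent⟩)
  -- `h ∈ b⁻¹ A b`
  have hg₁ : b⁻¹ * a * b ∈ conjBy A b⁻¹ := by
    have := conj_mem_conjBy (A := A) (g := b⁻¹) ha
    rwa [inv_inv] at this
  have hg₂ : a⁻¹ * b⁻¹ * a ∈ conjBy A b⁻¹ := by
    rw [hab]
    have := conj_mem_conjBy (A := B) (g := a⁻¹) hbi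
    rwa [inv_inv] at this
  have hhR : (b⁻¹ * a * b)⁻¹ * (a⁻¹ * b⁻¹ * a) ∈ conjBy A b⁻¹ :=
    Subgroup.mul_mem _ (Subgroup.inv_mem _ hg₁) hg₂
  have hhN : (b⁻¹ * a * b)⁻¹ * (a⁻¹ * b⁻¹ * a) ∈ Subgroup.normalizer (A : Set G) :=
    conjBy_eq_self_iff.mp (conjBy_eq_self_of_commute
      (fun x hx => hcen x (Subgroup.mem_sup_right hx)))
  have hAB : IsRankOnePair A B := RankOnePair_symm hBA
  have hne : conjBy A b⁻¹ ≠ A := by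
    intro h
    have hn : b⁻¹ ∈ Subgroup.normalizer (A : Set G) := conjBy_eq_self_iff.mp h
    have := rankOne_eq_one_of_normalizes hBA hbi hn
    exact hb1 (inv_eq_one.mp this)
  have hbot := rankOne_unipotent_inf_normalizer hAB
    (⟨b⁻¹, Subgroup.mem_sup_right hbi, rfl⟩ : conjBy A b⁻¹ ∈ unipotentSubgroups A B)
    (rankOne_left_mem_unipotent A B) hne
  have h1' : (b⁻¹ * a * b)⁻¹ * (a⁻¹ * b⁻¹ * a) ∈
      conjBy A b⁻¹ ⊓ Subgroup.normalizer (A : Set G) := Subgroup.mem_inf.mpr ⟨hhR, hhN⟩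
  rw [hbot, Subgroup.mem_bot] at h1'
  exact inv_mul_eq_one.mp h1'

end Special

theorem root_class_exists_rankOne (hS : IsRootSubgroupClass S) (hnd : IsNondegenerateRootSet S) :
    ∀ A ∈ S, ∃ E ∈ S, IsRankOnePair A E := by
  obtain ⟨hS, -, hconj⟩ := hS
  obtain ⟨-, ⟨A₁, hA₁, B₁, hB₁, hAB₁⟩, -⟩ := hnd
  intro A hA
  obtain ⟨g, rfl⟩ := hconj A₁ hA₁ A hA
  exact ⟨conjBy B₁ g, hS.conj_mem B₁ hB₁ g, rankOnePair_conjBy hAB₁ g⟩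

theorem root_class_exists_linePartner (hS : IsRootSubgroupClass S)
    (hnd : IsNondegenerateRootSet S) : ∀ A ∈ S, ∃ C ∈ S, C ∈ linePartners S A := by
  have hF := root_class_exists_rankOne hS hnd
  obtain ⟨hS, -, hconj⟩ := hS
  obtain ⟨-, -, ⟨A₀, hA₀, B₀, hB₀, hc₀⟩⟩ := hnd
  intro A hA
  obtain ⟨E₀, hE₀, hAE₀⟩ := hF A₀ hA₀
  have h0 : A₀ ∈ linePartners S ⁅A₀, B₀⁆ := cc_linePartner hS hA₀ hc₀ hE₀ hAE₀
  obtain ⟨g, rfl⟩ := hconj _ hc₀.1 A hA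
  exact ⟨conjBy A₀ g, hS.conj_mem A₀ hA₀ g, linePartners_conj hS h0 g⟩

/-- Timmesfeld II (2.14): in a non-degenerate class every rank one pair is special, and some
line partner of `A` is a commutator partner of `B`. -/
theorem root_special (hS : IsRootSubgroupClass S) (hnd : IsNondegenerateRootSet S)
    {A B : Subgroup G} (hA : A ∈ S) (hB : B ∈ rankOnePartners S A) :
    (∃ C ∈ linePartners S A, C ∈ commutatorPartners S B) ∧ IsSpecialRankOnePair A B := by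
  have hF := root_class_exists_rankOne hS hnd
  have hΛ := root_class_exists_linePartner hS hnd
  obtain ⟨hS', -, hconj⟩ := hS
  obtain ⟨hBS, hAB⟩ := hB
  obtain ⟨C₁, -, hC₁⟩ := hΛ A hA
  obtain ⟨T, hT, hTA, hc⟩ := line_exists_cc hS' hA hBS hAB hC₁
  obtain ⟨K, hK, hTK⟩ := hF T hT.1
  obtain ⟨hc2, heq, hsup⟩ := line_data hS' hA hBS hAB hC₁ hT hTA hc hK hTK
  have hcomm := line_comm hS' hA hBS hAB hC₁
  have hTΛ : T ∈ linePartners S A := by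
    refine ⟨⟨hT.1, hTA, ?_⟩, ?_⟩
    · rw [root_commutator_eq_bot_iff]
      intro x hx y hy
      exact hcomm x (Subgroup.mem_sup_left hx) y (hT.2 hy)
    · rw [hsup]; exact hC₁.2
  refine ⟨⟨T, hTΛ, hT.1, hc.1⟩, hAB, ?_⟩
  intro a ha ha1 b hb hb1 hab
  have hD : ⁅T, B⁆ ∈ S := by rw [Subgroup.commutator_comm]; exact hc.1
  have hAD : ⁅A, ⁅T, B⁆⁆ = T := by rw [Subgroup.commutator_comm T B]; exact heq
  exact special_eq hS' hT.1 hBS hD hA hAD ha ha1 hb hb1 hab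

end Cfsg.Agent.Helper25
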