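import Cfsg.Agent.Helper13.S5072Defs

set_option autoImplicit false
set_option linter.unusedSectionVars false

/-! S5072 piece TID: an isometry fixing `⟨p, r⟩^⊥` pointwise is a Siegel element `El h c`;
hence `TT p r = {El h c}`. -/

namespace Cfsg.Agent.S5072P

open Matrix Cfsg Cfsg.Agent.Helper28.Sg Cfsg.Agent.Helper28.Spin Cfsg.Agent.Helper28.QPlus
  Cfsg.Agent.Helper28.IsoTransport

variable {F : Type*} [Field F] {m : ℕ}

namespace TID

set_option maxHeartbeats 3200000 in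
/-- a generator of `TT p r` is a Siegel element -/
theorem gen_eq_El {p r : Vm (m + 3) F} (h : SP p r) (σ : GOp m F)
    (hσ : ∀ v : Vm (m + 3) F, B (QfPlus (m + 3) F) v p = 0 → B (QfPlus (m + 3) F) v r = 0 →
      mt (QfPlus (m + 3) F) σ *ᵥ v = v) : ∃ c : F, σ = El h c := by
  obtain ⟨p', r', hf, h11, h12, h21, h22⟩ := h.exists_dual
  have h11' : B (QfPlus (m + 3) F) p' p = 1 := by rw [B_comm]; exact h11
  have h12' : B (QfPlus (m + 3) F) r' p = 0 := by rw [B_comm]; exact h12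
  have h21' : B (QfPlus (m + 3) F) p' r = 0 := by rw [B_comm]; exact h21
  have h22' : B (QfPlus (m + 3) F) r' r = 1 := by rw [B_comm]; exact h22
  have hpr := h.pr; have hrp := h.rp; have hpp := h.pp; have hrr := h.rr
  have hfpr := hf.pr; have hfrp := hf.rp; have hfpp := hf.pp; have hfrr := hf.rr
  simp only [B] at h11 h12 h21 h22 h11' h12' h21' h22' hpr hrp hpp hrr hfpr hfrp hfpp hfrr
  -- the component of `v` in `⟨p, r⟩^⊥`
  have hdec : ∀ v : Vm (m + 3) F,
      B (QfPlus (m + 3) F) (v - B (QfPlus (m + 3) F) p v • p' - B (QfPlus (m + 3) F) r v • r') p = 0 ∧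
      B (QfPlus (m + 3) F) (v - B (QfPlus (m + 3) F) p v • p' - B (QfPlus (m + 3) F) r v • r') r = 0 := by
    intro v
    constructor
    · simp only [B, QuadraticMap.polar_sub_left, QuadraticMap.polar_smul_left, smul_eq_mul,
        h11', h12']
      rw [QuadraticMap.polar_comm _ v p]; ring
    · simp only [B, QuadraticMap.polar_sub_left, QuadraticMap.polar_smul_left, smul_eq_mul,
        h21', h22']
      rw [QuadraticMap.polar_comm _ v r]; ring
  obtain ⟨a, ha⟩ : ∃ a : Vm (m + 3) F, a = mt (QfPlus (m + 3) F) σ *ᵥ p' - p' := ⟨_, rfl⟩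
  obtain ⟨b, hb⟩ : ∃ b : Vm (m + 3) F, b = mt (QfPlus (m + 3) F) σ *ᵥ r' - r' := ⟨_, rfl⟩
  -- the action of `σ` in terms of `a`, `b`
  have hact : ∀ v : Vm (m + 3) F, mt (QfPlus (m + 3) F) σ *ᵥ v
      = v + B (QfPlus (m + 3) F) p v • a + B (QfPlus (m + 3) F) r v • b := by
    intro v
    have h0 := hσ _ (hdec v).1 (hdec v).2
    rw [Matrix.mulVec_sub, Matrix.mulVec_sub, Matrix.mulVec_smul, Matrix.mulVec_smul] at h0
    rw [ha, hb]
    have : mt (QfPlus (m + 3) F) σ *ᵥ v = v - B (QfPlus (m + 3) F) p v • p'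
        - B (QfPlus (m + 3) F) r v • r' + B (QfPlus (m + 3) F) p v • mt (QfPlus (m + 3) F) σ *ᵥ p'
        + B (QfPlus (m + 3) F) r v • mt (QfPlus (m + 3) F) σ *ᵥ r' := by
      rw [← h0]; abel
    rw [this, smul_sub, smul_sub]; abel
  -- `a` and `b` are orthogonal to `⟨p, r⟩^⊥`
  have horth : ∀ (w : Vm (m + 3) F), ∀ y : Vm (m + 3) F, B (QfPlus (m + 3) F) y p = 0 →
      B (QfPlus (m + 3) F) y r = 0 →
      B (QfPlus (m + 3) F) (mt (QfPlus (m + 3) F) σ *ᵥ w - w) y = 0 := by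
    intro w y hyp hyr
    have h1 : B (QfPlus (m + 3) F) (mt (QfPlus (m + 3) F) σ *ᵥ w) y = B (QfPlus (m + 3) F) w y := by
      have h2 := B_isom (QfPlus (m + 3) F) σ w y
      rwa [hσ y hyp hyr] at h2
    simp only [B, QuadraticMap.polar_sub_left] at h1 ⊢
    rw [h1, sub_self]
  -- a vector orthogonal to `⟨p,r⟩^⊥`, `p'`, `r'` vanishes
  have hzero : ∀ z : Vm (m + 3) F, (∀ y : Vm (m + 3) F, B (QfPlus (m + 3) F) y p = 0 →
      B (QfPlus (m + 3) F) y r = 0 → B (QfPlus (m + 3) F) z y = 0) →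
      B (QfPlus (m + 3) F) z p' = 0 → B (QfPlus (m + 3) F) z r' = 0 → z = 0 := by
    intro z hz1 hz2 hz3
    apply (nondegP (F := F) m).1 z
    intro v
    show B (QfPlus (m + 3) F) z v = 0
    have h0 := hz1 _ (hdec v).1 (hdec v).2
    simp only [B, QuadraticMap.polar_sub_right, QuadraticMap.polar_smul_right, smul_eq_mul] at h0 hz2 hz3 ⊢
    rw [hz2, hz3, mul_zero, mul_zero, sub_zero, sub_zero] at h0
    exact h0
  -- hence `w ∈ ⟨p, r⟩` for `w = a, b`
  have hspan : ∀ w : Vm (m + 3) F, mt (QfPlus (m + 3) F) σ *ᵥ w - w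
      = B (QfPlus (m + 3) F) (mt (QfPlus (m + 3) F) σ *ᵥ w - w) p' • p
        + B (QfPlus (m + 3) F) (mt (QfPlus (m + 3) F) σ *ᵥ w - w) r' • r := by
    intro w
    obtain ⟨d, hd⟩ : ∃ d : Vm (m + 3) F, d = mt (QfPlus (m + 3) F) σ *ᵥ w - w := ⟨_, rfl⟩
    rw [← hd]
    have : d - B (QfPlus (m + 3) F) d p' • p - B (QfPlus (m + 3) F) d r' • r = 0 := by
      apply hzero
      · intro y hyp hyr
        have h1 := horth w y hyp hyr
        rw [← hd] at h1
        have hyp' : QuadraticMap.polar ⇑(QfPlus (m + 3) F) p y = 0 := by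
          rw [QuadraticMap.polar_comm]; exact hyp
        have hyr' : QuadraticMap.polar ⇑(QfPlus (m + 3) F) r y = 0 := by
          rw [QuadraticMap.polar_comm]; exact hyr
        simp only [B, QuadraticMap.polar_sub_left, QuadraticMap.polar_smul_left, smul_eq_mul] at h1 ⊢
        rw [h1, hyp', hyr']; ring
      · simp only [B, QuadraticMap.polar_sub_left, QuadraticMap.polar_smul_left, smul_eq_mul,
          h11, h21]
        ring
      · simp only [B, QuadraticMap.polar_sub_left, QuadraticMap.polar_smul_left, smul_eq_mul,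
          h12, h22]
        ring
    have h2 : d = d - B (QfPlus (m + 3) F) d p' • p - B (QfPlus (m + 3) F) d r' • r
        + (B (QfPlus (m + 3) F) d p' • p + B (QfPlus (m + 3) F) d r' • r) := by abel
    rw [this, zero_add] at h2
    exact h2
  obtain ⟨α₁, β₁, hab1⟩ : ∃ α₁ β₁ : F, a = α₁ • p + β₁ • r := ⟨_, _, ha.trans (hspan p')⟩
  obtain ⟨α₂, β₂, hab2⟩ : ∃ α₂ β₂ : F, b = α₂ • p + β₂ • r := ⟨_, _, hb.trans (hspan r')⟩
  have hσp' : mt (QfPlus (m + 3) F) σ *ᵥ p' = p' + (α₁ • p + β₁ • r) := by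
    rw [← hab1, ha]; abel
  have hσr' : mt (QfPlus (m + 3) F) σ *ᵥ r' = r' + (α₂ • p + β₂ • r) := by
    rw [← hab2, hb]; abel
  -- `Q (σ p') = Q p'` forces `α₁ = 0`
  have e1 : α₁ = 0 := by
    have h1 := isom_apply (QfPlus (m + 3) F) σ p'
    rw [hσp', Cfsg.Agent.Helper28.Sg.Q_add, hf.qp, Q_lin2, h.qp, h.qr] at h1
    simp only [B, QuadraticMap.polar_add_right, QuadraticMap.polar_smul_right, smul_eq_mul,
      hpr, h11', h21'] at h1
    linear_combination h1
  have e2 : β₂ = 0 := by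
    have h1 := isom_apply (QfPlus (m + 3) F) σ r'
    rw [hσr', Cfsg.Agent.Helper28.Sg.Q_add, hf.qr, Q_lin2, h.qp, h.qr] at h1
    simp only [B, QuadraticMap.polar_add_right, QuadraticMap.polar_smul_right, smul_eq_mul,
      hpr, h12', h22'] at h1
    linear_combination h1
  have e3 : α₂ = -β₁ := by
    have h1 := B_isom (QfPlus (m + 3) F) σ p' r'
    rw [hσp', hσr'] at h1
    simp only [B, QuadraticMap.polar_add_right, QuadraticMap.polar_smul_right,
      QuadraticMap.polar_add_left, QuadraticMap.polar_smul_left, smul_eq_mul,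
      hpr, hrp, hpp, hrr, h12, h22, h11', h21', hfpr] at h1
    linear_combination h1
  refine ⟨β₁, ?_⟩
  apply O_ext
  intro v
  rw [hact v, El_mulVec, hab1, hab2, e1, e2, e3]
  module

end TID

theorem mem_TT {p r : Vm (m + 3) F} (h : SP p r) (g : GOp m F) :
    g ∈ TT p r ↔ ∃ c : F, g = El h c := by
  constructor
  · intro hg
    unfold TT at hg
    induction hg using Subgroup.closure_induction with
    | mem x hx => exact TID.gen_eq_El h x hx
    | one => exact ⟨0, (El_zero h).symm⟩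
    | mul x y _ _ hx hy =>
      obtain ⟨c, rfl⟩ := hx
      obtain ⟨d, rfl⟩ := hy
      exact ⟨c + d, El_add h c d⟩
    | inv x _ hx =>
      obtain ⟨c, rfl⟩ := hx
      exact ⟨-c, El_inv h c⟩
  · rintro ⟨c, rfl⟩
    apply Subgroup.subset_closure
    intro v hvp hvr
    rw [El_mulVec, B_comm _ p v, B_comm _ r v, hvp, hvr]
    simp

end Cfsg.Agent.S5072P
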