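import Cfsg.Agent.Helper29.S5677.Defs
import Cfsg.Agent.Helper29.S5677.Defs2
import Cfsg.Agent.Helper22.S5677STAB

/-! # S5677 piece LINKCONJ (helper25): links are permuted by `HS D`. -/

set_option autoImplicit false
set_option linter.unusedSectionVars false
set_option linter.unusedVariables false

namespace Cfsg.Agent.S5677P

open Matrix Cfsg.Agent.Helper28.Sg Cfsg.Agent.Helper28.Spin Cfsg.Agent.Helper12.OrthGen
  Cfsg.Agent.S2614 Cfsg.Agent.S5683P Cfsg.Agent.Helper28.NDM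

variable {F : Type*} [Field F] [Fintype F] {m t k : ℕ} {D : Fin t → Submodule F (Idx m → F)}
  {M : Subgroup (OG m F)}

namespace LINKCONJ

/-- transport of `Lsub` by an element of `M` -/
theorem Lsub_map {u : Idx m → F} (hu : QfOdd m F u = 0) {g : OG m F} (hg : g ∈ M)
    {u' : Idx m → F} (hu' : QfOdd m F u' = 0) (hgu : mt (QfOdd m F) g *ᵥ u = u')
    {w : Idx m → F} (hw : w ∈ Lsub M u hu) : mt (QfOdd m F) g *ᵥ w ∈ Lsub M u' hu' := by
  subst hgu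
  obtain ⟨h1, h2⟩ := hw
  have hB : B (QfOdd m F) (mt (QfOdd m F) g *ᵥ u) (mt (QfOdd m F) g *ᵥ w) = 0 := by
    rw [B_isom]; exact h1
  refine ⟨hB, fun s h => ?_⟩
  have hk : B (QfOdd m F) u (s • w) = 0 := B_smul_right_zero (QfOdd m F) s h1
  have huv' : B (QfOdd m F) (mt (QfOdd m F) g *ᵥ u) (mt (QfOdd m F) g *ᵥ (s • w)) = 0 := by
    rw [B_isom]; exact hk
  have hconj := siegO_conj (QfOdd m F) g hu hk hu' huv'
  have hmem : g * siegO (QfOdd m F) u (s • w) hu hk * g⁻¹ ∈ M :=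
    M.mul_mem (M.mul_mem hg (h2 s hk)) (M.inv_mem hg)
  rw [hconj] at hmem
  rw [siegO_congr (QfOdd m F) hu' h hu' huv' rfl (by rw [Matrix.mulVec_smul])]
  exact hmem

theorem mulVec_ne_zero (g : OG m F) {x : Idx m → F} (hx : x ≠ 0) :
    mt (QfOdd m F) g *ᵥ x ≠ 0 := by
  intro h
  apply hx
  have := mt_inv_mulVec (QfOdd m F) g x
  rw [h, Matrix.mulVec_zero] at this
  exact this.symm

theorem Q_inv (g : OG m F) (x : Idx m → F) :
    QfOdd m F (mt (QfOdd m F) g⁻¹ *ᵥ x) = QfOdd m F x :=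
  isom_apply (QfOdd m F) g⁻¹ x

end LINKCONJ

/-- links are permuted by `HS D` (`Rad_conj'`/`siegO_conj` with `g ∈ HS D ≤ M`) -/
theorem LINKCONJ.map (hD : HD k D) (hHM : HS D ≤ M) {g : OG m F} (hg : g ∈ HS D)
    (σ : Equiv.Perm (Fin t)) (hσ : ∀ i, ∀ x, x ∈ D i ↔ mt (QfOdd m F) g *ᵥ x ∈ D (σ i))
    {c b : Fin t} (h : Link M D c b) : Link M D (σ c) (σ b) := by
  intro u' hu' hu'0 hQu' x' hx'
  have hgM : g ∈ M := hHM hg
  -- pull back
  have e1 : mt (QfOdd m F) g *ᵥ (mt (QfOdd m F) g⁻¹ *ᵥ u') = u' := mt_mulVec_inv (QfOdd m F) g u'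
  have e2 : mt (QfOdd m F) g *ᵥ (mt (QfOdd m F) g⁻¹ *ᵥ x') = x' := mt_mulVec_inv (QfOdd m F) g x'
  have hu : mt (QfOdd m F) g⁻¹ *ᵥ u' ∈ D c := (hσ c _).2 (by rw [e1]; exact hu')
  have hx : mt (QfOdd m F) g⁻¹ *ᵥ x' ∈ D b := (hσ b _).2 (by rw [e2]; exact hx')
  have hu0 : mt (QfOdd m F) g⁻¹ *ᵥ u' ≠ 0 := LINKCONJ.mulVec_ne_zero g⁻¹ hu'0
  have hQu : QfOdd m F (mt (QfOdd m F) g⁻¹ *ᵥ u') = 0 := by
    rw [LINKCONJ.Q_inv]; exact hQu'
  have := LINKCONJ.Lsub_map hQu hgM hQu' e1 (h _ hu hu0 hQu hx)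
  rwa [e2] at this

/-- ... in the form delivered by CYC3.exists -/
theorem LINKCONJ.map' (hD : HD k D) (hHM : HS D ≤ M) {g : OG m F} (hg : g ∈ HS D)
    {c b c₁ b₁ : Fin t} (hc : ∀ x ∈ D c, mt (QfOdd m F) g *ᵥ x ∈ D c₁)
    (hb : ∀ x ∈ D b, mt (QfOdd m F) g *ᵥ x ∈ D b₁) (h : Link M D c b) : Link M D c₁ b₁ := by
  obtain ⟨σ, hσ⟩ := STAB.perm hD (mem_HS.1 hg).1
  have key : ∀ i j : Fin t, (∀ x ∈ D i, mt (QfOdd m F) g *ᵥ x ∈ D j) → σ i = j := by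
    intro i j hij
    have hne : D i ≠ ⊥ := by
      intro hbot
      have := hD.rank i
      rw [hbot, finrank_bot] at this
      have := hD.k3
      omega
    obtain ⟨x, hx, hx0⟩ := Submodule.exists_mem_ne_zero_of_ne_bot hne
    by_contra hne'
    have hdis : Disjoint (D (σ i)) (D j) := hD.indep.pairwiseDisjoint hne'
    exact LINKCONJ.mulVec_ne_zero g hx0
      (Submodule.disjoint_def.1 hdis _ ((hσ i x).1 hx) (hij x hx))
  have h1 := LINKCONJ.map hD hHM hg σ hσ h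
  rwa [key c c₁ hc, key b b₁ hb] at h1
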