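import Mathlib

set_option autoImplicit false

/-!
# Piece (C') of S4118: coprime subgroups of the centralizer of a Hall TI-subgroup lie in `O`

`centralizer_coprime_le`: if `|H|` is coprime to `|N(H) : H|`, `O` is the largest normal subgroup
of order coprime to `|H|` and `G = O N(H)`, then every subgroup of `C_G(H)` of order coprime to
`|H|` lies in `O`.
-/

namespace Cfsg.Agent.Helper25.TIHallC

variable {G : Type*} [Group G] [Finite G]

/-- A subgroup whose order is coprime to the index of a normal subgroup lies in it. -/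
theorem le_of_coprime_index' {X : Type*} [Group X] [Finite X] (N K : Subgroup X) [N.Normal]
    (hcop : (Nat.card K).Coprime N.index) : K ≤ N := by
  have h1 : Nat.card (K.map (QuotientGroup.mk' N)) ∣ Nat.card K := Subgroup.card_map_dvd _ _
  have h2 : Nat.card (K.map (QuotientGroup.mk' N)) ∣ N.index := by
    rw [Subgroup.index_eq_card]
    exact Subgroup.card_subgroup_dvd_card _
  have h3 : Nat.card (K.map (QuotientGroup.mk' N)) = 1 :=
    Nat.eq_one_of_dvd_coprimes hcop h1 h2
  have h4 := Subgroup.eq_bot_of_card_eq _ h3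
  rw [Subgroup.map_eq_bot_iff, QuotientGroup.ker_mk'] at h4
  exact h4

/-- The order of `A ⊔ K` divides `|A| * |K|` when `K` is normal. -/
theorem card_sup_dvd_mul' {X : Type*} [Group X] (A K : Subgroup X) [K.Normal] :
    Nat.card (A ⊔ K : Subgroup X) ∣ Nat.card A * Nat.card K := by
  have h1 := Subgroup.relIndex_mul_relIndex ⊥ K (A ⊔ K) bot_le le_sup_right
  rw [Subgroup.relIndex_bot_left, Subgroup.relIndex_bot_left, Subgroup.relIndex_sup_right] at h1
  rw [← h1, mul_comm]
  exact Nat.mul_dvd_mul_right (Subgroup.relIndex_dvd_card K A) _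

/-- The normalizer of `H` normalizes the centralizer of `H`. -/
theorem conj_mem_centralizer (H : Subgroup G) {n c : G}
    (hn : n ∈ Subgroup.normalizer (H : Set G)) (hc : c ∈ Subgroup.centralizer (H : Set G)) :
    n * c * n⁻¹ ∈ Subgroup.centralizer (H : Set G) := by
  rw [Subgroup.mem_centralizer_iff]
  intro h hh
  have h1 : n⁻¹ * h * n ∈ H := by
    have := (Subgroup.mem_normalizer_iff'.mp hn (n⁻¹ * h)).mp
    -- mem_normalizer_iff' : g ∈ normalizer H ↔ ∀ h, h * g ∈ H ↔ g * h ∈ H
    apply (Subgroup.mem_normalizer_iff'.mp hn (n⁻¹ * h)).mpr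
    simpa using hh
  have h2 := (Subgroup.mem_centralizer_iff.mp hc) (n⁻¹ * h * n) h1
  -- h2 : n⁻¹ * h * n * c = c * (n⁻¹ * h * n)
  calc h * (n * c * n⁻¹) = n * (n⁻¹ * h * n * c) * n⁻¹ := by group
    _ = n * (c * (n⁻¹ * h * n)) * n⁻¹ := by rw [h2]
    _ = n * c * n⁻¹ * h := by group

/-- Key structural lemma: in the centralizer `C` of `H`, where `|H|` is coprime to `|N(H):H|`,
there is a subgroup `S ≤ C` of order coprime to `|H|` containing every subgroup of `C` of order
coprime to `|H|`. -/
theorem exists_coprime_core (H : Subgroup G)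
    (hHall : (Nat.card H).Coprime (H.subgroupOf (Subgroup.normalizer (H : Set G))).index) :
    ∃ S : Subgroup G, S ≤ Subgroup.centralizer (H : Set G) ∧
      (Nat.card S).Coprime (Nat.card H) ∧
      ∀ K : Subgroup G, K ≤ Subgroup.centralizer (H : Set G) →
        (Nat.card K).Coprime (Nat.card H) → K ≤ S := by
  classical
  set N := Subgroup.normalizer (H : Set G) with hN
  set C := Subgroup.centralizer (H : Set G) with hC
  have hCN : C ≤ N := Subgroup.centralizer_le_normalizer _
  have hHN : H ≤ N := Subgroup.le_normalizer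
  -- `Z' = H ⊓ C` inside `C`
  set Z' : Subgroup C := H.subgroupOf C with hZ'
  have hcentral : ∀ (z : C), z ∈ Z' → ∀ c : C, c * z = z * c := by
    intro z hz c
    have hz' : (z : G) ∈ H := Subgroup.mem_subgroupOf.mp hz
    have := (Subgroup.mem_centralizer_iff.mp c.2) (z : G) hz'
    apply Subtype.ext
    simpa using this.symm
  haveI hZnormal : Z'.Normal := by
    constructor
    intro z hz c
    have : c * z * c⁻¹ = z := by rw [hcentral z hz c]; group
    rw [this]; exact hz
  -- index of Z' divides |N : H|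
  have hidx : Z'.index ∣ (H.subgroupOf N).index := by
    haveI : (H.subgroupOf N).Normal := Subgroup.normal_subgroupOf_of_le_normalizer le_rfl
    have h1 : (H.subgroupOf N).relIndex (C.subgroupOf N) ∣ (H.subgroupOf N).index :=
      Subgroup.relIndex_dvd_index_of_normal _ _
    rw [Subgroup.relIndex_subgroupOf hCN] at h1
    exact h1
  have hZcard : Nat.card Z' ∣ Nat.card H := by
    have : Nat.card Z' = Nat.card (H ⊓ C : Subgroup G) := by
      rw [hZ', ← Subgroup.inf_subgroupOf_right]
      exact Nat.card_congr (Subgroup.subgroupOfEquivOfLe inf_le_right).toEquiv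
    rw [this]
    exact Subgroup.card_dvd_of_le inf_le_left
  have hcopZ : (Nat.card Z').Coprime Z'.index :=
    Nat.Coprime.coprime_dvd_left hZcard (Nat.Coprime.coprime_dvd_right hidx hHall)
  obtain ⟨S', hS'⟩ := Subgroup.exists_right_complement'_of_coprime hcopZ
  -- S' is normal in C
  haveI hSnormal : S'.Normal := by
    constructor
    intro s hs c
    obtain ⟨⟨⟨z, hz⟩, ⟨s0, hs0⟩⟩, hzs, -⟩ := hS'.existsUnique c
    simp only at hzs
    have : c * s * c⁻¹ = s0 * s * s0⁻¹ := by
      rw [← hzs]
      have e1 := hcentral z hz (s0 * s * s0⁻¹)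
      calc z * s0 * s * (z * s0)⁻¹ = z * (s0 * s * s0⁻¹) * z⁻¹ := by group
        _ = (s0 * s * s0⁻¹) * z * z⁻¹ := by rw [e1]
        _ = s0 * s * s0⁻¹ := by group
    rw [this]
    exact S'.mul_mem (S'.mul_mem hs0 hs) (S'.inv_mem hs0)
  have hSidx : S'.index = Nat.card Z' := hS'.index_eq_card
  have hScard : Nat.card S' = Z'.index := (hS'.symm.index_eq_card).symm
  refine ⟨S'.map C.subtype, ?_, ?_, ?_⟩
  · intro x hx
    obtain ⟨y, -, rfl⟩ := Subgroup.mem_map.mp hx
    exact y.2
  · have : Nat.card (S'.map C.subtype) = Nat.card S' :=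
      Subgroup.card_map_of_injective (Subgroup.subtype_injective C)
    rw [this, hScard]
    exact (Nat.Coprime.coprime_dvd_right hidx hHall).symm
  · intro K hKC hKcop
    have hc : Nat.card (K.subgroupOf C) = Nat.card K :=
      Nat.card_congr (Subgroup.subgroupOfEquivOfLe hKC).toEquiv
    have hle : K.subgroupOf C ≤ S' := by
      apply le_of_coprime_index'
      rw [hc, hSidx]
      exact Nat.Coprime.coprime_dvd_right hZcard hKcop
    intro k hk
    refine Subgroup.mem_map.mpr ⟨⟨k, hKC hk⟩, hle ?_, rfl⟩
    exact Subgroup.mem_subgroupOf.mpr hk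

/-- **Piece (C')**. -/
theorem centralizer_coprime_le (H O : Subgroup G) [O.Normal]
    (hHall : (Nat.card H).Coprime (H.subgroupOf (Subgroup.normalizer (H : Set G))).index)
    (hOmax : ∀ K : Subgroup G, K.Normal → (Nat.card K).Coprime (Nat.card H) → K ≤ O)
    (hOcop : (Nat.card O).Coprime (Nat.card H))
    (htop : O ⊔ Subgroup.normalizer (H : Set G) = ⊤)
    (D : Subgroup G) (hD : D ≤ Subgroup.centralizer (H : Set G))
    (hDcop : (Nat.card D).Coprime (Nat.card H)) : D ≤ O := by
  classical
  obtain ⟨S, hSC, hScop, hSmax⟩ := exists_coprime_core H hHall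
  -- N(H) normalizes S
  have hconj : ∀ n ∈ Subgroup.normalizer (H : Set G), ∀ s ∈ S, n * s * n⁻¹ ∈ S := by
    intro n hn s hs
    have hle : S.map (MulAut.conj n).toMonoidHom ≤ S := by
      apply hSmax
      · intro x hx
        obtain ⟨y, hy, rfl⟩ := Subgroup.mem_map.mp hx
        simp only [MulEquiv.coe_toMonoidHom, MulAut.conj_apply]
        exact conj_mem_centralizer H hn (hSC hy)
      · have : Nat.card (S.map (MulAut.conj n).toMonoidHom) = Nat.card S :=
          Subgroup.card_map_of_injective (MulAut.conj n).injective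
        rw [this]; exact hScop
    apply hle
    exact Subgroup.mem_map.mpr ⟨s, hs, by simp [MulAut.conj_apply]⟩
  -- T = S ⊔ O is normal
  have hTnormal : (S ⊔ O).Normal := by
    rw [← Subgroup.normalizer_eq_top_iff, eq_top_iff, ← htop]
    apply sup_le
    · exact le_sup_right.trans Subgroup.le_normalizer
    · intro n hn
      have key : ∀ m ∈ Subgroup.normalizer (H : Set G), ∀ t ∈ S ⊔ O, m * t * m⁻¹ ∈ S ⊔ O := by
        intro m hm t ht
        rw [← SetLike.mem_coe, Subgroup.mul_normal] at ht
        obtain ⟨s, hs, o, ho, rfl⟩ := ht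
        have : m * (s * o) * m⁻¹ = (m * s * m⁻¹) * (m * o * m⁻¹) := by group
        rw [this]
        exact (S ⊔ O).mul_mem (Subgroup.mem_sup_left (hconj m hm s hs))
          (Subgroup.mem_sup_right (Subgroup.Normal.conj_mem inferInstance o ho m))
      rw [Subgroup.mem_normalizer_iff]
      intro t
      constructor
      · exact key n hn t
      · intro ht
        have := key n⁻¹ (Subgroup.inv_mem _ hn) _ ht
        simpa [mul_assoc] using this
  have hTcop : (Nat.card (S ⊔ O : Subgroup G)).Coprime (Nat.card H) :=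
    Nat.Coprime.coprime_dvd_left (card_sup_dvd_mul' S O) (Nat.Coprime.mul_left hScop hOcop)
  have hTO : S ⊔ O ≤ O := hOmax _ hTnormal hTcop
  exact (hSmax D hD hDcop).trans (le_sup_left.trans hTO)

end Cfsg.Agent.Helper25.TIHallC
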