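import Mathlib
import Cfsg.Agent.Helper5.ZasDefs

/-!
# Zassenhaus cluster, piece Z9 (hypothesis form): the subgroup generated by the elements of order
three is cyclic-contained or binary.
-/

set_option autoImplicit false

namespace Cfsg.Agent.Helper5.Zas.Z9

open Cfsg.Agent.Helper5.Zas

variable {G : Type*} [Group G]

/-- Z-core, relative to the statements of Z2/Z3 (`hbin`, `hcases`), Z7 (`hcorA`) and Z8 (`hpent`). -/
theorem order_three_closure_of
    (hbin : ∀ x y : G, orderOf x = 3 → orderOf y = 3 → y ∉ Subgroup.zpowers x →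
      IsBinary (Subgroup.closure ({x, y} : Set G)))
    (hcases : ∀ x w : G, orderOf x = 3 → orderOf w = 3 → w ∉ Subgroup.zpowers x →
      (Good x w ∧ Nat.card (Subgroup.closure ({x, w} : Set G)) = 24) ∨
      (orderOf (x * w) = 10 ∧ Nat.card (Subgroup.closure ({x, w} : Set G)) = 120))
    (hcorA : ∀ x y w : G, orderOf x = 3 → orderOf y = 3 → y ∉ Subgroup.zpowers x → Good x y →
      orderOf w = 3 → w ∉ Subgroup.closure ({x, y} : Set G) →
      Nat.card (Subgroup.closure ({x, y, w} : Set G)) = 120 ∧
        IsBinary (Subgroup.closure ({x, y, w} : Set G)))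
    (hpent : ∀ L : Subgroup G, Nat.card L = 120 → ∀ π : L →* alternatingGroup (Fin 5),
      Function.Surjective π → Nat.card π.ker = 2 → ∀ w : G, orderOf w = 3 → w ∉ L → False) :
    (∃ x : G, ∀ g : G, orderOf g = 3 → g ∈ Subgroup.zpowers x) ∨
      IsBinary (Subgroup.closure {g : G | orderOf g = 3}) := by
  by_cases h1 : ∃ x : G, ∀ g : G, orderOf g = 3 → g ∈ Subgroup.zpowers x
  · exact Or.inl h1
  right
  push Not at h1
  -- some element of order three
  obtain ⟨x, hx⟩ : ∃ x : G, orderOf x = 3 := by
    obtain ⟨g, hg, -⟩ := h1 1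
    exact ⟨g, hg⟩
  obtain ⟨y, hy, hyx⟩ := h1 x
  -- a binary subgroup of order `120` containing all elements of order three is their closure
  have key : ∀ L : Subgroup G, IsBinary L → Nat.card L = 120 →
      L ≤ Subgroup.closure {g : G | orderOf g = 3} →
      IsBinary (Subgroup.closure {g : G | orderOf g = 3}) := by
    intro L hL hcard hle
    have hD : ∀ w : G, orderOf w = 3 → w ∈ L := by
      intro w hw
      by_contra hwL
      rcases hL with ⟨h24, -⟩ | ⟨-, π, hπ, hker⟩
      · omega
      · exact hpent L hcard π hπ hker w hw hwL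
    have : Subgroup.closure {g : G | orderOf g = 3} = L :=
      le_antisymm ((Subgroup.closure_le L).mpr (fun w hw => hD w hw)) hle
    rw [this]
    exact hL
  rcases hcases x y hx hy hyx with ⟨hgood, h24⟩ | ⟨-, h120⟩
  · by_cases hD : ∀ w : G, orderOf w = 3 → w ∈ Subgroup.closure ({x, y} : Set G)
    · have : Subgroup.closure {g : G | orderOf g = 3} = Subgroup.closure ({x, y} : Set G) := by
        apply le_antisymm ((Subgroup.closure_le _).mpr (fun w hw => hD w hw))
        apply Subgroup.closure_mono
        rintro g (rfl | rfl)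
        · exact hx
        · exact hy
      rw [this]
      exact hbin x y hx hy hyx
    · push Not at hD
      obtain ⟨w, hw, hwT⟩ := hD
      obtain ⟨hc, hb⟩ := hcorA x y w hx hy hyx hgood hw hwT
      apply key _ hb hc
      apply Subgroup.closure_mono
      rintro g (rfl | rfl | rfl)
      · exact hx
      · exact hy
      · exact hw
  · apply key _ (hbin x y hx hy hyx) h120
    apply Subgroup.closure_mono
    rintro g (rfl | rfl)
    · exact hx
    · exact hy

end Cfsg.Agent.Helper5.Zas.Z9
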