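import Mathlib
import Cfsg.Agent.Helper25.FusionSolvable
import Cfsg.Agent.Helper25.FusionTransport
import Cfsg.Agent.S5088
import Cfsg.Agent.S5145

set_option autoImplicit false

/-! Solvable saturated fusion systems are constrained. -/

namespace Cfsg.Agent.Helper25

open Cfsg Cfsg.FusionSystem
open scoped commutatorElement

section Group

variable {G : Type*} [Group G]

theorem commutator_mul_left (x q y : G) : ⁅x * q, y⁆ = x * ⁅q, y⁆ * x⁻¹ * ⁅x, y⁆ := by
  simp only [commutatorElement_def]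
  group

theorem commutator_mul_right (x y r : G) : ⁅x, y * r⁆ = ⁅x, y⁆ * (y * ⁅x, r⁆ * y⁻¹) := by
  simp only [commutatorElement_def]
  group

/-- If `A'` and `Q` lie in a subgroup `M` normalizing `Q` and `[A', A'] ≤ Q` then
`[A' Q, A' Q] ≤ Q`. -/
theorem commutator_sup_le {A' Q M : Subgroup G} (hM : M ≤ Subgroup.normalizer (Q : Set G))
    (hA' : A' ≤ M) (hQM : Q ≤ M) (hc : ⁅A', A'⁆ ≤ Q) : ⁅A' ⊔ Q, A' ⊔ Q⁆ ≤ Q := by
  have hconj : ∀ m ∈ M, ∀ q ∈ Q, m * q * m⁻¹ ∈ Q := fun m hm q hq =>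
    (Subgroup.mem_normalizer_iff.mp (hM hm) q).mp hq
  have hcomm : ∀ m ∈ M, ∀ q ∈ Q, ⁅q, m⁆ ∈ Q ∧ ⁅m, q⁆ ∈ Q := by
    intro m hm q hq
    constructor
    · rw [commutatorElement_def]
      have := hconj m hm q⁻¹ (Q.inv_mem hq)
      have e : q * m * q⁻¹ * m⁻¹ = q * (m * q⁻¹ * m⁻¹) := by group
      rw [e]
      exact Q.mul_mem hq this
    · rw [commutatorElement_def]
      exact Q.mul_mem (hconj m hm q hq) (Q.inv_mem hq)
  have hdec : ∀ a ∈ A' ⊔ Q, ∃ a' ∈ A', ∃ q ∈ Q, a = a' * q := by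
    intro a ha
    have ha' : a ∈ ((A' ⊔ Q : Subgroup G) : Set G) := ha
    rw [Subgroup.coe_mul_of_left_le_normalizer_right A' Q (hA'.trans hM), Set.mem_mul] at ha'
    obtain ⟨a', ha', q, hq, rfl⟩ := ha'
    exact ⟨a', ha', q, hq, rfl⟩
  rw [Subgroup.commutator_le]
  intro a ha b hb
  obtain ⟨a', ha', q, hq, rfl⟩ := hdec a ha
  obtain ⟨b', hb', r, hr, rfl⟩ := hdec b hb
  have hbM : b' * r ∈ M := M.mul_mem (hA' hb') (hQM hr)
  rw [commutator_mul_left]
  refine Q.mul_mem (hconj a' (hA' ha') _ (hcomm _ hbM q hq).1) ?_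
  rw [commutator_mul_right]
  exact Q.mul_mem (hc (Subgroup.commutator_mem_commutator ha' hb'))
    (hconj b' (hA' hb') _ (hcomm a' (hA' ha') r hr).2)

/-- Commutators with a subgroup of `Q` are not changed by multiplying with elements centralizing
`Q`. -/
theorem commutator_centralizer_sup_le {C Q Y Z : Subgroup G}
    (hC : C ≤ Subgroup.centralizer (Q : Set G)) (hY : Y ≤ Q) (h : ⁅Q, Y⁆ ≤ Z) :
    ⁅C ⊔ Q, Y⁆ ≤ Z := by
  have hCN : C ≤ Subgroup.normalizer (Q : Set G) :=
    hC.trans (Subgroup.centralizer_le_normalizer _)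
  rw [Subgroup.commutator_le]
  intro a ha y hy
  have ha' : a ∈ ((C ⊔ Q : Subgroup G) : Set G) := ha
  rw [Subgroup.coe_mul_of_left_le_normalizer_right C Q hCN, Set.mem_mul] at ha'
  obtain ⟨c, hc, q, hq, rfl⟩ := ha'
  have hqy : ⁅q, y⁆ ∈ Q := by
    rw [commutatorElement_def]
    exact Q.mul_mem (Q.mul_mem (Q.mul_mem hq (hY hy)) (Q.inv_mem hq)) (Q.inv_mem (hY hy))
  have h1 : c * ⁅q, y⁆ * c⁻¹ = ⁅q, y⁆ := by
    have := Subgroup.mem_centralizer_iff.mp (hC hc) _ hqy
    rw [← this, mul_inv_cancel_right]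
  have h2 : ⁅c, y⁆ = 1 := by
    rw [commutatorElement_eq_one_iff_mul_comm]
    exact (Subgroup.mem_centralizer_iff.mp (hC hc) _ (hY hy)).symm
  rw [commutator_mul_left, h1, h2, mul_one]
  exact h (Subgroup.commutator_mem_commutator hq hy)

end Group

section Fusion

variable {Ω : Type*} [Group Ω] {S : Subgroup Ω}

theorem stronglyClosed_inf (F : FusionSystem S) {A B : Subgroup Ω} (hA : F.StronglyClosed A)
    (hB : F.StronglyClosed B) : F.StronglyClosed (A ⊓ B) :=
  ⟨inf_le_left.trans hA.1, fun R hR φ hφ x =>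
    ⟨hA.2 R (hR.trans inf_le_left) φ hφ x, hB.2 R (hR.trans inf_le_right) φ hφ x⟩⟩

/-- For `Q` normal in the system, `C_S(Q) Q` is strongly closed. -/
theorem centralizer_sup_stronglyClosed (F : FusionSystem S) {Q : Subgroup Ω} (hQ : F.IsNormal Q) :
    F.StronglyClosed (centralizerIn S Q ⊔ Q) := by
  have hSN := le_normalizer_of_isNormal F hQ
  have hCN : centralizerIn S Q ≤ Subgroup.normalizer (Q : Set Ω) := inf_le_left.trans hSN
  refine ⟨sup_le inf_le_left hQ.1, fun R hR φ hφ x => ?_⟩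
  obtain ⟨ψ, hψ, hext, hmap⟩ := hQ.2 R φ hφ
  have hx : (x : Ω) ∈ ((centralizerIn S Q ⊔ Q : Subgroup Ω) : Set Ω) := hR x.2
  rw [Subgroup.coe_mul_of_left_le_normalizer_right _ Q hCN, Set.mem_mul] at hx
  obtain ⟨c, hc, q, hq, hcq⟩ := hx
  have hqM : q ∈ R ⊔ Q := Subgroup.mem_sup_right hq
  have hcM : c ∈ R ⊔ Q := by
    have : c = x * q⁻¹ := by rw [← hcq]; group
    rw [this]
    exact Subgroup.mul_mem _ (Subgroup.mem_sup_left x.2) (Subgroup.inv_mem _ hqM)
  have e : Subgroup.inclusion (le_sup_left : R ≤ R ⊔ Q) x = ⟨c, hcM⟩ * ⟨q, hqM⟩ :=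
    Subtype.ext hcq.symm
  rw [← hext x, e, map_mul]
  have hψq : ψ ⟨q, hqM⟩ ∈ Q := by
    have h1 : ψ ⟨q, hqM⟩ ∈ (Q.subgroupOf (R ⊔ Q)).map ψ := ⟨⟨q, hqM⟩, hq, rfl⟩
    rw [hmap] at h1
    exact h1
  have hcent : ψ ⟨c, hcM⟩ ∈ Subgroup.centralizer (Q : Set Ω) := by
    rw [Subgroup.mem_centralizer_iff]
    intro y hy
    have hy' : y ∈ (Q.subgroupOf (R ⊔ Q)).map ψ := by
      rw [hmap]
      exact hy
    obtain ⟨y₀, hy₀, rfl⟩ := hy'
    have hy₀' : (y₀ : Ω) ∈ Q := hy₀
    have h1 := Subgroup.mem_centralizer_iff.mp hc.2 _ hy₀'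
    have h2 : y₀ * ⟨c, hcM⟩ = ⟨c, hcM⟩ * y₀ := Subtype.ext h1
    rw [← map_mul, ← map_mul, h2]
  exact Subgroup.mul_mem _ (Subgroup.mem_sup_left ⟨(F.le_of_mem hψ).2 _, hcent⟩)
    (Subgroup.mem_sup_right hψq)

/-- A solvable saturated fusion system is constrained. -/
theorem isConstrained_of_solvable [Finite S] (p : ℕ) [Fact p.Prime] (hS : IsPGroup p S)
    (F : FusionSystem S) (hF : F.IsSaturated p) (h : F.IsSolvableSystem) : F.IsConstrained p := by
  have hQN : F.IsNormal F.core := Cfsg.Agent.S5145.result F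
  refine ⟨hF, F.core, hQN, ?_⟩
  have hQsc := stronglyClosed_of_isNormal F hQN
  have hSNQ := le_normalizer_of_isNormal F hQN
  obtain ⟨m, T, hT0, hTm, hTmono, hTsc, hTc⟩ := (isSolvableSystem_iff_chain p hS F hF).mp h
  obtain ⟨n, Qs, hQ0, hQn, hQmono, hQstep⟩ :=
    (Cfsg.Agent.S5088.result p hS F hF F.core).mp hQN
  have hCQsc := centralizer_sup_stronglyClosed F hQN
  have hall : ∀ i : Fin (m + 1), T i ⊓ (centralizerIn S F.core ⊔ F.core) ≤ F.core := by
    intro i
    induction i using Fin.induction with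
    | zero =>
      rw [hT0]
      exact inf_le_left.trans bot_le
    | succ i ih =>
      have hA'sc : F.StronglyClosed (T i.succ ⊓ (centralizerIn S F.core ⊔ F.core)) :=
        stronglyClosed_inf F (hTsc _) hCQsc
      have hAsc := stronglyClosed_sup p hS F hF hA'sc hQsc
      have hA'c : ⁅T i.succ ⊓ (centralizerIn S F.core ⊔ F.core),
          T i.succ ⊓ (centralizerIn S F.core ⊔ F.core)⁆ ≤ F.core := by
        refine le_trans (le_inf ?_ ?_) ih
        · exact (Subgroup.commutator_mono inf_le_left inf_le_left).trans (hTc i)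
        · rw [Subgroup.commutator_le]
          intro a ha b hb
          rw [commutatorElement_def]
          exact Subgroup.mul_mem _ (Subgroup.mul_mem _ (Subgroup.mul_mem _ ha.2 hb.2)
            (Subgroup.inv_mem _ ha.2)) (Subgroup.inv_mem _ hb.2)
      have hAc := commutator_sup_le hSNQ hA'sc.1 hQN.1 hA'c
      have hAle : T i.succ ⊓ (centralizerIn S F.core ⊔ F.core) ⊔ F.core ≤
          centralizerIn S F.core ⊔ F.core := sup_le inf_le_right le_sup_right
      have hAN : F.IsNormal (T i.succ ⊓ (centralizerIn S F.core ⊔ F.core) ⊔ F.core) := by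
        refine isNormal_of_chain p hS F hF _
          (fun j => if hj : j < n + 1 then Qs ⟨j, hj⟩
            else T i.succ ⊓ (centralizerIn S F.core ⊔ F.core) ⊔ F.core) (n + 1) ?_ ?_ ?_ ?_
        · simp only [Nat.zero_lt_succ, dif_pos]
          exact hQ0
        · simp
        · intro j hj
          by_cases hj' : j + 1 < n + 1
          · simp only [dif_pos hj, dif_pos hj']
            exact hQmono (by simp [Fin.le_def])
          · have hjn : j = n := by omega
            subst hjn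
            simp only [dif_pos hj, dif_neg hj']
            have : Qs ⟨j, hj⟩ = F.core := hQn
            rw [this]
            exact le_sup_right
        · intro j hj
          by_cases hj' : j + 1 < n + 1
          · have hjn : j < n := by omega
            simp only [dif_pos hj, dif_pos hj']
            obtain ⟨h1, h2⟩ := hQstep ⟨j, hjn⟩
            refine ⟨h1, ?_⟩
            have hY : Qs (Fin.succ ⟨j, hjn⟩) ≤ F.core := by
              rw [← hQn]
              exact hQmono (Fin.le_last _)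
            exact (Subgroup.commutator_mono hAle le_rfl).trans
              (commutator_centralizer_sup_le inf_le_right hY h2)
          · have hjn : j = n := by omega
            subst hjn
            simp only [dif_pos hj, dif_neg hj']
            have : Qs ⟨j, hj⟩ = F.core := hQn
            rw [this]
            exact ⟨hAsc, hAc⟩
      exact le_sup_left.trans (le_sSup hAN)
  have hCQ : centralizerIn S F.core ≤ F.core := by
    have h1 := hall (Fin.last m)
    rw [hTm] at h1
    exact (le_inf inf_le_left le_sup_left).trans h1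
  refine ⟨hQN.1, fun Q' hQ' => ?_⟩
  rw [eq_of_isConj_of_isNormal F hQN hQ']
  exact hCQ

end Fusion

end Cfsg.Agent.Helper25
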