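import Mathlib
import Cfsg.Agent.S5092

set_option autoImplicit false

universe u

namespace Cfsg.Agent.Helper25.TT

open Cfsg Cfsg.FusionSystem Cfsg.Agent.Helper25

variable {Ω : Type u} [Group Ω] {S : Subgroup Ω}

/-- The subsystem of `F`-maps that are conjugations by elements of `S` modulo `D`, where `D` is
normalized by `S`. -/
def conjModSystem (F : Cfsg.FusionSystem S) (D : Subgroup Ω)
    (hD : ∀ s ∈ S, ∀ d ∈ D, s * d * s⁻¹ ∈ D) : Cfsg.FusionSystem S where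
  Hom P := {φ | φ ∈ F.Hom P ∧ ∃ c ∈ S, ∀ x : P, (φ x)⁻¹ * (c * (x : Ω) * c⁻¹) ∈ D}
  le_of_mem := fun h => F.le_of_mem h.1
  injective_of_mem := fun h => F.injective_of_mem h.1
  conj_mem := by
    intro P g hP hg
    refine ⟨F.conj_mem hP hg, g, hg, fun x => ?_⟩
    have e : (conjHom P g x)⁻¹ * (g * (x : Ω) * g⁻¹) = 1 := by
      show (g * (x : Ω) * g⁻¹)⁻¹ * (g * (x : Ω) * g⁻¹) = 1
      group
    rw [e]; exact D.one_mem
  comp_mem := by
    rintro P Q φ ψ ⟨hφ, c1, hc1, hφD⟩ ⟨hψ, c2, hc2, hψD⟩ h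
    refine ⟨F.comp_mem hφ hψ h, c2 * c1, S.mul_mem hc2 hc1, fun x => ?_⟩
    have h1 := hφD x
    have h2 := hψD ⟨φ x, h x⟩
    have h3 := hD c2 hc2 _ h1
    have h4 := D.mul_mem h2 h3
    have e : (ψ ⟨φ x, h x⟩)⁻¹ * (c2 * ((⟨φ x, h x⟩ : Q) : Ω) * c2⁻¹) *
        (c2 * ((φ x)⁻¹ * (c1 * (x : Ω) * c1⁻¹)) * c2⁻¹) =
        (ψ ⟨φ x, h x⟩)⁻¹ * (c2 * c1 * (x : Ω) * (c2 * c1)⁻¹) := by
      show (ψ ⟨φ x, h x⟩)⁻¹ * (c2 * φ x * c2⁻¹) *
        (c2 * ((φ x)⁻¹ * (c1 * (x : Ω) * c1⁻¹)) * c2⁻¹) = _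
      group
    rw [e] at h4
    exact h4
  inv_mem := by
    rintro P φ ⟨hφ, c, hc, hφD⟩
    obtain ⟨ψ, hψ, hinv⟩ := F.inv_mem hφ
    refine ⟨ψ, ⟨hψ, c⁻¹, S.inv_mem hc, ?_⟩, hinv⟩
    rintro ⟨_, x, rfl⟩
    rw [hinv x]
    have h1 := D.inv_mem (hφD x)
    have h2 := hD c⁻¹ (S.inv_mem hc) _ h1
    have e : c⁻¹ * ((φ x)⁻¹ * (c * (x : Ω) * c⁻¹))⁻¹ * c⁻¹⁻¹ =
        (x : Ω)⁻¹ * (c⁻¹ * φ x * c⁻¹⁻¹) := by group
    rw [e] at h2
    exact h2

theorem hyp_conj_mem (F : Cfsg.FusionSystem S) (p : ℕ) :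
    ∀ s ∈ S, ∀ d ∈ F.hyperfocalSubgroup p, s * d * s⁻¹ ∈ F.hyperfocalSubgroup p := by
  intro s hs d hd
  have hN := le_normalizer_hyperfocalSubgroup F p hs
  rw [Subgroup.mem_normalizer_iff] at hN
  exact (hN d).mp hd

/-- `F`-maps are `S`-conjugations modulo the hyperfocal subgroup. -/
theorem exists_conj_mod_hyp [Finite S] (p : ℕ) [Fact p.Prime] (hS : IsPGroup p S)
    (F : FusionSystem S) (hF : F.IsSaturated p) {R : Subgroup Ω} {ψ : R →* Ω} (hψ : ψ ∈ F.Hom R) :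
    ∃ c ∈ S, ∀ x : R, (ψ x)⁻¹ * (c * (x : Ω) * c⁻¹) ∈ F.hyperfocalSubgroup p := by
  set H := F.hyperfocalSubgroup p with hH
  set E := conjModSystem F H (hyp_conj_mem F p) with hE
  have hle : F ≤ E := by
    apply alperin_le p hS F hF E
    intro R hR
    have hFN : F.IsFullyNormalized R := by
      rcases hR with rfl | hR
      · refine ⟨le_rfl, fun Q _ => ?_⟩
        have h1 : normalizerIn R Q ≤ normalizerIn R R := fun x hx =>
          ⟨hx.1, Subgroup.le_normalizer hx.1⟩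
        have : Finite (normalizerIn R R) := finite_of_le inf_le_left
        exact Nat.card_le_card_of_injective (Subgroup.inclusion h1)
          (Subgroup.inclusion_injective _)
      · exact hR.2.1
    have hRS : R ≤ S := hFN.1
    have hfinR : Finite R := finite_of_le hRS
    obtain ⟨-, -, T, hT⟩ := Cfsg.Agent.S5077.sylow_axiom p hS F hF R hFN
    intro α hα
    rw [mem_autGroup_iff E hRS]
    refine ⟨(mem_autGroup_iff F hRS α).mp hα, ?_⟩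
    obtain ⟨t, ht, u, hu, htu⟩ := Cfsg.Agent.Helper10.exists_sylow_mul_pResidual T ⟨α, hα⟩
    rw [hT] at ht
    have ht' : (t : MulAut R) ∈ autInducedBy S R := ht
    rw [mem_autInducedBy_iff] at ht'
    obtain ⟨s, hs, hst⟩ := ht'
    refine ⟨s, hs, fun x => ?_⟩
    have hαx : ((α x : R) : Ω) = s * (((u : MulAut R) x : R) : Ω) * s⁻¹ := by
      have h1 : α = (t : MulAut R) * (u : MulAut R) := congrArg Subtype.val htu
      rw [h1, MulAut.mul_apply, hst]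
    show (((α x : R) : Ω))⁻¹ * (s * (x : Ω) * s⁻¹) ∈ H
    rw [hαx]
    have hgen : (x : Ω)⁻¹ * (((u : MulAut R) x : R) : Ω) ∈ H :=
      Subgroup.subset_closure ⟨R, u, x, hRS, hu, rfl⟩
    have h2 := hyp_conj_mem F p s hs _ (H.inv_mem hgen)
    have e : s * ((x : Ω)⁻¹ * (((u : MulAut R) x : R) : Ω))⁻¹ * s⁻¹ =
        (s * (((u : MulAut R) x : R) : Ω) * s⁻¹)⁻¹ * (s * (x : Ω) * s⁻¹) := by group
    rw [e] at h2
    exact h2
  exact (hle R hψ).2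

end Cfsg.Agent.Helper25.TT
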