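import Mathlib

set_option autoImplicit false

/-! S2480 piece UNIQB: the ranks of multiplication by `a` on the blocks of a direct sum add up to
an invariant of the `F[X]`-module. -/

namespace Cfsg.Agent.S2480P

open Polynomial DirectSum

universe u

namespace UNIQB

variable {F : Type*} [Field F]

/-- a product of submodules, as a submodule of the product, is the product of the submodules -/
def piEquiv {ι : Type*} (M : ι → Type*) [∀ i, AddCommGroup (M i)] [∀ i, Module F (M i)]
    (R : ∀ i, Submodule F (M i)) :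
    ↥(Submodule.pi Set.univ R) ≃ₗ[F] (∀ i, ↥(R i)) where
  toFun x i := ⟨x.1 i, x.2 i trivial⟩
  invFun y := ⟨fun i => (y i).1, fun i _ => (y i).2⟩
  map_add' _ _ := rfl
  map_smul' _ _ := rfl
  left_inv _ := rfl
  right_inv _ := rfl

theorem finrank_range_directSum {ι : Type*} [Fintype ι] (M : ι → Type*)
    [∀ i, AddCommGroup (M i)] [∀ i, Module F[X] (M i)] [∀ i, Module F (M i)]
    [∀ i, IsScalarTower F F[X] (M i)] [∀ i, Module.Finite F (M i)] (a : F[X]) :
    Module.finrank F (LinearMap.range ((LinearMap.lsmul F[X] (⨁ i, M i) a).restrictScalars F))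
      = ∑ i, Module.finrank F
          (LinearMap.range ((LinearMap.lsmul F[X] (M i) a).restrictScalars F)) := by
  classical
  set θ := DirectSum.linearEquivFunOnFintype F ι M with hθ
  have hmap : Submodule.map (θ : (⨁ i, M i) →ₗ[F] (∀ i, M i))
      (LinearMap.range ((LinearMap.lsmul F[X] (⨁ i, M i) a).restrictScalars F))
      = Submodule.pi Set.univ
        (fun i => LinearMap.range ((LinearMap.lsmul F[X] (M i) a).restrictScalars F)) := by
    ext y
    simp only [Submodule.mem_map, LinearMap.mem_range, Submodule.mem_pi, Set.mem_univ,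
      forall_true_left]
    constructor
    · rintro ⟨x, ⟨z, rfl⟩, rfl⟩ i
      exact ⟨z i, rfl⟩
    · intro hy
      choose z hz using hy
      refine ⟨a • θ.symm z, ⟨θ.symm z, rfl⟩, ?_⟩
      funext i
      have h1 : (θ.symm z) i = z i := by
        have := congrFun (θ.apply_symm_apply z) i
        exact this
      show (a • θ.symm z) i = y i
      rw [DirectSum.smul_apply, h1]
      exact hz i
  rw [← LinearEquiv.finrank_map_eq θ, hmap, (piEquiv M _).finrank_eq, Module.finrank_pi_fintype]

theorem finite_block (g : F[X]) (hg : g.Monic) :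
    Module.Finite F (F[X] ⧸ Submodule.span F[X] {g}) :=
  Monic.finite_adjoinRoot hg

end UNIQB

theorem sum_finrank_range_eq {F : Type u} [Field F] {ι ι' : Type u} [Fintype ι] [Fintype ι']
    (p : ι → F[X]) (e : ι → ℕ) (p' : ι' → F[X]) (e' : ι' → ℕ)
    (hp : ∀ i, (p i).Monic) (hp' : ∀ j, (p' j).Monic)
    (Ψ : Nonempty ((⨁ i, F[X] ⧸ Submodule.span F[X] {p i ^ e i}) ≃ₗ[F[X]]
      (⨁ j, F[X] ⧸ Submodule.span F[X] {p' j ^ e' j}))) (a : F[X]) :
    ∑ i, Module.finrank F (LinearMap.range
      ((LinearMap.lsmul F[X] (F[X] ⧸ Submodule.span F[X] {p i ^ e i}) a).restrictScalars F)) =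
    ∑ j, Module.finrank F (LinearMap.range
      ((LinearMap.lsmul F[X] (F[X] ⧸ Submodule.span F[X] {p' j ^ e' j}) a).restrictScalars F)) := by
  obtain ⟨Ψ⟩ := Ψ
  have : ∀ i, Module.Finite F (F[X] ⧸ Submodule.span F[X] {p i ^ e i}) :=
    fun i => UNIQB.finite_block _ ((hp i).pow _)
  have : ∀ j, Module.Finite F (F[X] ⧸ Submodule.span F[X] {p' j ^ e' j}) :=
    fun j => UNIQB.finite_block _ ((hp' j).pow _)
  rw [← UNIQB.finrank_range_directSum (fun i => F[X] ⧸ Submodule.span F[X] {p i ^ e i}) a,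
    ← UNIQB.finrank_range_directSum (fun j => F[X] ⧸ Submodule.span F[X] {p' j ^ e' j}) a]
  have hmap : Submodule.map ((Ψ.restrictScalars F : _ ≃ₗ[F] _) : _ →ₗ[F] _)
      (LinearMap.range ((LinearMap.lsmul F[X]
        (⨁ i, F[X] ⧸ Submodule.span F[X] {p i ^ e i}) a).restrictScalars F))
      = LinearMap.range ((LinearMap.lsmul F[X]
        (⨁ j, F[X] ⧸ Submodule.span F[X] {p' j ^ e' j}) a).restrictScalars F) := by
    ext y
    simp only [Submodule.mem_map, LinearMap.mem_range]
    constructor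
    · rintro ⟨x, ⟨z, rfl⟩, rfl⟩
      refine ⟨Ψ z, ?_⟩
      show a • Ψ z = Ψ (a • z)
      rw [map_smul]
    · rintro ⟨z, rfl⟩
      refine ⟨a • Ψ.symm z, ⟨Ψ.symm z, rfl⟩, ?_⟩
      show Ψ (a • Ψ.symm z) = a • z
      rw [map_smul, LinearEquiv.apply_symm_apply]
  rw [← hmap, LinearEquiv.finrank_map_eq]

end Cfsg.Agent.S2480P
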