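import Mathlib
import Cfsg.Agent.Helper14.S2481.Defs
import Cfsg.Agent.Helper28.S2479ACTION
import Cfsg.Agent.Helper8.S2481FIELDH90
import Cfsg.Agent.Helper11.S2481CARDU1
import Cfsg.Agent.Helper18.S2481TILDE

/-! S2481 (driver helper14), piece ACTIONU: the torus `(Fˣ)^(n+1)` acts on the self dual tuples:
`η` sends `X^d + ∑ a_i X^i + a_0` to `X^d + ∑ η a_i X^i + (η/σ η) a_0`; double counting gives
`(q+1) ∑_{dett t = 1} idxU t ≤ ∑ idxU(t)^2`. Twin of `Helper28/S2479ACTION.lean`. -/

set_option autoImplicit false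
set_option linter.unusedSectionVars false

namespace Cfsg.Agent.S2481P

open Polynomial DirectSum Matrix Cfsg.Agent.S2478P Cfsg.Agent.S2479P

universe u

namespace ACTIONU

open Cfsg.Agent.S2479P.ACTION (ext ext_inv ext_of_lt)

variable {F : Type u} [Field F] {σ : F →+* F}

/-- `η / σ η` -/
noncomputable def rat (σ : F →+* F) (η : Fˣ) : F := (η : F) * (σ (η : F))⁻¹

theorem sig_ne_zero (σ : F →+* F) (η : Fˣ) : σ (η : F) ≠ 0 := (map_ne_zero σ).mpr η.ne_zero

theorem rat_ne_zero (σ : F →+* F) (η : Fˣ) : rat σ η ≠ 0 :=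
  mul_ne_zero η.ne_zero (inv_ne_zero (sig_ne_zero σ η))

theorem sig_rat (hσ : IsInvol σ) (η : Fˣ) : σ (rat σ η) = σ (η : F) * (η : F)⁻¹ := by
  unfold rat
  rw [map_mul, map_inv₀, hσ.sq]

theorem rat_mul_sig (hσ : IsInvol σ) (η : Fˣ) : rat σ η * σ (rat σ η) = 1 := by
  rw [sig_rat hσ]
  unfold rat
  have h1 := sig_ne_zero σ η
  have h2 := η.ne_zero
  field_simp

theorem rat_one (σ : F →+* F) : rat σ (1 : Fˣ) = 1 := by
  unfold rat
  rw [Units.val_one, map_one, inv_one, mul_one]

theorem rat_mul (σ : F →+* F) (η ζ : Fˣ) : rat σ (η * ζ) = rat σ η * rat σ ζ := by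
  unfold rat
  rw [Units.val_mul, map_mul, mul_inv]
  ring

theorem rat_inv_mul (σ : F →+* F) (η : Fˣ) : rat σ η⁻¹ * rat σ η = 1 := by
  rw [← rat_mul, inv_mul_cancel, rat_one]

/-- the action of `η` on a monic polynomial of positive degree -/
noncomputable def sc (σ : F →+* F) (η : Fˣ) (h : F[X]) : F[X] :=
  if 1 ≤ h.natDegree then
    C (η : F) * (h - X ^ h.natDegree - C (h.coeff 0)) + X ^ h.natDegree +
      C (rat σ η * h.coeff 0)
  else h

theorem sc_of_pos (η : Fˣ) {h : F[X]} (h1 : 1 ≤ h.natDegree) :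
    sc σ η h = C (η : F) * (h - X ^ h.natDegree - C (h.coeff 0)) + X ^ h.natDegree +
      C (rat σ η * h.coeff 0) := by
  unfold sc
  rw [if_pos h1]

theorem sc_of_not (η : Fˣ) {h : F[X]} (h1 : ¬ 1 ≤ h.natDegree) : sc σ η h = h := by
  unfold sc
  rw [if_neg h1]

theorem sc_coeff (η : Fˣ) {h : F[X]} (hm : h.Monic) (h1 : 1 ≤ h.natDegree) (i : ℕ) :
    (sc σ η h).coeff i =
      if i = 0 then rat σ η * h.coeff 0 else if i = h.natDegree then 1 else (η : F) * h.coeff i := by
  rw [sc_of_pos η h1]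
  simp only [coeff_add, coeff_C_mul, coeff_sub, coeff_X_pow, coeff_C]
  by_cases hi0 : i = 0
  · subst hi0
    have h2 : ¬ (0 = h.natDegree) := by omega
    rw [if_pos rfl, if_pos rfl, if_pos rfl, if_neg h2]
    ring
  · by_cases hid : i = h.natDegree
    · subst hid
      rw [if_neg hi0, if_neg hi0, if_neg hi0, if_pos rfl, if_pos rfl, hm.coeff_natDegree]
      ring
    · rw [if_neg hi0, if_neg hi0, if_neg hi0, if_neg hid, if_neg hid]
      ring

theorem sc_natDegree (η : Fˣ) {h : F[X]} (hm : h.Monic) : (sc σ η h).natDegree = h.natDegree := by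
  by_cases h1 : 1 ≤ h.natDegree
  · apply natDegree_eq_of_le_of_coeff_ne_zero
    · rw [natDegree_le_iff_coeff_eq_zero]
      intro N hN
      rw [sc_coeff η hm h1, if_neg (by omega), if_neg (by omega),
        coeff_eq_zero_of_natDegree_lt hN, mul_zero]
    · rw [sc_coeff η hm h1, if_neg (by omega), if_pos rfl]
      exact one_ne_zero
  · rw [sc_of_not η h1]

theorem sc_monic (η : Fˣ) {h : F[X]} (hm : h.Monic) : (sc σ η h).Monic := by
  by_cases h1 : 1 ≤ h.natDegree
  · unfold Monic leadingCoeff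
    rw [sc_natDegree η hm, sc_coeff η hm h1, if_neg (by omega), if_pos rfl]
  · rw [sc_of_not η h1]
    exact hm

theorem sc_coeff_zero (η : Fˣ) {h : F[X]} (hm : h.Monic) :
    (sc σ η h).coeff 0 = (if 1 ≤ h.natDegree then rat σ η else 1) * h.coeff 0 := by
  by_cases h1 : 1 ≤ h.natDegree
  · rw [sc_coeff η hm h1, if_pos rfl, if_pos h1]
  · rw [sc_of_not η h1, if_neg h1, one_mul]

theorem sc_coeff_zero_ne (η : Fˣ) {h : F[X]} (hm : h.Monic) (hh : h.coeff 0 ≠ 0) :
    (sc σ η h).coeff 0 ≠ 0 := by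
  rw [sc_coeff_zero η hm]
  apply mul_ne_zero _ hh
  split_ifs
  · exact rat_ne_zero σ η
  · exact one_ne_zero

theorem sc_inv_sc (η : Fˣ) {h : F[X]} (hm : h.Monic) : sc σ η⁻¹ (sc σ η h) = h := by
  by_cases h1 : 1 ≤ h.natDegree
  · have hm2 : (sc σ η h).Monic := sc_monic η hm
    have hd : (sc σ η h).natDegree = h.natDegree := sc_natDegree η hm
    have h2 : 1 ≤ (sc σ η h).natDegree := by rw [hd]; exact h1
    ext i
    rw [sc_coeff η⁻¹ hm2 h2, hd, sc_coeff η hm h1, sc_coeff η hm h1, if_pos rfl]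
    by_cases hi0 : i = 0
    · subst hi0
      rw [if_pos rfl, ← mul_assoc, rat_inv_mul, one_mul]
    · by_cases hid : i = h.natDegree
      · subst hid
        rw [if_neg hi0, if_pos rfl, hm.coeff_natDegree]
      · rw [if_neg hi0, if_neg hid, if_neg hi0, if_neg hid, ← mul_assoc, ← Units.val_mul,
          inv_mul_cancel, Units.val_one, one_mul]
  · have h2 : ¬ 1 ≤ (sc σ η h).natDegree := by rw [sc_natDegree η hm]; exact h1
    rw [sc_of_not η⁻¹ h2, sc_of_not η h1]

theorem sc_one_poly (η : Fˣ) : sc σ η (1 : F[X]) = 1 := by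
  apply sc_of_not
  rw [natDegree_one]
  norm_num

theorem eps_sc (η : Fˣ) {h : F[X]} (hm : h.Monic) :
    eps (sc σ η h) = (if 1 ≤ h.natDegree then rat σ η else 1) * eps h := by
  unfold eps
  rw [sc_natDegree η hm, sc_coeff_zero η hm]
  ring

/-- self duality is preserved -/
theorem tilde_sc (hσ : IsInvol σ) (η : Fˣ) {h : F[X]} (hm : h.Monic) (h0 : h.coeff 0 ≠ 0)
    (ht : tilde σ h = h) : tilde σ (sc σ η h) = sc σ η h := by
  by_cases h1 : 1 ≤ h.natDegree
  · have hm2 : (sc σ η h).Monic := sc_monic η hm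
    have hd : (sc σ η h).natDegree = h.natDegree := sc_natDegree η hm
    have h02 : (sc σ η h).coeff 0 ≠ 0 := sc_coeff_zero_ne η hm h0
    have hc0 : (sc σ η h).coeff 0 = rat σ η * h.coeff 0 := by
      rw [sc_coeff η hm h1, if_pos rfl]
    have hnorm : h.coeff 0 * σ (h.coeff 0) = 1 := coeff_zero_of_tilde_eq σ hm h0 ht
    have hσc : σ (h.coeff 0) ≠ 0 := (map_ne_zero σ).mpr h0
    have hση := sig_ne_zero σ η
    have hη := η.ne_zero
    ext i
    by_cases hi : i ≤ h.natDegree
    · rw [tilde_coeff σ h02 (by rw [hd]; exact hi), hd, hc0, sc_coeff η hm h1, sc_coeff η hm h1,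
        map_mul, sig_rat hσ]
      by_cases hi0 : i = 0
      · subst hi0
        rw [if_pos rfl, Nat.sub_zero, if_neg (by omega), if_pos rfl, map_one, mul_one]
        unfold rat
        field_simp
        linear_combination (-1 : F) * hnorm
      · by_cases hid : i = h.natDegree
        · subst hid
          rw [if_neg hi0, if_pos rfl, Nat.sub_self, if_pos rfl, map_mul, sig_rat hσ]
          field_simp
        · have hcoef := tilde_coeff σ h0 hi
          rw [ht] at hcoef
          rw [if_neg hi0, if_neg hid, if_neg (by omega), if_neg (by omega), map_mul, hcoef]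
          field_simp
    · rw [not_le] at hi
      rw [coeff_eq_zero_of_natDegree_lt (by rw [tilde_natDegree σ h02, hd]; exact hi),
        coeff_eq_zero_of_natDegree_lt (by rw [hd]; exact hi)]
  · rw [sc_of_not η h1]
    exact ht

variable (n : ℕ)

/-- the action of the torus on tuples -/
noncomputable def act (σ : F →+* F) (γ : Fin (n + 1) → Fˣ) (t : ℕ → F[X]) : ℕ → F[X] :=
  fun m => sc σ (ext n γ m) (t m)

theorem act_apply (γ : Fin (n + 1) → Fˣ) (t : ℕ → F[X]) (m : ℕ) :
    act n σ γ t m = sc σ (ext n γ m) (t m) := rfl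

theorem act_mem (hσ : IsInvol σ) {γ : Fin (n + 1) → Fˣ} {t : ℕ → F[X]} (ht : t ∈ TU σ n n) :
    act n σ γ t ∈ TU σ n n := by
  obtain ⟨⟨h1, h2, h3⟩, h4⟩ := ht
  refine ⟨⟨fun m => ⟨sc_monic _ (h1 m).1, sc_coeff_zero_ne _ (h1 m).1 (h1 m).2⟩,
    fun m hm => ?_, ?_⟩, fun m => ?_⟩
  · rw [act_apply, h2 m hm, sc_one_poly]
  · refine Eq.trans ?_ h3
    apply Finset.sum_congr rfl
    intro m _
    rw [act_apply, sc_natDegree _ (h1 m).1]
  · rw [act_apply]
    exact tilde_sc hσ _ (h1 m).1 (h1 m).2 (h4 m)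

theorem act_inv_act (γ : Fin (n + 1) → Fˣ) {t : ℕ → F[X]} (ht : t ∈ TU σ n n) :
    act n σ γ⁻¹ (act n σ γ t) = t := by
  funext m
  rw [act_apply, act_apply, ext_inv, sc_inv_sc _ (ht.1.1 m).1]

theorem act_act_inv (γ : Fin (n + 1) → Fˣ) {t : ℕ → F[X]} (ht : t ∈ TU σ n n) :
    act n σ γ (act n σ γ⁻¹ t) = t := by
  have := act_inv_act n γ⁻¹ ht
  rw [inv_inv] at this
  exact this

theorem parts_act (γ : Fin (n + 1) → Fˣ) {t : ℕ → F[X]} (ht : t ∈ TU σ n n) :
    parts (act n σ γ t) = parts t := by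
  ext m
  show 1 ≤ (act n σ γ t m).natDegree ↔ 1 ≤ (t m).natDegree
  rw [act_apply, sc_natDegree _ (ht.1.1 m).1]

theorem idxU_act (γ : Fin (n + 1) → Fˣ) {t : ℕ → F[X]} (ht : t ∈ TU σ n n) :
    idxU σ (act n σ γ t) = idxU σ t := by
  unfold idxU DU
  rw [parts_act n γ ht]

/-- `η ↦ η / σ η` as a homomorphism into the norm one group -/
noncomputable def uhom (hσ : IsInvol σ) : Fˣ →* U1 σ where
  toFun η := ⟨Units.mk0 (rat σ η) (rat_ne_zero σ η), by
    rw [mem_U1, Units.val_mk0]
    exact rat_mul_sig hσ η⟩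
  map_one' := by
    apply Subtype.ext
    apply Units.ext
    show rat σ 1 = 1
    exact rat_one σ
  map_mul' η ζ := by
    apply Subtype.ext
    apply Units.ext
    show rat σ (η * ζ) = rat σ η * rat σ ζ
    exact rat_mul σ η ζ

theorem uhom_coe (hσ : IsInvol σ) (η : Fˣ) : (((uhom hσ η : U1 σ) : Fˣ) : F) = rat σ η := rfl

theorem uhom_surj [Finite F] (hσ : IsInvol σ) : Function.Surjective (uhom hσ) := by
  intro z
  have hz : ((z : Fˣ) : F) * σ ((z : Fˣ) : F) = 1 := z.2
  obtain ⟨c, hc0, hc⟩ := hilbert90 hσ hz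
  refine ⟨Units.mk0 c hc0, ?_⟩
  apply Subtype.ext
  apply Units.ext
  rw [uhom_coe]
  unfold rat
  rw [Units.val_mk0]
  have hσc : σ c ≠ 0 := (map_ne_zero σ).mpr hc0
  rw [mul_inv_eq_iff_eq_mul₀ hσc]
  exact hc.symm

/-- the character by which the torus moves `dett` -/
noncomputable def chi (hσ : IsInvol σ) (t : ℕ → F[X]) : (Fin (n + 1) → Fˣ) →* U1 σ where
  toFun γ := ∏ m : Fin (n + 1), if 1 ≤ (t m).natDegree then uhom hσ (γ m) ^ (m : ℕ) else 1
  map_one' := by
    apply Finset.prod_eq_one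
    intro m _
    split_ifs
    · rw [Pi.one_apply, map_one, one_pow]
    · rfl
  map_mul' γ δ := by
    rw [← Finset.prod_mul_distrib]
    apply Finset.prod_congr rfl
    intro m _
    split_ifs
    · rw [Pi.mul_apply, map_mul, mul_pow]
    · rw [one_mul]

theorem chi_apply (hσ : IsInvol σ) (t : ℕ → F[X]) (γ : Fin (n + 1) → Fˣ) :
    chi n hσ t γ =
      ∏ m : Fin (n + 1), if 1 ≤ (t m).natDegree then uhom hσ (γ m) ^ (m : ℕ) else 1 := rfl

theorem dett_act (hσ : IsInvol σ) (γ : Fin (n + 1) → Fˣ) {t : ℕ → F[X]} (ht : t ∈ TU σ n n) :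
    dett n (act n σ γ t) = (((chi n hσ t γ : U1 σ) : Fˣ) : F) * dett n t := by
  unfold dett
  rw [chi_apply, SubmonoidClass.coe_finsetProd, Units.coe_prod, Finset.prod_range, Finset.prod_range,
    ← Finset.prod_mul_distrib]
  apply Finset.prod_congr rfl
  intro m _
  rw [act_apply, eps_sc _ (ht.1.1 m).1, mul_pow, ext_of_lt n γ m.isLt]
  congr 1
  split_ifs
  · rw [Subgroup.coe_pow, Units.val_pow_eq_pow_val, uhom_coe]
  · rw [one_pow, Subgroup.coe_one, Units.val_one]

theorem DU_le_range [Finite F] (hσ : IsInvol σ) {t : ℕ → F[X]} (ht : t ∈ TU σ n n) :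
    DU σ t ≤ (chi n hσ t).range := by
  classical
  unfold DU
  apply iSup₂_le
  intro m hm
  have hmn : m < n + 1 := by
    by_contra hlt
    have h1 := ht.1.2.1 m (Or.inr (by omega))
    have hm' : 1 ≤ (t m).natDegree := hm
    rw [h1, natDegree_one] at hm'
    omega
  rintro _ ⟨z, rfl⟩
  obtain ⟨c, rfl⟩ := uhom_surj hσ z
  refine ⟨Pi.mulSingle ⟨m, hmn⟩ c, ?_⟩
  rw [chi_apply, Finset.prod_eq_single (⟨m, hmn⟩ : Fin (n + 1))]
  · have hm' : 1 ≤ (t m).natDegree := hm
    rw [if_pos hm', Pi.mulSingle_eq_same]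
    rfl
  · intro b _ hb
    rw [Pi.mulSingle_eq_of_ne hb, map_one, one_pow]
    split_ifs <;> rfl
  · intro h
    exact absurd (Finset.mem_univ _) h

open Classical in
/-- the size of a fibre of the character -/
theorem card_fiber_le [Fintype F] (hσ : IsInvol σ) (q : ℕ) (hF : Fintype.card F = q ^ 2)
    (hσq : ∀ x, σ x = x ^ q) {t : ℕ → F[X]} (ht : t ∈ TU σ n n) (ε : U1 σ) :
    (Finset.univ.filter (fun γ : Fin (n + 1) → Fˣ => chi n hσ t γ = ε)).card * (q + 1) ≤
      Fintype.card (Fin (n + 1) → Fˣ) * idxU σ t := by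
  by_cases hε : ε ∈ Set.range (chi n hσ t)
  · have h1 := MonoidHom.card_fiber_eq_of_mem_range (chi n hσ t) hε ⟨1, map_one _⟩
    rw [h1]
    have h2 : (Finset.univ.filter (fun γ : Fin (n + 1) → Fˣ => chi n hσ t γ = 1)).card =
        Nat.card (chi n hσ t).ker := by
      rw [Nat.card_eq_fintype_card, Fintype.card_subtype]
      congr 1
      ext γ
      simp only [Finset.mem_filter, Finset.mem_univ, true_and, MonoidHom.mem_ker]
    have h3 : Nat.card (chi n hσ t).ker * Nat.card (chi n hσ t).range =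
        Fintype.card (Fin (n + 1) → Fˣ) := by
      rw [← Subgroup.index_ker, Subgroup.card_mul_index, Nat.card_eq_fintype_card]
    have h4 : Nat.card (DU σ t) ≤ Nat.card (chi n hσ t).range :=
      Subgroup.card_le_of_le (DU_le_range n hσ ht)
    have h5 : Nat.card (DU σ t) * idxU σ t = q + 1 := by
      unfold idxU
      rw [Subgroup.card_mul_index, card_U1 q hF hσq]
    rw [h2, ← h5, ← h3]
    calc Nat.card (chi n hσ t).ker * (Nat.card (DU σ t) * idxU σ t)
        = Nat.card (chi n hσ t).ker * Nat.card (DU σ t) * idxU σ t := by ring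
      _ ≤ Nat.card (chi n hσ t).ker * Nat.card (chi n hσ t).range * idxU σ t :=
        Nat.mul_le_mul_right _ (Nat.mul_le_mul_left _ h4)
  · have : (Finset.univ.filter (fun γ : Fin (n + 1) → Fˣ => chi n hσ t γ = ε)) = ∅ := by
      rw [Finset.filter_eq_empty_iff]
      intro γ _ h
      exact hε ⟨γ, h⟩
    rw [this, Finset.card_empty, zero_mul]
    exact Nat.zero_le _

end ACTIONU

open ACTIONU

section counting

variable {F : Type u} [Field F] [Fintype F] {σ : F →+* F}

open Classical in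
theorem weighted_count_U (hσ : IsInvol σ) (q : ℕ) (hF : Fintype.card F = q ^ 2)
    (hσq : ∀ x, σ x = x ^ q) (n : ℕ) (hT : (TU σ n n).Finite) :
    (q + 1) * ∑ t ∈ hT.toFinset.filter (fun t => dett n t = 1), idxU σ t ≤
      ∑ t ∈ hT.toFinset, idxU σ t ^ 2 := by
  have hΓpos : 0 < Fintype.card (Fin (n + 1) → Fˣ) := Fintype.card_pos
  apply Nat.le_of_mul_le_mul_left _ hΓpos
  have step1 : Fintype.card (Fin (n + 1) → Fˣ) *
      ∑ t ∈ hT.toFinset.filter (fun t => dett n t = 1), idxU σ t =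
      ∑ s ∈ hT.toFinset, (Finset.univ.filter
        (fun γ : Fin (n + 1) → Fˣ => dett n (act n σ γ s) = 1)).card * idxU σ s := by
    calc Fintype.card (Fin (n + 1) → Fˣ) *
          ∑ t ∈ hT.toFinset.filter (fun t => dett n t = 1), idxU σ t
        = ∑ _γ : Fin (n + 1) → Fˣ,
            ∑ t ∈ hT.toFinset.filter (fun t => dett n t = 1), idxU σ t := by
          rw [Finset.sum_const, Finset.card_univ, smul_eq_mul]
      _ = ∑ γ : Fin (n + 1) → Fˣ,
            ∑ s ∈ hT.toFinset.filter (fun s => dett n (act n σ γ s) = 1), idxU σ s := by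
          apply Finset.sum_congr rfl
          intro γ _
          apply Finset.sum_nbij' (fun t => act n σ γ⁻¹ t) (fun s => act n σ γ s)
          · intro t ht
            rw [Finset.mem_filter, Set.Finite.mem_toFinset] at ht ⊢
            exact ⟨act_mem n hσ ht.1, by rw [act_act_inv n γ ht.1]; exact ht.2⟩
          · intro s hs
            rw [Finset.mem_filter, Set.Finite.mem_toFinset] at hs ⊢
            exact ⟨act_mem n hσ hs.1, hs.2⟩
          · intro t ht
            rw [Finset.mem_filter, Set.Finite.mem_toFinset] at ht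
            exact act_act_inv n γ ht.1
          · intro s hs
            rw [Finset.mem_filter, Set.Finite.mem_toFinset] at hs
            exact act_inv_act n γ hs.1
          · intro t ht
            rw [Finset.mem_filter, Set.Finite.mem_toFinset] at ht
            exact (idxU_act n γ⁻¹ ht.1).symm
      _ = ∑ s ∈ hT.toFinset, ∑ γ ∈ Finset.univ.filter
            (fun γ : Fin (n + 1) → Fˣ => dett n (act n σ γ s) = 1), idxU σ s := by
          simp_rw [Finset.sum_filter]
          rw [Finset.sum_comm]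
      _ = _ := by
          apply Finset.sum_congr rfl
          intro s _
          rw [Finset.sum_const, smul_eq_mul]
  have step2 : ∀ s ∈ hT.toFinset, (q + 1) * ((Finset.univ.filter
      (fun γ : Fin (n + 1) → Fˣ => dett n (act n σ γ s) = 1)).card * idxU σ s) ≤
      Fintype.card (Fin (n + 1) → Fˣ) * idxU σ s ^ 2 := by
    intro s hs
    have hsT : s ∈ TU σ n n := hT.mem_toFinset.1 hs
    by_cases hne : (Finset.univ.filter
        (fun γ : Fin (n + 1) → Fˣ => dett n (act n σ γ s) = 1)).Nonempty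
    · obtain ⟨γ₀, hγ₀⟩ := hne
      have h0 : (((chi n hσ s γ₀ : U1 σ) : Fˣ) : F) * dett n s = 1 := by
        rw [← dett_act n hσ γ₀ hsT]
        exact (Finset.mem_filter.1 hγ₀).2
      have hd : dett n s ≠ 0 := right_ne_zero_of_mul_eq_one h0
      have hsub : (Finset.univ.filter
          (fun γ : Fin (n + 1) → Fˣ => dett n (act n σ γ s) = 1)) ⊆
          Finset.univ.filter (fun γ : Fin (n + 1) → Fˣ => chi n hσ s γ = chi n hσ s γ₀) := by
        intro γ hγ
        rw [Finset.mem_filter] at hγ ⊢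
        refine ⟨Finset.mem_univ _, ?_⟩
        have h1 : (((chi n hσ s γ : U1 σ) : Fˣ) : F) * dett n s = 1 := by
          rw [← dett_act n hσ γ hsT]
          exact hγ.2
        apply Subtype.ext
        apply Units.ext
        exact mul_right_cancel₀ hd (h1.trans h0.symm)
      have hfib := card_fiber_le n hσ q hF hσq hsT (chi n hσ s γ₀)
      have hcard := Finset.card_le_card hsub
      calc (q + 1) * ((Finset.univ.filter
            (fun γ : Fin (n + 1) → Fˣ => dett n (act n σ γ s) = 1)).card * idxU σ s)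
          ≤ (q + 1) * ((Finset.univ.filter
            (fun γ : Fin (n + 1) → Fˣ => chi n hσ s γ = chi n hσ s γ₀)).card * idxU σ s) :=
            Nat.mul_le_mul_left _ (Nat.mul_le_mul_right _ hcard)
        _ = ((Finset.univ.filter
            (fun γ : Fin (n + 1) → Fˣ => chi n hσ s γ = chi n hσ s γ₀)).card *
              (q + 1)) * idxU σ s := by ring
        _ ≤ (Fintype.card (Fin (n + 1) → Fˣ) * idxU σ s) * idxU σ s :=
            Nat.mul_le_mul_right _ hfib
        _ = Fintype.card (Fin (n + 1) → Fˣ) * idxU σ s ^ 2 := by ring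
    · rw [Finset.not_nonempty_iff_eq_empty] at hne
      rw [hne, Finset.card_empty, zero_mul, mul_zero]
      exact Nat.zero_le _
  calc Fintype.card (Fin (n + 1) → Fˣ) *
        ((q + 1) * ∑ t ∈ hT.toFinset.filter (fun t => dett n t = 1), idxU σ t)
      = (q + 1) * (Fintype.card (Fin (n + 1) → Fˣ) *
          ∑ t ∈ hT.toFinset.filter (fun t => dett n t = 1), idxU σ t) := by ring
    _ = (q + 1) * ∑ s ∈ hT.toFinset, (Finset.univ.filter
          (fun γ : Fin (n + 1) → Fˣ => dett n (act n σ γ s) = 1)).card * idxU σ s := by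
        rw [step1]
    _ = ∑ s ∈ hT.toFinset, (q + 1) * ((Finset.univ.filter
          (fun γ : Fin (n + 1) → Fˣ => dett n (act n σ γ s) = 1)).card * idxU σ s) :=
        Finset.mul_sum _ _ _
    _ ≤ ∑ s ∈ hT.toFinset, Fintype.card (Fin (n + 1) → Fˣ) * idxU σ s ^ 2 :=
        Finset.sum_le_sum step2
    _ = Fintype.card (Fin (n + 1) → Fˣ) * ∑ t ∈ hT.toFinset, idxU σ t ^ 2 :=
        (Finset.mul_sum _ _ _).symm

end counting

end Cfsg.Agent.S2481P
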