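import Mathlib
import Cfsg.Agent.Helper7.S2481Defs
import Cfsg.Agent.Helper14.SLk.Defs

/-!
# S2481 Hermitian chapter (driver helper7), piece COMPL: the orthogonal complement of a nondegenerate
(invariant) subspace
-/

set_option autoImplicit false

namespace Cfsg.Agent.S2481P

open Polynomial DirectSum
open Cfsg.Agent.Helper2.Herm (cj)
open Cfsg.Agent.S2479P (mulDet)

universe u

namespace COMPL

open Cfsg.Agent.Helper2.Herm

variable {F : Type*} [Field F] [Fintype F] {n q : ℕ}

/-- the orthogonal complement as a submodule -/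
def perpSub (n q : ℕ) (W₁ : Submodule F (Fin n → F)) : Submodule F (Fin n → F) where
  carrier := {x | ∀ y ∈ W₁, Cfsg.hermForm n F q x y = 0}
  add_mem' := by
    intro a b ha hb y hy
    rw [hf_add_left, ha y hy, hb y hy, add_zero]
  zero_mem' := by
    intro y _
    exact hf_zero_left y
  smul_mem' := by
    intro c x hx y hy
    rw [hf_smul_left, hx y hy, mul_zero]

theorem mem_perpSub (W₁ : Submodule F (Fin n → F)) (x : Fin n → F) :
    x ∈ perpSub n q W₁ ↔ ∀ y ∈ W₁, Cfsg.hermForm n F q x y = 0 := Iff.rfl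

theorem hf_single (hF : Fintype.card F = q ^ 2) (x : Fin n → F) (i : Fin n) :
    Cfsg.hermForm n F q x (Pi.single i 1) = x i := by
  classical
  have hq : q ≠ 0 := by have := two_le_q hF; omega
  unfold Cfsg.hermForm
  rw [Finset.sum_eq_single i]
  · rw [Pi.single_eq_same, one_pow, mul_one]
  · intro j _ hji
    rw [Pi.single_eq_of_ne hji, zero_pow hq, mul_zero]
  · intro h
    exact absurd (Finset.mem_univ i) h

/-- the standard form is nondegenerate on the whole space -/
theorem nondegOn_top (hF : Fintype.card F = q ^ 2) : NondegOn (F := F) n q ⊤ := by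
  intro x _ hx
  funext i
  rw [← hf_single hF x i]
  exact hx _ Submodule.mem_top

/-- the map `x ↦ (h x (b i))_i` for a basis `b` of `W₁` -/
noncomputable def evalMap (n q : ℕ) (W₁ : Submodule F (Fin n → F)) :
    (Fin n → F) →ₗ[F] (Fin (Module.finrank F W₁) → F) where
  toFun x := fun i => Cfsg.hermForm n F q x ((Module.finBasis F W₁ i : W₁) : Fin n → F)
  map_add' x y := by
    funext i
    rw [Pi.add_apply, hf_add_left]
  map_smul' c x := by
    funext i
    rw [Pi.smul_apply, hf_smul_left, RingHom.id_apply, smul_eq_mul]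

theorem ker_evalMap (hF : Fintype.card F = q ^ 2) (W₁ : Submodule F (Fin n → F)) :
    LinearMap.ker (evalMap n q W₁) = perpSub n q W₁ := by
  ext x
  rw [LinearMap.mem_ker, mem_perpSub]
  constructor
  · intro hx y hy
    have hrepr := (Module.finBasis F W₁).sum_repr ⟨y, hy⟩
    have hy' : y = ∑ i, ((Module.finBasis F W₁).repr ⟨y, hy⟩ i) •
        ((Module.finBasis F W₁ i : W₁) : Fin n → F) := by
      have := congrArg (Subtype.val) hrepr
      rw [Submodule.coe_sum] at this
      simp only [Submodule.coe_smul] at this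
      exact this.symm
    rw [hy', hf_sum_right hF]
    apply Finset.sum_eq_zero
    intro i _
    rw [hf_smul_right hF]
    have := congrFun hx i
    show cj hF _ * Cfsg.hermForm n F q x ((Module.finBasis F W₁ i : W₁) : Fin n → F) = 0
    rw [show Cfsg.hermForm n F q x ((Module.finBasis F W₁ i : W₁) : Fin n → F) = 0 from this,
      mul_zero]
  · intro hx
    funext i
    exact hx _ (Module.finBasis F W₁ i).2

theorem exists_compl (hF : Fintype.card F = q ^ 2) (W₁ : Submodule F (Fin n → F))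
    (hnd₁ : NondegOn n q W₁) :
    ∃ W₂ : Submodule F (Fin n → F),
      (∀ x, x ∈ W₂ ↔ ∀ y ∈ W₁, Cfsg.hermForm n F q x y = 0) ∧ W₁ ⊔ W₂ = ⊤ ∧ W₁ ⊓ W₂ = ⊥ ∧
      NondegOn n q W₂ := by
  have hinf : W₁ ⊓ perpSub n q W₁ = ⊥ := by
    rw [eq_bot_iff]
    intro x hx
    rw [Submodule.mem_bot]
    exact hnd₁ x hx.1 ((mem_perpSub W₁ x).mp hx.2)
  have hsup : W₁ ⊔ perpSub n q W₁ = ⊤ := by
    apply Submodule.eq_top_of_finrank_eq
    have h1 := Submodule.finrank_sup_add_finrank_inf_eq W₁ (perpSub n q W₁)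
    rw [hinf, finrank_bot, add_zero] at h1
    have h2 := LinearMap.finrank_range_add_finrank_ker (evalMap n q W₁)
    rw [ker_evalMap hF] at h2
    have h3 : Module.finrank F (LinearMap.range (evalMap n q W₁)) ≤ Module.finrank F W₁ := by
      have := Submodule.finrank_le (LinearMap.range (evalMap n q W₁))
      rwa [Module.finrank_fin_fun] at this
    have h4 : Module.finrank F ↥(W₁ ⊔ perpSub n q W₁) ≤ Module.finrank F (Fin n → F) :=
      Submodule.finrank_le _
    omega
  refine ⟨perpSub n q W₁, fun x => mem_perpSub W₁ x, hsup, hinf, ?_⟩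
  intro x hx hx2
  apply nondegOn_top hF x Submodule.mem_top
  intro z _
  have hz : z ∈ W₁ ⊔ perpSub n q W₁ := by rw [hsup]; exact Submodule.mem_top
  obtain ⟨y₁, hy₁, y₂, hy₂, rfl⟩ := Submodule.mem_sup.mp hz
  rw [hf_add_right hF, (mem_perpSub W₁ x).mp hx y₁ hy₁, hx2 y₂ hy₂, add_zero]

theorem compl_invariant (hF : Fintype.card F = q ^ 2) (N : ℕ) (hN : 0 < N)
    (g : Module.End F (Fin n → F)) (hg : IsIsom n q g) (hgN : g ^ N = 1)
    (W₁ W₂ : Submodule F (Fin n → F)) (hinv : ∀ x ∈ W₁, g x ∈ W₁)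
    (hW₂ : ∀ x, x ∈ W₂ ↔ ∀ y ∈ W₁, Cfsg.hermForm n F q x y = 0) :
    ∀ x ∈ W₂, g x ∈ W₂ := by
  intro x hx
  rw [hW₂]
  intro y hy
  have hpow : ∀ k : ℕ, (g ^ k) y ∈ W₁ := by
    intro k
    induction k with
    | zero => rw [pow_zero]; exact hy
    | succ k ih =>
      rw [pow_succ', Module.End.mul_apply]
      exact hinv _ ih
  have e : g ((g ^ (N - 1)) y) = y := by
    rw [← Module.End.mul_apply, ← pow_succ', Nat.sub_add_cancel hN, hgN, Module.End.one_apply]
  rw [← e, hg]
  exact (hW₂ x).mp hx _ (hpow (N - 1))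

end COMPL

end Cfsg.Agent.S2481P
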