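import Mathlib
import Cfsg.Agent.Helper7.S2481Defs
import Cfsg.Agent.Helper14.SLk.Defs
import Cfsg.Agent.Helper25.S2481COMPL

/-!
# S2481 Hermitian chapter (driver helper7), piece EXT: equal Gram data of two generating families
gives an isometry intertwining the two endomorphisms
-/

set_option autoImplicit false

namespace Cfsg.Agent.S2481P

open Polynomial DirectSum
open Cfsg.Agent.Helper2.Herm (cj)
open Cfsg.Agent.S2479P (mulDet)

universe u

namespace EXT

open Cfsg.Agent.Helper2.Herm

set_option linter.unusedSectionVars false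

variable {F : Type*} [Field F] [Fintype F] {n q : ℕ}

/-- `c ↦ c(g) w` as a linear map -/
noncomputable def evL (g : Module.End F (Fin n → F)) (w : Fin n → F) : F[X] →ₗ[F] (Fin n → F) where
  toFun c := aeval g c w
  map_add' a b := by rw [map_add, LinearMap.add_apply]
  map_smul' c a := by rw [map_smul, LinearMap.smul_apply, RingHom.id_apply]

theorem evL_apply (g : Module.End F (Fin n → F)) (w : Fin n → F) (c : F[X]) :
    evL g w c = aeval g c w := rfl

/-- the presentation map `(c_i)_i ↦ ∑ c_i(g) v_i` -/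
noncomputable def pres (g : Module.End F (Fin n → F)) {ι : Type*} (v : ι → (Fin n → F)) :
    (ι →₀ F[X]) →ₗ[F] (Fin n → F) :=
  Finsupp.lsum F (fun i => evL g (v i))

theorem pres_apply (g : Module.End F (Fin n → F)) {ι : Type*} (v : ι → (Fin n → F))
    (c : ι →₀ F[X]) : pres g v c = ∑ i ∈ c.support, aeval g (c i) (v i) := by
  unfold pres
  rw [Finsupp.lsum_apply]
  rfl

theorem pres_single (g : Module.End F (Fin n → F)) {ι : Type*} (v : ι → (Fin n → F))
    (i : ι) (a : F[X]) : pres g v (Finsupp.single i a) = aeval g a (v i) := by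
  unfold pres
  rw [Finsupp.lsum_single]
  rfl

theorem pres_surj (g : Module.End F (Fin n → F)) {ι : Type*} (v : ι → (Fin n → F))
    (hspan : Submodule.span F {x | ∃ i, ∃ a : F[X], x = aeval g a (v i)} = ⊤) :
    Function.Surjective (pres g v) := by
  rw [← LinearMap.range_eq_top, eq_top_iff, ← hspan, Submodule.span_le]
  rintro x ⟨i, a, rfl⟩
  exact ⟨Finsupp.single i a, pres_single g v i a⟩

theorem gram_pres (hF : Fintype.card F = q ^ 2) (g g' : Module.End F (Fin n → F))
    {ι : Type*} (v v' : ι → (Fin n → F))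
    (hgram : ∀ i j (a b : F[X]),
      Cfsg.hermForm n F q (aeval g a (v i)) (aeval g b (v j)) =
        Cfsg.hermForm n F q (aeval g' a (v' i)) (aeval g' b (v' j)))
    (c d : ι →₀ F[X]) :
    Cfsg.hermForm n F q (pres g v c) (pres g v d) =
      Cfsg.hermForm n F q (pres g' v' c) (pres g' v' d) := by
  rw [pres_apply, pres_apply, pres_apply, pres_apply, hf_sum_left, hf_sum_left]
  apply Finset.sum_congr rfl
  intro i _
  rw [hf_sum_right hF, hf_sum_right hF]
  apply Finset.sum_congr rfl
  intro j _
  exact hgram i j (c i) (d j)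

theorem ker_le (hF : Fintype.card F = q ^ 2) (g g' : Module.End F (Fin n → F))
    {ι : Type*} (v v' : ι → (Fin n → F))
    (hspan' : Submodule.span F {x | ∃ i, ∃ a : F[X], x = aeval g' a (v' i)} = ⊤)
    (hgram : ∀ i j (a b : F[X]),
      Cfsg.hermForm n F q (aeval g a (v i)) (aeval g b (v j)) =
        Cfsg.hermForm n F q (aeval g' a (v' i)) (aeval g' b (v' j)))
    (c : ι →₀ F[X]) (hc : pres g v c = 0) : pres g' v' c = 0 := by
  apply COMPL.nondegOn_top hF _ Submodule.mem_top
  intro y _
  obtain ⟨d, rfl⟩ := pres_surj g' v' hspan' y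
  rw [← gram_pres hF g g' v v' hgram, hc, hf_zero_left]

theorem exists_isometry (hF : Fintype.card F = q ^ 2) (g g' : Module.End F (Fin n → F))
    {ι : Type*} (v v' : ι → (Fin n → F))
    (hspan : Submodule.span F {x | ∃ i, ∃ a : F[X], x = aeval g a (v i)} = ⊤)
    (hspan' : Submodule.span F {x | ∃ i, ∃ a : F[X], x = aeval g' a (v' i)} = ⊤)
    (hgram : ∀ i j (a b : F[X]),
      Cfsg.hermForm n F q (aeval g a (v i)) (aeval g b (v j)) =
        Cfsg.hermForm n F q (aeval g' a (v' i)) (aeval g' b (v' j))) :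
    ∃ S : (Fin n → F) ≃ₗ[F] (Fin n → F),
      (∀ x y, Cfsg.hermForm n F q (S x) (S y) = Cfsg.hermForm n F q x y) ∧
      (∀ x, S (g x) = g' (S x)) ∧ ∀ i, S (v i) = v' i := by
  have hsurj := pres_surj g v hspan
  obtain ⟨s, hs⟩ := LinearMap.exists_rightInverse_of_surjective (pres g v)
    (LinearMap.range_eq_top.mpr hsurj)
  have hs' : ∀ x, pres g v (s x) = x := fun x => by
    have := LinearMap.congr_fun hs x
    simpa using this
  -- the map
  obtain ⟨S₀, hS₀def⟩ : ∃ S₀ : (Fin n → F) →ₗ[F] (Fin n → F), S₀ = (pres g' v').comp s :=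
    ⟨_, rfl⟩
  have hS₀ : ∀ c, S₀ (pres g v c) = pres g' v' c := by
    intro c
    rw [hS₀def, LinearMap.comp_apply]
    have h0 : pres g v (s (pres g v c) - c) = 0 := by
      rw [map_sub, hs', sub_self]
    have h1 := ker_le hF g g' v v' hspan' hgram _ h0
    rw [map_sub, sub_eq_zero] at h1
    exact h1
  have hiso : ∀ x y, Cfsg.hermForm n F q (S₀ x) (S₀ y) = Cfsg.hermForm n F q x y := by
    intro x y
    obtain ⟨c, rfl⟩ := hsurj x
    obtain ⟨d, rfl⟩ := hsurj y
    rw [hS₀, hS₀]
    exact (gram_pres hF g g' v v' hgram c d).symm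
  have hinj : Function.Injective S₀ := by
    rw [← LinearMap.ker_eq_bot, eq_bot_iff]
    intro x hx
    rw [LinearMap.mem_ker] at hx
    rw [Submodule.mem_bot]
    apply COMPL.nondegOn_top hF x Submodule.mem_top
    intro y _
    rw [← hiso, hx, hf_zero_left]
  have hkey : ∀ i (a : F[X]), S₀ (aeval g a (v i)) = aeval g' a (v' i) := by
    intro i a
    rw [← pres_single g v, hS₀, pres_single]
  refine ⟨LinearEquiv.ofInjectiveEndo S₀ hinj, ?_, ?_, ?_⟩
  · intro x y
    rw [LinearEquiv.coe_ofInjectiveEndo]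
    exact hiso x y
  · have h2 : S₀.comp g = g'.comp S₀ := by
      apply LinearMap.ext_on hspan
      rintro x ⟨i, a, rfl⟩
      rw [LinearMap.comp_apply, LinearMap.comp_apply, hkey]
      have e1 : g (aeval g a (v i)) = aeval g (X * a) (v i) := by
        rw [map_mul, aeval_X, Module.End.mul_apply]
      have e2 : g' (aeval g' a (v' i)) = aeval g' (X * a) (v' i) := by
        rw [map_mul, aeval_X, Module.End.mul_apply]
      rw [e1, e2, hkey]
    intro x
    rw [LinearEquiv.coe_ofInjectiveEndo]
    exact LinearMap.congr_fun h2 x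
  · intro i
    rw [LinearEquiv.coe_ofInjectiveEndo]
    have := hkey i 1
    rw [map_one, Module.End.one_apply] at this
    rw [this, map_one, Module.End.one_apply]

end EXT

end Cfsg.Agent.S2481P
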