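import Mathlib
import Cfsg.Prelude.Def_Classical
import Cfsg.Agent.Helper17.S2558GDefs

/-! S2558 chapter (G), piece OFITPACK (helper25; twin of Helper20.S2482FITPACK): package complementary
orthogonal `g`-stable subspaces `W, U` of an orthogonal space into an orthogonal sum `S = S₁ + S₂`. -/

set_option autoImplicit false

namespace Cfsg.Agent.S2558P

open Polynomial Cfsg.Agent.Helper2.SympInvol Cfsg.Agent.S2676P Cfsg.Agent.S2478P Cfsg.Agent.S2481P
  Cfsg.Agent.S2482P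

universe u

variable {F : Type u} [Field F]

namespace OFITPACK

/-- the sub-space structure on a `g`-stable submodule -/
abbrev osub (S : SpSpace F) (W : Submodule F S.V) (hgW : ∀ w ∈ W, S.g w ∈ W) : SpSpace F :=
  { V := W
    B := S.B.restrict W
    g := S.g.restrict hgW }

theorem osub_B (S : SpSpace F) (W : Submodule F S.V) (hgW : ∀ w ∈ W, S.g w ∈ W) (a b : W) :
    (osub S W hgW).B a b = S.B (a : S.V) (b : S.V) := rfl

theorem osub_g (S : SpSpace F) (W : Submodule F S.V) (hgW : ∀ w ∈ W, S.g w ∈ W) (a : W) :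
    (((osub S W hgW).g a : W) : S.V) = S.g (a : S.V) := rfl

theorem isOrth_osub (S : SpSpace F) (hS : S.IsOrth) (W U : Submodule F S.V) (hWU : IsCompl W U)
    (hO : ∀ w ∈ W, ∀ u ∈ U, S.B w u = 0) (hgW : ∀ w ∈ W, S.g w ∈ W) : (osub S W hgW).IsOrth := by
  refine ⟨?_, ?_, ?_⟩
  · intro (a : W) (b : W)
    rw [osub_B, osub_B]
    exact hS.symm _ _
  · intro (m : W) _ hm0
    have hm0' : (m : S.V) ≠ 0 := by
      intro h
      exact hm0 (Subtype.ext h)
    obtain ⟨v, -, hv⟩ := hS.nondeg (m : S.V) Submodule.mem_top hm0'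
    have hv' : v ∈ W ⊔ U := by
      rw [hWU.sup_eq_top]
      exact Submodule.mem_top
    obtain ⟨w, hw, u, hu, rfl⟩ := Submodule.mem_sup.mp hv'
    refine ⟨(⟨w, hw⟩ : W), Submodule.mem_top, ?_⟩
    rw [osub_B]
    rw [map_add, hO m m.2 u hu, add_zero] at hv
    exact hv
  · intro (a : W) (b : W)
    rw [osub_B, osub_B, osub_g, osub_g]
    exact hS.isom _ _

theorem exists_sum (S : SpSpace F) (hS : S.IsOrth) (W U : Submodule F S.V) (hWU : IsCompl W U)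
    (hO : ∀ w ∈ W, ∀ u ∈ U, S.B w u = 0) (hgW : ∀ w ∈ W, S.g w ∈ W) (hgU : ∀ u ∈ U, S.g u ∈ U) :
    ∃ S₁ S₂ : SpSpace F, S₁.IsOrth ∧ S₂.IsOrth ∧ S.IsSum S₁ S₂ ∧
      (∃ i₁ : S₁.V ≃ₗ[F] W, ∀ v, ((i₁ (S₁.g v) : W) : S.V) = S.g (i₁ v)) ∧
      ∃ i₂ : S₂.V ≃ₗ[F] U, ∀ v, ((i₂ (S₂.g v) : U) : S.V) = S.g (i₂ v) := by
  have hO' : ∀ u ∈ U, ∀ w ∈ W, S.B u w = 0 := by
    intro u hu w hw
    rw [hS.symm, hO w hw u hu]
  refine ⟨osub S W hgW, osub S U hgU, isOrth_osub S hS W U hWU hO hgW,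
    isOrth_osub S hS U W hWU.symm hO' hgU, ?_, ⟨LinearEquiv.refl F _, fun v => rfl⟩,
    ⟨LinearEquiv.refl F _, fun v => rfl⟩⟩
  refine ⟨(Submodule.prodEquivOfIsCompl W U hWU).symm, ?_, ?_⟩
  · intro a b
    obtain ⟨⟨a1, a2⟩, rfl⟩ := (Submodule.prodEquivOfIsCompl W U hWU).surjective a
    obtain ⟨⟨b1, b2⟩, rfl⟩ := (Submodule.prodEquivOfIsCompl W U hWU).surjective b
    rw [LinearEquiv.symm_apply_apply, LinearEquiv.symm_apply_apply]
    simp only [Submodule.coe_prodEquivOfIsCompl', map_add, LinearMap.add_apply]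
    rw [hO a1 a1.2 b2 b2.2, hO' a2 a2.2 b1 b1.2, osub_B, osub_B]
    ring
  · intro v
    obtain ⟨⟨a1, a2⟩, rfl⟩ := (Submodule.prodEquivOfIsCompl W U hWU).surjective v
    rw [LinearEquiv.symm_apply_apply, LinearEquiv.symm_apply_eq]
    simp only [Submodule.coe_prodEquivOfIsCompl', map_add]
    rfl

end OFITPACK

end Cfsg.Agent.S2558P
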