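import Mathlib
import Cfsg.Agent.Helper14.S5559Defs

set_option autoImplicit false

/-! S5559 piece INV3: an element of `Q` inverted by `t` has cube one. -/

namespace Cfsg.Agent.S5559P

/-! ## INV3 (S): an element of `Q` inverted by `t` has cube one -/
theorem INV3 {G : Type*} [Group G] [Finite G] {W : Type*} [CommGroup W]
    (C : Ctx G W) (y : G) (hy : y ∈ C.Q) (hi : C.t * y * C.t = y⁻¹) : y ^ 3 = 1 := by
  have ht : C.t ∈ C.D := (C.hD C.t).mpr ⟨1, C.Q.one_mem, by simp⟩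
  have ha : y * C.t * y⁻¹ ∈ C.D := (C.hD _).mpr ⟨y, hy, rfl⟩
  have h3 := C.hprod3 _ ha _ ht
  have htinv : C.t⁻¹ = C.t := inv_eq_of_mul_eq_one_right C.ht2
  have hty : C.t * y⁻¹ * C.t = y := by
    have h := congrArg (fun g => g⁻¹) hi
    simp only [mul_inv_rev, htinv, inv_inv] at h
    rw [mul_assoc]
    exact h
  have hy2 : y * C.t * y⁻¹ * C.t = y ^ 2 := by
    rw [pow_two]
    calc y * C.t * y⁻¹ * C.t = y * (C.t * y⁻¹ * C.t) := by group
      _ = y * y := by rw [hty]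
  rw [hy2] at h3
  have h6 : y ^ 6 = 1 := by
    rw [show 6 = 2 * 3 from rfl, pow_mul]; exact h3
  obtain ⟨k, hk⟩ := C.hQ3 ⟨y, hy⟩
  have hk' : y ^ (3 ^ k) = 1 := by
    have := congrArg Subtype.val hk
    simpa using this
  have hd6 : orderOf y ∣ 6 := orderOf_dvd_of_pow_eq_one h6
  have hd3 : orderOf y ∣ 3 ^ k := orderOf_dvd_of_pow_eq_one hk'
  obtain ⟨j, -, hj⟩ := (Nat.dvd_prime_pow Nat.prime_three).mp hd3
  have hj1 : j ≤ 1 := by
    by_contra hcon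
    push Not at hcon
    have h9 : 3 ^ 2 ∣ 3 ^ j := pow_dvd_pow 3 hcon
    rw [← hj] at h9
    have : 3 ^ 2 ∣ 6 := h9.trans hd6
    omega
  have hdvd : orderOf y ∣ 3 := by
    rw [hj]
    calc 3 ^ j ∣ 3 ^ 1 := pow_dvd_pow 3 hj1
      _ = 3 := pow_one 3
  exact orderOf_dvd_iff_pow_eq_one.mp hdvd

end Cfsg.Agent.S5559P
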