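import Mathlib
import Cfsg.Agent.Helper14.S5559Defs
import Cfsg.Agent.Helper20.S5559QGEN

set_option autoImplicit false

/-! S5559 piece CORE3a: an inverted element of the second centre of `Q` outside the centre. -/

namespace Cfsg.Agent.S5559P

/-- An element of the 3-group `Q` whose square is one is trivial. -/
theorem CORE3a.aux_sq_one {G : Type*} [Group G] {W : Type*} [CommGroup W] (C : Ctx G W) (c : G)
    (hc : c ∈ C.Q) (h2 : c * c = 1) : c = 1 := by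
  obtain ⟨k, hk⟩ := C.hQ3 ⟨c, hc⟩
  have hk' : c ^ (3 ^ k) = 1 := by
    have := congrArg Subtype.val hk
    simpa using this
  have hd2 : orderOf c ∣ 2 := orderOf_dvd_of_pow_eq_one (by rw [pow_two]; exact h2)
  have hd3 : orderOf c ∣ 3 ^ k := orderOf_dvd_of_pow_eq_one hk'
  have hcop : Nat.Coprime 2 (3 ^ k) := Nat.Coprime.pow_right k (by norm_num)
  have h1 : orderOf c = 1 := Nat.eq_one_of_dvd_coprimes hcop hd2 hd3
  exact orderOf_eq_one_iff.mp h1

/-- `Q` is not abelian. -/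
theorem CORE3a.aux_nonab {G : Type*} [Group G] [Finite G] {W : Type*} [CommGroup W] (C : Ctx G W)
    (hZt : ∀ g ∈ C.Q, (∀ q ∈ C.Q, g * q = q * g) → C.t * g * C.t = g) :
    ∃ q₁ ∈ C.Q, ∃ q₂ ∈ C.Q, q₁ * q₂ ≠ q₂ * q₁ := by
  by_contra hcon
  push Not at hcon
  -- `t` centralises `Q`
  have htQ : ∀ q ∈ C.Q, C.t * q = q * C.t := by
    intro q hq
    have h := hZt q hq (fun q' hq' => hcon q hq q' hq')
    calc C.t * q = (C.t * q * C.t) * C.t := by rw [mul_assoc _ C.t C.t, C.ht2, mul_one]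
      _ = q * C.t := by rw [h]
  -- `D = {t}`
  have hD : C.D ⊆ {C.t} := by
    intro d hd
    obtain ⟨q, hq, rfl⟩ := (C.hD d).mp hd
    rw [Set.mem_singleton_iff, ← htQ q hq, mul_assoc, mul_inv_cancel, mul_one]
  have htop : Subgroup.zpowers C.t = ⊤ := by
    rw [eq_top_iff, ← C.hgen, Subgroup.closure_le]
    intro d hd
    rw [hD hd]
    exact Subgroup.mem_zpowers C.t
  obtain ⟨q, hq, hq1⟩ := C.hQne
  have hqz : q ∈ Subgroup.zpowers C.t := by rw [htop]; trivial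
  obtain ⟨k, rfl⟩ := Subgroup.mem_zpowers_iff.mp hqz
  apply hq1
  apply CORE3a.aux_sq_one C _ hq
  rw [← zpow_add, ← two_mul, zpow_mul, zpow_ofNat, pow_two, C.ht2, one_zpow]

/-! ## CORE3a (L): an inverted element of the second centre outside the centre; uses QGEN -/
theorem CORE3a {G : Type*} [Group G] [Finite G] {W : Type*} [CommGroup W] [Finite W]
    (C : Ctx G W)
    (hZt : ∀ g ∈ C.Q, (∀ q ∈ C.Q, g * q = q * g) → C.t * g * C.t = g) :
    ∃ y ∈ C.Q, C.t * y * C.t = y⁻¹ ∧ (∃ q ∈ C.Q, y * q ≠ q * y) ∧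
      ∀ q ∈ C.Q, ∀ q' ∈ C.Q, (q * y * q⁻¹ * y⁻¹) * q' = q' * (q * y * q⁻¹ * y⁻¹) := by
  classical
  have hQn : C.Q.Normal := C.hQn
  have htinv : C.t⁻¹ = C.t := inv_eq_of_mul_eq_one_right C.ht2
  have hconjt : ∀ q ∈ C.Q, C.t * q * C.t ∈ C.Q := by
    intro q hq
    have := C.hQn.conj_mem q hq C.t
    rwa [htinv] at this
  -- the centre `Z` of `Q`, as a normal subgroup of `G`
  let Z : Subgroup G := C.Q ⊓ Subgroup.centralizer (C.Q : Set G)
  have hZn : Z.Normal := Subgroup.normal_inf_normal _ _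
  have hZmem : ∀ g : G, g ∈ Z ↔ g ∈ C.Q ∧ ∀ q ∈ C.Q, g * q = q * g := by
    intro g
    constructor
    · rintro ⟨h1, h2⟩
      exact ⟨h1, fun q hq => ((Subgroup.mem_centralizer_iff.mp h2) q hq).symm⟩
    · rintro ⟨h1, h2⟩
      exact ⟨h1, Subgroup.mem_centralizer_iff.mpr fun q hq => (h2 q hq).symm⟩
  have hZfix : ∀ c ∈ Z, C.t * c * C.t = c := fun c hc =>
    hZt c ((hZmem c).mp hc).1 ((hZmem c).mp hc).2
  -- the second centre
  let Z2 : Subgroup G := C.Q ⊓ (Subgroup.centralizer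
    ((C.Q.map (QuotientGroup.mk' Z) : Subgroup (G ⧸ Z)) : Set (G ⧸ Z))).comap (QuotientGroup.mk' Z)
  have hmapn : (C.Q.map (QuotientGroup.mk' Z)).Normal :=
    Subgroup.Normal.map hQn _ (QuotientGroup.mk'_surjective Z)
  have hZ2n : Z2.Normal := by
    have h1 : (Subgroup.centralizer
        ((C.Q.map (QuotientGroup.mk' Z) : Subgroup (G ⧸ Z)) : Set (G ⧸ Z))).Normal :=
      Subgroup.normal_centralizer
    have h2 : ((Subgroup.centralizer
        ((C.Q.map (QuotientGroup.mk' Z) : Subgroup (G ⧸ Z)) : Set (G ⧸ Z))).comap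
          (QuotientGroup.mk' Z)).Normal := Subgroup.Normal.comap h1 _
    exact Subgroup.normal_inf_normal _ _
  have hZ2mem : ∀ g : G, g ∈ Z2 ↔ g ∈ C.Q ∧ ∀ q ∈ C.Q, g * q * g⁻¹ * q⁻¹ ∈ Z := by
    intro g
    constructor
    · intro h
      obtain ⟨h1, h2⟩ := Subgroup.mem_inf.mp h
      refine ⟨h1, fun q hq => ?_⟩
      rw [Subgroup.mem_comap, Subgroup.mem_centralizer_iff] at h2
      have h3 := h2 (QuotientGroup.mk' Z q) (Subgroup.mem_map_of_mem _ hq)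
      rw [← map_mul, ← map_mul] at h3
      have h4 : ((g * q : G) : G ⧸ Z) = ((q * g : G) : G ⧸ Z) := h3.symm
      rw [QuotientGroup.eq_iff_div_mem] at h4
      have : g * q / (q * g) = g * q * g⁻¹ * q⁻¹ := by
        rw [div_eq_mul_inv, mul_inv_rev, ← mul_assoc]
      rwa [this] at h4
    · rintro ⟨h1, h2⟩
      refine Subgroup.mem_inf.mpr ⟨h1, ?_⟩
      rw [Subgroup.mem_comap, Subgroup.mem_centralizer_iff]
      rintro _ ⟨q, hq, rfl⟩
      rw [← map_mul, ← map_mul]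
      symm
      change ((g * q : G) : G ⧸ Z) = ((q * g : G) : G ⧸ Z)
      rw [QuotientGroup.eq_iff_div_mem]
      have : g * q / (q * g) = g * q * g⁻¹ * q⁻¹ := by
        rw [div_eq_mul_inv, mul_inv_rev, ← mul_assoc]
      rw [this]
      exact h2 q hq
  -- an element of `Z2` outside `Z`
  obtain ⟨q₁, hq₁, q₂, hq₂, hne⟩ := CORE3a.aux_nonab C hZt
  have hq₁Z : q₁ ∉ Z := fun h => hne (((hZmem q₁).mp h).2 q₂ hq₂)
  have hex : ∃ g ∈ Z2, g ∉ Z := by
    have hp : IsPGroup 3 (C.Q.map (QuotientGroup.mk' Z)) := C.hQ3.map _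
    have hnt : Nontrivial (C.Q.map (QuotientGroup.mk' Z)) := by
      refine ⟨⟨⟨QuotientGroup.mk' Z q₁, Subgroup.mem_map_of_mem _ hq₁⟩, 1, ?_⟩⟩
      intro h
      have h' : (QuotientGroup.mk' Z q₁ : G ⧸ Z) = 1 := congrArg Subtype.val h
      rw [QuotientGroup.mk'_apply, QuotientGroup.eq_one_iff] at h'
      exact hq₁Z h'
    have hcn := hp.center_nontrivial
    obtain ⟨x, hx⟩ := exists_ne (1 : Subgroup.center (C.Q.map (QuotientGroup.mk' Z)))
    obtain ⟨g, hg, hgx⟩ := Subgroup.mem_map.mp x.1.2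
    refine ⟨g, ?_, ?_⟩
    · refine Subgroup.mem_inf.mpr ⟨hg, ?_⟩
      rw [Subgroup.mem_comap, Subgroup.mem_centralizer_iff]
      intro h hh
      have hx2 := Subgroup.mem_center_iff.mp x.2 ⟨h, hh⟩
      have hx3 := congrArg Subtype.val hx2
      simp only [Subgroup.coe_mul] at hx3
      rw [hgx]
      exact hx3
    · intro hgZ
      apply hx
      apply Subtype.ext
      apply Subtype.ext
      rw [← hgx, QuotientGroup.mk'_apply]
      simp only [Subgroup.coe_one]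
      exact (QuotientGroup.eq_one_iff g).mpr hgZ
  -- some element of `Z2` is moved by `t` modulo `Z`
  have hex2 : ∃ g ∈ Z2, g⁻¹ * (C.t * g * C.t) ∉ Z := by
    by_contra hcon
    push Not at hcon
    obtain ⟨g, hgZ2, hgZ⟩ := hex
    apply hgZ
    have hgQ : g ∈ C.Q := ((hZ2mem g).mp hgZ2).1
    -- `t g t = g`
    have hc := hcon g hgZ2
    have hcQ : g⁻¹ * (C.t * g * C.t) ∈ C.Q := ((hZmem _).mp hc).1
    have hcfix := hZfix _ hc
    have hcc : (g⁻¹ * (C.t * g * C.t)) * (g⁻¹ * (C.t * g * C.t)) = 1 := by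
      have e1 : C.t * (g⁻¹ * (C.t * g * C.t)) * C.t = (g⁻¹ * (C.t * g * C.t))⁻¹ := by
        calc C.t * (g⁻¹ * (C.t * g * C.t)) * C.t = C.t * g⁻¹ * C.t * g * (C.t * C.t) := by group
          _ = C.t * g⁻¹ * C.t * g := by rw [C.ht2, mul_one]
          _ = (g⁻¹ * (C.t * g * C.t))⁻¹ := by
            simp only [mul_inv_rev, htinv, inv_inv]; group
      rw [hcfix] at e1
      calc (g⁻¹ * (C.t * g * C.t)) * (g⁻¹ * (C.t * g * C.t))
          = (g⁻¹ * (C.t * g * C.t)) * (g⁻¹ * (C.t * g * C.t))⁻¹ := by rw [← e1]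
        _ = 1 := mul_inv_cancel _
    have hc1 := CORE3a.aux_sq_one C _ hcQ hcc
    have htg : C.t * g * C.t = g := by
      calc C.t * g * C.t = g * (g⁻¹ * (C.t * g * C.t)) := by group
        _ = g := by rw [hc1, mul_one]
    -- `g` commutes with `u q = (t q t) q⁻¹`
    have hu : ∀ q ∈ C.Q, g * ((C.t * q * C.t) * q⁻¹) = ((C.t * q * C.t) * q⁻¹) * g := by
      intro q hq
      -- c' = g⁻¹ q⁻¹ g q ∈ Z, fixed by t
      have hginv : g⁻¹ ∈ Z2 := Z2.inv_mem hgZ2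
      have hc' : g⁻¹ * q⁻¹ * g * q ∈ Z := by
        have := ((hZ2mem g⁻¹).mp hginv).2 q⁻¹ (C.Q.inv_mem hq)
        simpa using this
      have hfix' := hZfix _ hc'
      -- x = q⁻¹ g q = g c' is fixed by t
      have hx : C.t * (q⁻¹ * g * q) * C.t = q⁻¹ * g * q := by
        have e : q⁻¹ * g * q = g * (g⁻¹ * q⁻¹ * g * q) := by group
        rw [e]
        calc C.t * (g * (g⁻¹ * q⁻¹ * g * q)) * C.t
            = (C.t * g * C.t) * (C.t * (g⁻¹ * q⁻¹ * g * q) * C.t) := by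
              rw [show C.t * g * C.t * (C.t * (g⁻¹ * q⁻¹ * g * q) * C.t)
                = C.t * g * (C.t * C.t) * (g⁻¹ * q⁻¹ * g * q) * C.t by group, C.ht2, mul_one]
              group
          _ = g * (g⁻¹ * q⁻¹ * g * q) := by rw [htg, hfix']
      -- expand: t q⁻¹ t g t q t = q⁻¹ g q
      have hx' : (C.t * q * C.t)⁻¹ * g * (C.t * q * C.t) = q⁻¹ * g * q := by
        rw [← hx]
        simp only [mul_inv_rev, htinv]
        calc C.t * (q⁻¹ * C.t) * g * (C.t * q * C.t)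
            = C.t * (q⁻¹ * (C.t * g * C.t) * q) * C.t := by group
          _ = C.t * (q⁻¹ * g * q) * C.t := by rw [htg]
      calc g * ((C.t * q * C.t) * q⁻¹)
          = (C.t * q * C.t) * ((C.t * q * C.t)⁻¹ * g * (C.t * q * C.t)) * q⁻¹ := by group
        _ = (C.t * q * C.t) * (q⁻¹ * g * q) * q⁻¹ := by rw [hx']
        _ = ((C.t * q * C.t) * q⁻¹) * g := by group
    -- `g` commutes with all products of two members of `D`, hence with `Q`
    have hle : C.Q ≤ Subgroup.centralizer ({g} : Set G) := by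
      refine (QGEN C).trans ?_
      rw [Subgroup.closure_le]
      rintro x ⟨a, ha, b, hb, rfl⟩
      obtain ⟨qa, hqa, rfl⟩ := (C.hD a).mp ha
      obtain ⟨qb, hqb, rfl⟩ := (C.hD b).mp hb
      rw [SetLike.mem_coe, Subgroup.mem_centralizer_iff]
      intro h hh
      rw [Set.mem_singleton_iff] at hh
      subst hh
      -- a b = (u qa)⁻¹ (u qb)
      have e : qa * C.t * qa⁻¹ * (qb * C.t * qb⁻¹)
          = ((C.t * qa * C.t) * qa⁻¹)⁻¹ * ((C.t * qb * C.t) * qb⁻¹) := by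
        simp only [mul_inv_rev, htinv, inv_inv]
        calc qa * C.t * qa⁻¹ * (qb * C.t * qb⁻¹)
            = qa * C.t * qa⁻¹ * (C.t * C.t) * (qb * C.t * qb⁻¹) := by rw [C.ht2, mul_one]
          _ = qa * (C.t * (qa⁻¹ * C.t)) * (C.t * qb * C.t * qb⁻¹) := by group
      rw [e]
      have h1 := hu qa hqa
      have h2 := hu qb hqb
      have h1' : h * ((C.t * qa * C.t) * qa⁻¹)⁻¹ = ((C.t * qa * C.t) * qa⁻¹)⁻¹ * h := by
        calc h * ((C.t * qa * C.t) * qa⁻¹)⁻¹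
            = ((C.t * qa * C.t) * qa⁻¹)⁻¹ * (((C.t * qa * C.t) * qa⁻¹) * h) *
                ((C.t * qa * C.t) * qa⁻¹)⁻¹ := by group
          _ = ((C.t * qa * C.t) * qa⁻¹)⁻¹ * (h * ((C.t * qa * C.t) * qa⁻¹)) *
                ((C.t * qa * C.t) * qa⁻¹)⁻¹ := by rw [h1]
          _ = ((C.t * qa * C.t) * qa⁻¹)⁻¹ * h := by group
      symm
      calc ((C.t * qa * C.t) * qa⁻¹)⁻¹ * ((C.t * qb * C.t) * qb⁻¹) * h
          = ((C.t * qa * C.t) * qa⁻¹)⁻¹ * (((C.t * qb * C.t) * qb⁻¹) * h) := by group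
        _ = ((C.t * qa * C.t) * qa⁻¹)⁻¹ * (h * ((C.t * qb * C.t) * qb⁻¹)) := by rw [h2]
        _ = (((C.t * qa * C.t) * qa⁻¹)⁻¹ * h) * ((C.t * qb * C.t) * qb⁻¹) := by group
        _ = (h * ((C.t * qa * C.t) * qa⁻¹)⁻¹) * ((C.t * qb * C.t) * qb⁻¹) := by rw [h1']
        _ = h * (((C.t * qa * C.t) * qa⁻¹)⁻¹ * ((C.t * qb * C.t) * qb⁻¹)) := by group
    rw [hZmem]
    refine ⟨hgQ, fun q hq => ?_⟩
    have := hle hq
    rw [Subgroup.mem_centralizer_iff] at this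
    exact this g rfl
  -- the element `y`
  obtain ⟨g, hgZ2, hgy⟩ := hex2
  have hgQ : g ∈ C.Q := ((hZ2mem g).mp hgZ2).1
  have htgZ2 : C.t * g * C.t ∈ Z2 := by
    have := hZ2n.conj_mem g hgZ2 C.t
    rwa [htinv] at this
  have hyZ2 : g⁻¹ * (C.t * g * C.t) ∈ Z2 := Z2.mul_mem (Z2.inv_mem hgZ2) htgZ2
  have hyQ : g⁻¹ * (C.t * g * C.t) ∈ C.Q := ((hZ2mem _).mp hyZ2).1
  refine ⟨g⁻¹ * (C.t * g * C.t), hyQ, ?_, ?_, ?_⟩
  · calc C.t * (g⁻¹ * (C.t * g * C.t)) * C.t = C.t * g⁻¹ * C.t * g * (C.t * C.t) := by group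
      _ = C.t * g⁻¹ * C.t * g := by rw [C.ht2, mul_one]
      _ = (g⁻¹ * (C.t * g * C.t))⁻¹ := by
        simp only [mul_inv_rev, htinv, inv_inv]; group
  · by_contra hcon
    push Not at hcon
    exact hgy ((hZmem _).mpr ⟨hyQ, hcon⟩)
  · intro q hq q' hq'
    have h1 := ((hZ2mem _).mp hyZ2).2 q hq
    have h2 : q * (g⁻¹ * (C.t * g * C.t)) * q⁻¹ * (g⁻¹ * (C.t * g * C.t))⁻¹ ∈ Z := by
      have := Z.inv_mem h1
      have e : ((g⁻¹ * (C.t * g * C.t)) * q * (g⁻¹ * (C.t * g * C.t))⁻¹ * q⁻¹)⁻¹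
          = q * (g⁻¹ * (C.t * g * C.t)) * q⁻¹ * (g⁻¹ * (C.t * g * C.t))⁻¹ := by group
      rwa [e] at this
    exact ((hZmem _).mp h2).2 q' hq'

end Cfsg.Agent.S5559P
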