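import Mathlib
import Cfsg.Agent.Helper14.S5559Defs
import Cfsg.Agent.Helper25.S5559INV3
import Cfsg.Agent.Helper5.S5559TRIV

set_option autoImplicit false

/-! S5559 piece F1: commuting inverted elements of `Q` generate a cyclic group. -/

namespace Cfsg.Agent.S5559P

/-! ## F1 (M): uses TRIV (c = 1), INV3 -/
theorem F1 {G : Type*} [Group G] [Finite G] {W : Type*} [CommGroup W] [Finite W]
    (C : Ctx G W) (y₁ y₂ : G) (h1 : y₁ ∈ C.Q) (h2 : y₂ ∈ C.Q)
    (hi1 : C.t * y₁ * C.t = y₁⁻¹) (hi2 : C.t * y₂ * C.t = y₂⁻¹)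
    (hcomm : y₁ * y₂ = y₂ * y₁) (hne : y₁ ≠ 1) : y₂ ∈ Subgroup.zpowers y₁ := by
  by_contra hcon
  have h31 : y₁ ^ 3 = 1 := INV3 C y₁ h1 hi1
  have h32 : y₂ ^ 3 = 1 := INV3 C y₂ h2 hi2
  have ho1 : orderOf y₁ = 3 := orderOf_eq_prime h31 hne
  have hind : ∀ i j : ℕ, y₁ ^ i * y₂ ^ j ∈ Subgroup.zpowers (1 : G) → 3 ∣ i ∧ 3 ∣ j := by
    intro i j hij
    rw [Subgroup.zpowers_one_eq_bot, Subgroup.mem_bot] at hij
    have hj : 3 ∣ j := by
      by_contra h3j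
      apply hcon
      -- y₂ ^ j ∈ ⟨y₁⟩ and j is invertible mod 3
      have hy2j : y₂ ^ j ∈ Subgroup.zpowers y₁ := by
        have : y₂ ^ j = (y₁ ^ i)⁻¹ := eq_inv_of_mul_eq_one_right hij
        rw [this]
        exact Subgroup.inv_mem _ (Subgroup.pow_mem _ (Subgroup.mem_zpowers y₁) i)
      have hcop : Nat.Coprime j 3 := by
        rw [Nat.coprime_comm, Nat.Prime.coprime_iff_not_dvd Nat.prime_three]; exact h3j
      have ho2 : orderOf y₂ ∣ 3 := orderOf_dvd_of_pow_eq_one h32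
      have hcop' : Nat.Coprime (orderOf y₂) j := (Nat.Coprime.coprime_dvd_left ho2 hcop.symm)
      obtain ⟨m, hm⟩ := exists_pow_eq_self_of_coprime hcop'.symm
      rw [← hm]
      exact Subgroup.pow_mem _ hy2j m
    refine ⟨?_, hj⟩
    obtain ⟨k, rfl⟩ := hj
    rw [pow_mul, h32, one_pow, mul_one] at hij
    rw [← ho1]
    exact orderOf_dvd_of_pow_eq_one hij
  have key := TRIV C y₁ y₂ 1 h1 h2 hi1 hi2 (by rw [one_mul]; exact hcomm) (fun g => by simp) hind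
  apply hne
  apply C.hfaith y₁ h1
  intro w
  exact (key w (by simp)).1

end Cfsg.Agent.S5559P
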