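import Mathlib

/-!
# S3371 (Isaacs–Passman: half-transitive `p`-groups of linear maps): shared definitions

`ρ : G →* (V ≃ₗ[ZMod q] V)` is a linear action of the group `G` on the `ZMod q`-module `V`.
-/

set_option autoImplicit false

namespace Cfsg.Agent.HT3371

variable {q : ℕ} {V : Type*} [AddCommGroup V] [Module (ZMod q) V] {G : Type*} [Group G]

/-- all orbits on the nonzero vectors have the same size (the hypothesis of S3371) -/
def HalfTrans (ρ : G →* (V ≃ₗ[ZMod q] V)) : Prop :=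
  ∀ v w : V, v ≠ 0 → w ≠ 0 →
    Nat.card {u : V | ∃ g : G, ρ g v = u} = Nat.card {u : V | ∃ g : G, ρ g w = u}

/-- the action is semiregular on the nonzero vectors -/
def Semireg (ρ : G →* (V ≃ₗ[ZMod q] V)) : Prop :=
  ∀ v : V, v ≠ 0 → ∀ g : G, ρ g v = v → g = 1

/-- the stabilizer of a vector -/
def stab (ρ : G →* (V ≃ₗ[ZMod q] V)) (v : V) : Subgroup G where
  carrier := {g | ρ g v = v}
  one_mem' := by simp
  mul_mem' := by
    intro g h hg hh
    simp only [Set.mem_ofPred_eq] at hg hh ⊢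
    rw [map_mul, LinearEquiv.mul_apply, hh, hg]
  inv_mem' := by
    intro g hg
    simp only [Set.mem_ofPred_eq] at hg ⊢
    have h1 : ρ g⁻¹ (ρ g v) = v := by
      rw [← LinearEquiv.mul_apply, ← map_mul, inv_mul_cancel, map_one]
      rfl
    rw [hg] at h1
    exact h1

theorem mem_stab (ρ : G →* (V ≃ₗ[ZMod q] V)) (v : V) (g : G) : g ∈ stab ρ v ↔ ρ g v = v :=
  Iff.rfl

/-- all stabilizers of nonzero vectors have the same order -/
def EqStab (ρ : G →* (V ≃ₗ[ZMod q] V)) : Prop :=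
  ∀ v w : V, v ≠ 0 → w ≠ 0 → Nat.card (stab ρ v) = Nat.card (stab ρ w)

/-- `g` has no nonzero fixed vector -/
def Fpf (ρ : G →* (V ≃ₗ[ZMod q] V)) (g : G) : Prop :=
  ∀ v : V, ρ g v = v → v = 0

/-- the fixed space of `g` -/
def fixSp (ρ : G →* (V ≃ₗ[ZMod q] V)) (g : G) : Submodule (ZMod q) V where
  carrier := {v | ρ g v = v}
  zero_mem' := by simp
  add_mem' := by
    intro v w hv hw
    simp only [Set.mem_ofPred_eq] at hv hw ⊢
    rw [map_add, hv, hw]
  smul_mem' := by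
    intro c v hv
    simp only [Set.mem_ofPred_eq] at hv ⊢
    rw [map_smul, hv]

theorem mem_fixSp (ρ : G →* (V ≃ₗ[ZMod q] V)) (g : G) (v : V) : v ∈ fixSp ρ g ↔ ρ g v = v :=
  Iff.rfl


/-- the image of a fixed vector of `b` under `g` is a fixed vector of `g * b * g⁻¹` -/
theorem map_mem_fixSp (ρ : G →* (V ≃ₗ[ZMod q] V)) (g b : G) (v : V) (hv : v ∈ fixSp ρ b) :
    ρ g v ∈ fixSp ρ (g * b * g⁻¹) := by
  rw [mem_fixSp] at hv ⊢
  rw [← LinearEquiv.mul_apply, ← map_mul, mul_assoc, inv_mul_cancel, mul_one, map_mul,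
    LinearEquiv.mul_apply, hv]

/-- every nontrivial normal subgroup has no nonzero common fixed vector
(this holds when the action is faithful, has equal stabilizer orders, is not semiregular,
and `|G|` is prime to `q`; see `fpf_of_normal`) -/
def NormalFpf (ρ : G →* (V ≃ₗ[ZMod q] V)) : Prop :=
  ∀ N : Subgroup G, N.Normal → N ≠ ⊥ → ∀ v : V, (∀ n ∈ N, ρ n v = v) → v = 0

/-- all subgroups of order `p` coincide -/
def UniqP (G : Type*) [Group G] (p : ℕ) : Prop :=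
  ∀ H K : Subgroup G, Nat.card H = p → Nat.card K = p → H = K

/-- `∑_{t<p} z^t v = 0` for all `v` -/
def SumZ (ρ : G →* (V ≃ₗ[ZMod q] V)) (p : ℕ) (z : G) : Prop :=
  ∀ v : V, ∑ t ∈ Finset.range p, ρ (z ^ t) v = 0

/-- `∑_{j<p} ∑_{i<p} (a z^j)^i v = p v` for all `v` -/
def SpanId (ρ : G →* (V ≃ₗ[ZMod q] V)) (p : ℕ) (z a : G) : Prop :=
  ∀ v : V, ∑ j ∈ Finset.range p, ∑ i ∈ Finset.range p, ρ ((a * z ^ j) ^ i) v = (p : ZMod q) • v

/-- the fixed spaces of `a z^j`, `j < p`, are independent -/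
def Direct (ρ : G →* (V ≃ₗ[ZMod q] V)) (p : ℕ) (z a : G) : Prop :=
  ∀ f : ℕ → V, (∀ j, j < p → f j ∈ fixSp ρ (a * z ^ j)) → ∑ j ∈ Finset.range p, f j = 0 →
    ∀ j, j < p → f j = 0

/-- stabilizers of sums of two nonzero vectors from different blocks -/
def StabLe (ρ : G →* (V ≃ₗ[ZMod q] V)) (p : ℕ) (z a : G) : Prop :=
  ∀ j l : ℕ, j < p → l < p → j ≠ l → ∀ u₁ u₂ : V, u₁ ∈ fixSp ρ (a * z ^ j) →
    u₂ ∈ fixSp ρ (a * z ^ l) → u₁ ≠ 0 → u₂ ≠ 0 → stab ρ (u₁ + u₂) ≤ stab ρ u₁ ⊓ stab ρ u₂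

/-- the data `z, a` generating a normal elementary abelian subgroup of order `p²` (`p` odd) -/
structure OddData (p : ℕ) (z a : G) : Prop where
  z_comm : ∀ h : G, h * z = z * h
  z_ord : orderOf z = p
  a_ord : orderOf a = p
  a_not_mem : a ∉ Subgroup.zpowers z
  conj : ∀ h : G, ∃ i : ℕ, h * a * h⁻¹ = a * z ^ i

/-- the data `z, a` generating a normal four-group with `z` central (`p = 2`) -/
structure Klein (z a : G) : Prop where
  z_ne_one : z ≠ 1
  z_sq : z * z = 1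
  z_comm : ∀ h : G, h * z = z * h
  a_ne_one : a ≠ 1
  a_ne_z : a ≠ z
  a_sq : a * a = 1
  conj : ∀ h : G, h * a * h⁻¹ = a ∨ h * a * h⁻¹ = a * z

theorem Klein.symm {z a : G} (h : Klein z a) : Klein z (a * z) where
  z_ne_one := h.z_ne_one
  z_sq := h.z_sq
  z_comm := h.z_comm
  a_ne_one := by
    intro h1
    apply h.a_ne_z
    calc a = a * (z * z) := by rw [h.z_sq, mul_one]
      _ = (a * z) * z := by rw [mul_assoc]
      _ = z := by rw [h1, one_mul]
  a_ne_z := by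
    intro h1
    apply h.a_ne_one
    calc a = a * (z * z) := by rw [h.z_sq, mul_one]
      _ = (a * z) * z := by rw [mul_assoc]
      _ = 1 := by rw [h1, h.z_sq]
  a_sq := by
    calc a * z * (a * z) = a * (z * a) * z := by simp only [mul_assoc]
      _ = a * (a * z) * z := by rw [h.z_comm a]
      _ = (a * a) * (z * z) := by simp only [mul_assoc]
      _ = 1 := by rw [h.a_sq, h.z_sq, mul_one]
  conj := by
    intro g
    have hz : g * z * g⁻¹ = z := by rw [h.z_comm g, mul_assoc, mul_inv_cancel, mul_one]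
    have hm : g * (a * z) * g⁻¹ = (g * a * g⁻¹) * (g * z * g⁻¹) := by
      simp only [mul_assoc, inv_mul_cancel_left]
    rcases h.conj g with h1 | h1
    · left; rw [hm, h1, hz]
    · right; rw [hm, h1, hz]

/-- transitivity of the centralizer of `a` on the nonzero vectors of a subspace `W` -/
def CTrans (ρ : G →* (V ≃ₗ[ZMod q] V)) (a : G) (W : Submodule (ZMod q) V) : Prop :=
  ∀ u u' : V, u ∈ W → u' ∈ W → u ≠ 0 → u' ≠ 0 → ∃ n : G, n * a = a * n ∧ ρ n u = u'

/-- dichotomy for a pair of nonzero vectors from the two eigenspaces of `a` -/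
def Dich (ρ : G →* (V ≃ₗ[ZMod q] V)) (z a : G) : Prop :=
  ∀ u₁ u₂ : V, u₁ ∈ fixSp ρ a → u₂ ∈ fixSp ρ (a * z) → u₁ ≠ 0 → u₂ ≠ 0 →
    stab ρ u₁ = stab ρ u₂ ∨ ∃ g : G, g * a * g⁻¹ = a * z ∧ ρ g u₁ = u₂

/-- the stabilizer of every nonzero vector of `W₁` fixes `W₂` pointwise, or the
centralizer of `a` is transitive on the nonzero vectors of `W₂` -/
def FixOrTrans (ρ : G →* (V ≃ₗ[ZMod q] V)) (a : G) (W₁ W₂ : Submodule (ZMod q) V) : Prop :=
  ∀ u₁ : V, u₁ ∈ W₁ → u₁ ≠ 0 →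
    (∀ g : G, g ∈ stab ρ u₁ → ∀ u₂ : V, u₂ ∈ W₂ → ρ g u₂ = u₂) ∨ CTrans ρ a W₂

/-- the dihedral/semidihedral data: `x` of order `2^k` generating a subgroup of index two,
all elements outside `⟨x⟩` invert `x^(2^(k-2))` -/
structure DQ (G : Type*) [Group G] (x : G) (k : ℕ) : Prop where
  two_le : 2 ≤ k
  ord : orderOf x = 2 ^ k
  card : Nat.card G = 2 ^ (k + 1)
  conj : ∀ t : G, t ∉ Subgroup.zpowers x →
    t * x ^ (2 ^ (k - 2)) * t⁻¹ = (x ^ (2 ^ (k - 2)))⁻¹

/-- the set of involutions outside `⟨x⟩` -/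
def outInv (x : G) : Set G := {t | t ∉ Subgroup.zpowers x ∧ t * t = 1}

end Cfsg.Agent.HT3371
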