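import Mathlib
import Cfsg.Agent.Helper15.S1983Defs

set_option autoImplicit false

/-! S1983 piece IRR: a chief factor is irreducible in the abstract sense. -/

namespace Cfsg.Agent.S1983P

open Subgroup Cfsg Cfsg.Agent.Helper10 Cfsg.Agent.Helper26
open scoped commutatorElement

universe u

section Chief

variable {G : Type u} [Group G] [Finite G] {p : ℕ} [Fact p.Prime] (X Y : Subgroup G)
  [hXn : X.Normal] [hYn : Y.Normal]

/-! ## IRR (S): a chief factor is irreducible in the abstract sense (from `chief_dichotomy`). -/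
theorem IRR.main (hXY : Cfsg.IsChiefFactor X Y) :
    ∀ F : Subgroup ↥(Ub X Y), InvSub (rhoZ X Y) ⊤ F → F = ⊥ ∨ F = ⊤ := by
  intro F hF
  have hle : F.map (Ub X Y).subtype ≤ Ub X Y := by
    rintro _ ⟨m, -, rfl⟩
    exact m.2
  have hn : (F.map (Ub X Y).subtype).Normal := by
    constructor
    rintro _ ⟨m, hm, rfl⟩ q
    obtain ⟨g, rfl⟩ := QuotientGroup.mk'_surjective Y q
    refine ⟨rhoZ X Y g m, hF g (Subgroup.mem_top g) m hm, ?_⟩
    rw [Subgroup.coe_subtype, rhoZ_apply]
  rcases chief_dichotomy hXY (F.map (Ub X Y).subtype) hn hle with h | h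
  · left
    exact (Subgroup.map_eq_bot_iff_of_injective F (Subgroup.subtype_injective _)).mp h
  · right
    rw [eq_top_iff]
    intro x _
    have hx : (x : G ⧸ Y) ∈ F.map (Ub X Y).subtype := by rw [h]; exact x.2
    obtain ⟨m, hm, hmx⟩ := hx
    have : m = x := Subtype.ext hmx
    rwa [this] at hm

end Chief

end Cfsg.Agent.S1983P
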