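import Mathlib
import Cfsg.Agent.Helper15.S1983Defs

set_option autoImplicit false

/-! S1983 piece QUAD: a complement makes two quadratic layers quadratic. -/

namespace Cfsg.Agent.S1983P

open Subgroup Cfsg Cfsg.Agent.Helper10 Cfsg.Agent.Helper26
open scoped commutatorElement

universe u

/-- `dl ρ b` is multiplicative on a commutative group. -/
theorem QUAD.dl_mul {Γ W : Type*} [Group Γ] [Group W] (hc : ∀ a b : W, a * b = b * a)
    (ρ : Γ →* MulAut W) (b : Γ) (x y : W) : dl ρ b (x * y) = dl ρ b x * dl ρ b y := by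
  unfold dl
  rw [map_mul, mul_inv_rev]
  calc ρ b x * ρ b y * (y⁻¹ * x⁻¹) = ρ b x * (ρ b y * y⁻¹) * x⁻¹ := by group
    _ = ρ b x * (x⁻¹ * (ρ b y * y⁻¹)) := by rw [mul_assoc, hc (ρ b y * y⁻¹) x⁻¹]
    _ = ρ b x * x⁻¹ * (ρ b y * y⁻¹) := by group

/-! ## QUAD (S): a complement makes two quadratic layers quadratic. -/
theorem QUAD.main {Γ W : Type*} [Group Γ] [Group W] (hc : ∀ a b : W, a * b = b * a)
    (ρ : Γ →* MulAut W) (K : Subgroup Γ) (hK : SSi ρ K) (b : Γ) (hb : b ∈ K)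
    (F : Subgroup W) (hF : InvSub ρ K F) (h1 : ∀ w ∈ F, dl ρ b (dl ρ b w) = 1)
    (h2 : ∀ w : W, dl ρ b (dl ρ b w) ∈ F) : ∀ w : W, dl ρ b (dl ρ b w) = 1 := by
  obtain ⟨F', hF', hinf, hsup⟩ := hK F hF
  intro w
  -- write `w = f * f'`
  have hw : w ∈ F ⊔ F' := by rw [hsup]; trivial
  have hF'n : F'.Normal := ⟨fun n hn g => by
    have : g * n * g⁻¹ = n := by rw [hc g n, mul_assoc, mul_inv_cancel, mul_one]
    rw [this]; exact hn⟩
  rw [← SetLike.mem_coe, Subgroup.mul_normal] at hw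
  obtain ⟨f, hf, f', hf', rfl⟩ := hw
  have hdlF' : ∀ x ∈ F', dl ρ b x ∈ F' := fun x hx =>
    F'.mul_mem (hF' b hb x hx) (F'.inv_mem hx)
  rw [QUAD.dl_mul hc, QUAD.dl_mul hc, h1 f hf, one_mul]
  have hmem : dl ρ b (dl ρ b f') ∈ F ⊓ F' := ⟨h2 f', hdlF' _ (hdlF' _ hf')⟩
  rw [hinf] at hmem
  exact Subgroup.mem_bot.mp hmem

end Cfsg.Agent.S1983P
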