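import Mathlib
import Cfsg.Agent.Helper15.S2933Defs
import Cfsg.Agent.Helper25.AbRank2d

set_option autoImplicit false

/-! S2933 board, piece HOMO (blueprint L4): a homocyclic quotient of rank 2 lifts. -/

namespace Cfsg.Agent.S2933P

open scoped commutatorElement
open Cfsg.Agent.Helper16.S64 Cfsg.Agent.S2933P

universe u

/-- A `ρ`-invariant non-trivial subgroup of `V` is `V`. -/
theorem HOMO_aux_irr {T : Type u} [Group T] [Finite T] {τ ρ : MulAut T} {V : Subgroup T}
    (h : PData τ ρ V) (I : Subgroup T) (hIV : I ≤ V) (hρ : ∀ x ∈ I, ρ x ∈ I) (v : T)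
    (hv : v ∈ I) (hv1 : v ≠ 1) : I = V := by
  have h3 : 3 ≤ Nat.card I := by
    have hsub : ({1, v, ρ v} : Set T) ⊆ (I : Set T) := by
      intro x hx
      rcases hx with rfl | rfl | hx
      · exact I.one_mem
      · exact hv
      · rw [Set.mem_singleton_iff] at hx; rw [hx]; exact hρ v hv
    have hn : ({1, v, ρ v} : Set T).ncard = 3 := by
      rw [Set.ncard_eq_three]
      refine ⟨1, v, ρ v, hv1.symm, ?_, ?_, rfl⟩
      · intro h1
        apply hv1
        have : ρ v = ρ 1 := by rw [← h1, map_one]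
        exact ρ.injective this
      · intro h2
        exact hv1 (h.rho_fpf v (hIV hv) h2.symm)
    have := Set.ncard_le_ncard hsub (Set.toFinite _)
    rw [hn] at this
    have e : (I : Set T).ncard = Nat.card I := rfl
    rw [e] at this
    exact this
  have hdvd : Nat.card I ∣ 4 := by rw [← h.card]; exact Subgroup.card_dvd_of_le hIV
  have h4 : Nat.card I = 4 := by
    have hle := Nat.le_of_dvd (by norm_num) hdvd
    have : Nat.card I = 3 ∨ Nat.card I = 4 := by omega
    rcases this with h | h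
    · rw [h] at hdvd; omega
    · exact h
  exact Subgroup.eq_of_le_of_card_ge hIV (by rw [h4, h.card])

/-- HOMO (blueprint L4): a homocyclic quotient of rank 2 and exponent `2^n ≥ 4` lifts. -/
theorem HOMO {T : Type u} [Group T] [Finite T] {τ ρ : MulAut T} {V : Subgroup T}
    (h : PData τ ρ V) [V.Normal] (n : ℕ) (hn : 2 ≤ n)
    (e : (T ⧸ V) ≃* Multiplicative (ZMod (2 ^ n)) × Multiplicative (ZMod (2 ^ n))) :
    Nonempty (T ≃* Multiplicative (ZMod (2 ^ (n + 1))) × Multiplicative (ZMod (2 ^ (n + 1)))) := by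
  classical
  obtain ⟨N, hN⟩ : ∃ N : ℕ, N = 2 ^ n := ⟨_, rfl⟩
  rw [← hN] at e
  have hNpos : NeZero N := ⟨by rw [hN]; positivity⟩
  -- generators
  set g1 : Multiplicative (ZMod N) × Multiplicative (ZMod N) := (Multiplicative.ofAdd 1, 1) with hg1
  set g2 : Multiplicative (ZMod N) × Multiplicative (ZMod N) := (1, Multiplicative.ofAdd 1) with hg2
  obtain ⟨a, ha⟩ := QuotientGroup.mk_surjective (e.symm g1)
  obtain ⟨b, hb⟩ := QuotientGroup.mk_surjective (e.symm g2)
  have hpow1 : ∀ z : Multiplicative (ZMod N),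
      z = (Multiplicative.ofAdd (1 : ZMod N)) ^ (Multiplicative.toAdd z).val := by
    intro z
    rw [← ofAdd_nsmul, nsmul_one, ZMod.natCast_zmod_val]
    rfl
  have hq : ∀ q : Multiplicative (ZMod N) × Multiplicative (ZMod N),
      q = g1 ^ (Multiplicative.toAdd q.1).val * g2 ^ (Multiplicative.toAdd q.2).val := by
    intro q
    refine Prod.ext ?_ ?_
    · rw [Prod.fst_mul, Prod.pow_fst, Prod.pow_fst]
      simp only [hg1, hg2, one_pow, mul_one]
      exact hpow1 q.1
    · rw [Prod.snd_mul, Prod.pow_snd, Prod.pow_snd]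
      simp only [hg1, hg2, one_pow, one_mul]
      exact hpow1 q.2
  have hgen : ∀ H : Subgroup T, a ∈ H → b ∈ H → V ≤ H → ∀ x : T, x ∈ H := by
    intro H haH hbH hVH x
    obtain ⟨q, hqdef⟩ : ∃ q, q = e (QuotientGroup.mk x) := ⟨_, rfl⟩
    have h1 : (QuotientGroup.mk x : T ⧸ V) = QuotientGroup.mk
        (a ^ (Multiplicative.toAdd q.1).val * b ^ (Multiplicative.toAdd q.2).val) := by
      apply e.injective
      rw [← hqdef, QuotientGroup.mk_mul, QuotientGroup.mk_pow, QuotientGroup.mk_pow, ha, hb,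
        map_mul, map_pow, map_pow, e.apply_symm_apply, e.apply_symm_apply]
      exact hq q
    have h2 := QuotientGroup.eq.1 h1.symm
    have : x = (a ^ (Multiplicative.toAdd q.1).val * b ^ (Multiplicative.toAdd q.2).val) *
        ((a ^ (Multiplicative.toAdd q.1).val * b ^ (Multiplicative.toAdd q.2).val)⁻¹ * x) := by
      group
    rw [this]
    exact H.mul_mem (H.mul_mem (H.pow_mem haH _) (H.pow_mem hbH _)) (hVH h2)
  have hcen : ∀ v ∈ V, ∀ g : T, g * v = v * g :=
    fun v hv g => Subgroup.mem_center_iff.1 (h.central hv) g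
  have hcV : ∀ x y : T, x * y * x⁻¹ * y⁻¹ ∈ V := by
    intro x y
    rw [← QuotientGroup.eq_one_iff]
    apply e.injective
    rw [map_one]
    simp only [QuotientGroup.mk_mul, QuotientGroup.mk_inv, map_mul, map_inv]
    rw [mul_comm (e (QuotientGroup.mk x)) (e (QuotientGroup.mk y))]
    group
  -- the commutator homomorphism `y ↦ [x, y]`
  let kap : T → (T →* T) := fun x => MonoidHom.mk' (fun y => x * y * x⁻¹ * y⁻¹) (by
    intro y z
    have hw := hcen _ (hcV x z) y⁻¹
    calc x * (y * z) * x⁻¹ * (y * z)⁻¹ = x * y * x⁻¹ * ((x * z * x⁻¹ * z⁻¹) * y⁻¹) := by group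
      _ = x * y * x⁻¹ * (y⁻¹ * (x * z * x⁻¹ * z⁻¹)) := by rw [hw]
      _ = x * y * x⁻¹ * y⁻¹ * (x * z * x⁻¹ * z⁻¹) := by group)
  have hkap : ∀ x y : T, kap x y = x * y * x⁻¹ * y⁻¹ := fun x y => rfl
  -- `c = [a, b]`
  obtain ⟨c, hc⟩ : ∃ c : T, c = a * b * a⁻¹ * b⁻¹ := ⟨_, rfl⟩
  have hcV' : c ∈ V := hc ▸ hcV a b
  have hc2 : c * c = 1 := h.exp c hcV'
  have hcinv : c⁻¹ = c := inv_eq_of_mul_eq_one_right hc2
  let D : Subgroup T :=
    { carrier := {d | d = 1 ∨ d = c}
      one_mem' := Or.inl rfl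
      mul_mem' := by
        rintro x y (rfl | rfl) (rfl | rfl)
        · left; exact mul_one 1
        · right; exact one_mul _
        · right; exact mul_one _
        · left; exact hc2
      inv_mem' := by
        rintro x (rfl | rfl)
        · left; exact inv_one
        · right; exact hcinv }
  have hD : ∀ d : T, d ∈ D ↔ d = 1 ∨ d = c := fun d => Iff.rfl
  have hswap : ∀ x y : T, y * x * y⁻¹ * x⁻¹ = (x * y * x⁻¹ * y⁻¹)⁻¹ := by
    intro x y; group
  have h1 : ∀ y : T, a * y * a⁻¹ * y⁻¹ ∈ D := by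
    intro y
    have := hgen (D.comap (kap a))
      (by rw [Subgroup.mem_comap, hkap]; left; group)
      (by rw [Subgroup.mem_comap, hkap]; right; exact hc.symm)
      (by
        intro v hv
        rw [Subgroup.mem_comap, hkap]; left
        rw [hcen v hv a]; group) y
    rw [Subgroup.mem_comap, hkap] at this
    exact this
  have h2 : ∀ y : T, b * y * b⁻¹ * y⁻¹ ∈ D := by
    intro y
    have := hgen (D.comap (kap b))
      (by
        rw [Subgroup.mem_comap, hkap, hswap, ← hc, hcinv]; right; rfl)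
      (by rw [Subgroup.mem_comap, hkap]; left; group)
      (by
        intro v hv
        rw [Subgroup.mem_comap, hkap]; left
        rw [hcen v hv b]; group) y
    rw [Subgroup.mem_comap, hkap] at this
    exact this
  have h3 : ∀ x y : T, x * y * x⁻¹ * y⁻¹ ∈ D := by
    intro x y
    have := hgen (D.comap (kap y))
      (by rw [Subgroup.mem_comap, hkap, hswap]; exact D.inv_mem (h1 y))
      (by rw [Subgroup.mem_comap, hkap, hswap]; exact D.inv_mem (h2 y))
      (by
        intro v hv
        rw [Subgroup.mem_comap, hkap]; left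
        rw [hcen v hv y]; group) x
    rw [Subgroup.mem_comap, hkap, hswap] at this
    have := D.inv_mem this
    rwa [inv_inv] at this
  have hc1 : c = 1 := by
    have hρc : ρ c ∈ D := by
      have : ρ c = ρ a * ρ b * (ρ a)⁻¹ * (ρ b)⁻¹ := by
        rw [hc, map_mul, map_mul, map_mul, map_inv, map_inv]
      rw [this]; exact h3 _ _
    rcases (hD _).1 hρc with h0 | h0
    · have : ρ c = ρ 1 := by rw [h0, map_one]
      exact ρ.injective this
    · exact h.rho_fpf c hcV' h0
  have hab : a * b = b * a := by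
    have : a * b * a⁻¹ * b⁻¹ = 1 := by rw [← hc]; exact hc1
    have h' : a * b * a⁻¹ = b := mul_inv_eq_one.1 this
    calc a * b = a * b * a⁻¹ * a := by group
      _ = b * a := by rw [h']
  have hacen : a ∈ Subgroup.center T := by
    rw [Subgroup.mem_center_iff]
    intro g
    have : g ∈ Subgroup.centralizer ({a} : Set T) :=
      hgen _ (by rw [Subgroup.mem_centralizer_singleton_iff])
        (by rw [Subgroup.mem_centralizer_singleton_iff]; exact hab.symm)
        (fun v hv => by
          rw [Subgroup.mem_centralizer_singleton_iff]; exact (hcen v hv a).symm) g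
    exact Subgroup.mem_centralizer_singleton_iff.1 this
  have hbcen : b ∈ Subgroup.center T := by
    rw [Subgroup.mem_center_iff]
    intro g
    have : g ∈ Subgroup.centralizer ({b} : Set T) :=
      hgen _ (by rw [Subgroup.mem_centralizer_singleton_iff]; exact hab)
        (by rw [Subgroup.mem_centralizer_singleton_iff])
        (fun v hv => by
          rw [Subgroup.mem_centralizer_singleton_iff]; exact (hcen v hv b).symm) g
    exact Subgroup.mem_centralizer_singleton_iff.1 this
  have hcomm : ∀ x y : T, x * y = y * x := by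
    intro x y
    have := hgen (Subgroup.center T) hacen hbcen h.central y
    exact Subgroup.mem_center_iff.1 this x
  -- `N`-th powers lie in `V`
  have hzN : ∀ z : Multiplicative (ZMod N), z ^ N = 1 := by
    intro z
    have h0 : N • (Multiplicative.toAdd z) = 0 := by
      rw [nsmul_eq_mul, ZMod.natCast_self, zero_mul]
    have : Multiplicative.toAdd (z ^ N) = Multiplicative.toAdd (1 : Multiplicative (ZMod N)) := by
      rw [toAdd_pow, h0, toAdd_one]
    exact Multiplicative.toAdd.injective this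
  have hpowV : ∀ x : T, x ^ N ∈ V := by
    intro x
    rw [← QuotientGroup.eq_one_iff, QuotientGroup.mk_pow]
    apply e.injective
    rw [map_pow, map_one]
    refine Prod.ext ?_ ?_
    · rw [Prod.pow_fst]; exact hzN _
    · rw [Prod.pow_snd]; exact hzN _
  -- a non-trivial square in `V`
  have hsqV : ∃ v0 : T, v0 ∈ V ∧ v0 ≠ 1 ∧ ∃ y : T, y ^ 2 = v0 := by
    obtain ⟨k, hk⟩ : ∃ k, n = k + 2 := ⟨n - 2, by omega⟩
    have hNk : N = 2 ^ k * 2 * 2 := by rw [hN, hk]; ring
    by_cases h1 : a ^ N = 1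
    · obtain ⟨w, hw⟩ : ∃ w : T, w = a ^ (2 ^ k) := ⟨_, rfl⟩
      obtain ⟨u, hu⟩ : ∃ u : T, u = w ^ 2 := ⟨_, rfl⟩
      have hu2 : u * u = 1 := by
        rw [← pow_two, hu, hw, ← pow_mul, ← pow_mul, ← mul_assoc, ← hNk]; exact h1
      have huV : u ∉ V := by
        intro huV
        have h2' : (QuotientGroup.mk u : T ⧸ V) = 1 := (QuotientGroup.eq_one_iff u).2 huV
        have h3' : g1 ^ (2 ^ k * 2) = 1 := by
          have : e (QuotientGroup.mk u) = 1 := by rw [h2', map_one]
          rw [hu, hw, ← pow_mul, QuotientGroup.mk_pow, ha, map_pow, e.apply_symm_apply] at this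
          exact this
        have h4 := congrArg Prod.fst h3'
        rw [Prod.pow_fst] at h4
        have h5 : ((2 ^ k * 2 : ℕ) : ZMod N) = 0 := by
          have := congrArg Multiplicative.toAdd h4
          rw [toAdd_pow] at this
          simpa [hg1, nsmul_one] using this
        rw [ZMod.natCast_eq_zero_iff] at h5
        have := Nat.le_of_dvd (by positivity) h5
        rw [hNk] at this
        have : 0 < 2 ^ k * 2 := by positivity
        omega
      refine ⟨u * τ u, ?_, ?_, w * τ w, ?_⟩
      · rw [← h.tau_fix, map_mul, h.tau_sq, hcomm]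
      · intro h0
        apply huV
        rw [← h.tau_fix]
        have e1 : τ u = u⁻¹ := eq_inv_of_mul_eq_one_right h0
        rw [e1]; exact inv_eq_of_mul_eq_one_right hu2
      · rw [Commute.mul_pow (hcomm _ _), ← map_pow, ← hu]
    · refine ⟨a ^ N, hpowV a, h1, a ^ (2 ^ k * 2), ?_⟩
      rw [← pow_mul, ← hNk]
  set sq := Cfsg.Agent.Helper25.AbRank2.cpow hcomm 2 with hsq
  have hVsq : V ≤ sq.range := by
    obtain ⟨v0, hv0V, hv01, y, hy⟩ := hsqV
    have hI := HOMO_aux_irr h (V ⊓ sq.range) inf_le_left (by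
      intro x hx
      obtain ⟨hx1, hx2⟩ := Subgroup.mem_inf.1 hx
      exact Subgroup.mem_inf.2 ⟨h.rho_mem x hx1,
        Cfsg.Agent.Helper25.AbRank2.cpow_range_char hcomm 2 ρ x hx2⟩) v0
      (Subgroup.mem_inf.2 ⟨hv0V, ⟨y, hy⟩⟩) hv01
    calc V = V ⊓ sq.range := hI.symm
      _ ≤ sq.range := inf_le_right
  obtain ⟨M, hM⟩ : ∃ M : ℕ, M = 2 ^ (n + 1) := ⟨_, rfl⟩
  rw [← hM]
  have hMN : M = N * 2 := by rw [hM, hN, pow_succ]
  have hexp : ∀ x : T, x ^ M = 1 := by
    intro x
    rw [hMN, pow_mul, pow_two]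
    exact h.exp _ (hpowV x)
  have hMpos : NeZero M := ⟨by rw [hM]; positivity⟩
  set f := Cfsg.Agent.Helper25.AbRank2.pairHom hcomm M a b (hexp a) (hexp b) with hf
  have haR : a ∈ f.range :=
    ⟨Multiplicative.ofAdd (((1 : ℕ) : ZMod M), ((0 : ℕ) : ZMod M)), by
      rw [hf, Cfsg.Agent.Helper25.AbRank2.pairHom_natCast]; simp⟩
  have hbR : b ∈ f.range :=
    ⟨Multiplicative.ofAdd (((0 : ℕ) : ZMod M), ((1 : ℕ) : ZMod M)), by
      rw [hf, Cfsg.Agent.Helper25.AbRank2.pairHom_natCast]; simp⟩
  have hVR : V ≤ f.range := by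
    intro v hv
    obtain ⟨y, hy⟩ := hVsq hv
    have hy' : y ^ 2 = v := hy
    have hyRV : y ∈ f.range ⊔ V :=
      hgen (f.range ⊔ V) ((le_sup_left : f.range ≤ f.range ⊔ V) haR)
        ((le_sup_left : f.range ≤ f.range ⊔ V) hbR) le_sup_right y
    rw [← SetLike.mem_coe, Subgroup.mul_normal] at hyRV
    obtain ⟨r, hr, v', hv', rfl⟩ := hyRV
    rw [← hy', Commute.mul_pow (hcomm _ _), pow_two v', h.exp v' hv', mul_one]
    exact f.range.pow_mem hr 2
  have hsurj : Function.Surjective f := fun x => hgen f.range haR hbR hVR x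
  have hcard : Nat.card (Multiplicative (ZMod M × ZMod M)) ≤ Nat.card T := by
    have h1' : Nat.card T = Nat.card (T ⧸ V) * Nat.card V :=
      Subgroup.card_eq_card_quotient_mul_card_subgroup V
    have h2' : Nat.card (T ⧸ V) = N * N := by
      rw [Nat.card_congr e.toEquiv, Nat.card_prod]
      simp [Nat.card_eq_fintype_card]
    have h3' : Nat.card (Multiplicative (ZMod M × ZMod M)) = M * M := by
      simp [Nat.card_eq_fintype_card]
    rw [h3', h1', h2', h.card, hMN]
    nlinarith
  have hbij := hsurj.bijective_of_nat_card_le hcard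
  exact ⟨(MulEquiv.ofBijective f hbij).symm.trans (MulEquiv.prodMultiplicative _ _)⟩

end Cfsg.Agent.S2933P
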