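import Mathlib
import Cfsg.Agent.Helper15.S2933Defs
import Cfsg.Agent.Helper26.S64A
import Cfsg.Agent.Helper25.AbRank2d

set_option autoImplicit false

/-! S2933 board, piece K2 (blueprint L3): order 16. -/

namespace Cfsg.Agent.S2933P

open scoped commutatorElement
open Cfsg.Agent.Helper16.S64 Cfsg.Agent.S2933P

universe u

/-- A `ρ`-invariant subgroup between `V` and `T` (`|T| = 16`) is `V` or `T`. -/
theorem K2_aux_card {T : Type u} [Group T] [Finite T] {τ ρ : MulAut T} {V : Subgroup T}
    (h : PData τ ρ V) (hf : Fpf3 ρ) (hc : Nat.card T = 16) (N : Subgroup T)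
    (hρ : ∀ n ∈ N, ρ n ∈ N) (hV : V ≤ N) : N = V ∨ N = ⊤ := by
  have hmod := Cfsg.Agent.Helper26.S64.card_mod_of_fpf3 hf N hρ
  have hdvd : Nat.card N ∣ 2 ^ 4 := by
    have := Subgroup.card_subgroup_dvd_card N
    rw [hc] at this
    simpa using this
  have hle : 4 ≤ Nat.card N := by
    rw [← h.card]; exact Subgroup.card_le_of_le hV
  obtain ⟨k, hk, hkN⟩ := (Nat.dvd_prime_pow Nat.prime_two).1 hdvd
  have : Nat.card N = 4 ∨ Nat.card N = 16 := by
    rw [hkN] at hmod hle ⊢
    interval_cases k <;> omega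
  rcases this with h4 | h16
  · left
    exact (Subgroup.eq_of_le_of_card_ge hV (by rw [h4, h.card])).symm
  · right
    exact Subgroup.eq_top_of_card_eq N (by rw [h16, hc])

theorem K2_aux_comm {T : Type u} [Group T] [Finite T] {τ ρ : MulAut T} {V : Subgroup T}
    (h : PData τ ρ V) (hf : Fpf3 ρ) (hc : Nat.card T = 16) : ∀ a b : T, a * b = b * a := by
  have key : ∀ a : T, a ∈ Subgroup.center T := by
    intro a
    by_cases haV : a ∈ V
    · exact h.central haV
    have hcm := Cfsg.Agent.Helper26.S64.comm_of_fpf3 hf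
    have hpr := Cfsg.Agent.Helper26.S64.prod_of_fpf3 hf
    set N : Subgroup T := Subgroup.centralizer ({a, ρ a} : Set T) with hN
    have hmem : ∀ n : T, n ∈ N ↔ a * n = n * a ∧ ρ a * n = n * ρ a := by
      intro n
      rw [hN, Subgroup.mem_centralizer_iff]
      constructor
      · intro hn
        exact ⟨hn a (by simp), hn (ρ a) (by simp)⟩
      · rintro ⟨h1, h2⟩ x hx
        rcases hx with rfl | hx
        · exact h1
        · rw [Set.mem_singleton_iff] at hx; rw [hx]; exact h2
    have hinv : a⁻¹ = ρ a * ρ (ρ a) := by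
      have := hpr a
      rw [mul_assoc] at this
      exact inv_eq_of_mul_eq_one_right this
    have hρN : ∀ n ∈ N, ρ n ∈ N := by
      intro n hn
      obtain ⟨h1, h2⟩ := (hmem n).1 hn
      have e1 : ρ a * ρ n = ρ n * ρ a := by rw [← map_mul, ← map_mul, h1]
      have e2 : ρ (ρ a) * ρ n = ρ n * ρ (ρ a) := by rw [← map_mul, ← map_mul, h2]
      have e3 : a⁻¹ * ρ n = ρ n * a⁻¹ := by
        rw [hinv, mul_assoc, e2, ← mul_assoc, e1, mul_assoc]
      refine (hmem (ρ n)).2 ⟨?_, e1⟩
      have : a * (a⁻¹ * ρ n) * a = a * (ρ n * a⁻¹) * a := by rw [e3]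
      simpa [mul_assoc] using this.symm
    have hVN : V ≤ N := by
      intro v hv
      have hvc := Subgroup.mem_center_iff.1 (h.central hv)
      exact (hmem v).2 ⟨hvc a, hvc (ρ a)⟩
    have haN : a ∈ N := (hmem a).2 ⟨rfl, (hcm a).symm⟩
    rcases K2_aux_card h hf hc N hρN hVN with hNV | hNT
    · exact absurd (hNV ▸ haN) haV
    · rw [Subgroup.mem_center_iff]
      intro g
      have hg : g ∈ N := by rw [hNT]; exact Subgroup.mem_top g
      exact ((hmem g).1 hg).1.symm
  intro a b
  exact (Subgroup.mem_center_iff.1 (key b) a)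

/-- K2 (blueprint L3): order 16. -/
theorem K2 {T : Type u} [Group T] [Finite T] {τ ρ : MulAut T} {V : Subgroup T}
    (h : PData τ ρ V) (hf : Fpf3 ρ) (hc : Nat.card T = 16) :
    (∀ x : T, x * x = 1) ∨
      Nonempty (T ≃* Multiplicative (ZMod (2 ^ 2)) × Multiplicative (ZMod (2 ^ 2))) := by
  have hcomm := K2_aux_comm h hf hc
  have hfact : Fact (Nat.Prime 2) := ⟨Nat.prime_two⟩
  set sq := Cfsg.Agent.Helper25.AbRank2.cpow hcomm 2 with hsq
  have hsqa : ∀ x : T, sq x = x ^ 2 := fun x => rfl
  -- the kernel of squaring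
  have hVK : V ≤ sq.ker := by
    intro v hv
    rw [MonoidHom.mem_ker, hsqa, pow_two]
    exact h.exp v hv
  rcases K2_aux_card h hf hc sq.ker
      (Cfsg.Agent.Helper25.AbRank2.cpow_ker_char hcomm 2 ρ) hVK with hK | hK
  swap
  · left
    intro x
    have : x ∈ sq.ker := by rw [hK]; exact Subgroup.mem_top x
    rw [MonoidHom.mem_ker, hsqa, pow_two] at this
    exact this
  right
  -- all squares lie in `V`
  set W : Subgroup T := V.comap sq with hW
  have hVW : V ≤ W := by
    intro v hv
    rw [hW, Subgroup.mem_comap]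
    have : sq v = 1 := hVK hv
    rw [this]; exact V.one_mem
  have hρW : ∀ n ∈ W, ρ n ∈ W := by
    intro n hn
    rw [hW, Subgroup.mem_comap, hsqa] at hn ⊢
    rw [← map_pow]
    exact h.rho_mem _ hn
  have hWtop : W = ⊤ := by
    rcases K2_aux_card h hf hc W hρW hVW with hWV | hWT
    · exfalso
      have hstep : ∀ x : T, x ^ 2 ∈ V → x ∈ V := by
        intro x hx
        have : x ∈ W := by rw [hW, Subgroup.mem_comap, hsqa]; exact hx
        rw [hWV] at this; exact this
      have hall : ∀ x : T, x ∈ V := by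
        intro x
        have h16 : x ^ 16 = 1 := by rw [← hc]; exact pow_card_eq_one'
        apply hstep; apply hstep; apply hstep; apply hstep
        rw [← pow_mul, ← pow_mul, ← pow_mul]
        norm_num
        rw [h16]; exact V.one_mem
      have : V = ⊤ := by
        rw [eq_top_iff]; intro x _; exact hall x
      have h1 := h.card
      rw [this, Subgroup.card_top, hc] at h1
      omega
    · exact hWT
  have hsqV : ∀ x : T, x ^ 2 ∈ V := by
    intro x
    have : x ∈ W := by rw [hWtop]; exact Subgroup.mem_top x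
    rw [hW, Subgroup.mem_comap, hsqa] at this
    exact this
  -- the range of squaring is `V`
  have hrange : sq.range = V := by
    apply Subgroup.eq_of_le_of_card_ge
    · rintro _ ⟨y, rfl⟩
      rw [hsqa]; exact hsqV y
    · have h1 : Nat.card sq.ker * Nat.card sq.range = Nat.card T := by
        rw [← Subgroup.index_ker]; exact Subgroup.card_mul_index _
      rw [hK, h.card, hc] at h1
      rw [h.card]; omega
  have hP : IsPGroup 2 T := IsPGroup.of_card (n := 4) (by rw [hc]; norm_num)
  have hiso := Cfsg.Agent.Helper25.AbRank2.homocyclic_iso 2 hP hcomm 1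
    (by
      intro x
      have := h.exp _ (hsqV x)
      rw [← pow_two, ← pow_mul] at this
      simpa using this)
    (by
      show Nat.card sq.ker = 2 ^ 2
      rw [hK, h.card]; norm_num)
    (by
      intro x hx
      have hxK : x ∈ sq.ker := by rw [MonoidHom.mem_ker, hsqa]; exact hx
      rw [hK, ← hrange] at hxK
      obtain ⟨y, hy⟩ := hxK
      exact ⟨y, by rw [pow_one]; exact hy⟩)
  obtain ⟨e⟩ := hiso
  exact ⟨e.trans (MulEquiv.prodMultiplicative _ _)⟩

end Cfsg.Agent.S2933P
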