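import Mathlib
import Cfsg.Prelude.Def_JComponents
import Cfsg.Prelude.Def_Involutions
import Cfsg.Agent.Helper5.S2951Defs
import Cfsg.Agent.Helper26.S2951UNIQ

set_option autoImplicit false

/-! S2951 board, piece CARD (blueprint §1 BB8 + P2(v)). -/

universe u

namespace Cfsg.Agent.S2951P

open Cfsg Subgroup Cfsg.Agent.Helper15.JComp Cfsg.Agent.S2951P

variable {G : Type u} [Group G] [Finite G] {M T K K' L L' : Subgroup G}

theorem CARD_aux_inj {A B C : Subgroup G} (hA : A ≤ C) (hB : B ≤ C) (hd : A ⊓ B = ⊥) :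
    Function.Injective (fun p : ↥A × ↥B => (⟨(p.1 : G) * (p.2 : G),
      C.mul_mem (hA p.1.2) (hB p.2.2)⟩ : ↥C)) := by
  rintro ⟨⟨a, ha⟩, ⟨b, hb⟩⟩ ⟨⟨a', ha'⟩, ⟨b', hb'⟩⟩ hab
  have hab' : a * b = a' * b' := congrArg Subtype.val hab
  have h1 : a'⁻¹ * a = b' * b⁻¹ := by
    calc a'⁻¹ * a = a'⁻¹ * (a * b) * b⁻¹ := by group
      _ = a'⁻¹ * (a' * b') * b⁻¹ := by rw [hab']
      _ = b' * b⁻¹ := by group
  have h2 : a'⁻¹ * a ∈ A ⊓ B := by
    refine Subgroup.mem_inf.2 ⟨A.mul_mem (A.inv_mem ha') ha, ?_⟩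
    rw [h1]; exact B.mul_mem hb' (B.inv_mem hb)
  rw [hd, Subgroup.mem_bot] at h2
  have ha_eq : a = a' := by
    calc a = a' * (a'⁻¹ * a) := by group
      _ = a' := by rw [h2, mul_one]
  have hb_eq : b = b' := by
    rw [h2] at h1
    calc b = (b' * b⁻¹)⁻¹ * b' := by group
      _ = b' := by rw [← h1]; group
  subst ha_eq; subst hb_eq; rfl

theorem CARD_aux_prod_le {A B C : Subgroup G} (hA : A ≤ C) (hB : B ≤ C) (hd : A ⊓ B = ⊥) :
    Nat.card ↥A * Nat.card ↥B ≤ Nat.card ↥C := by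
  rw [← Nat.card_prod]
  exact Nat.card_le_card_of_injective _ (CARD_aux_inj hA hB hd)

theorem CARD_aux_prod_eq {A B C : Subgroup G} (hA : A ≤ C) (hB : B ≤ C) (hd : A ⊓ B = ⊥)
    (hs : ∀ z ∈ C, ∃ a ∈ A, ∃ b ∈ B, z = a * b) :
    Nat.card ↥A * Nat.card ↥B = Nat.card ↥C := by
  rw [← Nat.card_prod]
  refine Nat.card_congr (Equiv.ofBijective _ ⟨CARD_aux_inj hA hB hd, ?_⟩)
  rintro ⟨z, hz⟩
  obtain ⟨a, ha, b, hb, rfl⟩ := hs z hz
  exact ⟨⟨⟨a, ha⟩, ⟨b, hb⟩⟩, rfl⟩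

/-- CARD (M) = BB8 + P2(v): `|Z₀| = 2 |Z₁(K)|`. -/
theorem CARD_two_mul (c : StraddleCtx M T) (hK : IsJComponent T K) :
    Nat.card ↥(Z0 T) = 2 * Nat.card ↥(Z1 T K) := by
  have hF2 : Nat.card ↥(Z0 T ⊓ wOf K) = 2 := by
    have := jc_omega_inf_wOf c.hT2 hK
    unfold Z0
    rw [this]
    exact jc_card_fix c.hT2 hK
  have hd : (Z0 T ⊓ wOf K) ⊓ Z1 T K = ⊥ := by
    rw [eq_bot_iff]
    intro x hx
    rw [Subgroup.mem_bot]
    obtain ⟨hxF, hxZ⟩ := Subgroup.mem_inf.1 hx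
    have hxW : x ∈ wOf K := (Subgroup.mem_inf.1 hxF).2
    have hxC : x ∈ centralizer (K : Set G) := by
      unfold Z1 at hxZ
      exact (Subgroup.mem_inf.1 hxZ).2
    obtain ⟨k, hk, hkR⟩ := jc_exists_not_mem_pCoreOf hK
    exact jc_eq_one_of_commute hK hk hkR hxW (mem_centralizer_iff.1 hxC k hk)
  have hs : ∀ z ∈ Z0 T, ∃ a ∈ Z0 T ⊓ wOf K, ∃ b ∈ Z1 T K, z = a * b := by
    intro z hz
    obtain ⟨c', hc', w, hw, hcX, hwJ, rfl⟩ := jc_decomp c.hT2 hK hz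
    refine ⟨w, ?_, c', ?_, rfl⟩
    · have := jc_omega_inf_wOf c.hT2 hK
      unfold Z0
      rw [this]
      exact Subgroup.mem_inf.2 ⟨hw, hwJ⟩
    · unfold Z1
      refine Subgroup.mem_inf.2 ⟨hc', ?_⟩
      exact centralizer_le (show (K : Set G) ⊆ ((K ⊔ thompsonSubgroupOf 2 T : Subgroup G) : Set G)
        from fun y hy => (le_sup_left : K ≤ K ⊔ thompsonSubgroupOf 2 T) hy) hcX
  have h := CARD_aux_prod_eq (inf_le_left : Z0 T ⊓ wOf K ≤ Z0 T)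
    (show Z1 T K ≤ Z0 T by unfold Z1; exact inf_le_left) hd hs
  rw [hF2] at h
  exact h.symm

/-- CARD = P2(v), first half. -/
theorem CARD_disjoint (c : StraddleCtx M T) (hK : IsJComponent T K) (hKM : ¬ K ≤ M) (h : IsLK T K L)
    (hK' : IsJComponent T K') (hK'M : ¬ K' ≤ M) (h' : IsLK T K' L') (hne : L ≠ L') :
    Z1 T K ⊓ Z1 T K' = ⊥ := by
  by_contra hX1
  apply hne
  have h1 : normalizer ((Z1 T K ⊓ Z1 T K' : Subgroup G) : Set G) ≤ L' :=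
    UNIQ_normalizer c hK' hK'M h' inf_le_right hX1
  have hXK : Z1 T K ⊓ Z1 T K' ≤ centralizer (K : Set G) := by
    refine inf_le_left.trans ?_
    unfold Z1; exact inf_le_right
  have hXZ : Z1 T K ⊓ Z1 T K' ≤ Z0 T := by
    refine inf_le_left.trans ?_
    unfold Z1; exact inf_le_left
  have hZ0le : Z0 T ≤ thompsonSubgroupOf 2 T ⊓ centralizer (thompsonSubgroupOf 2 T : Set G) :=
    omegaCenterOf_le _
  have hKN : K ≤ normalizer ((Z1 T K ⊓ Z1 T K' : Subgroup G) : Set G) :=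
    (le_centralizer_iff.1 hXK).trans (centralizer_le_normalizer _)
  have hJN : thompsonSubgroupOf 2 T ≤ normalizer ((Z1 T K ⊓ Z1 T K' : Subgroup G) : Set G) := by
    have hXCJ : Z1 T K ⊓ Z1 T K' ≤ centralizer ((thompsonSubgroupOf 2 T : Subgroup G) : Set G) :=
      (hXZ.trans hZ0le).trans inf_le_right
    exact (le_centralizer_iff.1 hXCJ).trans (centralizer_le_normalizer _)
  have h'' : IsLK T K L' := ⟨h'.1, (sup_le hKN hJN).trans h1⟩
  exact UNIQ_eq c hK hKM h h''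

/-- CARD = P2(v), second half. -/
theorem CARD_le_four (c : StraddleCtx M T) (hK : IsJComponent T K) (hKM : ¬ K ≤ M) (h : IsLK T K L)
    (hK' : IsJComponent T K') (hK'M : ¬ K' ≤ M) (h' : IsLK T K' L') (hne : L ≠ L') :
    Nat.card ↥(Z1 T K) ≤ 2 ∧ Nat.card ↥(Z0 T) ≤ 4 ∧ 2 ≤ Nat.card ↥(Z0 T) := by
  have hd := CARD_disjoint c hK hKM h hK' hK'M h' hne
  have h1 := CARD_two_mul c hK
  have h2 := CARD_two_mul c hK'
  have h3 := CARD_aux_prod_le (show Z1 T K ≤ Z0 T by unfold Z1; exact inf_le_left)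
    (show Z1 T K' ≤ Z0 T by unfold Z1; exact inf_le_left) hd
  have hpos : 0 < Nat.card ↥(Z1 T K) := Nat.card_pos
  have heq : Nat.card ↥(Z1 T K') = Nat.card ↥(Z1 T K) := by omega
  rw [heq, h1] at h3
  have hle : Nat.card ↥(Z1 T K) ≤ 2 := by
    by_contra hgt
    push Not at hgt
    nlinarith
  refine ⟨hle, ?_, ?_⟩ <;> omega

end Cfsg.Agent.S2951P
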