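import Mathlib
import Cfsg.Prelude.Def_JComponents
import Cfsg.Prelude.Def_Involutions
import Cfsg.Agent.Helper5.S2951Defs
import Cfsg.Agent.Helper8.SR1

set_option autoImplicit false

/-! S2951 board, piece ZFACTS (blueprint §1 P3). -/

universe u

namespace Cfsg.Agent.S2951P

open Cfsg Subgroup Cfsg.Agent.Helper15.JComp Cfsg.Agent.S2951P

variable {G : Type u} [Group G] [Finite G] {M T K K' L L' : Subgroup G}

/-- ZFACTS (M) = P3. -/
theorem ZFACTS (c : StraddleCtx M T) (S : Sylow 2 G)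
    (hMJ : normalizer ((thompsonSubgroupOf 2 (S : Subgroup G) : Subgroup G) : Set G) ≤ M)
    (hTS : T ≤ (S : Subgroup G)) :
    omegaCenterOf (S : Subgroup G) ≠ ⊥ ∧ omegaCenterOf (S : Subgroup G) ≤ omegaCenterOf T ∧
      omegaCenterOf T ≤ Z0 T ∧
      ∀ K : Subgroup G, IsJComponent T K → ¬ K ≤ M →
        ¬ omegaCenterOf (S : Subgroup G) ≤ centralizer (K : Set G) := by
  obtain ⟨hT2, hT1, hTM, L₀, hL₀2, hTL₀, hL₀M⟩ := c.hT.1
  obtain ⟨⟨hSyl, -, hcent⟩, -⟩ := c.main hL₀2 hL₀M hTL₀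
  have hOT : pCoreOf 2 L₀ ≤ T := pCoreOf_le_of_isSylowTwoIn hSyl
  have hS1 : (S : Subgroup G) ≠ ⊥ := by
    intro h
    apply hT1
    rw [eq_bot_iff, ← h]; exact hTS
  refine ⟨?_, ?_, ?_, ?_⟩
  · -- `Z ≠ 1`
    obtain ⟨z, hzS, hz1, hzz, hzc⟩ :=
      Cfsg.Agent.Helper8.SR1.exists_central_involution (S : Subgroup G) S.isPGroup' hS1
    intro hbot
    have hmem : z ∈ omegaCenterOf (S : Subgroup G) := by
      unfold omegaCenterOf omegaOne
      apply Subgroup.subset_closure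
      refine ⟨Subgroup.mem_inf.2 ⟨hzS, ?_⟩, by rw [pow_two]; exact hzz⟩
      rw [mem_centralizer_iff]
      exact hzc
    rw [hbot, mem_bot] at hmem
    exact hz1 hmem
  · -- `Z ≤ ΩZ(T)`
    unfold omegaCenterOf omegaOne
    rw [closure_le]
    rintro x ⟨hx, hx2⟩
    obtain ⟨hxS, hxc⟩ := Subgroup.mem_inf.1 hx
    apply Subgroup.subset_closure
    have hxT : x ∈ T := by
      apply hOT
      apply hcent
      exact centralizer_le (show ((pCoreOf 2 L₀ : Subgroup G) : Set G) ⊆ ((S : Subgroup G) : Set G)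
        from fun y hy => hTS (hOT hy)) hxc
    refine ⟨Subgroup.mem_inf.2 ⟨hxT, ?_⟩, hx2⟩
    exact centralizer_le (show (T : Set G) ⊆ ((S : Subgroup G) : Set G) from fun y hy => hTS hy) hxc
  · -- `ΩZ(T) ≤ Z₀`
    unfold Z0
    unfold omegaCenterOf omegaOne
    rw [closure_le]
    rintro x ⟨hx, hx2⟩
    obtain ⟨hxT, hxc⟩ := Subgroup.mem_inf.1 hx
    apply Subgroup.subset_closure
    obtain ⟨E, hE⟩ := maxEA_nonempty 2 T
    have hxE : x ∈ E := by
      apply mem_of_mem_maxEA_of_commute hE hxT hx2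
      intro a ha
      exact mem_centralizer_iff.1 hxc a (hE.1 ha)
    refine ⟨Subgroup.mem_inf.2 ⟨le_thompsonSubgroupOf_of_mem_maxEA hE hxE, ?_⟩, hx2⟩
    exact centralizer_le (show ((thompsonSubgroupOf 2 T : Subgroup G) : Set G) ⊆ (T : Set G)
      from fun y hy => Cfsg.Agent.S2941.thompsonSubgroupOf_le 2 T hy) hxc
  · intro K _ hKM hZK
    apply hKM
    have h1 : K ≤ centralizer ((omegaCenterOf (S : Subgroup G) : Subgroup G) : Set G) :=
      le_centralizer_iff.1 hZK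
    exact ((h1.trans (c.hZ S)).trans
      (normalizer_le_normalizer_thompsonSubgroupOf 2 (S : Subgroup G))).trans hMJ

end Cfsg.Agent.S2951P
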