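import Mathlib
import Cfsg.Agent.Helper25.S2981BDefs
import Cfsg.Agent.Helper12.S3000LC
import Cfsg.Agent.Helper12.S3000J
import Cfsg.Agent.Helper17.Basic

/-! Board `s2981pieces`, row NRMCOMM: strict offenders `A, B ≤ T` with `|A| ≤ |B|` and `B ≤ N(A)` commute. -/

set_option autoImplicit false

namespace Cfsg.Agent.S2981P

open Cfsg.Agent.S2789P Cfsg.Agent.S2999P Cfsg.Agent.S3000P
open scoped commutatorElement

variable {G : Type*} [Group G] [Finite G] {p : ℕ} [Fact p.Prime] {V P : Subgroup G} {T : Sylow p ↥P} {M : Subgroup ↥P}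

/-- the product formula for two subgroups of an abelian subgroup `V` -/
theorem NRMCOMM_aux_card (hVab : ∀ x ∈ V, ∀ y ∈ V, x * y = y * x) {X Y : Subgroup G} (hX : X ≤ V) (hY : Y ≤ V) :
    Nat.card ↥(X ⊔ Y) * Nat.card ↥(X ⊓ Y) = Nat.card ↥X * Nat.card ↥Y := by
  apply Cfsg.Agent.Helper17.card_sup_mul_card_inf
  intro y hy
  rw [Subgroup.mem_normalizer_iff]
  intro x
  constructor
  · intro hx
    have : y * x * y⁻¹ = x := by
      rw [hVab y (hY hy) x (hX hx)]; group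
    rwa [this]
  · intro hx
    have h1 : y * x * y⁻¹ ∈ V := hX hx
    have h2 : x = y⁻¹ * (y * x * y⁻¹) * y := by group
    have h3 : y⁻¹ * (y * x * y⁻¹) * y = y * x * y⁻¹ := by
      have := hVab y⁻¹ (V.inv_mem (hY hy)) (y * x * y⁻¹) h1
      rw [this]; group
    rw [h2, h3]; exact hx

/-- NRMCOMM (general): strict offenders `A, B ≤ T`, `|A| ≤ |B|`, `B` normalises `A` ⇒ they commute. -/
theorem NRMCOMM (Hy : Hyp p V P T M) {A B : Subgroup G} (hAT : A ≤ TT T) (hA : StrictOff p V A) (hBT : B ≤ TT T)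
    (hB : StrictOff p V B) (hcard : Nat.card ↥A ≤ Nat.card ↥B) (hn : ∀ b ∈ B, cjs b A = A) :
    ∀ a ∈ A, ∀ b ∈ B, a * b = b * a := by
  have hTP : TT T ≤ P := Subgroup.map_subtype_le _
  have hAP : A ≤ P := hAT.trans hTP
  have hBP : B ≤ P := hBT.trans hTP
  have hTp : IsPGroup p ↥(TT T) := J_aux_isPGroup_T P T
  have hVab : ∀ x ∈ V, ∀ y ∈ V, x * y = y * x := fun x hx y hy =>
    congrArg Subtype.val (Hy.hV.1.is_comm.comm ⟨x, hx⟩ ⟨y, hy⟩)
  have hABp : IsPGroup p ↥(A ⊔ B) := hTp.to_le (sup_le hAT hBT)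
  by_cases hcase : ∀ a' ∈ A, cjs a' B = B
  · -- `A` normalises `B`
    by_cases hAB : A = B
    · intro a ha b hb
      have hb' : b ∈ A := hAB ▸ hb
      exact congrArg Subtype.val (hA.hA.1.is_comm.comm ⟨a, ha⟩ ⟨b, hb'⟩)
    · have hbot := F3_TI Hy hAP hA hBP hB hAB
      intro a ha b hb
      have h1 : a * b * a⁻¹ * b⁻¹ ∈ A := by
        have h2 : b * a⁻¹ * b⁻¹ ∈ cjs b A := cj_mem_conj.mpr (A.inv_mem ha)
        rw [hn b hb] at h2
        have : a * b * a⁻¹ * b⁻¹ = a * (b * a⁻¹ * b⁻¹) := by group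
        rw [this]; exact A.mul_mem ha h2
      have h2 : a * b * a⁻¹ * b⁻¹ ∈ B := by
        have h3 : a * b * a⁻¹ ∈ cjs a B := cj_mem_conj.mpr hb
        rw [hcase a ha] at h3
        exact B.mul_mem h3 (B.inv_mem hb)
      have h3 : a * b * a⁻¹ * b⁻¹ ∈ A ⊓ B := ⟨h1, h2⟩
      rw [hbot, Subgroup.mem_bot] at h3
      calc a * b = (a * b * a⁻¹ * b⁻¹) * (b * a) := by group
        _ = b * a := by rw [h3, one_mul]
  · -- some `a' ∈ A` moves `B`
    push_neg at hcase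
    obtain ⟨a', ha', hne⟩ := hcase
    have ha'P : a' ∈ P := hAP ha'
    have hB'P : cjs a' B ≤ P := cj_le_of_mem ha'P hBP
    have hB'T : cjs a' B ≤ TT T := cj_le_of_mem (hAT ha') hBT
    have hB' : StrictOff p V (cjs a' B) := hB.conj (Hy.hPV ha'P)
    have hcB' : Nat.card ↥B = Nat.card ↥(cjs a' B) := (cj_card a' B).symm
    have hBB'p : IsPGroup p ↥(B ⊔ cjs a' B) := hTp.to_le (sup_le hBT hB'T)
    have hcomm := LC Hy hBP hB hB'P hB' hcB' hBB'p
    have hsup := (F6_cor Hy hBP hB hB'P hB' (Ne.symm hne) hcomm).1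
    -- an element `b ∈ B` with `a' b a'⁻¹ ∉ B`
    have hex : ∃ b ∈ B, a' * b * a'⁻¹ ∉ B := by
      by_contra hcon
      push_neg at hcon
      apply hne
      have hle : cjs a' B ≤ B := by
        intro y hy
        rw [cj_mem] at hy
        have := hcon _ hy
        have e : a' * (a'⁻¹ * y * a') * a'⁻¹ = y := by group
        rwa [e] at this
      exact Subgroup.eq_of_le_of_card_ge hle hcB'.le
    obtain ⟨b, hb, hbn⟩ := hex
    have hb₂ : a' * b * a'⁻¹ ∈ cjs a' B := cj_mem_conj.mpr hb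
    have hb₂1 : a' * b * a'⁻¹ ≠ 1 := by
      intro h
      apply hbn
      rw [h]; exact B.one_mem
    have hxA : a' * b * a'⁻¹ * b⁻¹ ∈ A := by
      have h2 : b * a'⁻¹ * b⁻¹ ∈ cjs b A := cj_mem_conj.mpr (A.inv_mem ha')
      rw [hn b hb] at h2
      have : a' * b * a'⁻¹ * b⁻¹ = a' * (b * a'⁻¹ * b⁻¹) := by group
      rw [this]; exact A.mul_mem ha' h2
    -- `C_V(B) ∩ C_V(A) ≤ C_V(B) ∩ C_V(B')`
    have hincl : fixV V B ⊓ fixV V A ≤ fixV V B ⊓ fixV V (cjs a' B) := by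
      intro v hv
      refine ⟨hv.1, ?_⟩
      have hvV : v ∈ V := fix_le V B hv.1
      have h1 := (mem_fix.mp hv.1).2 b hb
      have h2 := (mem_fix.mp hv.2).2 _ hxA
      apply F3_fix_elt Hy hB'P hB' hb₂ hb₂1 hvV
      calc a' * b * a'⁻¹ * v = (a' * b * a'⁻¹ * b⁻¹) * (b * v) := by group
        _ = (a' * b * a'⁻¹ * b⁻¹) * (v * b) := by rw [h1]
        _ = ((a' * b * a'⁻¹ * b⁻¹) * v) * b := by group
        _ = (v * (a' * b * a'⁻¹ * b⁻¹)) * b := by rw [h2]
        _ = v * (a' * b * a'⁻¹) := by group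
    -- counting
    have c1 := NRMCOMM_aux_card hVab (fix_le V B) (fix_le V (cjs a' B))
    have c2 := NRMCOMM_aux_card hVab (fix_le V B) (fix_le V A)
    rw [hsup] at c1
    have c3 : Nat.card ↥(fixV V B ⊔ fixV V A) ≤ Nat.card ↥V :=
      Subgroup.card_le_of_le (sup_le (fix_le V B) (fix_le V A))
    have c4 : Nat.card ↥(fixV V B ⊓ fixV V A : Subgroup G) ≤ Nat.card ↥(fixV V B ⊓ fixV V (cjs a' B) : Subgroup G) :=
      Subgroup.card_le_of_le hincl
    have vA := F3_card Hy hAP hA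
    have vB := F3_card Hy hBP hB
    have vB' := F3_card Hy hB'P hB'
    rw [← hcB'] at vB'
    have pV : 0 < Nat.card ↥V := Nat.card_pos
    have pU : 0 < Nat.card ↥(fixV V B) := Nat.card_pos
    have pA : 0 < Nat.card ↥A := Nat.card_pos
    have pB : 0 < Nat.card ↥B := Nat.card_pos
    have pUA : 0 < Nat.card ↥(fixV V A) := Nat.card_pos
    have pUB' : 0 < Nat.card ↥(fixV V (cjs a' B)) := Nat.card_pos
    -- `|U_A| ≤ |U_B'|`
    have k1 : Nat.card ↥(fixV V B) * Nat.card ↥(fixV V A) ≤ Nat.card ↥(fixV V B) * Nat.card ↥(fixV V (cjs a' B)) := by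
      calc Nat.card ↥(fixV V B) * Nat.card ↥(fixV V A)
          = Nat.card ↥(fixV V B ⊔ fixV V A) * Nat.card ↥(fixV V B ⊓ fixV V A : Subgroup G) := c2.symm
        _ ≤ Nat.card ↥V * Nat.card ↥(fixV V B ⊓ fixV V (cjs a' B) : Subgroup G) := Nat.mul_le_mul c3 c4
        _ = Nat.card ↥(fixV V B) * Nat.card ↥(fixV V (cjs a' B)) := c1
    have k2 : Nat.card ↥(fixV V A) ≤ Nat.card ↥(fixV V (cjs a' B)) := Nat.le_of_mul_le_mul_left k1 pU
    -- `|B| ≤ |A|`
    have k3 : Nat.card ↥B ≤ Nat.card ↥A := by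
      by_contra hlt
      rw [not_le] at hlt
      have : Nat.card ↥A * Nat.card ↥(fixV V A) < Nat.card ↥B * Nat.card ↥(fixV V (cjs a' B)) :=
        calc Nat.card ↥A * Nat.card ↥(fixV V A) < Nat.card ↥B * Nat.card ↥(fixV V A) :=
              Nat.mul_lt_mul_of_pos_right hlt pUA
          _ ≤ Nat.card ↥B * Nat.card ↥(fixV V (cjs a' B)) := Nat.mul_le_mul_left _ k2
      rw [vA, vB'] at this
      exact lt_irrefl _ this
    exact LC Hy hAP hA hBP hB (le_antisymm hcard k3) hABp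

end Cfsg.Agent.S2981P
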