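import Mathlib
import Cfsg.Agent.Helper4.S2522.Defs

/-! S2522 (driver helper4), pieces KRYLOV and KERPOW: Krylov vectors of a nilpotent endomorphism
are independent; a nilpotent endomorphism with one-dimensional kernel has maximal nilpotency index. -/

set_option autoImplicit false

namespace Cfsg.Agent.S2522P

open Module

namespace KRYLOV
variable {K : Type*} [Field K] {V : Type*} [AddCommGroup V] [Module K V]
theorem linearIndependent_pow (N : Module.End K V) (n : ℕ) (v : V) (h0 : (N ^ n) v = 0)
    (h1 : (N ^ (n - 1)) v ≠ 0) : LinearIndependent K (fun i : Fin n => (N ^ (i : ℕ)) v) := by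
  rw [Fintype.linearIndependent_iff]
  intro c hc
  have hbig : ∀ m, n ≤ m → (N ^ m) v = 0 := by
    intro m hm
    obtain ⟨d, rfl⟩ := Nat.exists_eq_add_of_le hm
    rw [add_comm, pow_add, Module.End.mul_apply, h0, map_zero]
  have key : ∀ j : ℕ, ∀ hj : j < n, (∀ i : Fin n, (i : ℕ) < j → c i = 0) → c ⟨j, hj⟩ = 0 := by
    intro j hj hlow
    have h2 := congrArg (N ^ (n - 1 - j)) hc
    rw [map_sum, map_zero] at h2
    rw [Finset.sum_eq_single (⟨j, hj⟩ : Fin n)] at h2
    · rw [map_smul, ← Module.End.mul_apply, ← pow_add] at h2
      have e : n - 1 - j + j = n - 1 := by omega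
      change c ⟨j, hj⟩ • (N ^ (n - 1 - j + j)) v = 0 at h2
      rw [e] at h2
      exact (smul_eq_zero.mp h2).resolve_right h1
    · intro i _ hij
      rw [map_smul]
      have hne : (i : ℕ) ≠ j := fun h => hij (Fin.ext h)
      rcases lt_or_gt_of_ne hne with hlt | hgt
      · rw [hlow i hlt, zero_smul]
      · rw [← Module.End.mul_apply, ← pow_add, hbig _ (by omega), smul_zero]
    · intro h
      exact absurd (Finset.mem_univ _) h
  have all : ∀ j : ℕ, ∀ hj : j < n, c ⟨j, hj⟩ = 0 := by
    intro j
    induction j using Nat.strong_induction_on with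
    | _ j ih =>
      intro hj
      apply key j hj
      intro i hi
      exact ih i hi i.isLt
  intro i
  exact all i i.isLt
end KRYLOV

namespace KERPOW
variable {K : Type*} [Field K] {V : Type*} [AddCommGroup V] [Module K V]

/-- the kernel of a product -/
theorem finrank_ker_mul_le [FiniteDimensional K V] (f g : Module.End K V) :
    Module.finrank K (LinearMap.ker (f * g)) ≤
      Module.finrank K (LinearMap.ker f) + Module.finrank K (LinearMap.ker g) := by
  have h1 := LinearMap.finrank_range_add_finrank_ker
    (g ∘ₗ (LinearMap.ker (f * g)).subtype)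
  have h2 : Module.finrank K (LinearMap.range (g ∘ₗ (LinearMap.ker (f * g)).subtype)) ≤
      Module.finrank K (LinearMap.ker f) := by
    apply Submodule.finrank_mono
    rintro x ⟨w, rfl⟩
    rw [LinearMap.mem_ker]
    have := w.2
    rw [LinearMap.mem_ker] at this
    exact this
  have h3 : Module.finrank K (LinearMap.ker (g ∘ₗ (LinearMap.ker (f * g)).subtype)) ≤
      Module.finrank K (LinearMap.ker g) := by
    rw [← Submodule.finrank_map_subtype_eq (LinearMap.ker (f * g))
      (LinearMap.ker (g ∘ₗ (LinearMap.ker (f * g)).subtype))]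
    apply Submodule.finrank_mono
    rintro x ⟨w, hw, rfl⟩
    rw [SetLike.mem_coe, LinearMap.mem_ker] at hw
    rw [LinearMap.mem_ker]
    exact hw
  omega

theorem finrank_ker_pow_le [FiniteDimensional K V] (N : Module.End K V)
    (hk : Module.finrank K (LinearMap.ker N) = 1) (k : ℕ) :
    Module.finrank K (LinearMap.ker (N ^ k)) ≤ k := by
  induction k with
  | zero =>
    rw [pow_zero, Module.End.one_eq_id, LinearMap.ker_id, finrank_bot]
  | succ k ih =>
    rw [pow_succ]
    have := finrank_ker_mul_le (N ^ k) N
    omega

theorem pow_pred_ne_zero [FiniteDimensional K V] (N : Module.End K V) (hN : IsNilpotent N)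
    (hk : Module.finrank K (LinearMap.ker N) = 1) :
    N ^ (Module.finrank K V - 1) ≠ 0 ∧ N ^ (Module.finrank K V) = 0 := by
  constructor
  · intro h0
    have h1 := finrank_ker_pow_le N hk (Module.finrank K V - 1)
    rw [h0, LinearMap.ker_zero, finrank_top] at h1
    have h2 : Module.finrank K (LinearMap.ker N) ≤ Module.finrank K V := Submodule.finrank_le _
    omega
  · have := LinearMap.aeval_self_charpoly N
    rw [IsNilpotent.charpoly_eq_X_pow_finrank hN, map_pow, Polynomial.aeval_X] at this
    exact this
end KERPOW

end Cfsg.Agent.S2522P
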