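import Mathlib
import Cfsg.Prelude.Def_GeometricClasses
import Cfsg.Agent.Helper24.S5704.Defs
import Cfsg.Agent.Helper17.S5704.STDefs

set_option autoImplicit false
set_option linter.unusedSectionVars false
set_option linter.unusedVariables false

/-! # S5704 chapter STAR', piece STPSI — helper25 (design helper17 / helper24) -/

namespace Cfsg.Agent.S5704P

open Matrix Cfsg.Agent.S5637P Cfsg.Agent.S5704S Cfsg.Agent.S5634P

variable {F : Type*} [Field F] {n a b : ℕ} (e : Fin n ≃ Fin a × Fin b)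

theorem STPSI.isUnit {m : ℕ} {G : Matrix (Fin m) (Fin m) F} (hG : IsSymp G) : IsUnit G := by
  rw [← Matrix.vecMul_injective_iff_isUnit]
  intro x x' hxx
  have h0 : (x - x') ᵥ* G = 0 := by
    rw [Matrix.sub_vecMul]
    exact sub_eq_zero.mpr hxx
  have : x - x' = 0 := by
    apply hG.nondeg
    intro y
    unfold bf
    rw [Matrix.dotProduct_mulVec, h0, zero_dotProduct]
  exact sub_eq_zero.mp this

/-- STPSI (S-M): every functional is `psi G z₀`. -/
theorem STPSI {m : ℕ} {G : Matrix (Fin m) (Fin m) F} (hG : IsSymp G) (ψ : Fin m → F) :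
    ∃ z₀ : Fin m → F, psi G z₀ = ψ := by
  have hu : IsUnit G := STPSI.isUnit hG
  obtain ⟨z₀, hz₀⟩ := (Matrix.mulVec_surjective_iff_isUnit.mpr hu) ψ
  exact ⟨z₀, hz₀⟩

end Cfsg.Agent.S5704P
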