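import Mathlib
import Cfsg.Prelude.Def_ClassicalGeometry
import Cfsg.Agent.Helper16.S5955Defs
import Cfsg.Agent.Helper23.S5961RESTR
import Cfsg.Agent.Helper21.S5949Basic

/-! S5955 piece RESTRY (driver helper16): restriction of `IsYSp` to a nondegenerate invariant
submodule. -/

set_option autoImplicit false
open scoped MatrixGroups

namespace Cfsg.Agent.S5955P

open Polynomial Cfsg.Agent.Helper2.SympInvol Cfsg.Agent.Helper2.SympUnits Cfsg.Agent.S5961P

/-- RESTRY -/
theorem restrict_isYSp {F V : Type*} [Field F] [AddCommGroup V] [Module F V]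
    [FiniteDimensional F V] (B : LinearMap.BilinForm F V) (y : Module.End F V) (r : ℕ)
    (h : IsYSp B y r) (M : Submodule F V) (hM : ∀ v ∈ M, y v ∈ M) (hMnd : Nondeg B M) :
    IsYSp (B.restrict M) (y.restrict hM) r ∧
    (LinearMap.ker (y - 1) = ⊥ → LinearMap.ker (y.restrict hM - 1) = ⊥) ∧
    ∀ g : F[X], Module.finrank F (LinearMap.ker (aeval (y.restrict hM) g)) =
      Module.finrank F ↥(M ⊓ LinearMap.ker (aeval y g)) := by
  obtain ⟨t1, t2, t3, t4, -, -, -, -⟩ := restr_transport B y M hM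
  refine ⟨⟨t2 h.alt, t4.mpr hMnd, t3 h.isom, t1 r h.pow⟩, ?_, ?_⟩
  · intro hker
    rw [eq_bot_iff]
    intro v hv
    rw [LinearMap.mem_ker] at hv
    have h1 : (y - 1) (v : V) = 0 := by
      rw [← RESTR.coe_restrict_sub_one y M hM v, hv]; rfl
    have h2 : (v : V) ∈ LinearMap.ker (y - 1) := LinearMap.mem_ker.mpr h1
    rw [hker, Submodule.mem_bot] at h2
    rw [Submodule.mem_bot]
    exact Subtype.ext h2
  · intro g
    have hmap : (LinearMap.ker (aeval (y.restrict hM) g)).map M.subtype
        = M ⊓ LinearMap.ker (aeval y g) := by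
      ext v
      rw [RESTR.mem_map_subtype, Submodule.mem_inf]
      constructor
      · rintro ⟨hv, hk⟩
        refine ⟨hv, ?_⟩
        rw [LinearMap.mem_ker] at hk ⊢
        rw [← S5949P.Basic.aeval_restrict_apply y M hM g ⟨v, hv⟩, hk]; rfl
      · rintro ⟨hv, hk⟩
        refine ⟨hv, ?_⟩
        rw [LinearMap.mem_ker] at hk ⊢
        apply Subtype.ext
        rw [S5949P.Basic.aeval_restrict_apply y M hM g ⟨v, hv⟩]
        exact hk
    rw [← hmap, Submodule.finrank_map_subtype_eq]

end Cfsg.Agent.S5955P
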