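import Mathlib
import Cfsg.Prelude.Def_ClassicalGeometry
import Cfsg.Agent.Helper16.S5955Defs
import Cfsg.Agent.Helper1.S5961EVENA

/-! S5955 piece EVENAG (driver helper16): for `i = ord_r(q)` even, a polynomial killing an
invariant `U` also kills a subspace `U'` paired with `U` (helper1's EVENA with an arbitrary `g`). -/

set_option autoImplicit false
set_option linter.unusedVariables false
open scoped MatrixGroups

namespace Cfsg.Agent.S5955P

open Polynomial Cfsg.Agent.Helper2.SympInvol Cfsg.Agent.Helper2.SympUnits Cfsg.Agent.S5961P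

/-- EVENAG: for `i` even a polynomial killing `U` kills a dual `U'` -/
theorem poly_kills_dual {F V : Type*} [Field F] [Fintype F] [AddCommGroup V] [Module F V]
    [FiniteDimensional F V] {p : ℕ} [Fact p.Prime] [CharP F p] (r : ℕ) [Fact r.Prime]
    (hr2 : r ≠ 2) (hrp : r ≠ p) (B : LinearMap.BilinForm F V)
    (y : Module.End F V) (hyB : ∀ u v, B (y u) (y v) = B u v) (hy : y ^ r = 1)
    (hev : Even (orderOf ((Fintype.card F : ℕ) : ZMod r)))
    (U U' : Submodule F V) (hU : U.map y ≤ U) (hU' : U'.map y ≤ U')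
    (hpair : ∀ u' ∈ U', (∀ u ∈ U, B u u' = 0) → u' = 0)
    (g : F[X]) (hg : ∀ u ∈ U, aeval y g u = 0) : ∀ u' ∈ U', aeval y g u' = 0 := by
  have hr : r.Prime := Fact.out
  have hU'm : ∀ v ∈ U', y v ∈ U' := fun v hv => hU' ⟨v, hv, rfl⟩
  -- the inverse
  set y' : Module.End F V := y ^ (r - 1) with hy'
  have hyy' : y * y' = 1 := by
    rw [hy', ← pow_succ', Nat.sub_add_cancel hr.one_lt.le, hy]
  have hy'y : y' * y = 1 := by
    rw [hy', ← pow_succ, Nat.sub_add_cancel hr.one_lt.le, hy]
  have hy'r : y' ^ r = 1 := by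
    rw [hy', ← pow_mul, mul_comm, pow_mul, hy, one_pow]
  have hpos := S5949P.orderOf_card_pos (F := F) (p := p) r hrp
  obtain ⟨c, hc⟩ := Helper12.SpPrime.dvd_pow_half_add_one (Fintype.card F) r hr hev hpos
  set k := orderOf ((Fintype.card F : ℕ) : ZMod r) / 2 with hk
  have hQ : y' ^ (Fintype.card F ^ k) = y := by
    have h1 : y' ^ (Fintype.card F ^ k) * y' = 1 := by
      rw [← pow_succ, hc, pow_mul, hy'r, one_pow]
    calc y' ^ (Fintype.card F ^ k) = y' ^ (Fintype.card F ^ k) * (y' * y) := by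
          rw [hy'y, mul_one]
      _ = y := by rw [← mul_assoc, h1, one_mul]
  have hU'm' : U'.map y' ≤ U' := by
    rintro _ ⟨v, hv, rfl⟩
    rw [hy']
    have : ∀ j : ℕ, ∀ v ∈ U', (y ^ j) v ∈ U' := by
      intro j
      induction j with
      | zero => intro v hv; simpa using hv
      | succ j ih =>
        intro v hv
        rw [pow_succ', Module.End.mul_apply]
        exact hU'm _ (ih v hv)
    exact this _ v hv
  have hgU' : ∀ u' ∈ U', aeval y' g u' = 0 := by
    intro u' hu'
    apply hpair _ (S5949P.Basic.aeval_mem_of_invariant y' U' hU'm' g u' hu')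
    intro u hu
    rw [← EVENA.adj_aeval B y y' hyB hyy', hg u hu, map_zero, LinearMap.zero_apply]
  have hQpos : 0 < Fintype.card F ^ k := pow_pos Fintype.card_pos k
  intro u' hu'
  rw [← hQ, EVENA.aeval_pow_card_pow]
  obtain ⟨m, hm⟩ := Nat.exists_eq_succ_of_ne_zero hQpos.ne'
  rw [hm, pow_succ, Module.End.mul_apply, hgU' u' hu', map_zero]

end Cfsg.Agent.S5955P
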