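import Mathlib
import Cfsg.Prelude.Def_GeometricClasses
import Cfsg.Prelude.Def_Classical
import Cfsg.Prelude.Def_LieClassical
import Cfsg.Agent.Helper6.S5992Defs
import Cfsg.Agent.Helper23.S5961RESTR

/-! S5992 piece RESTRYO (driver helper6): restriction of `IsYO` to a nondegenerate invariant
submodule. -/

set_option autoImplicit false
open scoped MatrixGroups

namespace Cfsg.Agent.S5992P

open Cfsg.Agent.Helper2.SympInvol Cfsg.Agent.Helper2.SympUnits Cfsg.Agent.S5961P Cfsg.Agent.S2614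
  Cfsg.Agent.S5955P

theorem restryo_PB {F V : Type*} [Field F] [AddCommGroup V] [Module F V]
    (Q : QuadraticForm F V) (M : Submodule F V) (u v : M) :
    PB (Q.comp M.subtype) u v = PB Q (u : V) (v : V) := by
  simp only [PB_apply, QuadraticMap.polar, QuadraticMap.comp_apply, map_add, Submodule.subtype_apply]

/-- RESTRYO -/
theorem restrict_isYO {F V : Type*} [Field F] [AddCommGroup V] [Module F V]
    [FiniteDimensional F V] (Q : QuadraticForm F V) (y : Module.End F V) (r : ℕ)
    (hY : IsYO Q y r) (M : Submodule F V) (hM : ∀ v ∈ M, y v ∈ M) (hMnd : Nondeg (PB Q) M) :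
    IsYO (Q.comp M.subtype) (y.restrict hM) r ∧
    (M ⊓ LinearMap.ker (y - 1) = ⊥ → LinearMap.ker (y.restrict hM - 1) = ⊥) := by
  have hpow : (y.restrict hM) ^ r = 1 :=
    (restr_transport (0 : LinearMap.BilinForm F V) y M hM).1 r hY.pow
  refine ⟨⟨?_, ?_, hpow⟩, ?_⟩
  · intro w _ hw0
    obtain ⟨v, hv, hne⟩ := hMnd w.1 w.2 (fun h0 => hw0 (Subtype.ext h0))
    refine ⟨⟨v, hv⟩, Submodule.mem_top, ?_⟩
    rw [restryo_PB]
    exact hne
  · intro v
    rw [QuadraticMap.comp_apply, QuadraticMap.comp_apply]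
    exact hY.isom (v : V)
  · intro hker
    rw [eq_bot_iff]
    intro v hv
    rw [LinearMap.mem_ker] at hv
    have h1 : (y - 1) (v : V) = 0 := by
      rw [← RESTR.coe_restrict_sub_one y M hM v, hv]; rfl
    have h2 : (v : V) ∈ M ⊓ LinearMap.ker (y - 1) := ⟨v.2, LinearMap.mem_ker.mpr h1⟩
    rw [hker, Submodule.mem_bot] at h2
    rw [Submodule.mem_bot]
    exact Subtype.ext h2

end Cfsg.Agent.S5992P
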