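import Mathlib
import Cfsg.Agent.Helper16.BCDefs
import Cfsg.Agent.Helper16.BCElem
import Cfsg.Agent.Helper16.BCPAIR1
import Cfsg.Agent.Helper25.StabChain
import Cfsg.Agent.Helper25.FusionAlperin2

set_option autoImplicit false

/-! S5110 piece BCORE: every `α ∈ Aut_E(Q)` extends to an `E`-automorphism of `R₀ = N_N^K(Q)`. -/

namespace Cfsg.Agent.Helper16.BC

open Cfsg Cfsg.FusionSystem Cfsg.Agent.Helper25

open scoped Pointwise

namespace BCORE

variable {Ω : Type*} [Group Ω] {N : Subgroup Ω}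

/-- the restriction to `Q` of a map of the system defined on an overgroup of `Q` -/
noncomputable def resQ (E : FusionSystem N) {Q : Subgroup Ω}
    (hnorm : ∀ (R : Subgroup Ω) (φ : R →* Ω), φ ∈ E.Hom R → Q ≤ R → img φ Q = Q)
    {R : Subgroup Ω} (hQR : Q ≤ R) {ψ : R →* Ω} (hψ : ψ ∈ E.Hom R) : MulAut Q :=
  resAutOf hQR ψ (E.injective_of_mem hψ) (hnorm R ψ hψ hQR)

theorem resQ_apply (E : FusionSystem N) {Q : Subgroup Ω}
    (hnorm : ∀ (R : Subgroup Ω) (φ : R →* Ω), φ ∈ E.Hom R → Q ≤ R → img φ Q = Q)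
    {R : Subgroup Ω} (hQR : Q ≤ R) {ψ : R →* Ω} (hψ : ψ ∈ E.Hom R) (x : Q) :
    ((resQ E hnorm hQR hψ x : Q) : Ω) = ψ (Subgroup.inclusion hQR x) := rfl

theorem resQ_mem (E : FusionSystem N) {Q : Subgroup Ω} (hQN : Q ≤ N)
    (hnorm : ∀ (R : Subgroup Ω) (φ : R →* Ω), φ ∈ E.Hom R → Q ≤ R → img φ Q = Q)
    {R : Subgroup Ω} (hQR : Q ≤ R) {ψ : R →* Ω} (hψ : ψ ∈ E.Hom R) :
    resQ E hnorm hQR hψ ∈ E.autGroup Q := by
  rw [mem_autGroup_iff E hQN]
  have h1 := restrict_mem E hQR hψ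
  have e : autHom (resQ E hnorm hQR hψ) = ψ.comp (Subgroup.inclusion hQR) := by
    ext x
    rfl
  rw [e]
  exact h1

/-- equality of restrictions from pointwise equality -/
theorem resQ_eq_of (E : FusionSystem N) {Q : Subgroup Ω}
    (hnorm : ∀ (R : Subgroup Ω) (φ : R →* Ω), φ ∈ E.Hom R → Q ≤ R → img φ Q = Q)
    {R R' : Subgroup Ω} (hQR : Q ≤ R) (hQR' : Q ≤ R') {ψ : R →* Ω} (hψ : ψ ∈ E.Hom R)
    {ψ' : R' →* Ω} (hψ' : ψ' ∈ E.Hom R')
    (h : ∀ x : Q, ψ (Subgroup.inclusion hQR x) = ψ' (Subgroup.inclusion hQR' x)) :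
    resQ E hnorm hQR hψ = resQ E hnorm hQR' hψ' := by
  apply MulEquiv.ext
  intro x
  apply Subtype.ext
  rw [resQ_apply, resQ_apply]
  exact h x

/-- a Frattini-type decomposition: `β = a⁻¹ (a β)` with `a` in the normal subgroup `A` and
`a β` conjugating `T ∩ A` into the Sylow subgroup `T` -/
theorem frat {G : Type*} [Group G] [Finite G] {p : ℕ} [Fact p.Prime] (T : Sylow p G)
    (A : Subgroup G) [hA : A.Normal] (β : G) :
    ∃ a ∈ A, ∀ r ∈ (T : Subgroup G) ⊓ A, (a * β) * r * (a * β)⁻¹ ∈ (T : Subgroup G) := by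
  set U : Subgroup G := ((T : Subgroup G) ⊓ A).map (MulAut.conj β).toMonoidHom with hU
  have hUp : IsPGroup p U := (isPGroup_of_le T.2 inf_le_left).map _
  have hUA : U ≤ A := by
    rintro _ ⟨r, hr, rfl⟩
    exact hA.conj_mem r hr.2 β
  obtain ⟨c, hc, hcU⟩ := Cfsg.Agent.Helper10.exists_conj_le_sylow_of_le T ((T : Subgroup G) ⊔ A) U
    le_sup_left hUp (hUA.trans le_sup_right)
  have hc' : c ∈ ((T : Subgroup G) : Set G) * (A : Set G) := by
    rw [← Subgroup.mul_normal]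
    exact hc
  obtain ⟨t, ht, a, ha, rfl⟩ := Set.mem_mul.mp hc'
  refine ⟨a, ha, fun r hr => ?_⟩
  have h1 := hcU (β * r * β⁻¹) ⟨r, hr, rfl⟩
  have h2 : a * β * r * (a * β)⁻¹ = t⁻¹ * (t * a * (β * r * β⁻¹) * (t * a)⁻¹) * t := by group
  rw [h2]
  exact (T : Subgroup G).mul_mem ((T : Subgroup G).mul_mem ((T : Subgroup G).inv_mem ht) h1) ht

/-- an automorphism of `R'` which is trivial on the normal self-centralizing subgroup `Q` has
`p`-power order -/
theorem exists_pow_eq_one_of_fix [Finite N] (p : ℕ) [Fact p.Prime] (hN : IsPGroup p N)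
    {Q R' : Subgroup Ω} (hQR' : Q ≤ R') (hR'N : R' ≤ N)
    (hnormal : ∀ n ∈ N, ∀ x ∈ Q, n * x * n⁻¹ ∈ Q) (hcent : centralizerIn N Q ≤ Q)
    (δ : MulAut R') (hδ : ∀ x : R', (x : Ω) ∈ Q → δ x = x) : ∃ k : ℕ, δ ^ (p ^ k) = 1 := by
  have hfin : Finite R' := finite_of_le hR'N
  have hR'p : IsPGroup p R' := isPGroup_of_le hN hR'N
  let C : ℕ → Subgroup R' := fun i => if i = 0 then ⊥ else if i = 1 then Q.subgroupOf R' else ⊤
  have hC0 : C 0 = ⊥ := rfl
  have hC1 : C 1 = Q.subgroupOf R' := rfl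
  have hC2 : ∀ i, 2 ≤ i → C i = ⊤ := by
    intro i hi
    show (if i = 0 then ⊥ else if i = 1 then Q.subgroupOf R' else ⊤) = ⊤
    rw [if_neg (by omega), if_neg (by omega)]
  have hmono : Monotone C := by
    intro i j hij
    rcases Nat.lt_or_ge j 2 with hj | hj
    · interval_cases j
      · have : i = 0 := by omega
        rw [this]
      · interval_cases i
        · rw [hC0]; exact bot_le
        · exact le_rfl
    · rw [hC2 j hj]; exact le_top
  have hstab : StabilizesChain C δ := by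
    intro i x hx
    rcases Nat.lt_or_ge i 2 with hi | hi
    · interval_cases i
      · rw [show (0 : ℕ) + 1 = 1 from rfl, hC1, Subgroup.mem_subgroupOf] at hx
        rw [hC0, hδ x hx, mul_inv_cancel]
        exact Subgroup.one_mem _
      · rw [hC1, Subgroup.mem_subgroupOf]
        -- `c = (δ x)⁻¹ x` centralizes `Q`
        have hc : ((δ x : R') : Ω)⁻¹ * (x : Ω) ∈ centralizerIn N Q := by
          refine Subgroup.mem_inf.mpr ⟨N.mul_mem (N.inv_mem (hR'N (δ x).2)) (hR'N x.2), ?_⟩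
          rw [Subgroup.mem_centralizer_iff]
          intro y hy
          have hxy : (x : Ω) * y * (x : Ω)⁻¹ ∈ Q := hnormal x (hR'N x.2) y hy
          have h1 : δ (x * ⟨y, hQR' hy⟩ * x⁻¹) = x * ⟨y, hQR' hy⟩ * x⁻¹ := hδ _ hxy
          have h2 : δ ⟨y, hQR' hy⟩ = ⟨y, hQR' hy⟩ := hδ _ hy
          rw [map_mul, map_mul, map_inv, h2] at h1
          have h3 := congrArg Subtype.val h1
          have h4 : ((δ x : R') : Ω) * y * ((δ x : R') : Ω)⁻¹ = (x : Ω) * y * (x : Ω)⁻¹ := h3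
          calc y * (((δ x : R') : Ω)⁻¹ * (x : Ω))
              = ((δ x : R') : Ω)⁻¹ * (((δ x : R') : Ω) * y * ((δ x : R') : Ω)⁻¹) * ((δ x : R') : Ω)
                  * (((δ x : R') : Ω)⁻¹ * (x : Ω)) := by group
            _ = ((δ x : R') : Ω)⁻¹ * ((x : Ω) * y * (x : Ω)⁻¹) * ((δ x : R') : Ω)
                  * (((δ x : R') : Ω)⁻¹ * (x : Ω)) := by rw [h4]
            _ = ((δ x : R') : Ω)⁻¹ * (x : Ω) * y := by group
        have hcQ := hcent hc
        have h5 : ((δ x * x⁻¹ : R') : Ω) =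
            (x : Ω) * (((δ x : R') : Ω)⁻¹ * (x : Ω))⁻¹ * (x : Ω)⁻¹ := by
          show ((δ x : R') : Ω) * ((x : R') : Ω)⁻¹ = _
          group
        rw [h5]
        exact hnormal x (hR'N x.2) _ (Q.inv_mem hcQ)
    · rw [hC2 i hi]
      exact Subgroup.mem_top _
  exact hstab.pow_eq_one hR'p hC0 hmono (hC2 2 le_rfl)

/-- product decomposition in `A ⊔ B` when `A` normalizes `B` -/
theorem exists_mul_of_mem_sup {A B : Subgroup Ω} (hAB : ∀ a ∈ A, ∀ b ∈ B, a * b * a⁻¹ ∈ B)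
    {g : Ω} (hg : g ∈ A ⊔ B) : ∃ a ∈ A, ∃ b ∈ B, g = a * b := by
  let W : Subgroup Ω :=
    { carrier := {g | ∃ a ∈ A, ∃ b ∈ B, g = a * b}
      one_mem' := ⟨1, A.one_mem, 1, B.one_mem, by simp⟩
      mul_mem' := by
        rintro _ _ ⟨a, ha, b, hb, rfl⟩ ⟨a', ha', b', hb', rfl⟩
        refine ⟨a * a', A.mul_mem ha ha', (a'⁻¹ * b * a'⁻¹⁻¹) * b',
          B.mul_mem (hAB a'⁻¹ (A.inv_mem ha') b hb) hb', ?_⟩
        group
      inv_mem' := by
        rintro _ ⟨a, ha, b, hb, rfl⟩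
        refine ⟨a⁻¹, A.inv_mem ha, a * b⁻¹ * a⁻¹, hAB a ha b⁻¹ (B.inv_mem hb), ?_⟩
        group }
  have hle : A ⊔ B ≤ W := by
    apply sup_le
    · intro a ha
      exact ⟨a, ha, 1, B.one_mem, by simp⟩
    · intro b hb
      exact ⟨1, A.one_mem, b, hb, by simp⟩
  exact hle hg

section ctx

variable (E : FusionSystem N) {Q : Subgroup Ω} (hQN : Q ≤ N)
  (hnorm : ∀ (R : Subgroup Ω) (φ : R →* Ω), φ ∈ E.Hom R → Q ≤ R → img φ Q = Q)
  (K : Subgroup (MulAut Q)) (hKle : K ≤ E.autGroup Q)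
  (hKnorm : (K.subgroupOf (E.autGroup Q)).Normal)

include hKle hKnorm in
theorem K_conj {α : MulAut Q} (hα : α ∈ E.autGroup Q) {κ : MulAut Q} (hκ : κ ∈ K) :
    α * κ * α⁻¹ ∈ K := by
  have h1 : (⟨κ, hKle hκ⟩ : E.autGroup Q) ∈ K.subgroupOf (E.autGroup Q) :=
    Subgroup.mem_subgroupOf.mpr hκ
  have h2 := hKnorm.conj_mem _ h1 ⟨α, hα⟩
  exact Subgroup.mem_subgroupOf.mp h2

include hQN hnorm hKle hKnorm in
/-- maps of the system send `R₀` into `R₀` -/
theorem map_mem_R0 {R : Subgroup Ω} (hQR : Q ≤ R) {ψ : R →* Ω} (hψ : ψ ∈ E.Hom R) (g : R)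
    (hg : (g : Ω) ∈ NKvia N Q.subtype K) : ψ g ∈ NKvia N Q.subtype K := by
  obtain ⟨-, κ, hκ, hκe⟩ := hg
  have hα := resQ_mem E hQN hnorm hQR hψ
  set α := resQ E hnorm hQR hψ with hαdef
  refine ⟨(E.le_of_mem hψ).2 g, α * κ * α⁻¹, K_conj E K hKle hKnorm hα hκ, fun y => ?_⟩
  show (((α * κ * α⁻¹) y : Q) : Ω) = ψ g * (y : Ω) * (ψ g)⁻¹
  have hy : (y : Ω) = ψ (Subgroup.inclusion hQR (α⁻¹ y)) := by
    rw [← resQ_apply E hnorm hQR hψ, ← hαdef, MulAut.apply_inv_self]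
  rw [MulAut.mul_apply, MulAut.mul_apply, hαdef, resQ_apply, ← hαdef]
  have h1 : ((κ (α⁻¹ y) : Q) : Ω) = (g : Ω) * ((α⁻¹ y : Q) : Ω) * (g : Ω)⁻¹ := hκe (α⁻¹ y)
  have h2 : Subgroup.inclusion hQR (κ (α⁻¹ y)) = g * Subgroup.inclusion hQR (α⁻¹ y) * g⁻¹ := by
    apply Subtype.ext
    exact h1
  rw [h2, map_mul, map_mul, map_inv, ← hy]


include hQN hnorm hKle hKnorm in
/-- REMARK: the restriction of a map defined on an overgroup of `R₀` extends to an
`E`-automorphism of `R₀` -/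
theorem remark [Finite N] (hQR0 : Q ≤ NKvia N Q.subtype K) {R : Subgroup Ω}
    (hR0R : NKvia N Q.subtype K ≤ R) {ψ : R →* Ω} (hψ : ψ ∈ E.Hom R) :
    resQ E hnorm (hQR0.trans hR0R) hψ ∈ resSet E hQR0 := by
  refine ⟨ψ.comp (Subgroup.inclusion hR0R), restrict_mem E hR0R hψ, ?_, fun x => rfl⟩
  have hle : (ψ.comp (Subgroup.inclusion hR0R)).range ≤ NKvia N Q.subtype K := by
    rintro _ ⟨g, rfl⟩
    exact map_mem_R0 E hQN hnorm K hKle hKnorm (hQR0.trans hR0R) hψ (Subgroup.inclusion hR0R g) g.2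
  have hfin : Finite (NKvia N Q.subtype K) := finite_of_le (NKvia_le N _ K)
  have hfin2 : Finite (ψ.comp (Subgroup.inclusion hR0R)).range :=
    finite_of_le (hle.trans (NKvia_le N _ K))
  apply Subgroup.eq_of_le_of_card_ge hle
  have hinj : Function.Injective (ψ.comp (Subgroup.inclusion hR0R)) :=
    (E.injective_of_mem hψ).comp (Subgroup.inclusion_injective _)
  exact Nat.card_le_card_of_injective (ψ.comp (Subgroup.inclusion hR0R)).rangeRestrict
    (by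
      intro a b hab
      apply hinj
      exact congrArg Subtype.val hab)

/-- `Γ₀` as a subgroup of `Aut(Q)` -/
def Gam (hQR0 : Q ≤ NKvia N Q.subtype K) : Subgroup (MulAut Q) where
  carrier := resSet E hQR0
  one_mem' := by
    refine ⟨(NKvia N Q.subtype K).subtype, subtype_mem E (NKvia_le N _ K), Subgroup.range_subtype _,
      fun x => rfl⟩
  mul_mem' := by
    rintro α₁ α₂ ⟨β₁, hβ₁, hr₁, hres₁⟩ ⟨β₂, hβ₂, hr₂, hres₂⟩
    have hval : ∀ x : NKvia N Q.subtype K, β₂ x ∈ NKvia N Q.subtype K := by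
      intro x
      have : β₂ x ∈ β₂.range := ⟨x, rfl⟩
      rwa [hr₂] at this
    refine ⟨β₁.comp (β₂.codRestrict _ hval), E.comp_mem hβ₂ hβ₁ hval, ?_, ?_⟩
    · apply le_antisymm
      · rintro _ ⟨x, rfl⟩
        have : β₁ (β₂.codRestrict _ hval x) ∈ β₁.range := ⟨_, rfl⟩
        rwa [hr₁] at this
      · intro y hy
        rw [← hr₁] at hy
        obtain ⟨x₁, rfl⟩ := hy
        have hx₁ : (x₁ : Ω) ∈ β₂.range := by rw [hr₂]; exact x₁.2
        obtain ⟨x₂, hx₂⟩ := hx₁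
        refine ⟨x₂, ?_⟩
        show β₁ (β₂.codRestrict _ hval x₂) = β₁ x₁
        congr 1
        exact Subtype.ext hx₂
    · intro x
      show (((α₁ * α₂) x : Q) : Ω) = β₁ (β₂.codRestrict _ hval (Subgroup.inclusion hQR0 x))
      rw [MulAut.mul_apply, hres₁ (α₂ x)]
      congr 1
      apply Subtype.ext
      exact hres₂ x
  inv_mem' := by
    rintro α ⟨β, hβ, hr, hres⟩
    obtain ⟨χ, hχ, hinv, hχr⟩ := exists_inv_mem E hβ hr
    refine ⟨χ, hχ, hχr, fun x => ?_⟩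
    have h1 := hres (α⁻¹ x)
    rw [MulAut.apply_inv_self] at h1
    have h2 := hinv (Subgroup.inclusion hQR0 (α⁻¹ x)) (by
      have : β (Subgroup.inclusion hQR0 (α⁻¹ x)) ∈ β.range := ⟨_, rfl⟩
      rwa [hr] at this)
    show ((α⁻¹ x : Q) : Ω) = χ (Subgroup.inclusion hQR0 x)
    rw [← Subgroup.coe_inclusion hQR0 (α⁻¹ x), ← h2]
    congr 1
    apply Subtype.ext
    exact h1.symm

theorem mem_Gam (hQR0 : Q ≤ NKvia N Q.subtype K) (α : MulAut Q) :
    α ∈ Gam E K hQR0 ↔ α ∈ resSet E hQR0 := Iff.rfl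

include hQN hnorm hKle hKnorm in
/-- automorphisms induced by `N` lie in `Γ₀` -/
theorem autInduced_mem_Gam [Finite N] (hQR0 : Q ≤ NKvia N Q.subtype K) {α : MulAut Q}
    (hα : α ∈ autInducedBy N Q) : α ∈ Gam E K hQR0 := by
  obtain ⟨g, hg, hge⟩ := (mem_autInducedBy_iff N Q α).mp hα
  have hc : conjHom N g ∈ E.Hom N := E.conj_mem le_rfl hg
  have h1 := remark E hQN hnorm K hKle hKnorm hQR0 (NKvia_le N _ K) hc
  have e : α = resQ E hnorm (hQR0.trans (NKvia_le N _ K)) hc := by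
    apply MulEquiv.ext
    intro x
    apply Subtype.ext
    rw [resQ_apply, hge x]
    rfl
  rw [mem_Gam, e]
  exact h1


include hQN hnorm in
/-- `N` normalizes `Q` -/
theorem conj_mem_Q {n : Ω} (hn : n ∈ N) {x : Ω} (hx : x ∈ Q) : n * x * n⁻¹ ∈ Q := by
  have hc : conjHom N n ∈ E.Hom N := E.conj_mem le_rfl hn
  have h1 := hnorm N (conjHom N n) hc hQN
  rw [← h1, mem_img]
  exact ⟨⟨x, hQN hx⟩, hx, rfl⟩

/-- the elements of `Aut_E(R')` whose restriction to `Q` lies in `K` -/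
def Asub {R' : Subgroup Ω} (hQR' : Q ≤ R') : Subgroup (E.autGroup R') where
  carrier := {γ | ∃ κ ∈ K, ∀ x : Q,
    (γ : MulAut R') (Subgroup.inclusion hQR' x) = Subgroup.inclusion hQR' (κ x)}
  one_mem' := ⟨1, K.one_mem, fun x => rfl⟩
  mul_mem' := by
    rintro γ₁ γ₂ ⟨κ₁, h₁, e₁⟩ ⟨κ₂, h₂, e₂⟩
    refine ⟨κ₁ * κ₂, K.mul_mem h₁ h₂, fun x => ?_⟩
    show (γ₁ : MulAut R') ((γ₂ : MulAut R') (Subgroup.inclusion hQR' x)) = _
    rw [e₂, e₁]
    rfl
  inv_mem' := by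
    rintro γ ⟨κ, h, e⟩
    refine ⟨κ⁻¹, K.inv_mem h, fun x => ?_⟩
    have h1 := e (κ⁻¹ x)
    rw [MulAut.apply_inv_self] at h1
    show (γ : MulAut R')⁻¹ (Subgroup.inclusion hQR' x) = _
    rw [← h1, MulAut.inv_apply_self]

include hQN hnorm hKle hKnorm in
theorem Asub_normal {R' : Subgroup Ω} (hQR' : Q ≤ R') (hR'N : R' ≤ N) :
    (Asub E K hQR').Normal := by
  constructor
  rintro γ ⟨κ, hκ, e⟩ δ
  have hδ : autHom (δ : MulAut R') ∈ E.Hom R' := (mem_autGroup_iff E hR'N _).mp δ.2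
  have hν : resQ E hnorm hQR' hδ ∈ E.autGroup Q := resQ_mem E hQN hnorm hQR' hδ
  set ν := resQ E hnorm hQR' hδ with hνdef
  have eν : ∀ x : Q, (δ : MulAut R') (Subgroup.inclusion hQR' x) = Subgroup.inclusion hQR' (ν x) := by
    intro x
    apply Subtype.ext
    rw [Subgroup.coe_inclusion, hνdef, resQ_apply]
    rfl
  refine ⟨ν * κ * ν⁻¹, K_conj E K hKle hKnorm hν hκ, fun x => ?_⟩
  show (δ : MulAut R') ((γ : MulAut R') ((δ : MulAut R')⁻¹ (Subgroup.inclusion hQR' x))) =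
    Subgroup.inclusion hQR' (ν (κ (ν⁻¹ x)))
  have h1 : (δ : MulAut R')⁻¹ (Subgroup.inclusion hQR' x) = Subgroup.inclusion hQR' (ν⁻¹ x) := by
    have h2 := eν (ν⁻¹ x)
    rw [MulAut.apply_inv_self] at h2
    rw [← h2, MulAut.inv_apply_self]
  rw [h1, e, eν]

/-- restriction to `Q` of an element of `Aut_E(R')` -/
noncomputable def rq {R' : Subgroup Ω} (hQR' : Q ≤ R') (hR'N : R' ≤ N) (γ : E.autGroup R') :
    MulAut Q :=
  resQ E hnorm hQR' ((mem_autGroup_iff E hR'N (γ : MulAut R')).mp γ.2)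

theorem rq_apply {R' : Subgroup Ω} (hQR' : Q ≤ R') (hR'N : R' ≤ N) (γ : E.autGroup R') (x : Q) :
    Subgroup.inclusion hQR' (rq E hnorm hQR' hR'N γ x) =
      (γ : MulAut R') (Subgroup.inclusion hQR' x) := by
  apply Subtype.ext
  rfl

theorem rq_mul {R' : Subgroup Ω} (hQR' : Q ≤ R') (hR'N : R' ≤ N) (γ₁ γ₂ : E.autGroup R') :
    rq E hnorm hQR' hR'N (γ₁ * γ₂) = rq E hnorm hQR' hR'N γ₁ * rq E hnorm hQR' hR'N γ₂ := by
  apply MulEquiv.ext
  intro x
  apply Subgroup.inclusion_injective hQR'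
  rw [rq_apply, MulAut.mul_apply, rq_apply, rq_apply]
  rfl


include hQN hnorm in
/-- `Asub` is a `p`-group when `C_N(Q) ≤ Q` -/
theorem Asub_isPGroup [Finite N] (p : ℕ) [Fact p.Prime] (hN : IsPGroup p N) (hKp : IsPGroup p K)
    (hcent : centralizerIn N Q ≤ Q) {R' : Subgroup Ω} (hQR' : Q ≤ R') (hR'N : R' ≤ N) :
    IsPGroup p (Asub E K hQR') := by
  rintro ⟨γ, κ', hκ', eκ'⟩
  obtain ⟨j, hj⟩ := hKp ⟨κ', hκ'⟩
  have hj' : κ' ^ (p ^ j) = 1 := by
    have := congrArg Subtype.val hj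
    simpa using this
  have hpow : ∀ m : ℕ, ∀ x : Q, ((γ : MulAut R') ^ m) (Subgroup.inclusion hQR' x) =
      Subgroup.inclusion hQR' ((κ' ^ m) x) := by
    intro m
    induction m with
    | zero => intro x; rfl
    | succ m ih =>
      intro x
      rw [pow_succ, pow_succ, MulAut.mul_apply, eκ', ih, MulAut.mul_apply]
  obtain ⟨k, hk⟩ := exists_pow_eq_one_of_fix p hN hQR' hR'N
    (fun n hn x hx => conj_mem_Q E hQN hnorm hn hx) hcent ((γ : MulAut R') ^ (p ^ j)) (by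
      intro x hx
      have h1 := hpow (p ^ j) ⟨(x : Ω), hx⟩
      rw [hj'] at h1
      have h2 : Subgroup.inclusion hQR' ⟨(x : Ω), hx⟩ = x := Subtype.ext rfl
      rw [h2] at h1
      rw [h1]
      rfl)
  refine ⟨j + k, ?_⟩
  apply Subtype.ext
  apply Subtype.ext
  show (γ : MulAut R') ^ (p ^ (j + k)) = 1
  rw [pow_add, pow_mul]
  exact hk

include hQN hnorm hKle hKnorm in
/-- (†): restrictions of automorphisms of a fully automized receptive `R'` -/
theorem dagger [Finite N] (p : ℕ) [Fact p.Prime] (hN : IsPGroup p N) (hKp : IsPGroup p K)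
    (hQR0 : Q ≤ NKvia N Q.subtype K)
    (hK5 : K ≤ autInducedBy N Q ∨ centralizerIn N Q ≤ Q)
    {R' : Subgroup Ω} (hQR' : Q ≤ R') (hR'N : R' ≤ N)
    (hfa : E.IsFullyAutomized p R') (hrec : E.IsReceptive R')
    (IH : ∀ (M : Subgroup Ω) (hQM : Q ≤ M), M ≤ N → Nat.card R' < Nat.card M →
      ∀ (ψ : M →* Ω) (hψ : ψ ∈ E.Hom M), resQ E hnorm hQM hψ ∈ Gam E K hQR0)
    (β : E.autGroup R') : rq E hnorm hQR' hR'N β ∈ Gam E K hQR0 := by
  have hfinR' : Finite R' := finite_of_le hR'N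
  have hfinA : Finite (MulAut R') :=
    Finite.of_injective (fun e : MulAut R' => (e : R' → R')) (fun a b h => DFunLike.coe_injective h)
  obtain ⟨-, T, hT⟩ := hfa
  have hAn := Asub_normal E hQN hnorm K hKle hKnorm hQR' hR'N
  obtain ⟨a, ha, hconj⟩ := frat T (Asub E K hQR') β
  have hβ : rq E hnorm hQR' hR'N β =
      (rq E hnorm hQR' hR'N a)⁻¹ * rq E hnorm hQR' hR'N (a * β) := by
    rw [rq_mul, inv_mul_cancel_left]
  rw [hβ]
  apply (Gam E K hQR0).mul_mem ((Gam E K hQR0).inv_mem ?_) ?_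
  · -- `rq a ∈ Γ₀`
    obtain ⟨κ, hκ, eκ⟩ := ha
    have hrqa : rq E hnorm hQR' hR'N a = κ := by
      apply MulEquiv.ext
      intro x
      apply Subgroup.inclusion_injective hQR'
      rw [rq_apply, eκ]
    rw [hrqa]
    rcases hK5 with h | hcent
    · exact autInduced_mem_Gam E hQN hnorm K hKle hKnorm hQR0 (h hκ)
    · have hAp := Asub_isPGroup E hQN hnorm K p hN hKp hcent hQR' hR'N
      have hAT : Asub E K hQR' ≤ T := hAp.le_sylow_of_normal T
      have haT : a ∈ (T : Subgroup (E.autGroup R')) := hAT ⟨κ, hκ, eκ⟩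
      rw [hT, Subgroup.mem_subgroupOf] at haT
      obtain ⟨g, hg, hge⟩ := (mem_autInducedBy_iff N R' _).mp haT
      apply autInduced_mem_Gam E hQN hnorm K hKle hKnorm hQR0
      rw [mem_autInducedBy_iff]
      refine ⟨g, hg, fun x => ?_⟩
      have h1 := eκ x
      have h2 := hge (Subgroup.inclusion hQR' x)
      rw [h1] at h2
      exact h2
  · -- `rq (a * β) ∈ Γ₀`
    set β' := a * β with hβ'def
    have hβ'mem : autHom (β' : MulAut R') ∈ E.Hom R' := (mem_autGroup_iff E hR'N _).mp β'.2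
    obtain ⟨ρ', hρ', hρ'e⟩ := hrec.2 R' (autHom (β' : MulAut R')) hβ'mem (autHom_range _)
    have hR'M : R' ≤ extender N R' (autHom (β' : MulAut R')) :=
      le_extender hR'N _ (fun x => hR'N ((β' : MulAut R') x).2)
    have hMN : extender N R' (autHom (β' : MulAut R')) ≤ N :=
      (extender_le_normalizerIn R' _).trans inf_le_left
    have hfinM : Finite (extender N R' (autHom (β' : MulAut R'))) := finite_of_le hMN
    have hrq : rq E hnorm hQR' hR'N β' = resQ E hnorm (hQR'.trans hR'M) hρ' := by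
      unfold rq
      apply resQ_eq_of
      intro x
      exact (hρ'e _ (hQR' x.2) (hR'M (hQR' x.2))).symm
    by_cases hlt : Nat.card R' < Nat.card (extender N R' (autHom (β' : MulAut R')))
    · rw [hrq]
      exact IH _ _ hMN hlt ρ' hρ'
    · have hMR' : R' = extender N R' (autHom (β' : MulAut R')) :=
        Subgroup.eq_of_le_of_card_ge hR'M (not_lt.mp hlt)
      have hR0R' : NKvia N Q.subtype K ≤ R' := by
        by_contra hnot
        have hHN : R' ⊔ NKvia N Q.subtype K ≤ N := sup_le hR'N (NKvia_le N _ K)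
        have hfinH : Finite ↥(R' ⊔ NKvia N Q.subtype K) := finite_of_le hHN
        have hHp : IsPGroup p ↥(R' ⊔ NKvia N Q.subtype K) := isPGroup_of_le hN hHN
        have hne : R' ≠ R' ⊔ NKvia N Q.subtype K := by
          intro h
          apply hnot
          rw [h]
          exact le_sup_right
        obtain ⟨g, hgN, hgR'⟩ := exists_mem_normalizerIn_not_mem
          (S := R' ⊔ NKvia N Q.subtype K) p hHp le_sup_left hne
        obtain ⟨hgH, hgnorm⟩ := Subgroup.mem_inf.mp hgN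
        have hR0norm : ∀ r ∈ R', ∀ b ∈ NKvia N Q.subtype K, r * b * r⁻¹ ∈ NKvia N Q.subtype K := by
          intro r hr b hb
          have hc : conjHom N r ∈ E.Hom N := E.conj_mem le_rfl (hR'N hr)
          exact map_mem_R0 E hQN hnorm K hKle hKnorm hQN hc ⟨b, NKvia_le N _ K hb⟩ hb
        obtain ⟨r, hr, r₀, hr₀, rfl⟩ := exists_mul_of_mem_sup hR0norm hgH
        apply hgR'
        apply R'.mul_mem hr
        have hr₀norm : r₀ ∈ Subgroup.normalizer (R' : Set Ω) := by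
          have : r₀ = r⁻¹ * (r * r₀) := by group
          rw [this]
          exact Subgroup.mul_mem _ (Subgroup.inv_mem _ (Subgroup.le_normalizer hr)) hgnorm
        have hr₀N : r₀ ∈ N := NKvia_le N _ K hr₀
        rw [hMR']
        apply Subgroup.subset_closure
        refine ⟨hr₀N, hr₀norm, ?_⟩
        -- the automorphism of `R'` induced by `r₀`
        have hrgT : R'.normalizerMonoidHom ⟨r₀, hr₀norm⟩ ∈ autInducedBy N R' := by
          rw [mem_autInducedBy_iff]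
          exact ⟨r₀, hr₀N, fun x => rfl⟩
        have hrgE : R'.normalizerMonoidHom ⟨r₀, hr₀norm⟩ ∈ E.autGroup R' :=
          autInducedBy_le_autGroup E hR'N hrgT
        have hrg1 : (⟨_, hrgE⟩ : E.autGroup R') ∈ (T : Subgroup (E.autGroup R')) := by
          rw [hT, Subgroup.mem_subgroupOf]
          exact hrgT
        have hrg2 : (⟨_, hrgE⟩ : E.autGroup R') ∈ Asub E K hQR' := by
          obtain ⟨-, κ, hκ, hκe⟩ := hr₀
          refine ⟨κ, hκ, fun x => ?_⟩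
          apply Subtype.ext
          exact (hκe x).symm
        have h3 := hconj _ ⟨hrg1, hrg2⟩
        rw [hT, Subgroup.mem_subgroupOf] at h3
        obtain ⟨h, hh, hhe⟩ := (mem_autInducedBy_iff N R' _).mp h3
        refine ⟨h, hh, fun x hx => ?_⟩
        have h4 := hhe ((β' : MulAut R') x)
        show (((β' : MulAut R') ⟨r₀ * (x : Ω) * r₀⁻¹, hx⟩ : R') : Ω) =
          h * (((β' : MulAut R') x : R') : Ω) * h⁻¹
        rw [← h4]
        show (((β' : MulAut R') ⟨r₀ * (x : Ω) * r₀⁻¹, hx⟩ : R') : Ω) =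
          (((β' : MulAut R') ((R'.normalizerMonoidHom ⟨r₀, hr₀norm⟩)
            ((β' : MulAut R')⁻¹ ((β' : MulAut R') x))) : R') : Ω)
        rw [MulAut.inv_apply_self]
        rfl
      have h5 := remark E hQN hnorm K hKle hKnorm hQR0 hR0R' hβ'mem
      exact h5


include hQN hnorm hKle hKnorm in
/-- the inductive step of the main claim -/
theorem claim_step [Finite N] (p : ℕ) [Fact p.Prime] (hN : IsPGroup p N) (hKp : IsPGroup p K)
    (hQR0 : Q ≤ NKvia N Q.subtype K)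
    (hK5 : K ≤ autInducedBy N Q ∨ centralizerIn N Q ≤ Q)
    (hsat : ∀ R, Q ≤ R → R ≤ N → R ≠ Q →
      ∃ R', E.IsConj R R' ∧ E.IsFullyAutomized p R' ∧ E.IsReceptive R')
    {R : Subgroup Ω} (hQR : Q ≤ R) (hRN : R ≤ N) (hRQ : R ≠ Q)
    (IH : ∀ (M : Subgroup Ω) (hQM : Q ≤ M), M ≤ N → Nat.card R < Nat.card M →
      ∀ (ψ : M →* Ω) (hψ : ψ ∈ E.Hom M), resQ E hnorm hQM hψ ∈ Gam E K hQR0)
    {ψ : R →* Ω} (hψ : ψ ∈ E.Hom R) : resQ E hnorm hQR hψ ∈ Gam E K hQR0 := by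
  by_cases hRN' : R = N
  · exact remark E hQN hnorm K hKle hKnorm hQR0 ((NKvia_le N _ K).trans hRN'.ge) hψ
  have hfinR : Finite R := finite_of_le hRN
  obtain ⟨ψs, hψs, hfa, hrec, hcard⟩ := pair1 p hN E hRN (hsat R hQR hRN hRQ) ⊤
  obtain ⟨χ₀, hχ₀, ρ₀, hρ₀, hρ₀e⟩ :=
    exists_extension_of_sylow p hN E hRN ⊤ hψs hrec hcard (subtype_mem E hRN)
  obtain ⟨χ₁, hχ₁, ρ₁, hρ₁, hρ₁e⟩ :=
    exists_extension_of_sylow p hN E hRN ⊤ hψs hrec hcard hψ
  -- the first extension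
  have hRD₀ : R ≤ R.subtype.range ⊔ NKvia N R.subtype ⊤ := by
    intro x hx
    exact Subgroup.mem_sup_left ⟨⟨x, hx⟩, rfl⟩
  have hD₀N : R.subtype.range ⊔ NKvia N R.subtype ⊤ ≤ N := (E.le_of_mem hρ₀).1
  have hcard₀ : Nat.card R < Nat.card ↥(R.subtype.range ⊔ NKvia N R.subtype ⊤) := by
    obtain ⟨g, hgN, hgR⟩ := exists_mem_normalizerIn_not_mem p hN hRN hRN'
    have hg : g ∈ R.subtype.range ⊔ NKvia N R.subtype ⊤ :=
      Subgroup.mem_sup_right (by rw [← normalizerIn_eq_NKvia]; exact hgN)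
    exact card_lt_of_lt hD₀N (lt_of_le_of_ne hRD₀ (fun h => hgR (h ▸ hg)))
  have h₀ := IH _ (hQR.trans hRD₀) hD₀N hcard₀ ρ₀ hρ₀
  -- the second extension
  have hψrN : ψ.range ≤ N := by
    rintro _ ⟨x, rfl⟩
    exact (E.le_of_mem hψ).2 x
  have hcardψ : Nat.card R = Nat.card ψ.range :=
    Nat.card_congr (MonoidHom.ofInjective (E.injective_of_mem hψ)).toEquiv
  have hψr_ne : ψ.range ≠ N := by
    intro h
    apply hRN'
    have hfinN : Finite N := inferInstance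
    apply Subgroup.eq_of_le_of_card_ge hRN
    rw [hcardψ, h]
  have hD₁N : ψ.range ⊔ NKvia N ψ ⊤ ≤ N := (E.le_of_mem hρ₁).1
  have hcard₁ : Nat.card R < Nat.card ↥(ψ.range ⊔ NKvia N ψ ⊤) := by
    obtain ⟨g, hgN, hgR⟩ := exists_mem_normalizerIn_not_mem p hN hψrN hψr_ne
    have hg : g ∈ ψ.range ⊔ NKvia N ψ ⊤ :=
      Subgroup.mem_sup_right (by rw [NKvia_top (E.injective_of_mem hψ)]; exact hgN)
    rw [hcardψ]
    exact card_lt_of_lt hD₁N (lt_of_le_of_ne le_sup_left (fun h => hgR (h ▸ hg)))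
  have hQψ : Q ≤ ψ.range := by
    intro x hx
    have h1 : x ∈ img ψ Q := (hnorm R ψ hψ hQR).symm ▸ hx
    rw [mem_img] at h1
    obtain ⟨y, -, rfl⟩ := h1
    exact ⟨y, rfl⟩
  have hQD₁ : Q ≤ ψ.range ⊔ NKvia N ψ ⊤ := hQψ.trans le_sup_left
  have h₁ := IH _ hQD₁ hD₁N hcard₁ ρ₁ hρ₁
  -- the automorphism `β` of `R' = ψs.range`
  have hR'N : ψs.range ≤ N := by
    rintro _ ⟨x, rfl⟩
    exact (E.le_of_mem hψs).2 x
  have hχ : χ₁ * χ₀⁻¹ ∈ E.autGroup R := Subgroup.mul_mem _ hχ₁.2 (Subgroup.inv_mem _ hχ₀.2)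
  have hβ := congr_mem_autGroup E hψs rfl hχ
  set e := isoOfHom ψs (E.injective_of_mem hψs) rfl with hedef
  have hρ₀Q : ∀ x : Q, ρ₀ (Subgroup.inclusion (hQR.trans hRD₀) x) =
      ψs (χ₀ (Subgroup.inclusion hQR x)) := by
    intro x
    have := hρ₀e (Subgroup.inclusion hQR x) (hRD₀ (hQR x.2))
    rw [← this]
    rfl
  have hQR' : Q ≤ ψs.range := by
    intro x hx
    have h1 : x ∈ img ρ₀ Q := (hnorm _ ρ₀ hρ₀ (hQR.trans hRD₀)).symm ▸ hx
    rw [mem_img] at h1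
    obtain ⟨y, hy, rfl⟩ := h1
    have h2 := hρ₀Q ⟨(y : Ω), hy⟩
    have h3 : Subgroup.inclusion (hQR.trans hRD₀) ⟨(y : Ω), hy⟩ = y := Subtype.ext rfl
    rw [h3] at h2
    rw [h2]
    exact ⟨_, rfl⟩
  have hcardR' : Nat.card R = Nat.card ψs.range :=
    Nat.card_congr (MonoidHom.ofInjective (E.injective_of_mem hψs)).toEquiv
  have hd := dagger E hQN hnorm K hKle hKnorm p hN hKp hQR0 hK5 hQR' hR'N hfa hrec
    (fun M hQM hMN hlt => IH M hQM hMN (hcardR' ▸ hlt)) ⟨_, hβ⟩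
  -- the relation between the restrictions
  have key : resQ E hnorm hQD₁ hρ₁ * resQ E hnorm hQR hψ =
      rq E hnorm hQR' hR'N ⟨_, hβ⟩ * resQ E hnorm (hQR.trans hRD₀) hρ₀ := by
    apply MulEquiv.ext
    intro x
    apply Subtype.ext
    rw [MulAut.mul_apply, MulAut.mul_apply, resQ_apply]
    have e1 : Subgroup.inclusion hQD₁ (resQ E hnorm hQR hψ x) =
        ⟨ψ (Subgroup.inclusion hQR x), hQD₁ (resQ_apply E hnorm hQR hψ x ▸
          (resQ E hnorm hQR hψ x).2)⟩ := by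
      apply Subtype.ext
      exact resQ_apply E hnorm hQR hψ x
    rw [e1, hρ₁e]
    have e2 : Subgroup.inclusion hQR' (resQ E hnorm (hQR.trans hRD₀) hρ₀ x) =
        e (χ₀ (Subgroup.inclusion hQR x)) := by
      apply Subtype.ext
      rw [Subgroup.coe_inclusion, resQ_apply, hρ₀Q]
      rfl
    have e3 := rq_apply E hnorm hQR' hR'N ⟨_, hβ⟩ (resQ E hnorm (hQR.trans hRD₀) hρ₀ x)
    have e4 := congrArg Subtype.val e3
    rw [Subgroup.coe_inclusion] at e4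
    rw [e4, e2]
    show ψs (χ₁ (Subgroup.inclusion hQR x)) =
      ((e ((χ₁ * χ₀⁻¹) (e.symm (e (χ₀ (Subgroup.inclusion hQR x))))) : ψs.range) : Ω)
    rw [MulEquiv.symm_apply_apply, MulAut.mul_apply, MulAut.inv_apply_self]
    rfl
  have hfin : resQ E hnorm hQR hψ = (resQ E hnorm hQD₁ hρ₁)⁻¹ *
      (rq E hnorm hQR' hR'N ⟨_, hβ⟩ * resQ E hnorm (hQR.trans hRD₀) hρ₀) := by
    rw [← key, inv_mul_cancel_left]
  rw [hfin]
  exact (Gam E K hQR0).mul_mem ((Gam E K hQR0).inv_mem h₁) ((Gam E K hQR0).mul_mem hd h₀)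

end ctx

end BCORE

theorem bcore {Ω : Type*} [Group Ω] {N : Subgroup Ω} [Finite N] (p : ℕ) [Fact p.Prime] (hN : IsPGroup p N)
    (E : FusionSystem N) {Q : Subgroup Ω} (hQN : Q ≤ N)
    (hnorm : ∀ (R : Subgroup Ω) (φ : R →* Ω), φ ∈ E.Hom R → Q ≤ R → img φ Q = Q)
    (hsat : ∀ R, Q ≤ R → R ≤ N → R ≠ Q →
      ∃ R', E.IsConj R R' ∧ E.IsFullyAutomized p R' ∧ E.IsReceptive R')
    (hgen : ∀ Γ' : Subgroup (MulAut Q),
      (∀ (R : Subgroup Ω) (hQR : Q ≤ R) (ψ : R →* Ω), R ≠ Q → ψ ∈ E.Hom R →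
        ∀ α : MulAut Q, IsRes hQR ψ α → α ∈ Γ') → E.autGroup Q ≤ Γ')
    (K : Subgroup (MulAut Q)) (hKle : K ≤ E.autGroup Q)
    (hKnorm : (K.subgroupOf (E.autGroup Q)).Normal) (hKp : IsPGroup p K)
    (hQR0 : Q ≤ NKvia N Q.subtype K) (hR0 : ¬ (NKvia N Q.subtype K ≤ Q))
    (hK5 : K ≤ autInducedBy N Q ∨ centralizerIn N Q ≤ Q) :
    ∀ α ∈ E.autGroup Q, α ∈ resSet E hQR0 := by
  have claim : ∀ (d : ℕ) (R : Subgroup Ω) (hQR : Q ≤ R), R ≤ N → R ≠ Q →
      Nat.card N - Nat.card R = d → ∀ (ψ : R →* Ω) (hψ : ψ ∈ E.Hom R),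
      BCORE.resQ E hnorm hQR hψ ∈ BCORE.Gam E K hQR0 := by
    intro d
    induction d using Nat.strong_induction_on with
    | _ d ih =>
      intro R hQR hRN hRQ hd ψ hψ
      apply BCORE.claim_step E hQN hnorm K hKle hKnorm p hN hKp hQR0 hK5 hsat hQR hRN hRQ ?_ hψ
      intro M hQM hMN hlt ψ' hψ'
      have hfinM : Finite M := finite_of_le hMN
      have hfinR : Finite R := finite_of_le hRN
      have hMQ : M ≠ Q := by
        intro h
        have h1 : Nat.card Q ≤ Nat.card R := Subgroup.card_le_of_le hQR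
        rw [h] at hlt
        omega
      have hMc : Nat.card M ≤ Nat.card N := Subgroup.card_le_of_le hMN
      exact ih (Nat.card N - Nat.card M) (by omega) M hQM hMN hMQ rfl ψ' hψ'
  intro α hα
  have h1 := hgen (BCORE.Gam E K hQR0) (fun R hQR ψ hRQ hψ α' hres => by
    have hRN : R ≤ N := (E.le_of_mem hψ).1
    have e : α' = BCORE.resQ E hnorm hQR hψ :=
      isRes_unique hQR ψ hres (resAutOf_isRes hQR ψ (E.injective_of_mem hψ) (hnorm R ψ hψ hQR))
    rw [e]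
    exact claim _ R hQR hRN hRQ rfl ψ hψ) hα
  exact h1

end Cfsg.Agent.Helper16.BC
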