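import Mathlib
import Cfsg.Agent.Helper16.S3161Defs
import Cfsg.Agent.Helper17.Suz2B

set_option autoImplicit false

/-! # S3161, piece FM: the field model of the line `C`. -/

namespace Cfsg.Agent.S3161P

open scoped commutatorElement

universe u

section P

variable {T : Type u} [Group T] [Finite T] {α ρ : MulAut T} {C : Subgroup T} {n : ℕ}

/-- `ρ` restricted to `C`. -/
noncomputable def FM_aux_rhoC (h : PData α ρ C n) : MulAut ↥C :=
  MulEquiv.ofBijective
    ({ toFun := fun c => ⟨ρ c.1, h.rho_mem c.2⟩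
       map_one' := by apply Subtype.ext; simp
       map_mul' := fun a b => by apply Subtype.ext; simp } : ↥C →* ↥C)
    (by
      have hinj : Function.Injective (fun c : ↥C => (⟨ρ c.1, h.rho_mem c.2⟩ : ↥C)) := by
        intro a b hab
        have := congrArg Subtype.val hab
        exact Subtype.ext (ρ.injective this)
      exact ⟨hinj, Finite.surjective_of_injective hinj⟩)

theorem FM_aux_rhoC_apply (h : PData α ρ C n) (c : ↥C) : ((FM_aux_rhoC h c : ↥C) : T) = ρ c.1 := rfl

theorem FM_aux_rhoC_pow (h : PData α ρ C n) (k : ℕ) (c : ↥C) :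
    ((((FM_aux_rhoC h) ^ k) c : ↥C) : T) = (ρ ^ k) c.1 := by
  induction k with
  | zero => simp
  | succ k ih =>
    rw [pow_succ', MulAut.mul_apply, FM_aux_rhoC_apply, ih, pow_succ', MulAut.mul_apply]

/-- FM: field model of the line `C`. -/
theorem FM (h : PData α ρ C n) (F : Type*) [Field F] [Fintype F] (hF : Fintype.card F = 2 ^ n) :
    ∃ (θ : T → F) (ζ : Fˣ), (∀ a ∈ C, ∀ b ∈ C, θ (a * b) = θ a + θ b) ∧
      (∀ f : F, ∃ c ∈ C, θ c = f) ∧ (∀ c ∈ C, θ c = 0 → c = 1) ∧
      (∀ c ∈ C, θ (ρ c) = ζ * θ c) ∧ (∀ w : Fˣ, ∃ k : ℕ, w = ζ ^ k) := by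
  classical
  set r : MulAut ↥C := FM_aux_rhoC h with hr
  set K : Subgroup (MulAut ↥C) := Subgroup.zpowers r with hKdef
  have hab : ∀ a b : ↥C, a * b = b * a := by
    intro a b
    apply Subtype.ext
    show a.1 * b.1 = b.1 * a.1
    exact h.comm_mul a.2 b.1
  have hK : ∀ a b : ↥K, a * b = b * a := by
    rintro ⟨a, ha⟩ ⟨b, hb⟩
    apply Subtype.ext
    obtain ⟨i, rfl⟩ := Subgroup.mem_zpowers_iff.mp ha
    obtain ⟨j, rfl⟩ := Subgroup.mem_zpowers_iff.mp hb
    show r ^ i * r ^ j = r ^ j * r ^ i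
    rw [← zpow_add, ← zpow_add, add_comm]
  have hsm : ∀ (k : ↥K) (a : ↥C), k • a = (k : MulAut ↥C) a := fun _ _ => rfl
  -- transitivity
  have hex : ∀ a b : ↥C, a ≠ 1 → b ≠ 1 → ∃ k : ↥K, k • a = b := by
    intro a b ha hb
    have ha' : (a : T) ≠ 1 := fun e => ha (Subtype.ext e)
    have hb' : (b : T) ≠ 1 := fun e => hb (Subtype.ext e)
    obtain ⟨j, hj⟩ := h.trans a.1 a.2 b.1 b.2 ha' hb'
    refine ⟨⟨r ^ j, Subgroup.pow_mem _ (Subgroup.mem_zpowers r) j⟩, ?_⟩
    apply Subtype.ext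
    rw [hsm]
    show (((r ^ j) a : ↥C) : T) = b.1
    rw [hr, FM_aux_rhoC_pow, hj]
  have hcard : Nat.card ↥C = 2 ^ n := h.card
  have hone : ∃ g₀ : ↥C, g₀ ≠ 1 := by
    have h2 : 1 < Nat.card ↥C := by
      rw [hcard]
      exact Nat.one_lt_two_pow (by have := h.two_le; omega)
    have : Nontrivial ↥C := (Finite.one_lt_card_iff_nontrivial).mp h2
    exact exists_ne 1
  obtain ⟨g₀, hg₀⟩ := hone
  have hreg : ∀ a b : ↥C, a ≠ 1 → b ≠ 1 → ∃! k : ↥K, k • a = b := by
    intro a b ha hb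
    obtain ⟨k, hk⟩ := hex a b ha hb
    refine ⟨k, hk, ?_⟩
    intro k' hk'
    -- m = k⁻¹ k' fixes a, hence everything
    have hfix : (k⁻¹ * k') • a = a := by
      rw [mul_smul, hk', ← hk, smul_smul, inv_mul_cancel, one_smul]
    have hall : ∀ c : ↥C, (k⁻¹ * k') • c = c := by
      intro c
      by_cases hc : c = 1
      · rw [hc, smul_one]
      · obtain ⟨k₃, hk₃⟩ := hex a c ha hc
        rw [← hk₃, smul_smul, hK, ← smul_smul, hfix]
    have hm1 : k⁻¹ * k' = 1 := by
      apply Subtype.ext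
      apply MulEquiv.ext
      intro c
      have := hall c
      rw [hsm] at this
      simpa using this
    have : k' = k := by
      have := congrArg (fun m => k * m) hm1
      simpa using this
    exact this
  have hF' : Fintype.card F = Nat.card ↥C := by rw [hF, hcard]
  obtain ⟨θ', lam, hθbij, hθadd, -, hlbij, hlmul, hθl⟩ :=
    Cfsg.Agent.Helper17.Suz2.exists_field_model_mul (K := ↥K) (G := ↥C) hab hK hreg g₀ hg₀ F hF'
  have hθ1 : θ' 1 = 0 := by
    have := hθadd 1 1
    rw [mul_one] at this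
    have h2 : θ' 1 + 0 = θ' 1 + θ' 1 := by rw [add_zero]; exact this
    exact (add_left_cancel h2).symm
  let rK : ↥K := ⟨r, Subgroup.mem_zpowers r⟩
  refine ⟨fun t => if ht : t ∈ C then θ' ⟨t, ht⟩ else 0, lam rK, ?_, ?_, ?_, ?_, ?_⟩
  · intro a ha b hb
    simp only [dif_pos ha, dif_pos hb, dif_pos (C.mul_mem ha hb)]
    exact hθadd ⟨a, ha⟩ ⟨b, hb⟩
  · intro f
    obtain ⟨c, hc⟩ := hθbij.2 f
    refine ⟨c.1, c.2, ?_⟩
    simp only [dif_pos c.2]
    exact hc
  · intro c hc h0
    simp only [dif_pos hc] at h0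
    have : (⟨c, hc⟩ : ↥C) = 1 := hθbij.1 (by rw [h0, hθ1])
    exact congrArg Subtype.val this
  · intro c hc
    simp only [dif_pos hc, dif_pos (h.rho_mem hc)]
    have := hθl rK ⟨c, hc⟩
    rw [← this]
    rfl
  · intro w
    obtain ⟨κ, hκ⟩ := hlbij.2 w
    obtain ⟨i, hi⟩ := Subgroup.mem_zpowers_iff.mp κ.2
    -- turn the integer power into a natural one
    have hfin : IsOfFinOrder r := isOfFinOrder_of_finite r
    have hpos : 0 < orderOf r := hfin.orderOf_pos
    set j : ℕ := (i % (orderOf r : ℤ)).toNat with hj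
    have hjz : (j : ℤ) = i % (orderOf r : ℤ) :=
      Int.toNat_of_nonneg (Int.emod_nonneg _ (by exact_mod_cast hpos.ne'))
    have hκj : κ = rK ^ j := by
      apply Subtype.ext
      show (κ : MulAut ↥C) = r ^ j
      rw [← hi, ← zpow_natCast, hjz, zpow_mod_orderOf]
    have hlpow : ∀ m : ℕ, lam (rK ^ m) = lam rK ^ m := by
      intro m
      induction m with
      | zero =>
        have h1 := hlmul 1 1
        rw [mul_one] at h1
        have : lam 1 = 1 := by
          have h2 : lam 1 * 1 = lam 1 * lam 1 := by rw [mul_one]; exact h1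
          exact (mul_left_cancel h2).symm
        simpa using this
      | succ m ih => rw [pow_succ, hlmul, ih, pow_succ]
    exact ⟨j, by rw [← hκ, hκj, hlpow]⟩

end P

end Cfsg.Agent.S3161P
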