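import Mathlib
import Cfsg.Agent.Helper16.S3161Defs
import Cfsg.Agent.Helper19.S3161QUOT

set_option autoImplicit false

/-! # S3161, piece LAYER: `N_comm`, `ee_surj`, `N_card` (corollaries of QUOT). -/

namespace Cfsg.Agent.S3161P

open scoped commutatorElement

universe u

section P

variable {T : Type u} [Group T] [Finite T] {α ρ : MulAut T} {C : Subgroup T} {n : ℕ}

/-- `ee α` as a homomorphism `N → C`. -/
def LAYER_aux_f (h : PData α ρ C n) : ↥h.N →* ↥C where
  toFun x := ⟨ee α x.1, x.2⟩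
  map_one' := by apply Subtype.ext; exact ee_one α
  map_mul' a b := by apply Subtype.ext; exact ee_mul_of_mem h a.2 b.1

theorem LAYER_aux_ker (h : PData α ρ C n) : (LAYER_aux_f h).ker = C.subgroupOf h.N := by
  ext x
  rw [MonoidHom.mem_ker, Subgroup.mem_subgroupOf, ← ee_eq_one_iff h]
  constructor
  · intro hx; exact congrArg Subtype.val hx
  · intro hx; exact Subtype.ext hx

theorem LAYER_aux_card_sub (h : PData α ρ C n) : Nat.card ↥(C.subgroupOf h.N) = 2 ^ n := by
  rw [Nat.card_congr (Subgroup.subgroupOfEquivOfLe (C_le_N h)).toEquiv]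
  exact h.card

/-- LAYER: `|N| = q²`. -/
theorem N_card (hT : IsPGroup 2 T) (h : PData α ρ C n) (hne : C ≠ ⊤) :
    Nat.card h.N = 2 ^ n * 2 ^ n := by
  have : C.Normal := h.normal
  obtain ⟨α', ρ', h', -, -⟩ := QUOT hT h hne
  set g : ↥h.N →* T ⧸ C := (QuotientGroup.mk' C).comp h.N.subtype with hg
  have hker : g.ker = C.subgroupOf h.N := by
    rw [hg, ← MonoidHom.comap_ker, QuotientGroup.ker_mk']
    rfl
  have hrange : g.range = h.N.map (QuotientGroup.mk' C) := by
    rw [hg, ← MonoidHom.map_range, Subgroup.range_subtype]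
  have h1 := Subgroup.card_mul_index g.ker
  rw [Subgroup.index_ker, hker, hrange, LAYER_aux_card_sub h, h'.card] at h1
  exact h1.symm

/-- LAYER: `ee α : N → C` is onto. -/
theorem ee_surj (hT : IsPGroup 2 T) (h : PData α ρ C n) (hne : C ≠ ⊤) :
    ∀ c ∈ C, ∃ x ∈ h.N, ee α x = c := by
  have hN := N_card hT h hne
  have h1 := Subgroup.card_mul_index (LAYER_aux_f h).ker
  rw [Subgroup.index_ker, LAYER_aux_ker h, LAYER_aux_card_sub h, hN] at h1
  have hpos : 0 < 2 ^ n := Nat.pos_of_ne_zero (by positivity)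
  have h2 : Nat.card ↥(LAYER_aux_f h).range = 2 ^ n := Nat.eq_of_mul_eq_mul_left hpos h1
  have h3 : (LAYER_aux_f h).range = ⊤ := by
    apply Subgroup.eq_top_of_card_eq
    rw [h2, h.card]
  have hs := MonoidHom.range_eq_top.mp h3
  intro c hc
  obtain ⟨x, hx⟩ := hs ⟨c, hc⟩
  exact ⟨x.1, x.2, congrArg Subtype.val hx⟩

/-- LAYER: `N / C` is central in `T / C`. -/
theorem N_comm (hT : IsPGroup 2 T) (h : PData α ρ C n) {x : T} (hx : x ∈ h.N) (y : T) :
    ⁅x, y⁆ ∈ C := by
  by_cases hne : C = ⊤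
  · rw [hne]; exact Subgroup.mem_top _
  have : C.Normal := h.normal
  obtain ⟨α', ρ', h', -, -⟩ := QUOT hT h hne
  have hmem : (QuotientGroup.mk' C) x ∈ h.N.map (QuotientGroup.mk' C) :=
    Subgroup.mem_map_of_mem _ hx
  have hc := h'.comm_mul hmem ((QuotientGroup.mk' C) y)
  rw [← QuotientGroup.eq_one_iff, commutatorElement_def]
  have e : ((x * y * x⁻¹ * y⁻¹ : T) : T ⧸ C) =
      (QuotientGroup.mk' C) x * (QuotientGroup.mk' C) y * ((QuotientGroup.mk' C) x)⁻¹ *
        ((QuotientGroup.mk' C) y)⁻¹ := by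
    simp
  rw [e, hc]
  group

end P

end Cfsg.Agent.S3161P
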