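import Mathlib
import Cfsg.Agent.Helper9.S4415Defs

/-! Board `s4415pieces`, row E2 (`exists_A`): the class `𝒜(R)` is nonempty (pure group theory). -/

set_option autoImplicit false

namespace Cfsg.Agent.S4415P

open Subgroup
open Cfsg.Agent.S4409P (Zc Fr Der IsV4 IsQ8 SpecialInt IsAb)

variable {S : Type*} [Group S]

/-- the subgroup `K ∪ xK` for `x` normalising `K` with `x² ∈ K`. -/
def E2_aux_ext (K : Subgroup S) (x : S) (hn : ∀ k ∈ K, x⁻¹ * k * x ∈ K) (hsq : x * x ∈ K) : Subgroup S where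
  carrier := {h | h ∈ K ∨ x⁻¹ * h ∈ K}
  one_mem' := Or.inl K.one_mem
  mul_mem' := by
    rintro g h (hg | hg) (hh | hh)
    · exact Or.inl (K.mul_mem hg hh)
    · right
      have : x⁻¹ * (g * h) = (x⁻¹ * g * x) * (x⁻¹ * h) := by group
      rw [this]
      exact K.mul_mem (hn g hg) hh
    · right
      have : x⁻¹ * (g * h) = (x⁻¹ * g) * h := by group
      rw [this]
      exact K.mul_mem hg hh
    · left
      have : g * h = (x * x) * (x⁻¹ * (x⁻¹ * g) * x) * (x⁻¹ * h) := by group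
      rw [this]
      exact K.mul_mem (K.mul_mem hsq (hn _ hg)) hh
  inv_mem' := by
    rintro g (hg | hg)
    · exact Or.inl (K.inv_mem hg)
    · right
      have : x⁻¹ * g⁻¹ = (x⁻¹ * (x⁻¹ * g)⁻¹ * x) * (x * x)⁻¹ := by group
      rw [this]
      exact K.mul_mem (hn _ (K.inv_mem hg)) (K.inv_mem hsq)

theorem E2_aux_mem_ext {K : Subgroup S} {x : S} (hn : ∀ k ∈ K, x⁻¹ * k * x ∈ K) (hsq : x * x ∈ K) {h : S}
    (hh : h ∈ K ⊔ zpowers x) : h ∈ K ∨ x⁻¹ * h ∈ K := by
  have hle : K ⊔ zpowers x ≤ E2_aux_ext K x hn hsq := by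
    apply sup_le
    · intro k hk
      exact Or.inl hk
    · rw [zpowers_le]
      right
      rw [inv_mul_cancel]
      exact K.one_mem
  exact hle hh

theorem E2_aux_card_ext [Finite S] {K : Subgroup S} {x : S} (hn : ∀ k ∈ K, x⁻¹ * k * x ∈ K) (hsq : x * x ∈ K) :
    Nat.card ↥(K ⊔ zpowers x) ≤ 2 * Nat.card ↥K := by
  classical
  have hsub : ((K ⊔ zpowers x : Subgroup S) : Set S) ⊆ (K : Set S) ∪ (fun k => x * k) '' (K : Set S) := by
    intro h hh
    rcases E2_aux_mem_ext hn hsq hh with h1 | h1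
    · exact Or.inl h1
    · right
      exact ⟨x⁻¹ * h, h1, by group⟩
  have h1 : Nat.card ↥(K ⊔ zpowers x) = ((K ⊔ zpowers x : Subgroup S) : Set S).ncard := by
    rw [← Nat.card_coe_set_eq]; rfl
  have h2 : Nat.card ↥K = (K : Set S).ncard := by
    rw [← Nat.card_coe_set_eq]; rfl
  rw [h1, h2]
  calc ((K ⊔ zpowers x : Subgroup S) : Set S).ncard
      ≤ ((K : Set S) ∪ (fun k => x * k) '' (K : Set S)).ncard := Set.ncard_le_ncard hsub (Set.toFinite _)
    _ ≤ (K : Set S).ncard + ((fun k => x * k) '' (K : Set S)).ncard := Set.ncard_union_le _ _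
    _ ≤ (K : Set S).ncard + (K : Set S).ncard := by
        apply Nat.add_le_add_left
        exact Set.ncard_image_le (Set.toFinite _)
    _ = 2 * (K : Set S).ncard := by ring

/-- a strict inclusion of finite subgroups at least doubles the order -/
theorem E2_aux_card_lt [Finite S] {K H : Subgroup S} (h : K < H) : 2 * Nat.card ↥K ≤ Nat.card ↥H := by
  obtain ⟨m, hm⟩ := Subgroup.card_dvd_of_le h.le
  have hpos : 0 < Nat.card ↥H := Nat.card_pos
  have hKpos : 0 < Nat.card ↥K := Nat.card_pos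
  rcases m with _ | _ | m
  · rw [hm] at hpos; simp at hpos
  · exfalso
    apply h.ne
    apply Subgroup.eq_of_le_of_card_ge h.le
    rw [hm]; simp
  · rw [hm]
    nlinarith


open Cfsg.Agent.S4409P (mem_Zc Zc_le)
open scoped commutatorElement

/-- the second centre of `R` (internal) -/
def E2_aux_Z2 (R : Subgroup S) : Subgroup S where
  carrier := {x | x ∈ R ∧ ∀ r ∈ R, ⁅x, r⁆ ∈ Zc R}
  one_mem' := ⟨R.one_mem, fun r _ => by rw [commutatorElement_one_left]; exact (Zc R).one_mem⟩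
  mul_mem' := by
    rintro x y ⟨hx, hx'⟩ ⟨hy, hy'⟩
    refine ⟨R.mul_mem hx hy, fun r hr => ?_⟩
    have h1 : ⁅x * y, r⁆ = x * ⁅y, r⁆ * x⁻¹ * ⁅x, r⁆ := by
      simp only [commutatorElement_def]; group
    have h2 : x * ⁅y, r⁆ * x⁻¹ = ⁅y, r⁆ := by
      have := (mem_Zc.mp (hy' r hr)).2 x hx
      rw [this]; group
    rw [h1, h2]
    exact (Zc R).mul_mem (hy' r hr) (hx' r hr)
  inv_mem' := by
    rintro x ⟨hx, hx'⟩
    refine ⟨R.inv_mem hx, fun r hr => ?_⟩
    have h1 : ⁅x⁻¹, r⁆ = x⁻¹ * (⁅x, r⁆)⁻¹ * x := by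
      simp only [commutatorElement_def]; group
    have h2 : x⁻¹ * (⁅x, r⁆)⁻¹ * x = (⁅x, r⁆)⁻¹ := by
      have := (mem_Zc.mp ((Zc R).inv_mem (hx' r hr))).2 x hx
      calc x⁻¹ * (⁅x, r⁆)⁻¹ * x = x⁻¹ * ((⁅x, r⁆)⁻¹ * x) := by group
        _ = x⁻¹ * (x * (⁅x, r⁆)⁻¹) := by rw [← this]
        _ = (⁅x, r⁆)⁻¹ := by group
    rw [h1, h2]
    exact (Zc R).inv_mem (hx' r hr)

theorem E2_aux_Zc_le_Z2 (R : Subgroup S) : Zc R ≤ E2_aux_Z2 R := by
  intro x hx
  refine ⟨Zc_le R hx, fun r hr => ?_⟩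
  have h := (mem_Zc.mp hx).2 r hr
  have : ⁅x, r⁆ = 1 := by
    rw [commutatorElement_eq_one_iff_mul_comm]
    exact h.symm
  rw [this]
  exact (Zc R).one_mem

/-- in a `2`-group `R ≠ Z(R)` the second centre is bigger than the centre -/
theorem E2_aux_Z2_ne [Finite S] {R : Subgroup S} (hR : IsPGroup 2 ↥R) (hne : R ≠ Zc R) :
    ∃ x ∈ E2_aux_Z2 R, x ∉ Zc R := by
  haveI : Fact (Nat.Prime 2) := ⟨Nat.prime_two⟩
  have hq : IsPGroup 2 (↥R ⧸ Subgroup.center ↥R) := hR.to_quotient _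
  haveI : Nontrivial (↥R ⧸ Subgroup.center ↥R) := by
    by_contra hcon
    rw [not_nontrivial_iff_subsingleton] at hcon
    apply hne
    apply le_antisymm _ (Zc_le R)
    intro x hx
    have h1 : (QuotientGroup.mk (⟨x, hx⟩ : ↥R) : ↥R ⧸ Subgroup.center ↥R) = 1 := Subsingleton.elim _ _
    rw [QuotientGroup.eq_one_iff] at h1
    rw [mem_Zc]
    refine ⟨hx, fun y hy => ?_⟩
    have := Subgroup.mem_center_iff.mp h1 ⟨y, hy⟩
    exact congrArg Subtype.val this
  haveI : Nontrivial (Subgroup.center (↥R ⧸ Subgroup.center ↥R)) := hq.center_nontrivial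
  obtain ⟨⟨xb, hxb⟩, hne1⟩ := exists_ne (1 : Subgroup.center (↥R ⧸ Subgroup.center ↥R))
  · obtain ⟨x, rfl⟩ := QuotientGroup.mk_surjective xb
    refine ⟨(x : S), ⟨x.2, fun r hr => ?_⟩, ?_⟩
    · have hc : ⁅x, (⟨r, hr⟩ : ↥R)⁆ ∈ Subgroup.center ↥R := by
        rw [← QuotientGroup.eq_one_iff]
        rw [commutatorElement_def, QuotientGroup.mk_mul, QuotientGroup.mk_mul, QuotientGroup.mk_mul,
          QuotientGroup.mk_inv, QuotientGroup.mk_inv]
        have := Subgroup.mem_center_iff.mp hxb (QuotientGroup.mk (⟨r, hr⟩ : ↥R))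
        rw [← this]; group
      rw [mem_Zc]
      refine ⟨?_, fun y hy => ?_⟩
      · exact (⁅x, (⟨r, hr⟩ : ↥R)⁆).2
      · have := Subgroup.mem_center_iff.mp hc ⟨y, hy⟩
        exact congrArg Subtype.val this
    · intro hxZ
      apply hne1
      apply Subtype.ext
      show (QuotientGroup.mk x : ↥R ⧸ Subgroup.center ↥R) = 1
      rw [QuotientGroup.eq_one_iff, Subgroup.mem_center_iff]
      intro y
      apply Subtype.ext
      exact (mem_Zc.mp hxZ).2 y y.2


/-- E2 : (pure group theory) `𝒜(R) ≠ ∅`. -/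
theorem exists_A [Finite S] (b : S) (B R : Subgroup S) (hb : zpowers b = B) (hB : Nat.card ↥B = 3) (hR : IsPGroup 2 ↥R)
    (hN : B ≤ normalizer (R : Set S)) (hZ : Nat.card ↥(Zc R) = 2) (hne : R ≠ Zc R)
    (hsmall : ∀ X : Subgroup S, X ≤ R → R ≤ normalizer (X : Set S) → B ≤ normalizer (X : Set S) →
      B ≤ centralizer (X : Set S) → Nat.card ↥X ≤ 2) :
    ∃ A : Subgroup S, InA B R A := by
  classical
  have hb3 : b ^ 3 = 1 := by
    have h3 : orderOf b = 3 := by rw [← Nat.card_zpowers, hb, hB]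
    rw [← h3]; exact pow_orderOf_eq_one b
  have hbB : b ∈ B := hb ▸ mem_zpowers b
  have hbR : b ∈ normalizer (R : Set S) := hN hbB
  have hconjR : ∀ x, x ∈ R ↔ b * x * b⁻¹ ∈ R := fun x => mem_normalizer_iff.mp hbR x
  have hconjR' : ∀ y ∈ R, b⁻¹ * y * b ∈ R := by
    intro y hy
    rw [hconjR]
    have : b * (b⁻¹ * y * b) * b⁻¹ = y := by group
    rwa [this]
  have hconjZ : ∀ x ∈ Zc R, b * x * b⁻¹ ∈ Zc R := by
    intro x hx
    rw [mem_Zc] at hx ⊢
    refine ⟨(hconjR x).mp hx.1, fun y hy => ?_⟩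
    have h1 := hx.2 _ (hconjR' y hy)
    calc y * (b * x * b⁻¹) = b * ((b⁻¹ * y * b) * x) * b⁻¹ := by group
      _ = b * (x * (b⁻¹ * y * b)) * b⁻¹ := by rw [h1]
      _ = b * x * b⁻¹ * y := by group
  have hcube : ∀ x : S, b * (b * (b * x * b⁻¹) * b⁻¹) * b⁻¹ = x := by
    intro x
    have h1 : b * (b * (b * x * b⁻¹) * b⁻¹) * b⁻¹ = (b * b * b) * x * (b * b * b)⁻¹ := by group
    have e : b * b * b = 1 := by rw [← hb3, pow_succ, pow_two]
    rw [h1, e]; group
  have hnorm_of : ∀ X : Subgroup S, (∀ x ∈ X, b * x * b⁻¹ ∈ X) → B ≤ normalizer (X : Set S) := by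
    intro X hX
    rw [← hb, zpowers_le, mem_normalizer_iff]
    intro x
    refine ⟨hX x, fun hx => ?_⟩
    have h1 := hX _ (hX _ hx)
    rwa [hcube] at h1
  have hcent_of : ∀ X : Subgroup S, (∀ x ∈ X, b * x = x * b) → B ≤ centralizer (X : Set S) := by
    intro X hX
    rw [← hb, zpowers_le, mem_centralizer_iff]
    intro x hx
    exact (hX x hx).symm
  -- the involution of `Z(R)`
  obtain ⟨z, hzZ, hz1, hzall⟩ : ∃ z ∈ Zc R, z ≠ 1 ∧ ∀ x ∈ Zc R, x = 1 ∨ x = z := by
    obtain ⟨⟨z, hz⟩, hz1, hzu⟩ := (Nat.card_eq_two_iff' (1 : ↥(Zc R))).mp hZ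
    refine ⟨z, hz, fun h => hz1 (Subtype.ext h), fun x hx => ?_⟩
    by_cases hx1 : x = 1
    · exact Or.inl hx1
    · right
      have := hzu ⟨x, hx⟩ (fun h => hx1 (congrArg Subtype.val h))
      exact congrArg Subtype.val this
  have hzz : z * z = 1 := by
    rcases hzall _ ((Zc R).mul_mem hzZ hzZ) with h | h
    · exact h
    · exfalso; apply hz1
      calc z = z * z * z⁻¹ := by group
        _ = z * z⁻¹ := by rw [h]
        _ = 1 := by group
  have hbz : b * z * b⁻¹ = z := by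
    rcases hzall _ (hconjZ z hzZ) with h | h
    · exfalso; apply hz1
      calc z = b⁻¹ * (b * z * b⁻¹) * b := by group
        _ = 1 := by rw [h]; group
    · exact h
  have hfix : ∀ y z' : S, z' ∈ Zc R → b * y * b⁻¹ = y * z' → z' = 1 := by
    intro y z' hz' hy
    rcases hzall z' hz' with h | h
    · exact h
    · exfalso
      rw [h] at hy
      have h2 : b * (y * z) * b⁻¹ = y := by
        calc b * (y * z) * b⁻¹ = (b * y * b⁻¹) * (b * z * b⁻¹) := by group
          _ = y * z * z := by rw [hy, hbz]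
          _ = y := by rw [mul_assoc, hzz, mul_one]
      have h3 := hcube y
      rw [hy, h2, hy] at h3
      apply hz1
      calc z = y⁻¹ * (y * z) := by group
        _ = y⁻¹ * y := by rw [h3]
        _ = 1 := by group
  -- the second centre
  have hZ2b : ∀ x ∈ E2_aux_Z2 R, b * x * b⁻¹ ∈ E2_aux_Z2 R := by
    rintro x ⟨hx, hx'⟩
    refine ⟨(hconjR x).mp hx, fun r hr => ?_⟩
    have h1 : ⁅b * x * b⁻¹, r⁆ = b * ⁅x, b⁻¹ * r * b⁆ * b⁻¹ := by
      simp only [commutatorElement_def]; group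
    rw [h1]
    exact hconjZ _ (hx' _ (hconjR' r hr))
  let 𝓕 : Set (Subgroup S) := {A | Zc R < A ∧ A ≤ E2_aux_Z2 R ∧ ∀ x ∈ A, b * x * b⁻¹ ∈ A}
  have h𝓕fin : 𝓕.Finite := Set.toFinite _
  have h𝓕ne : 𝓕.Nonempty := by
    refine ⟨E2_aux_Z2 R, ?_, le_rfl, hZ2b⟩
    obtain ⟨x, hx, hxZ⟩ := E2_aux_Z2_ne hR hne
    exact lt_of_le_of_ne (E2_aux_Zc_le_Z2 R) (fun h => hxZ (h ▸ hx))
  obtain ⟨A, ⟨hAZ, hAZ2, hAb⟩, hmin⟩ := h𝓕fin.exists_minimal h𝓕ne
  have hminA : ∀ A' : Subgroup S, Zc R < A' → A' ≤ A → (∀ x ∈ A', b * x * b⁻¹ ∈ A') → A' = A := by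
    intro A' h1 h2 h3
    exact le_antisymm h2 (hmin ⟨h1, h2.trans hAZ2, h3⟩ h2)
  have hAR : A ≤ R := fun x hx => (hAZ2 hx).1
  have hcomm : ∀ x ∈ A, ∀ r ∈ R, ⁅x, r⁆ ∈ Zc R := fun x hx => (hAZ2 hx).2
  have hRA : R ≤ normalizer (A : Set S) := by
    have key : ∀ r ∈ R, ∀ x ∈ A, r * x * r⁻¹ ∈ A := by
      intro r hr x hx
      have h1 : r * x * r⁻¹ = (⁅x, r⁆)⁻¹ * x := by
        simp only [commutatorElement_def]; group
      rw [h1]
      exact A.mul_mem (A.inv_mem (hAZ.le (hcomm x hx r hr))) hx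
    intro r hr
    rw [mem_normalizer_iff]
    intro x
    refine ⟨key r hr x, fun h => ?_⟩
    have := key r⁻¹ (R.inv_mem hr) _ h
    have e : r⁻¹ * (r * x * r⁻¹) * r⁻¹⁻¹ = x := by group
    rwa [e] at this
  have hcardZA : 4 ≤ Nat.card ↥A := by
    have := E2_aux_card_lt hAZ
    omega
  have hnotcent : ¬ (∀ x ∈ A, b * x = x * b) := by
    intro h
    have := hsmall A hAR hRA (hnorm_of A hAb) (hcent_of A h)
    omega
  -- squares of `A` lie in `Z(R)`
  have hsq : ∀ x ∈ A, x * x ∈ Zc R := by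
    let A₁ : Subgroup S :=
      { carrier := {x | x ∈ A ∧ x * x ∈ Zc R}
        one_mem' := ⟨A.one_mem, by rw [mul_one]; exact (Zc R).one_mem⟩
        mul_mem' := by
          rintro x y ⟨hx, hx'⟩ ⟨hy, hy'⟩
          refine ⟨A.mul_mem hx hy, ?_⟩
          have h1 : x * y * (x * y) = (x * x) * ⁅x⁻¹, y⁆ * (y * y) := by
            simp only [commutatorElement_def]; group
          rw [h1]
          exact (Zc R).mul_mem ((Zc R).mul_mem hx' (hcomm _ (A.inv_mem hx) _ (hAR hy))) hy'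
        inv_mem' := by
          rintro x ⟨hx, hx'⟩
          refine ⟨A.inv_mem hx, ?_⟩
          have h1 : x⁻¹ * x⁻¹ = (x * x)⁻¹ := by group
          rw [h1]
          exact (Zc R).inv_mem hx' }
    have hA₁A : A₁ ≤ A := fun x hx => hx.1
    have hA₁b : ∀ x ∈ A₁, b * x * b⁻¹ ∈ A₁ := by
      rintro x ⟨hx, hx'⟩
      refine ⟨hAb x hx, ?_⟩
      have h1 : b * x * b⁻¹ * (b * x * b⁻¹) = b * (x * x) * b⁻¹ := by group
      rw [h1]
      exact hconjZ _ hx'
    have hZA₁ : Zc R < A₁ := by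
      have hle : Zc R ≤ A₁ := fun x hx => ⟨hAZ.le hx, (Zc R).mul_mem hx hx⟩
      obtain ⟨a, haA, haZ⟩ := SetLike.exists_of_lt hAZ
      -- the least `j` with `a ^ 2 ^ j ∈ Z(R)`
      have hex : ∃ j : ℕ, a ^ 2 ^ j ∈ Zc R := by
        obtain ⟨k, hk⟩ := (IsPGroup.iff_orderOf.mp hR) ⟨a, hAR haA⟩
        refine ⟨k, ?_⟩
        have h1 : a ^ 2 ^ k = 1 := by
          have h2 : orderOf a = 2 ^ k := by
            rw [← hk]; exact (Subgroup.orderOf_mk a (hAR haA)).symm
          rw [← h2]; exact pow_orderOf_eq_one a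
        rw [h1]; exact (Zc R).one_mem
      have hj := Nat.find_spec hex
      have hjmin := fun m => Nat.find_min hex (m := m)
      set j := Nat.find hex with hjdef
      have hjpos : j ≠ 0 := by
        intro h0
        rw [h0] at hj
        simp at hj
        exact haZ hj
      obtain ⟨i, hi⟩ := Nat.exists_eq_succ_of_ne_zero hjpos
      have hi' : a ^ 2 ^ i ∉ Zc R := hjmin i (by omega)
      refine lt_of_le_of_ne hle (fun heq => hi' ?_)
      have hmem : a ^ 2 ^ i ∈ A₁ := by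
        refine ⟨A.pow_mem haA _, ?_⟩
        have h1 : a ^ 2 ^ i * a ^ 2 ^ i = a ^ 2 ^ j := by
          rw [hi, ← pow_add, pow_succ]; ring_nf
        rw [h1]; exact hj
      rw [heq]; exact hmem
    have hA₁eq := hminA A₁ hZA₁ hA₁A hA₁b
    intro x hx
    have : x ∈ A₁ := hA₁eq ▸ hx
    exact this.2
  -- elements of `R` commute with elements of `Z(R)`
  have hZcomm : ∀ r ∈ R, ∀ k ∈ Zc R, r⁻¹ * k * r = k := by
    intro r hr k hk
    have := (mem_Zc.mp hk).2 r hr
    calc r⁻¹ * k * r = r⁻¹ * (k * r) := by group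
      _ = r⁻¹ * (r * k) := by rw [this]
      _ = k := by group
  obtain ⟨a, haA, haZ⟩ := SetLike.exists_of_lt hAZ
  have haR := hAR haA
  set a₁ := b * a * b⁻¹ with ha₁
  set a₂ := b * a₁ * b⁻¹ with ha₂
  have ha₁A : a₁ ∈ A := hAb a haA
  have ha₂A : a₂ ∈ A := hAb a₁ ha₁A
  have hba₂ : b * a₂ * b⁻¹ = a := hcube a
  have ha₁Z : a₁ ∉ Zc R := by
    intro h
    apply haZ
    have := hconjZ _ (hconjZ _ h)
    rwa [hcube] at this
  -- conjugation by `b` maps a subgroup generated by `Z(R)` and some elements into itself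
  have hgen : ∀ (X : Subgroup S) (T : Set S), X = Zc R ⊔ closure T → (∀ t ∈ T, b * t * b⁻¹ ∈ X) →
      ∀ x ∈ X, b * x * b⁻¹ ∈ X := by
    intro X T hX hT
    have hle : X ≤ X.comap (MulAut.conj b).toMonoidHom := by
      conv_lhs => rw [hX]
      apply sup_le
      · intro x hx
        rw [mem_comap]
        show b * x * b⁻¹ ∈ X
        rw [hX]
        exact (le_sup_left : Zc R ≤ _) (hconjZ x hx)
      · rw [closure_le]
        intro t ht
        exact hT t ht
    intro x hx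
    exact hle hx
  set c := a * a₁ * a₂ with hc
  have hcA : c ∈ A := A.mul_mem (A.mul_mem haA ha₁A) ha₂A
  have hbc : b * c * b⁻¹ = c * ⁅(a₁ * a₂)⁻¹, a⁻¹⁆ := by
    have h1 : b * c * b⁻¹ = (b * a * b⁻¹) * (b * a₁ * b⁻¹) * (b * a₂ * b⁻¹) := by
      rw [hc]; group
    rw [h1, hba₂, ← ha₁, ← ha₂, hc]
    simp only [commutatorElement_def]; group
  have hz'Z : ⁅(a₁ * a₂)⁻¹, a⁻¹⁆ ∈ Zc R :=
    hcomm _ (A.inv_mem (A.mul_mem ha₁A ha₂A)) _ (R.inv_mem haR)
  by_cases hcZ : c ∈ Zc R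
  · -- `A = ⟨Z, a, a₁⟩`
    set A₃ := Zc R ⊔ zpowers a with hA₃
    have hA₃A : A₃ ≤ A := sup_le hAZ.le (by rw [zpowers_le]; exact haA)
    have haA₃ : a ∈ A₃ := (le_sup_right : zpowers a ≤ _) (mem_zpowers a)
    have hZA₃ : Zc R < A₃ := lt_of_le_of_ne le_sup_left (fun h => haZ (h ▸ haA₃))
    have hn₃ : ∀ k ∈ Zc R, a⁻¹ * k * a ∈ Zc R := fun k hk => by rw [hZcomm a haR k hk]; exact hk
    by_cases ha₁A₃ : a₁ ∈ A₃
    · exfalso
      have hA₃b : ∀ x ∈ A₃, b * x * b⁻¹ ∈ A₃ := by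
        apply hgen A₃ {a}
        · rw [hA₃, zpowers_eq_closure]
        · intro t ht
          rw [Set.mem_singleton_iff] at ht
          rw [ht]; exact ha₁A₃
      have hA₃eq := hminA A₃ hZA₃ hA₃A hA₃b
      rcases E2_aux_mem_ext hn₃ (hsq a haA) ha₁A₃ with h | h
      · exact ha₁Z h
      · have h1 : b * a * b⁻¹ = a * (a⁻¹ * a₁) := by rw [ha₁]; group
        have h2 := hfix a _ h h1
        have hba : b * a = a * b := by
          have : a₁ = a := by
            calc a₁ = a * (a⁻¹ * a₁) := by group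
              _ = a := by rw [h2, mul_one]
          calc b * a = (b * a * b⁻¹) * b := by group
            _ = a * b := by rw [← ha₁, this]
        apply hnotcent
        have hle : A ≤ centralizer ({b} : Set S) := by
          rw [← hA₃eq, hA₃]
          apply sup_le
          · intro x hx
            rw [mem_centralizer_iff]
            intro y hy
            rw [Set.mem_singleton_iff] at hy
            rw [hy]
            rcases hzall x hx with hx1 | hx1
            · rw [hx1]; simp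
            · rw [hx1]
              calc b * z = (b * z * b⁻¹) * b := by group
                _ = z * b := by rw [hbz]
          · rw [zpowers_le, mem_centralizer_iff]
            intro y hy
            rw [Set.mem_singleton_iff] at hy
            rw [hy]; exact hba
        intro x hx
        have := mem_centralizer_iff.mp (hle hx) b (Set.mem_singleton b)
        exact this
    · -- `|A| = 8`
      set A' := A₃ ⊔ zpowers a₁ with hA'
      have hA'A : A' ≤ A := sup_le hA₃A (by rw [zpowers_le]; exact ha₁A)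
      have hA₃A' : A₃ < A' := lt_of_le_of_ne le_sup_left
        (fun h => ha₁A₃ (h ▸ (le_sup_right : zpowers a₁ ≤ A') (mem_zpowers a₁)))
      have hA'b : ∀ x ∈ A', b * x * b⁻¹ ∈ A' := by
        apply hgen A' {a, a₁}
        · rw [hA', hA₃, sup_assoc, zpowers_eq_closure, zpowers_eq_closure, ← Subgroup.closure_union]
          congr 2
        · intro t ht
          rcases ht with ht | ht
          · rw [ht]
            exact (le_sup_right : zpowers a₁ ≤ A') (mem_zpowers a₁)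
          · rw [Set.mem_singleton_iff] at ht
            rw [ht]
            have h1 : b * a₁ * b⁻¹ = a₁⁻¹ * (a⁻¹ * c) := by rw [hc, ← ha₂]; group
            rw [h1]
            refine A'.mul_mem (A'.inv_mem ((le_sup_right : zpowers a₁ ≤ A') (mem_zpowers a₁))) ?_
            refine A'.mul_mem (A'.inv_mem (hA₃A'.le haA₃)) ?_
            exact hA₃A'.le ((le_sup_left : Zc R ≤ A₃) hcZ)
      have hA'eq := hminA A' (hZA₃.trans hA₃A') hA'A hA'b
      have hn' : ∀ k ∈ A₃, a₁⁻¹ * k * a₁ ∈ A₃ := by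
        intro k hk
        have h1 : a₁⁻¹ * k * a₁ = k * ⁅k⁻¹, a₁⁻¹⁆ := by
          simp only [commutatorElement_def]; group
        rw [h1]
        refine A₃.mul_mem hk ((le_sup_left : Zc R ≤ A₃) ?_)
        exact hcomm _ (A.inv_mem (hA₃A hk)) _ (R.inv_mem (hAR ha₁A))
      have hsq' : a₁ * a₁ ∈ A₃ := (le_sup_left : Zc R ≤ A₃) (hsq a₁ ha₁A)
      have c1 : Nat.card ↥A₃ ≤ 2 * Nat.card ↥(Zc R) := E2_aux_card_ext hn₃ (hsq a haA)
      have c2 : Nat.card ↥A' ≤ 2 * Nat.card ↥A₃ := E2_aux_card_ext hn' hsq'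
      have c3 := E2_aux_card_lt hZA₃
      have c4 := E2_aux_card_lt hA₃A'
      have hcard : Nat.card ↥A = 8 := by
        rw [← hA'eq]; omega
      refine ⟨A, hAR, hAZ.le, hcard, hnorm_of A hAb, ?_, ?_⟩
      · rw [Subgroup.commutator_le]
        exact fun x hx r hr => hcomm x hx r hr
      · intro hcen
        have := hsmall A hAR hRA (hnorm_of A hAb) hcen
        omega
  · -- `c ∉ Z(R)`: `A = ⟨Z, c⟩` is centralised by `B`
    exfalso
    set A'' := Zc R ⊔ zpowers c with hA''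
    have hcA'' : c ∈ A'' := (le_sup_right : zpowers c ≤ _) (mem_zpowers c)
    have hA''A : A'' ≤ A := sup_le hAZ.le (by rw [zpowers_le]; exact hcA)
    have hZA'' : Zc R < A'' := lt_of_le_of_ne le_sup_left (fun h => hcZ (h ▸ hcA''))
    have hA''b : ∀ x ∈ A'', b * x * b⁻¹ ∈ A'' := by
      apply hgen A'' {c}
      · rw [hA'', zpowers_eq_closure]
      · intro t ht
        rw [Set.mem_singleton_iff] at ht
        rw [ht, hbc]
        exact A''.mul_mem hcA'' ((le_sup_left : Zc R ≤ A'') hz'Z)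
    have hA''eq := hminA A'' hZA'' hA''A hA''b
    have h2 := hfix c _ hz'Z hbc
    have hbc' : b * c = c * b := by
      calc b * c = (b * c * b⁻¹) * b := by group
        _ = c * b := by rw [hbc, h2, mul_one]
    apply hnotcent
    have hle : A ≤ centralizer ({b} : Set S) := by
      rw [← hA''eq, hA'']
      apply sup_le
      · intro x hx
        rw [mem_centralizer_iff]
        intro y hy
        rw [Set.mem_singleton_iff] at hy
        rw [hy]
        rcases hzall x hx with hx1 | hx1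
        · rw [hx1]; simp
        · rw [hx1]
          calc b * z = (b * z * b⁻¹) * b := by group
            _ = z * b := by rw [hbz]
      · rw [zpowers_le, mem_centralizer_iff]
        intro y hy
        rw [Set.mem_singleton_iff] at hy
        rw [hy]; exact hbc'
    intro x hx
    exact mem_centralizer_iff.mp (hle hx) b (Set.mem_singleton b)

end Cfsg.Agent.S4415P
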