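import Mathlib
import Cfsg.Prelude.Def_GeometricClasses
import Cfsg.Agent.Helper18.S5707.Defs
import Cfsg.Agent.Helper20.S5707TENS
import Cfsg.Agent.Helper19.S5707PERM

/-!
S5707 piece NF: normal form `tensM gs * permM σ` of the elements of the standard tensor-wreath group.
-/

set_option autoImplicit false

namespace Cfsg.Agent.S5707P

open Matrix

variable {F : Type*} [Field F] {k t : ℕ}

/-- the normal-form predicate -/
def NF.IsNF (g : GL (X k t) F) : Prop :=
  ∃ (gs : Fin t → GL (Fin k) F) (σ : Equiv.Perm (Fin t)),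
    (g : Matrix (X k t) (X k t) F) =
      tensM (fun i => ((gs i : GL (Fin k) F) : Matrix (Fin k) (Fin k) F)) * permM k σ

theorem NF.isNF_one : NF.IsNF (1 : GL (X k t) F) := by
  refine ⟨fun _ => 1, 1, ?_⟩
  simp only [Units.val_one]
  rw [TENS.tensM_one, PERM.permM_one, Matrix.one_mul]

theorem NF.isNF_mul (g h : GL (X k t) F) (hg : NF.IsNF g) (hh : NF.IsNF h) : NF.IsNF (g * h) := by
  obtain ⟨A, σ, hA⟩ := hg
  obtain ⟨B, τ, hB⟩ := hh
  refine ⟨fun i => A i * B (σ⁻¹ i), σ * τ, ?_⟩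
  rw [Units.val_mul, hA, hB]
  rw [Matrix.mul_assoc, ← Matrix.mul_assoc (permM k σ), PERM.permM_mul_tensM, Matrix.mul_assoc,
    PERM.permM_mul, ← Matrix.mul_assoc, TENS.tensM_mul]
  simp only [Units.val_mul]

theorem NF.isNF_inv (g : GL (X k t) F) (hg : NF.IsNF g) : NF.IsNF g⁻¹ := by
  obtain ⟨A, σ, hA⟩ := hg
  refine ⟨fun i => (A (σ i))⁻¹, σ⁻¹, ?_⟩
  rw [Matrix.coe_units_inv]
  apply Matrix.inv_eq_left_inv
  rw [hA, Matrix.mul_assoc, ← Matrix.mul_assoc (permM k σ⁻¹), PERM.permM_mul_tensM, Matrix.mul_assoc,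
    PERM.permM_mul, ← Matrix.mul_assoc, TENS.tensM_mul]
  simp only [inv_inv, inv_mul_cancel]
  have : (fun i : Fin t => (((A (σ i))⁻¹ : GL (Fin k) F) : Matrix (Fin k) (Fin k) F) *
      ((A (σ i) : GL (Fin k) F) : Matrix (Fin k) (Fin k) F)) = fun _ => 1 := by
    funext i
    rw [← Units.val_mul, inv_mul_cancel, Units.val_one]
  rw [this, TENS.tensM_one, PERM.permM_one, Matrix.one_mul]

/-- piece NF (M-L): normal form of the elements of the standard tensor-wreath group
(`Subgroup.closure_induction`; uses TENS, PERM). -/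
theorem NF.exists_nf (g : GL (X k t) F) (hg : g ∈ Cfsg.Geo.tensorWreathStandard k t F) :
    ∃ (gs : Fin t → GL (Fin k) F) (σ : Equiv.Perm (Fin t)),
      (g : Matrix (X k t) (X k t) F) =
        tensM (fun i => ((gs i : GL (Fin k) F) : Matrix (Fin k) (Fin k) F)) * permM k σ := by
  change NF.IsNF g
  unfold Cfsg.Geo.tensorWreathStandard at hg
  induction hg using Subgroup.closure_induction with
  | mem x hx =>
    rcases hx with ⟨gs, hgs⟩ | ⟨σ, hσ⟩
    · refine ⟨gs, 1, ?_⟩
      rw [PERM.permM_one, Matrix.mul_one]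
      ext x y
      rw [hgs x y]
      rfl
    · refine ⟨fun _ => 1, σ, ?_⟩
      simp only [Units.val_one]
      rw [TENS.tensM_one, Matrix.one_mul]
      ext x y
      rw [hσ x y]
      rfl
  | one => exact NF.isNF_one
  | mul x y _ _ hx hy => exact NF.isNF_mul x y hx hy
  | inv x _ hx => exact NF.isNF_inv x hx

end Cfsg.Agent.S5707P
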