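import Mathlib
import Cfsg.Prelude.Def_GeometricClasses
import Cfsg.Agent.Helper18.S5707.Defs
import Cfsg.Agent.Helper20.S5707TENS
import Cfsg.Agent.Helper19.S5707PERM

/-!
S5707 piece NORMSTD: an element in normal form whose local factors normalise `L` normalises `calV L`.
-/

set_option autoImplicit false

namespace Cfsg.Agent.S5707P

open Matrix

variable {F : Type*} [Field F] {k t : ℕ}

/-- `permM σ * loc i A = loc (σ i) A * permM σ` -/
theorem NORMSTD.permM_mul_loc (σ : Equiv.Perm (Fin t)) (i : Fin t) (A : Matrix (Fin k) (Fin k) F) :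
    (permM k σ : Matrix (X k t) (X k t) F) * loc i A = loc (σ i) A * permM k σ := by
  unfold loc
  rw [PERM.permM_mul_tensM]
  congr 2
  funext j
  unfold upd1
  by_cases h : j = σ i
  · subst h
    simp
  · have h' : σ⁻¹ j ≠ i := by
      intro h2
      apply h
      rw [← h2]
      simp
    rw [Function.update_of_ne h, Function.update_of_ne h']

/-- `tensM gs * loc i A = loc i (gs i * A * (gs i)⁻¹) * tensM gs` -/
theorem NORMSTD.tensM_mul_loc (gs : Fin t → GL (Fin k) F) (i : Fin t) (A : Matrix (Fin k) (Fin k) F) :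
    tensM (fun j => ((gs j : GL (Fin k) F) : Matrix (Fin k) (Fin k) F)) * loc i A =
      loc i (((gs i : GL (Fin k) F) : Matrix (Fin k) (Fin k) F) * A *
        (((gs i)⁻¹ : GL (Fin k) F) : Matrix (Fin k) (Fin k) F)) *
        tensM (fun j => ((gs j : GL (Fin k) F) : Matrix (Fin k) (Fin k) F)) := by
  unfold loc
  rw [TENS.tensM_mul, TENS.tensM_mul]
  congr 1
  funext j
  unfold upd1
  by_cases h : j = i
  · subst h
    simp only [Function.update_self]
    rw [Matrix.mul_assoc, ← Units.val_mul, inv_mul_cancel, Units.val_one, Matrix.mul_one]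
  · rw [Function.update_of_ne h, Function.update_of_ne h, Matrix.mul_one, Matrix.one_mul]

/-- the key commutation relation for an element in normal form -/
theorem NORMSTD.nf_mul_loc (gs : Fin t → GL (Fin k) F) (σ : Equiv.Perm (Fin t)) (i : Fin t)
    (A : Matrix (Fin k) (Fin k) F) :
    (tensM (fun j => ((gs j : GL (Fin k) F) : Matrix (Fin k) (Fin k) F)) * permM k σ) * loc i A =
      loc (σ i) (((gs (σ i) : GL (Fin k) F) : Matrix (Fin k) (Fin k) F) * A *
        (((gs (σ i))⁻¹ : GL (Fin k) F) : Matrix (Fin k) (Fin k) F)) *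
        (tensM (fun j => ((gs j : GL (Fin k) F) : Matrix (Fin k) (Fin k) F)) * permM k σ) := by
  rw [Matrix.mul_assoc, NORMSTD.permM_mul_loc, ← Matrix.mul_assoc, NORMSTD.tensM_mul_loc, Matrix.mul_assoc]

/-- conjugation by an invertible matrix maps `calV L` into itself as soon as it does so on generators -/
theorem NORMSTD.conj_mem (L : Submodule F (Matrix (Fin k) (Fin k) F))
    (a b : Matrix (X k t) (X k t) F)
    (h : ∀ (i : Fin t) (A : Matrix (Fin k) (Fin k) F), A ∈ L → a * loc i A * b ∈ calV (t := t) L)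
    (M : Matrix (X k t) (X k t) F) (hM : M ∈ calV (t := t) L) : a * M * b ∈ calV (t := t) L := by
  unfold calV at hM
  induction hM using Submodule.span_induction with
  | mem x hx =>
    obtain ⟨i, A, hA, rfl⟩ := hx
    exact h i A hA
  | zero =>
    rw [Matrix.mul_zero, Matrix.zero_mul]
    exact Submodule.zero_mem _
  | add x y _ _ hx hy =>
    rw [Matrix.mul_add, Matrix.add_mul]
    exact Submodule.add_mem _ hx hy
  | smul c x _ hx =>
    rw [Matrix.mul_smul, Matrix.smul_mul]
    exact Submodule.smul_mem _ c hx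

theorem NORMSTD.loc_mem (L : Submodule F (Matrix (Fin k) (Fin k) F)) (i : Fin t)
    (A : Matrix (Fin k) (Fin k) F) (hA : A ∈ L) : loc i A ∈ calV (t := t) L :=
  Submodule.subset_span ⟨i, A, hA, rfl⟩

/-- piece NORMSTD (M): an element in normal form whose local factors normalise `L` normalises `calV L`
(`permM σ * loc i A = loc (σ i) A * permM σ`, `tensM gs * loc i A = loc i (gs i * A * (gs i)⁻¹) * tensM gs`;
uses TENS, PERM). -/
theorem NORMSTD.mem_normV (L : Submodule F (Matrix (Fin k) (Fin k) F)) (g : GL (X k t) F)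
    (gs : Fin t → GL (Fin k) F) (σ : Equiv.Perm (Fin t))
    (hg : (g : Matrix (X k t) (X k t) F) =
      tensM (fun i => ((gs i : GL (Fin k) F) : Matrix (Fin k) (Fin k) F)) * permM k σ)
    (hL : ∀ i, ∀ A ∈ L,
      ((gs i : GL (Fin k) F) : Matrix (Fin k) (Fin k) F) * A *
        (((gs i)⁻¹ : GL (Fin k) F) : Matrix (Fin k) (Fin k) F) ∈ L ∧
      (((gs i)⁻¹ : GL (Fin k) F) : Matrix (Fin k) (Fin k) F) * A *
        ((gs i : GL (Fin k) F) : Matrix (Fin k) (Fin k) F) ∈ L) :
    g ∈ normV (t := t) L := by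
  have hgi : (g : Matrix (X k t) (X k t) F) * ((g⁻¹ : GL (X k t) F) : Matrix (X k t) (X k t) F) = 1 := by
    rw [← Units.val_mul, mul_inv_cancel, Units.val_one]
  have hig : ((g⁻¹ : GL (X k t) F) : Matrix (X k t) (X k t) F) * (g : Matrix (X k t) (X k t) F) = 1 := by
    rw [← Units.val_mul, inv_mul_cancel, Units.val_one]
  -- forward conjugation on generators
  have h1 : ∀ (i : Fin t) (A : Matrix (Fin k) (Fin k) F), A ∈ L →
      (g : Matrix (X k t) (X k t) F) * loc i A * ((g⁻¹ : GL (X k t) F) : Matrix (X k t) (X k t) F) ∈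
        calV (t := t) L := by
    intro i A hA
    rw [hg, NORMSTD.nf_mul_loc, ← hg, Matrix.mul_assoc, hgi, Matrix.mul_one]
    exact NORMSTD.loc_mem L _ _ (hL (σ i) A hA).1
  -- backward conjugation on generators
  have h2 : ∀ (i : Fin t) (A : Matrix (Fin k) (Fin k) F), A ∈ L →
      ((g⁻¹ : GL (X k t) F) : Matrix (X k t) (X k t) F) * loc i A * (g : Matrix (X k t) (X k t) F) ∈
        calV (t := t) L := by
    intro i A hA
    have hA' := (hL i A hA).2
    have key := NORMSTD.nf_mul_loc gs σ (σ⁻¹ i)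
      ((((gs i)⁻¹ : GL (Fin k) F) : Matrix (Fin k) (Fin k) F) * A *
        ((gs i : GL (Fin k) F) : Matrix (Fin k) (Fin k) F))
    have hσ : σ (σ⁻¹ i) = i := by simp
    rw [hσ, ← hg] at key
    have hAA : ((gs i : GL (Fin k) F) : Matrix (Fin k) (Fin k) F) *
        ((((gs i)⁻¹ : GL (Fin k) F) : Matrix (Fin k) (Fin k) F) * A *
          ((gs i : GL (Fin k) F) : Matrix (Fin k) (Fin k) F)) *
        (((gs i)⁻¹ : GL (Fin k) F) : Matrix (Fin k) (Fin k) F) = A := by
      rw [Matrix.mul_assoc, Matrix.mul_assoc, ← Units.val_mul, mul_inv_cancel, Units.val_one, Matrix.mul_one,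
        ← Matrix.mul_assoc, ← Units.val_mul, mul_inv_cancel, Units.val_one, Matrix.one_mul]
    rw [hAA] at key
    rw [Matrix.mul_assoc, ← key, ← Matrix.mul_assoc, hig, Matrix.one_mul]
    exact NORMSTD.loc_mem L _ _ hA'
  intro M
  constructor
  · intro hM
    have := NORMSTD.conj_mem L _ _ h2 _ hM
    have e : ((g⁻¹ : GL (X k t) F) : Matrix (X k t) (X k t) F) *
        ((g : Matrix (X k t) (X k t) F) * M * ((g⁻¹ : GL (X k t) F) : Matrix (X k t) (X k t) F)) *
        (g : Matrix (X k t) (X k t) F) = M := by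
      rw [Matrix.mul_assoc, Matrix.mul_assoc, hig, Matrix.mul_one, ← Matrix.mul_assoc, hig, Matrix.one_mul]
    rw [e] at this
    exact this
  · intro hM
    exact NORMSTD.conj_mem L _ _ h1 _ hM

end Cfsg.Agent.S5707P
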