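import Mathlib
import Cfsg.Prelude.Def_GeometricClasses
import Cfsg.Prelude.Def_Classical
import Cfsg.Prelude.Def_LieClassical
import Cfsg.Agent.Helper6.S5992Defs

/-! S5992 piece ALTTRICK (driver helper6): the alternating form `A(u,v) = B(yu,v) - B(u,yv)` of an
isometry `y` of odd order; on an invariant subspace without fixed points `A` and `B` have the same
nondegeneracy / orthogonality. -/

set_option autoImplicit false
open scoped MatrixGroups

namespace Cfsg.Agent.S5992P

open Cfsg.Agent.Helper2.SympInvol Cfsg.Agent.Helper2.SympUnits Cfsg.Agent.S5961P Cfsg.Agent.S2614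
  Cfsg.Agent.S5955P

/-- ALTTRICK -/
theorem altOf_props {F V : Type*} [Field F] [AddCommGroup V] [Module F V] [FiniteDimensional F V]
    (h2 : (2 : F) ≠ 0) (Q : QuadraticForm F V) (y : Module.End F V) (r : ℕ) (hr : Odd r)
    (hY : IsYO Q y r) :
    (∀ v, altOf Q y v v = 0) ∧ (∀ u v, altOf Q y (y u) (y v) = altOf Q y u v) ∧
    ∀ M : Submodule F V, M.map y ≤ M → M ⊓ LinearMap.ker (y - 1) = ⊥ →
      (Nondeg (altOf Q y) M ↔ Nondeg (PB Q) M) ∧
      (∀ M' : Submodule F V, Orth (altOf Q y) M M' ↔ Orth (PB Q) M M') ∧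
      ((∀ u ∈ M, ∀ v ∈ M, altOf Q y u v = 0) → TS Q M) := by
  obtain ⟨k, hk⟩ := hr
  have hisom : ∀ u v, PB Q (y u) (y v) = PB Q u v := PB_isom Q hY.isom
  -- the inverse
  set y' : Module.End F V := y ^ (r - 1) with hy'
  have hyy' : y * y' = 1 := by
    rw [hy', ← pow_succ', Nat.sub_add_cancel (by omega), hY.pow]
  have hyy'v : ∀ v, y (y' v) = v := by
    intro v
    rw [← Module.End.mul_apply, hyy', Module.End.one_apply]
  have hadj : ∀ u v, PB Q u (y v) = PB Q (y' u) v := by
    intro u v
    rw [← hisom (y' u) v, hyy'v]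
  set T : Module.End F V := y - y' with hT
  have hA : ∀ u v, altOf Q y u v = PB Q (T u) v := by
    intro u v
    rw [altOf_apply, hadj, hT, LinearMap.sub_apply, map_sub, LinearMap.sub_apply]
  refine ⟨?_, ?_, ?_⟩
  · intro v
    rw [altOf_apply, PB_comm Q (y v) v, sub_self]
  · intro u v
    rw [altOf_apply, altOf_apply, hisom, hisom]
  · intro M hM hfix
    have hMy : ∀ v ∈ M, y v ∈ M := fun v hv => hM ⟨v, hv, rfl⟩
    have hMpow : ∀ j : ℕ, ∀ v ∈ M, (y ^ j) v ∈ M := by
      intro j
      induction j with
      | zero => intro v hv; simpa using hv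
      | succ j ih =>
        intro v hv
        rw [pow_succ', Module.End.mul_apply]
        exact hMy _ (ih v hv)
    have hTM : ∀ u ∈ M, T u ∈ M := by
      intro u hu
      rw [hT, LinearMap.sub_apply]
      exact M.sub_mem (hMy u hu) (hMpow _ u hu)
    have hTinj : ∀ u ∈ M, T u = 0 → u = 0 := by
      intro u hu h0
      rw [hT, LinearMap.sub_apply, sub_eq_zero] at h0
      -- `y² u = u`
      have hsq : (y ^ 2) u = u := by
        rw [pow_two, Module.End.mul_apply, h0, hyy'v]
      have hev : ∀ j : ℕ, (y ^ (2 * j)) u = u := by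
        intro j
        induction j with
        | zero => simp
        | succ j ih =>
          rw [Nat.mul_succ, pow_add, Module.End.mul_apply, hsq, ih]
      have h1 : (y ^ r) u = y u := by
        rw [hk, pow_succ', Module.End.mul_apply, hev]
      rw [hY.pow, Module.End.one_apply] at h1
      have h3 : u ∈ M ⊓ LinearMap.ker (y - 1) := by
        refine ⟨hu, ?_⟩
        show u ∈ LinearMap.ker (y - 1)
        rw [LinearMap.mem_ker, LinearMap.sub_apply, Module.End.one_apply, ← h1, sub_self]
      rw [hfix, Submodule.mem_bot] at h3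
      exact h3
    have hTsurj : ∀ w ∈ M, ∃ u ∈ M, T u = w := by
      set TM : M →ₗ[F] M := T.restrict hTM with hTMdef
      have hinj : Function.Injective TM := by
        rw [← LinearMap.ker_eq_bot, LinearMap.ker_eq_bot']
        intro u hu
        apply Subtype.ext
        apply hTinj u.1 u.2
        have := congrArg Subtype.val hu
        simpa [hTMdef, LinearMap.restrict_apply] using this
      have hsurj : Function.Surjective TM := LinearMap.injective_iff_surjective.mp hinj
      intro w hw
      obtain ⟨u, hu⟩ := hsurj ⟨w, hw⟩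
      refine ⟨u.1, u.2, ?_⟩
      have := congrArg Subtype.val hu
      simpa [hTMdef, LinearMap.restrict_apply] using this
    refine ⟨⟨?_, ?_⟩, ?_, ?_⟩
    · intro hnd w hw hw0
      obtain ⟨u, hu, rfl⟩ := hTsurj w hw
      have hu0 : u ≠ 0 := by
        intro h0
        apply hw0
        rw [h0, map_zero]
      obtain ⟨v, hv, hne⟩ := hnd u hu hu0
      exact ⟨v, hv, by rwa [hA] at hne⟩
    · intro hnd w hw hw0
      have hTw0 : T w ≠ 0 := fun h0 => hw0 (hTinj w hw h0)
      obtain ⟨v, hv, hne⟩ := hnd (T w) (hTM w hw) hTw0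
      exact ⟨v, hv, by rwa [hA]⟩
    · intro M'
      constructor
      · intro ho w hw v hv
        obtain ⟨u, hu, rfl⟩ := hTsurj w hw
        rw [← hA]
        exact ho u hu v hv
      · intro ho u hu v hv
        rw [hA]
        exact ho (T u) (hTM u hu) v hv
    · intro h0 w hw
      obtain ⟨u, hu, huw⟩ := hTsurj w hw
      have h1 : PB Q w w = 0 := by
        rw [← huw, ← hA]
        exact h0 u hu (T u) (hTM u hu)
      rw [PB_self] at h1
      rcases mul_eq_zero.mp h1 with h | h
      · exact absurd h h2
      · exact h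

end Cfsg.Agent.S5992P
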