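import Mathlib
import Cfsg.Prelude.Def_GeometricClasses
import Cfsg.Prelude.Def_Classical
import Cfsg.Prelude.Def_LieClassical
import Cfsg.Agent.Helper6.S5992Defs
import Cfsg.Agent.Helper23.S5961STRUCT
import Cfsg.Agent.Helper25.S5992ALTTRICK
import Cfsg.Agent.Helper25.S5992RESTRYO

/-! S5992 piece BLOCKS (driver helper6): `range (y - 1)` is an orthogonal sum of invariant
nondegenerate blocks of dimension `cc F r` (via the alternating form `altOf Q y` and the symplectic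
block theorem `exists_blocks_sp`). -/

set_option autoImplicit false
open scoped MatrixGroups

namespace Cfsg.Agent.S5992P

open Cfsg.Agent.Helper2.SympInvol Cfsg.Agent.Helper2.SympUnits Cfsg.Agent.S5961P Cfsg.Agent.S2614
  Cfsg.Agent.S5955P

/-- BLOCKS -/
theorem exists_blocks_sym {F V : Type*} [Field F] [Fintype F] [AddCommGroup V] [Module F V]
    [FiniteDimensional F V] {p : ℕ} [Fact p.Prime] [CharP F p] (r : ℕ) [Fact r.Prime]
    (hr2 : r ≠ 2) (hrp : r ≠ p) (h2 : (2 : F) ≠ 0) (Q : QuadraticForm F V)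
    (y : Module.End F V) (hY : IsYO Q y r) :
    ∃ (b : ℕ) (E : Fin b → Submodule F V),
      (∀ j, (E j).map y ≤ E j) ∧ (∀ j, Nondeg (PB Q) (E j)) ∧
      (∀ j, Module.finrank F (E j) = cc F r) ∧
      (∀ j j', j ≠ j' → Orth (PB Q) (E j) (E j')) ∧ iSupIndep E ∧
      (⨆ j, E j) = LinearMap.range (y - 1) := by
  have hr : r.Prime := Fact.out
  have hrodd : Odd r := hr.odd_of_ne_two hr2
  obtain ⟨hA1, hA2, hA3⟩ := altOf_props h2 Q y r hrodd hY
  obtain ⟨hcompl, hCN, hNC, hNinv, hCinv⟩ :=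
    fix_split (p := p) r hrp (PB Q) y (PB_isom Q hY.isom) hY.pow
  set N : Submodule F V := LinearMap.range (y - 1) with hN
  have hNnd : Nondeg (PB Q) N := STRUCT.nondeg_right_of_isCompl (PB Q) hY.nondeg _ _ hcompl hNC
  have hNfix : N ⊓ LinearMap.ker (y - 1) = ⊥ := by
    rw [inf_comm]
    exact hcompl.inf_eq_bot
  have hNinv' : ∀ v ∈ N, y v ∈ N := fun v hv => hNinv ⟨v, hv, rfl⟩
  obtain ⟨hAN, -, -⟩ := hA3 N hNinv hNfix
  have hANnd : Nondeg (altOf Q y) N := hAN.mpr hNnd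
  obtain ⟨t1, t2, t3, t4, -, -, -, t8⟩ := restr_transport (altOf Q y) y N hNinv'
  obtain ⟨m, E', hE'inv, hE'nd, hE'dim, hE'orth, -, hE'sup⟩ :=
    exists_blocks_sp (p := p) r hr2 hrp ((altOf Q y).restrict N) (t2 hA1) (t4.mpr hANnd)
      (y.restrict hNinv') (t3 hA2) (t1 r hY.pow)
  -- `y|N - 1` is onto
  have hker : LinearMap.ker (y.restrict hNinv' - 1) = ⊥ :=
    (restrict_isYO Q y r hY N hNinv' hNnd).2 hNfix
  have htop : LinearMap.range (y.restrict hNinv' - 1) = ⊤ :=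
    LinearMap.range_eq_top.mpr
      (LinearMap.injective_iff_surjective.mp (LinearMap.ker_eq_bot.mp hker))
  -- the blocks in `V`
  have hinvE : ∀ j, ((E' j).map N.subtype).map y ≤ (E' j).map N.subtype :=
    fun j => ((t8 (E' j)).2.2.2.1).mp (hE'inv j)
  have hfixE : ∀ j, (E' j).map N.subtype ⊓ LinearMap.ker (y - 1) = ⊥ := by
    intro j
    rw [eq_bot_iff, ← hNfix]
    exact inf_le_inf_right _ (t8 (E' j)).1
  have hndE : ∀ j, Nondeg (PB Q) ((E' j).map N.subtype) := by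
    intro j
    have h1 : Nondeg (altOf Q y) ((E' j).map N.subtype) := ((t8 (E' j)).2.2.1).mp (hE'nd j)
    exact ((hA3 _ (hinvE j) (hfixE j)).1).mp h1
  have horthE : ∀ j j', j ≠ j' →
      Orth (PB Q) ((E' j).map N.subtype) ((E' j').map N.subtype) := by
    intro j j' hjj'
    have h1 : Orth (altOf Q y) ((E' j).map N.subtype) ((E' j').map N.subtype) :=
      ((t8 (E' j)).2.2.2.2 (E' j')).mp (hE'orth j j' hjj')
    exact ((hA3 _ (hinvE j) (hfixE j)).2.1 _).mp h1
  refine ⟨m, fun j => (E' j).map N.subtype, hinvE, hndE, ?_, horthE,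
    STRUCT.indep_of_orth (PB Q) _ hndE horthE, ?_⟩
  · intro j
    rw [(t8 (E' j)).2.1]
    exact hE'dim j
  · rw [← Submodule.map_iSup, hE'sup, htop, Submodule.map_subtype_top]

end Cfsg.Agent.S5992P
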