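import Mathlib
import Cfsg.Prelude.Def_ClassicalGeometry
import Cfsg.Agent.Helper17.S2482GDefs

/-! S2482 chapter (G) (driver helper17), piece SUMISO: isometries of the summands glue; kernel
dimensions of a sum, of a unit, and under a linear equivariant isomorphism. -/

set_option autoImplicit false

namespace Cfsg.Agent.S2482P

open Polynomial Cfsg.Agent.Helper2.SympInvol Cfsg.Agent.S5955P Cfsg.Agent.S5961P Cfsg.Agent.S2676P
  Cfsg.Agent.S2478P Cfsg.Agent.S2481P

universe u

variable {F : Type u} [Field F]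

namespace SUMISO

section aux

variable {V W V₁ V₂ : Type*} [AddCommGroup V] [Module F V] [AddCommGroup W] [Module F W]
  [AddCommGroup V₁] [Module F V₁] [AddCommGroup V₂] [Module F V₂]

/-- an intertwiner intertwines the powers of `g - c` -/
theorem intertwine_pow (e : V →ₗ[F] W) (g : Module.End F V) (g' : Module.End F W)
    (h : ∀ v, e (g v) = g' (e v)) (c : F) (k : ℕ) (v : V) :
    e (((g - algebraMap F (Module.End F V) c) ^ k) v) =
      ((g' - algebraMap F (Module.End F W) c) ^ k) (e v) := by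
  induction k generalizing v with
  | zero => rw [pow_zero, pow_zero, Module.End.one_apply, Module.End.one_apply]
  | succ k ih =>
    rw [pow_succ, pow_succ, Module.End.mul_apply, Module.End.mul_apply, ih]
    congr 1
    rw [LinearMap.sub_apply, LinearMap.sub_apply, Module.algebraMap_end_apply,
      Module.algebraMap_end_apply, map_sub, map_smul, h]

/-- kernels of intertwined endomorphisms have the same dimension -/
theorem finrank_ker_eq (e : V ≃ₗ[F] W) (f : Module.End F V) (f' : Module.End F W)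
    (h : ∀ v, e (f v) = f' (e v)) :
    Module.finrank F (LinearMap.ker f) = Module.finrank F (LinearMap.ker f') := by
  have hmap : (LinearMap.ker f).map (e : V →ₗ[F] W) = LinearMap.ker f' := by
    ext w
    rw [Submodule.mem_map, LinearMap.mem_ker]
    constructor
    · rintro ⟨v, hv, rfl⟩
      rw [LinearMap.mem_ker] at hv
      show f' (e v) = 0
      rw [← h, hv, map_zero]
    · intro hw
      refine ⟨e.symm w, ?_, ?_⟩
      · rw [LinearMap.mem_ker]
        apply e.injective
        rw [h, map_zero]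
        show f' (e (e.symm w)) = 0
        rw [LinearEquiv.apply_symm_apply, hw]
      · show e (e.symm w) = w
        rw [LinearEquiv.apply_symm_apply]
  rw [← hmap]
  exact (LinearEquiv.finrank_map_eq e (LinearMap.ker f)).symm

/-- the product of two submodules, as a product -/
def prodEquivSub (p : Submodule F V₁) (q : Submodule F V₂) : (p.prod q) ≃ₗ[F] p × q where
  toFun x := (⟨x.1.1, x.2.1⟩, ⟨x.1.2, x.2.2⟩)
  invFun y := ⟨(y.1.1, y.2.1), ⟨y.1.2, y.2.2⟩⟩
  map_add' := by intros; rfl
  map_smul' := by intros; rfl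
  left_inv := by intro; rfl
  right_inv := by intro; rfl

end aux

theorem iso_of_sum (S S' S₁ S₂ S₁' S₂' : SpSpace F) (h : S.IsSum S₁ S₂) (h' : S'.IsSum S₁' S₂')
    (h₁ : S₁.Iso S₁') (h₂ : S₂.Iso S₂') : S.Iso S' := by
  obtain ⟨e, heB, heg⟩ := h
  obtain ⟨e', heB', heg'⟩ := h'
  obtain ⟨φ₁, hφ₁B, hφ₁g⟩ := h₁
  obtain ⟨φ₂, hφ₂B, hφ₂g⟩ := h₂
  refine ⟨(e.trans (φ₁.prodCongr φ₂)).trans e'.symm, ?_, ?_⟩
  · intro u v
    rw [heB', heB]
    simp only [LinearEquiv.trans_apply, LinearEquiv.apply_symm_apply, LinearEquiv.prodCongr_apply,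
      hφ₁B, hφ₂B]
  · intro v
    apply e'.injective
    rw [heg']
    simp only [LinearEquiv.trans_apply, LinearEquiv.apply_symm_apply, LinearEquiv.prodCongr_apply,
      heg, hφ₁g, hφ₂g]

theorem kdim_add (S S₁ S₂ : SpSpace F) (h : S.IsSum S₁ S₂) (c : F) (k : ℕ) :
    S.kdim c k = S₁.kdim c k + S₂.kdim c k := by
  obtain ⟨e, -, heg⟩ := h
  unfold SpSpace.kdim
  have h1 : ∀ v, e (((S.g - algebraMap F (Module.End F S.V) c) ^ k) v) =
      (LinearMap.prodMap ((S₁.g - algebraMap F (Module.End F S₁.V) c) ^ k)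
        ((S₂.g - algebraMap F (Module.End F S₂.V) c) ^ k)) (e v) := by
    intro v
    rw [LinearMap.prodMap_apply]
    apply Prod.ext
    · have := intertwine_pow ((LinearMap.fst F S₁.V S₂.V).comp (e : S.V →ₗ[F] S₁.V × S₂.V))
        S.g S₁.g (fun w => by
          show (e (S.g w)).1 = S₁.g (e w).1
          rw [heg]) c k v
      exact this
    · have := intertwine_pow ((LinearMap.snd F S₁.V S₂.V).comp (e : S.V →ₗ[F] S₁.V × S₂.V))
        S.g S₂.g (fun w => by
          show (e (S.g w)).2 = S₂.g (e w).2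
          rw [heg]) c k v
      exact this
  rw [finrank_ker_eq e _ _ h1, LinearMap.ker_prodMap,
    LinearEquiv.finrank_eq (prodEquivSub _ _), Module.finrank_prod]

theorem kdim_eq_zero_of_isUnit (S : SpSpace F) (c : F)
    (hu : IsUnit (S.g - algebraMap F (Module.End F S.V) c)) (k : ℕ) : S.kdim c k = 0 := by
  unfold SpSpace.kdim
  have h1 : IsUnit ((S.g - algebraMap F (Module.End F S.V) c) ^ k) := hu.pow k
  have h2 := ((Module.End.isUnit_iff _).mp h1).1
  rw [LinearMap.ker_eq_bot.mpr h2, finrank_bot]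

theorem isUnit_of_kdim_one_eq_zero (S : SpSpace F) (c : F) (h : S.kdim c 1 = 0) :
    IsUnit (S.g - algebraMap F (Module.End F S.V) c) := by
  unfold SpSpace.kdim at h
  rw [pow_one, Submodule.finrank_eq_zero] at h
  exact (LinearMap.isUnit_iff_ker_eq_bot _).mpr h

theorem kdim_of_linIso (S S' : SpSpace F) (h : S.LinIso S') (c : F) (k : ℕ) :
    S.kdim c k = S'.kdim c k := by
  obtain ⟨x, hx⟩ := h
  unfold SpSpace.kdim
  exact finrank_ker_eq x _ _ (fun v => intertwine_pow (x : S.V →ₗ[F] S'.V) S.g S'.g hx c k v)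

end SUMISO

end Cfsg.Agent.S2482P
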