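import Mathlib
import Cfsg.Agent.Helper8.MatBNDefs
import Cfsg.Agent.Helper23.S2546MONALG

set_option autoImplicit false
open scoped Matrix

/-! S2547 project (driver helper17), generic MatBN piece SUBHE: the dichotomy `he` for the corrected
lift `h * s j` (`h` in the torus). -/

namespace Cfsg.Agent.MatBN

variable {K : Type*} [Field K] {n m : ℕ} {G : Type*} [Group G] (D : Data G K n m)

theorem Data.restrict_he
    (hTX : ∀ j, ∀ t ∈ D.torus, ∀ x ∈ D.X j, t * x * t⁻¹ ∈ D.X j)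
    (j : Fin m) (h : G) (hh : h ∈ D.torus) (g : G) (π : Equiv.Perm (Fin n))
    (hg : Mon (D.ρ g) π) :
    (∀ x ∈ D.X j, IsTri (D.ρ (g⁻¹ * x * g))) ∨
      (∀ x ∈ D.X j, IsTri (D.ρ (g⁻¹ * ((h * D.s j) * x * (h * D.s j)⁻¹) * g))) := by
  have hh' : h⁻¹ ∈ D.torus := D.torus.inv_mem hh
  have hmon : Mon (D.ρ (h⁻¹ * g)) (1 * π) := by
    rw [map_mul]
    exact Mon.mul (IsDg.mon hh' (D.ρ_mul_inv h⁻¹)) hg
  rcases D.he j (h⁻¹ * g) (1 * π) hmon with h1 | h1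
  · left
    intro x hx
    have hx' : h⁻¹ * x * h⁻¹⁻¹ ∈ D.X j := hTX j h⁻¹ hh' x hx
    have := h1 _ hx'
    have e : (h⁻¹ * g)⁻¹ * (h⁻¹ * x * h⁻¹⁻¹) * (h⁻¹ * g) = g⁻¹ * x * g := by group
    rwa [e] at this
  · right
    intro x hx
    have := h1 x hx
    have e : (h⁻¹ * g)⁻¹ * (D.s j * x * (D.s j)⁻¹) * (h⁻¹ * g)
        = g⁻¹ * ((h * D.s j) * x * (h * D.s j)⁻¹) * g := by group
    rwa [e] at this

end Cfsg.Agent.MatBN
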