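import Mathlib
import Cfsg.Agent.Helper8.MatBNDefs
import Cfsg.Agent.Helper23.S2546MONALG

set_option autoImplicit false
open scoped Matrix

/-! S2547 project (driver helper17), generic MatBN piece SUBN0: the longest element from the corrected
lifts `h j * s j` (`h j` in the torus). -/

namespace Cfsg.Agent.MatBN

variable {K : Type*} [Field K] {n m : ℕ} {G : Type*} [Group G] (D : Data G K n m)

namespace SUBN0

/-- every word in the `s j` has the same permutation as some word in the corrected lifts -/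
theorem exists_word (h : Fin m → G) (hh : ∀ j, h j ∈ D.torus) (w : G)
    (hw : w ∈ Subgroup.closure (Set.range D.s)) :
    ∃ π : Equiv.Perm (Fin n), Mon (D.ρ w) π ∧
      ∃ w' ∈ Subgroup.closure (Set.range (fun j => h j * D.s j)), Mon (D.ρ w') π := by
  induction hw using Subgroup.closure_induction with
  | mem x hx =>
    obtain ⟨j, rfl⟩ := hx
    refine ⟨D.τ j, D.mon_s j, h j * D.s j, Subgroup.subset_closure ⟨j, rfl⟩, ?_⟩
    have h1 : Mon (D.ρ (h j * D.s j)) (1 * D.τ j) := by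
      rw [map_mul]
      exact Mon.mul (IsDg.mon (hh j) (D.ρ_mul_inv (h j))) (D.mon_s j)
    rwa [one_mul] at h1
  | one =>
    refine ⟨1, ?_, 1, Subgroup.one_mem _, ?_⟩ <;>
    · rw [map_one]
      exact Mon.one
  | mul a b _ _ iha ihb =>
    obtain ⟨πa, ha, a', ha', ha''⟩ := iha
    obtain ⟨πb, hb, b', hb', hb''⟩ := ihb
    refine ⟨πa * πb, ?_, a' * b', Subgroup.mul_mem _ ha' hb', ?_⟩
    · rw [map_mul]
      exact Mon.mul ha hb
    · rw [map_mul]
      exact Mon.mul ha'' hb''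
  | inv a _ iha =>
    obtain ⟨πa, ha, a', ha', ha''⟩ := iha
    exact ⟨πa⁻¹, Mon.of_mul_eq_one ha (D.ρ_mul_inv a), a'⁻¹, Subgroup.inv_mem _ ha',
      Mon.of_mul_eq_one ha'' (D.ρ_mul_inv a')⟩

end SUBN0

theorem Data.restrict_n0 (h : Fin m → G) (hh : ∀ j, h j ∈ D.torus) :
    ∃ n₁ ∈ Subgroup.closure (Set.range (fun j => h j * D.s j)), Mon (D.ρ n₁) Fin.revPerm := by
  obtain ⟨π, hπ, w', hw', hw''⟩ := SUBN0.exists_word D h hh D.n₀ D.n₀_mem
  have e : π = Fin.revPerm := Mon.unique hπ D.mon_n₀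
  rw [e] at hw''
  exact ⟨w', hw', hw''⟩

end Cfsg.Agent.MatBN
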