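import Mathlib
import Cfsg.Agent.Helper29.S2482CDefs

/-! S2482 chapter (C) COUNT (driver helper29), piece REVFUN: the number of `c`-symmetric functions
on `Fin N` (`f (rev i) = c * f i`, `c = ±1`). -/

set_option autoImplicit false

namespace Cfsg.Agent.S2482P

open Polynomial Cfsg.Agent.S2478P Cfsg.Agent.S2481P

universe u

namespace REVFUN

section aux

variable {F : Type u} [Field F]

/-- the `c`-symmetric extension of a vector of length `k` -/
noncomputable def extend (c : F) (N k : ℕ) (a : Fin k → F) : Fin N → F := fun i =>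
  if h : (i : ℕ) < k then a ⟨i, h⟩
  else if h' : N - ((i : ℕ) + 1) < k then c * a ⟨N - ((i : ℕ) + 1), h'⟩ else 0

theorem extend_symm (c : F) (hc : c * c = 1) (N k : ℕ)
    (h1 : ∀ i, i < N → i < k → N - (i + 1) < k → c = 1 ∧ N - (i + 1) = i)
    (a : Fin k → F) (i : Fin N) : extend c N k a (Fin.rev i) = c * extend c N k a i := by
  have hi := i.isLt
  have hrev : ((Fin.rev i : Fin N) : ℕ) = N - ((i : ℕ) + 1) := Fin.val_rev i
  have hrr : N - (N - ((i : ℕ) + 1) + 1) = (i : ℕ) := by omega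
  unfold extend
  by_cases hik : (i : ℕ) < k
  · by_cases hrk : N - ((i : ℕ) + 1) < k
    · obtain ⟨hc1, hfix⟩ := h1 i hi hik hrk
      have hrk' : ((Fin.rev i : Fin N) : ℕ) < k := by rw [hrev]; exact hrk
      rw [dif_pos hrk', dif_pos hik, hc1, one_mul]
      have e : (⟨((Fin.rev i : Fin N) : ℕ), hrk'⟩ : Fin k) = ⟨i, hik⟩ :=
        Fin.ext (by show ((Fin.rev i : Fin N) : ℕ) = (i : ℕ); omega)
      rw [e]
    · have hrk' : ¬ ((Fin.rev i : Fin N) : ℕ) < k := by rw [hrev]; exact hrk
      have hrr' : N - (((Fin.rev i : Fin N) : ℕ) + 1) < k := by rw [hrev, hrr]; exact hik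
      rw [dif_neg hrk', dif_pos hrr', dif_pos hik]
      have e : (⟨N - (((Fin.rev i : Fin N) : ℕ) + 1), hrr'⟩ : Fin k) = ⟨i, hik⟩ :=
        Fin.ext (by show N - (((Fin.rev i : Fin N) : ℕ) + 1) = (i : ℕ); omega)
      rw [e]
  · by_cases hrk : N - ((i : ℕ) + 1) < k
    · have hrk' : ((Fin.rev i : Fin N) : ℕ) < k := by rw [hrev]; exact hrk
      rw [dif_pos hrk', dif_neg hik, dif_pos hrk, ← mul_assoc, hc, one_mul]
      have e : (⟨((Fin.rev i : Fin N) : ℕ), hrk'⟩ : Fin k) = ⟨N - ((i : ℕ) + 1), hrk⟩ :=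
        Fin.ext hrev
      rw [e]
    · have hrk' : ¬ ((Fin.rev i : Fin N) : ℕ) < k := by rw [hrev]; exact hrk
      have hrr' : ¬ N - (((Fin.rev i : Fin N) : ℕ) + 1) < k := by rw [hrev, hrr]; exact hik
      rw [dif_neg hrk', dif_neg hrr', dif_neg hik, dif_neg hrk, mul_zero]

/-- the equivalence between `c`-symmetric functions and their first `k` coordinates -/
noncomputable def equivRestrict (c : F) (hc : c * c = 1) (N k : ℕ) (hk : k ≤ N)
    (h1 : ∀ i, i < N → i < k → N - (i + 1) < k → c = 1 ∧ N - (i + 1) = i)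
    (h2 : ∀ i, i < N → ¬ i < k → ¬ N - (i + 1) < k → c ≠ 1 ∧ N - (i + 1) = i) :
    {f : Fin N → F // ∀ i, f (Fin.rev i) = c * f i} ≃ (Fin k → F) where
  toFun f := fun j => f.1 ⟨j, lt_of_lt_of_le j.isLt hk⟩
  invFun a := ⟨extend c N k a, extend_symm c hc N k h1 a⟩
  left_inv := by
    rintro ⟨f, hf⟩
    apply Subtype.ext
    funext i
    have hi := i.isLt
    have hrev : ((Fin.rev i : Fin N) : ℕ) = N - ((i : ℕ) + 1) := Fin.val_rev i
    show extend c N k (fun j => f ⟨j, lt_of_lt_of_le j.isLt hk⟩) i = f i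
    unfold extend
    by_cases hik : (i : ℕ) < k
    · rw [dif_pos hik]
    · by_cases hrk : N - ((i : ℕ) + 1) < k
      · rw [dif_neg hik, dif_pos hrk]
        have e : (⟨N - ((i : ℕ) + 1), lt_of_lt_of_le hrk hk⟩ : Fin N) = Fin.rev i := by
          apply Fin.ext
          exact hrev.symm
        show c * f ⟨N - ((i : ℕ) + 1), _⟩ = f i
        rw [e, hf i, ← mul_assoc, hc, one_mul]
      · rw [dif_neg hik, dif_neg hrk]
        obtain ⟨hc1, hfix⟩ := h2 i hi hik hrk
        have e : Fin.rev i = i := by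
          apply Fin.ext
          rw [hrev, hfix]
        have h3 := hf i
        rw [e] at h3
        have h4 : (1 - c) * f i = 0 := by
          rw [sub_mul, one_mul, ← h3, sub_self]
        rcases mul_eq_zero.mp h4 with h5 | h5
        · exact absurd (sub_eq_zero.mp h5).symm hc1
        · exact h5.symm
  right_inv := by
    intro a
    funext j
    show extend c N k a ⟨j, lt_of_lt_of_le j.isLt hk⟩ = a j
    unfold extend
    rw [dif_pos j.isLt]

end aux

end REVFUN

section count

variable {F : Type u} [Field F] [Fintype F]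

theorem REVFUN.card_revfun (c : F) (hc : c * c = 1) (N : ℕ) :
    (c = 1 → Nat.card {f : Fin N → F // ∀ i, f (Fin.rev i) = c * f i} =
      Fintype.card F ^ ((N + 1) / 2)) ∧
    (c ≠ 1 → Nat.card {f : Fin N → F // ∀ i, f (Fin.rev i) = c * f i} =
      Fintype.card F ^ (N / 2)) := by
  constructor
  · intro hc1
    have e := REVFUN.equivRestrict c hc N ((N + 1) / 2) (by omega)
      (fun i hi h1 h2 => ⟨hc1, by omega⟩) (fun i hi h1 h2 => by omega)
    rw [Nat.card_congr e, Nat.card_fun, Nat.card_eq_fintype_card, Nat.card_eq_fintype_card,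
      Fintype.card_fin]
  · intro hc1
    have e := REVFUN.equivRestrict c hc N (N / 2) (by omega)
      (fun i hi h1 h2 => by omega) (fun i hi h1 h2 => ⟨hc1, by omega⟩)
    rw [Nat.card_congr e, Nat.card_fun, Nat.card_eq_fintype_card, Nat.card_eq_fintype_card,
      Fintype.card_fin]

end count

end Cfsg.Agent.S2482P
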