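import Mathlib
import Cfsg.Agent.Helper29.S2482CDefs
import Cfsg.Agent.Helper18.S2481TILDE

/-! S2482 chapter (C) COUNT (driver helper29), piece SRSIGN: self-reciprocal monic polynomials of
degree `b ≥ 1` with constant term `c` correspond to `c`-symmetric coefficient vectors of length
`b - 1`. -/

set_option autoImplicit false

namespace Cfsg.Agent.S2482P

open Polynomial Cfsg.Agent.S2478P Cfsg.Agent.S2481P

universe u

namespace SRSIGN

section aux

variable {F : Type u} [Field F]

/-- coefficientwise form of self-reciprocity -/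
theorem tilde0_eq_iff (c : F) (hc : c * c = 1) (b : ℕ) (h : F[X]) (hd : h.natDegree = b)
    (h0 : h.coeff 0 = c) :
    tilde0 h = h ↔ ∀ i, i ≤ b → h.coeff i = c * h.coeff (b - i) := by
  have hc0 : c ≠ 0 := left_ne_zero_of_mul_eq_one hc
  have hcinv : c⁻¹ = c := inv_eq_of_mul_eq_one_right hc
  have hne : h.coeff 0 ≠ 0 := by rw [h0]; exact hc0
  have key : ∀ i, i ≤ b → (tilde0 h).coeff i = c * h.coeff (b - i) := by
    intro i hi
    have := tilde_coeff (RingHom.id F) hne (i := i) (by rw [hd]; exact hi)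
    rw [RingHom.id_apply, RingHom.id_apply, h0, hd, hcinv] at this
    exact this
  constructor
  · intro ht i hi
    rw [← key i hi, ht]
  · intro hsym
    ext i
    by_cases hi : i ≤ b
    · rw [key i hi, hsym i hi]
    · rw [not_le] at hi
      rw [coeff_eq_zero_of_natDegree_lt (by rw [tilde_natDegree _ hne, hd]; exact hi),
        coeff_eq_zero_of_natDegree_lt (by rw [hd]; exact hi)]

/-- the coefficient function of the polynomial attached to a vector -/
noncomputable def cf (c : F) (b : ℕ) (f : Fin (b - 1) → F) (j : ℕ) : F :=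
  if j = 0 then c else if j = b then 1 else if hj : j - 1 < b - 1 then f ⟨j - 1, hj⟩ else 0

open Classical in
/-- the polynomial `X^b + ∑ f_i X^(i+1) + c` -/
noncomputable def mk (c : F) (b : ℕ) (f : Fin (b - 1) → F) : F[X] :=
  Polynomial.ofFn (b + 1) (fun j : Fin (b + 1) => cf c b f j)

theorem mk_coeff (c : F) (b : ℕ) (f : Fin (b - 1) → F) (j : ℕ) :
    (mk c b f).coeff j = cf c b f j := by
  classical
  unfold mk
  by_cases hj : j < b + 1
  · rw [ofFn_coeff_eq_val_of_lt _ hj]
  · rw [ofFn_coeff_eq_zero_of_ge _ (by omega)]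
    unfold cf
    rw [if_neg (by omega), if_neg (by omega), dif_neg (by omega)]

theorem cf_zero (c : F) (b : ℕ) (f : Fin (b - 1) → F) : cf c b f 0 = c := by
  unfold cf
  rw [if_pos rfl]

theorem cf_top (c : F) (b : ℕ) (hb : 1 ≤ b) (f : Fin (b - 1) → F) : cf c b f b = 1 := by
  unfold cf
  rw [if_neg (by omega), if_pos rfl]

theorem cf_mid (c : F) (b : ℕ) (f : Fin (b - 1) → F) (j : ℕ) (h1 : 1 ≤ j) (h2 : j < b) :
    cf c b f j = f ⟨j - 1, by omega⟩ := by
  unfold cf
  rw [if_neg (by omega), if_neg (by omega), dif_pos (by omega)]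

theorem cf_big (c : F) (b : ℕ) (f : Fin (b - 1) → F) (j : ℕ) (h2 : b < j) :
    cf c b f j = 0 := by
  unfold cf
  rw [if_neg (by omega), if_neg (by omega), dif_neg (by omega)]

theorem mk_natDegree (c : F) (b : ℕ) (hb : 1 ≤ b) (f : Fin (b - 1) → F) :
    (mk c b f).natDegree = b := by
  apply natDegree_eq_of_le_of_coeff_ne_zero
  · rw [natDegree_le_iff_coeff_eq_zero]
    intro N hN
    rw [mk_coeff, cf_big c b f N hN]
  · rw [mk_coeff, cf_top c b hb]
    exact one_ne_zero

theorem mk_monic (c : F) (b : ℕ) (hb : 1 ≤ b) (f : Fin (b - 1) → F) : (mk c b f).Monic := by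
  unfold Monic leadingCoeff
  rw [mk_natDegree c b hb, mk_coeff, cf_top c b hb]

theorem mk_tilde (c : F) (hc : c * c = 1) (b : ℕ) (hb : 1 ≤ b) (f : Fin (b - 1) → F)
    (hf : ∀ i, f (Fin.rev i) = c * f i) : tilde0 (mk c b f) = mk c b f := by
  rw [tilde0_eq_iff c hc b _ (mk_natDegree c b hb f) (by rw [mk_coeff, cf_zero])]
  intro i hi
  rw [mk_coeff, mk_coeff]
  by_cases hi0 : i = 0
  · subst hi0
    rw [cf_zero, Nat.sub_zero, cf_top c b hb, mul_one]
  · by_cases hib : i = b
    · subst hib
      rw [cf_top c i hb, Nat.sub_self, cf_zero, hc]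
    · rw [cf_mid c b f i (by omega) (by omega), cf_mid c b f (b - i) (by omega) (by omega)]
      have := hf ⟨b - i - 1, by omega⟩
      rw [← this]
      congr 1
      apply Fin.ext
      rw [Fin.val_rev]
      show i - 1 = b - 1 - (b - i - 1 + 1)
      omega

/-- the equivalence -/
noncomputable def equivVec (c : F) (hc : c * c = 1) (b : ℕ) (hb : 1 ≤ b) :
    {h : F[X] // h.Monic ∧ h.natDegree = b ∧ h.coeff 0 = c ∧ tilde0 h = h} ≃
      {f : Fin (b - 1) → F // ∀ i, f (Fin.rev i) = c * f i} where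
  toFun h := ⟨fun i => h.1.coeff ((i : ℕ) + 1), by
    obtain ⟨h, hm, hd, h0, ht⟩ := h
    intro i
    have hsym := (tilde0_eq_iff c hc b h hd h0).mp ht
    have hi := i.isLt
    show h.coeff (((Fin.rev i : Fin (b - 1)) : ℕ) + 1) = c * h.coeff ((i : ℕ) + 1)
    rw [Fin.val_rev]
    have e1 : b - 1 - ((i : ℕ) + 1) + 1 = b - ((i : ℕ) + 1) := by omega
    rw [e1, hsym (b - ((i : ℕ) + 1)) (by omega)]
    have e2 : b - (b - ((i : ℕ) + 1)) = (i : ℕ) + 1 := by omega
    rw [e2]⟩
  invFun f := ⟨mk c b f.1, mk_monic c b hb f.1, mk_natDegree c b hb f.1,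
    by rw [mk_coeff, cf_zero], mk_tilde c hc b hb f.1 f.2⟩
  left_inv := by
    rintro ⟨h, hm, hd, h0, ht⟩
    apply Subtype.ext
    show mk c b (fun i : Fin (b - 1) => h.coeff ((i : ℕ) + 1)) = h
    ext j
    rw [mk_coeff]
    by_cases hj0 : j = 0
    · subst hj0
      rw [cf_zero, h0]
    · by_cases hjb : j = b
      · subst hjb
        rw [cf_top c j hb]
        have : h.coeff h.natDegree = 1 := hm
        rw [hd] at this
        exact this.symm
      · by_cases hlt : j < b
        · rw [cf_mid c b _ j (by omega) hlt]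
          show h.coeff (j - 1 + 1) = h.coeff j
          rw [Nat.sub_add_cancel (by omega)]
        · rw [cf_big c b _ j (by omega), coeff_eq_zero_of_natDegree_lt (by omega)]
  right_inv := by
    rintro ⟨f, hf⟩
    apply Subtype.ext
    funext i
    have hi := i.isLt
    show (mk c b f).coeff ((i : ℕ) + 1) = f i
    rw [mk_coeff, cf_mid c b f _ (by omega) (by omega)]
    congr 1

end aux

end SRSIGN

section count

variable {F : Type u} [Field F] [Fintype F]

theorem SRSIGN.card_sr_sign (c : F) (hc : c * c = 1) (b : ℕ) (hb : 1 ≤ b) :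
    Nat.card {h : F[X] // h.Monic ∧ h.natDegree = b ∧ h.coeff 0 = c ∧ tilde0 h = h} =
      Nat.card {f : Fin (b - 1) → F // ∀ i, f (Fin.rev i) = c * f i} :=
  Nat.card_congr (SRSIGN.equivVec c hc b hb)

end count

end Cfsg.Agent.S2482P
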