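import Mathlib
import Cfsg.Agent.Helper29.S2482CDefs
import Cfsg.Agent.Helper18.S2481TILDE
import Cfsg.Agent.Helper25.S2482REVFUN
import Cfsg.Agent.Helper25.S2482SRSIGN

/-! S2482 chapter (C) COUNT (driver helper29), piece SRCARD: the number of self-reciprocal monic
polynomials of degree `b` (`q` odd), and of palindromic monic polynomials of degree `2a`. -/

set_option autoImplicit false

namespace Cfsg.Agent.S2482P

open Polynomial Cfsg.Agent.S2478P Cfsg.Agent.S2481P

universe u

namespace SRCARD

section aux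

variable {F : Type u} [Field F] [Fintype F]

/-- the count with a given constant term `c = ±1` -/
theorem card_const (c : F) (hc : c * c = 1) (b : ℕ) (hb : 1 ≤ b) :
    (c = 1 → Nat.card {h : F[X] // h.Monic ∧ h.natDegree = b ∧ h.coeff 0 = c ∧ tilde0 h = h} =
      Fintype.card F ^ (b / 2)) ∧
    (c ≠ 1 → Nat.card {h : F[X] // h.Monic ∧ h.natDegree = b ∧ h.coeff 0 = c ∧ tilde0 h = h} =
      Fintype.card F ^ ((b - 1) / 2)) := by
  rw [SRSIGN.card_sr_sign c hc b hb]
  have h := REVFUN.card_revfun c hc (b - 1)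
  constructor
  · intro hc1
    rw [h.1 hc1, Nat.sub_add_cancel hb]
  · intro hc1
    rw [h.2 hc1]

/-- degree zero: only the polynomial `1` -/
theorem card_deg_zero (P : F[X] → Prop) (hP : P 1) :
    Nat.card {h : F[X] // h.Monic ∧ h.natDegree = 0 ∧ P h ∧ tilde0 h = h} = 1 := by
  rw [Nat.card_eq_one_iff_unique]
  constructor
  · constructor
    rintro ⟨h, hm, hd, -, -⟩ ⟨h', hm', hd', -, -⟩
    apply Subtype.ext
    show h = h'
    rw [eq_one_of_monic_natDegree_zero hm hd, eq_one_of_monic_natDegree_zero hm' hd']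
  · exact ⟨⟨1, monic_one, natDegree_one, hP, tilde_one _⟩⟩

end aux

end SRCARD

section count

variable {F : Type u} [Field F] [Fintype F]

theorem SRCARD.card_SR (hodd : Odd (Fintype.card F)) (b : ℕ) :
    Nat.card {h : F[X] // h.Monic ∧ h.natDegree = b ∧ h.coeff 0 ≠ 0 ∧ tilde0 h = h} =
      SR (Fintype.card F) b := by
  rcases Nat.eq_zero_or_pos b with hb0 | hbpos
  · subst hb0
    rw [SRCARD.card_deg_zero (fun h => h.coeff 0 ≠ 0) (by rw [coeff_one_zero]; exact one_ne_zero)]
    unfold SR
    rw [if_pos rfl]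
  · have hb : 1 ≤ b := hbpos
    have hchar : ringChar F ≠ 2 := by
      intro h2
      have := (FiniteField.even_card_iff_char_two (F := F)).mp h2
      rcases hodd with ⟨k, hk⟩
      omega
    have hne : (-1 : F) ≠ 1 := Ring.neg_one_ne_one_of_char_ne_two hchar
    -- the three sets
    let A : Set F[X] := {h | h.Monic ∧ h.natDegree = b ∧ h.coeff 0 ≠ 0 ∧ tilde0 h = h}
    let A1 : Set F[X] := {h | h.Monic ∧ h.natDegree = b ∧ h.coeff 0 = 1 ∧ tilde0 h = h}
    let A2 : Set F[X] := {h | h.Monic ∧ h.natDegree = b ∧ h.coeff 0 = -1 ∧ tilde0 h = h}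
    have c1 : Nat.card A1 = Fintype.card F ^ (b / 2) := by
      exact (SRCARD.card_const (1 : F) (by rw [one_mul]) b hb).1 rfl
    have c2 : Nat.card A2 = Fintype.card F ^ ((b - 1) / 2) := by
      exact (SRCARD.card_const (-1 : F) (by rw [neg_mul_neg, one_mul]) b hb).2 hne
    have hq : 0 < Fintype.card F := Fintype.card_pos
    have f1 : A1.Finite := by
      have : Finite A1 := Nat.finite_of_card_ne_zero (by rw [c1]; exact (pow_pos hq _).ne')
      exact Set.toFinite A1
    have f2 : A2.Finite := by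
      have : Finite A2 := Nat.finite_of_card_ne_zero (by rw [c2]; exact (pow_pos hq _).ne')
      exact Set.toFinite A2
    have hunion : A = A1 ∪ A2 := by
      ext h
      constructor
      · rintro ⟨hm, hd, h0, ht⟩
        have hnorm := coeff_zero_of_tilde_eq (RingHom.id F) hm h0 ht
        rw [RingHom.id_apply] at hnorm
        rcases mul_self_eq_one_iff.mp hnorm with h1 | h1
        · exact Or.inl ⟨hm, hd, h1, ht⟩
        · exact Or.inr ⟨hm, hd, h1, ht⟩
      · rintro (⟨hm, hd, h1, ht⟩ | ⟨hm, hd, h1, ht⟩)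
        · exact ⟨hm, hd, by rw [h1]; exact one_ne_zero, ht⟩
        · exact ⟨hm, hd, by rw [h1]; exact neg_ne_zero.mpr one_ne_zero, ht⟩
    have hdisj : Disjoint A1 A2 := by
      rw [Set.disjoint_left]
      rintro h ⟨-, -, h1, -⟩ ⟨-, -, h2, -⟩
      rw [h1] at h2
      exact hne h2.symm
    have hcard : Nat.card A = Nat.card A1 + Nat.card A2 := by
      rw [Nat.card_coe_set_eq, Nat.card_coe_set_eq, Nat.card_coe_set_eq, hunion,
        Set.ncard_union_eq hdisj f1 f2]
    show Nat.card A = SR (Fintype.card F) b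
    rw [hcard, c1, c2]
    unfold SR
    rw [if_neg (by omega)]
    split_ifs with hev
    · have : (b - 1) / 2 = b / 2 - 1 := by
        rcases hev with ⟨k, hk⟩
        omega
      rw [this]
    · have : (b - 1) / 2 = b / 2 := by
        rw [Nat.not_even_iff_odd] at hev
        rcases hev with ⟨k, hk⟩
        omega
      rw [this, two_mul]

theorem SRCARD.card_pal (a : ℕ) :
    Nat.card {h : F[X] // h.Monic ∧ h.natDegree = 2 * a ∧ h.coeff 0 = 1 ∧ tilde0 h = h} =
      Fintype.card F ^ a := by
  rcases Nat.eq_zero_or_pos a with ha0 | hapos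
  · subst ha0
    rw [pow_zero]
    exact SRCARD.card_deg_zero (fun h => h.coeff 0 = 1) coeff_one_zero
  · have := (SRCARD.card_const (1 : F) (by rw [one_mul]) (2 * a) (by omega)).1 rfl
    rw [Nat.mul_div_cancel_left a (by norm_num)] at this
    exact this

end count

end Cfsg.Agent.S2482P
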