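import Mathlib
import Cfsg.Agent.Helper4.S2560FIBRE
import Cfsg.Agent.Helper4.S2560NEGSYM

/-! S2560 piece ABSASM (driver helper17): the abstract end of the count,
`8 k(H) ≤ 4 #RK + 4 #RS`, from FIBRE + NEGSYM (twice) + two injections. -/

set_option autoImplicit false

namespace Cfsg.Agent.S2560P

namespace ABSASM

variable {G : Type*} [Group G]

theorem conj_central (z : G) (hz : z ∈ Subgroup.center G) (g x : G) :
    g * (z * x) * g⁻¹ = z * (g * x * g⁻¹) := by
  rw [Subgroup.mem_center_iff] at hz
  have h1 : g * (z * x) * g⁻¹ = (g * z) * x * g⁻¹ := by group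
  rw [h1, hz g]; group

theorem centralizer_central_mul (z : G) (hz : z ∈ Subgroup.center G) (x : G) :
    Subgroup.centralizer ({z * x} : Set G) = Subgroup.centralizer ({x} : Set G) := by
  rw [Subgroup.mem_center_iff] at hz
  ext g
  simp only [Subgroup.mem_centralizer_iff, Set.mem_singleton_iff, forall_eq]
  constructor
  · intro h
    have h1 : z * (x * g) = z * (g * x) := by
      calc z * (x * g) = z * x * g := by group
        _ = g * (z * x) := h
        _ = (g * z) * x := by group
        _ = (z * g) * x := by rw [hz g]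
        _ = z * (g * x) := by group
    exact mul_left_cancel h1
  · intro h
    calc z * x * g = z * (x * g) := by group
      _ = z * (g * x) := by rw [h]
      _ = (z * g) * x := by group
      _ = (g * z) * x := by rw [hz g]
      _ = g * (z * x) := by group

/-- an injection into a finite set bounds the cardinality -/
theorem card_le_of_inj {X : Type*} [Finite X] {α : Type*} (R : Set α) (hR : R.Finite) (f : X → α)
    (hf : ∀ x, f x ∈ R) (hinj : Function.Injective f) : Nat.card X ≤ Nat.card R := by
  have : Finite R := hR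
  exact Nat.card_le_card_of_injective (fun x => (⟨f x, hf x⟩ : R))
    (fun x y h => hinj (by simpa using congrArg Subtype.val h))

end ABSASM

open ABSASM in
theorem ABSASM.eight_card_le {G : Type*} [Group G] [Finite G] (H K : Subgroup G) [H.Normal]
    [K.Normal] (z : G) (hz : z ∈ Subgroup.center G) (hzH : z ∉ H) (hzK : z ∈ K) (hHK : H ≤ K)
    (hK : ∀ g ∈ K, g ∈ H ∨ z * g ∈ H) (hidx : ∀ g₁ g₂ : G, g₁ ∉ K → g₂ ∉ K → g₁ * g₂ ∈ K)
    {α β : Type*} (RK : Set α) (RS : Set β) (hfK : RK.Finite) (hfS : RS.Finite) (dK : G → α)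
    (dS : G → β) (hdK : ∀ g ∈ K, dK g ∈ RK)
    (hinjK : ∀ g ∈ K, ∀ g' ∈ K, dK g = dK g' → IsConj g g')
    (hdS : ∀ g, Subgroup.centralizer {g} ≤ K → dS g ∈ RS)
    (hinjS : ∀ g g', Subgroup.centralizer {g} ≤ K → Subgroup.centralizer {g'} ≤ K → dS g = dS g' →
      IsConj g g') :
    8 * Nat.card (ConjClasses H) ≤ 4 * Nat.card RK + 4 * Nat.card RS := by
  classical
  have h1 := FIBRE.card_conjClasses_le H K z hz hK hidx
  -- the two properties
  set PK : ConjClasses G → Prop := fun c => ∀ x : G, ConjClasses.mk x = c → x ∈ K with hPK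
  set PS : ConjClasses G → Prop := fun c => ∀ x : G, ConjClasses.mk x = c →
    Subgroup.centralizer ({x} : Set G) ≤ K with hPS
  have hPK' : ∀ x : G, PK (ConjClasses.mk x) → PK (ConjClasses.mk (z * x)) := by
    intro x hx y hy
    rw [ConjClasses.mk_eq_mk_iff_isConj, isConj_comm, isConj_iff] at hy
    obtain ⟨g, hg⟩ := hy
    rw [← hg, conj_central z hz]
    refine K.mul_mem hzK (hx _ ?_)
    rw [ConjClasses.mk_eq_mk_iff_isConj, isConj_comm, isConj_iff]
    exact ⟨g, rfl⟩
  have hPS' : ∀ x : G, PS (ConjClasses.mk x) → PS (ConjClasses.mk (z * x)) := by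
    intro x hx y hy
    rw [ConjClasses.mk_eq_mk_iff_isConj, isConj_comm, isConj_iff] at hy
    obtain ⟨g, hg⟩ := hy
    rw [← hg, conj_central z hz, centralizer_central_mul z hz]
    apply hx
    rw [ConjClasses.mk_eq_mk_iff_isConj, isConj_comm, isConj_iff]
    exact ⟨g, rfl⟩
  have h2 := NEGSYM.two_mul_card_le H z hz hzH PK hPK'
  have h3 := NEGSYM.two_mul_card_le H z hz hzH PS hPS'
  -- the first set of FIBRE is the one of `h2`
  have h4 : Nat.card {c : ConjClasses G // ∀ x : G, ConjClasses.mk x = c → x ∈ H} =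
      Nat.card {c : ConjClasses G // (∀ x : G, ConjClasses.mk x = c → x ∈ H) ∧ PK c} := by
    apply Nat.card_congr
    apply Equiv.subtypeEquivRight
    intro c
    exact ⟨fun h => ⟨h, fun x hx => hHK (h x hx)⟩, fun h => h.1⟩
  -- the two injections
  have h5 : Nat.card {c : ConjClasses G // PK c} ≤ Nat.card RK := by
    apply card_le_of_inj RK hfK (fun c => dK (Quotient.out c.1))
    · intro c
      apply hdK
      apply c.2
      exact Quotient.out_eq c.1
    · intro c c' h
      have hc : Quotient.out c.1 ∈ K := c.2 _ (Quotient.out_eq c.1)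
      have hc' : Quotient.out c'.1 ∈ K := c'.2 _ (Quotient.out_eq c'.1)
      have := hinjK _ hc _ hc' h
      apply Subtype.ext
      rw [← Quotient.out_eq c.1, ← Quotient.out_eq c'.1]
      exact ConjClasses.mk_eq_mk_iff_isConj.mpr this
  have h6 : Nat.card {c : ConjClasses G // PS c} ≤ Nat.card RS := by
    apply card_le_of_inj RS hfS (fun c => dS (Quotient.out c.1))
    · intro c
      apply hdS
      apply c.2
      exact Quotient.out_eq c.1
    · intro c c' h
      have hc : Subgroup.centralizer ({Quotient.out c.1} : Set G) ≤ K := c.2 _ (Quotient.out_eq c.1)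
      have hc' : Subgroup.centralizer ({Quotient.out c'.1} : Set G) ≤ K :=
        c'.2 _ (Quotient.out_eq c'.1)
      have := hinjS _ _ hc hc' h
      apply Subtype.ext
      rw [← Quotient.out_eq c.1, ← Quotient.out_eq c'.1]
      exact ConjClasses.mk_eq_mk_iff_isConj.mpr this
  have h1' : Nat.card (ConjClasses H) ≤
      Nat.card {c : ConjClasses G // (∀ x : G, ConjClasses.mk x = c → x ∈ H) ∧ PK c} +
      Nat.card {c : ConjClasses G // (∀ x : G, ConjClasses.mk x = c → x ∈ H) ∧ PS c} := by
    rw [← h4]
    exact h1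
  omega

end Cfsg.Agent.S2560P
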