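import Mathlib
import Cfsg.Agent.Helper19.S2560TOG
import Cfsg.Agent.Helper5.S2560THOMEGA

/-! S2560 piece KPSI (driver helper17): the subgroup `K = ker (theta * eps(det))` of index `≤ 2`
containing `Ω` and the central element `z = -1`. -/

set_option autoImplicit false

namespace Cfsg.Agent.S2560P

open Polynomial Cfsg.Agent.Helper2.SympInvol Cfsg.Agent.S2676P Cfsg.Agent.S2478P Cfsg.Agent.S2481P
  Cfsg.Agent.S2482P Cfsg.Agent.S2558P Cfsg.Agent.Helper28.Spin

universe u

section kpsi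

variable {F : Type u} [Field F] [Fintype F] {ι : Type} [Fintype ι] [DecidableEq ι]

namespace KPSI

open Classical in
/-- the sign attached to the determinant: `1` on `det = 1`, `t` otherwise (`t² = 1`). -/
noncomputable def eps (Q : QuadraticForm F (ι → F))
    (hor : ∀ g : Cfsg.isometryGroup F ⇑Q, detHom Q g = 1 ∨ detHom Q g = -1) (t : ℤˣ) :
    Cfsg.isometryGroup F ⇑Q →* ℤˣ where
  toFun g := if detHom Q g = 1 then 1 else t
  map_one' := by simp
  map_mul' := by
    classical
    intro g g'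
    have ht : t * t = 1 := Int.units_mul_self t
    rcases hor g with h | h <;> rcases hor g' with h' | h'
    · simp [map_mul, h, h']
    · by_cases hc : (-1 : Fˣ) = 1
      · simp [map_mul, h, h', hc]
      · simp [map_mul, h, h', hc]
    · by_cases hc : (-1 : Fˣ) = 1
      · simp [map_mul, h, h', hc]
      · simp [map_mul, h, h', hc]
    · by_cases hc : (-1 : Fˣ) = 1
      · simp [map_mul, h, h', hc]
      · simp [map_mul, h, h', hc, ht]

open Classical in
omit [Fintype F] in
theorem eps_apply (Q : QuadraticForm F (ι → F))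
    (hor : ∀ g : Cfsg.isometryGroup F ⇑Q, detHom Q g = 1 ∨ detHom Q g = -1) (t : ℤˣ)
    (g : Cfsg.isometryGroup F ⇑Q) :
    eps Q hor t g = if detHom Q g = 1 then 1 else t := rfl

end KPSI

open KPSI in
theorem KPSI.exists_K (h2 : (2 : F) ≠ 0) (Q : QuadraticForm F (ι → F))
    (B : LinearMap.BilinForm F (ι → F)) (hQB : IsPolar ⇑Q B) (hodd : Odd (Fintype.card ι))
    (hdim : 2 ≤ Fintype.card ι) :
    ∃ (K : Subgroup (Cfsg.isometryGroup F ⇑Q)) (z : Cfsg.isometryGroup F ⇑Q), K.Normal ∧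
      z ∈ Subgroup.center (Cfsg.isometryGroup F ⇑Q) ∧ z ∉ Cfsg.Omega F ⇑Q ∧ z ∈ K ∧
      Cfsg.Omega F ⇑Q ≤ K ∧ (∀ g ∈ K, g ∈ Cfsg.Omega F ⇑Q ∨ z * g ∈ Cfsg.Omega F ⇑Q) ∧
      (∀ g₁ g₂ : Cfsg.isometryGroup F ⇑Q, g₁ ∉ K → g₂ ∉ K → g₁ * g₂ ∈ K) ∧
      ∀ g ∈ K, ∀ g' ∈ K, detHom Q g = detHom Q g' → theta Q g = theta Q g' := by
  classical
  have hne : (-1 : Fˣ) ≠ 1 := neg_one_units_ne h2
  have hor : ∀ g : Cfsg.isometryGroup F ⇑Q, detHom Q g = 1 ∨ detHom Q g = -1 :=
    fun g => THOMEGA.detHom_eq_or h2 Q B hQB g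
  -- the element `z = -1`
  obtain ⟨z, hz⟩ := TOG.exists_mem (⇑Q) B hQB (-1 : Module.End F (ι → F)) (by
    intro u v
    simp)
  have hzM : ((z : Matrix.GeneralLinearGroup ι F) : Matrix ι ι F) = -1 := by
    apply Matrix.toLin'.injective
    rw [hz, map_neg, Matrix.toLin'_one]
    rfl
  have hzc : z ∈ Subgroup.center (Cfsg.isometryGroup F ⇑Q) := by
    rw [Subgroup.mem_center_iff]
    intro g
    apply Subtype.ext
    apply Units.ext
    show ((g : Matrix.GeneralLinearGroup ι F) : Matrix ι ι F) *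
        ((z : Matrix.GeneralLinearGroup ι F) : Matrix ι ι F) =
      ((z : Matrix.GeneralLinearGroup ι F) : Matrix ι ι F) *
        ((g : Matrix.GeneralLinearGroup ι F) : Matrix ι ι F)
    rw [hzM]
    simp
  have hzd : detHom Q z = -1 := by
    apply Units.ext
    rw [detHom_val, hzM, Matrix.det_neg, Matrix.det_one, mul_one, hodd.neg_one_pow]
    simp
  set t : ℤˣ := theta Q z with ht
  have htt : t * t = 1 := Int.units_mul_self t
  set psi : Cfsg.isometryGroup F ⇑Q →* ℤˣ := theta Q * eps Q hor t with hpsi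
  have hpsi_apply : ∀ g, psi g = theta Q g * (if detHom Q g = 1 then 1 else t) := by
    intro g
    rw [hpsi, MonoidHom.mul_apply, eps_apply]
  have hzΩ : z ∉ Cfsg.Omega F ⇑Q := by
    intro h
    have := hom_eq_one_of_mem_Omega Q (detHom Q) h
    rw [hzd] at this
    exact hne this
  refine ⟨psi.ker, z, MonoidHom.normal_ker psi, hzc, hzΩ, ?_, ?_, ?_, ?_, ?_⟩
  · rw [MonoidHom.mem_ker, hpsi_apply, hzd, if_neg hne]
    exact htt
  · intro g hg
    rw [MonoidHom.mem_ker]
    exact hom_eq_one_of_mem_Omega Q psi hg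
  · intro g hg
    rw [MonoidHom.mem_ker, hpsi_apply] at hg
    rcases hor g with h | h
    · left
      rw [h, if_pos rfl, mul_one] at hg
      exact (THOMEGA.mem_Omega_iff h2 Q B hQB hdim g).mpr ⟨h, hg⟩
    · right
      rw [h, if_neg hne] at hg
      refine (THOMEGA.mem_Omega_iff h2 Q B hQB hdim (z * g)).mpr ⟨?_, ?_⟩
      · rw [map_mul, hzd, h]
        simp
      · rw [map_mul, ← ht, mul_comm]
        exact hg
  · intro g₁ g₂ h1 h2'
    rw [MonoidHom.mem_ker] at h1 h2' ⊢
    rw [map_mul]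
    rcases Int.units_eq_one_or (psi g₁) with h | h
    · exact absurd h h1
    rcases Int.units_eq_one_or (psi g₂) with h' | h'
    · exact absurd h' h2'
    rw [h, h']
    simp
  · intro g hg g' hg' hdd
    rw [MonoidHom.mem_ker, hpsi_apply] at hg hg'
    rw [← hdd] at hg'
    have h3 : theta Q g * (if detHom Q g = 1 then 1 else t) =
        theta Q g' * (if detHom Q g = 1 then 1 else t) := by rw [hg, hg']
    exact mul_right_cancel h3

end kpsi

end Cfsg.Agent.S2560P
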