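import Mathlib
import Cfsg.Agent.Helper29.S2560CDefs
import Cfsg.Agent.Helper25.S2482SRCARD
import Cfsg.Agent.Helper29.S2482COUNTSSP
import Cfsg.Agent.Helper26.S2558CGEN
import Cfsg.Agent.Helper9.S2560WNSCARD

/-! S2560 chapter (C), piece CARDONE (helper25; twin of Helper26.S2558COUNTFREE):
`#TOone F r N = AG q (Wns q) r N`. -/

set_option autoImplicit false

namespace Cfsg.Agent.S2560P

open Polynomial Cfsg.Agent.S2478P Cfsg.Agent.S2481P Cfsg.Agent.S2482P Cfsg.Agent.S2558P

universe u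

namespace CARDONE

section defs

variable {F : Type u} [Field F]

/-- the local condition on the entry `h` at the index `m` (no decoration) -/
def Good (m : ℕ) (h : F[X]) (_ : Unit) : Prop :=
  tilde0 h = h ∧ (Even m → h.coeff 0 = 1 ∧ Even h.natDegree) ∧
    (Odd m → ¬ (X + 1 : F[X]) ^ 2 ∣ h)

theorem not_sq_dvd_one : ¬ (X + 1 : F[X]) ^ 2 ∣ (1 : F[X]) := by
  intro h
  exact COUNTSSP.not_X_add_one_dvd_one (dvd_trans (dvd_pow_self _ two_ne_zero) h)

theorem good_one (m : ℕ) (s : Unit) : Good m (1 : F[X]) s ↔ s = () := by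
  constructor
  · intro _
    rfl
  · intro _
    exact ⟨COUNTSSP.tilde0_one, fun _ => ⟨by simp, by simp⟩, fun _ => not_sq_dvd_one⟩

theorem mem_TOone_iff (r N : ℕ) (t : ℕ → F[X]) :
    t ∈ TOone F r N ↔ (t, fun _ => ()) ∈ CGEN.SS (Good (F := F)) r N := by
  constructor
  · rintro ⟨⟨hT, ht, he⟩, hns⟩
    exact ⟨hT, fun m => ⟨ht m, he m, fun hm => hns m hm⟩⟩
  · rintro ⟨hT, hg⟩
    exact ⟨⟨hT, fun m => (hg m).1, fun m => (hg m).2.1⟩, fun m hm => (hg m).2.2 hm⟩

/-- the tuples as decorated tuples with trivial decoration -/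
def equivSS (r N : ℕ) : TOone F r N ≃ CGEN.SS (Good (F := F)) r N where
  toFun t := ⟨(t.1, fun _ => ()), (mem_TOone_iff r N t.1).1 t.2⟩
  invFun x := ⟨x.1.1, (mem_TOone_iff r N x.1.1).2 (by
    have : (x.1.1, fun _ => ()) = x.1 := Prod.ext rfl (funext fun _ => rfl)
    rw [this]
    exact x.2)⟩
  left_inv t := rfl
  right_inv x := Subtype.ext (Prod.ext rfl (funext fun _ => rfl))

end defs

section count

variable {F : Type u} [Field F] [Fintype F]

theorem card_Entry (hodd : Odd (Fintype.card F)) (m d : ℕ) :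
    Nat.card (CGEN.Entry (Good (F := F)) m d) =
      CGEN.EO (Fintype.card F) (Wns (Fintype.card F)) m d := by
  unfold CGEN.EO
  split_ifs with hm hd
  · -- `m` even, `d` even
    obtain ⟨a, ha⟩ := hd
    have hda : d = 2 * a := by omega
    have hd2 : d / 2 = a := by omega
    have hmo : ¬ Odd m := Nat.not_odd_iff_even.2 hm
    rw [hd2, ← SRCARD.card_pal (F := F) a]
    refine Nat.card_congr
      { toFun := fun e => ⟨e.1.1, e.2.1.1, by rw [e.2.1.2.1, hda], (e.2.2.2.1 hm).1, e.2.2.1⟩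
        invFun := fun h => ⟨(h.1, ()), ⟨h.2.1, by rw [h.2.2.1, hda], by
            rw [h.2.2.2.1]
            exact one_ne_zero⟩,
          h.2.2.2.2, fun _ => ⟨h.2.2.2.1, by rw [h.2.2.1]; exact even_two_mul a⟩,
          fun h' => absurd h' hmo⟩
        left_inv := ?_
        right_inv := ?_ }
    · intro e
      rfl
    · intro h
      rfl
  · -- `m` even, `d` odd: no entries
    rw [Nat.card_eq_zero]
    left
    constructor
    rintro ⟨e, ⟨-, hdeg, -⟩, -, ho, -⟩
    apply hd
    rw [← hdeg]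
    exact (ho hm).2
  · -- `m` odd
    have hmo : Odd m := Nat.not_even_iff_odd.1 hm
    rw [← WNSCARD.card_one hodd d]
    refine Nat.card_congr
      { toFun := fun e => ⟨e.1.1, e.2.1.1, e.2.1.2.1, e.2.1.2.2, e.2.2.1, e.2.2.2.2 hmo⟩
        invFun := fun h => ⟨(h.1, ()), ⟨h.2.1, h.2.2.1, h.2.2.2.1⟩, h.2.2.2.2.1,
          fun h' => absurd h' hm, fun _ => h.2.2.2.2.2⟩
        left_inv := ?_
        right_inv := ?_ }
    · intro e
      rfl
    · intro h
      rfl

end count

end CARDONE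

section count

variable {F : Type u} [Field F] [Fintype F]

theorem CARDONE.card_TOone (hodd : Odd (Fintype.card F)) (r N : ℕ) :
    (TOone F r N).Finite ∧
      Nat.card (TOone F r N) = CGEN.AG (Fintype.card F) (Wns (Fintype.card F)) r N := by
  have h := CGEN.card_SS () (CARDONE.good_one (F := F)) _ (CARDONE.card_Entry hodd) r N
  rw [CGEN.AS_eq_AG] at h
  have hfin : Finite (CGEN.SS (CARDONE.Good (F := F)) r N) := h.1
  have hfin' : Finite (TOone F r N) := Finite.of_equiv _ (CARDONE.equivSS r N).symm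
  exact ⟨Set.toFinite _, by rw [Nat.card_congr (CARDONE.equivSS r N), h.2]⟩

end count

end Cfsg.Agent.S2560P
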