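import Mathlib
import Cfsg.Agent.Helper29.S2560CDefs

/-! S2560 chapter (C), piece PARITY2 (helper25; twin of Helper1.S2558PARITY with two independent flips):
pure combinatorics, `4 #R ≤ #SO + #SOm + #SOp + #SOfree`. -/

set_option autoImplicit false

namespace Cfsg.Agent.S2560P

open Polynomial Cfsg.Agent.S2478P Cfsg.Agent.S2481P Cfsg.Agent.S2482P Cfsg.Agent.S2558P

universe u

namespace PARITY2

section defs

variable {F : Type u} [Field F]

/-- some `(+1)`-slot -/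
def HasP (t : ℕ → F[X]) : Prop := ∃ m, Odd m ∧ (X - 1 : F[X]) ∣ t m

/-- some `(-1)`-slot -/
def HasM (t : ℕ → F[X]) : Prop := ∃ m, Odd m ∧ (X + 1 : F[X]) ∣ t m

open Classical in
/-- a chosen `(+1)`-slot -/
noncomputable def slotP (t : ℕ → F[X]) : ℕ := if h : HasP t then Classical.choose h else 0

open Classical in
/-- a chosen `(-1)`-slot -/
noncomputable def slotM (t : ℕ → F[X]) : ℕ := if h : HasM t then Classical.choose h else 0

theorem slotP_spec {t : ℕ → F[X]} (h : HasP t) : Odd (slotP t) ∧ (X - 1 : F[X]) ∣ t (slotP t) := by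
  unfold slotP
  rw [dif_pos h]
  exact Classical.choose_spec h

theorem slotM_spec {t : ℕ → F[X]} (h : HasM t) : Odd (slotM t) ∧ (X + 1 : F[X]) ∣ t (slotM t) := by
  unfold slotM
  rw [dif_pos h]
  exact Classical.choose_spec h

/-- toggle the first sign at the chosen `(+1)`-slot -/
noncomputable def flipP (x : (ℕ → F[X]) × (ℕ → Bool × Bool)) : (ℕ → F[X]) × (ℕ → Bool × Bool) :=
  (x.1, Function.update x.2 (slotP x.1) (!(x.2 (slotP x.1)).1, (x.2 (slotP x.1)).2))

/-- toggle the second sign at the chosen `(-1)`-slot -/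
noncomputable def flipM (x : (ℕ → F[X]) × (ℕ → Bool × Bool)) : (ℕ → F[X]) × (ℕ → Bool × Bool) :=
  (x.1, Function.update x.2 (slotM x.1) ((x.2 (slotM x.1)).1, !(x.2 (slotM x.1)).2))

theorem flipP_fst (x : (ℕ → F[X]) × (ℕ → Bool × Bool)) : (flipP x).1 = x.1 := rfl

theorem flipM_fst (x : (ℕ → F[X]) × (ℕ → Bool × Bool)) : (flipM x).1 = x.1 := rfl

theorem flipP_injective :
    Function.Injective (flipP : (ℕ → F[X]) × (ℕ → Bool × Bool) → _) := by
  intro x y h
  have h1 : x.1 = y.1 := by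
    have := congrArg Prod.fst h
    exact this
  have h2 : Function.update x.2 (slotP x.1) (!(x.2 (slotP x.1)).1, (x.2 (slotP x.1)).2) =
      Function.update y.2 (slotP y.1) (!(y.2 (slotP y.1)).1, (y.2 (slotP y.1)).2) := by
    have := congrArg Prod.snd h
    exact this
  rw [h1] at h2
  refine Prod.ext h1 (funext fun m => ?_)
  by_cases hm : m = slotP y.1
  · subst hm
    have := congrFun h2 (slotP y.1)
    rw [Function.update_self, Function.update_self] at this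
    have e1 := congrArg Prod.fst this
    have e2 := congrArg Prod.snd this
    exact Prod.ext (by simpa using e1) e2
  · have := congrFun h2 m
    rwa [Function.update_of_ne hm, Function.update_of_ne hm] at this

theorem flipM_injective :
    Function.Injective (flipM : (ℕ → F[X]) × (ℕ → Bool × Bool) → _) := by
  intro x y h
  have h1 : x.1 = y.1 := by
    have := congrArg Prod.fst h
    exact this
  have h2 : Function.update x.2 (slotM x.1) ((x.2 (slotM x.1)).1, !(x.2 (slotM x.1)).2) =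
      Function.update y.2 (slotM y.1) ((y.2 (slotM y.1)).1, !(y.2 (slotM y.1)).2) := by
    have := congrArg Prod.snd h
    exact this
  rw [h1] at h2
  refine Prod.ext h1 (funext fun m => ?_)
  by_cases hm : m = slotM y.1
  · subst hm
    have := congrFun h2 (slotM y.1)
    rw [Function.update_self, Function.update_self] at this
    have e1 := congrArg Prod.fst this
    have e2 := congrArg Prod.snd this
    exact Prod.ext e1 (by simpa using e2)
  · have := congrFun h2 m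
    rwa [Function.update_of_ne hm, Function.update_of_ne hm] at this

theorem toNat_not_add (b : Bool) : (!b).toNat + b.toNat = 1 := by
  cases b <;> rfl

/-- a sum over `range (r+1)` of a function of an updated family -/
theorem sum_update {r : ℕ} (s : ℕ → Bool × Bool) (k : ℕ) (hk : k ∈ Finset.range (r + 1))
    (v : Bool × Bool) (φ : Bool × Bool → ℕ) :
    ∑ m ∈ Finset.range (r + 1), φ (Function.update s k v m) =
      φ v + ∑ m ∈ Finset.range (r + 1) \ {k}, φ (s m) := by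
  classical
  rw [← Finset.add_sum_erase _ _ hk, Function.update_self, Finset.erase_eq]
  congr 1
  apply Finset.sum_congr rfl
  intro m hmm
  have : m ≠ k := by
    intro h
    rw [Finset.mem_sdiff, Finset.mem_singleton] at hmm
    exact hmm.2 h
  rw [Function.update_of_ne this]

theorem sum_split {r : ℕ} (s : ℕ → Bool × Bool) (k : ℕ) (hk : k ∈ Finset.range (r + 1))
    (φ : Bool × Bool → ℕ) :
    ∑ m ∈ Finset.range (r + 1), φ (s m) =
      φ (s k) + ∑ m ∈ Finset.range (r + 1) \ {k}, φ (s m) := by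
  classical
  rw [← Finset.add_sum_erase _ _ hk, Finset.erase_eq]

theorem nsqp_flipP_odd {r : ℕ} (x : (ℕ → F[X]) × (ℕ → Bool × Bool))
    (hm : slotP x.1 ∈ Finset.range (r + 1)) : Odd (nsqp r (flipP x).2 + nsqp r x.2) := by
  unfold nsqp flipP
  rw [sum_update x.2 _ hm _ (fun v => v.1.toNat), sum_split x.2 _ hm (fun v => v.1.toNat)]
  have := toNat_not_add (x.2 (slotP x.1)).1
  refine ⟨∑ m ∈ Finset.range (r + 1) \ {slotP x.1}, (x.2 m).1.toNat, ?_⟩
  simp only
  omega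

theorem nsqm_flipP {r : ℕ} (x : (ℕ → F[X]) × (ℕ → Bool × Bool))
    (hm : slotP x.1 ∈ Finset.range (r + 1)) : nsqm r (flipP x).2 = nsqm r x.2 := by
  unfold nsqm flipP
  rw [sum_update x.2 _ hm _ (fun v => v.2.toNat), sum_split x.2 _ hm (fun v => v.2.toNat)]

theorem nsqm_flipM_odd {r : ℕ} (x : (ℕ → F[X]) × (ℕ → Bool × Bool))
    (hm : slotM x.1 ∈ Finset.range (r + 1)) : Odd (nsqm r (flipM x).2 + nsqm r x.2) := by
  unfold nsqm flipM
  rw [sum_update x.2 _ hm _ (fun v => v.2.toNat), sum_split x.2 _ hm (fun v => v.2.toNat)]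
  have := toNat_not_add (x.2 (slotM x.1)).2
  refine ⟨∑ m ∈ Finset.range (r + 1) \ {slotM x.1}, (x.2 m).2.toNat, ?_⟩
  simp only
  omega

theorem nsqp_flipM {r : ℕ} (x : (ℕ → F[X]) × (ℕ → Bool × Bool))
    (hm : slotM x.1 ∈ Finset.range (r + 1)) : nsqp r (flipM x).2 = nsqp r x.2 := by
  unfold nsqp flipM
  rw [sum_update x.2 _ hm _ (fun v => v.1.toNat), sum_split x.2 _ hm (fun v => v.1.toNat)]

theorem not_dvd_one_sub : ¬ (X - 1 : F[X]) ∣ 1 := by
  intro h
  have : (X - C (1 : F)).natDegree = 1 := natDegree_X_sub_C 1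
  rw [map_one] at this
  have h2 := Polynomial.natDegree_le_of_dvd h one_ne_zero
  rw [this, natDegree_one] at h2
  omega

theorem not_dvd_one_add : ¬ (X + 1 : F[X]) ∣ 1 := by
  intro h
  have : (X + C (1 : F)).natDegree = 1 := natDegree_X_add_C 1
  rw [map_one] at this
  have h2 := Polynomial.natDegree_le_of_dvd h one_ne_zero
  rw [this, natDegree_one] at h2
  omega

theorem slotP_mem {r N : ℕ} {t : ℕ → F[X]} (ht : t ∈ T F r N) (h : HasP t) :
    slotP t ∈ Finset.range (r + 1) := by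
  rw [Finset.mem_range]
  by_contra hlt
  have h1 : t (slotP t) = 1 := ht.2.1 _ (Or.inr (by omega))
  obtain ⟨-, hd⟩ := slotP_spec h
  rw [h1] at hd
  exact not_dvd_one_sub hd

theorem slotM_mem {r N : ℕ} {t : ℕ → F[X]} (ht : t ∈ T F r N) (h : HasM t) :
    slotM t ∈ Finset.range (r + 1) := by
  rw [Finset.mem_range]
  by_contra hlt
  have h1 : t (slotM t) = 1 := ht.2.1 _ (Or.inr (by omega))
  obtain ⟨-, hd⟩ := slotM_spec h
  rw [h1] at hd
  exact not_dvd_one_add hd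

theorem flipP_mem {r N : ℕ} {x : (ℕ → F[X]) × (ℕ → Bool × Bool)} (hx : x ∈ SO F r N)
    (h : HasP x.1) : flipP x ∈ SO F r N := by
  obtain ⟨hodd, hd⟩ := slotP_spec h
  refine ⟨hx.1, ?_⟩
  intro m
  show ((Function.update x.2 (slotP x.1) (!(x.2 (slotP x.1)).1, (x.2 (slotP x.1)).2) m).1 = true →
      Odd m ∧ (X - 1 : F[X]) ∣ x.1 m) ∧
    ((Function.update x.2 (slotP x.1) (!(x.2 (slotP x.1)).1, (x.2 (slotP x.1)).2) m).2 = true →
      Odd m ∧ (X + 1 : F[X]) ∣ x.1 m)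
  by_cases hm : m = slotP x.1
  · subst hm
    rw [Function.update_self]
    exact ⟨fun _ => ⟨hodd, hd⟩, (hx.2 _).2⟩
  · rw [Function.update_of_ne hm]
    exact hx.2 m

theorem flipM_mem {r N : ℕ} {x : (ℕ → F[X]) × (ℕ → Bool × Bool)} (hx : x ∈ SO F r N)
    (h : HasM x.1) : flipM x ∈ SO F r N := by
  obtain ⟨hodd, hd⟩ := slotM_spec h
  refine ⟨hx.1, ?_⟩
  intro m
  show ((Function.update x.2 (slotM x.1) ((x.2 (slotM x.1)).1, !(x.2 (slotM x.1)).2) m).1 = true →
      Odd m ∧ (X - 1 : F[X]) ∣ x.1 m) ∧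
    ((Function.update x.2 (slotM x.1) ((x.2 (slotM x.1)).1, !(x.2 (slotM x.1)).2) m).2 = true →
      Odd m ∧ (X + 1 : F[X]) ∣ x.1 m)
  by_cases hm : m = slotM x.1
  · subst hm
    rw [Function.update_self]
    exact ⟨(hx.2 _).1, fun _ => ⟨hodd, hd⟩⟩
  · rw [Function.update_of_ne hm]
    exact hx.2 m

end defs

section generic

variable {α : Type*}

theorem ncard_split (A : Set α) (p : α → Prop) (hA : A.Finite) :
    A.ncard = (A ∩ {x | p x}).ncard + (A ∩ {x | ¬ p x}).ncard := by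
  have hU : A = (A ∩ {x | p x}) ∪ (A ∩ {x | ¬ p x}) := by
    ext x
    simp only [Set.mem_union, Set.mem_inter_iff, Set.mem_ofPred_eq]
    tauto
  have hD : Disjoint (A ∩ {x | p x}) (A ∩ {x | ¬ p x}) := by
    rw [Set.disjoint_left]
    intro x h1 h2
    exact h2.2 h1.2
  conv_lhs => rw [hU]
  exact Set.ncard_union_eq hD (hA.subset Set.inter_subset_left) (hA.subset Set.inter_subset_left)

theorem two_le (A B : Set α) (f : α → α) (hf : Function.Injective f) (hB : B.Finite)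
    (hAB : A ⊆ B) (hfB : f '' A ⊆ B) (hD : ∀ x ∈ A, ∀ y ∈ A, x ≠ f y) :
    2 * A.ncard ≤ B.ncard := by
  have hA : A.Finite := hB.subset hAB
  have himg : (f '' A).ncard = A.ncard := Set.ncard_image_of_injective A hf
  have hDis : Disjoint A (f '' A) := by
    rw [Set.disjoint_left]
    rintro x hx ⟨y, hy, hyx⟩
    exact hD x hx y hy hyx.symm
  have h1 := Set.ncard_le_ncard (Set.union_subset hAB hfB) hB
  rw [Set.ncard_union_eq hDis hA (hA.image _), himg] at h1
  omega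

theorem four_le (A B : Set α) (f g : α → α) (hf : Function.Injective f)
    (hg : Function.Injective g) (hB : B.Finite)
    (hAB : A ⊆ B) (hfB : f '' A ⊆ B) (hgB : g '' A ⊆ B) (hfgB : f '' (g '' A) ⊆ B)
    (h1 : ∀ x ∈ A, ∀ y ∈ A, x ≠ f y) (h2 : ∀ x ∈ A, ∀ y ∈ A, x ≠ g y)
    (h3 : ∀ x ∈ A, ∀ y ∈ A, x ≠ f (g y)) (h4 : ∀ x ∈ A, ∀ y ∈ A, f x ≠ g y)
    (h6 : ∀ x ∈ A, ∀ y ∈ A, g x ≠ f (g y)) :
    4 * A.ncard ≤ B.ncard := by
  have hA : A.Finite := hB.subset hAB
  have i1 : (f '' A).ncard = A.ncard := Set.ncard_image_of_injective A hf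
  have i2 : (g '' A).ncard = A.ncard := Set.ncard_image_of_injective A hg
  have i3 : (f '' (g '' A)).ncard = A.ncard := by
    rw [Set.ncard_image_of_injective _ hf, i2]
  have hD1 : Disjoint A (f '' A) := by
    rw [Set.disjoint_left]
    rintro x hx ⟨y, hy, hyx⟩
    exact h1 x hx y hy hyx.symm
  have hD2 : Disjoint (A ∪ f '' A) (g '' A) := by
    rw [Set.disjoint_left]
    rintro x (hx | ⟨a, ha, rfl⟩) ⟨y, hy, hyx⟩
    · exact h2 x hx y hy hyx.symm
    · exact h4 a ha y hy hyx.symm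
  have hD3 : Disjoint ((A ∪ f '' A) ∪ g '' A) (f '' (g '' A)) := by
    rw [Set.disjoint_left]
    rintro x ((hx | ⟨a, ha, rfl⟩) | ⟨a, ha, rfl⟩) ⟨z, ⟨y, hy, rfl⟩, hyx⟩
    · exact h3 x hx y hy hyx.symm
    · exact h2 a ha y hy (hf hyx.symm)
    · exact h6 a ha y hy hyx.symm
  have hsub : ((A ∪ f '' A) ∪ g '' A) ∪ f '' (g '' A) ⊆ B :=
    Set.union_subset (Set.union_subset (Set.union_subset hAB hfB) hgB) hfgB
  have hle := Set.ncard_le_ncard hsub hB
  rw [Set.ncard_union_eq hD3 (((hA.union (hA.image _)).union (hA.image _)))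
      ((hA.image _).image _),
    Set.ncard_union_eq hD2 (hA.union (hA.image _)) (hA.image _),
    Set.ncard_union_eq hD1 hA (hA.image _), i1, i2, i3] at hle
  omega

end generic

end PARITY2

open PARITY2 in
theorem PARITY2.four_card_le {F : Type u} [Field F] (r N : ℕ)
    (R : Set ((ℕ → F[X]) × (ℕ → Bool × Bool))) (hR : R ⊆ SO F r N) (hfin : (SO F r N).Finite)
    (hp : ∀ x ∈ R, ∀ x' ∈ R, x.1 = x'.1 → Even (nsqp r x.2 + nsqp r x'.2))
    (hm : ∀ x ∈ R, ∀ x' ∈ R, x.1 = x'.1 → Even (nsqm r x.2 + nsqm r x'.2)) :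
    4 * Nat.card R ≤ Nat.card (SO F r N) + Nat.card (SOm F r N) + Nat.card (SOp F r N) +
      Nat.card (SOfree F r N) := by
  classical
  rw [Nat.card_coe_set_eq, Nat.card_coe_set_eq, Nat.card_coe_set_eq, Nat.card_coe_set_eq,
    Nat.card_coe_set_eq]
  set S := SO F r N with hS
  have hRfin : R.Finite := hfin.subset hR
  let P : (ℕ → F[X]) × (ℕ → Bool × Bool) → Prop := fun x => HasP x.1
  let M : (ℕ → F[X]) × (ℕ → Bool × Bool) → Prop := fun x => HasM x.1
  have hRsplit : R.ncard = ((R ∩ {x | P x}) ∩ {x | M x}).ncard +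
      ((R ∩ {x | P x}) ∩ {x | ¬ M x}).ncard + ((R ∩ {x | ¬ P x}) ∩ {x | M x}).ncard +
      ((R ∩ {x | ¬ P x}) ∩ {x | ¬ M x}).ncard := by
    rw [ncard_split R P hRfin,
      ncard_split (R ∩ {x | P x}) M (hRfin.subset Set.inter_subset_left),
      ncard_split (R ∩ {x | ¬ P x}) M (hRfin.subset Set.inter_subset_left)]
    omega
  have hSsplit : S.ncard = ((S ∩ {x | P x}) ∩ {x | M x}).ncard +
      ((S ∩ {x | P x}) ∩ {x | ¬ M x}).ncard + ((S ∩ {x | ¬ P x}) ∩ {x | M x}).ncard +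
      ((S ∩ {x | ¬ P x}) ∩ {x | ¬ M x}).ncard := by
    rw [ncard_split S P hfin,
      ncard_split (S ∩ {x | P x}) M (hfin.subset Set.inter_subset_left),
      ncard_split (S ∩ {x | ¬ P x}) M (hfin.subset Set.inter_subset_left)]
    omega
  -- the pieces
  set Rbb := (R ∩ {x | P x}) ∩ {x | M x} with hRbb
  set Rpp := (R ∩ {x | P x}) ∩ {x | ¬ M x} with hRpp
  set Rmm := (R ∩ {x | ¬ P x}) ∩ {x | M x} with hRmm
  set Rnn := (R ∩ {x | ¬ P x}) ∩ {x | ¬ M x} with hRnn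
  set Sbb := (S ∩ {x | P x}) ∩ {x | M x} with hSbb
  set Spp := (S ∩ {x | P x}) ∩ {x | ¬ M x} with hSpp
  set Smm := (S ∩ {x | ¬ P x}) ∩ {x | M x} with hSmm
  set Snn := (S ∩ {x | ¬ P x}) ∩ {x | ¬ M x} with hSnn
  have hSbbfin : Sbb.Finite := (hfin.subset Set.inter_subset_left).subset Set.inter_subset_left
  have hSppfin : Spp.Finite := (hfin.subset Set.inter_subset_left).subset Set.inter_subset_left
  have hSmmfin : Smm.Finite := (hfin.subset Set.inter_subset_left).subset Set.inter_subset_left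
  have hSnnfin : Snn.Finite := (hfin.subset Set.inter_subset_left).subset Set.inter_subset_left
  -- membership helpers
  have hTmem : ∀ x ∈ R, x.1 ∈ T F r N := fun x hx => (hR hx).1.1
  -- the basic parity contradictions
  have cP : ∀ x ∈ R, ∀ y ∈ R, HasP y.1 → x.1 = y.1 → nsqp r x.2 = nsqp r (flipP y).2 → False := by
    intro x hx y hy hPy h1 h2
    have hpe := hp x hx y hy h1
    have hodd := nsqp_flipP_odd (r := r) y (slotP_mem (hTmem y hy) hPy)
    rw [h2] at hpe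
    exact (Nat.not_even_iff_odd.mpr hodd) hpe
  have cM : ∀ x ∈ R, ∀ y ∈ R, HasM y.1 → x.1 = y.1 → nsqm r x.2 = nsqm r (flipM y).2 → False := by
    intro x hx y hy hMy h1 h2
    have hme := hm x hx y hy h1
    have hodd := nsqm_flipM_odd (r := r) y (slotM_mem (hTmem y hy) hMy)
    rw [h2] at hme
    exact (Nat.not_even_iff_odd.mpr hodd) hme
  -- (BB)
  have hBB : 4 * Rbb.ncard ≤ Sbb.ncard := by
    apply four_le Rbb Sbb flipP flipM flipP_injective flipM_injective hSbbfin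
    · rintro x ⟨⟨hx, hxP⟩, hxM⟩
      exact ⟨⟨hR hx, hxP⟩, hxM⟩
    · rintro _ ⟨x, ⟨⟨hx, hxP⟩, hxM⟩, rfl⟩
      exact ⟨⟨flipP_mem (hR hx) hxP, hxP⟩, hxM⟩
    · rintro _ ⟨x, ⟨⟨hx, hxP⟩, hxM⟩, rfl⟩
      exact ⟨⟨flipM_mem (hR hx) hxM, hxP⟩, hxM⟩
    · rintro _ ⟨_, ⟨x, ⟨⟨hx, hxP⟩, hxM⟩, rfl⟩, rfl⟩
      exact ⟨⟨flipP_mem (flipM_mem (hR hx) hxM) hxP, hxP⟩, hxM⟩
    · rintro x ⟨⟨hx, -⟩, -⟩ y ⟨⟨hy, hyP⟩, -⟩ h
      exact cP x hx y hy hyP (by rw [h, flipP_fst]) (by rw [← h])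
    · rintro x ⟨⟨hx, -⟩, -⟩ y ⟨⟨hy, -⟩, hyM⟩ h
      exact cM x hx y hy hyM (by rw [h, flipM_fst]) (by rw [← h])
    · rintro x ⟨⟨hx, -⟩, -⟩ y ⟨⟨hy, hyP⟩, hyM⟩ h
      -- `x = flipP (flipM y)`: the `(-1)`-parity differs
      have e1 : x.1 = y.1 := by rw [h, flipP_fst, flipM_fst]
      have hPm : HasP (flipM y).1 := hyP
      have hTm : (flipM y).1 ∈ T F r N := hTmem y hy
      have e2 : nsqm r x.2 = nsqm r (flipM y).2 := by
        rw [h, nsqm_flipP (flipM y) (slotP_mem hTm hPm)]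
      exact cM x hx y hy hyM e1 e2
    · rintro x ⟨⟨hx, hxP⟩, -⟩ y ⟨⟨hy, -⟩, hyM⟩ h
      -- `flipP x = flipM y`: the `(+1)`-parity differs
      have e1 : y.1 = x.1 := by
        have := congrArg Prod.fst h
        rw [flipP_fst, flipM_fst] at this
        exact this.symm
      have e2 : nsqp r y.2 = nsqp r (flipP x).2 := by
        rw [h, nsqp_flipM y (slotM_mem (hTmem y hy) hyM)]
      exact cP y hy x hx hxP e1 e2
    · rintro x ⟨⟨hx, -⟩, hxM⟩ y ⟨⟨hy, hyP⟩, hyM⟩ h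
      -- `flipM x = flipP (flipM y)`: the `(+1)`-parity differs
      have e1 : x.1 = y.1 := by
        have := congrArg Prod.fst h
        rw [flipP_fst, flipM_fst, flipM_fst] at this
        exact this
      have hPm : HasP (flipM y).1 := hyP
      have hTm : (flipM y).1 ∈ T F r N := hTmem y hy
      have e2 : nsqp r x.2 = nsqp r (flipP y).2 := by
        have a1 : nsqp r (flipM x).2 = nsqp r x.2 := nsqp_flipM x (slotM_mem (hTmem x hx) hxM)
        have a2 := nsqp_flipP_odd (r := r) (flipM y) (slotP_mem hTm hPm)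
        have a3 : nsqp r (flipM y).2 = nsqp r y.2 := nsqp_flipM y (slotM_mem (hTmem y hy) hyM)
        have a4 := nsqp_flipP_odd (r := r) y (slotP_mem (hTmem y hy) hyP)
        have hpe := hp x hx y hy e1
        rw [← h, a1, a3] at a2
        exact absurd hpe (Nat.not_even_iff_odd.mpr a2)
      exact cP x hx y hy hyP e1 e2
  -- (PP)
  have hPP : 2 * Rpp.ncard ≤ Spp.ncard := by
    apply two_le Rpp Spp flipP flipP_injective hSppfin
    · rintro x ⟨⟨hx, hxP⟩, hxM⟩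
      exact ⟨⟨hR hx, hxP⟩, hxM⟩
    · rintro _ ⟨x, ⟨⟨hx, hxP⟩, hxM⟩, rfl⟩
      exact ⟨⟨flipP_mem (hR hx) hxP, hxP⟩, hxM⟩
    · rintro x ⟨⟨hx, -⟩, -⟩ y ⟨⟨hy, hyP⟩, -⟩ h
      exact cP x hx y hy hyP (by rw [h, flipP_fst]) (by rw [← h])
  -- (MM)
  have hMM : 2 * Rmm.ncard ≤ Smm.ncard := by
    apply two_le Rmm Smm flipM flipM_injective hSmmfin
    · rintro x ⟨⟨hx, hxP⟩, hxM⟩
      exact ⟨⟨hR hx, hxP⟩, hxM⟩
    · rintro _ ⟨x, ⟨⟨hx, hxP⟩, hxM⟩, rfl⟩
      exact ⟨⟨flipM_mem (hR hx) hxM, hxP⟩, hxM⟩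
    · rintro x ⟨⟨hx, -⟩, -⟩ y ⟨⟨hy, -⟩, hyM⟩ h
      exact cM x hx y hy hyM (by rw [h, flipM_fst]) (by rw [← h])
  -- (NN)
  have hNN : Rnn.ncard ≤ Snn.ncard := by
    apply Set.ncard_le_ncard _ hSnnfin
    rintro x ⟨⟨hx, hxP⟩, hxM⟩
    exact ⟨⟨hR hx, hxP⟩, hxM⟩
  -- `SOm ⊇ Spp ∪ Snn`, `SOp ⊇ Smm ∪ Snn`
  have hSOmfin : (SOm F r N).Finite := hfin.subset (fun x hx => hx.1)
  have hSOpfin : (SOp F r N).Finite := hfin.subset (fun x hx => hx.1)
  have hSOm : Spp.ncard + Snn.ncard ≤ (SOm F r N).ncard := by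
    have hD : Disjoint Spp Snn := by
      rw [Set.disjoint_left]
      intro x h1 h2
      exact h2.1.2 h1.1.2
    rw [← Set.ncard_union_eq hD hSppfin hSnnfin]
    apply Set.ncard_le_ncard _ hSOmfin
    rintro x (hx | hx)
    · exact ⟨hx.1.1, fun m hmo hd => hx.2 ⟨m, hmo, hd⟩⟩
    · exact ⟨hx.1.1, fun m hmo hd => hx.2 ⟨m, hmo, hd⟩⟩
  have hSOp : Smm.ncard + Snn.ncard ≤ (SOp F r N).ncard := by
    have hD : Disjoint Smm Snn := by
      rw [Set.disjoint_left]
      intro x h1 h2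
      exact h2.2 h1.2
    rw [← Set.ncard_union_eq hD hSmmfin hSnnfin]
    apply Set.ncard_le_ncard _ hSOpfin
    rintro x (hx | hx)
    · exact ⟨hx.1.1, fun m hmo hd => hx.1.2 ⟨m, hmo, hd⟩⟩
    · exact ⟨hx.1.1, fun m hmo hd => hx.1.2 ⟨m, hmo, hd⟩⟩
  -- no slot: all signs false
  have hfalse : ∀ x ∈ Snn, x.2 = fun _ => (false, false) := by
    intro x hx
    funext m
    have h1 := (hx.1.1.2 m).1
    have h2 := (hx.1.1.2 m).2
    have e1 : (x.2 m).1 = false := by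
      by_contra hne
      have ht : (x.2 m).1 = true := by simpa using hne
      obtain ⟨ho, hd⟩ := h1 ht
      exact hx.1.2 ⟨m, ho, hd⟩
    have e2 : (x.2 m).2 = false := by
      by_contra hne
      have ht : (x.2 m).2 = true := by simpa using hne
      obtain ⟨ho, hd⟩ := h2 ht
      exact hx.2 ⟨m, ho, hd⟩
    exact Prod.ext e1 e2
  have hFfin : (SOfree F r N).Finite := by
    apply (hfin.image Prod.fst).subset
    intro t ht
    refine ⟨(t, fun _ => (false, false)), ?_, rfl⟩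
    refine ⟨ht.1, ?_⟩
    intro m
    simp
  have hFree : Rnn.ncard ≤ (SOfree F r N).ncard := by
    have hinj : Set.InjOn Prod.fst Rnn := by
      intro x hx y hy hxy
      have hx' : x ∈ Snn := ⟨⟨hR hx.1.1, hx.1.2⟩, hx.2⟩
      have hy' : y ∈ Snn := ⟨⟨hR hy.1.1, hy.1.2⟩, hy.2⟩
      exact Prod.ext hxy ((hfalse x hx').trans (hfalse y hy').symm)
    rw [← hinj.ncard_image]
    apply Set.ncard_le_ncard _ hFfin
    rintro t ⟨x, hx, rfl⟩
    refine ⟨(hR hx.1.1).1, ?_⟩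
    rintro ⟨m, hmo, hd | hd⟩
    · exact hx.1.2 ⟨m, hmo, hd⟩
    · exact hx.2 ⟨m, hmo, hd⟩
  omega

end Cfsg.Agent.S2560P
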