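import Mathlib
import Cfsg.Agent.Helper26.S3911Defs
import Cfsg.Agent.Helper17.S3913Defs

/-! Board `s3913pieces` (S3913), rows OVER and COP (core). -/

set_option autoImplicit false

namespace Cfsg.Agent.S3913P

open Cfsg.Agent.S3911P

/-- naturality of conjugation under a homomorphism. -/
theorem OVER_aux_map_conj {X Y : Type*} [Group X] [Group Y] (f : X →* Y) (A : Subgroup X) (g : X) :
    (A.map (MulAut.conj g).toMonoidHom).map f = (A.map f).map (MulAut.conj (f g)).toMonoidHom := by
  rw [Subgroup.map_map, Subgroup.map_map]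
  congr 1
  ext x
  simp [MulAut.conj_apply]

/-- a normal subgroup inside `A` lies in every conjugate of `A`. -/
theorem OVER_aux_le_conj {X : Type*} [Group X] (N : Subgroup X) [hN : N.Normal] (A : Subgroup X)
    (hA : N ≤ A) (g : X) : N ≤ A.map (MulAut.conj g).toMonoidHom := by
  intro n hn
  refine ⟨g⁻¹ * n * g, hA ?_, ?_⟩
  · have := hN.conj_mem n hn g⁻¹
    simpa using this
  · simp [MulAut.conj_apply, mul_assoc]

/-- two subgroups containing `N` with the same image in `X ⧸ N` are equal. -/
theorem OVER_aux_eq_of_map_eq {X : Type*} [Group X] (N : Subgroup X) [N.Normal] (A B : Subgroup X)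
    (hA : N ≤ A) (hB : N ≤ B)
    (h : A.map (QuotientGroup.mk' N) = B.map (QuotientGroup.mk' N)) : A = B := by
  have h1 := congrArg (Subgroup.comap (QuotientGroup.mk' N)) h
  rw [Subgroup.comap_map_eq, Subgroup.comap_map_eq, QuotientGroup.ker_mk', sup_eq_left.2 hA,
    sup_eq_left.2 hB] at h1
  exact h1

/-- OVER (S/M): if `X ⧸ N` has `SProp`, two subgroups of equal order containing `N` are conjugate. -/
theorem OVER {X : Type*} [Group X] [Finite X] (N : Subgroup X) [N.Normal] (hq : SProp (X ⧸ N))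
    (A B : Subgroup X) (hA : N ≤ A) (hB : N ≤ B) (h : Nat.card ↥A = Nat.card ↥B) :
    ∃ g : X, B = A.map (MulAut.conj g).toMonoidHom := by
  classical
  have hsurj : Function.Surjective (QuotientGroup.mk' N) := QuotientGroup.mk'_surjective N
  have hkA : (QuotientGroup.mk' N).ker ≤ A := by rw [QuotientGroup.ker_mk']; exact hA
  have hkB : (QuotientGroup.mk' N).ker ≤ B := by rw [QuotientGroup.ker_mk']; exact hB
  have hiA : (A.map (QuotientGroup.mk' N)).index = A.index := Subgroup.index_map_eq A hsurj hkA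
  have hiB : (B.map (QuotientGroup.mk' N)).index = B.index := Subgroup.index_map_eq B hsurj hkB
  have hindex : A.index = B.index := by
    have h1 := Subgroup.card_mul_index A
    have h2 := Subgroup.card_mul_index B
    rw [h] at h1
    have h3 : Nat.card ↥B * A.index = Nat.card ↥B * B.index := by rw [h1, h2]
    exact Nat.eq_of_mul_eq_mul_left Nat.card_pos h3
  have hcard : Nat.card ↥(A.map (QuotientGroup.mk' N)) = Nat.card ↥(B.map (QuotientGroup.mk' N)) := by
    have h1 := Subgroup.card_mul_index (A.map (QuotientGroup.mk' N))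
    have h2 := Subgroup.card_mul_index (B.map (QuotientGroup.mk' N))
    rw [hiA] at h1
    rw [hiB, ← hindex] at h2
    have hpos : 0 < A.index := Nat.pos_of_ne_zero (Subgroup.index_ne_zero_of_finite)
    have h3 : Nat.card ↥(A.map (QuotientGroup.mk' N)) * A.index
        = Nat.card ↥(B.map (QuotientGroup.mk' N)) * A.index := by rw [h1, h2]
    exact Nat.eq_of_mul_eq_mul_right hpos h3
  obtain ⟨gb, hgb⟩ := hq _ _ hcard
  obtain ⟨g, rfl⟩ := hsurj gb
  refine ⟨g, ?_⟩
  apply OVER_aux_eq_of_map_eq N B _ hB (OVER_aux_le_conj N A hA g)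
  rw [hgb, OVER_aux_map_conj]

/-- COP core: the statement of SZC for `X`, `N` as a hypothesis. -/
theorem COP_aux_core {X : Type*} [Group X] [Finite X] (N : Subgroup X) [N.Normal]
    (hSZC : ∀ A B : Subgroup X, Nat.card ↥A = Nat.card ↥B → (Nat.card ↥A).Coprime (Nat.card ↥N) →
      A ⊔ N = B ⊔ N → ∃ g : X, B = A.map (MulAut.conj g).toMonoidHom)
    (hq : SProp (X ⧸ N)) (A B : Subgroup X) (h : Nat.card ↥A = Nat.card ↥B)
    (hcop : (Nat.card ↥A).Coprime (Nat.card ↥N)) :
    ∃ g : X, B = A.map (MulAut.conj g).toMonoidHom := by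
  classical
  have hsurj : Function.Surjective (QuotientGroup.mk' N) := QuotientGroup.mk'_surjective N
  -- the projection is injective on a subgroup of order prime to |N|
  have hinj : ∀ C : Subgroup X, (Nat.card ↥C).Coprime (Nat.card ↥N) →
      Nat.card ↥(C.map (QuotientGroup.mk' N)) = Nat.card ↥C := by
    intro C hC
    have hbot : C ⊓ N = ⊥ := (Subgroup.disjoint_of_coprime_natCard hC).eq_bot
    have hinjOn : Set.InjOn (QuotientGroup.mk' N) (C : Set X) := by
      intro x hx y hy hxy
      have h1 : x⁻¹ * y ∈ N := by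
        have := QuotientGroup.eq.1 hxy
        exact this
      have h2 : x⁻¹ * y ∈ C ⊓ N := ⟨C.mul_mem (C.inv_mem hx) hy, h1⟩
      rw [hbot, Subgroup.mem_bot] at h2
      exact inv_mul_eq_one.1 h2
    have h3 : ((C.map (QuotientGroup.mk' N) : Subgroup (X ⧸ N)) : Set (X ⧸ N))
        = (QuotientGroup.mk' N) '' (C : Set X) := Subgroup.coe_map _ _
    have h4 := Nat.card_image_of_injOn hinjOn
    have h5 : Nat.card ↥(C.map (QuotientGroup.mk' N))
        = Nat.card ((QuotientGroup.mk' N) '' (C : Set X)) := by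
      rw [← h3]
      rfl
    rw [h5, h4]
    rfl
  have hcopB : (Nat.card ↥B).Coprime (Nat.card ↥N) := by rw [← h]; exact hcop
  have hcard : Nat.card ↥(A.map (QuotientGroup.mk' N)) = Nat.card ↥(B.map (QuotientGroup.mk' N)) := by
    rw [hinj A hcop, hinj B hcopB, h]
  obtain ⟨gb, hgb⟩ := hq _ _ hcard
  obtain ⟨g, rfl⟩ := hsurj gb
  set A' : Subgroup X := A.map (MulAut.conj g).toMonoidHom with hA'
  have hmap : A'.map (QuotientGroup.mk' N) = B.map (QuotientGroup.mk' N) := by
    rw [hgb, hA', OVER_aux_map_conj]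
  have hsup : A' ⊔ N = B ⊔ N := by
    have h1 := congrArg (Subgroup.comap (QuotientGroup.mk' N)) hmap
    rw [Subgroup.comap_map_eq, Subgroup.comap_map_eq, QuotientGroup.ker_mk'] at h1
    exact h1
  have hcardA' : Nat.card ↥A' = Nat.card ↥A :=
    Subgroup.card_map_of_injective (MulAut.conj g).injective
  obtain ⟨k, hk⟩ := hSZC A' B (by rw [hcardA', h]) (by rw [hcardA']; exact hcop) hsup
  refine ⟨k * g, ?_⟩
  rw [hk, hA', Subgroup.map_map]
  congr 1
  ext x
  simp [MulAut.conj_apply, mul_assoc]

end Cfsg.Agent.S3913P
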