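import Mathlib
import Cfsg.Agent.Helper25.S3913OVER
import Cfsg.Agent.Helper21.S3913SZC

/-! Board `s3913pieces` (S3913), row COP. -/

set_option autoImplicit false

namespace Cfsg.Agent.S3913P

open Cfsg.Agent.S3911P

/-- COP (M; from SZC): if `X ⧸ N` has `SProp`, two subgroups of equal order prime to `|N|` are conjugate. -/
theorem COP {X : Type*} [Group X] [Finite X] (hsol : Group.IsSolvable X) (N : Subgroup X) [N.Normal]
    (hq : SProp (X ⧸ N)) (A B : Subgroup X) (h : Nat.card ↥A = Nat.card ↥B)
    (hcop : (Nat.card ↥A).Coprime (Nat.card ↥N)) :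
    ∃ g : X, B = A.map (MulAut.conj g).toMonoidHom :=
  COP_aux_core N (fun A' B' h' hcop' hsup => SZC hsol N A' B' h' hcop' hsup) hq A B h hcop

end Cfsg.Agent.S3913P
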