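import Mathlib
import Cfsg.Prelude.Def_RootSubgroups

set_option autoImplicit false

/-!
# Root involutions: basic calculus and the key local lemma on product partners
-/

namespace Cfsg.Agent.Helper25.RootInv

variable {G : Type*} [Group G] {D : Set G}

theorem orderOf_conj' (g x : G) : orderOf (g * x * g⁻¹) = orderOf x := by
  have := orderOf_injective (MulAut.conj g).toMonoidHom (MulAut.conj g).injective x
  simpa using this

theorem orderOf_mul_comm' (a b : G) : orderOf (a * b) = orderOf (b * a) := by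
  have h : b * a = b * (a * b) * b⁻¹ := by group
  rw [h, orderOf_conj']

theorem odd_dvd_two_pow {n k : ℕ} (hn : Odd n) (h : n ∣ 2 ^ k) : n = 1 := by
  have hc : Nat.Coprime n (2 ^ k) := Nat.Coprime.pow_right k (Nat.coprime_two_right.mpr hn)
  exact Nat.Coprime.eq_one_of_dvd hc h

theorem eq_one_of_odd_of_pow {x : G} {k : ℕ} (hn : Odd (orderOf x)) (h : x ^ (2 ^ k) = 1) :
    x = 1 := by
  have := odd_dvd_two_pow hn (orderOf_dvd_of_pow_eq_one h)
  exact orderOf_eq_one_iff.mp this

section
variable (hD : Cfsg.IsRootInvolutionSet D)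
include hD

theorem sq_one {d : G} (hd : d ∈ D) : d * d = 1 := by
  have h := hD.orderOf_eq d hd
  have := pow_orderOf_eq_one d
  rw [h, pow_two] at this
  exact this

theorem inv_eq {d : G} (hd : d ∈ D) : d⁻¹ = d := inv_eq_of_mul_eq_one_left (sq_one hD hd)

theorem ne_one {d : G} (hd : d ∈ D) : d ≠ 1 := by
  intro h
  have := hD.orderOf_eq d hd
  rw [h, orderOf_one] at this
  omega

theorem conj_mem' {d : G} (hd : d ∈ D) (g : G) : g * d * g⁻¹ ∈ D := hD.conj_mem d hd g

omit hD in
theorem adj_symm {a b : G} (h : Cfsg.OddAdj D a b) : Cfsg.OddAdj D b a := by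
  obtain ⟨ha, hb, hne, ho⟩ := h
  exact ⟨hb, ha, hne.symm, by rwa [orderOf_mul_comm']⟩

omit hD in
theorem adj_conj {a b : G} (h : Cfsg.OddAdj D a b) (hc : ∀ d ∈ D, ∀ g : G, g * d * g⁻¹ ∈ D) (g : G) :
    Cfsg.OddAdj D (g * a * g⁻¹) (g * b * g⁻¹) := by
  obtain ⟨ha, hb, hne, ho⟩ := h
  refine ⟨hc a ha g, hc b hb g, ?_, ?_⟩
  · intro h
    apply hne
    have := congrArg (fun x => g⁻¹ * x * g) h
    simpa [mul_assoc] using this
  · have : g * a * g⁻¹ * (g * b * g⁻¹) = g * (a * b) * g⁻¹ := by group
    rw [this, orderOf_conj']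
    exact ho

/-- Lemma (i): if `s` is odd to `e`, and `d` commutes with `e` with `d e ∈ D`,
then `s` does not commute with `d`. -/
theorem not_commute_of_odd {s d e : G} (hs : s ∈ D) (hd : d ∈ D) (he : e ∈ D)
    (hde : d * e = e * d) (hg : d * e ∈ D) (hodd : Odd (orderOf (e * s))) (hne : s ≠ e) :
    s * d ≠ d * s := by
  intro hsd
  have hss := sq_one hD hs
  have hdd := sq_one hD hd
  have hee := sq_one hD he
  have hodd' : Odd (orderOf (s * e)) := by rwa [orderOf_mul_comm']
  have hse_ne : s * e ≠ 1 := by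
    intro h
    apply hne
    have : s = e⁻¹ := eq_inv_of_mul_eq_one_left h
    rw [this, inv_eq hD he]
  have hcomm : Commute d (s * e) := by
    show d * (s * e) = s * e * d
    rw [← mul_assoc, ← hsd, mul_assoc, hde, mul_assoc]
  have hprod : s * (d * e) = d * (s * e) := by
    rw [← mul_assoc, hsd, mul_assoc]
  rcases hD.pair s hs (d * e) hg with h | h | ⟨h, -⟩
  · -- commute
    rw [hprod] at h
    have h2 : s * e = e * s := by
      have : d * (s * e) = d * (e * s) := by rw [h]; simp [mul_assoc]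
      exact mul_left_cancel this
    apply hse_ne
    have h3 : (s * e) ^ (2 ^ 1) = 1 := by
      have : (s * e) ^ (2 ^ 1) = s * e * (s * e) := by simp [pow_two]
      rw [this]
      calc s * e * (s * e) = s * e * (e * s) := by rw [h2]
        _ = s * (e * e) * s := by simp [mul_assoc]
        _ = 1 := by rw [hee, mul_one, hss]
    exact eq_one_of_odd_of_pow hodd' h3
  · -- odd
    rw [hprod] at h
    set k := orderOf (s * e) with hk
    have hpow : (d * (s * e)) ^ k = d := by
      rw [hcomm.mul_pow, pow_orderOf_eq_one, mul_one]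
      obtain ⟨m, hm⟩ := hodd'
      rw [hm, pow_succ, pow_mul, pow_two, hdd, one_pow, one_mul]
    have h2 : orderOf d ∣ orderOf (d * (s * e)) := by
      conv_lhs => rw [← hpow]
      exact orderOf_pow_dvd k
    rw [hD.orderOf_eq d hd] at h2
    obtain ⟨m, hm⟩ := h
    omega
  · -- order 4
    rw [hprod] at h
    have h4 : (d * (s * e)) ^ 4 = 1 := by rw [← h]; exact pow_orderOf_eq_one _
    rw [hcomm.mul_pow] at h4
    have hd4 : d ^ 4 = 1 := by
      have : d ^ 4 = (d * d) * (d * d) := by simp [pow_succ, mul_assoc]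
      rw [this, hdd, one_mul]
    rw [hd4, one_mul] at h4
    apply hse_ne
    exact eq_one_of_odd_of_pow (k := 2) hodd' (by simpa using h4)

end

end Cfsg.Agent.Helper25.RootInv
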