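import Mathlib
import Cfsg.Agent.Helper27.Suz2Defs

set_option autoImplicit false

/-! SUZ2 board, piece F4A: blueprint F4 (sq), (centr), hom. -/

namespace Cfsg.Agent.SUZ2P

open Cfsg.Agent.Helper17.Suz2 Cfsg.Agent.SUZ2P

universe u v

variable {K : Type v} {P : Type u} [Group K] [Group P] [MulDistribMulAction K P]

theorem F4A_aux_memOm (hS : Star K P) {x : P} : x ∈ Om P ↔ x * x = 1 := by
  have := hS.fin
  exact mem_Om_iff hS.pgrp hS.reg

theorem F4A_aux_Z2sq (hS : Star K P) (hna : NonAb P) {y : P} (hy : y ∈ Z2 P) :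
    y * y ∈ Om P := by
  have := hS.fin
  have hc : y * y ∈ Subgroup.center P := by
    rw [Subgroup.mem_center_iff]
    intro g
    have h1 : cm (y * y) g = cm y g * cm y g := cm_mul_left (hy g).1
    have h2 : cm (y * y) g = 1 := by rw [h1]; exact (hy g).2
    exact ((cm_eq_one_iff _ _).1 h2).symm
  refine ⟨hc, ?_⟩
  obtain ⟨x, y', hxy⟩ := hna
  exact center_sq_aux K hS.comm (Nat.card P) P rfl hS.pgrp hS.reg ⟨x, y', hxy⟩ _ hc

theorem F4sq (hS : Star K P) (hna : NonAb P) {M : Subgroup P} (hM : KMin K (Om P) M)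
    (hMT : M ≤ Z2 P) : ∀ z ∈ Om P, ∃ m ∈ M, m * m = z := by
  intro z hz
  by_cases hz1 : z = 1
  · exact ⟨1, M.one_mem, by rw [hz1, mul_one]⟩
  obtain ⟨m0, hm0M, hm0Z⟩ := SetLike.exists_of_lt hM.lt
  have h0 : m0 * m0 ∈ Om P := F4A_aux_Z2sq hS hna (hMT hm0M)
  have h01 : m0 * m0 ≠ 1 := fun h => hm0Z ((F4A_aux_memOm hS).2 h)
  obtain ⟨k, hk, -⟩ := hS.reg (m0 * m0) z h01 h0.2 hz1 hz.2
  exact ⟨k • m0, hM.invA k m0 hm0M, by rw [← smul_mul', hk]⟩

theorem F4centr (hS : Star K P) (hna : NonAb P) {M : Subgroup P} (hM : KMin K (Om P) M)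
    (hMT : M ≤ Z2 P) {g : P} (hg : ∀ m ∈ M, m * g = g * m) (hgg : g * g ∈ Om P) : g ∈ M := by
  obtain ⟨m, hmM, hmm⟩ := F4sq hS hna hM hMT (g * g) hgg
  have hc := hg m hmM
  have hc' : m⁻¹ * g = g * m⁻¹ := by
    calc m⁻¹ * g = m⁻¹ * (g * m) * m⁻¹ := by group
      _ = m⁻¹ * (m * g) * m⁻¹ := by rw [hc]
      _ = g * m⁻¹ := by group
  have h1 : (g * m⁻¹) * (g * m⁻¹) = 1 := by
    calc (g * m⁻¹) * (g * m⁻¹) = g * (m⁻¹ * g) * m⁻¹ := by group
      _ = g * (g * m⁻¹) * m⁻¹ := by rw [hc']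
      _ = (g * g) * (m * m)⁻¹ := by group
      _ = 1 := by rw [hmm, mul_inv_cancel]
  have h2 : g * m⁻¹ ∈ Om P := (F4A_aux_memOm hS).2 h1
  have h3 : g * m⁻¹ ∈ M := hM.lt.le h2
  have : g = g * m⁻¹ * m := by group
  rw [this]; exact M.mul_mem h3 hmM

theorem F4hom {M : Subgroup P} (hMT : M ≤ Z2 P) (g h : P) :
    ∀ m ∈ M, m * (g * g) = (g * g) * m ∧ m * cm g h = cm g h * m := by
  intro m hm
  have hmT : ∀ x : P, cm m x ∈ Om P := hMT hm
  have hmul : ∀ x y : P, cm m (x * y) = cm m x * cm m y := fun x y => cm_mul_right (hmT y).1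
  have hinv : ∀ x : P, cm m x⁻¹ = cm m x := by
    intro x
    have h1 : cm m (x * x⁻¹) = cm m x * cm m x⁻¹ := hmul x x⁻¹
    have h2 : cm m (x * x⁻¹) = 1 := by rw [mul_inv_cancel]; unfold cm; group
    have h3 : cm m x * cm m x⁻¹ = cm m x * cm m x := by rw [← h1, h2, (hmT x).2]
    exact mul_left_cancel h3
  constructor
  · rw [← cm_eq_one_iff, hmul]; exact (hmT g).2
  · rw [← cm_eq_one_iff]
    have e : cm g h = g * h * g⁻¹ * h⁻¹ := rfl
    rw [e, hmul, hmul, hmul, hinv, hinv]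
    have hc : cm m h * cm m g = cm m g * cm m h := Subgroup.mem_center_iff.1 (hmT g).1 _
    calc cm m g * cm m h * cm m g * cm m h = cm m g * (cm m h * cm m g) * cm m h := by group
      _ = cm m g * (cm m g * cm m h) * cm m h := by rw [hc]
      _ = (cm m g * cm m g) * (cm m h * cm m h) := by group
      _ = 1 := by rw [(hmT g).2, (hmT h).2, one_mul]

end Cfsg.Agent.SUZ2P
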