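import Mathlib
import Cfsg.Agent.Helper27.Suz2Defs
import Cfsg.Agent.Helper25.SUZ2F4A

set_option autoImplicit false

/-! SUZ2 board, piece F4B: blueprint F4 (a), (b). -/

namespace Cfsg.Agent.SUZ2P

open Cfsg.Agent.Helper17.Suz2 Cfsg.Agent.SUZ2P

universe u v

variable {K : Type v} {P : Type u} [Group K] [Group P] [MulDistribMulAction K P]

/-- A subgroup `C` in which every element with square in `Om P` lies in `Om P` is inside `Om P`. -/
theorem F4B_aux_descent (hS : Star K P) (C : Subgroup P)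
    (hstep : ∀ x ∈ C, x * x ∈ Om P → x ∈ Om P) : C ≤ Om P := by
  have key : ∀ j : ℕ, ∀ x ∈ C, x ^ (2 ^ j) ∈ Om P → x ∈ Om P := by
    intro j
    induction j with
    | zero =>
      intro x _ hx
      simpa using hx
    | succ j ih =>
      intro x hxC hx
      apply hstep x hxC
      apply ih (x * x) (C.mul_mem hxC hxC)
      rw [← pow_two, ← pow_mul, ← pow_succ']
      exact hx
  intro x hxC
  obtain ⟨j, hj⟩ := hS.pgrp x
  exact key j x hxC (by rw [hj]; exact (Om P).one_mem)

theorem F4B_aux_contra (h : MinCE K P) (C : Subgroup P)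
    (hstep : ∀ x ∈ C, x * x ∈ Om P → x ∈ Om P) (hsq : ∀ g : P, g * g ∈ C)
    (hcm : ∀ g g' : P, cm g g' ∈ C) : False :=
  h.notH ⟨fun x => F4B_aux_descent h.star C hstep (hsq x),
    fun x y => F4B_aux_descent h.star C hstep (hcm x y)⟩

/-- the centralizer of a `K`-invariant subgroup is `K`-invariant -/
theorem F4B_aux_centInv {M : Subgroup P} (hM : KInv K M) :
    KInv K (Subgroup.centralizer (M : Set P)) := by
  intro k x hx
  rw [Subgroup.mem_centralizer_iff] at hx ⊢
  intro m hm
  have h1 : k⁻¹ • m ∈ M := hM k⁻¹ m hm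
  have h2 := hx _ h1
  have h3 := congrArg (fun t => k • t) h2
  simp only [smul_mul', smul_inv_smul] at h3
  exact h3

theorem F4B_aux_abelian (h : MinCE K P) {M : Subgroup P} (hM : KMin K (Om P) M)
    (hMT : M ≤ Z2 P) : ∀ m ∈ M, ∀ m' ∈ M, m * m' = m' * m := by
  by_contra hna
  set C : Subgroup P := Subgroup.centralizer (M : Set P) with hC
  have hZM : M ⊓ C = Om P := by
    have hinv : KInv K (M ⊓ C) := by
      intro k x hx
      obtain ⟨hx1, hx2⟩ := Subgroup.mem_inf.1 hx
      exact Subgroup.mem_inf.2 ⟨hM.invA k x hx1, F4B_aux_centInv hM.invA k x hx2⟩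
    have hle : Om P ≤ M ⊓ C := by
      intro z hz
      refine Subgroup.mem_inf.2 ⟨hM.lt.le hz, ?_⟩
      rw [hC, Subgroup.mem_centralizer_iff]
      intro m _
      exact Subgroup.mem_center_iff.1 hz.1 m
    rcases hM.min (M ⊓ C) hinv hle inf_le_left with h1 | h1
    · exact h1
    · exfalso
      apply hna
      intro m hm m' hm'
      have : m' ∈ M ⊓ C := by rw [h1]; exact hm'
      have h2 := (Subgroup.mem_inf.1 this).2
      rw [hC, Subgroup.mem_centralizer_iff] at h2
      exact h2 m hm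
  refine F4B_aux_contra h C ?_ ?_ ?_
  · intro x hxC hxx
    have hxC' := hxC
    rw [hC, Subgroup.mem_centralizer_iff] at hxC'
    have hxM : x ∈ M := F4centr h.star h.nonab hM hMT hxC' hxx
    rw [← hZM]
    exact Subgroup.mem_inf.2 ⟨hxM, hxC⟩
  · intro g
    rw [hC, Subgroup.mem_centralizer_iff]
    intro m hm
    exact (F4hom hMT g g m hm).1
  · intro g g'
    rw [hC, Subgroup.mem_centralizer_iff]
    intro m hm
    exact (F4hom hMT g g' m hm).2

theorem F4_unique (h : MinCE K P) {M : Subgroup P} (hM : KMin K (Om P) M) (hMT : M ≤ Z2 P) :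
    (∀ m ∈ M, ∀ m' ∈ M, m * m' = m' * m) ∧
      ∀ M' : Subgroup P, KMin K (Om P) M' → M' ≤ Z2 P → M' = M := by
  refine ⟨F4B_aux_abelian h hM hMT, ?_⟩
  intro M' hM' hM'T
  have hinv : KInv K (M ⊓ M') := by
    intro k x hx
    obtain ⟨hx1, hx2⟩ := Subgroup.mem_inf.1 hx
    exact Subgroup.mem_inf.2 ⟨hM.invA k x hx1, hM'.invA k x hx2⟩
  have hle : Om P ≤ M ⊓ M' := le_inf hM.lt.le hM'.lt.le
  rcases hM.min (M ⊓ M') hinv hle inf_le_left with h1 | h1
  · exfalso
    set D : Subgroup P := Subgroup.centralizer (M : Set P) ⊓ Subgroup.centralizer (M' : Set P)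
      with hD
    refine F4B_aux_contra h D ?_ ?_ ?_
    · intro x hxD hxx
      obtain ⟨hx1, hx2⟩ := Subgroup.mem_inf.1 hxD
      rw [Subgroup.mem_centralizer_iff] at hx1 hx2
      have hxM : x ∈ M := F4centr h.star h.nonab hM hMT hx1 hxx
      have hxM' : x ∈ M' := F4centr h.star h.nonab hM' hM'T hx2 hxx
      rw [← h1]
      exact Subgroup.mem_inf.2 ⟨hxM, hxM'⟩
    · intro g
      refine Subgroup.mem_inf.2 ⟨?_, ?_⟩
      · rw [Subgroup.mem_centralizer_iff]
        intro m hm
        exact (F4hom hMT g g m hm).1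
      · rw [Subgroup.mem_centralizer_iff]
        intro m hm
        exact (F4hom hM'T g g m hm).1
    · intro g g'
      refine Subgroup.mem_inf.2 ⟨?_, ?_⟩
      · rw [Subgroup.mem_centralizer_iff]
        intro m hm
        exact (F4hom hMT g g' m hm).2
      · rw [Subgroup.mem_centralizer_iff]
        intro m hm
        exact (F4hom hM'T g g' m hm).2
  · have hMM' : M ≤ M' := by
      rw [← h1]; exact inf_le_right
    rcases hM'.min M hM.invA hM.lt.le hMM' with h2 | h2
    · exact absurd h2 (ne_of_gt hM.lt)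
    · exact h2.symm

end Cfsg.Agent.SUZ2P
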