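import Mathlib
import Cfsg.Agent.Helper18.K2P.Defs
import Cfsg.Agent.Helper18.K2P.Defs2
import Cfsg.Agent.Helper18.K2P.BASIS

set_option autoImplicit false
set_option linter.unusedSectionVars false
set_option linter.unusedVariables false

/-! # K2P (S5692, `k = 2`, hyperbolic blocks), piece A-LINE3 (helper25): three injective linear maps of the binary space have a
common nonzero value on nonsingular vectors. -/

namespace Cfsg.Agent.K2P

open Matrix Cfsg.Agent.OC2P Cfsg.Agent.Helper28.Sg Cfsg.Agent.Helper28.Spin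
  Cfsg.Agent.Helper12.OrthGen Cfsg.Agent.K2M

variable {F : Type*} [Field F] [Fintype F] {t : ℕ} {Q : QuadraticForm F (Fin t × Fin 2 → F)}
  {q : QuadraticForm F (Fin 2 → F)} {e f : Fin 2 → F} {M : Subgroup (OG Q)}

/-- fewer than `card F` nonzero linear functionals on `F²` have a common non-root -/
theorem A.LINE3.aux_avoid {J : Type} [Fintype J] (g : J → ((Fin 2 → F) →ₗ[F] F))
    (hg : ∀ j, ∃ v, g j v ≠ 0) (hJ : Fintype.card J < Fintype.card F) :
    ∃ ℓ : Fin 2 → F, ∀ j, g j ℓ ≠ 0 := by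
  classical
  set x₀ : Fin 2 → F := Pi.single 0 1 with hx₀
  set y₀ : Fin 2 → F := Pi.single 1 1 with hy₀
  have hdec : ∀ v : Fin 2 → F, v = v 0 • x₀ + v 1 • y₀ := by
    intro v
    funext i
    fin_cases i <;> simp [hx₀, hy₀]
  have hval : ∀ j (s : F), g j (x₀ + s • y₀) = g j x₀ + s * g j y₀ := by
    intro j s
    rw [map_add, map_smul, smul_eq_mul]
  set Bad : J → Finset F := fun j => Finset.univ.filter (fun s => g j (x₀ + s • y₀) = 0) with hBad
  have hcard : ∀ j, (Bad j).card ≤ 1 := by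
    intro j
    rw [Finset.card_le_one]
    intro s hs s' hs'
    simp only [hBad, Finset.mem_filter, Finset.mem_univ, true_and] at hs hs'
    rw [hval] at hs hs'
    by_contra hne
    have h1 : (s - s') * g j y₀ = 0 := by linear_combination hs - hs'
    have h2 : g j y₀ = 0 := by
      rcases mul_eq_zero.mp h1 with h | h
      · exact absurd (sub_eq_zero.mp h) hne
      · exact h
    have h3 : g j x₀ = 0 := by rw [h2, mul_zero, add_zero] at hs; exact hs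
    obtain ⟨v, hv⟩ := hg j
    apply hv
    rw [hdec v, map_add, map_smul, map_smul, h2, h3, smul_zero, smul_zero, add_zero]
  have hU : (Finset.univ.biUnion Bad).card < Fintype.card F := by
    calc (Finset.univ.biUnion Bad).card ≤ ∑ j : J, (Bad j).card := Finset.card_biUnion_le
      _ ≤ ∑ _j : J, 1 := Finset.sum_le_sum (fun j _ => hcard j)
      _ = Fintype.card J := by simp
      _ < Fintype.card F := hJ
  have hex : ∃ s : F, s ∉ Finset.univ.biUnion Bad := by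
    by_contra hcon
    push Not at hcon
    have : Finset.univ.biUnion Bad = Finset.univ := Finset.eq_univ_iff_forall.mpr hcon
    rw [this, Finset.card_univ] at hU
    exact lt_irrefl _ hU
  obtain ⟨s, hs⟩ := hex
  refine ⟨x₀ + s • y₀, fun j hj => hs ?_⟩
  rw [Finset.mem_biUnion]
  exact ⟨j, Finset.mem_univ _, by simp only [hBad, Finset.mem_filter, Finset.mem_univ, true_and]; exact hj⟩

/-- the functional `y ↦ polar q (ψ y) c` -/
noncomputable def A.LINE3.aux_fun (q : QuadraticForm F (Fin 2 → F)) (c : Fin 2 → F)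
    (ψ : (Fin 2 → F) →ₗ[F] (Fin 2 → F)) : (Fin 2 → F) →ₗ[F] F :=
  ((QuadraticMap.polarBilin q).flip c).comp ψ

theorem A.LINE3.aux_fun_apply (c : Fin 2 → F) (ψ : (Fin 2 → F) →ₗ[F] (Fin 2 → F)) (y : Fin 2 → F) :
    A.LINE3.aux_fun q c ψ y = QuadraticMap.polar ⇑q (ψ y) c := by
  simp [A.LINE3.aux_fun]

theorem A.LINE3 (bp : BP Q q e f) (hq : 7 ≤ Fintype.card F)
    (φ₁ φ₂ φ₃ : (Fin 2 → F) →ₗ[F] (Fin 2 → F)) (h₁ : Function.Injective φ₁)
    (h₂ : Function.Injective φ₂) (h₃ : Function.Injective φ₃) :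
    ∃ (ℓ b₁ b₂ b₃ : Fin 2 → F), ℓ ≠ 0 ∧ q b₁ ≠ 0 ∧ q b₂ ≠ 0 ∧ q b₃ ≠ 0 ∧ φ₁ b₁ = ℓ ∧ φ₂ b₂ = ℓ ∧
      φ₃ b₃ = ℓ := by
  classical
  set E₁ := LinearEquiv.ofInjectiveEndo φ₁ h₁ with hE₁
  set E₂ := LinearEquiv.ofInjectiveEndo φ₂ h₂ with hE₂
  set E₃ := LinearEquiv.ofInjectiveEndo φ₃ h₃ with hE₃
  have c₁ : ∀ y, E₁ y = φ₁ y := fun y => congrFun (LinearEquiv.coe_ofInjectiveEndo φ₁ h₁) y
  have c₂ : ∀ y, E₂ y = φ₂ y := fun y => congrFun (LinearEquiv.coe_ofInjectiveEndo φ₂ h₂) y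
  have c₃ : ∀ y, E₃ y = φ₃ y := fun y => congrFun (LinearEquiv.coe_ofInjectiveEndo φ₃ h₃) y
  have a₁ : ∀ y, φ₁ (E₁.symm y) = y := fun y => by rw [← c₁]; exact E₁.apply_symm_apply y
  have a₂ : ∀ y, φ₂ (E₂.symm y) = y := fun y => by rw [← c₂]; exact E₂.apply_symm_apply y
  have a₃ : ∀ y, φ₃ (E₃.symm y) = y := fun y => by rw [← c₃]; exact E₃.apply_symm_apply y
  have s₁ : ∀ y, E₁.symm (φ₁ y) = y := fun y => by rw [← c₁]; exact E₁.symm_apply_apply y
  have s₂ : ∀ y, E₂.symm (φ₂ y) = y := fun y => by rw [← c₂]; exact E₂.symm_apply_apply y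
  have s₃ : ∀ y, E₃.symm (φ₃ y) = y := fun y => by rw [← c₃]; exact E₃.symm_apply_apply y
  have hef : QuadraticMap.polar ⇑q e f = 1 := bp.ef
  have hfe : QuadraticMap.polar ⇑q f e = 1 := by rw [QuadraticMap.polar_comm]; exact bp.ef
  set g : Fin 3 × Bool → ((Fin 2 → F) →ₗ[F] F) := fun p =>
    A.LINE3.aux_fun q (if p.2 then f else e)
      (if p.1 = 0 then (E₁.symm : (Fin 2 → F) →ₗ[F] (Fin 2 → F))
        else if p.1 = 1 then (E₂.symm : (Fin 2 → F) →ₗ[F] (Fin 2 → F))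
        else (E₃.symm : (Fin 2 → F) →ₗ[F] (Fin 2 → F))) with hg
  have hcardJ : Fintype.card (Fin 3 × Bool) < Fintype.card F := by
    rw [Fintype.card_prod, Fintype.card_fin, Fintype.card_bool]; omega
  have hne : ∀ j, ∃ v, g j v ≠ 0 := by
    rintro ⟨k, b⟩
    fin_cases k <;> cases b
    · exact ⟨φ₁ f, by simp [hg, A.LINE3.aux_fun_apply, s₁, hfe]⟩
    · exact ⟨φ₁ e, by simp [hg, A.LINE3.aux_fun_apply, s₁, hef]⟩
    · exact ⟨φ₂ f, by simp [hg, A.LINE3.aux_fun_apply, s₂, hfe]⟩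
    · exact ⟨φ₂ e, by simp [hg, A.LINE3.aux_fun_apply, s₂, hef]⟩
    · exact ⟨φ₃ f, by simp [hg, A.LINE3.aux_fun_apply, s₃, hfe]⟩
    · exact ⟨φ₃ e, by simp [hg, A.LINE3.aux_fun_apply, s₃, hef]⟩
  obtain ⟨ℓ, hℓ⟩ := A.LINE3.aux_avoid g hne hcardJ
  have k1e : QuadraticMap.polar ⇑q (E₁.symm ℓ) e ≠ 0 := by
    have := hℓ (0, false); simpa [hg, A.LINE3.aux_fun_apply] using this
  have k1f : QuadraticMap.polar ⇑q (E₁.symm ℓ) f ≠ 0 := by
    have := hℓ (0, true); simpa [hg, A.LINE3.aux_fun_apply] using this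
  have k2e : QuadraticMap.polar ⇑q (E₂.symm ℓ) e ≠ 0 := by
    have := hℓ (1, false); simpa [hg, A.LINE3.aux_fun_apply] using this
  have k2f : QuadraticMap.polar ⇑q (E₂.symm ℓ) f ≠ 0 := by
    have := hℓ (1, true); simpa [hg, A.LINE3.aux_fun_apply] using this
  have k3e : QuadraticMap.polar ⇑q (E₃.symm ℓ) e ≠ 0 := by
    have := hℓ (2, false); simpa [hg, A.LINE3.aux_fun_apply] using this
  have k3f : QuadraticMap.polar ⇑q (E₃.symm ℓ) f ≠ 0 := by
    have := hℓ (2, true); simpa [hg, A.LINE3.aux_fun_apply] using this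
  refine ⟨ℓ, E₁.symm ℓ, E₂.symm ℓ, E₃.symm ℓ, ?_, ?_, ?_, ?_, a₁ ℓ, a₂ ℓ, a₃ ℓ⟩
  · intro h0
    apply k1e
    rw [h0, map_zero]
    exact QuadraticMap.polar_zero_left _ _
  · rw [BASIS.q_eq bp]; exact mul_ne_zero k1f k1e
  · rw [BASIS.q_eq bp]; exact mul_ne_zero k2f k2e
  · rw [BASIS.q_eq bp]; exact mul_ne_zero k3f k3e

end Cfsg.Agent.K2P
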