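import Mathlib

set_option autoImplicit false
set_option linter.unusedSectionVars false
set_option linter.unusedVariables false

/-! # S0679, chapter (6), piece CT (helper25): a permutation of prime order `p` is a product of `j ≥ 1` disjoint `p`-cycles. -/

namespace Cfsg.Agent.S0679P

open Equiv MulAction

variable {α : Type*} [Fintype α] [DecidableEq α] {G : Subgroup (Equiv.Perm α)}

theorem CT {g : Perm α} {p : ℕ} (hp : p.Prime) (hg : orderOf g = p) :
    ∃ j : ℕ, 1 ≤ j ∧ g.cycleType = Multiset.replicate j p ∧ g.support.card = j * p ∧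
      (j = 1 → g.IsCycle) ∧ Equiv.Perm.sign g = (-1) ^ (j * (p - 1)) := by
  have hpo : (orderOf g).Prime := by rw [hg]; exact hp
  obtain ⟨n, hn⟩ := Equiv.Perm.cycleType_prime_order hpo
  rw [hg] at hn
  have hsum : g.cycleType.sum = (n + 1) * p := by
    rw [hn, Multiset.sum_replicate, smul_eq_mul]
  have hcard : Multiset.card g.cycleType = n + 1 := by rw [hn, Multiset.card_replicate]
  refine ⟨n + 1, Nat.le_add_left 1 n, hn, ?_, ?_, ?_⟩
  · rw [← Equiv.Perm.sum_cycleType, hsum]
  · intro h1
    rw [← Equiv.Perm.card_cycleType_eq_one, hcard, h1]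
  · rw [Equiv.Perm.sign_of_cycleType, hsum, hcard]
    have hp1 : 1 ≤ p := hp.one_lt.le
    have e : (n + 1) * p + (n + 1) = (n + 1) * (p - 1) + 2 * (n + 1) := by
      obtain ⟨k, rfl⟩ : ∃ k, p = k + 1 := ⟨p - 1, by omega⟩
      simp only [Nat.add_sub_cancel]
      ring
    rw [e, pow_add, pow_mul (-1 : ℤˣ) 2 (n + 1)]
    simp

end Cfsg.Agent.S0679P
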