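import Mathlib
import Cfsg.Prelude.Def_Classical
import Cfsg.Agent.Helper28.S2512Defs

/-! S2512 (driver helper28), piece BMFORM: the form `Tr(a e - b c)` on `K × K` is symplectic. -/

set_option autoImplicit false

universe u

namespace Cfsg.Agent.S2512P

open Polynomial Matrix
open Cfsg.Agent.S2264P

/-- BMFORM (M): nondegeneracy from `traceForm_nondegenerate` (finite fields are perfect, so `K / F` is separable). -/
theorem isSymp_Bm {F K : Type*} [Field F] [Finite F] [Field K] [Algebra F K] [FiniteDimensional F K] :
    IsSymp (Bm F K) := by
  have hsep : Algebra.IsSeparable F K := inferInstance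
  have hnd := (traceForm_nondegenerate F K).1
  refine ⟨?_, ?_, ?_, ?_⟩
  · intro u u' v
    rw [Bm_apply, Bm_apply, Bm_apply, ← map_add]
    congr 1
    rw [Prod.fst_add, Prod.snd_add]
    ring
  · intro c u v
    have h : (c • u).1 * v.2 - (c • u).2 * v.1 = c • (u.1 * v.2 - u.2 * v.1) := by
      rw [Prod.smul_fst, Prod.smul_snd, smul_sub, smul_mul_assoc, smul_mul_assoc]
    rw [Bm_apply, Bm_apply, h, map_smul, smul_eq_mul]
  · intro u v
    rw [Bm_apply, Bm_apply, ← map_neg]
    congr 1
    ring
  · intro u hu
    have h1 : u.1 = 0 := by
      apply hnd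
      intro e
      have := hu (0, e)
      rw [Bm_apply] at this
      simp only [mul_zero, sub_zero] at this
      rw [Algebra.traceForm_apply]
      exact this
    have h2 : u.2 = 0 := by
      apply hnd
      intro c
      have := hu (c, 0)
      rw [Bm_apply] at this
      simp only [mul_zero, zero_sub, map_neg, neg_eq_zero] at this
      rw [Algebra.traceForm_apply]
      exact this
    exact Prod.ext h1 h2

end Cfsg.Agent.S2512P
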