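import Mathlib
import Cfsg.Prelude.Def_FusionSystem
import Cfsg.Agent.Helper18.S5113Defs

set_option autoImplicit false

/-! S5113 piece IDX: the system with map sets `EHom` has `p`-power index in `F`. -/

namespace Cfsg.Agent.S5113P

open Cfsg Cfsg.FusionSystem Cfsg.Agent.Helper25 Cfsg.Agent.Helper25.Park Cfsg.Agent.Helper26.CB

universe u

variable {Ω : Type u} [Group Ω] {S : Subgroup Ω} {X : Type u}

/-- Every `p`-th power in the abelianization of `S` lies in the image of `T`. -/
theorem IDX.aux_pow_mem (p : ℕ) {T : Subgroup Ω} (hexp : ∀ s ∈ S, s ^ p ∈ T)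
    (v : Abelianization ↥S) : v ^ p ∈ TA S T := by
  obtain ⟨s, rfl⟩ := QuotientGroup.mk_surjective v
  have h : Abelianization.of (s ^ p) ∈ TA S T := by
    apply of_mem_TA
    rw [Subgroup.coe_pow]
    exact hexp _ s.2
  rw [map_pow] at h
  exact h

/-- Powers of an automorphism are induced by powers of the inducing element. -/
theorem IDX.aux_pow (a : ↥(S.prod S) →* Equiv.Perm X) {P : Subgroup Ω} (hP : P ≤ S)
    (α : MulAut P) (g : ↥(Cen a))
    (hg : ∀ x : P, iota a ⟨((α x : P) : Ω), hP (α x).2⟩ = g * iota a ⟨(x : Ω), hP x.2⟩ * g⁻¹)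
    (k : ℕ) (x : P) :
    iota a ⟨(((α ^ k) x : P) : Ω), hP ((α ^ k) x).2⟩ = g ^ k * iota a ⟨(x : Ω), hP x.2⟩ * (g ^ k)⁻¹ := by
  induction k generalizing x with
  | zero => simp
  | succ k ih =>
    have e : (α ^ (k + 1)) x = α ((α ^ k) x) := by
      rw [pow_succ']
      rfl
    have h1 := hg ((α ^ k) x)
    rw [ih x] at h1
    have e2 : iota a ⟨(((α ^ (k + 1)) x : P) : Ω), hP ((α ^ (k + 1)) x).2⟩
        = iota a ⟨((α ((α ^ k) x) : P) : Ω), hP (α ((α ^ k) x)).2⟩ := by
      congr 2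
      rw [e]
    rw [e2, h1, pow_succ']
    group

/-- IDX: the system with map sets `EHom` has `p`-power index in `F`. -/
theorem IDX [Finite S] [Finite X] (p : ℕ) [Fact p.Prime] (hS : IsPGroup p S)
    (a : ↥(S.prod S) →* Equiv.Perm X) (x₀ : X) (F : FusionSystem S)
    (hTD : ∀ x, TD F (stab a x))
    (hst : ∀ K K' : Subgroup ↥(S.prod S), GConj (prodSystem F F) K K' → mark a K = mark a K')
    {T : Subgroup Ω} (hTS : T ≤ S) (hexp : ∀ s ∈ S, s ^ p ∈ T)
    (hhyp : F.hyperfocalSubgroup p ≤ T)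
    (E : FusionSystem T) (hE : ∀ P : Subgroup Ω, E.Hom P = EHom a x₀ F hTD T P) :
    E.HasPPowerIndexIn F p := by
  refine ⟨?_, hhyp, ?_⟩
  · intro P φ hφ
    rw [hE] at hφ
    exact hφ.1
  · intro P hPT
    have hPS : P ≤ S := hPT.trans hTS
    rw [Subgroup.map_le_iff_le_comap]
    unfold pResidual
    rw [Subgroup.closure_le]
    intro α hα
    have hα' : Nat.Coprime (orderOf α) p := hα
    show (α : MulAut P) ∈ E.autGroup P
    apply Subgroup.subset_closure
    show autHom (α : MulAut P) ∈ E.Hom P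
    rw [hE]
    have hαF : autHom (α : MulAut P) ∈ F.Hom P := (mem_autGroup_iff F hPS _).1 α.2
    obtain ⟨g, hg⟩ := exists_cen_conj (a := a) F hst hPS hαF (fun x => hPS ((α : MulAut P) x).2)
    have hco : Nat.Coprime p (orderOf (α : MulAut P)) := by
      rw [Subgroup.orderOf_coe]
      exact hα'.symm
    obtain ⟨m, hm⟩ := exists_pow_eq_self_of_coprime hco
    have hm' : (α : MulAut P) ^ (p * m) = (α : MulAut P) := by
      rw [pow_mul]
      exact hm
    refine ⟨hαF, hPT, fun x => hPT ((α : MulAut P) x).2, g ^ (p * m), ?_, ?_⟩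
    · rw [mem_MM, map_pow, mul_comm, pow_mul]
      exact IDX.aux_pow_mem p hexp _
    · intro x hx hφx
      have h := IDX.aux_pow a hPS (α : MulAut P) g hg (p * m) x
      have e : iota a ⟨autHom (α : MulAut P) x, hφx⟩
          = iota a ⟨((((α : MulAut P) ^ (p * m)) x : P) : Ω),
              hPS (((α : MulAut P) ^ (p * m)) x).2⟩ := by
        congr 2
        rw [hm']
        rfl
      rw [e, h]

end Cfsg.Agent.S5113P
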