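import Mathlib
import Cfsg.Prelude.Def_FusionSystem
import Cfsg.Agent.Helper18.S5113Defs
import Cfsg.Agent.Helper1.S5113R3

set_option autoImplicit false

/-! S5113 piece SYS: the map sets `EHom` form a fusion system over `T`. -/

namespace Cfsg.Agent.S5113P

open Cfsg Cfsg.FusionSystem Cfsg.Agent.Helper25 Cfsg.Agent.Helper25.Park Cfsg.Agent.Helper26.CB

universe u

variable {Ω : Type u} [Group Ω] {S : Subgroup Ω} {X : Type u}

/-- `iota t ∈ M` for `t ∈ T`. -/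
theorem SYS.aux_iota_mem [Finite X] (a : ↥(S.prod S) →* Equiv.Perm X) (x₀ : X) (F : FusionSystem S)
    (hTD : ∀ x, TD F (stab a x)) {T : Subgroup Ω} (hfoc : F.focalSubgroup ≤ T) (t : ↥S)
    (ht : (t : Ω) ∈ T) : iota a t ∈ MM a x₀ F hTD T := by
  rw [mem_MM]
  have h1 := R3 a x₀ F hTD hfoc t
  have h2 : Abelianization.of t ^ (H0 a x₀).index ∈ TA S T := (TA S T).pow_mem (of_mem_TA ht) _
  have h3 := (TA S T).mul_mem h2 ((TA S T).inv_mem h1)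
  have e : Abelianization.of t ^ (H0 a x₀).index *
      ((trf a x₀ F hTD (iota a t))⁻¹ * Abelianization.of t ^ (H0 a x₀).index)⁻¹
      = trf a x₀ F hTD (iota a t) := by
    rw [mul_inv_rev, inv_inv, mul_inv_cancel_left]
  rwa [e] at h3

/-- SYS: the map sets `EHom` form a fusion system over `T`. -/
theorem SYS [Finite S] [Finite X] (a : ↥(S.prod S) →* Equiv.Perm X) (x₀ : X) (F : FusionSystem S)
    (hTD : ∀ x, TD F (stab a x)) {T : Subgroup Ω} (hTS : T ≤ S) (hfoc : F.focalSubgroup ≤ T) :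
    ∃ E : FusionSystem T, ∀ P : Subgroup Ω, E.Hom P = EHom a x₀ F hTD T P := by
  refine ⟨{
    Hom := fun P => EHom a x₀ F hTD T P
    le_of_mem := ?_
    injective_of_mem := ?_
    conj_mem := ?_
    comp_mem := ?_
    inv_mem := ?_ }, fun P => rfl⟩
  · rintro P φ ⟨-, hPT, hφT, -⟩
    exact ⟨hPT, hφT⟩
  · rintro P φ ⟨hφ, -⟩
    exact F.injective_of_mem hφ
  · intro P g hPT hg
    have hgS : g ∈ S := hTS hg
    have hnorm := le_normalizer_of_focal_le F hTS hfoc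
    refine ⟨F.conj_mem (hPT.trans hTS) hgS, hPT, ?_, iota a ⟨g, hgS⟩,
      SYS.aux_iota_mem a x₀ F hTD hfoc ⟨g, hgS⟩ hg, ?_⟩
    · intro x
      show g * (x : Ω) * g⁻¹ ∈ T
      exact T.mul_mem (T.mul_mem hg (hPT x.2)) (T.inv_mem hg)
    · intro x hx hφx
      rw [← map_inv, ← map_mul, ← map_mul]
      congr 1
  · intro P Q φ ψ hφ hψ h
    obtain ⟨hφF, hPT, hφT, m₁, hm₁, hc₁⟩ := hφ
    obtain ⟨hψF, hQT, hψT, m₂, hm₂, hc₂⟩ := hψ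
    refine ⟨F.comp_mem hφF hψF h, hPT, fun x => hψT _, m₂ * m₁,
      (MM a x₀ F hTD T).mul_mem hm₂ hm₁, ?_⟩
    intro x hx hφx
    have hφxS : φ x ∈ S := hTS (hφT x)
    have e1 := hc₁ x hx hφxS
    have e2 := hc₂ ⟨φ x, h x⟩ hφxS hφx
    have e3 : (ψ.comp (φ.codRestrict Q h)) x = ψ ⟨φ x, h x⟩ := rfl
    calc iota a ⟨(ψ.comp (φ.codRestrict Q h)) x, hφx⟩
        = m₂ * iota a ⟨φ x, hφxS⟩ * m₂⁻¹ := e2
      _ = m₂ * (m₁ * iota a ⟨(x : Ω), hx⟩ * m₁⁻¹) * m₂⁻¹ := by rw [e1]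
      _ = m₂ * m₁ * iota a ⟨(x : Ω), hx⟩ * (m₂ * m₁)⁻¹ := by group
  · intro P φ hφ
    obtain ⟨hφF, hPT, hφT, m, hm, hc⟩ := hφ
    obtain ⟨ψ, hψF, hψ⟩ := F.inv_mem hφF
    refine ⟨ψ, ⟨hψF, ?_, ?_, m⁻¹, (MM a x₀ F hTD T).inv_mem hm, ?_⟩, hψ⟩
    · rintro _ ⟨x, rfl⟩
      exact hφT x
    · rintro ⟨_, ⟨x, rfl⟩⟩
      rw [hψ x]
      exact hPT x.2
    · rintro ⟨_, ⟨x, rfl⟩⟩ hy hψy
      have hxS : (x : Ω) ∈ S := hTS (hPT x.2)
      have e1 := hc x hxS hy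
      have e2 : ψ ⟨φ x, ⟨x, rfl⟩⟩ = (x : Ω) := hψ x
      have e3 : iota a ⟨ψ ⟨φ x, ⟨x, rfl⟩⟩, hψy⟩ = iota a ⟨(x : Ω), hxS⟩ := by
        congr 1
        exact Subtype.ext e2
      rw [e3]
      show iota a ⟨(x : Ω), hxS⟩ = m⁻¹ * iota a ⟨φ x, hy⟩ * m⁻¹⁻¹
      rw [e1]
      group

end Cfsg.Agent.S5113P
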