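import Cfsg.Agent.Helper27.S5634BDefs
import Cfsg.Agent.Helper24.S5634BCMP

set_option autoImplicit false
set_option linter.unusedSectionVars false
set_option linter.unusedVariables false

/-! # S5634, half `m ≥ 2`, piece B_DUAL1: block functionals -/

namespace Cfsg.Agent.S5634P

open Matrix Cfsg.Agent.Helper28.SLMax
open scoped MatrixGroups

variable {F : Type*} [Field F] {n t m : ℕ} {D : Fin t → Submodule F (Fin n → F)}

namespace DUAL

/-- a block other than `D c` lies in `Oth D c` -/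
theorem le_Oth {b c : Fin t} (hbc : b ≠ c) : D b ≤ Oth D c :=
  le_iSup (fun b : {b : Fin t // b ≠ c} => D b.1) ⟨b, hbc⟩

/-- a submodule of finrank at least two is not inside a line -/
theorem exists_notMem_span {K : Submodule F (Fin n → F)} (hK : 2 ≤ Module.finrank F ↥K)
    (u : Fin n → F) : ∃ y ∈ K, y ∉ Submodule.span F {u} := by
  by_contra hcon
  push Not at hcon
  have hle : K ≤ Submodule.span F {u} := hcon
  have h1 : Module.finrank F ↥K ≤ Module.finrank F ↥(Submodule.span F {u}) :=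
    Submodule.finrank_mono hle
  have h2 : Module.finrank F ↥(Submodule.span F {u}) ≤ 1 := by
    have := finrank_span_le_card (R := F) ({u} : Set (Fin n → F))
    simpa using this
  omega

theorem dot_cmp (hD : Cfsg.Geo.IsMDecomposition m D) {c : Fin t} {φ : Fin n → F} (hφ : φ ∈ Dl D c)
    (x : Fin n → F) : φ ⬝ᵥ x = φ ⬝ᵥ cmp D c x := by
  have h := hφ _ (CMP.sub_mem hD c x)
  rw [dotProduct_sub, sub_eq_zero] at h
  exact h

theorem dot_of_mem_ne (hD : Cfsg.Geo.IsMDecomposition m D) {b c : Fin t} {φ : Fin n → F}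
    (hφ : φ ∈ Dl D c) {x : Fin n → F} (hx : x ∈ D b) (hbc : b ≠ c) : φ ⬝ᵥ x = 0 :=
  hφ x (le_Oth hbc hx)

theorem mem_of_forall (hD : Cfsg.Geo.IsMDecomposition m D) {c : Fin t} {ψ : Fin n → F}
    (h : ∀ b, b ≠ c → ∀ y ∈ D b, ψ ⬝ᵥ y = 0) : ψ ∈ Dl D c := by
  intro x hx
  refine Submodule.iSup_induction (fun b : {b : Fin t // b ≠ c} => D b.1)
    (motive := fun x => ψ ⬝ᵥ x = 0) hx ?_ ?_ ?_
  · intro b y hy
    exact h b.1 b.2 y hy
  · exact dotProduct_zero ψ
  · intro y z hy hz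
    rw [dotProduct_add, hy, hz, add_zero]

theorem exists_one (hD : Cfsg.Geo.IsMDecomposition m D) {c : Fin t} {x y : Fin n → F} (hx : x ∈ D c)
    (hy : y ∈ D c) (hxy : x ∉ Submodule.span F {y}) : ∃ χ ∈ Dl D c, χ ⬝ᵥ y = 0 ∧ χ ⬝ᵥ x = 1 := by
  have hxW : x ∉ Submodule.span F {y} ⊔ Oth D c := by
    intro h
    rw [Submodule.mem_sup] at h
    obtain ⟨u, hu, o, ho, huo⟩ := h
    have huD : u ∈ D c := by
      rw [Submodule.mem_span_singleton] at hu
      obtain ⟨a, rfl⟩ := hu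
      exact (D c).smul_mem a hy
    have ho' : o = x - u := by rw [← huo]; abel
    have hoD : o ∈ D c := by rw [ho']; exact (D c).sub_mem hx huD
    have ho0 : o = 0 := by
      have := (CMP.isCompl hD c).disjoint
      rw [Submodule.disjoint_def] at this
      exact this o hoD ho
    apply hxy
    rw [← huo, ho0, add_zero]
    exact hu
  obtain ⟨φ, h1, h2⟩ := exists_dual _ x hxW
  refine ⟨φ, fun z hz => h1 z (Submodule.mem_sup_right hz), ?_, h2⟩
  exact h1 y (Submodule.mem_sup_left (Submodule.mem_span_singleton_self y))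

theorem exists_indep (hD : Cfsg.Geo.IsMDecomposition m D) (hm : 2 ≤ m) (c : Fin t) (y : Fin n → F) :
    ∃ x ∈ D c, x ∉ Submodule.span F {y} :=
  exists_notMem_span (by rw [hD.finrank_eq c]; exact hm) y

theorem exists_ne (hD : Cfsg.Geo.IsMDecomposition m D) (hm : 2 ≤ m) (c : Fin t) {y : Fin n → F}
    (hy : y ∈ D c) : ∃ χ ∈ Dl D c, χ ≠ 0 ∧ χ ⬝ᵥ y = 0 := by
  obtain ⟨x, hx, hxy⟩ := exists_indep hD hm c y
  obtain ⟨χ, hχ, h0, h1⟩ := exists_one hD hx hy hxy
  refine ⟨χ, hχ, ?_, h0⟩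
  rintro rfl
  rw [zero_dotProduct] at h1
  exact zero_ne_one h1

theorem exists_dot_ne (hD : Cfsg.Geo.IsMDecomposition m D) {c : Fin t} {χ : Fin n → F}
    (hχ : χ ∈ Dl D c) (h0 : χ ≠ 0) : ∃ y ∈ D c, χ ⬝ᵥ y ≠ 0 := by
  by_contra hcon
  push Not at hcon
  apply h0
  apply dotProduct_eq_zero
  intro x
  rw [dot_cmp hD hχ x]
  exact hcon _ (CMP.mem hD c x)

end DUAL

end Cfsg.Agent.S5634P
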