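import Cfsg.Agent.Helper27.S5634BDefs
import Cfsg.Agent.Helper24.S5634BCMP
import Cfsg.Agent.Helper25.S5634BDUAL1

set_option autoImplicit false
set_option linter.unusedSectionVars false
set_option linter.unusedVariables false

/-! # S5634, half `m ≥ 2`, piece B_DUAL2: kernels, the dual of `exists_one`, decomposition of a functional -/

namespace Cfsg.Agent.S5634P

open Matrix Cfsg.Agent.Helper28.SLMax
open scoped MatrixGroups

variable {F : Type*} [Field F] {n t m : ℕ} {D : Fin t → Submodule F (Fin n → F)}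

namespace DUAL

/-- the functional `x ↦ ψ ⬝ᵥ x` -/
def dotL (ψ : Fin n → F) : (Fin n → F) →ₗ[F] F where
  toFun x := ψ ⬝ᵥ x
  map_add' x y := dotProduct_add ψ x y
  map_smul' a x := by simp [dotProduct_smul]

/-- the kernel of `ψ` in `K` has codimension at most one -/
theorem finrank_ker_ge (K : Submodule F (Fin n → F)) (ψ : Fin n → F) :
    Module.finrank F ↥K ≤
      Module.finrank F ↥((LinearMap.ker ((dotL ψ).comp K.subtype)).map K.subtype) + 1 := by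
  rw [Submodule.finrank_map_subtype_eq]
  have h1 := LinearMap.finrank_range_add_finrank_ker ((dotL ψ).comp K.subtype)
  have h2 : Module.finrank F ↥(LinearMap.range ((dotL ψ).comp K.subtype)) ≤ 1 :=
    (Submodule.finrank_le _).trans_eq (Module.finrank_self F)
  omega

theorem mem_kerK {K : Submodule F (Fin n → F)} {ψ y : Fin n → F}
    (hy : y ∈ (LinearMap.ker ((dotL ψ).comp K.subtype)).map K.subtype) : y ∈ K ∧ ψ ⬝ᵥ y = 0 := by
  obtain ⟨z, hz, rfl⟩ := hy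
  exact ⟨z.2, hz⟩

theorem exists_ker2' (K : Submodule F (Fin n → F)) (hK : 3 ≤ Module.finrank F ↥K) (ψ u : Fin n → F) :
    ∃ y ∈ K, ψ ⬝ᵥ y = 0 ∧ y ∉ Submodule.span F {u} := by
  have h1 := finrank_ker_ge K ψ
  obtain ⟨y, hy, hyu⟩ := exists_notMem_span
    (K := (LinearMap.ker ((dotL ψ).comp K.subtype)).map K.subtype) (by omega) u
  exact ⟨y, (mem_kerK hy).1, (mem_kerK hy).2, hyu⟩

theorem exists_ker (hD : Cfsg.Geo.IsMDecomposition m D) (hm : 2 ≤ m) (c : Fin t) (ψ : Fin n → F) :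
    ∃ y ∈ D c, y ≠ 0 ∧ ψ ⬝ᵥ y = 0 := by
  have h1 := finrank_ker_ge (D c) ψ
  rw [hD.finrank_eq c] at h1
  have hpos : 0 < Module.finrank F
      ↥((LinearMap.ker ((dotL ψ).comp (D c).subtype)).map (D c).subtype) := by omega
  obtain ⟨y, hy⟩ := Module.finrank_pos_iff_exists_ne_zero.mp hpos
  refine ⟨y.1, (mem_kerK y.2).1, ?_, (mem_kerK y.2).2⟩
  intro h
  exact hy (Subtype.ext h)

theorem exists_ker2 (hD : Cfsg.Geo.IsMDecomposition m D) (hm : 3 ≤ m) (c : Fin t) (ψ u : Fin n → F) :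
    ∃ y ∈ D c, ψ ⬝ᵥ y = 0 ∧ y ∉ Submodule.span F {u} :=
  exists_ker2' (D c) (by rw [hD.finrank_eq c]; exact hm) ψ u

/-- a block functional vanishing on its block is zero -/
theorem eq_zero_of_forall (hD : Cfsg.Geo.IsMDecomposition m D) {d : Fin t} {χ : Fin n → F}
    (hχ : χ ∈ Dl D d) (h : ∀ z ∈ D d, χ ⬝ᵥ z = 0) : χ = 0 := by
  by_contra h0
  obtain ⟨y, hy, hne⟩ := exists_dot_ne hD hχ h0
  exact hne (h y hy)

theorem exists_vec (hD : Cfsg.Geo.IsMDecomposition m D) {d : Fin t} {χ η : Fin n → F}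
    (hχ : χ ∈ Dl D d) (hη : η ∈ Dl D d) (h : χ ∉ Submodule.span F {η}) :
    ∃ z ∈ D d, η ⬝ᵥ z = 0 ∧ χ ⬝ᵥ z = 1 := by
  by_contra hcon
  push Not at hcon
  -- `χ` vanishes on `ker η ∩ D d`
  have hker : ∀ z ∈ D d, η ⬝ᵥ z = 0 → χ ⬝ᵥ z = 0 := by
    intro z hz hηz
    by_contra hne
    apply hcon ((χ ⬝ᵥ z)⁻¹ • z) ((D d).smul_mem _ hz)
    · rw [dotProduct_smul, hηz, smul_zero]
    · rw [dotProduct_smul, smul_eq_mul, inv_mul_cancel₀ hne]
  apply h
  by_cases hη0 : η = 0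
  · have : χ = 0 := eq_zero_of_forall hD hχ (fun z hz => hker z hz (by rw [hη0, zero_dotProduct]))
    rw [this]; exact Submodule.zero_mem _
  · obtain ⟨z₀, hz₀, hne⟩ := exists_dot_ne hD hη hη0
    rw [Submodule.mem_span_singleton]
    refine ⟨χ ⬝ᵥ z₀ / η ⬝ᵥ z₀, ?_⟩
    have hmem : χ - (χ ⬝ᵥ z₀ / η ⬝ᵥ z₀) • η ∈ Dl D d :=
      (Dl D d).sub_mem hχ ((Dl D d).smul_mem _ hη)
    have := eq_zero_of_forall hD hmem (fun z hz => by
      have hz' : z - (η ⬝ᵥ z / η ⬝ᵥ z₀) • z₀ ∈ D d := (D d).sub_mem hz ((D d).smul_mem _ hz₀)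
      have h1 : η ⬝ᵥ (z - (η ⬝ᵥ z / η ⬝ᵥ z₀) • z₀) = 0 := by
        rw [dotProduct_sub, dotProduct_smul, smul_eq_mul, div_mul_cancel₀ _ hne, sub_self]
      have h2 := hker _ hz' h1
      rw [dotProduct_sub, dotProduct_smul, smul_eq_mul] at h2
      rw [sub_dotProduct, smul_dotProduct, smul_eq_mul]
      field_simp
      field_simp at h2
      linear_combination h2)
    exact (sub_eq_zero.mp this).symm

theorem decomp (hD : Cfsg.Geo.IsMDecomposition m D) (ψ : Fin n → F) :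
    ∃ f : Fin t → (Fin n → F), (∀ d, f d ∈ Dl D d) ∧ ∑ d, f d = ψ := by
  have key : ∀ d x, (ψ ᵥ* LinearMap.toMatrix' (cmp D d)) ⬝ᵥ x = ψ ⬝ᵥ cmp D d x := by
    intro d x
    rw [← Matrix.dotProduct_mulVec, LinearMap.toMatrix'_mulVec]
  refine ⟨fun d => ψ ᵥ* LinearMap.toMatrix' (cmp D d), ?_, ?_⟩
  · intro d x hx
    rw [key, CMP.of_mem_oth hD hx, dotProduct_zero]
  · apply dotProduct_eq
    intro x
    rw [sum_dotProduct]
    simp only [key]
    rw [← dotProduct_sum, CMP.sum hD]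

end DUAL

end Cfsg.Agent.S5634P
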