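import Mathlib
import Cfsg.Prelude.Def_Classical
import Cfsg.Agent.Helper23.S5953Defs
import Cfsg.Agent.Helper18.S5953ARITHU
import Cfsg.Agent.Helper21.S5949Basic

/-! S5953 piece EVENAGU (driver helper23): for `i = ord_r(q) ≡ 2 (mod 4)` a polynomial killing an
invariant `U` also kills a subspace `U'` paired with `U` (unitary analogue of S5955 EVENAG). -/

set_option autoImplicit false
set_option linter.unusedVariables false
open scoped MatrixGroups Matrix

namespace Cfsg.Agent.S5953P

open Polynomial Cfsg.Agent.S5955P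

/-- the adjoint of a power of an isometry -/
theorem evenagu_adj_pow {F V : Type*} [Field F] [AddCommGroup V] [Module F V] {σ : F →+* F}
    (B : V →ₛₗ[σ] V →ₗ[F] F) (y y' : Module.End F V)
    (hyB : ∀ u v, B (y u) (y v) = B u v) (hyy' : y * y' = 1) (k : ℕ) (u v : V) :
    B ((y ^ k) u) v = B u ((y' ^ k) v) := by
  have one : ∀ u v, B (y u) v = B u (y' v) := by
    intro u v
    have h : y (y' v) = v := by
      rw [← Module.End.mul_apply, hyy', Module.End.one_apply]
    rw [← hyB u (y' v), h]
  induction k generalizing u v with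
  | zero => simp
  | succ k ih =>
    rw [pow_succ', pow_succ, Module.End.mul_apply, Module.End.mul_apply, one, ih]

/-- the adjoint of a polynomial in an isometry (semilinear in the first variable) -/
theorem evenagu_adj_aeval {F V : Type*} [Field F] [AddCommGroup V] [Module F V] {σ : F →+* F}
    (B : V →ₛₗ[σ] V →ₗ[F] F) (y y' : Module.End F V)
    (hyB : ∀ u v, B (y u) (y v) = B u v) (hyy' : y * y' = 1) (P : F[X]) (u v : V) :
    B (aeval y P u) v = B u (aeval y' (P.map σ) v) := by
  induction P using Polynomial.induction_on' with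
  | add p q hp hq =>
    rw [map_add, Polynomial.map_add, map_add, LinearMap.add_apply, map_add,
      LinearMap.add_apply, LinearMap.add_apply, map_add, hp, hq]
  | monomial k a =>
    rw [Polynomial.map_monomial, aeval_monomial, aeval_monomial, Module.End.mul_apply,
      Module.End.mul_apply, Module.algebraMap_end_apply, Module.algebraMap_end_apply,
      LinearMap.map_smulₛₗ, LinearMap.smul_apply, map_smul, evenagu_adj_pow B y y' hyB hyy']

/-- `p ^ n`-th powers of polynomial expressions -/
theorem evenagu_aeval_pow {F A : Type*} [Field F] [Ring A] [Algebra F A] (p : ℕ) [ExpChar F p]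
    (a : A) (P : F[X]) (n : ℕ) :
    (aeval a P) ^ (p ^ n) = aeval (a ^ (p ^ n)) (P.map (iterateFrobenius F p n)) := by
  rw [← map_pow, ← map_iterateFrobenius_expand, map_expand, expand_aeval]

/-- EVENAGU: for `i ≡ 2 (mod 4)` a polynomial killing `U` kills a dual `U'` -/
theorem poly_kills_dual_u {F V : Type*} [Field F] [Fintype F] [AddCommGroup V] [Module F V]
    [FiniteDimensional F V] {p : ℕ} [Fact p.Prime] [CharP F p] {q : ℕ} (r : ℕ) [Fact r.Prime]
    (hr2 : r ≠ 2) (hrp : r ≠ p) {σ : F →+* F} (B : V →ₛₗ[σ] V →ₗ[F] F) (y : Module.End F V)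
    (h : IsYU q B y r) (hsd : orderOf (q : ZMod r) % 4 = 2)
    (U U' : Submodule F V) (hU : U.map y ≤ U) (hU' : U'.map y ≤ U')
    (hpair : ∀ u' ∈ U', (∀ u ∈ U, B u u' = 0) → u' = 0)
    (g : F[X]) (hg : ∀ u ∈ U, aeval y g u = 0) : ∀ u' ∈ U', aeval y g u' = 0 := by
  have hr : r.Prime := Fact.out
  have hp : p.Prime := Fact.out
  have hy : y ^ r = 1 := h.pow
  have hU'm : ∀ v ∈ U', y v ∈ U' := fun v hv => hU' ⟨v, hv, rfl⟩
  -- the inverse
  set y' : Module.End F V := y ^ (r - 1) with hy'
  have hyy' : y * y' = 1 := by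
    rw [hy', ← pow_succ', Nat.sub_add_cancel hr.one_lt.le, hy]
  have hy'y : y' * y = 1 := by
    rw [hy', ← pow_succ, Nat.sub_add_cancel hr.one_lt.le, hy]
  have hy'r : y' ^ r = 1 := by
    rw [hy', ← pow_mul, mul_comm, pow_mul, hy, one_pow]
  -- arithmetic
  obtain ⟨hbodd, ⟨c, hc⟩⟩ := (cu_arith2 (F := F) (p := p) h.herm.card r hr2 hrp).1 hsd
  set b := orderOf ((Fintype.card F : ℕ) : ZMod r) with hb
  have hQ : y' ^ (q ^ b) = y := by
    have h1 : y' ^ (q ^ b) * y' = 1 := by
      rw [← pow_succ, hc, pow_mul, hy'r, one_pow]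
    calc y' ^ (q ^ b) = y' ^ (q ^ b) * (y' * y) := by rw [hy'y, mul_one]
      _ = y := by rw [← mul_assoc, h1, one_mul]
  -- `q` is a power of `p`
  obtain ⟨e, he⟩ := FiniteField.card F p
  have hqdvd : q ∣ p ^ (e : ℕ) := by
    rw [← he.2, h.herm.card]
    exact Dvd.intro_left (q ^ 1) (by ring)
  obtain ⟨f, -, hf⟩ := (Nat.dvd_prime_pow hp).mp hqdvd
  have hqb : q ^ b = p ^ (f * b) := by rw [hf, ← pow_mul]
  -- the coefficients
  obtain ⟨k, hk⟩ := hbodd
  have hcoef : ((g.map σ).map (iterateFrobenius F p (f * b))) = g := by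
    ext j
    rw [coeff_map, coeff_map, iterateFrobenius_def, ← hqb, h.herm.frob, ← pow_mul, ← pow_succ',
      hk]
    have : q ^ (2 * k + 1 + 1) = Fintype.card F ^ (k + 1) := by
      rw [h.herm.card, ← pow_mul]
      congr 1
    rw [this, FiniteField.pow_card_pow]
  have hU'm' : U'.map y' ≤ U' := by
    rintro _ ⟨v, hv, rfl⟩
    rw [hy']
    have : ∀ j : ℕ, ∀ v ∈ U', (y ^ j) v ∈ U' := by
      intro j
      induction j with
      | zero => intro v hv; simpa using hv
      | succ j ih =>
        intro v hv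
        rw [pow_succ', Module.End.mul_apply]
        exact hU'm _ (ih v hv)
    exact this _ v hv
  have hgU' : ∀ u' ∈ U', aeval y' (g.map σ) u' = 0 := by
    intro u' hu'
    apply hpair _ (S5949P.Basic.aeval_mem_of_invariant y' U' hU'm' (g.map σ) u' hu')
    intro u hu
    rw [← evenagu_adj_aeval B y y' h.isom hyy', hg u hu, map_zero, LinearMap.zero_apply]
  have hQpos : 0 < p ^ (f * b) := pow_pos hp.pos _
  intro u' hu'
  have key : aeval y g = (aeval y' (g.map σ)) ^ (p ^ (f * b)) := by
    rw [evenagu_aeval_pow p y' (g.map σ) (f * b), hcoef, ← hqb, hQ]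
  rw [key]
  obtain ⟨m, hm⟩ := Nat.exists_eq_succ_of_ne_zero hQpos.ne'
  rw [hm, pow_succ, Module.End.mul_apply, hgU' u' hu', map_zero]

end Cfsg.Agent.S5953P
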