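import Mathlib
import Cfsg.Prelude.Def_Classical
import Cfsg.Agent.Helper23.S5953Defs
import Cfsg.Agent.Helper23.S5961RESTR
import Cfsg.Agent.Helper21.S5949Basic

/-! S5953 piece RESTRYU (driver helper23): restriction of `IsYU` to a nondegenerate invariant
submodule. -/

set_option autoImplicit false
open scoped MatrixGroups Matrix

namespace Cfsg.Agent.S5953P

open Polynomial Cfsg.Agent.S5955P Cfsg.Agent.S5961P

/-- RESTRYU -/
theorem restrict_isYU {F V : Type*} [Field F] [Fintype F] [AddCommGroup V] [Module F V]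
    [FiniteDimensional F V] {q : ℕ} {σ : F →+* F} (B : V →ₛₗ[σ] V →ₗ[F] F)
    (y : Module.End F V) (r : ℕ) (h : IsYU q B y r) (M : Submodule F V)
    (hM : ∀ v ∈ M, y v ∈ M) (hMnd : NondegU B M) :
    IsYU q (B.domRestrict₁₂ M M) (y.restrict hM) r ∧
    (LinearMap.ker (y - 1) = ⊥ → LinearMap.ker (y.restrict hM - 1) = ⊥) ∧
    Module.finrank F (LinearMap.ker (y.restrict hM - 1)) =
      Module.finrank F ↥(M ⊓ LinearMap.ker (y - 1)) ∧
    ∀ g : F[X], Module.finrank F (LinearMap.ker (aeval (y.restrict hM) g)) =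
      Module.finrank F ↥(M ⊓ LinearMap.ker (aeval y g)) := by
  have hpow : (y.restrict hM) ^ r = 1 :=
    (restr_transport (0 : LinearMap.BilinForm F V) y M hM).1 r h.pow
  refine ⟨⟨⟨h.herm.card, h.herm.frob, fun u v => h.herm.symm (u : V) (v : V)⟩, ?_, ?_, hpow⟩,
    ?_, ?_, ?_⟩
  · intro m _ hm
    obtain ⟨v, hv, hne⟩ := hMnd m.1 m.2 (fun h0 => hm (Subtype.ext h0))
    exact ⟨⟨v, hv⟩, Submodule.mem_top, hne⟩
  · intro u v
    exact h.isom (u : V) (v : V)
  · intro hker
    rw [eq_bot_iff]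
    intro v hv
    rw [LinearMap.mem_ker] at hv
    have h1 : (y - 1) (v : V) = 0 := by
      rw [← RESTR.coe_restrict_sub_one y M hM v, hv]; rfl
    have h2 : (v : V) ∈ LinearMap.ker (y - 1) := LinearMap.mem_ker.mpr h1
    rw [hker, Submodule.mem_bot] at h2
    rw [Submodule.mem_bot]
    exact Subtype.ext h2
  · have hmap : (LinearMap.ker (y.restrict hM - 1)).map M.subtype
        = M ⊓ LinearMap.ker (y - 1) := by
      ext v
      rw [RESTR.mem_map_subtype, Submodule.mem_inf]
      constructor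
      · rintro ⟨hv, hk⟩
        refine ⟨hv, ?_⟩
        rw [LinearMap.mem_ker] at hk ⊢
        rw [← RESTR.coe_restrict_sub_one y M hM ⟨v, hv⟩, hk]; rfl
      · rintro ⟨hv, hk⟩
        refine ⟨hv, ?_⟩
        rw [LinearMap.mem_ker] at hk ⊢
        apply Subtype.ext
        rw [RESTR.coe_restrict_sub_one y M hM ⟨v, hv⟩]
        exact hk
    rw [← hmap, Submodule.finrank_map_subtype_eq]
  · intro g
    have hmap : (LinearMap.ker (aeval (y.restrict hM) g)).map M.subtype
        = M ⊓ LinearMap.ker (aeval y g) := by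
      ext v
      rw [RESTR.mem_map_subtype, Submodule.mem_inf]
      constructor
      · rintro ⟨hv, hk⟩
        refine ⟨hv, ?_⟩
        rw [LinearMap.mem_ker] at hk ⊢
        rw [← S5949P.Basic.aeval_restrict_apply y M hM g ⟨v, hv⟩, hk]; rfl
      · rintro ⟨hv, hk⟩
        refine ⟨hv, ?_⟩
        rw [LinearMap.mem_ker] at hk ⊢
        apply Subtype.ext
        rw [S5949P.Basic.aeval_restrict_apply y M hM g ⟨v, hv⟩]
        exact hk
    rw [← hmap, Submodule.finrank_map_subtype_eq]

end Cfsg.Agent.S5953P
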