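import Mathlib

set_option autoImplicit false

/-! Shared definition for the S3797 (Thompson) pieces. -/

namespace Cfsg.Agent.Helper25.Th

/-- "Semilinear data" for a subgroup `L` acting by conjugation on the normal elementary abelian
2-subgroup `V` of order `2 ^ n`: a subgroup `L0` of `L` ("the scalars"), normal in `L`, containing
`C_L(V)`, whose elements outside `C(V)` fix no non-identity element of `V`, cyclic modulo `C(V)`,
of exponent dividing `2 ^ n - 1` modulo `C(V)`, and of index dividing `n` in `L`. -/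
def SemilinearData {H : Type*} [Group H] (V : Subgroup H) (n : ℕ) (L : Subgroup H) : Prop :=
  ∃ L0 : Subgroup H, L0 ≤ L ∧ (∀ g ∈ L, ∀ x ∈ L0, g * x * g⁻¹ ∈ L0) ∧
    (L ⊓ Subgroup.centralizer (V : Set H) ≤ L0) ∧
    (∀ x ∈ L0, ∀ v ∈ V, v ≠ 1 → x * v = v * x → x ∈ Subgroup.centralizer (V : Set H)) ∧
    (∃ g0 ∈ L0, ∀ x ∈ L0, ∃ k : ℕ, x * (g0 ^ k)⁻¹ ∈ Subgroup.centralizer (V : Set H)) ∧
    (∀ x ∈ L0, x ^ (2 ^ n - 1) ∈ Subgroup.centralizer (V : Set H)) ∧
    L0.relIndex L ∣ n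

end Cfsg.Agent.Helper25.Th
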