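import Mathlib
import Cfsg.Agent.Helper24.HupField

/-!
# Huppert's theorem, piece (B5): `|E : A| ≤ (n/m)²`
-/

set_option autoImplicit false

namespace Cfsg.Agent.Helper25.HupB5

open Cfsg.Agent.Helper24.Hup Module

/-- Dedekind-type independence: endomorphisms that are simultaneous "eigenvectors" of a family of
conjugations, for pairwise distinct characters, are linearly independent. -/
theorem linearIndependent_of_twist {L : Type*} [Field L] {V : Type*} [AddCommGroup V]
    [Module L V] [Module.Finite L V] [Nontrivial V] {E : Type*} [Monoid E] {Q : Type*} [Fintype Q]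
    (F Finv : E → Module.End L V) (hFinv : ∀ x, F x * Finv x = 1)
    (T : Q → Module.End L V) (hT : ∀ c, Function.Injective (T c))
    (lam : Q → (E →* L)) (hlam : Function.Injective lam)
    (h1 : ∀ x c, F x * T c = lam c x • (T c * F x)) :
    LinearIndependent L T := by
  classical
  rw [Fintype.linearIndependent_iff]
  intro g hg c0
  -- the twisted relations
  have key : ∀ x : E, ∑ c, (g c * lam c x) • T c = 0 := by
    intro x
    have e1 : F x * (∑ c, g c • T c) = (∑ c, (g c * lam c x) • T c) * F x := by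
      rw [Finset.mul_sum, Finset.sum_mul]
      apply Finset.sum_congr rfl
      intro c _
      rw [mul_smul_comm, h1 x c, smul_smul, smul_mul_assoc]
    rw [hg, mul_zero] at e1
    have e2 := congrArg (· * Finv x) e1
    simp only [zero_mul, mul_assoc, hFinv, mul_one] at e2
    exact e2.symm
  have hli : LinearIndependent L (fun c : Q => ((lam c : E →* L) : E → L)) :=
    (linearIndependent_monoidHom E L).comp lam hlam
  rw [Fintype.linearIndependent_iff] at hli
  obtain ⟨v, hv⟩ := exists_ne (0 : V)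
  have hTv : T c0 v ≠ 0 := by
    intro h
    exact hv (hT c0 (h.trans (map_zero _).symm))
  obtain ⟨φ, hφ⟩ : ∃ φ : Module.Dual L V, φ (T c0 v) ≠ 0 := by
    by_contra hcon
    push Not at hcon
    exact hTv ((Module.forall_dual_apply_eq_zero_iff L (T c0 v)).mp hcon)
  have h2 := hli (fun c => g c * φ (T c v)) (by
    funext x
    have h3 := congrArg (fun f : Module.End L V => φ (f v)) (key x)
    simp only [LinearMap.sum_apply, LinearMap.smul_apply, map_sum, map_smul, smul_eq_mul,
      LinearMap.zero_apply, map_zero] at h3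
    simp only [Finset.sum_apply, Pi.smul_apply, smul_eq_mul, Pi.zero_apply]
    rw [← h3]
    apply Finset.sum_congr rfl
    intro c _
    ring) c0
  rcases mul_eq_zero.mp h2 with h | h
  · exact h
  · exact absurd h hφ

universe u v

variable {q : ℕ} [Fact q.Prime] {V : Type u} [AddCommGroup V] [Module (ZMod q) V] [Finite V]
  [Nontrivial V] {G : Type v} [Group G] [Finite G] (ρ : G →* (V ≃ₗ[ZMod q] V))

omit [Finite V] [Nontrivial V] [Finite G] in
/-- `ρ(E)` commutes with the algebra generated by `ρ(A)` when `E` centralises `A`. -/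
theorem rEnd_comm_spanAlg (A E : Subgroup G) (hEC : E ≤ Subgroup.centralizer (A : Set G))
    {b : G} (hb : b ∈ E) : ∀ k ∈ spanAlg ρ A, rEnd ρ b * k = k * rEnd ρ b := by
  have hle : spanAlg ρ A ≤ Subalgebra.centralizer (ZMod q) {rEnd ρ b} := by
    unfold spanAlg
    apply Algebra.adjoin_le
    rintro _ ⟨a, ha, rfl⟩
    rw [SetLike.mem_coe, Subalgebra.mem_centralizer_iff]
    intro g hg
    rw [Set.mem_singleton_iff] at hg
    subst hg
    simp only
    rw [← rEnd_mul, ← rEnd_mul, (Subgroup.mem_centralizer_iff.mp (hEC hb)) a ha]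
  intro k hk
  have := (Subalgebra.mem_centralizer_iff (ZMod q)).mp (hle hk) (rEnd ρ b) rfl
  exact this

/-- (B5) -/
theorem relIndex_le_sq (hρ : Function.Injective ρ) (A E : Subgroup G)
    (hK : Good ρ (spanAlg ρ A)) (hAE : A ≤ E) (hEC : E ≤ Subgroup.centralizer (A : Set G))
    (hcomm : ∀ b ∈ E, ∀ b' ∈ E, b * b' * b⁻¹ * b'⁻¹ ∈ A)
    (hZ : ∀ b ∈ E, (∀ b' ∈ E, b * b' = b' * b) → b ∈ A) (m n : ℕ)
    (hm : Nat.card (spanAlg ρ A) = q ^ m) (hn : Nat.card V = q ^ n) :
    ∃ d : ℕ, n = m * d ∧ A.relIndex E ≤ d ^ 2 := by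
  classical
  obtain ⟨L, instF, instFin, ι, hιinj, hιrange⟩ := hK.exists_field
  let _ : Field L := instF
  have : Finite L := instFin
  let modL : Module L V := Module.compHom V ι
  have hsmul : ∀ (l : L) (v : V), l • v = ι l v := fun _ _ => rfl
  have : Module.Finite L V := Module.Finite.of_finite
  -- cardinalities
  have hcardL : Nat.card L = q ^ m := by
    rw [← hm]
    have e : L ≃ Set.range ι := Equiv.ofInjective ι hιinj
    rw [Nat.card_congr e, hιrange]
    rfl
  have hq2 : 2 ≤ q := (Fact.out : q.Prime).two_le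
  have hnd : n = m * finrank L V := by
    have h1 := Module.natCard_eq_pow_finrank (K := L) (V := V)
    rw [hn, hcardL, ← pow_mul] at h1
    exact Nat.pow_right_injective hq2 h1
  refine ⟨finrank L V, hnd, ?_⟩
  -- membership of commutator images in the range of `ι`
  have hmemι : ∀ a ∈ A, ∃ l : L, ι l = rEnd ρ a := by
    intro a ha
    have : rEnd ρ a ∈ Set.range ι := by
      rw [hιrange]
      exact rEnd_mem_spanAlg ρ ha
    exact this
  -- the `L`-linear maps `F b`
  have hcommι : ∀ b ∈ E, ∀ (l : L) (v : V), ρ b (ι l v) = ι l (ρ b v) := by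
    intro b hb l v
    have hk : ι l ∈ spanAlg ρ A := by
      have : ι l ∈ Set.range ι := ⟨l, rfl⟩
      rw [hιrange] at this
      exact this
    have := rEnd_comm_spanAlg ρ A E hEC hb (ι l) hk
    exact congrArg (fun f : Module.End (ZMod q) V => f v) this
  let F : ↥E → Module.End L V := fun b =>
    { toFun := fun v => ρ (b : G) v
      map_add' := fun v w => map_add _ v w
      map_smul' := fun l v => by
        rw [RingHom.id_apply, hsmul, hsmul]
        exact hcommι b b.2 l v }
  have hFapp : ∀ (b : ↥E) (v : V), F b v = ρ (b : G) v := fun _ _ => rfl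
  -- coset representatives
  let t : (↥E ⧸ A.subgroupOf E) → ↥E := fun c => Quotient.out c
  have hcmem : ∀ x y : ↥E, ((x : G) * y * (x : G)⁻¹ * (y : G)⁻¹) ∈ A :=
    fun x y => hcomm x x.2 y y.2
  have hex : ∀ y x : ↥E, ∃ l : L, ι l = rEnd ρ ((x : G) * y * (x : G)⁻¹ * (y : G)⁻¹) :=
    fun y x => hmemι _ (hcmem x y)
  let lamFun : ↥E → ↥E → L := fun y x => Classical.choose (hex y x)
  have hlamFun : ∀ y x : ↥E, ι (lamFun y x) = rEnd ρ ((x : G) * y * (x : G)⁻¹ * (y : G)⁻¹) :=
    fun y x => Classical.choose_spec (hex y x)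
  let lamHom : ↥E → (↥E →* L) := fun y =>
    { toFun := lamFun y
      map_one' := by
        apply hιinj
        rw [hlamFun, map_one]
        have : ((1 : ↥E) : G) * y * ((1 : ↥E) : G)⁻¹ * (y : G)⁻¹ = 1 := by
          rw [Subgroup.coe_one]; group
        rw [this, rEnd_one]
      map_mul' := fun x x' => by
        apply hιinj
        rw [map_mul, hlamFun, hlamFun, hlamFun]
        -- `[x x', y] = [x', y] [x, y]`
        have hc : (x : G) * ((x' : G) * y * (x' : G)⁻¹ * (y : G)⁻¹) =
            ((x' : G) * y * (x' : G)⁻¹ * (y : G)⁻¹) * x :=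
          ((Subgroup.mem_centralizer_iff.mp (hEC x.2)) _ (hcmem x' y)).symm
        have e : ((x * x' : ↥E) : G) * y * ((x * x' : ↥E) : G)⁻¹ * (y : G)⁻¹ =
            ((x' : G) * y * (x' : G)⁻¹ * (y : G)⁻¹) * ((x : G) * y * (x : G)⁻¹ * (y : G)⁻¹) := by
          rw [Subgroup.coe_mul]
          calc (x : G) * x' * y * ((x : G) * x')⁻¹ * (y : G)⁻¹
              = ((x : G) * ((x' : G) * y * (x' : G)⁻¹ * (y : G)⁻¹)) * y * (x : G)⁻¹ * (y : G)⁻¹ := by
                group
            _ = (((x' : G) * y * (x' : G)⁻¹ * (y : G)⁻¹) * x) * y * (x : G)⁻¹ * (y : G)⁻¹ := by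
                rw [hc]
            _ = _ := by group
        rw [e, rEnd_mul, ← hlamFun y x', ← hlamFun y x, ← map_mul, ← map_mul, mul_comm] }
  have hlamApp : ∀ y x : ↥E, lamHom y x = lamFun y x := fun _ _ => rfl
  -- the independence
  have hLI : LinearIndependent L (fun c : ↥E ⧸ A.subgroupOf E => F (t c)) := by
    have : Fintype (↥E ⧸ A.subgroupOf E) := Fintype.ofFinite _
    apply linearIndependent_of_twist F (fun x => F x⁻¹) ?_ (fun c => F (t c)) ?_
      (fun c => lamHom (t c)) ?_ ?_
    · intro x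
      ext v
      rw [Module.End.mul_apply, hFapp, hFapp, Module.End.one_apply, Subgroup.coe_inv,
        ← LinearEquiv.mul_apply, ← map_mul, mul_inv_cancel, map_one]
      rfl
    · intro c v w hvw
      rw [hFapp, hFapp] at hvw
      exact (ρ (t c : G)).injective hvw
    · -- distinct cosets give distinct characters
      intro c c' hcc
      have hall : ∀ x : ↥E, (x : G) * (t c : G) * (x : G)⁻¹ * (t c : G)⁻¹ =
          (x : G) * (t c' : G) * (x : G)⁻¹ * (t c' : G)⁻¹ := by
        intro x
        have h1 : lamHom (t c) x = lamHom (t c') x := by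
          have := congrArg (fun f : ↥E →* L => f x) hcc
          exact this
        rw [hlamApp, hlamApp] at h1
        have h2 := congrArg ι h1
        rw [hlamFun, hlamFun] at h2
        have h3 : ρ ((x : G) * (t c : G) * (x : G)⁻¹ * (t c : G)⁻¹) =
            ρ ((x : G) * (t c' : G) * (x : G)⁻¹ * (t c' : G)⁻¹) := by
          apply LinearEquiv.toLinearMap_injective
          exact h2
        exact hρ h3
      have hmem : ((t c' : G))⁻¹ * (t c : G) ∈ A := by
        apply hZ _ (E.mul_mem (E.inv_mem (t c').2) (t c).2)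
        intro b' hb'
        have := hall ⟨b'⁻¹, E.inv_mem hb'⟩
        simp only at this
        -- b'⁻¹ t b' t⁻¹ = b'⁻¹ t' b' t'⁻¹
        have e : (t c : G) * b' * (t c : G)⁻¹ = (t c' : G) * b' * (t c' : G)⁻¹ := by
          have h4 : b' * (b'⁻¹ * (t c : G) * b'⁻¹⁻¹ * (t c : G)⁻¹) =
              b' * (b'⁻¹ * (t c' : G) * b'⁻¹⁻¹ * (t c' : G)⁻¹) := by rw [this]
          calc (t c : G) * b' * (t c : G)⁻¹
              = b' * (b'⁻¹ * (t c : G) * b'⁻¹⁻¹ * (t c : G)⁻¹) := by group
            _ = b' * (b'⁻¹ * (t c' : G) * b'⁻¹⁻¹ * (t c' : G)⁻¹) := h4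
            _ = (t c' : G) * b' * (t c' : G)⁻¹ := by group
        calc (t c' : G)⁻¹ * (t c : G) * b'
            = (t c' : G)⁻¹ * ((t c : G) * b' * (t c : G)⁻¹) * (t c : G) := by group
          _ = (t c' : G)⁻¹ * ((t c' : G) * b' * (t c' : G)⁻¹) * (t c : G) := by rw [e]
          _ = b' * ((t c' : G)⁻¹ * (t c : G)) := by group
      have h5 : (QuotientGroup.mk (t c') : ↥E ⧸ A.subgroupOf E) = QuotientGroup.mk (t c) := by
        rw [QuotientGroup.eq, Subgroup.mem_subgroupOf]
        simpa using hmem
      have h6 : ∀ d : ↥E ⧸ A.subgroupOf E, (QuotientGroup.mk (t d) : ↥E ⧸ A.subgroupOf E) = d :=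
        fun d => QuotientGroup.out_eq' d
      rw [h6, h6] at h5
      exact h5.symm
    · -- the twist relation
      intro x c
      ext v
      rw [Module.End.mul_apply, hFapp, hFapp, LinearMap.smul_apply, Module.End.mul_apply, hFapp,
        hFapp, hsmul, hlamApp, hlamFun]
      show ρ (x : G) (ρ (t c : G) v) =
        ρ ((x : G) * (t c : G) * (x : G)⁻¹ * (t c : G)⁻¹) (ρ (t c : G) (ρ (x : G) v))
      rw [← LinearEquiv.mul_apply, ← LinearEquiv.mul_apply, ← LinearEquiv.mul_apply, ← map_mul,
        ← map_mul, ← map_mul]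
      congr 2
      group
  have : Fintype (↥E ⧸ A.subgroupOf E) := Fintype.ofFinite _
  have hle := hLI.fintype_card_le_finrank
  rw [Module.finrank_linearMap] at hle
  have hrel : A.relIndex E = Fintype.card (↥E ⧸ A.subgroupOf E) := by
    rw [← Nat.card_eq_fintype_card]
    rfl
  rw [hrel, pow_two]
  exact hle

end Cfsg.Agent.Helper25.HupB5
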