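import Mathlib
import Cfsg.Agent.Helper24.HupField
import Cfsg.Agent.Helper25.HupB5

/-!
# Huppert's theorem, piece (B3): `|G : C_G(A)|` divides `m`
-/

set_option autoImplicit false

namespace Cfsg.Agent.Helper25.HupB3

open Cfsg.Agent.Helper24.Hup Module

universe u v

variable {q : ℕ} [Fact q.Prime] {V : Type u} [AddCommGroup V] [Module (ZMod q) V] [Finite V]
  [Nontrivial V] {G : Type v} [Group G] [Finite G] (ρ : G →* (V ≃ₗ[ZMod q] V))

/-- (B3) -/
theorem index_centralizer_dvd (hρ : Function.Injective ρ) (A : Subgroup G)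
    (hK : Good ρ (spanAlg ρ A)) (m : ℕ) (hm : Nat.card (spanAlg ρ A) = q ^ m) :
    (Subgroup.centralizer (A : Set G)).index ∣ m := by
  classical
  obtain ⟨L, instF, instFin, ι, hιinj, hιrange⟩ := hK.exists_field
  let _ : Field L := instF
  have : Finite L := instFin
  have hq2 : 2 ≤ q := (Fact.out : q.Prime).two_le
  -- characteristic `q`
  have hchar : CharP L q := by
    have h0 : ((q : ℕ) : L) = 0 := by
      apply hιinj
      rw [map_natCast, map_zero]
      ext v
      rw [Module.End.natCast_apply, LinearMap.zero_apply]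
      have : ((q : ℕ) : ZMod q) = 0 := ZMod.natCast_self q
      rw [Nat.cast_smul_eq_nsmul (ZMod q) q v |>.symm, this, zero_smul]
    exact (CharP.charP_iff_prime_eq_zero (Fact.out : q.Prime)).mpr h0
  let _ : Algebra (ZMod q) L := ZMod.algebra L q
  have hcardL : Nat.card L = q ^ m := by
    rw [← hm]
    have e : L ≃ Set.range ι := Equiv.ofInjective ι hιinj
    rw [Nat.card_congr e, hιrange]
    rfl
  have hfin : finrank (ZMod q) L = m := by
    have h1 := Module.natCard_eq_pow_finrank (K := ZMod q) (V := L)
    rw [hcardL, Nat.card_zmod] at h1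
    exact (Nat.pow_right_injective hq2 h1).symm
  -- the conjugation maps
  have hex : ∀ (g : G) (l : L), ∃ l' : L, ι l' = rEnd ρ g * ι l * rEnd ρ g⁻¹ := by
    intro g l
    have h1 : ι l ∈ spanAlg ρ A := by
      have : ι l ∈ Set.range ι := ⟨l, rfl⟩
      rw [hιrange] at this
      exact this
    have h2 := hK.conj g (ι l) h1
    have : rEnd ρ g * ι l * rEnd ρ g⁻¹ ∈ Set.range ι := by
      rw [hιrange]; exact h2
    exact this
  choose φ hφ using hex
  have hφone : ∀ l, φ 1 l = l := by
    intro l
    apply hιinj
    rw [hφ, inv_one, rEnd_one, one_mul, mul_one]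
  have hφmul : ∀ g h l, φ (g * h) l = φ g (φ h l) := by
    intro g h l
    apply hιinj
    rw [hφ, hφ, hφ, mul_inv_rev, rEnd_mul, rEnd_mul]
    simp only [mul_assoc]
  let φhom : G → (L →+* L) := fun g =>
    { toFun := φ g
      map_one' := by
        apply hιinj
        rw [hφ, map_one, mul_one, rEnd_mul_inv]
      map_mul' := fun a b => by
        apply hιinj
        rw [hφ, map_mul, map_mul, hφ, hφ]
        have h1 := rEnd_inv_mul ρ g
        calc rEnd ρ g * (ι a * ι b) * rEnd ρ g⁻¹
            = rEnd ρ g * ι a * 1 * ι b * rEnd ρ g⁻¹ := by simp only [mul_assoc, one_mul]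
          _ = rEnd ρ g * ι a * (rEnd ρ g⁻¹ * rEnd ρ g) * ι b * rEnd ρ g⁻¹ := by rw [h1]
          _ = _ := by simp only [mul_assoc]
      map_zero' := by
        apply hιinj
        rw [hφ, map_zero, mul_zero, zero_mul]
      map_add' := fun a b => by
        apply hιinj
        rw [hφ, map_add, map_add, hφ, hφ, mul_add, add_mul] }
  have hφhom : ∀ g l, φhom g l = φ g l := fun _ _ => rfl
  let Φ : G →* (L ≃ₐ[ZMod q] L) :=
    { toFun := fun g => AlgEquiv.ofRingEquiv
        (f := RingEquiv.ofRingHom (φhom g) (φhom g⁻¹)
          (by ext l; simp only [RingHom.comp_apply, RingHom.id_apply, hφhom]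
              rw [← hφmul, mul_inv_cancel, hφone])
          (by ext l; simp only [RingHom.comp_apply, RingHom.id_apply, hφhom]
              rw [← hφmul, inv_mul_cancel, hφone]))
        (fun r => by
          have : (φhom g).comp (algebraMap (ZMod q) L) = algebraMap (ZMod q) L :=
            Subsingleton.elim _ _
          exact RingHom.congr_fun this r)
      map_one' := by
        ext l
        show φ 1 l = l
        exact hφone l
      map_mul' := fun g h => by
        ext l
        show φ (g * h) l = φ g (φ h l)
        exact hφmul g h l }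
  have hΦapp : ∀ g l, Φ g l = φ g l := fun _ _ => rfl
  -- the kernel
  have hker : Subgroup.centralizer (A : Set G) = Φ.ker := by
    ext g
    rw [MonoidHom.mem_ker]
    constructor
    · intro hg
      ext l
      rw [hΦapp, AlgEquiv.one_apply]
      apply hιinj
      rw [hφ]
      have h1 : ι l ∈ spanAlg ρ A := by
        have : ι l ∈ Set.range ι := ⟨l, rfl⟩
        rw [hιrange] at this
        exact this
      have h2 := Cfsg.Agent.Helper25.HupB5.rEnd_comm_spanAlg ρ A
        (Subgroup.centralizer (A : Set G)) le_rfl hg (ι l) h1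
      rw [h2, mul_assoc, rEnd_mul_inv, mul_one]
    · intro hg
      rw [Subgroup.mem_centralizer_iff]
      intro a ha
      have h1 : rEnd ρ a ∈ Set.range ι := by
        rw [hιrange]; exact rEnd_mem_spanAlg ρ ha
      obtain ⟨l, hl⟩ := h1
      have h2 : φ g l = l := by
        have := congrArg (fun f : L ≃ₐ[ZMod q] L => f l) hg
        simpa [hΦapp] using this
      have h3 := hφ g l
      rw [h2, hl, ← rEnd_mul, ← rEnd_mul] at h3
      -- rEnd ρ a = rEnd ρ (g * a * g⁻¹)
      have h4 : ρ a = ρ (g * a * g⁻¹) := LinearEquiv.toLinearMap_injective h3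
      have h5 := hρ h4
      calc a * g = (g * a * g⁻¹) * g := by rw [← h5]
        _ = g * a := by group
  rw [hker, Subgroup.index_ker]
  have h1 := Subgroup.card_subgroup_dvd_card Φ.range
  rw [IsGalois.card_aut_eq_finrank, hfin] at h1
  exact h1

end Cfsg.Agent.Helper25.HupB3
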