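import Cfsg.Agent.Helper22.S1572Defs
import Cfsg.Agent.Helper22.OctTwo
import Cfsg.Agent.Helper27.GolaySteiner

/-! S1572 (driver helper22), piece EVENSUB: every even subset of an octad is cut out on the octad by a
codeword (symmetric differences of octads meeting the given one in two points). -/

set_option autoImplicit false

namespace Cfsg.Agent.S1572P

open Cfsg Cfsg.Agent.Helper27 Cfsg.Agent.Helper22.Co0Mono Cfsg.Agent.Helper22.CrossStab
  Cfsg.Agent.Helper22.Co0Center Cfsg.Agent.Helper22.MinTrans Cfsg.Agent.Helper22.Co0Order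
  Cfsg.Agent.Helper22.Census
open scoped Pointwise

namespace EVENSUB

/-- an octad meeting `O` exactly in the two given points -/
theorem exists_octad_pair {O : Finset GolayPt} (hO : O ∈ octads) {a b : GolayPt} (hab : a ≠ b)
    (ha : a ∈ O) (hb : b ∈ O) : ∃ w ∈ golayCode, support₂ w ∩ O = {a, b} := by
  have hcount := (Cfsg.Agent.Helper22.OctTwo.count 2 hab hO ha hb).trans
    Cfsg.Agent.Helper22.OctTwo.cnt2
  have hne : {x : Finset GolayPt | x ∈ octads ∧ a ∈ x ∧ b ∈ x ∧ (O ∩ x).card = 2}.Nonempty := by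
    rw [← Set.ncard_pos (Set.toFinite _), hcount]
    norm_num
  obtain ⟨x, hx, hax, hbx, hcard⟩ := hne
  obtain ⟨⟨w, hw, hwx⟩, -⟩ := hx
  refine ⟨w, hw, ?_⟩
  rw [hwx, Finset.inter_comm]
  symm
  apply Finset.eq_of_subset_of_card_le
  · intro q hq
    rw [Finset.mem_insert, Finset.mem_singleton] at hq
    rcases hq with rfl | rfl
    · exact Finset.mem_inter.mpr ⟨ha, hax⟩
    · exact Finset.mem_inter.mpr ⟨hb, hbx⟩
  · rw [hcard, Finset.card_pair hab]

theorem main {O : Finset GolayPt} (hO : O ∈ octads) : ∀ (k : ℕ) (S : Finset GolayPt), S ⊆ O →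
    S.card = 2 * k → ∃ u ∈ golayCode, support₂ u ∩ O = S := by
  intro k
  induction k with
  | zero =>
    intro S _ hc
    rw [Nat.mul_zero, Finset.card_eq_zero] at hc
    refine ⟨0, golayCode.zero_mem, ?_⟩
    rw [hc, support₂_zero, Finset.empty_inter]
  | succ k ih =>
    intro S hS hc
    have hpos : 0 < S.card := by omega
    obtain ⟨a, ha⟩ := Finset.card_pos.mp hpos
    have hc1 : (S.erase a).card = 2 * k + 1 := by
      rw [Finset.card_erase_of_mem ha, hc]; omega
    have hpos1 : 0 < (S.erase a).card := by omega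
    obtain ⟨b, hb⟩ := Finset.card_pos.mp hpos1
    have hba : b ≠ a := (Finset.mem_erase.mp hb).1
    have hbS : b ∈ S := (Finset.mem_erase.mp hb).2
    set S' := (S.erase a).erase b with hS'
    have hc2 : S'.card = 2 * k := by
      rw [hS', Finset.card_erase_of_mem hb, hc1]; rfl
    have hS'S : S' ⊆ S := (Finset.erase_subset _ _).trans (Finset.erase_subset _ _)
    obtain ⟨u', hu', hu'S⟩ := ih S' (hS'S.trans hS) hc2
    obtain ⟨w, hw, hwab⟩ := exists_octad_pair hO (Ne.symm hba) (hS ha) (hS hbS)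
    refine ⟨u' + w, golayCode.add_mem hu' hw, ?_⟩
    rw [support₂_add]
    ext q
    rw [Finset.mem_inter, Finset.mem_symmDiff]
    have h1 : q ∈ support₂ u' ∧ q ∈ O ↔ q ∈ S' := by rw [← Finset.mem_inter, hu'S]
    have h2 : q ∈ support₂ w ∧ q ∈ O ↔ q = a ∨ q = b := by
      rw [← Finset.mem_inter, hwab, Finset.mem_insert, Finset.mem_singleton]
    have h3 : q ∈ S' ↔ q ∈ S ∧ q ≠ a ∧ q ≠ b := by
      rw [hS', Finset.mem_erase, Finset.mem_erase]
      tauto
    constructor
    · rintro ⟨hq, hqO⟩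
      rcases hq with ⟨hq1, hq2⟩ | ⟨hq1, hq2⟩
      · exact (h3.mp (h1.mp ⟨hq1, hqO⟩)).1
      · rcases h2.mp ⟨hq1, hqO⟩ with rfl | rfl
        · exact ha
        · exact hbS
    · intro hqS
      have hqO : q ∈ O := hS hqS
      refine ⟨?_, hqO⟩
      by_cases hqab : q = a ∨ q = b
      · right
        refine ⟨(h2.mpr hqab).1, ?_⟩
        intro hq1
        have := h3.mp (h1.mp ⟨hq1, hqO⟩)
        rcases hqab with h | h
        · exact this.2.1 h
        · exact this.2.2 h
      · left
        push Not at hqab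
        have hq' : q ∈ S' := h3.mpr ⟨hqS, hqab.1, hqab.2⟩
        refine ⟨(h1.mpr hq').1, ?_⟩
        intro hq2
        rcases h2.mp ⟨hq2, hqO⟩ with h | h
        · exact hqab.1 h
        · exact hqab.2 h

end EVENSUB

/-- EVENSUB: every even subset of an octad is cut out by a codeword -/
theorem exists_word_inter {O : Finset GolayPt} (hO : O ∈ octads) {S : Finset GolayPt} (hS : S ⊆ O)
    (hev : Even S.card) : ∃ u ∈ golayCode, support₂ u ∩ O = S := by
  obtain ⟨k, hk⟩ := hev
  exact EVENSUB.main hO k S hS (by rw [hk]; ring)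

end Cfsg.Agent.S1572P
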