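import Mathlib
import Cfsg.Agent.Helper29.S2558DDefs

/-! S2558 chapter (D), piece SUMGRAM (helper25): a basis of an orthogonal sum whose Gram determinant is the
product of the Gram determinants of the summands. -/

set_option autoImplicit false

namespace Cfsg.Agent.S2558P

open Cfsg.Agent.Helper2.SympInvol Cfsg.Agent.S2482P

universe u

namespace DISC

/-- SUMGRAM: the basis `e.symm ∘ (b₁ ⊕ b₂)` reindexed by `finSumFinEquiv`; the Gram matrix is
`Matrix.fromBlocks G₁ 0 0 G₂` reindexed (`Matrix.det_fromBlocks_zero₂₁`, `Matrix.det_reindex_self`). -/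
theorem exists_basis_sum {F : Type u} [Field F] {S S₁ S₂ : SpSpace F} (hs : S.IsSum S₁ S₂)
    {k₁ k₂ : ℕ} (b₁ : Module.Basis (Fin k₁) F S₁.V) (b₂ : Module.Basis (Fin k₂) F S₂.V) :
    ∃ b : Module.Basis (Fin (k₁ + k₂)) F S.V,
      (LinearMap.BilinForm.toMatrix b S.B).det =
        (LinearMap.BilinForm.toMatrix b₁ S₁.B).det * (LinearMap.BilinForm.toMatrix b₂ S₂.B).det := by
  obtain ⟨e, hB, -⟩ := hs
  let c : Module.Basis (Fin k₁ ⊕ Fin k₂) F S.V := (b₁.prod b₂).map e.symm
  have hc1 : ∀ i, e (c (Sum.inl i)) = (b₁ i, 0) := by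
    intro i
    simp [c, Module.Basis.map_apply]
  have hc2 : ∀ i, e (c (Sum.inr i)) = (0, b₂ i) := by
    intro i
    simp [c, Module.Basis.map_apply]
  have hG : LinearMap.BilinForm.toMatrix c S.B =
      Matrix.fromBlocks (LinearMap.BilinForm.toMatrix b₁ S₁.B) 0 0
        (LinearMap.BilinForm.toMatrix b₂ S₂.B) := by
    ext i j
    rw [LinearMap.BilinForm.toMatrix_apply, hB]
    rcases i with i | i <;> rcases j with j | j
    · rw [hc1, hc1]
      simp [LinearMap.BilinForm.toMatrix_apply]
    · rw [hc1, hc2]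
      simp
    · rw [hc2, hc1]
      simp
    · rw [hc2, hc2]
      simp [LinearMap.BilinForm.toMatrix_apply]
  refine ⟨c.reindex finSumFinEquiv, ?_⟩
  have hR : LinearMap.BilinForm.toMatrix (c.reindex finSumFinEquiv) S.B =
      Matrix.reindex finSumFinEquiv finSumFinEquiv (LinearMap.BilinForm.toMatrix c S.B) := by
    ext i j
    rw [LinearMap.BilinForm.toMatrix_apply, Matrix.reindex_apply, Matrix.submatrix_apply,
      LinearMap.BilinForm.toMatrix_apply, Module.Basis.reindex_apply, Module.Basis.reindex_apply]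
  rw [hR, Matrix.det_reindex_self, hG, Matrix.det_fromBlocks_zero₂₁]

end DISC

end Cfsg.Agent.S2558P
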