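import Mathlib
import Cfsg.Agent.Helper2.S2094.DefsA
import Cfsg.Agent.Helper22.S2094DTRANS
import Cfsg.Agent.Helper11.S2094CHARB

set_option autoImplicit false
set_option linter.unusedSectionVars false
set_option linter.unusedVariables false

/-! S2094 chapter A, piece YTEQUIV (helper25; driver helper2): the canonical lifts `YT` of the short
root elements are equivariant under the torus `Hh X`. (Needs `lam ≠ 0`: for `lam = 0` the element
`tX X a k lam` is a Weyl element.) -/

namespace Cfsg.Agent.S2094P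

open Matrix Cfsg.Agent.S3352P Cfsg.Agent.S3351P Cfsg.Agent.S2096P Cfsg.Agent.S2086P
open scoped commutatorElement

variable {n : ℕ} {F : Type*} [Field F] [Fintype F] {G : Type*} [Group G] {E : Type*} [Group E]
  {X : J n → J n → F → G} {Ys : J n → F → G}

/-- YTEQUIV: the canonical lifts of the short root elements are equivariant under the torus -/
theorem conj_YT (π : G →* Matrix (I n) (I n) F)
    (hπX : ∀ a b, IsRoot a b → ∀ t : F, π (X a b t) = xmB a b t)
    (hπY : ∀ a, ∀ t : F, π (Ys a t) = ymB a t) (hn : 3 ≤ n) (h2 : (2 : F) ≠ 0)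
    (hB : BRel X Ys) (ψ : E →* G) (hψ : Function.Surjective ψ)
    (hc : ψ.ker ≤ Subgroup.center E) (lam : F) (hl0 : lam ≠ 0) {e₀ : E} (he : ψ e₀ ∈ Hh X)
    (a : J n) (t : F) :
    e₀ * YT X Ys ψ hψ hn lam a t * e₀⁻¹ =
      YT X Ys ψ hψ hn lam a (π (ψ e₀) (Sum.inr a) (Sum.inr a) * (π (ψ e₀) o0 o0)⁻¹ * t) := by
  have hle : Hh X ≤ HhB X Ys := by
    apply Subgroup.closure_mono
    exact Set.subset_union_left
  have htx : tX X a (th hn a a) lam ∈ Hh X :=
    Subgroup.subset_closure ⟨a, th hn a a, lam, isRoot_left_th hn a a, hl0, rfl⟩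
  have h1 : ψ e₀ * tX X a (th hn a a) lam * (ψ e₀)⁻¹ = tX X a (th hn a a) lam := by
    rw [Hh_comm_B π hπX hn hB.dX he htx]
    group
  have h3 := HhB_conj_Ys_eq π hπX hπY hn h2 hB (hle he) a ((lam - 1)⁻¹ * t)
  unfold YT
  rw [conj_cl ψ hψ hc, h1, h3]
  congr 2
  ring

end Cfsg.Agent.S2094P
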