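import Mathlib
import Cfsg.Agent.Helper2.S2096.Defs
import Cfsg.Agent.Helper2.S2096.DefsC
import Cfsg.Agent.Helper20.S2096CLW
import Cfsg.Agent.Helper18.S2096CLPQ

set_option autoImplicit false
set_option linter.unusedSectionVars false
set_option linter.unusedVariables false

/-! S2096/S2097 part C (the spin representation; driver helper2), piece CLE: the candidate central
element `zc` maps to `-1`. -/

namespace Cfsg.Agent.S2096P

open Cfsg.Agent.S3352P Cfsg.Agent.S3351P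

universe u

variable {n : ℕ} {F : Type*} [Field F] {A : Type*} [Ring A] [Algebra F A] {ψ : J n → A}

namespace CLE

/-- the ring computation -/
theorem ring_aux {R : Type*} [Ring R] (E E' : R) (h1 : E + E' = 1) (h2 : E * E' = 0) :
    (1 - 2 • E) * (1 - 2 • E') = -1 := by
  have hE' : E' = 1 - E := eq_sub_of_add_eq' h1
  have hEE : E * E = E := by
    rw [hE', mul_sub, mul_one, sub_eq_zero] at h2
    exact h2.symm
  rw [two_nsmul, two_nsmul, hE']
  have : (1 - (E + E)) * (1 - (1 - E + (1 - E))) = -1 + (E + E + (E + E)) - (E * E + E * E + (E * E + E * E)) := by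
    noncomm_ring
  rw [this, hEE]
  abel

end CLE

/-- CLE -/
theorem coe_zc_Xc (hψ : CAR ψ) {o o1 : Fin n} (ho : o ≠ o1) :
    ((zc (Xc (F := F) ψ) o o1 : Aˣ) : A) = -1 := by
  have hr1 : IsRoot (Sum.inl o : J n) (Sum.inl o1) :=
    ⟨fun h => ho (Sum.inl.inj h), fun h => by simp at h⟩
  have hr2 : IsRoot (Sum.inl o : J n) (Sum.inr o1) :=
    ⟨fun h => by simp at h, fun h => ho (by simpa using h)⟩
  unfold zc
  rw [Units.val_mul, coe_tX_Xc (F := F) hψ hr1, coe_tX_Xc (F := F) hψ hr2]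
  simp only [ng_inl, ng_inr]
  -- abbreviations
  have hpa := pp_add_ng hψ (Sum.inl o : J n)
  have hpb := pp_add_ng hψ (Sum.inl o1 : J n)
  simp only [ng_inl] at hpa hpb
  -- roots
  have r_ab : IsRoot (Sum.inl o : J n) (Sum.inl o1) := hr1
  have r_aB : IsRoot (Sum.inl o : J n) (Sum.inr o1) := hr2
  have r_Ab : IsRoot (Sum.inr o : J n) (Sum.inl o1) :=
    ⟨fun h => by simp at h, fun h => ho (by simpa using h)⟩
  have r_AB : IsRoot (Sum.inr o : J n) (Sum.inr o1) :=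
    ⟨fun h => ho (Sum.inr.inj h), fun h => by simp at h⟩
  -- orthogonality
  have z_a : pp ψ (Sum.inl o : J n) * pp ψ (Sum.inr o) = 0 := pp_mul_ng hψ (Sum.inl o)
  have z_A : pp ψ (Sum.inr o : J n) * pp ψ (Sum.inl o) = 0 := pp_mul_ng hψ (Sum.inr o)
  have z_b : pp ψ (Sum.inl o1 : J n) * pp ψ (Sum.inr o1) = 0 := pp_mul_ng hψ (Sum.inl o1)
  have z_B : pp ψ (Sum.inr o1 : J n) * pp ψ (Sum.inl o1) = 0 := pp_mul_ng hψ (Sum.inr o1)
  -- idempotents
  have i_B : pp ψ (Sum.inr o1 : J n) * pp ψ (Sum.inr o1) = pp ψ (Sum.inr o1) :=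
    pp_mul_self hψ _
  have i_A : pp ψ (Sum.inr o : J n) * pp ψ (Sum.inr o) = pp ψ (Sum.inr o) := pp_mul_self hψ _
  -- commutations
  have c_aB := pp_mul_comm hψ r_aB
  have c_Ab := pp_mul_comm hψ r_Ab
  have c_ab := pp_mul_comm hψ r_ab
  have c_AB := pp_mul_comm hψ r_AB
  apply CLE.ring_aux
  · -- `E + E' = 1`
    calc pp ψ (Sum.inl o : J n) * pp ψ (Sum.inr o1) + pp ψ (Sum.inl o1) * pp ψ (Sum.inr o) +
          (pp ψ (Sum.inl o) * pp ψ (Sum.inl o1) + pp ψ (Sum.inr o1) * pp ψ (Sum.inr o))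
        = pp ψ (Sum.inl o : J n) * (pp ψ (Sum.inl o1) + pp ψ (Sum.inr o1)) +
            (pp ψ (Sum.inl o1) + pp ψ (Sum.inr o1)) * pp ψ (Sum.inr o) := by noncomm_ring
      _ = 1 := by rw [hpb, mul_one, one_mul, hpa]
  · -- `E * E' = 0`
    have t1 : pp ψ (Sum.inl o : J n) * pp ψ (Sum.inr o1) *
        (pp ψ (Sum.inl o) * pp ψ (Sum.inl o1)) = 0 := by
      rw [mul_assoc, ← mul_assoc (pp ψ (Sum.inr o1)), ← c_aB, mul_assoc, z_B, mul_zero, mul_zero]
    have t2 : pp ψ (Sum.inl o : J n) * pp ψ (Sum.inr o1) *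
        (pp ψ (Sum.inr o1) * pp ψ (Sum.inr o)) = 0 := by
      rw [mul_assoc, ← mul_assoc (pp ψ (Sum.inr o1)), i_B, ← c_AB, ← mul_assoc, z_a, zero_mul]
    have t3 : pp ψ (Sum.inl o1 : J n) * pp ψ (Sum.inr o) *
        (pp ψ (Sum.inl o) * pp ψ (Sum.inl o1)) = 0 := by
      rw [mul_assoc, ← mul_assoc (pp ψ (Sum.inr o)), z_A, zero_mul, mul_zero]
    have t4 : pp ψ (Sum.inl o1 : J n) * pp ψ (Sum.inr o) *
        (pp ψ (Sum.inr o1) * pp ψ (Sum.inr o)) = 0 := by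
      rw [mul_assoc, ← mul_assoc (pp ψ (Sum.inr o)), c_AB, mul_assoc, i_A, ← mul_assoc, z_b,
        zero_mul]
    rw [add_mul, mul_add, mul_add, t1, t2, t3, t4]
    abel

end Cfsg.Agent.S2096P
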