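import Cfsg.Agent.Helper21.S2287DEFS
import Cfsg.Agent.Helper21.S2286FIN
import Cfsg.Agent.Helper19.S2287TORUS

/-! S2287 (driver helper21), piece ROOTS: the root elements `xr k l a` are additive in `a`, are
permuted by `c` and scaled by the torus. -/

namespace Cfsg.Agent.Helper21.S2287

open Multiplicative Cfsg.Agent.Helper21.S2286

variable {F : Type*} [Field F] {P : Type*} [Group P] (D : A2Data F P)

namespace ROOTS

theorem conj_through {P : Type*} [Group P] (τ τ' g y y' : P) (h1 : τ * g = g * τ')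
    (h2 : τ' * y * τ'⁻¹ = y') : τ * (g * y * g⁻¹) * τ⁻¹ = g * y' * g⁻¹ := by
  have h3 : g⁻¹ * τ⁻¹ = τ'⁻¹ * g⁻¹ := by
    rw [← mul_inv_rev, ← mul_inv_rev, h1]
  calc τ * (g * y * g⁻¹) * τ⁻¹ = (τ * g) * y * (g⁻¹ * τ⁻¹) := by group
    _ = g * (τ' * y * τ'⁻¹) * g⁻¹ := by rw [h1, h3]; group
    _ = g * y' * g⁻¹ := by rw [h2]

theorem conj_mul' {P : Type*} [Group P] (g x y : P) :
    g * (x * y) * g⁻¹ = (g * x * g⁻¹) * (g * y * g⁻¹) := by group

theorem conj_inv' {P : Type*} [Group P] (g x : P) : g * x⁻¹ * g⁻¹ = (g * x * g⁻¹)⁻¹ := by group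

theorem conj_one' {P : Type*} [Group P] (g : P) : g * 1 * g⁻¹ = 1 := by group

/-- the three shapes of `xr` -/
theorem xr_up (k : Fin 3) (a : F) :
    D.xr k (k + 1) a = D.c ^ (k : ℕ) * D.φ (ofAdd a) * (D.c ^ (k : ℕ))⁻¹ := by
  unfold A2Data.xr
  rw [if_pos rfl]

theorem xr_down (l : Fin 3) (a : F) :
    D.xr (l + 1) l a = D.c ^ (l : ℕ) * (D.t * D.φ (ofAdd (-a)) * D.t⁻¹) * (D.c ^ (l : ℕ))⁻¹ := by
  unfold A2Data.xr
  have h1 : ¬ l = l + 1 + 1 := by revert l; decide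
  rw [if_neg h1, if_pos rfl]

theorem xr_diag (k : Fin 3) (a : F) : D.xr k k a = 1 := by
  unfold A2Data.xr
  have h1 : ¬ k = k + 1 := by revert k; decide
  rw [if_neg h1, if_neg h1]

/-- every pair is of one of the three shapes -/
theorem shape (k l : Fin 3) : l = k + 1 ∨ k = l + 1 ∨ k = l := by
  revert k l; decide

theorem tor_c (i j : ℤ) : D.tor i j * D.c = D.c * D.tor (-i - j) i := by
  have h := D.c_tor (-i - j) i
  have e : -(-i - j) - i = j := by ring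
  rw [e] at h
  rw [← h]
  group

theorem tor_t (i j : ℤ) : D.tor i j * D.t = D.t * D.tor (-i - j) j := by
  have h := D.t_tor (-i - j) j
  have e : -(-i - j) - j = i := by ring
  rw [e] at h
  rw [← h]
  group

theorem phi_zero : D.φ (ofAdd (0 : F)) = 1 := by
  rw [ofAdd_zero, map_one]

theorem phi_add (a b : F) : D.φ (ofAdd (a + b)) = D.φ (ofAdd a) * D.φ (ofAdd b) := by
  rw [ofAdd_add, map_mul]

theorem phi_neg (a : F) : D.φ (ofAdd (-a)) = (D.φ (ofAdd a))⁻¹ := by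
  rw [ofAdd_neg, map_inv]

end ROOTS

namespace A2Data

open ROOTS

theorem xr_zero (k l : Fin 3) : D.xr k l 0 = 1 := by
  rcases shape k l with rfl | rfl | rfl
  · rw [xr_up, phi_zero, conj_one']
  · have h1 : D.t * D.φ (ofAdd (-(0 : F))) * D.t⁻¹ = 1 := by
      rw [neg_zero, phi_zero, conj_one']
    rw [xr_down, h1, conj_one']
  · rw [xr_diag]

theorem xr_add (k l : Fin 3) (a b : F) : D.xr k l (a + b) = D.xr k l a * D.xr k l b := by
  rcases shape k l with rfl | rfl | rfl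
  · rw [xr_up, xr_up, xr_up, phi_add, conj_mul']
  · have h1 : D.t * D.φ (ofAdd (-(a + b))) * D.t⁻¹ =
        (D.t * D.φ (ofAdd (-a)) * D.t⁻¹) * (D.t * D.φ (ofAdd (-b)) * D.t⁻¹) := by
      rw [neg_add, phi_add, conj_mul']
    rw [xr_down, xr_down, xr_down, h1, conj_mul']
  · rw [xr_diag, xr_diag, xr_diag, one_mul]

theorem xr_neg (k l : Fin 3) (a : F) : D.xr k l (-a) = (D.xr k l a)⁻¹ := by
  rcases shape k l with rfl | rfl | rfl
  · rw [xr_up, xr_up, phi_neg, conj_inv']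
  · have h1 : D.t * D.φ (ofAdd (-(-a))) * D.t⁻¹ = (D.t * D.φ (ofAdd (-a)) * D.t⁻¹)⁻¹ := by
      rw [phi_neg (D := D) (-a), conj_inv']
    rw [xr_down, xr_down, h1, conj_inv']
  · rw [xr_diag, xr_diag, inv_one]

theorem xr_self (k : Fin 3) (a : F) : D.xr k k a = 1 := xr_diag D k a

theorem c_xr (k l : Fin 3) (a : F) : D.c * D.xr k l a * D.c⁻¹ = D.xr (k + 1) (l + 1) a := by
  have hc3 : D.c ^ 3 = 1 := by
    rw [pow_succ, pow_two]
    exact D.c3
  have key : ∀ (k : Fin 3) (y : P), D.c * (D.c ^ (k : ℕ) * y * (D.c ^ (k : ℕ))⁻¹) * D.c⁻¹ =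
      D.c ^ ((k + 1 : Fin 3) : ℕ) * y * (D.c ^ ((k + 1 : Fin 3) : ℕ))⁻¹ := by
    intro k y
    fin_cases k
    · show D.c * (D.c ^ 0 * y * (D.c ^ 0)⁻¹) * D.c⁻¹ = D.c ^ 1 * y * (D.c ^ 1)⁻¹
      group
    · show D.c * (D.c ^ 1 * y * (D.c ^ 1)⁻¹) * D.c⁻¹ = D.c ^ 2 * y * (D.c ^ 2)⁻¹
      group
    · show D.c * (D.c ^ 2 * y * (D.c ^ 2)⁻¹) * D.c⁻¹ = D.c ^ 0 * y * (D.c ^ 0)⁻¹
      have e : D.c * (D.c ^ 2 * y * (D.c ^ 2)⁻¹) * D.c⁻¹ = D.c ^ 3 * y * (D.c ^ 3)⁻¹ := by group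
      rw [e, hc3, pow_zero]
  rcases shape k l with rfl | rfl | rfl
  · rw [xr_up, key, xr_up]
  · have e : l + 1 + 1 = (l + 1) + 1 := rfl
    rw [xr_down, key, xr_down]
  · rw [xr_diag, xr_diag, conj_one']

theorem tor_xr (i j : ℤ) (k l : Fin 3) (a : F) :
    D.tor i j * D.xr k l a * (D.tor i j)⁻¹ =
      D.xr k l ((D.ω : F) ^ (ee i j k - ee i j l) * a) := by
  -- moving the torus through powers of `c`
  have m0 : ∀ i j : ℤ, D.tor i j * D.c ^ 0 = D.c ^ 0 * D.tor i j := by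
    intro i j
    rw [pow_zero, mul_one, one_mul]
  have m1 : ∀ i j : ℤ, D.tor i j * D.c ^ 1 = D.c ^ 1 * D.tor (-i - j) i := by
    intro i j
    rw [pow_one, tor_c]
  have m2 : ∀ i j : ℤ, D.tor i j * D.c ^ 2 = D.c ^ 2 * D.tor j (-i - j) := by
    intro i j
    rw [pow_two, ← mul_assoc, tor_c, mul_assoc, tor_c, ← mul_assoc]
    have e : -(-i - j) - i = j := by ring
    rw [e]
  rcases shape k l with rfl | rfl | rfl
  · rw [xr_up, xr_up]
    fin_cases k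
    · show D.tor i j * (D.c ^ 0 * D.φ (ofAdd a) * (D.c ^ 0)⁻¹) * (D.tor i j)⁻¹ =
        D.c ^ 0 * D.φ (ofAdd ((D.ω : F) ^ (ee i j 0 - ee i j 1) * a)) * (D.c ^ 0)⁻¹
      rw [conj_through _ _ _ _ _ (m0 i j) (D.tor_phi i j a)]
      have e : ee i j 0 - ee i j 1 = 2 * i + j := by
        show i - (-i - j) = 2 * i + j
        ring
      rw [e]
    · show D.tor i j * (D.c ^ 1 * D.φ (ofAdd a) * (D.c ^ 1)⁻¹) * (D.tor i j)⁻¹ =
        D.c ^ 1 * D.φ (ofAdd ((D.ω : F) ^ (ee i j 1 - ee i j 2) * a)) * (D.c ^ 1)⁻¹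
      rw [conj_through _ _ _ _ _ (m1 i j) (D.tor_phi (-i - j) i a)]
      have e : ee i j 1 - ee i j 2 = 2 * (-i - j) + i := by
        show (-i - j) - j = 2 * (-i - j) + i
        ring
      rw [e]
    · show D.tor i j * (D.c ^ 2 * D.φ (ofAdd a) * (D.c ^ 2)⁻¹) * (D.tor i j)⁻¹ =
        D.c ^ 2 * D.φ (ofAdd ((D.ω : F) ^ (ee i j 2 - ee i j 0) * a)) * (D.c ^ 2)⁻¹
      rw [conj_through _ _ _ _ _ (m2 i j) (D.tor_phi j (-i - j) a)]
      have e : ee i j 2 - ee i j 0 = 2 * j + (-i - j) := by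
        show j - i = 2 * j + (-i - j)
        ring
      rw [e]
  · rw [xr_down, xr_down]
    -- the inner conjugation by `t`
    have inner : ∀ (i j : ℤ) (b : F), D.tor i j * (D.t * D.φ (ofAdd b) * D.t⁻¹) * (D.tor i j)⁻¹ =
        D.t * D.φ (ofAdd ((D.ω : F) ^ (2 * (-i - j) + j) * b)) * D.t⁻¹ := by
      intro i j b
      exact conj_through _ _ _ _ _ (tor_t D i j) (D.tor_phi (-i - j) j b)
    fin_cases l
    · show D.tor i j * (D.c ^ 0 * (D.t * D.φ (ofAdd (-a)) * D.t⁻¹) * (D.c ^ 0)⁻¹) *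
          (D.tor i j)⁻¹ =
        D.c ^ 0 * (D.t * D.φ (ofAdd (-((D.ω : F) ^ (ee i j 1 - ee i j 0) * a))) * D.t⁻¹) *
          (D.c ^ 0)⁻¹
      rw [conj_through _ _ _ _ _ (m0 i j) (inner i j (-a))]
      have e : ee i j 1 - ee i j 0 = 2 * (-i - j) + j := by
        show (-i - j) - i = 2 * (-i - j) + j
        ring
      rw [e, mul_neg]
    · show D.tor i j * (D.c ^ 1 * (D.t * D.φ (ofAdd (-a)) * D.t⁻¹) * (D.c ^ 1)⁻¹) *
          (D.tor i j)⁻¹ =
        D.c ^ 1 * (D.t * D.φ (ofAdd (-((D.ω : F) ^ (ee i j 2 - ee i j 1) * a))) * D.t⁻¹) *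
          (D.c ^ 1)⁻¹
      rw [conj_through _ _ _ _ _ (m1 i j) (inner (-i - j) i (-a))]
      have e : ee i j 2 - ee i j 1 = 2 * (-(-i - j) - i) + i := by
        show j - (-i - j) = 2 * (-(-i - j) - i) + i
        ring
      rw [e, mul_neg]
    · show D.tor i j * (D.c ^ 2 * (D.t * D.φ (ofAdd (-a)) * D.t⁻¹) * (D.c ^ 2)⁻¹) *
          (D.tor i j)⁻¹ =
        D.c ^ 2 * (D.t * D.φ (ofAdd (-((D.ω : F) ^ (ee i j 0 - ee i j 2) * a))) * D.t⁻¹) *
          (D.c ^ 2)⁻¹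
      rw [conj_through _ _ _ _ _ (m2 i j) (inner j (-i - j) (-a))]
      have e : ee i j 0 - ee i j 2 = 2 * (-j - (-i - j)) + (-i - j) := by
        show i - j = 2 * (-j - (-i - j)) + (-i - j)
        ring
      rw [e, mul_neg]
  · rw [xr_diag, xr_diag, conj_one']

end A2Data

end Cfsg.Agent.Helper21.S2287
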