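import Mathlib
import Cfsg.Agent.Helper25.FusionAlperin2
import Cfsg.Agent.Helper25.FusionAut

set_option autoImplicit false

/-! Tools for the Benson–Grodal–Henke theorem: truncated systems, Alperin above a given order,
and the transportable property "the centralizer of `X` in `Aut_F(R)` consists of `p`-elements". -/

namespace Cfsg.Agent.Helper25

open Cfsg Cfsg.FusionSystem

variable {Ω : Type*} [Group Ω] {S : Subgroup Ω}

/-- The system of the maps of `𝒟` that lie in `E` whenever their source is in the class `𝒞`. -/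
def truncSystem {T : Subgroup Ω} (𝒟 : FusionSystem T) (E : FusionSystem S) (hTS : T ≤ S)
    (𝒞 : Subgroup Ω → Prop)
    (h𝒞 : ∀ {Q Q' : Subgroup Ω} {φ : Q →* Ω}, φ ∈ 𝒟.Hom Q → (∀ x, φ x ∈ Q') → Q' ≤ T →
      𝒞 Q → 𝒞 Q') : FusionSystem T where
  Hom Q := {φ | φ ∈ 𝒟.Hom Q ∧ (𝒞 Q → φ ∈ E.Hom Q)}
  le_of_mem h := 𝒟.le_of_mem h.1
  injective_of_mem h := 𝒟.injective_of_mem h.1
  conj_mem hP hg := ⟨𝒟.conj_mem hP hg, fun _ => E.conj_mem (hP.trans hTS) (hTS hg)⟩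
  comp_mem := by
    rintro P Q φ ψ ⟨hφ, hφE⟩ ⟨hψ, hψE⟩ h
    exact ⟨𝒟.comp_mem hφ hψ h, fun hC =>
      E.comp_mem (hφE hC) (hψE (h𝒞 hφ h (𝒟.le_of_mem hψ).1 hC)) h⟩
  inv_mem := by
    rintro P φ ⟨hφ, hφE⟩
    obtain ⟨ψ, hψ, hψinv⟩ := 𝒟.inv_mem hφ
    refine ⟨ψ, ⟨hψ, fun hC => ?_⟩, hψinv⟩
    have hval : ∀ y : φ.range, ψ y ∈ P := by
      rintro ⟨_, x, rfl⟩
      rw [hψinv x]
      exact x.2
    have hCP : 𝒞 P := h𝒞 hψ hval (𝒟.le_of_mem hφ).1 hC
    obtain ⟨ψ', hψ', hψ'inv⟩ := E.inv_mem (hφE hCP)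
    have : ψ = ψ' := by
      ext ⟨_, x, rfl⟩
      rw [hψinv, hψ'inv]
    rw [this]
    exact hψ'

theorem mem_truncSystem {T : Subgroup Ω} {𝒟 : FusionSystem T} {E : FusionSystem S} {hTS : T ≤ S}
    {𝒞 : Subgroup Ω → Prop}
    {h𝒞 : ∀ {Q Q' : Subgroup Ω} {φ : Q →* Ω}, φ ∈ 𝒟.Hom Q → (∀ x, φ x ∈ Q') → Q' ≤ T →
      𝒞 Q → 𝒞 Q'} {Q : Subgroup Ω} {φ : Q →* Ω} :
    φ ∈ (truncSystem 𝒟 E hTS 𝒞 h𝒞).Hom Q ↔ φ ∈ 𝒟.Hom Q ∧ (𝒞 Q → φ ∈ E.Hom Q) := Iff.rfl

/-- A map of a fusion system over `T` does not decrease orders. -/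
theorem card_le_of_hom [Finite S] {T : Subgroup Ω} (hTS : T ≤ S) (𝒟 : FusionSystem T)
    {Q Q' : Subgroup Ω} {φ : Q →* Ω} (hφ : φ ∈ 𝒟.Hom Q) (h : ∀ x, φ x ∈ Q') (hQ' : Q' ≤ T) :
    Nat.card Q ≤ Nat.card Q' := by
  have : Finite Q' := finite_of_le (hQ'.trans hTS)
  exact Nat.card_le_card_of_injective (φ.codRestrict Q' h)
    (fun a b hab => 𝒟.injective_of_mem hφ (congrArg Subtype.val hab))

/-- Alperin's theorem above a given order: if `Aut_F(P) ≤ Aut_E(P)` for `P = S` and for the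
essential subgroups `P` of order greater than `n`, then every map of `F` whose source has order
greater than `n` is a map of `E`. -/
theorem hom_subset_of_card_gt [Finite S] (p : ℕ) [Fact p.Prime] (hS : IsPGroup p S)
    (F E : FusionSystem S) (hF : F.IsSaturated p) (n : ℕ)
    (hn : ∀ P : Subgroup Ω, (P = S ∨ F.IsEssential p P) → n < Nat.card P →
      F.autGroup P ≤ E.autGroup P) :
    ∀ Q : Subgroup Ω, n < Nat.card Q → F.Hom Q ⊆ E.Hom Q := by
  have h𝒞 : ∀ {Q Q' : Subgroup Ω} {φ : Q →* Ω}, φ ∈ F.Hom Q → (∀ x, φ x ∈ Q') → Q' ≤ S →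
      n < Nat.card Q → n < Nat.card Q' := fun hφ h hQ' hlt =>
    lt_of_lt_of_le hlt (card_le_of_hom le_rfl F hφ h hQ')
  have hle : F ≤ truncSystem F E le_rfl (fun Q => n < Nat.card Q) h𝒞 := by
    apply alperin_le p hS F hF
    intro P hP α hα
    have hPS : P ≤ S := by
      rcases hP with rfl | hP
      · exact le_rfl
      · exact hP.1.1
    rw [mem_autGroup_iff _ hPS]
    refine ⟨(mem_autGroup_iff F hPS α).mp hα, fun hlt => ?_⟩
    exact (mem_autGroup_iff E hPS α).mp (hn P hP hlt hα)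
  intro Q hlt φ hφ
  exact (hle Q hφ).2 hlt

/-- Every element of `Aut_F(R)` fixing `X` elementwise has `p`-power order. -/
def CentP (F : FusionSystem S) (p : ℕ) (R X : Subgroup Ω) : Prop :=
  ∀ δ ∈ F.autGroup R, (∀ x : R, (x : Ω) ∈ X → δ x = x) → ∃ k : ℕ, orderOf δ = p ^ k

/-- Transport of `F`-automorphisms backwards along an `F`-isomorphism. -/
theorem congr_symm_mem_autGroup (F : FusionSystem S) {Q P : Subgroup Ω} {ψ : Q →* Ω}
    (hψ : ψ ∈ F.Hom Q) (hr : ψ.range = P) {α : MulAut P} (hα : α ∈ F.autGroup P) :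
    MulAut.congr (isoOfHom ψ (F.injective_of_mem hψ) hr).symm α ∈ F.autGroup Q := by
  have hQS : Q ≤ S := (F.le_of_mem hψ).1
  have hPS : P ≤ S := by
    rw [← hr]
    rintro _ ⟨x, rfl⟩
    exact (F.le_of_mem hψ).2 x
  rw [mem_autGroup_iff F hPS] at hα
  rw [mem_autGroup_iff F hQS]
  set e' := isoOfHom ψ (F.injective_of_mem hψ) hr
  have h1 := isoOfHom_symm_mem F hψ hr
  -- Q → P → P
  have h3 : (P.subtype.comp (α.toMonoidHom.comp e'.toMonoidHom)) ∈ F.Hom Q := by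
    refine comp_mem' F hψ hα (fun x => hr ▸ ⟨x, rfl⟩) (fun x => ?_)
    rfl
  refine comp_mem' F h3 h1 (fun x => (α (e' x)).2) (fun x => ?_)
  rfl

/-- `CentP` is invariant under `F`-isomorphisms. -/
theorem CentP.transport {F : FusionSystem S} {p : ℕ} {R X : Subgroup Ω} (h : CentP F p R X)
    {φ : R →* Ω} (hφ : φ ∈ F.Hom R) {R' X' : Subgroup Ω} (hr : φ.range = R')
    (hX : ∀ x : R, (x : Ω) ∈ X ↔ φ x ∈ X') : CentP F p R' X' := by
  intro δ' hδ' hfix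
  set e := isoOfHom φ (F.injective_of_mem hφ) hr
  have h1 := congr_symm_mem_autGroup F hφ hr hδ'
  have h2 : ∀ x : R, (x : Ω) ∈ X → (MulAut.congr e.symm δ') x = x := by
    intro x hx
    have hx' : ((e x : R') : Ω) ∈ X' := (hX x).mp hx
    show e.symm (δ' (e x)) = x
    rw [hfix (e x) hx', MulEquiv.symm_apply_apply]
  obtain ⟨k, hk⟩ := h _ h1 h2
  exact ⟨k, by rw [← hk]; exact ((MulAut.congr e.symm).orderOf_eq δ').symm⟩

/-- Inner automorphisms of `P ≤ S` belong to `Aut_F(P)`. -/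
theorem inn_le_autGroup (F : FusionSystem S) {P : Subgroup Ω} (hPS : P ≤ S) :
    Inn P ≤ F.autGroup P := by
  rintro _ ⟨x, rfl⟩
  rw [mem_autGroup_iff F hPS]
  have : autHom (MulAut.conj x) = conjHom P (x : Ω) := by
    ext y
    simp [autHom, conjHom]
  rw [this]
  exact F.conj_mem hPS (hPS x.2)

end Cfsg.Agent.Helper25
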