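import Mathlib
import Cfsg.Prelude.Def_GeometricClasses
import Cfsg.Prelude.Def_ClassicalGeometry

set_option autoImplicit false
open scoped MatrixGroups

/-! S5976 piece ODDLIN: an element of the normaliser of a quadratic field subalgebra `K` with an odd
power scalar centralises `K`. -/

namespace Cfsg.Agent.S5976P

open Polynomial

namespace ODDLIN

open Module Matrix

variable {ι : Type} [Fintype ι] [DecidableEq ι] {F : Type*} [Field F]

/-- a quadratic field subalgebra has a generator `ω` with `ω² = p + tω`: every element is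
`a + bω`, and `K` has no zero divisors -/
theorem exists_gen (K : Subalgebra F (Matrix ι ι F)) (hK : Cfsg.Geo.IsFieldSubalgebra 2 K) :
    ∃ (ω : Matrix ι ι F) (p t : F), ω ∈ K ∧
      ω * ω = p • (1 : Matrix ι ι F) + t • ω ∧
      (∀ k ∈ K, ∃ a b : F, k = a • (1 : Matrix ι ι F) + b • ω) ∧
      (∀ x ∈ K, ∀ y ∈ K, x * y = 0 → x = 0 ∨ y = 0) := by
  classical
  have h1ne : (1 : Matrix ι ι F) ≠ 0 := by
    intro h
    have hle : Subalgebra.toSubmodule K ≤ ⊥ := by
      intro k _
      rw [Submodule.mem_bot]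
      calc k = k * 1 := (Matrix.mul_one k).symm
        _ = 0 := by rw [h, Matrix.mul_zero]
    have h1 : finrank F (Subalgebra.toSubmodule K) ≤ finrank F (⊥ : Submodule F (Matrix ι ι F)) :=
      Submodule.finrank_mono hle
    rw [finrank_bot, Subalgebra.finrank_toSubmodule, hK.finrank_eq] at h1
    omega
  have hone : ∀ s : F, s • (1 : Matrix ι ι F) = 0 → s = 0 := by
    intro s hs
    by_contra hs0
    apply h1ne
    calc (1 : Matrix ι ι F) = s⁻¹ • (s • (1 : Matrix ι ι F)) := by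
          rw [smul_smul, inv_mul_cancel₀ hs0, one_smul]
      _ = 0 := by rw [hs, smul_zero]
  -- a nonscalar element
  have hex : ∃ ω ∈ K, ∀ c : F, ω ≠ c • (1 : Matrix ι ι F) := by
    by_contra hcon
    push Not at hcon
    have hle : Subalgebra.toSubmodule K ≤ Submodule.span F {(1 : Matrix ι ι F)} := by
      intro k hk
      obtain ⟨c, hc⟩ := hcon k hk
      rw [hc]
      exact Submodule.smul_mem _ _ (Submodule.subset_span (Set.mem_singleton _))
    have h1 : finrank F (Subalgebra.toSubmodule K) ≤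
        finrank F (Submodule.span F {(1 : Matrix ι ι F)}) :=
      Submodule.finrank_mono hle
    rw [finrank_span_singleton h1ne, Subalgebra.finrank_toSubmodule, hK.finrank_eq] at h1
    omega
  obtain ⟨ω, hωK, hω⟩ := hex
  obtain ⟨φ, hφ⟩ : ∃ φ : F × F →ₗ[F] K, ∀ ab : F × F,
      ((φ ab : K) : Matrix ι ι F) = ab.1 • (1 : Matrix ι ι F) + ab.2 • ω :=
    ⟨{ toFun := fun ab => ⟨ab.1 • 1 + ab.2 • ω,
          K.add_mem (K.smul_mem K.one_mem _) (K.smul_mem hωK _)⟩
       map_add' := fun x y => by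
         apply Subtype.ext
         show (x + y).1 • (1 : Matrix ι ι F) + (x + y).2 • ω =
           (x.1 • 1 + x.2 • ω) + (y.1 • 1 + y.2 • ω)
         rw [Prod.fst_add, Prod.snd_add, add_smul, add_smul]
         abel
       map_smul' := fun c x => by
         apply Subtype.ext
         show (c • x).1 • (1 : Matrix ι ι F) + (c • x).2 • ω = c • (x.1 • 1 + x.2 • ω)
         rw [Prod.smul_fst, Prod.smul_snd, smul_eq_mul, smul_eq_mul, mul_smul, mul_smul,
           smul_add] }, fun _ => rfl⟩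
  have hinj : Function.Injective φ := by
    rw [← LinearMap.ker_eq_bot, LinearMap.ker_eq_bot']
    intro ab hab
    have h1 : ab.1 • (1 : Matrix ι ι F) + ab.2 • ω = 0 := by
      rw [← hφ, hab]; rfl
    have h2 : ab.2 = 0 := by
      by_contra hb
      apply hω (-(ab.2)⁻¹ * ab.1)
      have h3 : ab.2 • ω = -(ab.1 • (1 : Matrix ι ι F)) := eq_neg_of_add_eq_zero_right h1
      calc ω = (ab.2)⁻¹ • (ab.2 • ω) := by rw [smul_smul, inv_mul_cancel₀ hb, one_smul]
        _ = (-(ab.2)⁻¹ * ab.1) • (1 : Matrix ι ι F) := by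
            rw [h3, smul_neg, smul_smul, neg_mul, neg_smul]
    have h3 : ab.1 = 0 := by
      rw [h2, zero_smul, add_zero] at h1
      exact hone _ h1
    exact Prod.ext h3 h2
  have hfr : finrank F (F × F) = finrank F K := by
    rw [hK.finrank_eq, Module.finrank_prod, Module.finrank_self]
  have hsurj : Function.Surjective φ :=
    (LinearMap.injective_iff_surjective_of_finrank_eq_finrank hfr).mp hinj
  have hspan : ∀ k ∈ K, ∃ a b : F, k = a • (1 : Matrix ι ι F) + b • ω := by
    intro k hk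
    obtain ⟨ab, hab⟩ := hsurj ⟨k, hk⟩
    refine ⟨ab.1, ab.2, ?_⟩
    rw [← hφ, hab]
  obtain ⟨p, t, hpt⟩ := hspan (ω * ω) (K.mul_mem hωK hωK)
  have hnzd : ∀ x ∈ K, ∀ y ∈ K, x * y = 0 → x = 0 ∨ y = 0 := by
    intro x hx y hy hxy
    by_cases hx0 : x = 0
    · exact Or.inl hx0
    · right
      obtain ⟨x', hx', hxx'⟩ := hK.inv x hx hx0
      have h1 : x' * x = 1 := by rw [hK.comm x' hx' x hx, hxx']
      calc y = (x' * x) * y := by rw [h1, Matrix.one_mul]
        _ = 0 := by rw [Matrix.mul_assoc, hxy, Matrix.mul_zero]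
  exact ⟨ω, p, t, hωK, hpt, hspan, hnzd⟩

/-- conjugation of a matrix by an invertible matrix -/
def cj (g : GL ι F) (k : Matrix ι ι F) : Matrix ι ι F :=
  (g : Matrix ι ι F) * k * ((g⁻¹ : GL ι F) : Matrix ι ι F)

theorem cj_mul (g h : GL ι F) (k : Matrix ι ι F) : cj (g * h) k = cj g (cj h k) := by
  unfold cj
  rw [_root_.mul_inv_rev, Units.val_mul, Units.val_mul]
  simp only [Matrix.mul_assoc]

theorem cj_sub (g : GL ι F) (k k' : Matrix ι ι F) : cj g (k - k') = cj g k - cj g k' := by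
  unfold cj
  rw [Matrix.mul_sub, Matrix.sub_mul]

theorem cj_smul_one (g : GL ι F) (c : F) : cj g (c • (1 : Matrix ι ι F)) = c • 1 := by
  unfold cj
  rw [Matrix.mul_smul, Matrix.smul_mul, Matrix.mul_one, ← Units.val_mul, mul_inv_cancel,
    Units.val_one]

theorem cj_mul_cj (g : GL ι F) (k k' : Matrix ι ι F) : cj g k * cj g k' = cj g (k * k') := by
  unfold cj
  have h2 : ((g⁻¹ : GL ι F) : Matrix ι ι F) * (g : Matrix ι ι F) = 1 := by
    rw [← Units.val_mul, inv_mul_cancel, Units.val_one]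
  calc (g : Matrix ι ι F) * k * ((g⁻¹ : GL ι F) : Matrix ι ι F) *
        ((g : Matrix ι ι F) * k' * ((g⁻¹ : GL ι F) : Matrix ι ι F))
      = (g : Matrix ι ι F) * k * (((g⁻¹ : GL ι F) : Matrix ι ι F) * (g : Matrix ι ι F)) * k' *
          ((g⁻¹ : GL ι F) : Matrix ι ι F) := by simp only [Matrix.mul_assoc]
    _ = (g : Matrix ι ι F) * (k * k') * ((g⁻¹ : GL ι F) : Matrix ι ι F) := by
        rw [h2, Matrix.mul_one]; simp only [Matrix.mul_assoc]

theorem commute_of_cj_eq {g : GL ι F} {k : Matrix ι ι F} (h : cj g k = k) :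
    (g : Matrix ι ι F) * k = k * (g : Matrix ι ι F) := by
  have h2 : ((g⁻¹ : GL ι F) : Matrix ι ι F) * (g : Matrix ι ι F) = 1 := by
    rw [← Units.val_mul, inv_mul_cancel, Units.val_one]
  unfold cj at h
  calc (g : Matrix ι ι F) * k
      = (g : Matrix ι ι F) * k * (((g⁻¹ : GL ι F) : Matrix ι ι F) * (g : Matrix ι ι F)) := by
        rw [h2, Matrix.mul_one]
    _ = ((g : Matrix ι ι F) * k * ((g⁻¹ : GL ι F) : Matrix ι ι F)) * (g : Matrix ι ι F) := by
        simp only [Matrix.mul_assoc]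
    _ = k * (g : Matrix ι ι F) := by rw [h]

theorem commute_generic (K : Subalgebra F (Matrix ι ι F)) (hK : Cfsg.Geo.IsFieldSubalgebra 2 K)
    (y : GL ι F) (hy : y ∈ Cfsg.Geo.subalgebraNormalizer K) (r : ℕ) (hr : Odd r) (z : F)
    (hyr : ((y ^ r : GL ι F) : Matrix ι ι F) = z • (1 : Matrix ι ι F)) :
    ∀ k ∈ K, (y : Matrix ι ι F) * k = k * (y : Matrix ι ι F) := by
  obtain ⟨ω, p, t, hωK, hsq, hspan, hnzd⟩ := exists_gen K hK
  have hy' : ∀ k : Matrix ι ι F, k ∈ K ↔ cj y k ∈ K := hy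
  have hmem : cj y ω ∈ K := (hy' ω).mp hωK
  have hsq' : cj y ω * cj y ω = p • (1 : Matrix ι ι F) + t • cj y ω := by
    rw [cj_mul_cj, hsq]
    unfold cj
    rw [Matrix.mul_add, Matrix.add_mul, Matrix.mul_smul, Matrix.smul_mul, Matrix.mul_smul,
      Matrix.smul_mul, Matrix.mul_one, ← Units.val_mul, mul_inv_cancel, Units.val_one]
  have hcomm : cj y ω * ω = ω * cj y ω := hK.comm _ hmem _ hωK
  have key : (cj y ω - ω) * (cj y ω - (t • (1 : Matrix ι ι F) - ω)) = 0 := by
    simp only [sub_mul, mul_sub, Matrix.mul_smul, Matrix.mul_one]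
    rw [hsq', hsq, hcomm]
    module
  -- it suffices to show that conjugation by `y` fixes `ω`
  suffices hfix : cj y ω = ω by
    have hc := commute_of_cj_eq hfix
    intro k hk
    obtain ⟨a, b, rfl⟩ := hspan k hk
    rw [Matrix.mul_add, Matrix.add_mul, Matrix.mul_smul, Matrix.smul_mul, Matrix.mul_smul,
      Matrix.smul_mul, Matrix.mul_one, Matrix.one_mul, hc]
  rcases hnzd _ (K.sub_mem hmem hωK) _
    (K.sub_mem hmem (K.sub_mem (K.smul_mem K.one_mem t) hωK)) key with h | h
  · exact sub_eq_zero.mp h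
  · have hB : cj y ω = t • (1 : Matrix ι ι F) - ω := sub_eq_zero.mp h
    have hB' : cj y (t • (1 : Matrix ι ι F) - ω) = ω := by
      rw [cj_sub, cj_smul_one, hB]; abel
    have hpow : ∀ j : ℕ, cj (y ^ j) ω = if Even j then ω else t • (1 : Matrix ι ι F) - ω := by
      intro j
      induction j with
      | zero =>
        simp only [pow_zero, Even.zero, if_true]
        unfold cj
        simp
      | succ j ih =>
        rw [pow_succ', cj_mul, ih]
        by_cases hj : Even j
        · rw [if_pos hj, if_neg (by rw [Nat.even_add_one]; exact not_not.mpr hj), hB]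
        · rw [if_neg hj, if_pos (by rw [Nat.even_add_one]; exact hj), hB']
    have h1 := hpow r
    rw [if_neg (Nat.not_even_iff_odd.mpr hr)] at h1
    have h2 : cj (y ^ r) ω = ω := by
      unfold cj
      have h3 : ((y ^ r : GL ι F) : Matrix ι ι F) * (((y ^ r)⁻¹ : GL ι F) : Matrix ι ι F) = 1 := by
        rw [← Units.val_mul, mul_inv_cancel, Units.val_one]
      rw [hyr, Matrix.smul_mul, Matrix.one_mul] at h3
      rw [hyr, Matrix.smul_mul, Matrix.one_mul, Matrix.smul_mul, ← Matrix.mul_smul, h3,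
        Matrix.mul_one]
    rw [hB, ← h1, h2]

end ODDLIN

/-- ODDLIN -/
theorem commute_of_odd_order {F : Type*} [Field F] (d : ℕ)
    (K : Subalgebra F (Matrix (Fin d ⊕ Fin d) (Fin d ⊕ Fin d) F)) (hK : Cfsg.Geo.IsFieldSubalgebra 2 K)
    (y : GL (Fin d ⊕ Fin d) F) (hy : y ∈ Cfsg.Geo.subalgebraNormalizer K) (r : ℕ) (hr : Odd r) (z : F)
    (hyr : ((y ^ r : GL (Fin d ⊕ Fin d) F) : Matrix (Fin d ⊕ Fin d) (Fin d ⊕ Fin d) F) =
      z • (1 : Matrix (Fin d ⊕ Fin d) (Fin d ⊕ Fin d) F)) :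
    ∀ k ∈ K, (y : Matrix (Fin d ⊕ Fin d) (Fin d ⊕ Fin d) F) * k =
      k * (y : Matrix (Fin d ⊕ Fin d) (Fin d ⊕ Fin d) F) :=
  ODDLIN.commute_generic K hK y hy r hr z hyr

end Cfsg.Agent.S5976P
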