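import Cfsg.Agent.Helper22.S1572Defs

/-! S1572 (driver helper22), piece CNTA: there are at most `1104 = 276 * 4` lattice vectors of shape
`(±4, ±4, 0^22)` (explicit parametrisation by an increasing pair of positions and two signs). -/

set_option autoImplicit false

namespace Cfsg.Agent.S1572P

open Cfsg Cfsg.Agent.Helper27 Cfsg.Agent.Helper22.Co0Mono Cfsg.Agent.Helper22.CrossStab
  Cfsg.Agent.Helper22.Co0Center Cfsg.Agent.Helper22.MinTrans Cfsg.Agent.Helper22.Co0Order
  Cfsg.Agent.Helper22.Census
open scoped Pointwise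

namespace CNTA

/-- the sign `±4` -/
def sg (b : Bool) : ℤ := if b then 4 else -4

/-- the vector with `±4` at the positions `pt a`, `pt b` -/
def vec (t : (Fin 24 × Fin 24) × (Bool × Bool)) : GolayPt → ℤ :=
  fun q => if q = pt t.1.1 then sg t.2.1 else if q = pt t.1.2 then sg t.2.2 else 0

/-- the parameter set -/
def T : Finset ((Fin 24 × Fin 24) × (Bool × Bool)) :=
  ((Finset.univ : Finset (Fin 24 × Fin 24)).filter (fun p => p.1 < p.2)) ×ˢ Finset.univ

set_option maxRecDepth 100000 in
theorem card_pairs :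
    ((Finset.univ : Finset (Fin 24 × Fin 24)).filter (fun p => p.1 < p.2)).card = 276 := by decide

theorem card_T : T.card = 1104 := by
  unfold T
  rw [Finset.card_product, card_pairs]
  rfl

theorem sg_decide {x : ℤ} (h : x = 4 ∨ x = -4) : sg (decide (x = 4)) = x := by
  unfold sg
  rcases h with h | h
  · rw [h]; simp
  · rw [h]; simp

theorem exists_param {v : GolayPt → ℤ} (h : ShapeA v) : ∃ t ∈ T, vec t = v := by
  obtain ⟨i, j, hij, hi, hj, hrest⟩ := h
  have hpi : pt (idx i) = i := pt_idx i
  have hpj : pt (idx j) = j := pt_idx j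
  have hne : idx i ≠ idx j := by
    intro h
    apply hij
    rw [← hpi, ← hpj, h]
  rcases lt_or_gt_of_ne hne with hlt | hlt
  · refine ⟨((⟨idx i, idx_lt i⟩, ⟨idx j, idx_lt j⟩), (decide (v i = 4), decide (v j = 4))), ?_, ?_⟩
    · unfold T
      rw [Finset.mem_product, Finset.mem_filter]
      exact ⟨⟨Finset.mem_univ _, hlt⟩, Finset.mem_univ _⟩
    · funext q
      unfold vec
      simp only [hpi, hpj]
      by_cases hqi : q = i
      · rw [if_pos hqi, sg_decide hi, hqi]
      · rw [if_neg hqi]
        by_cases hqj : q = j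
        · rw [if_pos hqj, sg_decide hj, hqj]
        · rw [if_neg hqj, hrest q hqi hqj]
  · refine ⟨((⟨idx j, idx_lt j⟩, ⟨idx i, idx_lt i⟩), (decide (v j = 4), decide (v i = 4))), ?_, ?_⟩
    · unfold T
      rw [Finset.mem_product, Finset.mem_filter]
      exact ⟨⟨Finset.mem_univ _, hlt⟩, Finset.mem_univ _⟩
    · funext q
      unfold vec
      simp only [hpi, hpj]
      by_cases hqj : q = j
      · rw [if_pos hqj, sg_decide hj, hqj]
      · rw [if_neg hqj]
        by_cases hqi : q = i
        · rw [if_pos hqi, sg_decide hi, hqi]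
        · rw [if_neg hqi, hrest q hqi hqj]

end CNTA

open CNTA

set_option maxRecDepth 10000 in
/-- CNTA -/
theorem ncard_XA_le : XA.ncard ≤ 1104 := by
  classical
  have h1 : XA.ncard = ((Subtype.val : ↥leechLattice → GolayPt → ℤ) '' XA).ncard :=
    (Set.ncard_image_of_injective _ Subtype.val_injective).symm
  have h2 : ((Subtype.val : ↥leechLattice → GolayPt → ℤ) '' XA) ⊆ ↑(T.image vec) := by
    intro x hx
    obtain ⟨v, hv, hvx⟩ := (Set.mem_image _ _ _).mp hx
    obtain ⟨t, ht, hvt⟩ := exists_param hv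
    rw [Finset.mem_coe, Finset.mem_image]
    exact ⟨t, ht, hvt.trans hvx⟩
  rw [h1]
  calc ((Subtype.val : ↥leechLattice → GolayPt → ℤ) '' XA).ncard
      ≤ (↑(T.image vec) : Set (GolayPt → ℤ)).ncard :=
        Set.ncard_le_ncard h2 (Finset.finite_toSet _)
    _ = (T.image vec).card := Set.ncard_coe_finset _
    _ ≤ T.card := Finset.card_image_le
    _ = 1104 := card_T

end Cfsg.Agent.S1572P
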