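import Cfsg.Agent.Helper22.S1572Defs

/-! S1572 (driver helper22), piece TRA: the stabiliser `NN` of the standard cross is transitive on the
minimal vectors of shape `(±4, ±4, 0^22)` (the proof of `MinTrans.shapeA_to_v0`, keeping track of the
witness). -/

set_option autoImplicit false

namespace Cfsg.Agent.S1572P

open Cfsg Cfsg.Agent.Helper27 Cfsg.Agent.Helper22.Co0Mono Cfsg.Agent.Helper22.CrossStab
  Cfsg.Agent.Helper22.Co0Center Cfsg.Agent.Helper22.MinTrans Cfsg.Agent.Helper22.Co0Order
  Cfsg.Agent.Helper22.Census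
open scoped Pointwise

/-- TRA -/
theorem trans_XA : ∀ v ∈ XA, ∃ g ∈ NN, g • v = v0 := by
  intro v h
  obtain ⟨i, j, hij, hi, hj, hrest⟩ := h
  have h01 : pt 0 ≠ pt 1 := by decide
  have h2 := M24_isMultiplyPretransitive_of_le (k := 2) (by norm_num)
  rw [MulAction.is_two_pretransitive_iff] at h2
  obtain ⟨τ, hτi, hτj⟩ := h2 hij h01
  have hτi' : τ.1 i = pt 0 := hτi
  have hτj' : τ.1 j = pt 1 := hτj
  have hsi : τ.1.symm (pt 0) = i := by rw [Equiv.symm_apply_eq, hτi']
  have hsj : τ.1.symm (pt 1) = j := by rw [Equiv.symm_apply_eq, hτj']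
  obtain ⟨u, hu, hu0, hu1⟩ := exists_signs ((v : GolayPt → ℤ) i = -4) ((v : GolayPt → ℤ) j = -4)
  refine ⟨epsCo u hu * piCo τ.1 τ.2, NN.mul_mem (epsCo_mem_NN u hu) (piCo_mem_NN τ.1 τ.2), ?_⟩
  apply Subtype.ext
  funext q
  rw [mul_smul, epsCo_apply, piCo_apply, v0_apply]
  by_cases h0 : q = pt 0
  · subst h0
    rw [hsi, if_pos (Or.inl rfl)]
    by_cases hneg : (v : GolayPt → ℤ) i = -4
    · rw [if_pos (hu0.mpr hneg), hneg]; norm_num
    · rw [if_neg (fun h => hneg (hu0.mp h))]
      rcases hi with h4 | h4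
      · exact h4
      · exact absurd h4 hneg
  · by_cases h1 : q = pt 1
    · subst h1
      rw [hsj, if_pos (Or.inr rfl)]
      by_cases hneg : (v : GolayPt → ℤ) j = -4
      · rw [if_pos (hu1.mpr hneg), hneg]; norm_num
      · rw [if_neg (fun h => hneg (hu1.mp h))]
        rcases hj with h4 | h4
        · exact h4
        · exact absurd h4 hneg
    · have hz : (v : GolayPt → ℤ) (τ.1.symm q) = 0 := by
        apply hrest
        · intro h
          apply h0
          rw [← hτi', ← h, Equiv.apply_symm_apply]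
        · intro h
          apply h1
          rw [← hτj', ← h, Equiv.apply_symm_apply]
      rw [hz, if_neg (show ¬(q = pt 0 ∨ q = pt 1) by tauto)]
      simp

end Cfsg.Agent.S1572P
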