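import Mathlib
import Cfsg.Agent.Helper22.S1615Defs

/-!
S1615 piece FIXRHO (helper22's board): a 3-transposition commuting with the product `e * f` of two
non-commuting 3-transpositions commutes with `e` and with `f`.
-/

set_option autoImplicit false

namespace Cfsg.Agent.S1615P

namespace FIXRHO

variable {G : Type*} [Group G]

theorem sq_of_mem {D : Set G} (hD : Cfsg.IsThreeTranspositionGroup D) {d : G} (hd : d ∈ D) :
    d * d = 1 := by
  have := pow_orderOf_eq_one d
  rw [hD.1.1 d hd, pow_two] at this
  exact this

theorem inv_of_sq {d : G} (h : d * d = 1) : d⁻¹ = d := inv_eq_of_mul_eq_one_right h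

/-- The core computation. -/
theorem commute_left {D : Set G} (hD : Cfsg.IsThreeTranspositionGroup D) {e f x : G}
    (he : e ∈ D) (hf : f ∈ D) (hx : x ∈ D) (hef : ¬ Commute e f) (hc : Commute x (e * f)) :
    Commute x e := by
  have he2 := sq_of_mem hD he
  have hf2 := sq_of_mem hD hf
  have hx2 := sq_of_mem hD hx
  have hei := inv_of_sq he2
  have hfi := inv_of_sq hf2
  have hxi := inv_of_sq hx2
  rcases hD.1.2 x hx e he with h | h
  · rw [pow_two] at h
    have h1 : x * e = (x * e)⁻¹ := eq_inv_of_mul_eq_one_left h
    rw [mul_inv_rev, hei, hxi] at h1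
    exact h1
  · exfalso
    apply hef
    have hfe : Commute x (f * e) := by
      have := hc.inv_right
      rwa [mul_inv_rev, hfi, hei] at this
    have hy : Commute (e * x * e) (e * f) := by
      show e * x * e * (e * f) = e * f * (e * x * e)
      calc e * x * e * (e * f) = e * x * (e * e) * f := by simp only [mul_assoc]
        _ = e * (x * f) := by rw [he2, mul_one, mul_assoc]
        _ = e * (x * (f * e) * e) := by rw [mul_assoc x, mul_assoc f, he2, mul_one]
        _ = e * ((f * e) * x * e) := by rw [hfe.eq]
        _ = e * f * (e * x * e) := by simp only [mul_assoc]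
    have hxy : Commute (x * (e * x * e)) (e * f) := hc.mul_left hy
    have hxy' : x * (e * x * e) = e * x := by
      rw [pow_succ, pow_two] at h
      have h1 : (x * e) * (x * e) = (x * e)⁻¹ := eq_inv_of_mul_eq_one_left h
      rw [mul_inv_rev, hei, hxi] at h1
      calc x * (e * x * e) = x * e * (x * e) := by simp only [mul_assoc]
        _ = e * x := h1
    rw [hxy'] at hxy
    have hec : Commute e (e * f) := by
      have h1 : Commute (e * x * x) (e * f) := hxy.mul_left hc
      rwa [mul_assoc, hx2, mul_one] at h1
    have h2 : e * (e * f) = e * f * e := hec.eq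
    rw [← mul_assoc, he2, one_mul] at h2
    -- f = e f e
    show e * f = f * e
    calc e * f = e * f * (e * e) := by rw [he2, mul_one]
      _ = (e * f * e) * e := by simp only [mul_assoc]
      _ = f * e := by rw [← h2]

end FIXRHO

/-- FIXRHO -/
theorem commute_of_commute_mul {G : Type*} [Group G] {D : Set G}
    (hD : Cfsg.IsThreeTranspositionGroup D) {e f x : G} (he : e ∈ D) (hf : f ∈ D) (hx : x ∈ D)
    (hef : ¬ Commute e f) (hc : Commute x (e * f)) : Commute x e ∧ Commute x f := by
  have h1 : Commute x e := FIXRHO.commute_left hD he hf hx hef hc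
  refine ⟨h1, ?_⟩
  have he2 := FIXRHO.sq_of_mem hD he
  have h2 : Commute x (e * (e * f)) := h1.mul_right hc
  rwa [← mul_assoc, he2, one_mul] at h2

end Cfsg.Agent.S1615P
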