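import Mathlib
import Cfsg.Agent.Helper22.S1615Defs
import Cfsg.Agent.Helper25.S1615FIXRHO

/-!
S1615 piece CONG (helper22's board): fixed point congruence mod 3 for conjugation by `e * f`
(`e`, `f` non-commuting 3-transpositions) on an invariant subset of `D`.
-/

set_option autoImplicit false

namespace Cfsg.Agent.S1615P

namespace CONG

variable {G : Type*} [Group G]

theorem cube_of_not_commute {D : Set G} (hD : Cfsg.IsThreeTranspositionGroup D) {e f : G}
    (he : e ∈ D) (hf : f ∈ D) (hef : ¬ Commute e f) : (e * f) * (e * f) * (e * f) = 1 := by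
  have he2 := FIXRHO.sq_of_mem hD he
  have hf2 := FIXRHO.sq_of_mem hD hf
  have hei := FIXRHO.inv_of_sq he2
  have hfi := FIXRHO.inv_of_sq hf2
  rcases hD.1.2 e he f hf with h | h
  · exfalso
    apply hef
    rw [pow_two] at h
    have h1 : e * f = (e * f)⁻¹ := eq_inv_of_mul_eq_one_left h
    rw [mul_inv_rev, hei, hfi] at h1
    exact h1
  · rw [pow_succ, pow_two] at h
    exact h

end CONG

/-- CONG -/
theorem ncard_modEq_fixed {G : Type*} [Group G] [Finite G] {D : Set G}
    (hD : Cfsg.IsThreeTranspositionGroup D) {e f : G} (he : e ∈ D) (hf : f ∈ D)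
    (hef : ¬ Commute e f) (S : Set G) (hS : S ⊆ D)
    (hinv : ∀ x ∈ S, (e * f) * x * (e * f)⁻¹ ∈ S) :
    S.ncard ≡ {x : G | x ∈ S ∧ Commute x e ∧ Commute x f}.ncard [MOD 3] := by
  classical
  have : Fact (Nat.Prime 3) := ⟨Nat.prime_three⟩
  have hρ3 := CONG.cube_of_not_commute hD he hf hef
  let f' : Function.End ↥S := fun s => ⟨(e * f) * s * (e * f)⁻¹, hinv s s.2⟩
  have hf'3 : f' ^ 3 ^ 1 = 1 := by
    rw [pow_one, pow_succ, pow_two]
    funext s
    show f' (f' (f' s)) = s
    apply Subtype.ext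
    show (e * f) * ((e * f) * ((e * f) * s * (e * f)⁻¹) * (e * f)⁻¹) * (e * f)⁻¹ = s
    have h1 : (e * f) * ((e * f) * ((e * f) * (s : G) * (e * f)⁻¹) * (e * f)⁻¹) * (e * f)⁻¹
        = ((e * f) * (e * f) * (e * f)) * s * ((e * f) * (e * f) * (e * f))⁻¹ := by group
    rw [h1, hρ3]
    simp
  let _ : Fintype ↥S := Fintype.ofFinite _
  have key := Equiv.Perm.card_fixedPoints_modEq (f := f') (p := 3) (n := 1) hf'3
  have h1 : Fintype.card ↥S = S.ncard := by
    rw [← Nat.card_eq_fintype_card, Nat.card_coe_set_eq]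
  have hset : {x : G | x ∈ S ∧ Commute x e ∧ Commute x f} =
      Subtype.val '' (Function.fixedPoints f' : Set ↥S) := by
    ext x
    simp only [Set.mem_ofPred_eq, Set.mem_image]
    constructor
    · rintro ⟨hxS, hxe, hxf⟩
      refine ⟨⟨x, hxS⟩, ?_, rfl⟩
      apply Subtype.ext
      show (e * f) * x * (e * f)⁻¹ = x
      have hc : Commute x (e * f) := hxe.mul_right hxf
      rw [mul_inv_eq_iff_eq_mul]
      exact hc.eq.symm
    · rintro ⟨s, hs, rfl⟩
      have hs' : (e * f) * (s : G) * (e * f)⁻¹ = s := congrArg Subtype.val hs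
      have hc : Commute (s : G) (e * f) := by
        rw [mul_inv_eq_iff_eq_mul] at hs'
        exact hs'.symm
      exact ⟨s.2, commute_of_commute_mul hD he hf (hS s.2) hef hc⟩
  have h2 : Fintype.card ↥(Function.fixedPoints f') =
      {x : G | x ∈ S ∧ Commute x e ∧ Commute x f}.ncard := by
    rw [hset, Set.ncard_image_of_injective _ Subtype.val_injective, ← Nat.card_coe_set_eq,
      Nat.card_eq_fintype_card]
  rw [h1, h2] at key
  exact key

end Cfsg.Agent.S1615P
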