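import Mathlib
import Cfsg.Prelude.Def_GeometricClasses
import Cfsg.Prelude.Def_ClassicalGeometry
import Cfsg.Agent.Helper27.S5975Defs

/-! S5975 piece FFORM (driver helper27): the symplectic form in frame coordinates. -/

set_option autoImplicit false
open scoped MatrixGroups

namespace Cfsg.Agent.S5975P

/-- FFORM -/
theorem frame_form {F : Type*} [Field F] (d : ℕ)
    (K : Subalgebra F (Matrix (Fin d ⊕ Fin d) (Fin d ⊕ Fin d) F))
    (τ : K →ₗ[F] F) (W : Submodule F (Fin d ⊕ Fin d → F)) (m : ℕ)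
    (u v : Fin m → (Fin d ⊕ Fin d → F)) (hfr : IsFrame d F K τ W m u v)
    (a b a' b' : Fin m → K) :
    Cfsg.sympForm d F (∑ s, ((a s).1.mulVec (u s) + (b s).1.mulVec (v s)))
        (∑ s, ((a' s).1.mulVec (u s) + (b' s).1.mulVec (v s))) =
      ∑ s, (τ (a s * b' s) - τ (a' s * b s)) := by
  classical
  rw [sympForm_sum_left]
  apply Finset.sum_congr rfl
  intro s _
  rw [sympForm_sum_right]
  have hterm : ∀ t : Fin m, Cfsg.sympForm d F ((a s).1.mulVec (u s) + (b s).1.mulVec (v s))
      ((a' t).1.mulVec (u t) + (b' t).1.mulVec (v t)) =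
      (if s = t then τ (a s * b' t) else 0) - (if t = s then τ (a' t * b s) else 0) := by
    intro t
    rw [sympForm_add_left, sympForm_add_right, sympForm_add_right, hfr.uu, hfr.uv, hfr.vv,
      sympForm_swap d F ((b s).1.mulVec (v s)) ((a' t).1.mulVec (u t)), hfr.uv]
    ring
  rw [Finset.sum_congr rfl (fun t _ => hterm t), Finset.sum_sub_distrib]
  simp

end Cfsg.Agent.S5975P
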