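import Mathlib
import Cfsg.Prelude.Def_GeometricClasses
import Cfsg.Prelude.Def_ClassicalGeometry
import Cfsg.Agent.Helper27.S5975Defs
import Cfsg.Agent.Helper25.S5975FFORM

/-! S5975 piece FEQUIV (driver helper27): frame coordinates form a linear equivalence. -/

set_option autoImplicit false
open scoped MatrixGroups

namespace Cfsg.Agent.S5975P

/-- the frame coordinate map as a linear map -/
noncomputable def H25_frameMap {F : Type*} [Field F] (d : ℕ)
    (K : Subalgebra F (Matrix (Fin d ⊕ Fin d) (Fin d ⊕ Fin d) F)) (m : ℕ)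
    (u v : Fin m → (Fin d ⊕ Fin d → F)) :
    ((Fin m → K) × (Fin m → K)) →ₗ[F] (Fin d ⊕ Fin d → F) where
  toFun p := ∑ s, ((p.1 s).1.mulVec (u s) + (p.2 s).1.mulVec (v s))
  map_add' p p' := by
    rw [← Finset.sum_add_distrib]
    apply Finset.sum_congr rfl
    intro s _
    simp only [Prod.fst_add, Prod.snd_add, Pi.add_apply, Subalgebra.coe_add, Matrix.add_mulVec]
    abel
  map_smul' c p := by
    rw [RingHom.id_apply, Finset.smul_sum]
    apply Finset.sum_congr rfl
    intro s _
    simp only [Prod.smul_fst, Prod.smul_snd, Pi.smul_apply, Subalgebra.coe_smul,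
      Matrix.smul_mulVec, smul_add]

theorem H25_frameMap_apply {F : Type*} [Field F] (d : ℕ)
    (K : Subalgebra F (Matrix (Fin d ⊕ Fin d) (Fin d ⊕ Fin d) F)) (m : ℕ)
    (u v : Fin m → (Fin d ⊕ Fin d → F)) (a b : Fin m → K) :
    H25_frameMap d K m u v (a, b) = ∑ s, ((a s).1.mulVec (u s) + (b s).1.mulVec (v s)) := rfl

/-- FEQUIV -/
theorem exists_frame_equiv {F : Type*} [Field F] (d k : ℕ) (hk : 0 < k)
    (K : Subalgebra F (Matrix (Fin d ⊕ Fin d) (Fin d ⊕ Fin d) F)) (hK : HypK d k F K)
    (τ : K →ₗ[F] F) (hτ : τ ≠ 0) (m : ℕ) (u v : Fin m → (Fin d ⊕ Fin d → F))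
    (hfr : IsFrame d F K τ ⊤ m u v) :
    ∃ Φ : ((Fin m → K) × (Fin m → K)) ≃ₗ[F] (Fin d ⊕ Fin d → F),
      ∀ a b : Fin m → K, Φ (a, b) = ∑ s, ((a s).1.mulVec (u s) + (b s).1.mulVec (v s)) := by
  classical
  -- a nonzero element of `K` kills `τ` only if it is zero
  have hzero : ∀ x : K, (∀ c : K, τ (x * c) = 0) → x = 0 := by
    intro x hx
    by_contra hne
    have hne' : (x : Matrix (Fin d ⊕ Fin d) (Fin d ⊕ Fin d) F) ≠ 0 := by
      intro h
      apply hne
      exact Subtype.ext h
    obtain ⟨y, hy, hxy⟩ := hK.field.inv x.1 x.2 hne'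
    apply hτ
    apply LinearMap.ext
    intro c
    have h1 : x * (⟨y, hy⟩ * c) = c := by
      rw [← mul_assoc]
      have : x * ⟨y, hy⟩ = (1 : K) := Subtype.ext hxy
      rw [this, one_mul]
    have := hx (⟨y, hy⟩ * c)
    rw [h1] at this
    rw [this, LinearMap.zero_apply]
  have hcomm : ∀ x y : K, x * y = y * x := by
    intro x y
    exact Subtype.ext (hK.field.comm x.1 x.2 y.1 y.2)
  have hinj : Function.Injective (H25_frameMap d K m u v) := by
    rw [← LinearMap.ker_eq_bot, LinearMap.ker_eq_bot']
    rintro ⟨a, b⟩ hab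
    rw [H25_frameMap_apply] at hab
    have ha : a = 0 := by
      funext t
      apply hzero
      intro c
      have := frame_form d K τ ⊤ m u v hfr a b 0 (Pi.single t c)
      rw [hab, sympForm_zero_left] at this
      simp only [Pi.zero_apply, zero_mul, map_zero, sub_zero] at this
      rw [Finset.sum_eq_single t] at this
      · rw [Pi.single_eq_same] at this
        exact this.symm
      · intro s _ hs
        rw [Pi.single_eq_of_ne hs, mul_zero, map_zero]
      · intro h
        exact absurd (Finset.mem_univ t) h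
    have hb : b = 0 := by
      funext t
      apply hzero
      intro c
      have := frame_form d K τ ⊤ m u v hfr a b (Pi.single t c) 0
      rw [hab, sympForm_zero_left] at this
      simp only [Pi.zero_apply, mul_zero, map_zero, zero_sub] at this
      rw [Finset.sum_eq_single t] at this
      · rw [Pi.single_eq_same] at this
        rw [hcomm]
        exact neg_eq_zero.mp this.symm
      · intro s _ hs
        rw [Pi.single_eq_of_ne hs, zero_mul, map_zero, neg_zero]
      · intro h
        exact absurd (Finset.mem_univ t) h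
    rw [ha, hb]
    rfl
  have hsurj : Function.Surjective (H25_frameMap d K m u v) := by
    intro w
    obtain ⟨a, b, hab⟩ := hfr.span w Submodule.mem_top
    exact ⟨(a, b), by rw [H25_frameMap_apply, hab]⟩
  refine ⟨LinearEquiv.ofBijective (H25_frameMap d K m u v) ⟨hinj, hsurj⟩, ?_⟩
  intro a b
  rfl

end Cfsg.Agent.S5975P
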