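import Mathlib
import Cfsg.Agent.Helper23.CMDefs
import Cfsg.Agent.Helper24.Abelian

/-!
# S4756 piece DNORM: `⁅A, P⁆` is normal when `P` is normal and `A ⊔ P = ⊤`
-/

set_option autoImplicit false
set_option linter.unusedSectionVars false

namespace Cfsg.Agent.Helper25.CMDNORM

open scoped commutatorElement

/-- if conjugation by `g` maps the generating commutators into `⁅A, P⁆`, it maps all of `⁅A, P⁆`
into itself -/
theorem conj_mem_of_gens {G : Type*} [Group G] (A P : Subgroup G) (g : G)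
    (hgen : ∀ a ∈ A, ∀ x ∈ P, g * ⁅a, x⁆ * g⁻¹ ∈ ⁅A, P⁆) :
    ∀ d ∈ ⁅A, P⁆, g * d * g⁻¹ ∈ ⁅A, P⁆ := by
  intro d hd
  rw [Subgroup.commutator_def] at hd
  induction hd using Subgroup.closure_induction with
  | mem x hx =>
    obtain ⟨a, ha, y, hy, rfl⟩ := hx
    exact hgen a ha y hy
  | one => simp
  | mul x y _ _ hx hy =>
    have : g * (x * y) * g⁻¹ = (g * x * g⁻¹) * (g * y * g⁻¹) := by group
    rw [this]; exact Subgroup.mul_mem _ hx hy
  | inv x _ hx =>
    have : g * x⁻¹ * g⁻¹ = (g * x * g⁻¹)⁻¹ := by group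
    rw [this]; exact Subgroup.inv_mem _ hx

theorem conj_mem_of_mem_left {G : Type*} [Group G] (A P : Subgroup G) (hP : P.Normal) (g : G)
    (hg : g ∈ A) : ∀ d ∈ ⁅A, P⁆, g * d * g⁻¹ ∈ ⁅A, P⁆ := by
  apply conj_mem_of_gens
  intro a ha x hx
  have : g * ⁅a, x⁆ * g⁻¹ = ⁅g * a * g⁻¹, g * x * g⁻¹⁆ := by
    simp only [commutatorElement_def]; group
  rw [this]
  exact Subgroup.commutator_mem_commutator (A.mul_mem (A.mul_mem hg ha) (A.inv_mem hg))
    (hP.conj_mem x hx g)

theorem conj_mem_of_mem_right {G : Type*} [Group G] (A P : Subgroup G) (g : G)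
    (hg : g ∈ P) : ∀ d ∈ ⁅A, P⁆, g * d * g⁻¹ ∈ ⁅A, P⁆ := by
  apply conj_mem_of_gens
  intro a ha x hx
  have : g * ⁅a, x⁆ * g⁻¹ = ⁅a, g⁆⁻¹ * ⁅a, g * x⁆ := by
    simp only [commutatorElement_def]; group
  rw [this]
  exact Subgroup.mul_mem _ (Subgroup.inv_mem _ (Subgroup.commutator_mem_commutator ha hg))
    (Subgroup.commutator_mem_commutator ha (P.mul_mem hg hx))

end Cfsg.Agent.Helper25.CMDNORM

namespace Cfsg.Agent.Helper23.CM

open Cfsg Cfsg.Agent.Helper24

universe u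

variable {G : Type u} [Group G] [Finite G]

/-- FW9c -/
theorem commutator_normal_of_sup_eq_top (A P : Subgroup G) (hP : P.Normal) (h : A ⊔ P = ⊤) :
    (⁅A, P⁆).Normal := by
  rw [← Subgroup.normalizer_eq_top_iff, eq_top_iff, ← h, sup_le_iff]
  constructor
  · intro g hg
    rw [Subgroup.mem_normalizer_iff]
    intro d
    constructor
    · exact Cfsg.Agent.Helper25.CMDNORM.conj_mem_of_mem_left A P hP g hg d
    · intro hd
      have := Cfsg.Agent.Helper25.CMDNORM.conj_mem_of_mem_left A P hP g⁻¹ (A.inv_mem hg) _ hd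
      have e : g⁻¹ * (g * d * g⁻¹) * g⁻¹⁻¹ = d := by group
      rwa [e] at this
  · intro g hg
    rw [Subgroup.mem_normalizer_iff]
    intro d
    constructor
    · exact Cfsg.Agent.Helper25.CMDNORM.conj_mem_of_mem_right A P g hg d
    · intro hd
      have := Cfsg.Agent.Helper25.CMDNORM.conj_mem_of_mem_right A P g⁻¹ (P.inv_mem hg) _ hd
      have e : g⁻¹ * (g * d * g⁻¹) * g⁻¹⁻¹ = d := by group
      rwa [e] at this

end Cfsg.Agent.Helper23.CM
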