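import Mathlib
import Cfsg.Agent.Helper23.CMDefs
import Cfsg.Agent.Helper24.Abelian

/-!
# S4756 piece GLE: in the structure case the derived subgroup lies in `⁅A, P⁆`
-/

set_option autoImplicit false
set_option linter.unusedSectionVars false

namespace Cfsg.Agent.Helper25.CMGLE

open scoped commutatorElement

/-- if the images of a pairwise commuting set generate the quotient `G ⧸ D`, then `G' ≤ D` -/
theorem commutator_le_of_gens {G : Type*} [Group G] (D : Subgroup G) [hD : D.Normal] (T : Set G)
    (hcomm : ∀ x ∈ T, ∀ y ∈ T, ⁅x, y⁆ ∈ D) (hgen : Subgroup.closure T ⊔ D = ⊤) :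
    commutator G ≤ D := by
  set π := QuotientGroup.mk' D with hπ
  have hπs : Function.Surjective π := QuotientGroup.mk'_surjective D
  set S : Set (G ⧸ D) := π '' T with hS
  have hScomm : ∀ x ∈ S, ∀ y ∈ S, x * y = y * x := by
    rintro _ ⟨a, ha, rfl⟩ _ ⟨b, hb, rfl⟩
    have h1 : π ⁅a, b⁆ = 1 := by
      rw [hπ, QuotientGroup.mk'_apply, QuotientGroup.eq_one_iff]
      exact hcomm a ha b hb
    rw [map_commutatorElement, commutatorElement_eq_one_iff_mul_comm] at h1
    exact h1
  have hcl : Subgroup.closure S = ⊤ := by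
    rw [hS, ← MonoidHom.map_closure]
    have h1 : Subgroup.comap π (Subgroup.map π (Subgroup.closure T)) = ⊤ := by
      rw [Subgroup.comap_map_eq, hπ, QuotientGroup.ker_mk', hgen]
    rw [← Subgroup.map_comap_eq_self_of_surjective hπs (Subgroup.map π (Subgroup.closure T)), h1,
      Subgroup.map_top_of_surjective π hπs]
  have hc : IsMulCommutative (Subgroup.closure S) := Subgroup.isMulCommutative_closure hScomm
  have hall : ∀ x y : G ⧸ D, x * y = y * x := by
    intro x y
    have hx : x ∈ Subgroup.closure S := by rw [hcl]; trivial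
    have hy : y ∈ Subgroup.closure S := by rw [hcl]; trivial
    have := hc.is_comm.comm ⟨x, hx⟩ ⟨y, hy⟩
    exact congrArg Subtype.val this
  rw [commutator_def, Subgroup.commutator_le]
  intro g _ h _
  have h1 : π ⁅g, h⁆ = 1 := by
    rw [map_commutatorElement, commutatorElement_eq_one_iff_mul_comm]
    exact hall _ _
  rw [hπ, QuotientGroup.mk'_apply, QuotientGroup.eq_one_iff] at h1
  exact h1

end Cfsg.Agent.Helper25.CMGLE

namespace Cfsg.Agent.Helper23.CM

open Cfsg Cfsg.Agent.Helper24

universe u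

variable {G : Type u} [Group G] [Finite G]

/-- BW3a -/
theorem commutator_le_of_struct (A P : Subgroup G) (hAab : ∀ a ∈ A, ∀ b ∈ A, a * b = b * a)
    (hC : ∀ a ∈ P ⊓ Subgroup.centralizer (A : Set G),
      ∀ b ∈ P ⊓ Subgroup.centralizer (A : Set G), a * b = b * a)
    (hD : (⁅A, P⁆).Normal) (hCD : (P ⊓ Subgroup.centralizer (A : Set G)) ⊔ ⁅A, P⁆ = P)
    (hAP : A ⊔ P = ⊤) : commutator G ≤ ⁅A, P⁆ := by
  have := hD
  refine Cfsg.Agent.Helper25.CMGLE.commutator_le_of_gens ⁅A, P⁆
    ((A : Set G) ∪ ((P ⊓ Subgroup.centralizer (A : Set G) : Subgroup G) : Set G)) ?_ ?_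
  · intro x hx y hy
    have hxy : x * y = y * x := by
      rcases hx with hx | hx <;> rcases hy with hy | hy
      · exact hAab x hx y hy
      · exact (Subgroup.mem_centralizer_iff.mp hy.2 x hx)
      · exact (Subgroup.mem_centralizer_iff.mp hx.2 y hy).symm
      · exact hC x hx y hy
    rw [commutatorElement_eq_one_iff_mul_comm.mpr hxy]; exact Subgroup.one_mem _
  · rw [Subgroup.closure_union, Subgroup.closure_eq, Subgroup.closure_eq, sup_assoc, hCD, hAP]

end Cfsg.Agent.Helper23.CM
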