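import Mathlib
import Cfsg.Prelude.Def_Characters
import Cfsg.Agent.Helper24.QP889Defs
import Cfsg.Agent.Helper24.Orthogonality
import Cfsg.Agent.Helper24.Regular
import Cfsg.Agent.Helper24.Expansion
import Cfsg.Agent.Helper24.Product
import Cfsg.Agent.Helper24.RealChar
import Cfsg.Agent.Helper8.Ind
import Cfsg.Agent.Helper8.CharComp

/-!
# S0889 piece KEY: the key identity `β|Hh = conj(ρ)|Hh * ϑ`
-/

set_option autoImplicit false

namespace Cfsg.Agent.QP889

open Cfsg Cfsg.Agent.Helper24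
open scoped ComplexConjugate

universe u

/-- a character containing an irreducible character `b` with multiplicity one and having the same
degree as `b` is equal to `b` -/
theorem key_aux_eq_of_mult_one {X : Type u} [Group X] [Fintype X] (τ : X → ℂ)
    (hτ : IsCharacter X τ) (b : X → ℂ) (hb : IsIrrCharacter X b) (hin : classInner τ b = 1)
    (hdeg : τ 1 = b 1) : τ = b := by
  classical
  have : Fintype (IrrCharacter X) := Fintype.ofFinite _
  obtain ⟨n, hn⟩ := IsCharacter.exists_nat_coeff hτ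
  set B : IrrCharacter X := ⟨b, hb⟩ with hB
  have hnB : n B = 1 := by
    have h1 : classInner τ (B : X → ℂ) = (n B : ℂ) := by
      rw [hn]; exact classInner_sum_irr (fun ψ => (n ψ : ℂ)) B
    have h2 : (n B : ℂ) = 1 := by rw [← h1]; exact hin
    exact_mod_cast h2
  -- degrees
  have hd : ∀ ψ : IrrCharacter X, ∃ d : ℕ, 0 < d ∧ (ψ : X → ℂ) 1 = d := fun ψ =>
    isIrrCharacter_one ψ.2
  choose d hdpos hdeq using hd
  have hsum : ∑ ψ : IrrCharacter X, n ψ * d ψ = d B := by
    have h1 : τ 1 = ∑ ψ : IrrCharacter X, (n ψ : ℂ) * (d ψ : ℂ) := by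
      conv_lhs => rw [hn]
      rw [Finset.sum_apply]
      refine Finset.sum_congr rfl ?_
      intro ψ _
      rw [Pi.smul_apply, smul_eq_mul, hdeq]
    have h2 : τ 1 = (d B : ℂ) := by rw [hdeg, ← hdeq B]
    have h3 : ((∑ ψ : IrrCharacter X, n ψ * d ψ : ℕ) : ℂ) = (d B : ℂ) := by
      rw [← h2, h1]; push_cast; rfl
    exact_mod_cast h3
  have hzero : ∀ ψ : IrrCharacter X, ψ ≠ B → n ψ = 0 := by
    intro ψ hψ
    rw [← Finset.add_sum_erase Finset.univ (fun ψ => n ψ * d ψ) (Finset.mem_univ B), hnB,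
      one_mul] at hsum
    have h0 : ∑ ψ ∈ Finset.univ.erase B, n ψ * d ψ = 0 := by omega
    have h1 := (Finset.sum_eq_zero_iff.mp h0) ψ (Finset.mem_erase.mpr ⟨hψ, Finset.mem_univ ψ⟩)
    rcases Nat.mul_eq_zero.mp h1 with h | h
    · exact h
    · exact absurd h (hdpos ψ).ne'
  rw [hn, Finset.sum_eq_single B]
  · rw [hnB, Nat.cast_one, one_smul]
  · intro ψ _ hψ
    rw [hzero ψ hψ, Nat.cast_zero, zero_smul]
  · intro h; exact absurd (Finset.mem_univ B) h

theorem key_identity {Γ : Type u} [Group Γ] [Fintype Γ] (Hh : Subgroup Γ) (ρ β : Γ → ℂ)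
    (hρ : IsCharacter Γ ρ) (hβH : IsIrrCharacter Hh (fun h : Hh => β h))
    (ϑ : Hh → ℂ) (hϑ : IsCharacter Hh ϑ)
    (hind : ∀ g, indFun Hh ϑ g = ρ g * β g) (hirr : IsIrrCharacter Γ (indFun Hh ϑ))
    (hdeg : ρ 1 * ϑ 1 = β 1) :
    (fun h : Hh => β h) = fun h : Hh => conj (ρ h) * ϑ h := by
  classical
  have : Fintype Hh := Fintype.ofFinite _
  set χ : Γ → ℂ := indFun Hh ϑ with hχdef
  have hχcf : IsClassFunction Γ χ := IsCharacter.isClassFunction (IsIrrCharacter.isCharacter hirr)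
  set τ : Hh → ℂ := fun h : Hh => conj (ρ h) * ϑ h with hτdef
  have hτ : IsCharacter Hh τ := by
    have h1 : IsCharacter Hh (fun h : Hh => ρ h) := Cfsg.Agent.Helper8.isCharacter_restrict Hh hρ
    have h2 : IsCharacter Hh (fun h : Hh => (starRingEnd ℂ) (ρ h)) := isCharacter_star h1
    exact IsCharacter.mul h2 hϑ
  have h5 := Cfsg.Agent.Helper8.frobenius_reciprocity Hh ϑ χ hχcf
  rw [classInner_irr_self ⟨χ, hirr⟩] at h5
  have h6 : classInner ϑ (fun h : Hh => χ h) = classInner τ (fun h : Hh => β h) := by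
    unfold classInner
    congr 1
    refine Finset.sum_congr rfl ?_
    intro h _
    show ϑ h * conj (χ h) = (conj (ρ h) * ϑ h) * conj (β h)
    rw [hind, map_mul]
    ring
  rw [h6] at h5
  have hρ1 : conj (ρ 1) = ρ 1 := by
    obtain ⟨m, hm⟩ := isCharacter_one hρ
    rw [hm, Complex.conj_natCast]
  have hτ1 : τ 1 = (fun h : Hh => β h) 1 := by
    simp only [hτdef, Subgroup.coe_one, hρ1, hdeg]
  exact (key_aux_eq_of_mult_one τ hτ _ hβH h5.symm hτ1).symm

end Cfsg.Agent.QP889
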