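import Mathlib
import Cfsg.Prelude.Def_Characters
import Cfsg.Agent.Helper24.QP889Defs
import Cfsg.Agent.Helper24.Orthogonality
import Cfsg.Agent.Helper24.Regular
import Cfsg.Agent.Helper24.Expansion
import Cfsg.Agent.Helper8.Ind
import Cfsg.Agent.Helper5.IndFun
import Cfsg.Agent.Helper29.SchurPC

/-!
# S0889 piece NORM: a character induced from a proper normal subgroup `H` that is irreducible
cannot restrict homogeneously to `H`
-/

set_option autoImplicit false

namespace Cfsg.Agent.QP889

open Cfsg Cfsg.Agent.Helper24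
open scoped ComplexConjugate

universe u

theorem false_of_normal {G : Type u} [Group G] [Fintype G] (H : Subgroup G) [H.Normal]
    (hH : H ≠ ⊤) (ϑ : H → ℂ) (hϑ : IsCharacter H ϑ) (hirr : IsIrrCharacter G (indFun H ϑ))
    (ϑ' : H → ℂ) (e : ℕ) (hϑ' : IsIrrCharacter H ϑ')
    (hres : (fun h : H => indFun H ϑ h) = (e : ℂ) • ϑ') : False := by
  classical
  have : Fintype H := Fintype.ofFinite _
  set χ : G → ℂ := indFun H ϑ with hχdef
  have hχcf : IsClassFunction G χ := IsCharacter.isClassFunction (IsIrrCharacter.isCharacter hirr)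
  have hϑirr : IsIrrCharacter H ϑ := Cfsg.Agent.Helper29.SchurP.irr_of_indFun_irr H hϑ hirr
  have h5 := Cfsg.Agent.Helper8.frobenius_reciprocity H ϑ χ hχcf
  rw [Cfsg.Agent.Helper24.classInner_irr_self ⟨χ, hirr⟩, hres,
    Cfsg.Agent.Helper24.classInner_smul_right, Complex.conj_natCast,
    Cfsg.Agent.Helper24.classInner_of_isIrrCharacter hϑirr hϑ'] at h5
  by_cases heq : ϑ = ϑ'
  · rw [if_pos heq, mul_one] at h5
    have he1 : e = 1 := by exact_mod_cast h5.symm
    have h1 : χ 1 = ϑ 1 := by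
      have := congrFun hres 1
      simp only [Pi.smul_apply, smul_eq_mul, he1, Nat.cast_one, one_mul] at this
      rw [heq]
      exact this
    have h2 : χ 1 = (H.index : ℂ) * ϑ 1 := Cfsg.Agent.Helper5.indFun_apply_one H ϑ
    have h3 : ϑ 1 ≠ 0 := Cfsg.Agent.Helper24.irr_one_ne_zero ⟨ϑ, hϑirr⟩
    have h4 : (H.index : ℂ) = 1 := by
      have : (H.index : ℂ) * ϑ 1 = 1 * ϑ 1 := by rw [← h2, h1, one_mul]
      exact mul_right_cancel₀ h3 this
    have h6 : H.index = 1 := by exact_mod_cast h4
    exact hH (Subgroup.index_eq_one.mp h6)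
  · rw [if_neg heq, mul_zero] at h5
    exact one_ne_zero h5

end Cfsg.Agent.QP889
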