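import Mathlib
import Cfsg.Agent.Helper24.S3067Defs

set_option autoImplicit false
set_option linter.unusedSectionVars false

/-! S3067 piece L3W: `w` lies in a proper `a`-invariant subgroup of `G`. -/

namespace Cfsg.Agent.S3067P

variable {X : Type*} [Group X] [Finite X] {a τ : X} {r : ℕ} {G : Subgroup X}

/-- the subgroup `D = C_G(a) ∩ C_G(x)` -/
def L3W.D (a x : X) (G : Subgroup X) : Subgroup X :=
  G ⊓ Subgroup.centralizer ({a} : Set X) ⊓ Subgroup.centralizer ({x} : Set X)

theorem L3W.mem_D {a x : X} {G : Subgroup X} {u : X} :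
    u ∈ L3W.D a x G ↔ u ∈ G ∧ u * a = a * u ∧ u * x = x * u := by
  unfold L3W.D
  rw [Subgroup.mem_inf, Subgroup.mem_inf, Subgroup.mem_centralizer_iff, Subgroup.mem_centralizer_iff]
  simp only [Set.mem_singleton_iff, forall_eq]
  constructor
  · rintro ⟨⟨h1, h2⟩, h3⟩
    exact ⟨h1, h2.symm, h3.symm⟩
  · rintro ⟨h1, h2, h3⟩
    exact ⟨⟨h1, h2.symm⟩, h3.symm⟩

/-- L3W: if some `d ∈ G` centralises `a` and `x = w⁻¹ a w` (`w` an involution of `G`) but `d ∉ N0`, then `w` lies
in a PROPER `a`-invariant subgroup of `G` (namely `⟨a^{-j} w a^j⟩ ≤ N_G(D)`, `D = C_G(a) ∩ C_G(x)`). -/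
theorem L3W (h : Hyp a r G τ) (w x : X) (hwG : w ∈ G) (hw2 : w * w = 1) (hx : x = w⁻¹ * a * w)
    (d : X) (hdG : d ∈ G) (hda : d * a = a * d) (hdx : d * x = x * d) (hdN : d ∉ N0 a G) :
    ∃ W : Subgroup X, W ≤ G ∧ (∀ u ∈ W, a⁻¹ * u * a ∈ W) ∧ (∀ u ∈ W, a * u * a⁻¹ ∈ W) ∧ w ∈ W ∧
      Nat.card W < Nat.card G := by
  have hwinv : w⁻¹ = w := inv_eq_of_mul_eq_one_right hw2
  -- `w` swaps `a` and `x`
  have hxw : x = w * a * w := by rw [hx, hwinv]
  have hwaw : w * x * w = a := by
    rw [hxw]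
    calc w * (w * a * w) * w = (w * w) * a * (w * w) := by group
      _ = a := by rw [hw2, one_mul, mul_one]
  -- conjugation by `w` preserves `D`
  have hwD : ∀ u ∈ L3W.D a x G, w * u * w⁻¹ ∈ L3W.D a x G := by
    intro u hu
    obtain ⟨huG, hua, hux⟩ := L3W.mem_D.mp hu
    rw [hwinv]
    refine L3W.mem_D.mpr ⟨G.mul_mem (G.mul_mem hwG huG) hwG, ?_, ?_⟩
    · calc w * u * w * a = w * u * (w * a * w) * w := by
            rw [show w * u * (w * a * w) * w = w * u * w * a * (w * w) by group, hw2, mul_one]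
        _ = w * (u * x) * w := by rw [← hxw]; group
        _ = w * (x * u) * w := by rw [hux]
        _ = (w * x * w) * (w * u * w) := by
            rw [show w * x * w * (w * u * w) = w * x * (w * w) * u * w by group, hw2, mul_one]
            group
        _ = a * (w * u * w) := by rw [hwaw]
    · calc w * u * w * x = w * u * (w * x * w) * w := by
            rw [show w * u * (w * x * w) * w = w * u * w * x * (w * w) by group, hw2, mul_one]
        _ = w * (u * a) * w := by rw [hwaw]; group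
        _ = w * (a * u) * w := by rw [hua]
        _ = (w * a * w) * (w * u * w) := by
            rw [show w * a * w * (w * u * w) = w * a * (w * w) * u * w by group, hw2, mul_one]
            group
        _ = x * (w * u * w) := by rw [← hxw]
  have hwN : w ∈ Subgroup.normalizer ((L3W.D a x G : Subgroup X) : Set X) := by
    rw [Subgroup.mem_normalizer_iff]
    intro u
    constructor
    · exact hwD u
    · intro hu
      have := hwD _ hu
      have e : w * (w * u * w⁻¹) * w⁻¹ = u := by
        rw [hwinv]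
        calc w * (w * u * w) * w = (w * w) * u * (w * w) := by group
          _ = u := by rw [hw2, one_mul, mul_one]
      rwa [e] at this
  have haN : a ∈ Subgroup.normalizer ((L3W.D a x G : Subgroup X) : Set X) := by
    rw [Subgroup.mem_normalizer_iff]
    intro u
    constructor
    · intro hu
      have hua := (L3W.mem_D.mp hu).2.1
      have : a * u * a⁻¹ = u := by rw [← hua, mul_assoc, mul_inv_cancel, mul_one]
      rwa [this]
    · intro hu
      have hua := (L3W.mem_D.mp hu).2.1
      have : u = a * u * a⁻¹ := by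
        calc u = a⁻¹ * ((a * u * a⁻¹) * a) := by group
          _ = a⁻¹ * (a * (a * u * a⁻¹)) := by rw [hua]
          _ = a * u * a⁻¹ := by group
      rw [this]; exact hu
  refine ⟨G ⊓ Subgroup.normalizer ((L3W.D a x G : Subgroup X) : Set X), inf_le_left, ?_, ?_,
    ⟨hwG, hwN⟩, ?_⟩
  · rintro u ⟨huG, huN⟩
    exact ⟨h.hnorm u huG, Subgroup.mul_mem _ (Subgroup.mul_mem _ (Subgroup.inv_mem _ haN) huN) haN⟩
  · rintro u ⟨huG, huN⟩
    exact ⟨h.hnorm' u huG, Subgroup.mul_mem _ (Subgroup.mul_mem _ haN huN) (Subgroup.inv_mem _ haN)⟩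
  · by_contra hcon
    push Not at hcon
    have heq : G ⊓ Subgroup.normalizer ((L3W.D a x G : Subgroup X) : Set X) = G :=
      Subgroup.eq_of_le_of_card_ge inf_le_left hcon
    apply hdN
    refine ⟨hdG, fun k hk => ?_⟩
    have hkN : k ∈ Subgroup.normalizer ((L3W.D a x G : Subgroup X) : Set X) := by
      have : k ∈ G ⊓ Subgroup.normalizer ((L3W.D a x G : Subgroup X) : Set X) := by rw [heq]; exact hk
      exact this.2
    have hdD : d ∈ L3W.D a x G := L3W.mem_D.mpr ⟨hdG, hda, hdx⟩
    have hkd : k * d * k⁻¹ ∈ L3W.D a x G := (Subgroup.mem_normalizer_iff.mp hkN d).mp hdD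
    have hkda := (L3W.mem_D.mp hkd).2.1
    calc d * (k⁻¹ * a * k) = k⁻¹ * ((k * d * k⁻¹) * a) * k := by group
      _ = k⁻¹ * (a * (k * d * k⁻¹)) * k := by rw [hkda]
      _ = (k⁻¹ * a * k) * d := by group

end Cfsg.Agent.S3067P
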