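import Mathlib
import Cfsg.Agent.Helper24.S3067Defs

set_option autoImplicit false

/-! S3067 piece JH: a conjugate of `τ` centralised by `a` lies in `τ N0`. -/

namespace Cfsg.Agent.S3067P

variable {X : Type*} [Group X] [Finite X] {a τ : X} {r : ℕ} {G : Subgroup X}

/-- JH: a conjugate of `τ` centralised by `a` lies in `τ N0`. -/
theorem JH (h : Hyp a r G τ)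
    (hCONV : ∀ g ∈ G, ∀ g' ∈ G, g⁻¹ * a * g = g'⁻¹ * a * g' →
      (g⁻¹ * τ * g)⁻¹ * a * (g⁻¹ * τ * g) = (g'⁻¹ * τ * g')⁻¹ * a * (g'⁻¹ * τ * g'))
    (h₀ : X) (hh₀ : h₀ ∈ G) (hcomm : Commute (h₀⁻¹ * τ * h₀) a) :
    τ * (h₀⁻¹ * τ * h₀) ∈ N0 a G := by
  have hh₀a : h₀ * a = a * h₀ := mem_H_of_comm h h₀ hh₀ hcomm
  have hτinv : τ⁻¹ = τ := inv_eq_of_mul_eq_one_right h.hτ2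
  have hτ₁G : h₀⁻¹ * τ * h₀ ∈ G := G.mul_mem (G.mul_mem (G.inv_mem hh₀) h.hτG) hh₀
  have hτ₁sq : (h₀⁻¹ * τ * h₀) * (h₀⁻¹ * τ * h₀) = 1 := by
    calc (h₀⁻¹ * τ * h₀) * (h₀⁻¹ * τ * h₀) = h₀⁻¹ * (τ * τ) * h₀ := by group
      _ = 1 := by rw [h.hτ2]; group
  have hτ₁inv : (h₀⁻¹ * τ * h₀)⁻¹ = h₀⁻¹ * τ * h₀ := inv_eq_of_mul_eq_one_right hτ₁sq
  refine ⟨G.mul_mem h.hτG hτ₁G, fun k hk => ?_⟩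
  have hkinv : k⁻¹ ∈ G := G.inv_mem hk
  have heq : (k⁻¹)⁻¹ * a * k⁻¹ = (h₀ * k⁻¹)⁻¹ * a * (h₀ * k⁻¹) := by
    have e : h₀⁻¹ * a * h₀ = a := (conj_eq_self_iff h₀).2 hh₀a
    calc (k⁻¹)⁻¹ * a * k⁻¹ = (k⁻¹)⁻¹ * (h₀⁻¹ * a * h₀) * k⁻¹ := by rw [e]
      _ = (h₀ * k⁻¹)⁻¹ * a * (h₀ * k⁻¹) := by group
  have hE := hCONV k⁻¹ hkinv (h₀ * k⁻¹) (G.mul_mem hh₀ hkinv) heq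
  -- `m = τ₁ τ⁻¹`, `k m k⁻¹` commutes with `a`
  have hm : (k * ((h₀⁻¹ * τ * h₀) * τ⁻¹) * k⁻¹) * a = a * (k * ((h₀⁻¹ * τ * h₀) * τ⁻¹) * k⁻¹) := by
    have e1 : k * ((h₀⁻¹ * τ * h₀) * τ⁻¹) * k⁻¹
        = ((h₀ * k⁻¹)⁻¹ * τ * (h₀ * k⁻¹)) * ((k⁻¹)⁻¹ * τ * k⁻¹)⁻¹ := by group
    rw [e1]
    calc ((h₀ * k⁻¹)⁻¹ * τ * (h₀ * k⁻¹)) * ((k⁻¹)⁻¹ * τ * k⁻¹)⁻¹ * a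
        = ((h₀ * k⁻¹)⁻¹ * τ * (h₀ * k⁻¹)) *
            (((k⁻¹)⁻¹ * τ * k⁻¹)⁻¹ * a * ((k⁻¹)⁻¹ * τ * k⁻¹)) * ((k⁻¹)⁻¹ * τ * k⁻¹)⁻¹ := by group
      _ = ((h₀ * k⁻¹)⁻¹ * τ * (h₀ * k⁻¹)) *
            (((h₀ * k⁻¹)⁻¹ * τ * (h₀ * k⁻¹))⁻¹ * a * ((h₀ * k⁻¹)⁻¹ * τ * (h₀ * k⁻¹))) *
              ((k⁻¹)⁻¹ * τ * k⁻¹)⁻¹ := by rw [hE]
      _ = a * (((h₀ * k⁻¹)⁻¹ * τ * (h₀ * k⁻¹)) * ((k⁻¹)⁻¹ * τ * k⁻¹)⁻¹) := by group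
  -- so `m` commutes with `k⁻¹ a k`
  have hm' : ((h₀⁻¹ * τ * h₀) * τ⁻¹) * (k⁻¹ * a * k) = (k⁻¹ * a * k) * ((h₀⁻¹ * τ * h₀) * τ⁻¹) := by
    calc ((h₀⁻¹ * τ * h₀) * τ⁻¹) * (k⁻¹ * a * k)
        = k⁻¹ * ((k * ((h₀⁻¹ * τ * h₀) * τ⁻¹) * k⁻¹) * a) * k := by group
      _ = k⁻¹ * (a * (k * ((h₀⁻¹ * τ * h₀) * τ⁻¹) * k⁻¹)) * k := by rw [hm]
      _ = (k⁻¹ * a * k) * ((h₀⁻¹ * τ * h₀) * τ⁻¹) := by group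
  -- `τ τ₁ = m⁻¹`
  have hn : τ * (h₀⁻¹ * τ * h₀) = ((h₀⁻¹ * τ * h₀) * τ⁻¹)⁻¹ := by
    rw [mul_inv_rev, inv_inv, hτ₁inv]
  rw [hn]
  calc ((h₀⁻¹ * τ * h₀) * τ⁻¹)⁻¹ * (k⁻¹ * a * k)
      = ((h₀⁻¹ * τ * h₀) * τ⁻¹)⁻¹ * ((k⁻¹ * a * k) * ((h₀⁻¹ * τ * h₀) * τ⁻¹)) *
          ((h₀⁻¹ * τ * h₀) * τ⁻¹)⁻¹ := by group
    _ = ((h₀⁻¹ * τ * h₀) * τ⁻¹)⁻¹ * (((h₀⁻¹ * τ * h₀) * τ⁻¹) * (k⁻¹ * a * k)) *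
          ((h₀⁻¹ * τ * h₀) * τ⁻¹)⁻¹ := by rw [hm']
    _ = (k⁻¹ * a * k) * ((h₀⁻¹ * τ * h₀) * τ⁻¹)⁻¹ := by group

end Cfsg.Agent.S3067P
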