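import Mathlib
import Cfsg.Prelude.Def_RootSubgroups

set_option autoImplicit false

/-! The involutions of `A₆` form a class of root involutions. -/

namespace Cfsg.Agent.Helper25

open Cfsg Equiv Equiv.Perm

/-- The pair condition for root involutions, plus the bound on the order. -/
def RootPairCond {G : Type*} [Group G] (a b : G) : Prop :=
  (a * b = b * a ∨ Odd (orderOf (a * b)) ∨ (orderOf (a * b) = 4 ∧ orderOf ((a * b) ^ 2) = 2)) ∧
    orderOf (a * b) ≤ 5

theorem rootPairCond_map {G H : Type*} [Group G] [Group H] (e : G ≃* H) {a b : G}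
    (h : RootPairCond a b) : RootPairCond (e a) (e b) := by
  unfold RootPairCond at h ⊢
  rw [← map_mul, ← map_mul, ← map_pow, MulEquiv.orderOf_eq, MulEquiv.orderOf_eq]
  refine ⟨?_, h.2⟩
  rcases h.1 with h1 | h1 | h1
  · left; rw [h1]
  · right; left; exact h1
  · right; right; exact h1

theorem rootPairCond_of_pow {G : Type*} [Group G] {a b : G} (ha : a * a = 1) (hb : b * b = 1)
    (h : a * b = b * a ∨ (a * b) ^ 3 = 1 ∨ (a * b) ^ 5 = 1 ∨ ((a * b) ^ 4 = 1 ∧ (a * b) ^ 2 ≠ 1)) :
    RootPairCond a b := by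
  unfold RootPairCond
  rcases h with h | h | h | h
  · refine ⟨Or.inl h, ?_⟩
    have h2 : (a * b) ^ 2 = 1 := by
      rw [pow_two, mul_assoc, ← mul_assoc b, ← h, mul_assoc, hb, mul_one, ha]
    have := Nat.le_of_dvd (by norm_num) (orderOf_dvd_of_pow_eq_one h2)
    omega
  · have hd := orderOf_dvd_of_pow_eq_one h
    have h3 : orderOf (a * b) = 1 ∨ orderOf (a * b) = 3 :=
      (Nat.dvd_prime Nat.prime_three).mp hd
    refine ⟨Or.inr (Or.inl ?_), ?_⟩
    · rcases h3 with h3 | h3 <;> rw [h3] <;> decide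
    · rcases h3 with h3 | h3 <;> rw [h3] <;> norm_num
  · have hd := orderOf_dvd_of_pow_eq_one h
    have h3 : orderOf (a * b) = 1 ∨ orderOf (a * b) = 5 :=
      (Nat.dvd_prime Nat.prime_five).mp hd
    refine ⟨Or.inr (Or.inl ?_), ?_⟩
    · rcases h3 with h3 | h3 <;> rw [h3] <;> decide
    · rcases h3 with h3 | h3 <;> rw [h3]; norm_num
  · have h4 : orderOf (a * b) = 2 ^ (1 + 1) :=
      orderOf_eq_prime_pow (p := 2) (n := 1) (by simpa using h.2) (by simpa using h.1)
    have h4' : orderOf (a * b) = 4 := by rw [h4]; norm_num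
    refine ⟨Or.inr (Or.inr ⟨h4', ?_⟩), by rw [h4']; norm_num⟩
    apply orderOf_eq_prime
    · rw [← pow_mul]; exact h.1
    · exact h.2

set_option maxRecDepth 100000 in
theorem a6_check : ∀ i j k l : Fin 6, i ≠ j → i ≠ k → i ≠ l → j ≠ k → j ≠ l → k ≠ l →
    ((swap (0 : Fin 6) 1 * swap 2 3) * (swap i j * swap k l) =
      (swap i j * swap k l) * (swap (0 : Fin 6) 1 * swap 2 3)) ∨
    ((swap (0 : Fin 6) 1 * swap 2 3) * (swap i j * swap k l)) ^ 3 = 1 ∨
    ((swap (0 : Fin 6) 1 * swap 2 3) * (swap i j * swap k l)) ^ 5 = 1 ∨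
    (((swap (0 : Fin 6) 1 * swap 2 3) * (swap i j * swap k l)) ^ 4 = 1 ∧
      ((swap (0 : Fin 6) 1 * swap 2 3) * (swap i j * swap k l)) ^ 2 ≠ 1) := by
  decide

theorem cycleType_of_even_involution {g : Perm (Fin 6)} (h2 : g ^ 2 = 1) (h1 : g ≠ 1)
    (hs : Perm.sign g = 1) : g.cycleType = {2, 2} := by
  have hrep := cycleType_of_pow_prime_eq_one (p := 2) h2
  have hsum : g.cycleType.sum = Multiset.card g.cycleType * 2 := by
    rw [hrep]; simp
  have hle : g.cycleType.sum ≤ 6 := by
    have := g.sum_cycleType_le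
    simpa using this
  have hpos : 0 < Multiset.card g.cycleType := card_cycleType_pos.mpr h1
  have hsign := sign_of_cycleType g
  rw [hs, hsum] at hsign
  have hm : Multiset.card g.cycleType = 2 := by
    have hm3 : Multiset.card g.cycleType ≤ 3 := by omega
    interval_cases hc : Multiset.card g.cycleType
    · exfalso
      revert hsign; decide
    · rfl
    · exfalso
      revert hsign; decide
  rw [hrep, hm]
  rfl

theorem exists_swaps_of_cycleType {g : Perm (Fin 6)} (hct : g.cycleType = {2, 2}) :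
    ∃ i j k l : Fin 6, i ≠ j ∧ i ≠ k ∧ i ≠ l ∧ j ≠ k ∧ j ≠ l ∧ k ≠ l ∧ g = swap i j * swap k l := by
  have h0 : (swap (0 : Fin 6) 1 * swap 2 3).cycleType = {2, 2} :=
    cycleType_swap_mul_swap_of_nodup (by decide)
  have hconj : IsConj (swap (0 : Fin 6) 1 * swap 2 3) g :=
    isConj_iff_cycleType_eq.mpr (h0.trans hct.symm)
  obtain ⟨π, hπ⟩ := isConj_iff.mp hconj
  refine ⟨π 0, π 1, π 2, π 3, ?_, ?_, ?_, ?_, ?_, ?_, ?_⟩
  · exact fun h => absurd (π.injective h) (by decide)
  · exact fun h => absurd (π.injective h) (by decide)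
  · exact fun h => absurd (π.injective h) (by decide)
  · exact fun h => absurd (π.injective h) (by decide)
  · exact fun h => absurd (π.injective h) (by decide)
  · exact fun h => absurd (π.injective h) (by decide)
  · rw [swap_apply_apply, swap_apply_apply, ← hπ]
    group

local notation "A6" => alternatingGroup (Fin 6)

/-- The involution `(0 1)(2 3)` of `A₆`. -/
def a6d0 : A6 := ⟨swap (0 : Fin 6) 1 * swap 2 3, mem_alternatingGroup.mpr (by
  rw [map_mul, sign_swap (by decide), sign_swap (by decide)]; rfl)⟩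

theorem a6_involution_coe {g : A6} (hg : orderOf g = 2) :
    (g : Perm (Fin 6)) ^ 2 = 1 ∧ (g : Perm (Fin 6)) ≠ 1 ∧ Perm.sign (g : Perm (Fin 6)) = 1 := by
  have hval : orderOf (g : Perm (Fin 6)) = 2 := by rw [Subgroup.orderOf_coe]; exact hg
  refine ⟨?_, ?_, mem_alternatingGroup.mp g.2⟩
  · rw [← hval]; exact pow_orderOf_eq_one _
  · intro h1
    rw [h1, orderOf_one] at hval
    omega

theorem a6d0_orderOf : orderOf a6d0 = 2 := by
  apply orderOf_eq_prime
  · apply Subtype.ext
    rw [Subgroup.coe_pow, Subgroup.coe_one]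
    decide
  · intro h
    have := congrArg Subtype.val h
    revert this
    decide

theorem a6_isConj_d0 {g : A6} (hg : orderOf g = 2) : IsConj a6d0 g := by
  obtain ⟨h2, h1, hs⟩ := a6_involution_coe hg
  have hct := cycleType_of_even_involution h2 h1 hs
  have h0 : (swap (0 : Fin 6) 1 * swap 2 3).cycleType = {2, 2} :=
    cycleType_swap_mul_swap_of_nodup (by decide)
  apply alternatingGroup.isConj_of
  · exact isConj_iff_cycleType_eq.mpr (h0.trans hct.symm)
  · have : (a6d0 : Perm (Fin 6)).support.card = 4 := by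
      rw [← sum_cycleType]
      show (swap (0 : Fin 6) 1 * swap 2 3).cycleType.sum = 4
      rw [h0]; rfl
    rw [this]; simp

theorem a6_rootPairCond_d0 {b : A6} (hb : orderOf b = 2) : RootPairCond a6d0 b := by
  obtain ⟨h2, h1, hs⟩ := a6_involution_coe hb
  have hct := cycleType_of_even_involution h2 h1 hs
  obtain ⟨i, j, k, l, hij, hik, hil, hjk, hjl, hkl, hbe⟩ := exists_swaps_of_cycleType hct
  have hcheck := a6_check i j k l hij hik hil hjk hjl hkl
  rw [← hbe] at hcheck
  have hd0 : (a6d0 : Perm (Fin 6)) = swap (0 : Fin 6) 1 * swap 2 3 := rfl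
  rw [← hd0] at hcheck
  have hsq : ∀ {g : A6}, orderOf g = 2 → g * g = 1 := by
    intro g hg
    have := pow_orderOf_eq_one g
    rwa [hg, pow_two] at this
  apply rootPairCond_of_pow (hsq a6d0_orderOf) (hsq hb)
  rcases hcheck with h | h | h | h
  · left; apply Subtype.ext; simpa using h
  · right; left; apply Subtype.ext; simpa using h
  · right; right; left; apply Subtype.ext; simpa using h
  · right; right; right
    refine ⟨?_, ?_⟩
    · apply Subtype.ext; simpa using h.1
    · intro hcon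
      apply h.2
      have := congrArg Subtype.val hcon
      simpa using this

theorem a6_rootPairCond {a b : A6} (ha : orderOf a = 2) (hb : orderOf b = 2) :
    RootPairCond a b := by
  obtain ⟨π, hπ⟩ := isConj_iff.mp (a6_isConj_d0 ha)
  have hb' : orderOf ((MulAut.conj π).symm b) = 2 := by
    rw [MulEquiv.orderOf_eq]; exact hb
  have h := rootPairCond_map (MulAut.conj π) (a6_rootPairCond_d0 hb')
  rw [MulEquiv.apply_symm_apply, MulAut.conj_apply, hπ] at h
  exact h

theorem a6_orderOf_conj (g d : A6) : orderOf (g * d * g⁻¹) = orderOf d := by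
  have := MulEquiv.orderOf_eq (MulAut.conj g) d
  rwa [MulAut.conj_apply] at this

theorem a6_involutions_isRootInvolutionClass :
    IsRootInvolutionClass {g : A6 | orderOf g = 2} ∧
    ∀ d ∈ {g : A6 | orderOf g = 2}, ∀ e ∈ {g : A6 | orderOf g = 2}, orderOf (d * e) ≤ 5 := by
  have hconj : ∀ d ∈ {g : A6 | orderOf g = 2}, ∀ g : A6, g * d * g⁻¹ ∈ {g : A6 | orderOf g = 2} := by
    intro d hd g
    show orderOf (g * d * g⁻¹) = 2
    rw [a6_orderOf_conj]; exact hd
  have hd0 : a6d0 ∈ {g : A6 | orderOf g = 2} := a6d0_orderOf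
  refine ⟨⟨⟨fun d hd => hd, ?_, hconj, ?_⟩, ⟨a6d0, hd0⟩, ?_⟩, ?_⟩
  · -- generation
    have hnormal : (Subgroup.closure {g : A6 | orderOf g = 2}).Normal := by
      refine ⟨fun n hn g => ?_⟩
      induction hn using Subgroup.closure_induction with
      | mem x hx => exact Subgroup.subset_closure (hconj x hx g)
      | one => simp
      | mul x y _ _ hx hy =>
        have : g * (x * y) * g⁻¹ = (g * x * g⁻¹) * (g * y * g⁻¹) := by simp [mul_assoc]
        rw [this]; exact Subgroup.mul_mem _ hx hy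
      | inv x _ hx =>
        have : g * x⁻¹ * g⁻¹ = (g * x * g⁻¹)⁻¹ := by simp [mul_assoc]
        rw [this]; exact Subgroup.inv_mem _ hx
    have hsimple : IsSimpleGroup A6 := alternatingGroup.isSimpleGroup (by simp)
    refine (hnormal.eq_bot_or_eq_top).resolve_left ?_
    intro hbot
    have h1 : a6d0 ∈ Subgroup.closure {g : A6 | orderOf g = 2} := Subgroup.subset_closure hd0
    rw [hbot, Subgroup.mem_bot] at h1
    have h2 := a6d0_orderOf
    rw [h1, orderOf_one] at h2
    omega
  · intro a ha b hb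
    rcases (a6_rootPairCond ha hb).1 with h | h | h
    · exact Or.inl h
    · exact Or.inr (Or.inl h)
    · exact Or.inr (Or.inr ⟨h.1, h.2⟩)
  · intro a ha b hb
    have h1 : IsConj a b := (a6_isConj_d0 ha).symm.trans (a6_isConj_d0 hb)
    obtain ⟨g, hg⟩ := isConj_iff.mp h1
    exact ⟨g, hg.symm⟩
  · intro d hd e he
    exact (a6_rootPairCond hd he).2

end Cfsg.Agent.Helper25
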