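import Mathlib
import Cfsg.Agent.Helper29.AltPronDefs
import Cfsg.Agent.Helper29.AltPronBasics

/-!
# S2222 piece NORM: Sylow 2-subgroups of the alternating group are self-normalizing
(given that no nontrivial element of odd order normalizes them)
-/

set_option autoImplicit false

namespace Cfsg.Agent.Helper25.AltPron

open MulAction Equiv Cfsg.Agent.Helper29.AltPron
open scoped Pointwise Nat

variable {α : Type*} [Fintype α] [DecidableEq α]

/-- an element of 2-power order normalizing a Sylow 2-subgroup lies in it -/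
theorem mem_sylow_of_normalizer_of_two_pow {G : Type*} [Group G] [Finite G] (S : Sylow 2 G) (g : G)
    (hg : g ∈ Subgroup.normalizer ((S : Subgroup G) : Set G)) (b : ℕ) (hb : orderOf g = 2 ^ b) :
    g ∈ (S : Subgroup G) := by
  have hp : Fact (Nat.Prime 2) := ⟨Nat.prime_two⟩
  have hZ : IsPGroup 2 (Subgroup.zpowers g) := by
    refine IsPGroup.of_card (n := b) ?_
    rw [Nat.card_zpowers, hb]
  have hle : Subgroup.zpowers g ≤ Subgroup.normalizer ((S : Subgroup G) : Set G) := by
    rw [Subgroup.zpowers_le]; exact hg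
  have hsup : IsPGroup 2 (Subgroup.zpowers g ⊔ (S : Subgroup G) : Subgroup G) :=
    IsPGroup.to_sup_of_normal_right' hZ S.isPGroup' hle
  have heq : (Subgroup.zpowers g ⊔ (S : Subgroup G) : Subgroup G) = S :=
    S.is_maximal' hsup le_sup_right
  rw [← heq]
  exact (le_sup_left : Subgroup.zpowers g ≤ _) (Subgroup.mem_zpowers g)

theorem normalizer_sylow_alt (S : Sylow 2 (alternatingGroup α))
    (hML : ∀ y : Perm α, y ∈ alternatingGroup α →
      Normalizes y ((S : Subgroup (alternatingGroup α)).map (alternatingGroup α).subtype) →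
      Odd (orderOf y) → y = 1) :
    ∀ g : alternatingGroup α,
      g ∈ Subgroup.normalizer ((S : Subgroup (alternatingGroup α)) : Set (alternatingGroup α)) →
      g ∈ (S : Subgroup (alternatingGroup α)) := by
  intro g hg
  have hne : orderOf g ≠ 0 := (orderOf_pos g).ne'
  obtain ⟨a, r, hr, hgr⟩ := Nat.exists_eq_two_pow_mul_odd hne
  -- the odd part
  set z : alternatingGroup α := g ^ (2 ^ a) with hz
  have hzN : z ∈ Subgroup.normalizer ((S : Subgroup (alternatingGroup α)) : Set (alternatingGroup α)) :=
    Subgroup.pow_mem _ hg _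
  have hzord : orderOf z = r := by
    rw [hz, orderOf_pow_of_dvd (by positivity) (by rw [hgr]; exact Dvd.intro _ rfl), hgr,
      Nat.mul_div_cancel_left _ (by positivity)]
  have hz1 : (z : Perm α) = 1 := by
    apply hML (z : Perm α) z.2
    · intro p
      constructor
      · rintro ⟨q, hq, rfl⟩
        refine ⟨z * q * z⁻¹, (Subgroup.mem_normalizer_iff.mp hzN q).mp hq, ?_⟩
        simp
      · rintro ⟨q, hq, hqe⟩
        have hp : p ∈ alternatingGroup α := by
          have h1 : (z : Perm α) * p * (z : Perm α)⁻¹ ∈ alternatingGroup α := by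
            rw [← hqe]; exact q.2
          have h2 : p = (z : Perm α)⁻¹ * ((z : Perm α) * p * (z : Perm α)⁻¹) * (z : Perm α) := by
            group
          rw [h2]
          exact Subgroup.mul_mem _ (Subgroup.mul_mem _ (Subgroup.inv_mem _ z.2) h1) z.2
        refine ⟨⟨p, hp⟩, ?_, rfl⟩
        have hthis : z * ⟨p, hp⟩ * z⁻¹ = q := by
          apply Subtype.ext
          simpa using hqe.symm
        refine (Subgroup.mem_normalizer_iff.mp hzN ⟨p, hp⟩).mpr ?_
        rw [hthis]; exact hq
    · rw [Subgroup.orderOf_coe, hzord]; exact hr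
  have hz1' : z = 1 := Subtype.ext (by simpa using hz1)
  have hdvd : orderOf g ∣ 2 ^ a := orderOf_dvd_of_pow_eq_one hz1'
  obtain ⟨b, _, hb⟩ := (Nat.dvd_prime_pow Nat.prime_two).mp hdvd
  exact mem_sylow_of_normalizer_of_two_pow S g hg b hb

end Cfsg.Agent.Helper25.AltPron
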