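import Mathlib
import Cfsg.Prelude.Def_HallClasses
import Cfsg.Agent.Helper29.AltPronDefs
import Cfsg.Agent.Helper29.AltPronBasics

/-!
# S2222 piece PRON: self-normalizing Sylow 2-subgroups make odd-index subgroups pronormal
-/

set_option autoImplicit false

namespace Cfsg.Agent.Helper25.AltPron

open MulAction Equiv Cfsg.Agent.Helper29.AltPron
open scoped Pointwise Nat

/-- a subgroup of odd index contains a Sylow 2-subgroup of the whole group -/
theorem exists_sylow_le_of_odd_index {G : Type*} [Group G] [Finite G] (H : Subgroup G)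
    (hH : Odd H.index) : ∃ S : Sylow 2 G, (S : Subgroup G) ≤ H := by
  classical
  have hp : Fact (Nat.Prime 2) := ⟨Nat.prime_two⟩
  obtain ⟨Q⟩ : Nonempty (Sylow 2 H) := inferInstance
  set S₀ : Subgroup G := (Q : Subgroup H).map H.subtype with hS₀
  have hc1 : Nat.card S₀ = Nat.card (Q : Subgroup H) :=
    (Nat.card_congr ((Q : Subgroup H).equivMapOfInjective H.subtype H.subtype_injective).toEquiv).symm
  have hc2 : Nat.card (Q : Subgroup H) = 2 ^ (Nat.card H).factorization 2 :=
    Sylow.card_eq_multiplicity Q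
  have hfac : (Nat.card G).factorization 2 = (Nat.card H).factorization 2 := by
    have h1 : Nat.card G = Nat.card H * H.index := (Subgroup.card_mul_index H).symm
    have hHpos : Nat.card H ≠ 0 := Nat.card_pos.ne'
    have hipos : H.index ≠ 0 := Subgroup.index_ne_zero_of_finite
    have h2 : ¬ 2 ∣ H.index := by
      rw [← even_iff_two_dvd, Nat.not_even_iff_odd]; exact hH
    rw [h1, Nat.factorization_mul hHpos hipos, Finsupp.add_apply,
      Nat.factorization_eq_zero_of_not_dvd h2, add_zero]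
  have hcard : Nat.card S₀ = 2 ^ (Nat.card G).factorization 2 := by
    rw [hc1, hc2, hfac]
  refine ⟨Sylow.ofCard S₀ hcard, ?_⟩
  rw [Sylow.coe_ofCard]
  exact Subgroup.map_subtype_le _

theorem map_conj_mul_of_mem {G : Type*} [Group G] (H : Subgroup G) (g h : G) (hh : h ∈ H) :
    H.map (MulAut.conj (g * h)).toMonoidHom = H.map (MulAut.conj g).toMonoidHom := by
  ext y
  simp only [Subgroup.mem_map, MulEquiv.coe_toMonoidHom, MulAut.conj_apply]
  constructor
  · rintro ⟨z, hz, rfl⟩
    refine ⟨h * z * h⁻¹, H.mul_mem (H.mul_mem hh hz) (H.inv_mem hh), ?_⟩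
    group
  · rintro ⟨z, hz, rfl⟩
    refine ⟨h⁻¹ * z * h, H.mul_mem (H.mul_mem (H.inv_mem hh) hz) hh, ?_⟩
    group

theorem pronormal_of_normalizer {G : Type*} [Group G] [Finite G] (H : Subgroup G) (hH : Odd H.index)
    (hN : ∀ S : Sylow 2 G, ∀ g : G, g ∈ Subgroup.normalizer ((S : Subgroup G) : Set G) →
      g ∈ (S : Subgroup G)) :
    Cfsg.IsPronormal H := by
  classical
  have hp : Fact (Nat.Prime 2) := ⟨Nat.prime_two⟩
  obtain ⟨S, hSH⟩ := exists_sylow_le_of_odd_index H hH
  intro g
  set K : Subgroup G := H ⊔ H.map (MulAut.conj g).toMonoidHom with hK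
  have hSK : (S : Subgroup G) ≤ K := hSH.trans le_sup_left
  have hgSK : ((g • S : Sylow 2 G) : Subgroup G) ≤ K := by
    refine le_trans ?_ (le_sup_right : H.map (MulAut.conj g).toMonoidHom ≤ K)
    intro y hy
    rw [Sylow.coe_subgroup_smul, Subgroup.mem_pointwise_smul_iff_inv_smul_mem] at hy
    refine Subgroup.mem_map.mpr ⟨_, hSH hy, ?_⟩
    simp [MulAut.smul_def]
    group
  obtain ⟨k, hk⟩ := MulAction.exists_smul_eq K (S.subtype hSK) ((g • S).subtype hgSK)
  rw [Sylow.smul_subtype hSK k] at hk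
  have hk2 : k • S = g • S := Sylow.subtype_injective hk
  have hk3 : (k : G) • S = g • S := hk2
  have hk4 : (g⁻¹ * (k : G)) • S = S := by
    rw [mul_smul, hk3, inv_smul_smul]
  have hmem : g⁻¹ * (k : G) ∈ (S : Subgroup G) :=
    hN S _ (Sylow.smul_eq_iff_mem_normalizer.mp hk4)
  refine ⟨(k : G), k.2, ?_⟩
  have hkg : (k : G) = g * (g⁻¹ * (k : G)) := by group
  rw [hkg]
  exact (map_conj_mul_of_mem H g _ (hSH hmem)).symm

end Cfsg.Agent.Helper25.AltPron
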