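import Mathlib

set_option autoImplicit false

/-! Sylow `p`-subgroups of alternating groups: abelian iff degree `< p²`. -/

namespace Cfsg.Agent.Helper25

open Equiv
open scoped Pointwise

/-- A group of order `p ^ m`, `m ≤ 1`, is commutative. -/
theorem comm_of_card_prime_pow_le_one {G : Type*} [Group G] (p : ℕ) [Fact p.Prime] (m : ℕ)
    (hm : m ≤ 1) (hG : Nat.card G = p ^ m) (a b : G) : a * b = b * a := by
  rcases Nat.le_one_iff_eq_zero_or_eq_one.mp hm with rfl | rfl
  · rw [pow_zero] at hG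
    have : Subsingleton G := (Nat.card_eq_one_iff_unique.mp hG).1
    exact Subsingleton.elim _ _
  · rw [pow_one] at hG
    haveI : IsCyclic G := isCyclic_of_prime_card hG
    exact (isMulCommutative_iff.mp inferInstance) a b

theorem sq_not_dvd_factorial_of_le (p : ℕ) [hp : Fact p.Prime] (k : ℕ) (hk : k ≤ p) :
    ¬ p ^ 2 ∣ k.factorial := by
  intro h
  have h1 : p ^ 2 ∣ p.factorial := h.trans (Nat.factorial_dvd_factorial hk)
  have hp1 : 1 ≤ p := hp.out.one_lt.le
  have h2 : p.factorial = p * (p - 1).factorial := by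
    conv_lhs => rw [← Nat.sub_add_cancel hp1, Nat.factorial_succ, Nat.sub_add_cancel hp1]
  rw [h2, pow_two] at h1
  have h3 : p ∣ (p - 1).factorial := Nat.dvd_of_mul_dvd_mul_left hp.out.pos h1
  have h4 := (hp.out.dvd_factorial).mp h3
  omega

/-- In a `p`-subgroup of the symmetric group of degree `< p²` any two elements commute. -/
theorem perm_comm_of_card_lt {α : Type*} [Finite α] (p : ℕ) [hp : Fact p.Prime]
    (hα : Nat.card α < p ^ 2) (P : Subgroup (Perm α)) (hP : IsPGroup p P)
    (g h : Perm α) (hg : g ∈ P) (hh : h ∈ P) : g * h = h * g := by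
  ext x
  haveI : Finite (MulAction.orbit P x) := Subtype.finite
  obtain ⟨j, hj⟩ := hP.card_orbit x
  have hle : Nat.card (MulAction.orbit P x) ≤ Nat.card α :=
    Nat.card_le_card_of_injective _ Subtype.val_injective
  have hj1 : j ≤ 1 := by
    by_contra hlt
    push_neg at hlt
    have h2 : p ^ 2 ≤ p ^ j := Nat.pow_le_pow_right hp.out.pos hlt
    omega
  have hjp : Nat.card (MulAction.orbit P x) ≤ p := by
    rw [hj]
    calc p ^ j ≤ p ^ 1 := Nat.pow_le_pow_right hp.out.pos hj1
      _ = p := pow_one p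
  let ρ : P →* Perm (MulAction.orbit P x) := MulAction.toPermHom P (MulAction.orbit P x)
  have hR : IsPGroup p ρ.range := hP.of_surjective ρ.rangeRestrict ρ.rangeRestrict_surjective
  have hdvd : Nat.card ρ.range ∣ (Nat.card (MulAction.orbit P x)).factorial := by
    have := Subgroup.card_subgroup_dvd_card ρ.range
    rwa [Nat.card_perm] at this
  obtain ⟨m, hm⟩ := IsPGroup.iff_card.mp hR
  have hm1 : m ≤ 1 := by
    by_contra hlt
    push_neg at hlt
    have h2 : p ^ 2 ∣ (Nat.card (MulAction.orbit P x)).factorial :=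
      (pow_dvd_pow p hlt).trans (hm ▸ hdvd)
    exact sq_not_dvd_factorial_of_le p _ hjp h2
  have hc := comm_of_card_prime_pow_le_one p m hm1 hm
    ⟨ρ ⟨g, hg⟩, ⟨_, rfl⟩⟩ ⟨ρ ⟨h, hh⟩, ⟨_, rfl⟩⟩
  have hc' : ρ ⟨g, hg⟩ * ρ ⟨h, hh⟩ = ρ ⟨h, hh⟩ * ρ ⟨g, hg⟩ := congrArg Subtype.val hc
  have hx := congrArg (fun σ : Perm (MulAction.orbit P x) =>
    ((σ ⟨x, MulAction.mem_orbit_self x⟩ : MulAction.orbit P x) : α)) hc'
  exact hx


/-! ### The wreath product `C_p ≀ C_p` acting on `ZMod p × ZMod p` -/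

/-- `σ` is of the form `(i, j) ↦ (i + c, j + f i)`. -/
def HasWreathData (p : ℕ) (σ : Perm (ZMod p × ZMod p)) (c : ZMod p) (f : ZMod p → ZMod p) : Prop :=
  ∀ i j, σ (i, j) = (i + c, j + f i)

/-- The group of permutations of the form `(i, j) ↦ (i + c, j + f i)`. -/
def wreathSubgroup (p : ℕ) : Subgroup (Perm (ZMod p × ZMod p)) where
  carrier := {σ | ∃ c f, HasWreathData p σ c f}
  mul_mem' := by
    rintro σ τ ⟨c, f, h⟩ ⟨c', f', h'⟩
    refine ⟨c' + c, fun i => f' i + f (i + c'), fun i j => ?_⟩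
    rw [Perm.mul_apply, h', h]
    ext <;> simp [add_assoc]
  one_mem' := ⟨0, fun _ => 0, fun i j => by simp⟩
  inv_mem' := by
    rintro σ ⟨c, f, h⟩
    refine ⟨-c, fun i => -f (i - c), fun i j => ?_⟩
    rw [Perm.inv_def, Equiv.symm_apply_eq, h]
    ext <;> simp [sub_eq_add_neg]

theorem mem_wreathSubgroup {p : ℕ} {σ : Perm (ZMod p × ZMod p)} :
    σ ∈ wreathSubgroup p ↔ ∃ c f, HasWreathData p σ c f := Iff.rfl

theorem hasWreathData_pow {p : ℕ} {σ : Perm (ZMod p × ZMod p)} {c : ZMod p} {f : ZMod p → ZMod p}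
    (h : HasWreathData p σ c f) (m : ℕ) :
    HasWreathData p (σ ^ m) (m • c) (fun i => ∑ t ∈ Finset.range m, f (i + t • c)) := by
  induction m with
  | zero => intro i j; simp
  | succ m ih =>
    intro i j
    rw [pow_succ', Perm.mul_apply, ih, h]
    show (i + m • c + c, j + (∑ t ∈ Finset.range m, f (i + t • c)) + f (i + m • c)) =
      (i + (m + 1) • c, j + ∑ t ∈ Finset.range (m + 1), f (i + t • c))
    rw [Finset.sum_range_succ]
    ext
    · simp only [add_assoc, succ_nsmul]
    · simp only [add_assoc]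

theorem wreathSubgroup_isPGroup (p : ℕ) [hp : Fact p.Prime] : IsPGroup p (wreathSubgroup p) := by
  rintro ⟨σ, c, f, h⟩
  refine ⟨2, Subtype.ext ?_⟩
  show σ ^ p ^ 2 = 1
  have h1 := hasWreathData_pow h p
  have hpc : p • c = 0 := by
    rw [nsmul_eq_mul, ZMod.natCast_self, zero_mul]
  rw [hpc] at h1
  have h2 := hasWreathData_pow h1 p
  rw [pow_two, pow_mul]
  ext ⟨i, j⟩
  · rw [h2]; simp
  · rw [h2]
    simp only [smul_zero, add_zero, Finset.sum_const, Finset.card_range, Perm.coe_one, id_eq]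
    rw [nsmul_eq_mul, ZMod.natCast_self, zero_mul, add_zero]

/-- The element `(i, j) ↦ (i, j + [i = 0])`. -/
def wreathA (p : ℕ) : Perm (ZMod p × ZMod p) where
  toFun x := (x.1, x.2 + if x.1 = 0 then 1 else 0)
  invFun x := (x.1, x.2 - if x.1 = 0 then 1 else 0)
  left_inv x := by simp
  right_inv x := by simp

/-- The element `(i, j) ↦ (i + 1, j)`. -/
def wreathB (p : ℕ) : Perm (ZMod p × ZMod p) where
  toFun x := (x.1 + 1, x.2)
  invFun x := (x.1 - 1, x.2)
  left_inv x := by simp
  right_inv x := by simp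

theorem wreathA_mem (p : ℕ) : wreathA p ∈ wreathSubgroup p :=
  ⟨0, fun i => if i = 0 then 1 else 0, fun i j => by simp [wreathA]⟩

theorem wreathB_mem (p : ℕ) : wreathB p ∈ wreathSubgroup p :=
  ⟨1, fun _ => 0, fun i j => by simp [wreathB]⟩

theorem wreathA_mul_wreathB_ne (p : ℕ) [hp : Fact p.Prime] :
    wreathA p * wreathB p ≠ wreathB p * wreathA p := by
  intro h
  have h1 := congrArg (fun σ : Perm (ZMod p × ZMod p) => (σ (0, 0)).2) h
  haveI : Fact (1 < p) := ⟨hp.out.one_lt⟩
  simp [wreathA, wreathB] at h1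


/-! ### Transfer to the alternating group -/

theorem sign_viaEmbeddingHom {α β : Type*} [Fintype α] [DecidableEq α] [Fintype β] [DecidableEq β]
    (e : α ↪ β) (σ : Perm α) : Perm.sign (Perm.viaEmbeddingHom e σ) = Perm.sign σ := by
  classical
  rw [Perm.viaEmbeddingHom_apply]
  unfold Perm.viaEmbedding
  convert Perm.sign_extendDomain σ (ofInjective e.1 e.2)

/-- A nonabelian `p`-subgroup of a symmetric group, mapped injectively into even permutations of
`Fin n`, shows that the Sylow `p`-subgroups of the alternating group are not abelian. -/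
theorem sylow_alt_not_comm {n p : ℕ} [Fact p.Prime] {α : Type*}
    (W : Subgroup (Perm α)) (hW : IsPGroup p W) (a b : Perm α) (ha : a ∈ W) (hb : b ∈ W)
    (hab : a * b ≠ b * a) (ι : Perm α →* Perm (Fin n)) (hι : Function.Injective ι)
    (hsign : ∀ σ ∈ W, Perm.sign (ι σ) = 1) (S : Sylow p (alternatingGroup (Fin n))) :
    ¬ IsMulCommutative S := by
  intro hcomm
  rw [isMulCommutative_iff] at hcomm
  have hW' : IsPGroup p ((W.map ι).subgroupOf (alternatingGroup (Fin n))) :=
    (hW.map ι).comap_of_injective _ (Subgroup.subtype_injective _)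
  obtain ⟨Q, hQ⟩ := hW'.exists_le_sylow
  obtain ⟨g, hg⟩ := MulAction.exists_smul_eq (alternatingGroup (Fin n)) S Q
  have key : ∀ σ ∈ W, ∃ s : S, ι σ = ((g : alternatingGroup (Fin n)) : Perm (Fin n)) *
      (((s : S) : alternatingGroup (Fin n)) : Perm (Fin n)) *
      ((g : alternatingGroup (Fin n)) : Perm (Fin n))⁻¹ := by
    intro σ hσ
    have h1 : (⟨ι σ, Perm.mem_alternatingGroup.mpr (hsign σ hσ)⟩ : alternatingGroup (Fin n)) ∈
        (W.map ι).subgroupOf (alternatingGroup (Fin n)) := by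
      rw [Subgroup.mem_subgroupOf]
      exact ⟨σ, hσ, rfl⟩
    have h2 := hQ h1
    rw [← hg] at h2
    have h3 : (⟨ι σ, Perm.mem_alternatingGroup.mpr (hsign σ hσ)⟩ : alternatingGroup (Fin n)) ∈
        MulAut.conj g • (S : Subgroup (alternatingGroup (Fin n))) := h2
    rw [Subgroup.mem_smul_pointwise_iff_exists] at h3
    obtain ⟨s, hs, hse⟩ := h3
    refine ⟨⟨s, hs⟩, ?_⟩
    have := congrArg Subtype.val hse
    rw [MulAut.smul_def, MulAut.conj_apply] at this
    exact this.symm
  obtain ⟨s, hs⟩ := key a ha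
  obtain ⟨t, ht⟩ := key b hb
  apply hab
  apply hι
  rw [map_mul, map_mul, hs, ht]
  have hst : ((s : alternatingGroup (Fin n)) : Perm (Fin n)) * ((t : alternatingGroup (Fin n)) : Perm (Fin n)) =
      ((t : alternatingGroup (Fin n)) : Perm (Fin n)) * ((s : alternatingGroup (Fin n)) : Perm (Fin n)) :=
    congrArg (fun x : S => ((x : alternatingGroup (Fin n)) : Perm (Fin n))) (hcomm s t)
  calc _ = (g : Perm (Fin n)) * ((s : alternatingGroup (Fin n)) * (t : alternatingGroup (Fin n)) : Perm (Fin n)) * (g : Perm (Fin n))⁻¹ := by group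
    _ = (g : Perm (Fin n)) * ((t : alternatingGroup (Fin n)) * (s : alternatingGroup (Fin n)) : Perm (Fin n)) * (g : Perm (Fin n))⁻¹ := by rw [hst]
    _ = _ := by group

/-- Elements of a `p`-group of permutations are even when `p` is odd. -/
theorem sign_eq_one_of_isPGroup_odd {β : Type*} [Fintype β] [DecidableEq β] {p : ℕ} (hp : Odd p)
    (W : Subgroup (Perm β)) (hW : IsPGroup p W) (σ : Perm β) (hσ : σ ∈ W) : Perm.sign σ = 1 := by
  obtain ⟨k, hk⟩ := hW ⟨σ, hσ⟩
  have h1 : σ ^ p ^ k = 1 := congrArg Subtype.val hk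
  have h2 : Perm.sign σ ^ p ^ k = 1 := by rw [← map_pow, h1, map_one]
  rcases Int.units_eq_one_or (Perm.sign σ) with h | h
  · exact h
  · rw [h, Odd.neg_one_pow (hp.pow)] at h2
    exact absurd h2 (by decide)


/-- Correct the sign on two extra points: `σ ↦ σ ⊕ (sign σ acting on ℤˣ)`. -/
noncomputable def evenize (α : Type*) [Fintype α] [DecidableEq α] : Perm α →* Perm (α ⊕ ℤˣ) :=
  (Perm.sumCongrHom α ℤˣ).comp
    ((MonoidHom.id (Perm α)).prod ((MulAction.toPermHom ℤˣ ℤˣ).comp Perm.sign))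

theorem evenize_injective (α : Type*) [Fintype α] [DecidableEq α] :
    Function.Injective (evenize α) := by
  intro σ τ h
  have h1 := Perm.sumCongrHom_injective h
  exact congrArg Prod.fst h1

theorem sign_toPermHom_units (u : ℤˣ) : Perm.sign (MulAction.toPermHom ℤˣ ℤˣ u) = u := by
  rcases Int.units_eq_one_or u with rfl | rfl
  · rw [map_one, map_one]
  · decide

theorem sign_evenize (α : Type*) [Fintype α] [DecidableEq α] (σ : Perm α) :
    Perm.sign (evenize α σ) = 1 := by
  show Perm.sign (Perm.sumCongr σ (MulAction.toPermHom ℤˣ ℤˣ (Perm.sign σ))) = 1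
  rw [Perm.sign_sumCongr, sign_toPermHom_units, Int.units_mul_self]

theorem alt_sylow_comm_iff (n p : ℕ) (hn : 6 ≤ n) [hp : Fact p.Prime]
    (S : Sylow p (alternatingGroup (Fin n))) : IsMulCommutative S ↔ n < p ^ 2 := by
  constructor
  · intro hcomm
    by_contra hlt
    push_neg at hlt
    haveI : NeZero p := ⟨hp.out.ne_zero⟩
    rcases hp.out.eq_two_or_odd' with h2 | hodd
    · subst h2
      have hcard : Fintype.card ((ZMod 2 × ZMod 2) ⊕ ℤˣ) ≤ Fintype.card (Fin n) := by
        rw [Fintype.card_sum, Fintype.card_prod, ZMod.card, Fintype.card_units_int, Fintype.card_fin]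
        omega
      obtain ⟨e⟩ := Function.Embedding.nonempty_of_card_le hcard
      refine sylow_alt_not_comm (wreathSubgroup 2) (wreathSubgroup_isPGroup 2) (wreathA 2) (wreathB 2)
        (wreathA_mem 2) (wreathB_mem 2) (wreathA_mul_wreathB_ne 2)
        ((Perm.viaEmbeddingHom e).comp (evenize (ZMod 2 × ZMod 2)))
        ((Perm.viaEmbeddingHom_injective e).comp (evenize_injective _)) ?_ S hcomm
      intro σ _
      rw [MonoidHom.comp_apply, sign_viaEmbeddingHom, sign_evenize]
    · have hcard : Fintype.card (ZMod p × ZMod p) ≤ Fintype.card (Fin n) := by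
        rw [Fintype.card_prod, ZMod.card, Fintype.card_fin, ← pow_two]
        exact hlt
      obtain ⟨e⟩ := Function.Embedding.nonempty_of_card_le hcard
      refine sylow_alt_not_comm (wreathSubgroup p) (wreathSubgroup_isPGroup p) (wreathA p) (wreathB p)
        (wreathA_mem p) (wreathB_mem p) (wreathA_mul_wreathB_ne p)
        (Perm.viaEmbeddingHom e) (Perm.viaEmbeddingHom_injective e) ?_ S hcomm
      intro σ hσ
      exact sign_eq_one_of_isPGroup_odd hodd ((wreathSubgroup p).map (Perm.viaEmbeddingHom e))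
        ((wreathSubgroup_isPGroup p).map _) _ ⟨σ, hσ, rfl⟩
  · intro hlt
    rw [isMulCommutative_iff]
    intro a b
    apply Subtype.ext
    apply Subtype.ext
    show ((a : alternatingGroup (Fin n)) : Perm (Fin n)) * ((b : alternatingGroup (Fin n)) : Perm (Fin n)) =
      ((b : alternatingGroup (Fin n)) : Perm (Fin n)) * ((a : alternatingGroup (Fin n)) : Perm (Fin n))
    refine perm_comm_of_card_lt p (by rwa [Nat.card_fin])
      ((S : Subgroup (alternatingGroup (Fin n))).map (alternatingGroup (Fin n)).subtype)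
      (S.isPGroup'.map _) _ _ ⟨a, a.2, rfl⟩ ⟨b, b.2, rfl⟩

end Cfsg.Agent.Helper25
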