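import Mathlib
import Cfsg.Prelude.Def_ChevB2
import Cfsg.Prelude.Def_ChevStructure
import Cfsg.Agent.Helper28.B2Defs
import Cfsg.Agent.Helper25.B2R2C4
import Cfsg.Agent.Helper25.B2R2C5
set_option autoImplicit false
open Matrix Cfsg.Lie Cfsg.Agent.Helper28.Sg Cfsg.Agent.Helper28.B2

/-! S1083 piece R2C (helper28 driver). -/

namespace Cfsg.Agent.Helper25.B2

theorem Y_comm_C {F : Type*} [Field F] (r s : ℕ) (hr : r = 4 ∨ r = 5) (hs : s < 8) (h1 : s ≠ r)
    (h2 : s ≠ 7 - r) (t u : F) :
    Y s (-u) * Y r (-t) * Y s u * Y r t = wordY (chevB2.commWord F r s t u) := by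
  rcases hr with rfl | rfl
  · interval_cases s
    · exact comm_4_0 t u
    · exact comm_4_1 t u
    · exact comm_4_2 t u
    · exact absurd rfl h2
    · exact absurd rfl h1
    · exact comm_4_5 t u
    · exact comm_4_6 t u
    · exact comm_4_7 t u
  · interval_cases s
    · exact comm_5_0 t u
    · exact comm_5_1 t u
    · exact absurd rfl h2
    · exact comm_5_3 t u
    · exact comm_5_4 t u
    · exact absurd rfl h1
    · exact comm_5_6 t u
    · exact comm_5_7 t u

end Cfsg.Agent.Helper25.B2
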