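import Mathlib
import Cfsg.Prelude.Def_ChevB2
import Cfsg.Prelude.Def_ChevStructure
import Cfsg.Agent.Helper28.B2Defs
set_option autoImplicit false
set_option linter.unusedSimpArgs false
set_option linter.unnecessarySeqFocus false
open Matrix Cfsg.Lie Cfsg.Agent.Helper28.Sg Cfsg.Agent.Helper28.B2

/-! S1083 piece R2 (helper28 driver): Steinberg commutator relations for the explicit `5 × 5` root matrices of `B₂`,
root `r = 6`, by brute force. -/

namespace Cfsg.Agent.Helper25.B2
variable {F : Type*} [Field F]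

set_option maxHeartbeats 1000000 in
theorem comm_6_0 (t u : F) :
    Y 0 (-u) * Y 6 (-t) * Y 0 u * Y 6 t = wordY (chevB2.commWord F 6 0 t u) := by
  have h : chevB2.commTerms 6 0 = [(2, 1, 1, 1), (4, 1, 2, 1)] := by decide
  unfold ChevalleyDatum.commWord wordY
  rw [h]
  simp only [List.map, List.prod_cons, List.prod_nil, Y]
  ext i j
  fin_cases i <;> fin_cases j <;> simp [Matrix.mul_apply, Fin.sum_univ_five] <;> ring

set_option maxHeartbeats 1000000 in
theorem comm_6_2 (t u : F) :
    Y 2 (-u) * Y 6 (-t) * Y 2 u * Y 6 t = wordY (chevB2.commWord F 6 2 t u) := by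
  have h : chevB2.commTerms 6 2 = [(4, 2, 1, 1)] := by decide
  unfold ChevalleyDatum.commWord wordY
  rw [h]
  simp only [List.map, List.prod_cons, List.prod_nil, Y]
  ext i j
  fin_cases i <;> fin_cases j <;> simp [Matrix.mul_apply, Fin.sum_univ_five] <;> ring

set_option maxHeartbeats 1000000 in
theorem comm_6_3 (t u : F) :
    Y 3 (-u) * Y 6 (-t) * Y 3 u * Y 6 t = wordY (chevB2.commWord F 6 3 t u) := by
  have h : chevB2.commTerms 6 3 = [(5, -1, 1, 1), (7, 1, 2, 1)] := by decide
  unfold ChevalleyDatum.commWord wordY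
  rw [h]
  simp only [List.map, List.prod_cons, List.prod_nil, Y]
  ext i j
  fin_cases i <;> fin_cases j <;> simp [Matrix.mul_apply, Fin.sum_univ_five] <;> ring

set_option maxHeartbeats 1000000 in
theorem comm_6_4 (t u : F) :
    Y 4 (-u) * Y 6 (-t) * Y 4 u * Y 6 t = wordY (chevB2.commWord F 6 4 t u) := by
  have h : chevB2.commTerms 6 4 = [] := by decide
  unfold ChevalleyDatum.commWord wordY
  rw [h]
  simp only [List.map, List.prod_cons, List.prod_nil, Y]
  ext i j
  fin_cases i <;> fin_cases j <;> simp [Matrix.mul_apply, Fin.sum_univ_five] <;> ring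

set_option maxHeartbeats 1000000 in
theorem comm_6_5 (t u : F) :
    Y 5 (-u) * Y 6 (-t) * Y 5 u * Y 6 t = wordY (chevB2.commWord F 6 5 t u) := by
  have h : chevB2.commTerms 6 5 = [(7, -2, 1, 1)] := by decide
  unfold ChevalleyDatum.commWord wordY
  rw [h]
  simp only [List.map, List.prod_cons, List.prod_nil, Y]
  ext i j
  fin_cases i <;> fin_cases j <;> simp [Matrix.mul_apply, Fin.sum_univ_five] <;> ring

set_option maxHeartbeats 1000000 in
theorem comm_6_7 (t u : F) :
    Y 7 (-u) * Y 6 (-t) * Y 7 u * Y 6 t = wordY (chevB2.commWord F 6 7 t u) := by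
  have h : chevB2.commTerms 6 7 = [] := by decide
  unfold ChevalleyDatum.commWord wordY
  rw [h]
  simp only [List.map, List.prod_cons, List.prod_nil, Y]
  ext i j
  fin_cases i <;> fin_cases j <;> simp [Matrix.mul_apply, Fin.sum_univ_five] <;> ring

end Cfsg.Agent.Helper25.B2
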