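import Mathlib
import Cfsg.Prelude.Def_Characters
import Cfsg.Agent.Helper24.ColumnOrth

set_option autoImplicit false

/-! Cauchy–Schwarz type bounds for irreducible characters. -/

namespace Cfsg.Agent.Helper25

open Cfsg Cfsg.Agent.Helper24

universe u

variable {G : Type u} [Group G] [Finite G]

/-- `Σ_χ |χ(g)|² = |C_G(g)|` (second orthogonality, real form). -/
theorem sum_irr_norm_sq [Fintype (IrrCharacter G)] (g : G) :
    ∑ χ : IrrCharacter G, ‖(χ : G → ℂ) g‖ ^ 2 =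
      (Nat.card (Subgroup.centralizer ({g} : Set G)) : ℝ) := by
  classical
  have : Fintype G := Fintype.ofFinite G
  have h := sum_irr_mul_conj g g
  rw [if_pos (IsConj.refl g)] at h
  have h2 : ((∑ χ : IrrCharacter G, ‖(χ : G → ℂ) g‖ ^ 2 : ℝ) : ℂ) =
      ((Nat.card (Subgroup.centralizer ({g} : Set G)) : ℝ) : ℂ) := by
    rw [Complex.ofReal_sum, Complex.ofReal_natCast, ← h]
    refine Finset.sum_congr rfl ?_
    intro χ _
    rw [Complex.mul_conj, Complex.normSq_eq_norm_sq]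
  exact_mod_cast h2

/-- `Σ_χ |χ(g)| ≤ √(k(G)·|C_G(g)|)`. -/
theorem sum_irr_norm_le [Fintype (IrrCharacter G)] (g : G) :
    ∑ χ : IrrCharacter G, ‖(χ : G → ℂ) g‖ ≤
      Real.sqrt ((Nat.card (ConjClasses G) : ℝ) *
        (Nat.card (Subgroup.centralizer ({g} : Set G)) : ℝ)) := by
  apply Real.le_sqrt_of_sq_le
  have hcs := Finset.sum_mul_sq_le_sq_mul_sq (Finset.univ : Finset (IrrCharacter G))
    (fun χ => ‖(χ : G → ℂ) g‖) (fun _ => (1 : ℝ))
  simp only [mul_one, one_pow, Finset.sum_const, Finset.card_univ, nsmul_eq_mul] at hcs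
  rw [sum_irr_norm_sq g] at hcs
  have hk : (Fintype.card (IrrCharacter G) : ℝ) = (Nat.card (ConjClasses G) : ℝ) := by
    rw [← Nat.card_eq_fintype_card, card_irr_eq_card_conjClasses]
  rw [hk] at hcs
  rw [mul_comm]
  exact hcs

theorem sum_irr_ratio_le (g : G) (N : ℝ) (hN : 0 < N) :
    ∑ᶠ χ : IrrCharacter G,
      (if N ≤ ‖(χ : G → ℂ) 1‖ then ‖(χ : G → ℂ) g‖ / ‖(χ : G → ℂ) 1‖ else 0) ≤
      Real.sqrt ((Nat.card (ConjClasses G) : ℝ) *
        (Nat.card (Subgroup.centralizer ({g} : Set G)) : ℝ)) / N := by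
  classical
  have : Fintype (IrrCharacter G) := Fintype.ofFinite _
  rw [finsum_eq_sum_of_fintype]
  have hterm : ∀ χ : IrrCharacter G,
      (if N ≤ ‖(χ : G → ℂ) 1‖ then ‖(χ : G → ℂ) g‖ / ‖(χ : G → ℂ) 1‖ else 0) ≤
        ‖(χ : G → ℂ) g‖ / N := by
    intro χ
    split_ifs with h
    · exact div_le_div_of_nonneg_left (norm_nonneg _) hN h
    · exact div_nonneg (norm_nonneg _) hN.le
  calc ∑ χ : IrrCharacter G,
        (if N ≤ ‖(χ : G → ℂ) 1‖ then ‖(χ : G → ℂ) g‖ / ‖(χ : G → ℂ) 1‖ else 0)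
      ≤ ∑ χ : IrrCharacter G, ‖(χ : G → ℂ) g‖ / N := Finset.sum_le_sum (fun χ _ => hterm χ)
    _ = (∑ χ : IrrCharacter G, ‖(χ : G → ℂ) g‖) / N := by rw [Finset.sum_div]
    _ ≤ _ := div_le_div_of_nonneg_right (sum_irr_norm_le g) hN.le

end Cfsg.Agent.Helper25
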