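import Mathlib
import Cfsg.Prelude.Def_Characters
import Cfsg.Agent.Helper23.CharGalois
import Cfsg.Agent.Helper23.CharOrtho

set_option autoImplicit false

/-! Burnside–Gallagher bound on Galois-stable sets, and the restriction bound
`[χ_H, χ_H] ≤ 1 + |Z ∖ H| / |H|`. -/

namespace Cfsg.Agent.Helper25

open Cfsg Module Cfsg.Agent.Helper23 Cfsg.Agent.Helper24

section Stable

variable {G V : Type*} [Group G] [Finite G] [AddCommGroup V] [Module ℂ V] [FiniteDimensional ℂ V]

/-- On the set of elements satisfying a predicate `P` stable under `g ↦ g ^ k` (`k` coprime to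
`|G|`) and on which `χ` does not vanish, the mean of `‖χ‖²` is at least `1`. -/
theorem card_le_sum_norm_sq_filter [Fintype G] (ρ : Representation ℂ G V) (P : G → Prop)
    [DecidablePred P] (hP : ∀ k : ℕ, (Nat.card G).Coprime k → ∀ g, P g ↔ P (g ^ k)) :
    ((Finset.univ.filter (fun g : G => P g ∧ ρ.character g ≠ 0)).card : ℝ) ≤
      ∑ g ∈ Finset.univ.filter (fun g : G => P g ∧ ρ.character g ≠ 0), ‖ρ.character g‖ ^ 2 := by
  classical
  set N := Nat.card G with hN
  have hNpos : 0 < N := Nat.card_pos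
  have hfd : FiniteDimensional ℚ (cyclo N) := finiteDimensional_cyclo N hNpos
  set S := Finset.univ.filter (fun g : G => P g ∧ ρ.character g ≠ 0) with hSdef
  let x : G → cyclo N := fun g => ⟨ρ.character g, char_mem_cyclo ρ g⟩
  set E := Fintype.card (cyclo N →ₐ[ℚ] ℂ) with hE
  have hEpos : 0 < E := Fintype.card_pos_iff.mpr ⟨(cyclo N).val⟩
  have h1 : ∀ g ∈ S, (E : ℝ) ≤ ∑ σ : cyclo N →ₐ[ℚ] ℂ, ‖σ (x g)‖ ^ 2 := by
    intro g hg
    have hg' := (Finset.mem_filter.mp hg).2
    apply card_le_sum_norm_sq (cyclo N) (x g) _ (char_isIntegral_cyclo ρ g)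
    intro h0
    apply hg'.2
    have := congrArg (fun y : cyclo N => (y : ℂ)) h0
    simpa [x] using this
  have h2 : ∀ σ : cyclo N →ₐ[ℚ] ℂ, ∑ g ∈ S, ‖σ (x g)‖ ^ 2 = ∑ g ∈ S, ‖ρ.character g‖ ^ 2 := by
    intro σ
    obtain ⟨k, hkcop, hk⟩ := exists_pow_of_embedding N hNpos σ
    have hσx : ∀ g, σ (x g) = ρ.character (g ^ k) := fun g => embedding_char ρ σ k hk g
    have hcop : (Nat.card G).Coprime k := hkcop.symm
    let e : G ≃ G := powCoprime hcop
    have he : ∀ g, e g = g ^ k := fun g => rfl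
    have hmem : ∀ g, g ∈ S ↔ e g ∈ S := by
      intro g
      simp only [hSdef, Finset.mem_filter, Finset.mem_univ, true_and, he]
      have hz : ρ.character (g ^ k) = 0 ↔ ρ.character g = 0 := by
        rw [← hσx g]
        constructor
        · intro h
          have : x g = 0 := by
            have h' : σ (x g) = σ 0 := by rw [h, map_zero]
            exact σ.toRingHom.injective h'
          have := congrArg (fun y : cyclo N => (y : ℂ)) this
          simpa [x] using this
        · intro h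
          have : x g = 0 := by
            apply Subtype.ext
            simpa [x] using h
          rw [this, map_zero]
      rw [ne_eq, ne_eq, hz, ← hP k hcop g]
    have := Finset.sum_equiv e (s := S) (t := S) (f := fun g => ‖σ (x g)‖ ^ 2)
      (g := fun g => ‖ρ.character g‖ ^ 2) hmem (by
        intro g _
        simp only [hσx g, he g])
    exact this
  have h3 : (S.card : ℝ) * E ≤ ∑ g ∈ S, ∑ σ : cyclo N →ₐ[ℚ] ℂ, ‖σ (x g)‖ ^ 2 := by
    have := Finset.sum_le_sum h1
    rw [Finset.sum_const, nsmul_eq_mul] at this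
    exact this
  rw [Finset.sum_comm, Finset.sum_congr rfl (fun σ _ => h2 σ), Finset.sum_const, Finset.card_univ,
    nsmul_eq_mul, ← hE, mul_comm] at h3
  have hE' : (0 : ℝ) < E := by exact_mod_cast hEpos
  exact le_of_mul_le_mul_left h3 hE'

end Stable

section Restrict

variable {G : Type*} [Group G] [Finite G]

omit [Finite G] in
theorem mem_iff_pow_mem_of_coprime (H : Subgroup G) {k : ℕ} (hk : (Nat.card G).Coprime k) (g : G) :
    g ∈ H ↔ g ^ k ∈ H := by
  constructor
  · intro h; exact H.pow_mem h k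
  · intro h
    have hco : k.Coprime (orderOf g) :=
      Nat.Coprime.coprime_dvd_right (orderOf_dvd_natCard g) hk.symm
    obtain ⟨m, hm⟩ := exists_pow_eq_self_of_coprime hco
    rw [← hm]; exact H.pow_mem h m

/-- `Σ_{h ∈ H} |χ(h)|² ≤ |H| + |Z ∖ H|`, `Z` the zero set of the irreducible character `χ`. -/
theorem sum_norm_sq_subgroup_le [Fintype G] [DecidableEq G] (H : Subgroup G)
    [DecidablePred (· ∈ H)] (χ : IrrCharacter G) :
    ∑ g ∈ Finset.univ.filter (fun g : G => g ∈ H), ‖(χ : G → ℂ) g‖ ^ 2 ≤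
      ((Finset.univ.filter (fun g : G => g ∈ H)).card : ℝ) +
        ((Finset.univ.filter (fun g : G => (χ : G → ℂ) g = 0 ∧ g ∉ H)).card : ℝ) := by
  classical
  obtain ⟨χ, hχ⟩ := χ
  have hirrχ := hχ
  obtain ⟨n, ρ, hirr, rfl⟩ := hχ
  -- sum over G of ‖χ‖² is |G|
  have hsum : ∑ g : G, ‖ρ.character g‖ ^ 2 = (Fintype.card G : ℝ) := by
    have h1 := Cfsg.Agent.Helper23.classInner_irrCharacter _ _ hirrχ hirrχ
    rw [if_pos rfl] at h1
    unfold Cfsg.classInner at h1
    have hc : (Nat.card G : ℂ) ≠ 0 := by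
      have : 0 < Nat.card G := Nat.card_pos
      exact_mod_cast this.ne'
    have h2 : ∑ g : G, ρ.character g * (starRingEnd ℂ) (ρ.character g) = (Nat.card G : ℂ) := by
      have := congrArg (fun t => (Nat.card G : ℂ) * t) h1
      beta_reduce at this
      rw [← mul_assoc, mul_inv_cancel₀ hc, one_mul, mul_one] at this
      exact this
    have h3 : ∀ g : G, ρ.character g * (starRingEnd ℂ) (ρ.character g) =
        ((‖ρ.character g‖ ^ 2 : ℝ) : ℂ) := by
      intro g
      rw [Complex.mul_conj, Complex.normSq_eq_norm_sq]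
    rw [Finset.sum_congr rfl (fun g _ => h3 g), ← Complex.ofReal_sum] at h2
    rw [Nat.card_eq_fintype_card] at h2
    have h4 : ((∑ g : G, ‖ρ.character g‖ ^ 2 : ℝ) : ℂ) = ((Fintype.card G : ℝ) : ℂ) := by
      rw [h2]; push_cast; rfl
    exact_mod_cast h4
  show ∑ g ∈ Finset.univ.filter (fun g : G => g ∈ H), ‖ρ.character g‖ ^ 2 ≤
      ((Finset.univ.filter (fun g : G => g ∈ H)).card : ℝ) +
        ((Finset.univ.filter (fun g : G => ρ.character g = 0 ∧ g ∉ H)).card : ℝ)
  set A := Finset.univ.filter (fun g : G => g ∈ H) with hA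
  set Z := Finset.univ.filter (fun g : G => ρ.character g = 0 ∧ g ∉ H) with hZ
  set S := Finset.univ.filter (fun g : G => g ∉ H ∧ ρ.character g ≠ 0) with hS
  have hbound : (S.card : ℝ) ≤ ∑ g ∈ S, ‖ρ.character g‖ ^ 2 :=
    card_le_sum_norm_sq_filter ρ (fun g => g ∉ H)
      (fun k hk g => not_congr (mem_iff_pow_mem_of_coprime H hk g))
  -- partition of univ into A, Z, S
  have hAZ : Disjoint A Z := by
    rw [Finset.disjoint_left]
    intro g hgA hgZ
    exact (Finset.mem_filter.mp hgZ).2.2 (Finset.mem_filter.mp hgA).2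
  have hAZS : Disjoint (A ∪ Z) S := by
    rw [Finset.disjoint_left]
    intro g hg hgS
    have h3 := (Finset.mem_filter.mp hgS).2
    rcases Finset.mem_union.mp hg with h | h
    · exact h3.1 (Finset.mem_filter.mp h).2
    · exact h3.2 (Finset.mem_filter.mp h).2.1
  have hcover : (A ∪ Z) ∪ S = Finset.univ := by
    ext g
    simp only [Finset.mem_union, Finset.mem_univ, iff_true, hA, hZ, hS, Finset.mem_filter, true_and]
    by_cases h1 : g ∈ H
    · exact Or.inl (Or.inl h1)
    · by_cases h2 : ρ.character g = 0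
      · exact Or.inl (Or.inr ⟨h2, h1⟩)
      · exact Or.inr ⟨h1, h2⟩
  have hcard : (Fintype.card G : ℝ) = A.card + Z.card + S.card := by
    rw [← Finset.card_univ, ← hcover, Finset.card_union_of_disjoint hAZS,
      Finset.card_union_of_disjoint hAZ]
    push_cast; ring
  have hsplit : ∑ g : G, ‖ρ.character g‖ ^ 2 =
      ∑ g ∈ A, ‖ρ.character g‖ ^ 2 + ∑ g ∈ S, ‖ρ.character g‖ ^ 2 := by
    rw [← hcover, Finset.sum_union hAZS, Finset.sum_union hAZ]
    have hv : ∑ g ∈ Z, ‖ρ.character g‖ ^ 2 = 0 := by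
      apply Finset.sum_eq_zero
      intro g hg
      rw [(Finset.mem_filter.mp hg).2.1, norm_zero]; ring
    rw [hv, add_zero]
  linarith

/-- `[χ_H, χ_H] ≤ 1 + |Z ∖ H| / |H|`. -/
theorem restrict_norm_le (H : Subgroup G) (χ : IrrCharacter G) :
    (Nat.card ↥H : ℝ)⁻¹ * ∑ᶠ h : ↥H, ‖(χ : G → ℂ) h‖ ^ 2 ≤
      1 + (Set.ncard ({x : G | (χ : G → ℂ) x = 0} \ (H : Set G)) : ℝ) / (Nat.card ↥H : ℝ) := by
  classical
  have : Fintype G := Fintype.ofFinite G
  have hmain := sum_norm_sq_subgroup_le H χ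
  have hHpos : (0 : ℝ) < (Nat.card ↥H : ℝ) := by
    have : 0 < Nat.card ↥H := Nat.card_pos
    exact_mod_cast this
  have h1 : ∑ᶠ h : ↥H, ‖(χ : G → ℂ) h‖ ^ 2 =
      ∑ g ∈ Finset.univ.filter (fun g : G => g ∈ H), ‖(χ : G → ℂ) g‖ ^ 2 := by
    rw [finsum_eq_sum_of_fintype]
    rw [← Finset.sum_subtype (Finset.univ.filter (fun g : G => g ∈ H)) (by simp)
      (fun g => ‖(χ : G → ℂ) g‖ ^ 2)]
  have h2 : ((Finset.univ.filter (fun g : G => g ∈ H)).card : ℝ) = (Nat.card ↥H : ℝ) := by
    rw [Nat.card_eq_fintype_card, Fintype.card_subtype]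
  have h3 : Set.ncard ({x : G | (χ : G → ℂ) x = 0} \ (H : Set G)) =
      (Finset.univ.filter (fun g : G => (χ : G → ℂ) g = 0 ∧ g ∉ H)).card := by
    rw [← Set.ncard_coe_finset]
    congr 1
    ext g
    simp
  rw [h1, h3]
  rw [h2] at hmain
  rw [inv_mul_le_iff₀ hHpos, mul_add, mul_one, mul_div_cancel₀ _ hHpos.ne']
  exact hmain

end Restrict

end Cfsg.Agent.Helper25
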