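import Mathlib
import Cfsg.Prelude.Def_FusionSystem
import Cfsg.Agent.Helper25.EssentialAut

set_option autoImplicit false

/-! For an abelian essential subgroup `H`, the group `Aut_F(H)` has order divisible by `p` and no
nontrivial normal `p`-subgroup. -/

namespace Cfsg.Agent.Helper25

open Cfsg

theorem exists_autGroup_of_isEssential_of_comm {Ω : Type*} [Group Ω] {S : Subgroup Ω}
    (p : ℕ) [Fact p.Prime] (F : FusionSystem S) (H : Subgroup Ω)
    (hH : F.IsEssential p H) (hcomm : ∀ a b : ↥H, a * b = b * a) :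
    ∃ GF : Subgroup (MulAut ↥H), p ∣ Nat.card GF ∧
      ∀ N : Subgroup GF, N.Normal → IsPGroup p N → N = ⊥ := by
  obtain ⟨hcen, hfn, hnorm, E, hE⟩ := id hH
  set A := F.autGroup H with hAdef
  have hInn : (Inn ↥H) = ⊥ := by
    rw [eq_bot_iff]
    rintro _ ⟨g, rfl⟩
    rw [Subgroup.mem_bot]
    apply MulEquiv.ext
    intro x
    show g * x * g⁻¹ = x
    rw [hcomm g x, mul_inv_cancel_right]
  refine ⟨A, ?_, ?_⟩
  · have h1 : p ∣ Nat.card (A ⧸ (Inn ↥H).subgroupOf A) := hE.1
    exact h1.trans (Subgroup.card_quotient_dvd_card _)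
  · intro N hNn hNp
    have hmapn : (N.map (QuotientGroup.mk' ((Inn ↥H).subgroupOf A))).Normal :=
      hNn.map _ (QuotientGroup.mk'_surjective _)
    have h1 := normal_pSubgroup_eq_bot_of_stronglyPEmbedded p hE
      (N.map (QuotientGroup.mk' ((Inn ↥H).subgroupOf A))) (hNp.map _)
    rw [eq_bot_iff]
    intro x hx
    have h2 : QuotientGroup.mk' ((Inn ↥H).subgroupOf A) x ∈
        N.map (QuotientGroup.mk' ((Inn ↥H).subgroupOf A)) := Subgroup.mem_map_of_mem _ hx
    rw [h1, Subgroup.mem_bot, QuotientGroup.mk'_apply, QuotientGroup.eq_one_iff] at h2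
    rw [hInn] at h2
    rw [Subgroup.mem_bot]
    have h3 : (x : MulAut ↥H) = 1 := h2
    exact Subtype.ext h3

end Cfsg.Agent.Helper25
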