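import Mathlib
import Cfsg.Prelude.Def_FusionSystem
import Cfsg.Agent.Helper25.StronglyEmb
import Cfsg.Agent.Helper25.TwoSylowSL2
import Cfsg.Agent.Helper17.PrimAb

set_option autoImplicit false

/-!
Essential subgroups of order `p ^ 2` of a fusion system are elementary abelian and their
automizer contains `SL₂(p)`.
-/

namespace Cfsg.Agent.Helper25

open Cfsg Cfsg.FusionSystem

theorem essential_card_sq {Ω : Type*} [Group Ω] {S : Subgroup Ω} (p : ℕ) [Fact p.Prime]
    (F : FusionSystem S) (H : Subgroup Ω) (hH : F.IsEssential p H) (hcard : Nat.card H = p ^ 2) :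
    IsElementaryAbelian p H ∧
      ∃ K : Subgroup ↥(F.autGroup H),
        Nonempty (↥K ≃* Matrix.SpecialLinearGroup (Fin 2) (ZMod p)) := by
  have hp : p.Prime := Fact.out
  have hfin : Finite H := Nat.finite_of_card_ne_zero (by rw [hcard]; exact pow_ne_zero 2 hp.ne_zero)
  have hmc : IsMulCommutative H := IsPGroup.isMulCommutative_of_card_eq_prime_sq hcard
  have hcomm : ∀ a b : H, a * b = b * a := fun a b => hmc.is_comm.comm a b
  have hfinAut : Finite (MulAut H) :=
    Finite.of_injective (fun σ : MulAut H => (σ : H → H)) DFunLike.coe_injective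
  -- inner automorphisms are trivial
  have hInn : Inn H = ⊥ := by
    rw [Subgroup.eq_bot_iff_forall]
    rintro _ ⟨h, rfl⟩
    ext x
    show ((h * x * h⁻¹ : H) : Ω) = x
    rw [hcomm h x, mul_inv_cancel_right]
  obtain ⟨hnorm, E, hE⟩ := hH.2.2
  have hN : (Inn H).subgroupOf (F.autGroup H) = ⊥ := by
    rw [hInn, Subgroup.bot_subgroupOf]
  -- order of the automizer is divisible by p
  have hdvd : p ∣ Nat.card (F.autGroup H) := by
    have h1 := hE.1
    have h2 := Subgroup.card_eq_card_quotient_mul_card_subgroup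
      ((Inn H).subgroupOf (F.autGroup H))
    have hNcard : Nat.card ((Inn H).subgroupOf (F.autGroup H)) = 1 := by
      rw [hN, Subgroup.card_bot]
    rw [h2, hNcard, mul_one]
    exact h1
  -- no normal p-subgroups
  have hOp : ∀ M : Subgroup ↥(F.autGroup H), M.Normal → IsPGroup p M → M = ⊥ := by
    intro M hMn hMp
    have hsurj : Function.Surjective
        (QuotientGroup.mk' ((Inn H).subgroupOf (F.autGroup H))) := QuotientGroup.mk'_surjective _
    have hn' : (M.map (QuotientGroup.mk' ((Inn H).subgroupOf (F.autGroup H)))).Normal :=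
      hMn.map _ hsurj
    have hp' : IsPGroup p (M.map (QuotientGroup.mk' ((Inn H).subgroupOf (F.autGroup H)))) :=
      hMp.map _
    have h1 := normal_pSubgroup_eq_bot_of_stronglyPEmbedded p hE _ hp'
    rw [Subgroup.map_eq_bot_iff, QuotientGroup.ker_mk', hN] at h1
    exact le_bot_iff.1 h1
  -- a nontrivial Sylow p-subgroup of the automizer is not normal
  have hfinA : Finite ↥(F.autGroup H) := inferInstance
  -- H is not cyclic
  have hncyc : ¬ IsCyclic H := by
    intro hcyc
    have hcommAut : ∀ σ τ : MulAut H, σ * τ = τ * σ := by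
      intro σ τ
      apply (IsCyclic.mulAutMulEquiv H).injective
      rw [map_mul, map_mul, mul_comm]
    obtain ⟨P⟩ : Nonempty (Sylow p ↥(F.autGroup H)) := inferInstance
    have hPn : (P : Subgroup ↥(F.autGroup H)).Normal := by
      refine ⟨fun n hn g => ?_⟩
      have : g * n = n * g := Subtype.ext (hcommAut g n)
      rw [this, mul_inv_cancel_right]
      exact hn
    have hbot := hOp _ hPn P.2
    have h1 := Sylow.card_eq_multiplicity P
    rw [hbot, Subgroup.card_bot] at h1
    have h2 : (Nat.card ↥(F.autGroup H)).factorization p = 0 := by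
      by_contra hne
      have : 1 < p ^ (Nat.card ↥(F.autGroup H)).factorization p := Nat.one_lt_pow hne hp.one_lt
      omega
    have h3 := (hp.dvd_iff_one_le_factorization Nat.card_pos.ne').1 hdvd
    omega
  have hexp : ∀ a ∈ H, a ^ p = 1 := by
    intro a ha
    have h1 : orderOf (⟨a, ha⟩ : H) ∣ p ^ 2 := by
      rw [← hcard]
      exact orderOf_dvd_natCard _
    obtain ⟨k, hk, hk2⟩ := (Nat.dvd_prime_pow hp).1 h1
    have hk' : k ≤ 1 := by
      by_contra hcon
      have hk2' : k = 2 := by omega
      apply hncyc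
      apply isCyclic_of_orderOf_eq_card (⟨a, ha⟩ : H)
      rw [hk2, hk2', hcard]
    have h2 : (⟨a, ha⟩ : H) ^ p = 1 := by
      apply orderOf_dvd_iff_pow_eq_one.1
      rw [hk2]
      calc p ^ k ∣ p ^ 1 := pow_dvd_pow p hk'
        _ = p := pow_one p
    have := congrArg Subtype.val h2
    simpa using this
  refine ⟨⟨hmc, hexp⟩, ?_⟩
  -- the linear representation
  letI : CommGroup H :=
    { (inferInstance : Group H) with mul_comm := hcomm }
  letI : Module (ZMod p) (Additive H) := AddCommGroup.zmodModule (fun x => by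
    have : x = Additive.ofMul (Additive.toMul x) := rfl
    rw [this, ← ofMul_pow]
    have h1 : (Additive.toMul x) ^ p = 1 := Subtype.ext (by
      rw [Subgroup.coe_pow]; exact hexp _ (Additive.toMul x).2)
    rw [h1]; rfl)
  obtain ⟨φ, hφ⟩ := Cfsg.Agent.Helper17.exists_hom_GL_of_module (A := H) p 2 hcard
    (F.autGroup H).subtype
  have hφinj : Function.Injective φ := by
    rw [← MonoidHom.ker_eq_bot_iff, hφ, MonoidHom.ker_eq_bot_iff]
    exact Subgroup.subtype_injective _
  exact TwoSylow.exists_sl2_subgroup p φ hφinj hdvd hOp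

end Cfsg.Agent.Helper25
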