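import Mathlib
import Cfsg.Agent.Helper25.FusionBGH1
import Cfsg.Agent.Helper25.FusionNKSystem
import Cfsg.Agent.Helper25.FusionResidualGroup
import Cfsg.Agent.S5083

set_option autoImplicit false

/-! Key step of the Benson–Grodal–Henke theorem: maps of `F` on `P*` fixing a normal subgroup `A*`
elementwise lie in `E`, provided larger subgroups are under control and `C_{Aut_F(P*)}(A*)`
consists of `p`-elements. -/

namespace Cfsg.Agent.Helper25

open Cfsg Cfsg.FusionSystem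

variable {Ω : Type*} [Group Ω] {S : Subgroup Ω}

theorem autInducedBy_mono {K K' : Subgroup Ω} (h : K ≤ K') (P : Subgroup Ω) :
    autInducedBy K P ≤ autInducedBy K' P := by
  intro α hα
  obtain ⟨g, hg, hgα⟩ := (mem_autInducedBy_iff K P α).mp hα
  exact (mem_autInducedBy_iff K' P α).mpr ⟨g, h hg, hgα⟩

theorem mem_normalizer_of_forall_conj {P A : Subgroup Ω}
    (hnorm : ∀ g ∈ P, ∀ a ∈ A, g * a * g⁻¹ ∈ A) {g : Ω} (hg : g ∈ P) :
    g ∈ Subgroup.normalizer (A : Set Ω) := by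
  rw [Subgroup.mem_normalizer_iff]
  intro h
  constructor
  · exact hnorm g hg h
  · intro hh
    have := hnorm g⁻¹ (P.inv_mem hg) _ hh
    have e : g⁻¹ * (g * h * g⁻¹) * g⁻¹⁻¹ = h := by group
    rwa [e] at this

/-- Conjugation by an element normalizing `A`, as an element of `Aut_P(A)`. -/
theorem exists_aut_of_normalizes {P A : Subgroup Ω}
    (hnorm : ∀ g ∈ P, ∀ a ∈ A, g * a * g⁻¹ ∈ A) {g : Ω} (hg : g ∈ P) :
    ∃ κ ∈ autInducedBy P A, ∀ x : A, ((κ x : A) : Ω) = g * x * g⁻¹ := by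
  have hgN : g ∈ Subgroup.normalizer (A : Set Ω) := mem_normalizer_of_forall_conj hnorm hg
  refine ⟨A.normalizerMonoidHom ⟨g, hgN⟩, ?_, fun x => rfl⟩
  rw [mem_autInducedBy_iff]
  exact ⟨g, hg, fun x => rfl⟩

theorem hom_mem_of_fix [Finite S] (p : ℕ) [Fact p.Prime] (hS : IsPGroup p S)
    (F E : FusionSystem S) (hF : F.IsSaturated p)
    (n : ℕ) (ha : ∀ Q : Subgroup Ω, n < Nat.card Q → F.Hom Q ⊆ E.Hom Q)
    {Pst Ast : Subgroup Ω} (hPS : Pst ≤ S) (hAP : Ast ≤ Pst) (hcard : Nat.card Pst = n)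
    (hnorm : ∀ g ∈ Pst, ∀ a ∈ Ast, g * a * g⁻¹ ∈ Ast)
    (hFC : F.IsFullyCentralized Ast) (hcent : CentP F p Pst Ast)
    {ν : Pst →* Ω} (hν : ν ∈ F.Hom Pst) (hνfix : ∀ x : Pst, (x : Ω) ∈ Ast → ν x = x) :
    ν ∈ E.Hom Pst := by
  set K := autInducedBy Pst Ast with hKdef
  have hK : K ≤ autInducedBy S Ast := autInducedBy_mono hPS Ast
  set 𝒟 := NKSystem F Ast hFC.1 K with h𝒟
  have h𝒟sat : 𝒟.IsSaturated p := NKSystem_isSaturated p hS F hF hFC K hK
  have hTS : NKvia S Ast.subtype K ≤ S := NKvia_le S _ K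
  have hfinT : Finite (NKvia S Ast.subtype K) := finite_of_le hTS
  have hT : IsPGroup p (NKvia S Ast.subtype K) := isPGroup_of_le hS hTS
  have hPp : IsPGroup p Pst := isPGroup_of_le hS hPS
  -- `P* ≤ T`
  have hPT : Pst ≤ NKvia S Ast.subtype K := by
    intro g hg
    obtain ⟨κ, hκ, hκg⟩ := exists_aut_of_normalizes hnorm hg
    exact mem_NKvia_subtype.mpr ⟨hPS hg, κ, hκ, hκg⟩
  have hsup : Pst ⊔ Ast = Pst := sup_eq_left.mpr hAP
  -- `ν` is a map of `𝒟`
  have hν𝒟 : ν ∈ 𝒟.Hom Pst := by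
    refine ⟨hν, hPT, ?_, ν.comp (Subgroup.inclusion hsup.le), cast_mem F hsup hν, ?_,
      1, K.one_mem, ?_⟩
    · intro x
      obtain ⟨κ, hκ, hκx⟩ := exists_aut_of_normalizes hnorm x.2
      refine mem_NKvia_subtype.mpr ⟨(F.le_of_mem hν).2 x, κ, hκ, fun a => ?_⟩
      rw [hκx a]
      have hmem : (x : Ω) * a * (x : Ω)⁻¹ ∈ Ast := hnorm _ x.2 _ a.2
      have h1 : ν (x * ⟨a, hAP a.2⟩ * x⁻¹) = (x : Ω) * a * (x : Ω)⁻¹ := by
        have := hνfix (x * ⟨a, hAP a.2⟩ * x⁻¹) hmem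
        rw [this]
        rfl
      rw [map_mul, map_mul, map_inv, hνfix ⟨a, hAP a.2⟩ a.2] at h1
      exact h1.symm
    · intro x
      rfl
    · intro x
      exact hνfix _ x.2
  -- the class of subgroups
  let 𝒞 : Subgroup Ω → Prop := fun Q => n < Nat.card Q ∨ 𝒟.IsConj Pst Q
  have h𝒞 : ∀ {Q Q' : Subgroup Ω} {φ : Q →* Ω}, φ ∈ 𝒟.Hom Q → (∀ x, φ x ∈ Q') →
      Q' ≤ NKvia S Ast.subtype K → 𝒞 Q → 𝒞 Q' := by
    intro Q Q' φ hφ hval hQ' hC
    have hle := card_le_of_hom hTS 𝒟 hφ hval hQ'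
    rcases hC with hlt | ⟨ρ, hρ, hρr⟩
    · exact Or.inl (lt_of_lt_of_le hlt hle)
    · have hcQ : Nat.card Q = n := by
        rw [← hcard]
        exact (Nat.card_congr (isoOfHom ρ (𝒟.injective_of_mem hρ) hρr).toEquiv).symm
      by_cases hlt : n < Nat.card Q'
      · exact Or.inl hlt
      · right
        push Not at hlt
        have hfinQ' : Finite Q' := finite_of_le (hQ'.trans hTS)
        have hrle : φ.range ≤ Q' := by
          rintro _ ⟨x, rfl⟩
          exact hval x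
        have hcr : Nat.card φ.range = Nat.card Q :=
          (Nat.card_congr (isoOfHom φ (𝒟.injective_of_mem hφ) rfl).toEquiv).symm
        have hreq : φ.range = Q' :=
          Subgroup.eq_of_le_of_card_ge hrle (by rw [hcr, hcQ]; exact hlt)
        have hρQ : ∀ x : Pst, ρ x ∈ Q := fun x => hρr ▸ ⟨x, rfl⟩
        refine ⟨φ.comp (ρ.codRestrict Q hρQ), 𝒟.comp_mem hρ hφ hρQ, ?_⟩
        rw [← hreq]
        ext y
        constructor
        · rintro ⟨x, rfl⟩
          exact ⟨_, rfl⟩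
        · rintro ⟨z, rfl⟩
          have hz : (z : Ω) ∈ ρ.range := hρr.symm ▸ z.2
          obtain ⟨x, hx⟩ := hz
          refine ⟨x, ?_⟩
          show φ ⟨ρ x, _⟩ = φ z
          congr 1
          exact Subtype.ext hx
  have hle : 𝒟 ≤ truncSystem 𝒟 E hTS 𝒞 h𝒞 := by
    apply alperin_le p hT 𝒟 h𝒟sat
    intro R hR α hα
    have hRT : R ≤ NKvia S Ast.subtype K := by
      rcases hR with rfl | hR
      · exact le_rfl
      · exact hR.1.1
    have hα𝒟 := (mem_autGroup_iff 𝒟 hRT α).mp hα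
    rw [mem_autGroup_iff _ hRT]
    refine ⟨hα𝒟, fun hC => ?_⟩
    rcases hC with hlt | ⟨ρ, hρ, hρr⟩
    · exact ha R hlt hα𝒟.1
    · -- `Aut_𝒟(R)` is a `p`-group
      obtain ⟨hρF, -, -, ψρ, -, hψρP, κρ, -, hψρA⟩ := hρ
      have hρA : ∀ a : Ast, ρ ⟨a, hAP a.2⟩ = ((κρ a : Ast) : Ω) := by
        intro a
        rw [← hψρA a, ← hψρP]
        rfl
      have hX : ∀ x : Pst, (x : Ω) ∈ Ast ↔ ρ x ∈ Ast := by
        intro x
        constructor
        · intro hx
          have := hρA ⟨x, hx⟩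
          have e : (⟨((⟨(x : Ω), hx⟩ : Ast) : Ω), hAP hx⟩ : Pst) = x := Subtype.ext rfl
          rw [e] at this
          rw [this]
          exact (κρ _).2
        · intro hx
          have h1 := hρA (κρ⁻¹ ⟨ρ x, hx⟩)
          rw [MulAut.apply_inv_self] at h1
          have h2 : (⟨((κρ⁻¹ ⟨ρ x, hx⟩ : Ast) : Ω), hAP (κρ⁻¹ ⟨ρ x, hx⟩).2⟩ : Pst) = x :=
            F.injective_of_mem hρF h1
          rw [← h2]
          exact (κρ⁻¹ ⟨ρ x, hx⟩).2
      have hcentR : CentP F p R Ast := hcent.transport hρF hρr hX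
      have hAR : Ast ≤ R := by
        intro a haA
        have h1 := hρA (κρ⁻¹ ⟨a, haA⟩)
        rw [MulAut.apply_inv_self] at h1
        rw [← hρr]
        exact ⟨_, h1⟩
      have hRS : R ≤ S := hRT.trans hTS
      have hpg : IsPGroup p (𝒟.autGroup R) := by
        rintro ⟨δ, hδ⟩
        obtain ⟨hδF, -, -, ψ, -, hψR, κ, hκ, hψA⟩ := (mem_autGroup_iff 𝒟 hRT δ).mp hδ
        have hδA : ∀ a : Ast, ((δ ⟨a, hAR a.2⟩ : R) : Ω) = ((κ a : Ast) : Ω) := by
          intro a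
          rw [← hψA a]
          exact (hψR ⟨a, hAR a.2⟩).symm
        have hpow : ∀ j : ℕ, ∀ a : Ast, (((δ ^ j) ⟨a, hAR a.2⟩ : R) : Ω) = (((κ ^ j) a : Ast) : Ω) := by
          intro j
          induction j with
          | zero => intro a; rfl
          | succ j ih =>
            intro a
            rw [pow_succ', pow_succ', MulAut.mul_apply, MulAut.mul_apply]
            have h1 : (δ ^ j) ⟨a, hAR a.2⟩ = ⟨((κ ^ j) a : Ast), hAR ((κ ^ j) a).2⟩ :=
              Subtype.ext (ih a)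
            rw [h1, hδA]
        obtain ⟨m, hm⟩ := (autInducedBy_isPGroup hPp Ast) ⟨κ, hκ⟩
        have hm' : κ ^ (p ^ m) = 1 := by
          have := congrArg Subtype.val hm
          simpa using this
        have hδFR : δ ∈ F.autGroup R := (mem_autGroup_iff F hRS δ).mpr hδF
        have hfix : ∀ x : R, (x : Ω) ∈ Ast → (δ ^ (p ^ m)) x = x := by
          intro x hx
          have := hpow (p ^ m) ⟨x, hx⟩
          rw [hm', MulAut.one_apply] at this
          exact Subtype.ext this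
        obtain ⟨k, hk⟩ := hcentR _ ((F.autGroup R).pow_mem hδFR _) hfix
        refine ⟨m + k, Subtype.ext ?_⟩
        have h2 : (δ ^ (p ^ m)) ^ (p ^ k) = 1 := by rw [← hk]; exact pow_orderOf_eq_one _
        show ((⟨δ, hδ⟩ : 𝒟.autGroup R) ^ p ^ (m + k) : 𝒟.autGroup R).1 = 1
        rw [Subgroup.coe_pow, pow_add, pow_mul]
        exact h2
      rcases hR with rfl | hess
      · have hFA := top_isFullyAutomized p 𝒟 h𝒟sat
        obtain ⟨-, Rs, hRs⟩ := hFA
        have hRtop : (Rs : Subgroup (𝒟.autGroup (NKvia S Ast.subtype K))) = ⊤ :=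
          (Rs.is_maximal' (hpg.to_subgroup ⊤) le_top).symm
        have h1 : (⟨α, hα⟩ : 𝒟.autGroup (NKvia S Ast.subtype K)) ∈ (Rs : Subgroup (𝒟.autGroup (NKvia S Ast.subtype K))) := by
          rw [hRtop]; exact Subgroup.mem_top _
        rw [hRs] at h1
        have h2 : α ∈ autInducedBy (NKvia S Ast.subtype K) (NKvia S Ast.subtype K) := h1
        obtain ⟨g, hg, hgα⟩ := (mem_autInducedBy_iff _ _ α).mp h2
        have : autHom α = conjHom (NKvia S Ast.subtype K) g := by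
          ext x
          exact hgα x
        rw [this]
        exact E.conj_mem hTS (hTS hg)
      · exact absurd hess (Cfsg.Agent.S5083.not_essential_of_isPGroup p 𝒟 R hpg)
  have h1 := hle Pst hν𝒟
  exact h1.2 (Or.inr ⟨Pst.subtype, subtype_mem 𝒟 hPT, Subgroup.range_subtype Pst⟩)

end Cfsg.Agent.Helper25
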