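import Mathlib
import Cfsg.Agent.Helper25.PFour
import Cfsg.Agent.Helper25.FusionPPowerNormal
import Cfsg.Agent.Helper25.SylowIn

set_option autoImplicit false

/-! Fusion-system side of the "cyclic subgroups of order `p` or `4`" criteria. -/

namespace Cfsg.Agent.Helper25.PFour

open Cfsg Cfsg.FusionSystem Cfsg.Agent.Helper25
open scoped commutatorElement

variable {Ω : Type*} [Group Ω] {S : Subgroup Ω}

/-- The lower central series of `S`, intersected with `P`. -/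
def lcsIn (S P : Subgroup Ω) (j : ℕ) : Subgroup P := (S.lowerCentralSeries j).subgroupOf P

theorem lcsIn_zero {P : Subgroup Ω} (hPS : P ≤ S) : lcsIn S P 0 = ⊤ := by
  rw [lcsIn, Subgroup.lowerCentralSeries_zero, Subgroup.subgroupOf_eq_top]
  exact hPS

theorem exists_lcsIn_eq_bot [Finite S] (p : ℕ) [Fact p.Prime] (hS : IsPGroup p S)
    (P : Subgroup Ω) : ∃ n, lcsIn S P n = ⊥ := by
  have hnil : Group.IsNilpotent S := hS.isNilpotent
  obtain ⟨n, hn⟩ := (Subgroup.isNilpotent_iff_lowerCentralSeries S).mp hnil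
  exact ⟨n, by rw [lcsIn, hn, Subgroup.bot_subgroupOf]⟩

theorem inv_mul_mem_lcsIn_succ {P : Subgroup Ω} {x y : P} {j : ℕ}
    (hx : x ∈ lcsIn S P j) {s : Ω} (hs : s ∈ S) (hy : (y : Ω) = s * x * s⁻¹) :
    x⁻¹ * y ∈ lcsIn S P (j + 1) := by
  rw [lcsIn, Subgroup.mem_subgroupOf] at hx ⊢
  rw [Subgroup.lowerCentralSeries_succ]
  have h1 : ((x⁻¹ * y : P) : Ω) = ⁅(x : Ω)⁻¹, s⁆ := by
    rw [commutatorElement_def, Subgroup.coe_mul, Subgroup.coe_inv, hy]
    group
  rw [h1]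
  exact Subgroup.commutator_mem_commutator (Subgroup.inv_mem _ hx) hs

/-- An element `x ≠ 1` with `x ^ qexp p = 1` generates a cyclic group of order `p` or `4`. -/
theorem card_zpowers_of_pow_qexp (p : ℕ) [hp : Fact p.Prime] {x : Ω} (hx : x ^ qexp p = 1)
    (hne : x ≠ 1) :
    Nat.card (Subgroup.zpowers x) = p ∨ Nat.card (Subgroup.zpowers x) = 4 := by
  rw [Nat.card_zpowers]
  have hdvd : orderOf x ∣ qexp p := orderOf_dvd_of_pow_eq_one hx
  have hne1 : orderOf x ≠ 1 := fun h => hne (orderOf_eq_one_iff.mp h)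
  unfold qexp at hdvd
  split_ifs at hdvd with h2
  · subst h2
    have hle : orderOf x ≤ 4 := Nat.le_of_dvd (by norm_num) hdvd
    interval_cases h : orderOf x
    · simp at hdvd
    · exact absurd rfl hne1
    · left; rfl
    · norm_num at hdvd
    · right; rfl
  · left
    exact ((Nat.dvd_prime hp.out).mp hdvd).resolve_left hne1

/-- The restriction of an `F`-automorphism of `P` to the cyclic subgroup generated by `x ∈ P`. -/
theorem exists_restrict_zpowers (F : FusionSystem S) {P : Subgroup Ω} (hPS : P ≤ S)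
    {γ : MulAut P} (hγ : γ ∈ F.autGroup P) (x : P) :
    ∃ φ ∈ F.homSet (Subgroup.zpowers (x : Ω)) (Subgroup.zpowers ((γ x : P) : Ω)),
      φ ⟨(x : Ω), Subgroup.mem_zpowers _⟩ = ((γ x : P) : Ω) := by
  have hAP : Subgroup.zpowers (x : Ω) ≤ P := by
    rw [Subgroup.zpowers_le]; exact x.2
  have hγ' := (mem_autGroup_iff F hPS γ).mp hγ
  refine ⟨(autHom γ).comp (Subgroup.inclusion hAP), ⟨restrict_mem F hAP hγ', ?_⟩, ?_⟩
  · rintro ⟨y, hy⟩
    obtain ⟨k, rfl⟩ := Subgroup.mem_zpowers_iff.mp hy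
    have h1 : Subgroup.inclusion hAP ⟨(x : Ω) ^ k, hy⟩ = x ^ k := Subtype.ext (by simp)
    show ((γ (Subgroup.inclusion hAP ⟨(x : Ω) ^ k, hy⟩) : P) : Ω) ∈ _
    rw [h1, map_zpow, Subgroup.coe_zpow]
    exact Subgroup.zpow_mem_zpowers _ k
  · show ((γ (Subgroup.inclusion hAP ⟨(x : Ω), _⟩) : P) : Ω) = _
    congr 2

/-- `Aut_F(P)` preserves the hyperfocal subgroup. -/
theorem apply_mem_hyperfocal [Finite S] (p : ℕ) [Fact p.Prime] (hS : IsPGroup p S)
    (F : FusionSystem S) (hF : F.IsSaturated p) {P : Subgroup Ω} (hPS : P ≤ S)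
    {γ : MulAut P} (hγ : γ ∈ F.autGroup P) {x : P} (hx : (x : Ω) ∈ F.hyperfocalSubgroup p) :
    ((γ x : P) : Ω) ∈ F.hyperfocalSubgroup p := by
  obtain ⟨φ, hφ, hφx⟩ := exists_restrict_zpowers F hPS hγ x
  have hsc := hyperfocalSubgroup_stronglyClosed p hS F hF
  have hA : Subgroup.zpowers (x : Ω) ≤ F.hyperfocalSubgroup p := by
    rw [Subgroup.zpowers_le]; exact hx
  rw [← hφx]
  exact hsc.2 _ hA φ hφ.1 _

end Cfsg.Agent.Helper25.PFour
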