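import Mathlib
import Cfsg.Agent.Helper25.FusionBGH2
import Cfsg.Agent.Helper25.FusionPFour
import Cfsg.Agent.S1949
import Cfsg.Agent.S5078
import Cfsg.Agent.S5079

set_option autoImplicit false

/-! The Benson–Grodal–Henke theorem: small-exponent abelian subgroups (of the hyperfocal subgroup)
control fusion. -/

namespace Cfsg.Agent.Helper25

open Cfsg Cfsg.FusionSystem

variable {Ω : Type*} [Group Ω] {S : Subgroup Ω}

/-- The detecting subgroup `D` of `P` (for `Aut_F(P)`) and a maximal abelian subgroup `A` of it. -/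
theorem exists_detecting_abelian [Finite S] (p : ℕ) [Fact p.Prime] (hS : IsPGroup p S)
    (F : FusionSystem S) {P : Subgroup Ω} (hPS : P ≤ S) :
    ∃ (D A : Subgroup P),
      (∀ α ∈ F.autGroup P, D.map α.toMonoidHom = D) ∧
      A ≤ D ∧ IsMulCommutative A ∧ A.Normal ∧
      (∀ d ∈ D, (d : Ω) ∈ F.hyperfocalSubgroup p) ∧
      (∀ d ∈ D, d ^ PFour.qexp p = 1) ∧
      (∀ α ∈ F.autGroup P, (∀ a ∈ A, α a = a) → ∃ k : ℕ, orderOf α = p ^ k) := by
  have hfinP : Finite P := finite_of_le hPS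
  have hPp : IsPGroup p P := isPGroup_of_le hS hPS
  obtain ⟨D, hDinv, hDle, hDexp, -, -, hDmax⟩ :=
    Cfsg.Agent.S1949.result hPp (F.autGroup P) (inn_le_autGroup F hPS)
  -- a maximal abelian subgroup of `D`
  have hbot : IsMulCommutative (⊥ : Subgroup P) :=
    IsMulCommutative.of_setLike_mul_comm fun a ha b hb => by
      rw [Subgroup.mem_bot] at ha hb
      rw [ha, hb]
  have hne : Nonempty {B : Subgroup P // B ≤ D ∧ IsMulCommutative B} := ⟨⟨⊥, bot_le, hbot⟩⟩
  obtain ⟨⟨A, hAD, hAc⟩, hAmax⟩ := Finite.exists_max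
    (fun B : {B : Subgroup P // B ≤ D ∧ IsMulCommutative B} => Nat.card B.1)
  have hAmax' : ∀ B : Subgroup P, A ≤ B → B ≤ D → IsMulCommutative B → B = A := by
    intro B hAB hBD hBc
    have h1 : Nat.card B ≤ Nat.card A := hAmax ⟨B, hBD, hBc⟩
    exact (Subgroup.eq_of_le_of_card_ge hAB h1).symm
  obtain ⟨hAnorm, hAcent⟩ := hDmax A hAD hAc hAmax'
  refine ⟨D, A, hDinv, hAD, hAc, hAnorm, ?_, ?_, hAcent⟩
  · intro d hd
    have h1 := hDle hd
    have h2 : Subgroup.closure {y : P | ∃ α ∈ Cfsg.pResidual p ↥(F.autGroup P), ∃ x : P,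
        y = x⁻¹ * (α : MulAut P) x} ≤ (F.hyperfocalSubgroup p).subgroupOf P := by
      rw [Subgroup.closure_le]
      rintro y ⟨α, hα, x, rfl⟩
      rw [SetLike.mem_coe, Subgroup.mem_subgroupOf, Subgroup.coe_mul, Subgroup.coe_inv]
      exact Subgroup.subset_closure ⟨P, α, x, hPS, hα, rfl⟩
    exact Subgroup.mem_subgroupOf.mp (h2 h1)
  · intro d hd
    unfold PFour.qexp
    rcases hDexp d hd with h | ⟨h2, h4⟩
    · split_ifs with hp2
      · subst hp2
        have : d ^ 4 = (d ^ 2) ^ 2 := by rw [← pow_mul]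
        rw [this, h, one_pow]
      · exact h
    · rw [if_pos h2]
      exact h4

/-- Core of the theorem: `Aut_F(P) ≤ Aut_E(P)` once the subgroups of larger order are under
control. -/
theorem autGroup_le_of_control [Finite S] (p : ℕ) [Fact p.Prime] (hS : IsPGroup p S)
    (F E : FusionSystem S) (hE : E.IsSaturated p) (hF : F.IsSaturated p)
    (hEF : E.IsSubsystemOf F)
    (hyp : ∀ A B : Subgroup Ω, A ≤ F.hyperfocalSubgroup p → B ≤ F.hyperfocalSubgroup p →
      IsMulCommutative A → IsMulCommutative B → (∀ a ∈ A, a ^ PFour.qexp p = 1) →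
      (∀ b ∈ B, b ^ PFour.qexp p = 1) → E.homSet A B = F.homSet A B)
    (P : Subgroup Ω) (hPS : P ≤ S)
    (ha : ∀ Q : Subgroup Ω, Nat.card P < Nat.card Q → F.Hom Q ⊆ E.Hom Q) :
    F.autGroup P ≤ E.autGroup P := by
  have hfinP : Finite P := finite_of_le hPS
  have hsc := hyperfocalSubgroup_stronglyClosed p hS F hF
  obtain ⟨D, A, hDinv, hAD, hAc, hAnorm, hDhyp, hDexp, hAcent⟩ :=
    exists_detecting_abelian p hS F hPS
  -- `A` as a subgroup of the ambient group
  set A' : Subgroup Ω := A.map P.subtype with hA'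
  have hA'P : A' ≤ P := by
    rintro _ ⟨a, -, rfl⟩
    exact a.2
  have hmemA' : ∀ x : P, (x : Ω) ∈ A' ↔ x ∈ A := by
    intro x
    constructor
    · rintro ⟨a, ha, hax⟩
      have : a = x := Subtype.ext hax
      rwa [← this]
    · intro hx
      exact ⟨x, hx, rfl⟩
  have hA'hyp : A' ≤ F.hyperfocalSubgroup p := by
    rintro _ ⟨a, haA, rfl⟩
    exact hDhyp a (hAD haA)
  have hA'c : IsMulCommutative A' := inferInstance
  have hA'exp : ∀ a ∈ A', a ^ PFour.qexp p = 1 := by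
    rintro _ ⟨a, haA, rfl⟩
    have := hDexp a (hAD haA)
    show ((a : P) : Ω) ^ PFour.qexp p = 1
    rw [← Subgroup.coe_pow, this, Subgroup.coe_one]
  have hA'norm : ∀ g ∈ P, ∀ a ∈ A', g * a * g⁻¹ ∈ A' := by
    rintro g hg _ ⟨a, haA, rfl⟩
    exact ⟨⟨g, hg⟩ * a * ⟨g, hg⟩⁻¹, hAnorm.conj_mem a haA ⟨g, hg⟩, rfl⟩
  have hcentP : CentP F p P A' := by
    intro δ hδ hfix
    exact hAcent δ hδ (fun a haA => hfix a ((hmemA' a).mpr haA))
  -- a fully normalized conjugate of `A'` in `E`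
  obtain ⟨Ast, hconj, hFA, hRec⟩ := hE A' (hA'P.trans hPS)
  obtain ⟨χ, hχ, -, hχA⟩ := Cfsg.Agent.S5079.result p hS E Ast A' hFA hRec hconj
  have hPN : P ≤ normalizerIn S A' := by
    intro g hg
    exact ⟨hPS hg, mem_normalizer_of_forall_conj hA'norm hg⟩
  set χP : P →* Ω := χ.comp (Subgroup.inclusion hPN) with hχPdef
  have hχP : χP ∈ E.Hom P := restrict_mem E hPN hχ
  have hχPF : χP ∈ F.Hom P := hEF P hχP
  set Pst : Subgroup Ω := χP.range with hPst
  have hPstS : Pst ≤ S := by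
    rintro _ ⟨x, rfl⟩
    exact (E.le_of_mem hχP).2 x
  have hcardPst : Nat.card Pst = Nat.card P :=
    (Nat.card_congr (isoOfHom χP (E.injective_of_mem hχP) rfl).toEquiv).symm
  have hXχ : ∀ x : P, (x : Ω) ∈ A' ↔ χP x ∈ Ast := by
    intro x
    constructor
    · intro hx
      rw [← hχA]
      exact ⟨Subgroup.inclusion hPN x, hx, rfl⟩
    · intro hx
      rw [← hχA] at hx
      obtain ⟨z, hz, hzx⟩ := hx
      have : z = Subgroup.inclusion hPN x := E.injective_of_mem hχ hzx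
      rw [this] at hz
      exact hz
  have hAstP : Ast ≤ Pst := by
    intro y hy
    rw [← hχA] at hy
    obtain ⟨z, hz, rfl⟩ := hy
    have hzA : (z : Ω) ∈ A' := hz
    exact ⟨⟨z, hA'P hzA⟩, rfl⟩
  have hAstnorm : ∀ g ∈ Pst, ∀ a ∈ Ast, g * a * g⁻¹ ∈ Ast := by
    rintro _ ⟨x, rfl⟩ a haA
    obtain ⟨y, rfl⟩ := hAstP haA
    have hy : (y : Ω) ∈ A' := (hXχ y).mpr haA
    have h1 : ((x * y * x⁻¹ : P) : Ω) ∈ A' := hA'norm x x.2 y hy
    have h2 := (hXχ (x * y * x⁻¹)).mp h1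
    rwa [map_mul, map_mul, map_inv] at h2
  have hcentPst : CentP F p Pst Ast := hcentP.transport hχPF rfl hXχ
  have hAsthyp : Ast ≤ F.hyperfocalSubgroup p := by
    intro y hy
    obtain ⟨y', rfl⟩ := hAstP hy
    have hy'A : (y' : Ω) ∈ A' := (hXχ y').mpr hy
    have h1 := hsc.2 A' hA'hyp (χP.comp (Subgroup.inclusion hA'P)) (restrict_mem F hA'P hχPF)
      ⟨y', hy'A⟩
    exact h1
  have hAstc : IsMulCommutative Ast := by
    rw [← hχA]
    infer_instance
  have hAstexp : ∀ a ∈ Ast, a ^ PFour.qexp p = 1 := by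
    intro a haA
    obtain ⟨y, rfl⟩ := hAstP haA
    have hy : (y : Ω) ∈ A' := (hXχ y).mpr haA
    rw [← map_pow]
    have : y ^ PFour.qexp p = 1 := Subtype.ext (by
      rw [Subgroup.coe_pow, hA'exp _ hy, Subgroup.coe_one])
    rw [this, map_one]
  -- `Ast` is fully centralized in `F`
  have hAstFC : F.IsFullyCentralized Ast := by
    have h1 := Cfsg.Agent.S5078.result E Ast hRec
    refine ⟨h1.1, fun Q hQ => h1.2 Q ?_⟩
    obtain ⟨φ, hφ, hφr⟩ := hQ
    have hQhyp : Q ≤ F.hyperfocalSubgroup p := by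
      rw [← hφr]
      rintro _ ⟨x, rfl⟩
      exact hsc.2 Ast hAsthyp φ hφ x
    have hQc : IsMulCommutative Q := by
      rw [← hφr, MonoidHom.range_eq_map]
      have : IsMulCommutative (⊤ : Subgroup Ast) := inferInstance
      infer_instance
    have hQexp : ∀ b ∈ Q, b ^ PFour.qexp p = 1 := by
      intro b hb
      rw [← hφr] at hb
      obtain ⟨x, rfl⟩ := hb
      rw [← map_pow]
      have : x ^ PFour.qexp p = 1 := Subtype.ext (by
        rw [Subgroup.coe_pow, hAstexp _ x.2, Subgroup.coe_one])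
      rw [this, map_one]
    have hmem : φ ∈ F.homSet Ast Q := ⟨hφ, fun x => hφr ▸ ⟨x, rfl⟩⟩
    rw [← hyp Ast Q hAsthyp hQhyp hAstc hQc hAstexp hQexp] at hmem
    exact ⟨φ, hmem.1, hφr⟩
  -- now take an automorphism
  intro γ hγ
  have hγF : autHom γ ∈ F.Hom P := (mem_autGroup_iff F hPS γ).mp hγ
  rw [mem_autGroup_iff E hPS]
  -- `μ = χP ∘ γ`
  set μ : P →* Ω := χP.comp γ.toMonoidHom with hμdef
  have hμF : μ ∈ F.Hom P :=
    comp_mem' F hγF hχPF (fun x => (γ x).2) (fun x => rfl)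
  have hμr : μ.range = Pst := by
    ext y
    constructor
    · rintro ⟨x, rfl⟩
      exact ⟨γ x, rfl⟩
    · rintro ⟨x, rfl⟩
      exact ⟨γ⁻¹ x, by simp [hμdef]⟩
  -- the preimage `B` of `A` under `γ`
  set B : Subgroup P := A.comap γ.toMonoidHom with hB
  set B' : Subgroup Ω := B.map P.subtype with hB'
  have hB'P : B' ≤ P := by
    rintro _ ⟨b, -, rfl⟩
    exact b.2
  have hmemB' : ∀ x : P, (x : Ω) ∈ B' ↔ γ x ∈ A := by
    intro x
    constructor
    · rintro ⟨b, hb, hbx⟩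
      have : b = x := Subtype.ext hbx
      rw [← this]
      exact hb
    · intro hx
      exact ⟨x, hx, rfl⟩
  have hBD : B ≤ D := by
    intro x hx
    have h1 : γ x ∈ D := hAD hx
    have h2 := hDinv γ⁻¹ ((F.autGroup P).inv_mem hγ)
    have h3 : γ⁻¹ (γ x) ∈ D.map (γ⁻¹).toMonoidHom := ⟨γ x, h1, rfl⟩
    rw [h2] at h3
    simpa using h3
  have hB'hyp : B' ≤ F.hyperfocalSubgroup p := by
    rintro _ ⟨b, hb, rfl⟩
    exact hDhyp b (hBD hb)
  have hB'c : IsMulCommutative B' := by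
    have : IsMulCommutative B :=
      Subgroup.comap_injective_isMulCommutative A (f := γ.toMonoidHom) γ.injective
    infer_instance
  have hB'exp : ∀ b ∈ B', b ^ PFour.qexp p = 1 := by
    rintro _ ⟨b, hb, rfl⟩
    have := hDexp b (hBD hb)
    show ((b : P) : Ω) ^ PFour.qexp p = 1
    rw [← Subgroup.coe_pow, this, Subgroup.coe_one]
  have hB'norm : ∀ g ∈ P, ∀ b ∈ B', g * b * g⁻¹ ∈ B' := by
    rintro g hg _ ⟨b, hb, rfl⟩
    refine ⟨⟨g, hg⟩ * b * ⟨g, hg⟩⁻¹, ?_, rfl⟩
    show γ (⟨g, hg⟩ * b * ⟨g, hg⟩⁻¹) ∈ A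
    rw [map_mul, map_mul, map_inv]
    exact hAnorm.conj_mem _ hb _
  -- the restriction of `γ` to `B'` is a map of `E`
  have hγB : (autHom γ).comp (Subgroup.inclusion hB'P) ∈ E.Hom B' := by
    have h1 : (autHom γ).comp (Subgroup.inclusion hB'P) ∈ F.homSet B' A' := by
      refine ⟨restrict_mem F hB'P hγF, fun x => ?_⟩
      have hx : ((Subgroup.inclusion hB'P x : P) : Ω) ∈ B' := x.2
      exact (hmemA' _).mpr ((hmemB' _).mp hx)
    rw [← hyp B' A' hB'hyp hA'hyp hB'c hA'c hB'exp hA'exp] at h1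
    exact h1.1
  -- `ε = μ|_{B'}` is a map of `E` onto `Ast`
  set ε : B' →* Ω := μ.comp (Subgroup.inclusion hB'P) with hεdef
  have hε : ε ∈ E.Hom B' :=
    comp_mem' E hγB hχP (fun x => (γ (Subgroup.inclusion hB'P x)).2) (fun x => rfl)
  have hεr : ε.range = Ast := by
    ext y
    constructor
    · rintro ⟨x, rfl⟩
      have hx : ((Subgroup.inclusion hB'P x : P) : Ω) ∈ B' := x.2
      have h1 : γ (Subgroup.inclusion hB'P x) ∈ A := (hmemB' _).mp hx
      exact (hXχ _).mp ((hmemA' _).mpr h1)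
    · intro hy
      obtain ⟨z, rfl⟩ := hAstP hy
      have hz : (z : Ω) ∈ A' := (hXχ z).mpr hy
      have hzA : z ∈ A := (hmemA' z).mp hz
      have hw : ((γ⁻¹ z : P) : Ω) ∈ B' := (hmemB' _).mpr (by simpa using hzA)
      refine ⟨⟨_, hw⟩, ?_⟩
      show χP (γ (Subgroup.inclusion hB'P ⟨_, hw⟩)) = χP z
      congr 1
      have : Subgroup.inclusion hB'P ⟨((γ⁻¹ z : P) : Ω), hw⟩ = γ⁻¹ z := Subtype.ext rfl
      rw [this]
      simp
  obtain ⟨θ, hθ, hθε⟩ := hRec.2 B' ε hε hεr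
  -- `P` lies in the extender
  have hPext : P ≤ extender S B' ε := by
    intro g hg
    apply Subgroup.subset_closure
    refine ⟨hPS hg, mem_normalizer_of_forall_conj hB'norm hg, μ ⟨g, hg⟩, (F.le_of_mem hμF).2 _, ?_⟩
    · intro x hx
      show μ (Subgroup.inclusion hB'P ⟨g * x * g⁻¹, hx⟩) = μ ⟨g, hg⟩ * μ (Subgroup.inclusion hB'P x) * (μ ⟨g, hg⟩)⁻¹
      rw [← map_inv, ← map_mul, ← map_mul]
      congr 1
  set θP : P →* Ω := θ.comp (Subgroup.inclusion hPext) with hθPdef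
  have hθP : θP ∈ E.Hom P := restrict_mem E hPext hθ
  have hθPB : ∀ x : P, (x : Ω) ∈ B' → θP x = μ x := by
    intro x hx
    have := hθε (x : Ω) hx (hPext x.2)
    exact this
  -- `ν = θP ∘ μ⁻¹`
  set e := isoOfHom μ (F.injective_of_mem hμF) hμr with he
  set ν : Pst →* Ω := θP.comp e.symm.toMonoidHom with hνdef
  have hνF : ν ∈ F.Hom Pst :=
    comp_mem' F (isoOfHom_symm_mem F hμF hμr) (hEF P hθP) (fun x => (e.symm x).2) (fun x => rfl)
  have hνfix : ∀ x : Pst, (x : Ω) ∈ Ast → ν x = x := by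
    intro x hx
    have h1 : μ (e.symm x) = (x : Ω) := by
      have := isoOfHom_coe μ (F.injective_of_mem hμF) hμr (e.symm x)
      rw [← this, MulEquiv.apply_symm_apply]
    have h2 : γ (e.symm x) ∈ A := by
      have h3 : χP (γ (e.symm x)) ∈ Ast := by
        have : χP (γ (e.symm x)) = μ (e.symm x) := rfl
        rw [this, h1]
        exact hx
      exact (hmemA' _).mp ((hXχ _).mpr h3)
    have h4 : ((e.symm x : P) : Ω) ∈ B' := (hmemB' _).mpr h2
    show θP (e.symm x) = x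
    rw [hθPB _ h4, h1]
  have hνE : ν ∈ E.Hom Pst :=
    hom_mem_of_fix p hS F E hF (Nat.card P)
      ha hPstS hAstP hcardPst hAstnorm hAstFC hcentPst hνF hνfix
  -- recover `μ`, then `γ`
  have hθν : ∀ y : P, θP y = ν (e y) := by
    intro y
    show θP y = θP (e.symm (e y))
    rw [MulEquiv.symm_apply_apply]
  obtain ⟨ν', hν', hν'inv⟩ := E.inv_mem hνE
  have hμE : μ ∈ E.Hom P := by
    refine comp_mem' E hθP hν' (fun y => ⟨e y, (hθν y).symm⟩) (fun y => ?_)
    have h1 := hν'inv (e y)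
    have h2 : (⟨θP y, ⟨e y, (hθν y).symm⟩⟩ : ν.range) = ⟨ν (e y), ⟨e y, rfl⟩⟩ :=
      Subtype.ext (hθν y)
    rw [h2, h1]
    exact (isoOfHom_coe μ (F.injective_of_mem hμF) hμr y).symm
  obtain ⟨χ', hχ', hχ'inv⟩ := E.inv_mem hχP
  refine comp_mem' E hμE hχ' (fun y => ⟨γ y, rfl⟩) (fun y => ?_)
  exact (hχ'inv (γ y)).symm

/-- **Benson–Grodal–Henke**: a saturated subsystem `E ≤ F` over the same `S` with the same maps
between the abelian subgroups of exponent `p` (or `4` when `p = 2`) of `hyp(F)` is all of `F`. -/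
theorem bgh_le [Finite S] (p : ℕ) [Fact p.Prime] (hS : IsPGroup p S)
    (F E : FusionSystem S) (hE : E.IsSaturated p) (hF : F.IsSaturated p)
    (hEF : E.IsSubsystemOf F)
    (hyp : ∀ A B : Subgroup Ω, A ≤ F.hyperfocalSubgroup p → B ≤ F.hyperfocalSubgroup p →
      IsMulCommutative A → IsMulCommutative B → (∀ a ∈ A, a ^ PFour.qexp p = 1) →
      (∀ b ∈ B, b ^ PFour.qexp p = 1) → E.homSet A B = F.homSet A B) :
    F ≤ E := by
  have key : ∀ m : ℕ, ∀ P : Subgroup Ω, (P = S ∨ F.IsEssential p P) →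
      Nat.card S - Nat.card P = m → F.autGroup P ≤ E.autGroup P := by
    intro m
    induction m using Nat.strong_induction_on with
    | _ m ih =>
      intro P hP hm
      have hPS : P ≤ S := by
        rcases hP with rfl | hP
        · exact le_rfl
        · exact hP.1.1
      have hcardle : ∀ Q : Subgroup Ω, Q ≤ S → Nat.card Q ≤ Nat.card S := fun Q hQS =>
        Nat.card_le_card_of_injective (Subgroup.inclusion hQS) (Subgroup.inclusion_injective _)
      apply autGroup_le_of_control p hS F E hE hF hEF hyp P hPS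
      apply hom_subset_of_card_gt p hS F E hF (Nat.card P)
      intro P' hP' hlt
      have hP'S : P' ≤ S := by
        rcases hP' with rfl | hP'
        · exact le_rfl
        · exact hP'.1.1
      have h1 := hcardle P' hP'S
      have h2 := hcardle P hPS
      exact ih (Nat.card S - Nat.card P') (by omega) P' hP' rfl
  exact alperin_le p hS F hF E (fun P hP => key _ P hP rfl)

end Cfsg.Agent.Helper25
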