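import Mathlib
import Cfsg.Agent.Helper25.FusionNormal
import Cfsg.Agent.Helper25.FusionChain
import Cfsg.Agent.Helper25.FusionCentricExt

set_option autoImplicit false

/-! The preimage in `S` of a normal `p`-subgroup of `Aut_F(Q)`, for `Q` normal and centric in `F`,
is normal in `F`. -/

namespace Cfsg.Agent.Helper25

open Cfsg Cfsg.FusionSystem

variable {Ω : Type*} [Group Ω] {S : Subgroup Ω}

/-- Restriction of `Aut_F(P)` to a strongly closed subgroup `Q ≤ P`. -/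
noncomputable def preimResHom (F : FusionSystem S) {Q P : Subgroup Ω} (hQ : F.StronglyClosed Q)
    (hQP : Q ≤ P) (hPS : P ≤ S) : F.autGroup P →* MulAut Q where
  toFun a :=
    { toFun := fun x => ⟨(a.1 ⟨x, hQP x.2⟩ : P),
        autGroup_apply_mem_of_stronglyClosed F hQ hPS a.1 a.2 _ x.2⟩
      invFun := fun x => ⟨(a.1⁻¹ ⟨x, hQP x.2⟩ : P),
        autGroup_apply_mem_of_stronglyClosed F hQ hPS a.1⁻¹ ((F.autGroup P).inv_mem a.2) _ x.2⟩
      left_inv := by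
        intro x
        apply Subtype.ext
        show ((a.1⁻¹ ⟨((a.1 ⟨x, hQP x.2⟩ : P) : Ω), _⟩ : P) : Ω) = x
        have : (⟨((a.1 ⟨x, hQP x.2⟩ : P) : Ω), (a.1 ⟨x, hQP x.2⟩ : P).2⟩ : P)
            = a.1 ⟨x, hQP x.2⟩ := rfl
        rw [this]
        simp
      right_inv := by
        intro x
        apply Subtype.ext
        show ((a.1 ⟨((a.1⁻¹ ⟨x, hQP x.2⟩ : P) : Ω), _⟩ : P) : Ω) = x
        have : (⟨((a.1⁻¹ ⟨x, hQP x.2⟩ : P) : Ω), (a.1⁻¹ ⟨x, hQP x.2⟩ : P).2⟩ : P)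
            = a.1⁻¹ ⟨x, hQP x.2⟩ := rfl
        rw [this]
        simp
      map_mul' := by
        intro x y
        apply Subtype.ext
        show ((a.1 ⟨(x * y : Q), _⟩ : P) : Ω) = ((a.1 ⟨x, _⟩ : P) : Ω) * ((a.1 ⟨y, _⟩ : P) : Ω)
        have : (⟨((x * y : Q) : Ω), hQP (x * y).2⟩ : P) = ⟨x, hQP x.2⟩ * ⟨y, hQP y.2⟩ := rfl
        rw [this, map_mul]
        rfl }
  map_one' := by
    ext x
    rfl
  map_mul' := by
    intro a b
    ext x
    rfl

theorem resHom_apply (F : FusionSystem S) {Q P : Subgroup Ω} (hQ : F.StronglyClosed Q)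
    (hQP : Q ≤ P) (hPS : P ≤ S) (a : F.autGroup P) (x : Q) :
    ((preimResHom F hQ hQP hPS a x : Q) : Ω) = ((a.1 ⟨x, hQP x.2⟩ : P) : Ω) := rfl

theorem resHom_mem (F : FusionSystem S) {Q P : Subgroup Ω} (hQ : F.StronglyClosed Q)
    (hQP : Q ≤ P) (hPS : P ≤ S) (a : F.autGroup P) :
    preimResHom F hQ hQP hPS a ∈ F.autGroup Q := by
  rw [mem_autGroup_iff F hQ.1]
  have h1 := restrict_mem F hQP ((mem_autGroup_iff F hPS a.1).1 a.2)
  have e : autHom (preimResHom F hQ hQP hPS a) = (autHom a.1).comp (Subgroup.inclusion hQP) := by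
    ext x
    rfl
  rw [e]
  exact h1

/-- The kernel of the restriction to a centric subgroup is a `p`-group. -/
theorem resHom_ker_isPGroup [Finite S] (p : ℕ) [Fact p.Prime] (hS : IsPGroup p S)
    (F : FusionSystem S) (hF : F.IsSaturated p) {Q P : Subgroup Ω} (hQ : F.StronglyClosed Q)
    (hQc : F.IsCentric Q) (hQP : Q ≤ P) (hPS : P ≤ S) :
    IsPGroup p (preimResHom F hQ hQP hPS).ker := by
  have hfinP : Finite P := finite_of_le hPS
  have hPp : IsPGroup p P := isPGroup_of_le hS hPS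
  rintro ⟨a, ha⟩
  rw [MonoidHom.mem_ker] at ha
  have hφ : P.subtype ∈ F.Hom P := subtype_mem F hPS
  have hφ' : autHom a.1 ∈ F.Hom P := (mem_autGroup_iff F hPS a.1).1 a.2
  have hagree : ∀ x : P, (x : Ω) ∈ Q → P.subtype x = autHom a.1 x := by
    intro x hx
    have h1 := resHom_apply F hQ hQP hPS a ⟨x, hx⟩
    rw [ha] at h1
    exact h1
  obtain ⟨z, -, -, hz⟩ := agree_on_centric p hS F hF _ Q hQP hQc P.subtype (autHom a.1) hφ hφ'
    hagree rfl
  have ha1 : a.1 = MulAut.conj z := by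
    ext y
    have := hz y
    show ((a.1 y : P) : Ω) = ((z * y * z⁻¹ : P) : Ω)
    exact this
  obtain ⟨k, hk⟩ := (IsPGroup.iff_card.1 hPp)
  refine ⟨k, ?_⟩
  apply Subtype.ext
  apply Subtype.ext
  show (a.1 ^ p ^ k) = 1
  rw [ha1, ← map_pow, ← hk, pow_card_eq_one', map_one]

/-- The preimage in `S` of a group of automorphisms of `Q`. -/
def preimageSubgroup (S Q : Subgroup Ω) (𝒩 : Subgroup (MulAut Q)) : Subgroup Ω where
  carrier := {s | s ∈ S ∧ ∃ k ∈ 𝒩, ∀ x : Q, ((k x : Q) : Ω) = s * x * s⁻¹}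
  one_mem' := ⟨S.one_mem, 1, 𝒩.one_mem, fun x => by simp⟩
  mul_mem' := by
    rintro a b ⟨ha, k, hk, hka⟩ ⟨hb, l, hl, hlb⟩
    refine ⟨S.mul_mem ha hb, k * l, 𝒩.mul_mem hk hl, fun x => ?_⟩
    rw [MulAut.mul_apply, hka, hlb]
    group
  inv_mem' := by
    rintro a ⟨ha, k, hk, hka⟩
    refine ⟨S.inv_mem ha, k⁻¹, 𝒩.inv_mem hk, fun x => ?_⟩
    have h1 := hka (k⁻¹ x)
    have h2 : k (k⁻¹ x) = x := by simp
    rw [h2] at h1
    rw [h1]
    group

theorem mem_preimageSubgroup {S Q : Subgroup Ω} {𝒩 : Subgroup (MulAut Q)} {s : Ω} :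
    s ∈ preimageSubgroup S Q 𝒩 ↔
      s ∈ S ∧ ∃ k ∈ 𝒩, ∀ x : Q, ((k x : Q) : Ω) = s * x * s⁻¹ := Iff.rfl

theorem preimageSubgroup_le (S Q : Subgroup Ω) (𝒩 : Subgroup (MulAut Q)) :
    preimageSubgroup S Q 𝒩 ≤ S := fun _ h => h.1

theorem le_preimageSubgroup {S Q : Subgroup Ω} {𝒩 : Subgroup (MulAut Q)} (hQS : Q ≤ S)
    (hInn : Inn Q ≤ 𝒩) : Q ≤ preimageSubgroup S Q 𝒩 := by
  intro q hq
  refine ⟨hQS hq, MulAut.conj (⟨q, hq⟩ : Q), hInn ⟨_, rfl⟩, fun x => ?_⟩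
  simp [MulAut.conj_apply]

theorem conj_mem_autGroup_top (F : FusionSystem S) {s : Ω} (hs : s ∈ S) :
    MulAut.conj (⟨s, hs⟩ : S) ∈ F.autGroup S := by
  rw [mem_autGroup_iff F le_rfl]
  have h1 : conjHom S s ∈ F.Hom S := F.conj_mem le_rfl hs
  have e : autHom (MulAut.conj (⟨s, hs⟩ : S)) = conjHom S s := by
    ext x
    simp [conjHom, MulAut.conj_apply]
  rw [e]
  exact h1

/-- Automorphisms in the system preserve the preimage subgroup. -/
theorem preimage_invariant (F : FusionSystem S) {Q P : Subgroup Ω} (hQ : F.StronglyClosed Q)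
    (hQP : Q ≤ P) (hPS : P ≤ S) (𝒩 : Subgroup (MulAut Q))
    (hnorm : ∀ α ∈ F.autGroup Q, ∀ k ∈ 𝒩, α * k * α⁻¹ ∈ 𝒩)
    (β : MulAut P) (hβ : β ∈ F.autGroup P) (x : P)
    (hx : (x : Ω) ∈ preimageSubgroup S Q 𝒩) :
    ((β x : P) : Ω) ∈ preimageSubgroup S Q 𝒩 := by
  obtain ⟨-, n, hn, hnx⟩ := hx
  set b := preimResHom F hQ hQP hPS ⟨β, hβ⟩ with hb
  refine ⟨hPS (β x).2, b * n * b⁻¹, hnorm b (resHom_mem F hQ hQP hPS _) n hn, fun q => ?_⟩
  have h1 : ((b (b⁻¹ q) : Q) : Ω) = q := by simp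
  have h2 : (⟨((n (b⁻¹ q) : Q) : Ω), hQP (n (b⁻¹ q)).2⟩ : P)
      = x * ⟨((b⁻¹ q : Q) : Ω), hQP (b⁻¹ q).2⟩ * x⁻¹ := by
    apply Subtype.ext
    exact hnx (b⁻¹ q)
  show ((b (n (b⁻¹ q)) : Q) : Ω) = _
  rw [hb, resHom_apply, h2, map_mul, map_mul, map_inv]
  have h3 : ((β ⟨((b⁻¹ q : Q) : Ω), hQP (b⁻¹ q).2⟩ : P) : Ω) = q := by
    have := resHom_apply F hQ hQP hPS ⟨β, hβ⟩ (b⁻¹ q)
    rw [← this]
    exact h1
  show ((β x : P) : Ω) * ((β ⟨((b⁻¹ q : Q) : Ω), hQP (b⁻¹ q).2⟩ : P) : Ω) * ((β x : P) : Ω)⁻¹ = _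
  rw [h3]

/-- **Key lemma.** For `Q` normal and centric in a saturated system `F`, the preimage in `S` of a
`p`-subgroup of `Aut(Q)` normalized by `Aut_F(Q)` is normal in `F`. -/
theorem isNormal_preimage [Finite S] (p : ℕ) [Fact p.Prime] (hS : IsPGroup p S)
    (F : FusionSystem S) (hF : F.IsSaturated p) {Q : Subgroup Ω} (hQ : F.IsNormal Q)
    (hQc : F.IsCentric Q) (𝒩 : Subgroup (MulAut Q))
    (hnorm : ∀ α ∈ F.autGroup Q, ∀ k ∈ 𝒩, α * k * α⁻¹ ∈ 𝒩) (h𝒩p : IsPGroup p 𝒩) :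
    F.IsNormal (preimageSubgroup S Q 𝒩) := by
  have hQsc := stronglyClosed_of_isNormal F hQ
  have hQS : Q ≤ S := hQ.1
  -- `S` normalizes the preimage
  have hconj : ∀ s ∈ S, ∀ y ∈ preimageSubgroup S Q 𝒩, s * y * s⁻¹ ∈ preimageSubgroup S Q 𝒩 := by
    intro s hs y hy
    have := preimage_invariant F hQsc hQS le_rfl 𝒩 hnorm _ (conj_mem_autGroup_top F hs)
      ⟨y, hy.1⟩ hy
    simpa [MulAut.conj_apply] using this
  have hSN : S ≤ Subgroup.normalizer (preimageSubgroup S Q 𝒩 : Set Ω) := by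
    intro s hs
    rw [Subgroup.mem_normalizer_iff]
    intro y
    constructor
    · exact hconj s hs y
    · intro hy
      have := hconj s⁻¹ (S.inv_mem hs) _ hy
      have e : s⁻¹ * (s * y * s⁻¹) * s⁻¹⁻¹ = y := by group
      rwa [e] at this
  apply isNormal_of_alperin p hS F hF
  intro P hP
  have hPS : P ≤ S := by
    rcases hP with rfl | hP
    · exact le_rfl
    · exact hP.1.1
  have hQP : Q ≤ P := by
    rcases hP with rfl | hP
    · exact hQS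
    · exact le_of_isNormal_of_isEssential p hS F hQ hP
  have hle : preimageSubgroup S Q 𝒩 ≤ P := by
    rcases hP with rfl | hP
    · exact preimageSubgroup_le _ _ _
    · refine le_of_opAutLeInn p hS F (preimageSubgroup_le _ _ _) hSN hPS
        (hP.1.2 P (isConj_refl F hPS)) (opAutLeInn_of_isEssential F p hP) ?_
      intro α hα k hk
      rw [mem_autInducedBy_iff] at hk ⊢
      obtain ⟨g, hgQ₁, hg⟩ := hk
      have hkA : k ∈ F.autGroup P := by
        apply autInducedBy_le_autGroup F hPS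
        rw [mem_autInducedBy_iff]
        exact ⟨g, hgQ₁.1, hg⟩
      set R := preimResHom F hQsc hQP hPS with hR
      set K : Subgroup (MulAut P) := (𝒩.comap R).map (F.autGroup P).subtype with hK
      have hKA : K ≤ F.autGroup P := by
        rintro _ ⟨c, -, rfl⟩
        exact c.2
      have hKnorm : ∀ α ∈ F.autGroup P, ∀ k ∈ K, α * k * α⁻¹ ∈ K := by
        rintro α hα _ ⟨c, hc, rfl⟩
        refine ⟨⟨α, hα⟩ * c * ⟨α, hα⟩⁻¹, ?_, rfl⟩
        show R (⟨α, hα⟩ * c * ⟨α, hα⟩⁻¹) ∈ 𝒩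
        rw [map_mul, map_mul, map_inv]
        exact hnorm _ (resHom_mem F hQsc hQP hPS _) _ hc
      have hKp : IsPGroup p K :=
        (h𝒩p.comap_of_ker_isPGroup R (resHom_ker_isPGroup p hS F hF hQsc hQc hQP hPS)).map _
      have hKI : K ≤ Inn P := opAutLeInn_of_isEssential F p hP K hKA hKnorm hKp
      have hkK : k ∈ K := by
        refine ⟨⟨k, hkA⟩, ?_, rfl⟩
        obtain ⟨-, n, hn, hnq⟩ := hgQ₁
        have e : R ⟨k, hkA⟩ = n := by
          ext q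
          rw [hnq q]
          exact hg ⟨q, hQP q.2⟩
        show R ⟨k, hkA⟩ ∈ 𝒩
        rw [e]
        exact hn
      have hαk := hKnorm α hα k hkK
      obtain ⟨y, hy⟩ := hKI hαk
      obtain ⟨c, hc𝒩, hc⟩ := hαk
      refine ⟨y, ⟨hPS y.2, R c, hc𝒩, fun q => ?_⟩, fun x => ?_⟩
      · have h1 : ((R c q : Q) : Ω) = ((c.1 ⟨q, hQP q.2⟩ : P) : Ω) := rfl
        have h2 : c.1 = α * k * α⁻¹ := hc
        rw [h1, h2, ← hy]
        simp [MulAut.conj_apply]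
      · rw [← hy]
        simp [MulAut.conj_apply]
  refine ⟨hle, fun α hα => ?_⟩
  ext y
  constructor
  · rintro ⟨x, hx, rfl⟩
    exact preimage_invariant F hQsc hQP hPS 𝒩 hnorm α hα x hx
  · intro hy
    refine ⟨α⁻¹ y, preimage_invariant F hQsc hQP hPS 𝒩 hnorm α⁻¹ ((F.autGroup P).inv_mem hα) y hy,
      ?_⟩
    simp

end Cfsg.Agent.Helper25
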