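import Mathlib
import Cfsg.Prelude.Def_FusionComponents
import Cfsg.Agent.Helper25.FusionPreimage
import Cfsg.Agent.Helper25.FusionSolvConstrained
import Cfsg.Agent.Helper25.FusionSubnormal

set_option autoImplicit false

/-! Saturated subsystems (on strongly closed subgroups) of constrained systems are constrained;
in particular subnormal subsystems of constrained systems are constrained. -/

namespace Cfsg.Agent.Helper25

open Cfsg Cfsg.FusionSystem

variable {Ω : Type*} [Group Ω] {S : Subgroup Ω}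

/-- Every subgroup normal in `F` lies in a maximal one. -/
theorem exists_max_isNormal [Finite S] (F : FusionSystem S) :
    ∀ {Q : Subgroup Ω}, F.IsNormal Q → ∃ Q', Q ≤ Q' ∧ F.IsNormal Q' ∧
      ∀ Q'', F.IsNormal Q'' → Q' ≤ Q'' → Q'' ≤ Q' := by
  have key : ∀ n : ℕ, ∀ Q : Subgroup Ω, F.IsNormal Q → Nat.card S - Nat.card Q = n →
      ∃ Q', Q ≤ Q' ∧ F.IsNormal Q' ∧ ∀ Q'', F.IsNormal Q'' → Q' ≤ Q'' → Q'' ≤ Q' := by
    intro n
    induction n using Nat.strong_induction_on with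
    | _ n ih =>
      intro Q hQ hn
      by_cases hmax : ∀ Q'', F.IsNormal Q'' → Q ≤ Q'' → Q'' ≤ Q
      · exact ⟨Q, le_rfl, hQ, hmax⟩
      · push Not at hmax
        obtain ⟨Q'', hQ'', hle, hnle⟩ := hmax
        have hlt : Q < Q'' := lt_of_le_not_ge hle hnle
        have h1 := card_lt_of_lt hQ''.1 hlt
        have h2 : Nat.card Q'' ≤ Nat.card S := by
          have : Finite Q'' := finite_of_le hQ''.1
          exact Nat.card_le_card_of_injective (Subgroup.inclusion hQ''.1)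
            (Subgroup.inclusion_injective _)
        obtain ⟨Q', hQ', hN, hm⟩ := ih (Nat.card S - Nat.card Q'') (by omega) Q'' hQ'' rfl
        exact ⟨Q', hle.trans hQ', hN, hm⟩
  intro Q hQ
  exact key _ Q hQ rfl

/-- The intersection of a normal subgroup of `F` with a strongly closed subgroup is normal. -/
theorem isNormal_inf_stronglyClosed [Finite S] (F : FusionSystem S) {Q T : Subgroup Ω}
    (hQ : F.IsNormal Q) (hT : F.StronglyClosed T) : F.IsNormal (Q ⊓ T) := by
  refine ⟨inf_le_left.trans hQ.1, fun P φ hφ => ?_⟩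
  obtain ⟨ψ, hψ, hext, hmap⟩ := hQ.2 P φ hφ
  have hle : P ⊔ Q ⊓ T ≤ P ⊔ Q := sup_le_sup_left inf_le_left P
  have hψ' : ψ.comp (Subgroup.inclusion hle) ∈ F.Hom (P ⊔ Q ⊓ T) := restrict_mem F hle hψ
  refine ⟨ψ.comp (Subgroup.inclusion hle), hψ', fun x => ?_, ?_⟩
  · exact hext x
  · have hAle : Q ⊓ T ≤ P ⊔ Q := inf_le_left.trans le_sup_right
    have hψA : ψ.comp (Subgroup.inclusion hAle) ∈ F.Hom (Q ⊓ T) := restrict_mem F hAle hψ
    have hsub : ((Q ⊓ T).subgroupOf (P ⊔ Q ⊓ T)).map (ψ.comp (Subgroup.inclusion hle)) ≤ Q ⊓ T := by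
      rintro _ ⟨a, ha, rfl⟩
      refine ⟨?_, ?_⟩
      · have h0 : ψ (Subgroup.inclusion hle a) ∈ (Q.subgroupOf (P ⊔ Q)).map ψ :=
          ⟨_, (show ((Subgroup.inclusion hle a : ↥(P ⊔ Q)) : Ω) ∈ Q from ha.1), rfl⟩
        have h00 : ∀ Y : Subgroup Ω, (Q.subgroupOf (P ⊔ Q)).map ψ = Y →
            ψ (Subgroup.inclusion hle a) ∈ Y := fun Y hY => hY ▸ h0
        exact h00 Q hmap
      · exact hT.2 (Q ⊓ T) inf_le_right _ hψA ⟨a, ha⟩
    have hfinA : Finite ↥(Q ⊓ T) := finite_of_le (inf_le_left.trans hQ.1)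
    refine Subgroup.eq_of_le_of_card_ge hsub ?_
    have hinj : Function.Injective (ψ.comp (Subgroup.inclusion hle)) := F.injective_of_mem hψ'
    rw [Nat.card_congr (Subgroup.equivMapOfInjective _ _ hinj).symm.toEquiv]
    exact (Nat.card_congr (Subgroup.subgroupOfEquivOfLe
      (le_sup_right : Q ⊓ T ≤ P ⊔ Q ⊓ T)).toEquiv).ge

/-- A subgroup normal in `F` is normal in every saturated subsystem over a subgroup containing
it. -/
theorem isNormal_subsystem_of_isNormal [Finite S] (p : ℕ) [Fact p.Prime] (hS : IsPGroup p S)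
    (F : FusionSystem S) {T : Subgroup Ω} (E : FusionSystem T) (hE : E.IsSaturated p)
    (hEF : E.IsSubsystemOf F) {A : Subgroup Ω} (hA : F.IsNormal A) (hAT : A ≤ T) :
    E.IsNormal A := by
  have hTS : T ≤ S := (F.le_of_mem (hEF T (subtype_mem E le_rfl))).1
  have hfinT : Finite T := finite_of_le hTS
  have hTp : IsPGroup p T := isPGroup_of_le hS hTS
  have hAscF := stronglyClosed_of_isNormal F hA
  have hAsc : E.StronglyClosed A :=
    ⟨hAT, fun R hRA φ hφ x => hAscF.2 R hRA φ (hEF R hφ) x⟩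
  have hTN : T ≤ Subgroup.normalizer (A : Set Ω) := hTS.trans (le_normalizer_of_isNormal F hA)
  apply isNormal_of_alperin p hTp E hE A
  rintro P (rfl | hP)
  · exact ⟨hAT, fun α hα => map_autGroup_eq_of_stronglyClosed E hAsc le_rfl α hα⟩
  have hPT : P ≤ T := hP.1.1
  refine ⟨?_, fun α hα => map_autGroup_eq_of_stronglyClosed E hAsc hPT α hα⟩
  refine le_of_opAutLeInn p hTp E hAT hTN hPT (hP.1.2 P (isConj_refl E hPT))
    (opAutLeInn_of_isEssential E p hP) ?_
  intro α hα k hk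
  have hαF : α ∈ F.autGroup P := by
    rw [mem_autGroup_iff F (hPT.trans hTS)]
    exact hEF P ((mem_autGroup_iff E hPT α).1 hα)
  exact autInducedBy_normalized_of_isNormal F hA (hPT.trans hTS) α hαF k hk

/-- Conjugation by an automorphism preserves a join of two normalized subgroups. -/
theorem sup_normalized {X : Type*} [Group X] {A H K : Subgroup X}
    (hH : ∀ α ∈ A, ∀ k ∈ H, α * k * α⁻¹ ∈ H) (hK : ∀ α ∈ A, ∀ k ∈ K, α * k * α⁻¹ ∈ K) :
    ∀ α ∈ A, ∀ k ∈ H ⊔ K, α * k * α⁻¹ ∈ H ⊔ K := by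
  intro α hα k hk
  have h1 : (H ⊔ K).map (MulAut.conj α).toMonoidHom ≤ H ⊔ K := by
    rw [Subgroup.map_sup]
    refine sup_le_sup ?_ ?_
    · rintro _ ⟨x, hx, rfl⟩
      exact hH α hα x hx
    · rintro _ ⟨x, hx, rfl⟩
      exact hK α hα x hx
  exact h1 ⟨k, hk, rfl⟩

/-- For a maximal normal centric subgroup `Q` of a saturated system and a strongly closed `T`:
`C_T(Q ∩ T) ≤ Q`. -/
theorem centralizerIn_inf_le [Finite S] (p : ℕ) [Fact p.Prime] (hS : IsPGroup p S)
    (F : FusionSystem S) (hF : F.IsSaturated p) {Q T : Subgroup Ω} (hQ : F.IsNormal Q)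
    (hQc : F.IsCentric Q) (hmax : ∀ Q'', F.IsNormal Q'' → Q ≤ Q'' → Q'' ≤ Q)
    (hT : F.StronglyClosed T) : centralizerIn T (Q ⊓ T) ≤ Q := by
  have hQS : Q ≤ S := hQ.1
  have hfinQ : Finite Q := finite_of_le hQS
  have hQp : IsPGroup p Q := isPGroup_of_le hS hQS
  have hQsc := stronglyClosed_of_isNormal F hQ
  have hAsc : F.StronglyClosed (Q ⊓ T) := stronglyClosed_inf F hQsc hT
  have hSNQ : S ≤ Subgroup.normalizer (Q : Set Ω) := le_normalizer_of_isNormal F hQ
  have hSNT : S ≤ Subgroup.normalizer (T : Set Ω) := le_normalizer_of_stronglyClosed F hT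
  -- the chain `1 ≤ Q ∩ T ≤ Q`
  let N : ℕ → Subgroup Q := fun i =>
    if i = 0 then ⊥ else if i = 1 then (Q ⊓ T).subgroupOf Q else ⊤
  have hN0 : N 0 = ⊥ := rfl
  have hN1 : N 1 = (Q ⊓ T).subgroupOf Q := rfl
  have hN2 : ∀ i, 2 ≤ i → N i = ⊤ := by
    intro i hi
    show (if i = 0 then ⊥ else if i = 1 then (Q ⊓ T).subgroupOf Q else ⊤) = ⊤
    rw [if_neg (by omega), if_neg (by omega)]
  have hNmono : Monotone N := by
    apply monotone_nat_of_le_succ
    intro i
    rcases i with _ | _ | i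
    · rw [hN0]; exact bot_le
    · rw [hN2 2 le_rfl]; exact le_top
    · rw [hN2 (i + 2 + 1) (by omega)]; exact le_top
  have hNtop : N 2 = ⊤ := hN2 2 le_rfl
  have hinv : ∀ β ∈ F.autGroup Q, ∀ i, ∀ x ∈ N i, β x ∈ N i := by
    intro β hβ i x hx
    rcases i with _ | _ | i
    · rw [hN0, Subgroup.mem_bot] at hx ⊢
      rw [hx, map_one]
    · rw [hN1] at hx ⊢
      exact autGroup_apply_mem_of_stronglyClosed F hAsc hQS β hβ x hx
    · rw [hN2 (i + 2) (by omega)]
      exact Subgroup.mem_top _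
  set C : Subgroup (MulAut Q) := chainStabilizer hQp N hN0 hNmono hNtop ⊓ F.autGroup Q with hC
  have hCnorm : ∀ α ∈ F.autGroup Q, ∀ k ∈ C, α * k * α⁻¹ ∈ C := by
    intro α hα k hk
    refine ⟨?_, (F.autGroup Q).mul_mem ((F.autGroup Q).mul_mem hα hk.2)
      ((F.autGroup Q).inv_mem hα)⟩
    have hks : StabilizesChain N k := hk.1
    show StabilizesChain N (α * k * α⁻¹)
    intro i x hx
    have hy : α⁻¹ x ∈ N (i + 1) := hinv α⁻¹ ((F.autGroup Q).inv_mem hα) _ x hx
    have h1 := hks i _ hy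
    have h2 := hinv α hα i _ h1
    have e : α (k (α⁻¹ x) * (α⁻¹ x)⁻¹) = (α * k * α⁻¹) x * x⁻¹ := by
      simp [MulAut.mul_apply]
    rwa [e] at h2
  have hCp : IsPGroup p C := (chainStabilizer_isPGroup hQp N hN0 hNmono hNtop).to_le inf_le_left
  have hInnA : Inn Q ≤ F.autGroup Q := by
    rintro _ ⟨q, rfl⟩
    rw [mem_autGroup_iff F hQS]
    have h1 : conjHom Q (q : Ω) ∈ F.Hom Q := F.conj_mem hQS (hQS q.2)
    have e : autHom (MulAut.conj q) = conjHom Q (q : Ω) := by
      ext x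
      simp [conjHom, MulAut.conj_apply]
    rw [e]
    exact h1
  have hInnnorm : ∀ α ∈ F.autGroup Q, ∀ k ∈ Inn Q, α * k * α⁻¹ ∈ Inn Q := by
    rintro α - _ ⟨q, rfl⟩
    refine ⟨α q, ?_⟩
    ext x
    simp [MulAut.conj_apply]
  have hInnp : IsPGroup p (Inn Q) := by
    have : Inn Q = (⊤ : Subgroup Q).map (MulAut.conj : Q →* MulAut Q) := by
      rw [← MonoidHom.range_eq_map]
    rw [this]
    exact (IsPGroup.of_equiv hQp Subgroup.topEquiv.symm).map _
  have h𝒩p : IsPGroup p (C ⊔ Inn Q : Subgroup (MulAut Q)) := by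
    refine IsPGroup.to_sup_of_normal_right' hCp hInnp ?_
    intro α hα
    rw [Subgroup.mem_normalizer_iff]
    intro k
    constructor
    · intro hk
      exact hInnnorm α hα.2 k hk
    · intro hk
      have := hInnnorm α⁻¹ ((F.autGroup Q).inv_mem hα.2) _ hk
      simpa [mul_assoc] using this
  have h𝒩norm := sup_normalized hCnorm hInnnorm
  have hQ₁ := isNormal_preimage p hS F hF hQ hQc (C ⊔ Inn Q) h𝒩norm h𝒩p
  have hQ₁le : preimageSubgroup S Q (C ⊔ Inn Q) ≤ Q :=
    hmax _ hQ₁ (le_preimageSubgroup hQS le_sup_right)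
  intro x hx
  apply hQ₁le
  have hxT : x ∈ T := hx.1
  have hxS : x ∈ S := hT.1 hxT
  have hxN : x ∈ Subgroup.normalizer (Q : Set Ω) := hSNQ hxS
  refine ⟨hxS, Q.normalizerMonoidHom ⟨x, hxN⟩, le_sup_left (a := C) ⟨?_, ?_⟩, fun q => rfl⟩
  · -- stabilizes the chain
    show StabilizesChain N (Q.normalizerMonoidHom ⟨x, hxN⟩)
    intro i q hq
    have e : (((Q.normalizerMonoidHom ⟨x, hxN⟩ q * q⁻¹ : Q)) : Ω) = x * q * x⁻¹ * (q : Ω)⁻¹ := rfl
    rcases i with _ | _ | i
    · rw [hN0, Subgroup.mem_bot]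
      apply Subtype.ext
      rw [e]
      have hq' : (q : Ω) ∈ Q ⊓ T := by
        rw [zero_add, hN1] at hq
        exact hq
      have hcomm := (Subgroup.mem_centralizer_iff.1 hx.2) q hq'
      show x * q * x⁻¹ * (q : Ω)⁻¹ = 1
      rw [← hcomm]
      group
    · rw [hN1]
      show (((Q.normalizerMonoidHom ⟨x, hxN⟩ q * q⁻¹ : Q)) : Ω) ∈ Q ⊓ T
      refine ⟨(Q.normalizerMonoidHom ⟨x, hxN⟩ q * q⁻¹ : Q).2, ?_⟩
      rw [e]
      have hqN : (q : Ω) ∈ Subgroup.normalizer (T : Set Ω) := hSNT (hQS q.2)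
      have h1 : (q : Ω) * x⁻¹ * (q : Ω)⁻¹ ∈ T :=
        (Subgroup.mem_normalizer_iff.mp hqN _).mp (T.inv_mem hxT)
      have h2 := T.mul_mem hxT h1
      have e2 : x * ((q : Ω) * x⁻¹ * (q : Ω)⁻¹) = x * q * x⁻¹ * (q : Ω)⁻¹ := by group
      rwa [e2] at h2
    · rw [hN2 (i + 2) (by omega)]
      exact Subgroup.mem_top _
  · apply autInducedBy_le_autGroup F hQS
    rw [mem_autInducedBy_iff]
    exact ⟨x, hxS, fun y => rfl⟩

/-- A saturated subsystem, over a strongly closed subgroup, of a constrained system is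
constrained. -/
theorem isConstrained_of_subsystem [Finite S] (p : ℕ) [Fact p.Prime] (hS : IsPGroup p S)
    (F : FusionSystem S) (hF : F.IsConstrained p) {T : Subgroup Ω} (E : FusionSystem T)
    (hE : E.IsSaturated p) (hEF : E.IsSubsystemOf F) (hT : F.StronglyClosed T) :
    E.IsConstrained p := by
  obtain ⟨hFsat, Q₀, hQ₀, hQ₀c⟩ := hF
  obtain ⟨Q, hQ₀Q, hQ, hmax⟩ := exists_max_isNormal F hQ₀
  have hQc : F.IsCentric Q := isCentric_of_le F hQ₀c hQ₀Q hQ.1
  have hX := centralizerIn_inf_le p hS F hFsat hQ hQc hmax hT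
  have hA : F.IsNormal (Q ⊓ T) := isNormal_inf_stronglyClosed F hQ hT
  have hAE : E.IsNormal (Q ⊓ T) :=
    isNormal_subsystem_of_isNormal p hS F E hE hEF hA inf_le_right
  have hTS : T ≤ S := hT.1
  have hfinT : Finite T := finite_of_le hTS
  refine ⟨hE, Q ⊓ T, hAE, inf_le_right, ?_⟩
  rintro _ ⟨φ, hφ, rfl⟩
  have hAsc := stronglyClosed_of_isNormal E hAE
  have hle : φ.range ≤ Q ⊓ T := by
    rintro _ ⟨x, rfl⟩
    exact hAsc.2 (Q ⊓ T) le_rfl φ hφ x
  have hfinA : Finite ↥(Q ⊓ T) := finite_of_le (inf_le_right.trans hTS)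
  have heq : φ.range = Q ⊓ T := by
    refine Subgroup.eq_of_le_of_card_ge hle ?_
    exact (Nat.card_congr (MonoidHom.ofInjective (E.injective_of_mem hφ)).toEquiv).le
  rw [heq]
  intro x hx
  exact ⟨hX hx, hx.1⟩

/-- A subnormal subsystem of a constrained system is constrained. -/
theorem isConstrained_of_subnormal {T : Subgroup Ω} {E : FusionSystem T} {F : FusionSystem S}
    {p : ℕ} (h : E.IsSubnormalIn F p) :
    ∀ [Finite S] [Fact p.Prime], IsPGroup p S → F.IsConstrained p → E.IsConstrained p := by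
  induction h with
  | refl F p => intro _ _ _ hF; exact hF
  | step hED hDF ih =>
    rename_i U S E D F p
    intro _ _ hS hF
    have hUS : U ≤ S := hDF.1.2.2.2.1.1
    have hfinU : Finite U := finite_of_le hUS
    have hD : D.IsConstrained p :=
      isConstrained_of_subsystem p hS F hF D hDF.1.1 hDF.1.2.2.1 hDF.1.2.2.2.1
    exact ih (hS.of_injective (Subgroup.inclusion hUS) (Subgroup.inclusion_injective _)) hD

end Cfsg.Agent.Helper25
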