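import Mathlib
import Cfsg.Agent.Helper25.FusionConstrainedSub
import Cfsg.Agent.Helper25.FusionInduced
import Cfsg.Agent.Helper25.FusionFactorSat
import Cfsg.Agent.Helper25.FusionIso2

set_option autoImplicit false

/-! Factor systems of constrained systems modulo a central strongly closed subgroup are
constrained. -/

namespace Cfsg.Agent.Helper25

open Cfsg Cfsg.FusionSystem

section Stab

variable {Ω : Type*} [Group Ω] {S : Subgroup Ω}

/-- For a maximal normal centric subgroup `Q` of a saturated system and a strongly closed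
`A ≤ Q`: an element of `S` centralizing `A` and acting trivially on `Q/A` lies in `Q`. -/
theorem mem_of_stabilizes [Finite S] (p : ℕ) [Fact p.Prime] (hS : IsPGroup p S)
    (F : FusionSystem S) (hF : F.IsSaturated p) {Q A : Subgroup Ω} (hQ : F.IsNormal Q)
    (hQc : F.IsCentric Q) (hmax : ∀ Q'', F.IsNormal Q'' → Q ≤ Q'' → Q'' ≤ Q)
    (hA : F.StronglyClosed A) {x : Ω} (hxS : x ∈ S)
    (hxA : ∀ a ∈ A, x * a = a * x) (hxQ : ∀ q ∈ Q, x * q * x⁻¹ * q⁻¹ ∈ A) : x ∈ Q := by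
  have hQS : Q ≤ S := hQ.1
  have hfinQ : Finite Q := finite_of_le hQS
  have hQp : IsPGroup p Q := isPGroup_of_le hS hQS
  have hSNQ : S ≤ Subgroup.normalizer (Q : Set Ω) := le_normalizer_of_isNormal F hQ
  let N : ℕ → Subgroup Q := fun i =>
    if i = 0 then ⊥ else if i = 1 then A.subgroupOf Q else ⊤
  have hN0 : N 0 = ⊥ := rfl
  have hN1 : N 1 = A.subgroupOf Q := rfl
  have hN2 : ∀ i, 2 ≤ i → N i = ⊤ := by
    intro i hi
    show (if i = 0 then ⊥ else if i = 1 then A.subgroupOf Q else ⊤) = ⊤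
    rw [if_neg (by omega), if_neg (by omega)]
  have hNmono : Monotone N := by
    apply monotone_nat_of_le_succ
    intro i
    rcases i with _ | _ | i
    · rw [hN0]; exact bot_le
    · rw [hN2 2 le_rfl]; exact le_top
    · rw [hN2 (i + 2 + 1) (by omega)]; exact le_top
  have hNtop : N 2 = ⊤ := hN2 2 le_rfl
  have hinv : ∀ β ∈ F.autGroup Q, ∀ i, ∀ y ∈ N i, β y ∈ N i := by
    intro β hβ i y hy
    rcases i with _ | _ | i
    · rw [hN0, Subgroup.mem_bot] at hy ⊢
      rw [hy, map_one]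
    · rw [hN1] at hy ⊢
      exact autGroup_apply_mem_of_stronglyClosed F hA hQS β hβ y hy
    · rw [hN2 (i + 2) (by omega)]
      exact Subgroup.mem_top _
  set C : Subgroup (MulAut Q) := chainStabilizer hQp N hN0 hNmono hNtop ⊓ F.autGroup Q with hC
  have hCnorm : ∀ α ∈ F.autGroup Q, ∀ k ∈ C, α * k * α⁻¹ ∈ C := by
    intro α hα k hk
    refine ⟨?_, (F.autGroup Q).mul_mem ((F.autGroup Q).mul_mem hα hk.2)
      ((F.autGroup Q).inv_mem hα)⟩
    have hks : StabilizesChain N k := hk.1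
    show StabilizesChain N (α * k * α⁻¹)
    intro i y hy
    have hy' : α⁻¹ y ∈ N (i + 1) := hinv α⁻¹ ((F.autGroup Q).inv_mem hα) _ y hy
    have h1 := hks i _ hy'
    have h2 := hinv α hα i _ h1
    have e : α (k (α⁻¹ y) * (α⁻¹ y)⁻¹) = (α * k * α⁻¹) y * y⁻¹ := by
      simp [MulAut.mul_apply]
    rwa [e] at h2
  have hCp : IsPGroup p C := (chainStabilizer_isPGroup hQp N hN0 hNmono hNtop).to_le inf_le_left
  have hInnnorm : ∀ α ∈ F.autGroup Q, ∀ k ∈ Inn Q, α * k * α⁻¹ ∈ Inn Q := by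
    rintro α - _ ⟨q, rfl⟩
    refine ⟨α q, ?_⟩
    ext y
    simp [MulAut.conj_apply]
  have hInnp : IsPGroup p (Inn Q) := by
    have : Inn Q = (⊤ : Subgroup Q).map (MulAut.conj : Q →* MulAut Q) := by
      rw [← MonoidHom.range_eq_map]
    rw [this]
    exact (IsPGroup.of_equiv hQp Subgroup.topEquiv.symm).map _
  have h𝒩p : IsPGroup p (C ⊔ Inn Q : Subgroup (MulAut Q)) := by
    refine IsPGroup.to_sup_of_normal_right' hCp hInnp ?_
    intro α hα
    rw [Subgroup.mem_normalizer_iff]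
    intro k
    constructor
    · intro hk
      exact hInnnorm α hα.2 k hk
    · intro hk
      have := hInnnorm α⁻¹ ((F.autGroup Q).inv_mem hα.2) _ hk
      simpa [mul_assoc] using this
  have h𝒩norm := sup_normalized hCnorm hInnnorm
  have hQ₁ := isNormal_preimage p hS F hF hQ hQc (C ⊔ Inn Q) h𝒩norm h𝒩p
  have hQ₁le : preimageSubgroup S Q (C ⊔ Inn Q) ≤ Q :=
    hmax _ hQ₁ (le_preimageSubgroup hQS le_sup_right)
  apply hQ₁le
  have hxN : x ∈ Subgroup.normalizer (Q : Set Ω) := hSNQ hxS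
  refine ⟨hxS, Q.normalizerMonoidHom ⟨x, hxN⟩, le_sup_left (a := C) ⟨?_, ?_⟩, fun q => rfl⟩
  · show StabilizesChain N (Q.normalizerMonoidHom ⟨x, hxN⟩)
    intro i q hq
    have e : (((Q.normalizerMonoidHom ⟨x, hxN⟩ q * q⁻¹ : Q)) : Ω) = x * q * x⁻¹ * (q : Ω)⁻¹ := rfl
    rcases i with _ | _ | i
    · rw [hN0, Subgroup.mem_bot]
      apply Subtype.ext
      rw [e]
      have hq' : (q : Ω) ∈ A := by
        rw [zero_add, hN1] at hq
        exact hq
      have hcomm := hxA q hq'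
      show x * q * x⁻¹ * (q : Ω)⁻¹ = 1
      rw [hcomm]
      group
    · rw [hN1]
      show (((Q.normalizerMonoidHom ⟨x, hxN⟩ q * q⁻¹ : Q)) : Ω) ∈ A
      rw [e]
      exact hxQ q q.2
    · rw [hN2 (i + 2) (by omega)]
      exact Subgroup.mem_top _
  · apply autInducedBy_le_autGroup F hQS
    rw [mem_autInducedBy_iff]
    exact ⟨x, hxS, fun y => rfl⟩

end Stab

section Factor

variable {Ω Ω' : Type*} [Group Ω] [Group Ω'] {S : Subgroup Ω} {S' : Subgroup Ω'}

/-- The factor system of a constrained system modulo a strongly closed subgroup of `Z(S)` is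
constrained. -/
theorem factor_isConstrained [Finite S] (p : ℕ) [Fact p.Prime] (hS : IsPGroup p S)
    (F : FusionSystem S) (hF : F.IsConstrained p) {T₀ : Subgroup Ω}
    (hT₀ : F.StronglyClosed T₀) (hT₀c : ∀ s ∈ S, ∀ t ∈ T₀, s * t = t * s)
    (θ : S →* Ω') (F' : FusionSystem S') (hE : F.IsFactorSystem T₀ θ F') :
    F'.IsConstrained p := by
  obtain ⟨hFsat, Q₀, hQ₀, hQ₀c⟩ := hF
  obtain ⟨Q, hQ₀Q, hQ, hmax⟩ := exists_max_isNormal F hQ₀
  have hQc : F.IsCentric Q := isCentric_of_le F hQ₀c hQ₀Q hQ.1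
  have hTQ : T₀ ≤ Q := by
    intro t ht
    apply hQc.2 Q (isConj_refl F hQ.1)
    refine ⟨hT₀.1 ht, ?_⟩
    show t ∈ Subgroup.centralizer (Q : Set Ω)
    rw [Subgroup.mem_centralizer_iff]
    intro q hq
    exact hT₀c q (hQ.1 hq) t ht
  obtain ⟨hTS, hker, hrange, hiff⟩ := hE
  have hQ' := factor_isNormal F hT₀ θ hker hrange F' hiff hQ
  have hsat' : F'.IsSaturated p := factor_isSaturated F hT₀ θ hker hrange F' hiff p hS hFsat
  have hfinS' : Finite S' := by
    rw [← hrange]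
    exact Finite.of_surjective θ.rangeRestrict θ.rangeRestrict_surjective
  refine ⟨hsat', imageAlong θ Q, hQ', hQ'.1, ?_⟩
  rintro _ ⟨φ', hφ', rfl⟩
  have hsc := stronglyClosed_of_isNormal F' hQ'
  have hle : φ'.range ≤ imageAlong θ Q := by
    rintro _ ⟨x, rfl⟩
    exact hsc.2 _ le_rfl φ' hφ' x
  have hfinQ' : Finite ↥(imageAlong θ Q) := finite_of_le hQ'.1
  have heq : φ'.range = imageAlong θ Q := by
    refine Subgroup.eq_of_le_of_card_ge hle ?_
    exact (Nat.card_congr (MonoidHom.ofInjective (F'.injective_of_mem hφ')).toEquiv).le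
  rw [heq]
  rintro y ⟨hyS', hyc⟩
  rw [← hrange] at hyS'
  obtain ⟨x, rfl⟩ := hyS'
  rw [mem_imageAlong_iff]
  refine ⟨x, ?_, rfl⟩
  refine mem_of_stabilizes p hS F hFsat hQ hQc hmax hT₀ x.2 (fun a ha => hT₀c x x.2 a ha) ?_
  intro q hq
  have hqS : q ∈ S := hQ.1 hq
  have h1 : θ ⟨q, hqS⟩ ∈ imageAlong θ Q := (mem_imageAlong_iff θ Q _).mpr ⟨⟨q, hqS⟩, hq, rfl⟩
  have h2 := (Subgroup.mem_centralizer_iff.1 hyc) _ h1
  have h3 : θ (x * ⟨q, hqS⟩ * x⁻¹ * ⟨q, hqS⟩⁻¹) = 1 := by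
    rw [map_mul, map_mul, map_mul, map_inv, map_inv, ← h2]
    group
  exact (hker _).mp h3

end Factor

end Cfsg.Agent.Helper25
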