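import Mathlib
import Cfsg.Agent.Helper25.FusionIso8
import Cfsg.Agent.Helper25.FusionIso7
import Cfsg.Agent.Helper25.FusionConstrainedSub
import Cfsg.Agent.Helper25.FusionSubgroupSat
import Cfsg.Agent.Helper3.SylowSubnormal

set_option autoImplicit false

/-! If the `p`-fusion system of a finite group is constrained, so is that of every subnormal
subgroup. -/

namespace Cfsg.Agent.Helper25

open Cfsg Cfsg.FusionSystem

variable {G : Type*} [Group G] [Finite G]

/-- Ambient form. -/
theorem subnormal_constrained_ambient (p : ℕ) [Fact p.Prime] (S : Sylow p G)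
    (hF : (groupFusionSystem (S : Subgroup G)).IsConstrained p) (H : Subgroup G)
    (hH : H.IsSubnormal) :
    ∀ (T : Subgroup G) (_ : T = (S : Subgroup G) ⊓ H) (hTH : T ≤ H),
      (fusionSystemOfSubgroup H T hTH).IsConstrained p := by
  induction hH with
  | top =>
    intro T hT hTH
    have hT' : T = (S : Subgroup G) := by rw [hT, inf_top_eq]
    subst hT'
    have e : fusionSystemOfSubgroup ⊤ (S : Subgroup G) hTH = groupFusionSystem (S : Subgroup G) := by
      apply fusionSystem_ext
      intro P
      ext φ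
      constructor
      · rintro ⟨h1, h2, g, -, hg⟩
        exact ⟨h1, h2, g, hg⟩
      · rintro ⟨h1, h2, g, hg⟩
        exact ⟨h1, h2, g, Subgroup.mem_top g, hg⟩
    rw [e]
    exact hF
  | step H K hHK hK hN ih =>
    intro T hT hTH
    subst hT
    have hFK := ih ((S : Subgroup G) ⊓ K) rfl inf_le_right
    have hle : (S : Subgroup G) ⊓ H ≤ (S : Subgroup G) ⊓ K := inf_le_inf_left _ hHK
    have hSKp : IsPGroup p ↥((S : Subgroup G) ⊓ K) := S.isPGroup'.to_le inf_le_left
    -- `S ∩ H` is a Sylow subgroup of `H`
    have hsub : H.IsSubnormal := Subgroup.IsSubnormal.step H K hHK hK hN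
    have hsyl : IsSylowIn p (S : Subgroup G) H := by
      rw [isSylowIn_iff_card]
      exact Cfsg.Agent.Helper3.card_sylow_inf_subnormal S H hsub
    obtain ⟨R, hR⟩ := hsyl
    have hR' : (R : Subgroup H) = ((S : Subgroup G) ⊓ H).subgroupOf H := by
      rw [hR, Subgroup.inf_subgroupOf_right]
    have hEsat := fusionSystemOfSubgroup_isSaturated p H ((S : Subgroup G) ⊓ H) hTH R hR'
    refine isConstrained_of_subsystem p hSKp _ hFK _ hEsat ?_ ?_
    · rintro P φ ⟨h1, h2, g, hg, hgφ⟩
      exact ⟨h1.trans hle, fun x => hle (h2 x), g, hHK hg, hgφ⟩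
    · refine ⟨hle, fun R' hR' φ hφ x => ?_⟩
      obtain ⟨-, h2, g, hg, hgφ⟩ := hφ
      refine ⟨(h2 x).1, ?_⟩
      rw [hgφ x]
      have hxH : (x : G) ∈ H := (hR' x.2).2
      have := hN.conj_mem ⟨x, hHK hxH⟩ hxH ⟨g, hg⟩
      exact this

/-- If the `p`-fusion system of `G` is constrained then so is that of every subnormal subgroup. -/
theorem subnormal_constrained (p : ℕ) [Fact p.Prime] (S : Sylow p G)
    (hF : (groupFusionSystem (S : Subgroup G)).IsConstrained p) (H : Subgroup G)
    (hH : H.IsSubnormal) :
    (groupFusionSystem ((S : Subgroup G).subgroupOf H)).IsConstrained p := by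
  have h1 := subnormal_constrained_ambient p S hF H hH _ rfl inf_le_right
  have hι := fusionSystemOfSubgroup_isRealizedBy H ((S : Subgroup G) ⊓ H) inf_le_right
  have hfac := isFactorSystem_of_isRealizedBy hι
  have hp : IsPGroup p ↥((S : Subgroup G) ⊓ H) := S.isPGroup'.to_le inf_le_left
  have h2 := iso_isConstrained p hp hfac h1
  have key : ∀ R : Subgroup ↥H,
      R = (Subgroup.inclusion (inf_le_right : (S : Subgroup G) ⊓ H ≤ H)).range →
      (groupFusionSystem R).IsConstrained p := by
    rintro R rfl
    exact h2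
  apply key
  rw [Subgroup.inclusion_range, Subgroup.inf_subgroupOf_right]

end Cfsg.Agent.Helper25
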