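import Mathlib
import Cfsg.Prelude.Def_Local
import Cfsg.Agent.Helper25.FusionFactorConstrained
import Cfsg.Agent.Helper25.FusionSubnormalGroup
import Cfsg.Agent.Helper25.FusionQuotGroup
import Cfsg.Agent.Helper25.FusionNormalSubgroup

set_option autoImplicit false

/-! Constrained fusion and central quotients of subnormal subgroups. -/

namespace Cfsg.Agent.Helper25

open Cfsg Cfsg.FusionSystem

variable {G : Type*} [Group G] [Finite G]

/-- If the `p`-fusion system of `G` is constrained and `L` is subnormal in `G`, then the `p`-fusion
system of `L/Z(L)` is constrained. -/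
theorem subnormal_center_quotient_constrained (p : ℕ) [Fact p.Prime] (S : Sylow p G)
    (hF : (groupFusionSystem (S : Subgroup G)).IsConstrained p) (L : Subgroup G)
    (hL : L.IsSubnormal) :
    (groupFusionSystem (((S : Subgroup G).subgroupOf L).map
      (QuotientGroup.mk' (Subgroup.center L)))).IsConstrained p := by
  have h1 := subnormal_constrained p S hF L hL
  have hsyl : IsSylowIn p (S : Subgroup G) L := by
    rw [isSylowIn_iff_card]
    exact Cfsg.Agent.Helper3.card_sylow_inf_subnormal S L hL
  obtain ⟨T', hT'⟩ := hsyl
  rw [← hT'] at h1 ⊢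
  have hfac := groupFusion_isFactorSystem p T' (Subgroup.center L)
  have hT₀ := inf_normal_stronglyClosed p T' (Subgroup.center L)
  refine factor_isConstrained p T'.isPGroup' _ h1 hT₀ ?_ _ _ hfac
  intro s _ t ht
  exact Subgroup.mem_center_iff.1 ht.2 s

end Cfsg.Agent.Helper25
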