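import Mathlib
import Cfsg.Agent.Helper25.FusionLift
import Cfsg.Agent.Helper25.FusionKNormSys
import Cfsg.Agent.Helper25.FusionInvariant
import Cfsg.Agent.S5077

set_option autoImplicit false

/-! Saturated fusion systems over a direct product `S = S₁ × S₂` of two strongly closed subgroups:
the full subsystem on `S₁` and the centralizer of `S₂` on `S₁`. -/

namespace Cfsg.Agent.Helper25

open Cfsg Cfsg.FusionSystem

variable {Ω : Type*} [Group Ω] {S : Subgroup Ω}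

/-- In a saturated system, a map whose source lies in a strongly closed subgroup `A` extends over
a strongly closed subgroup `B` meeting `A` trivially. -/
theorem exists_extension_of_disjoint [Finite S] (p : ℕ) [Fact p.Prime] (hS : IsPGroup p S)
    (F : FusionSystem S) (hF : F.IsSaturated p) {A B : Subgroup Ω} (hA : F.StronglyClosed A)
    (hB : F.StronglyClosed B) (hAB : A ⊓ B = ⊥) {P : Subgroup Ω} (hPA : P ≤ A) {φ : P →* Ω}
    (hφ : φ ∈ F.Hom P) :
    ∃ ψ ∈ F.Hom (P ⊔ B), ∀ x : P, ψ (Subgroup.inclusion le_sup_left x) = φ x := by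
  obtain ⟨-, ψ, hψ, hl⟩ := le_liftSystem p hS F hF hB P hφ
  refine ⟨ψ, hψ, fun x => ?_⟩
  have h1 : φ x ∈ A := hA.2 P hPA φ hφ x
  have h2 : ψ (Subgroup.inclusion le_sup_left x) ∈ A :=
    hA.2 P hPA _ (restrict_mem F le_sup_left hψ) x
  have h3 : (φ x)⁻¹ * ψ (Subgroup.inclusion le_sup_left x) ∈ A ⊓ B :=
    ⟨A.mul_mem (A.inv_mem h1) h2, hl x⟩
  rw [hAB, Subgroup.mem_bot] at h3
  exact (inv_mul_eq_one.mp h3).symm

/-- Elements of the join of two elementwise commuting subgroups are products. -/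
theorem exists_mul_of_mem_sup_commute {G : Type*} [Group G] {A C : Subgroup G}
    (h : ∀ a ∈ A, ∀ c ∈ C, a * c = c * a) {x : G}
    (hx : x ∈ A ⊔ C) : ∃ a ∈ A, ∃ c ∈ C, x = a * c := by
  have hle : A ≤ Subgroup.normalizer (C : Set G) := by
    intro a ha
    apply Subgroup.centralizer_le_normalizer
    rw [Subgroup.mem_centralizer_iff]
    intro c hc
    exact (h a ha c hc).symm
  have h1 := Subgroup.coe_mul_of_left_le_normalizer_right A C hle
  have h2 : x ∈ ((A ⊔ C : Subgroup G) : Set G) := hx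
  rw [h1] at h2
  obtain ⟨a, ha, c, hc, rfl⟩ := h2
  exact ⟨a, ha, c, hc, rfl⟩

/-- `Aut_A(Q) = Aut_S(Q)` for `Q ≤ A` when `S = A × B`. -/
theorem autInducedBy_eq_of_directProduct {A B : Subgroup Ω}
    (hprod : Cfsg.IsInternalDirectProduct A B S) {Q : Subgroup Ω} (hQA : Q ≤ A) :
    autInducedBy A Q = autInducedBy S Q := by
  obtain ⟨hAS, hBS, hcomm, hinf, hsup⟩ := hprod
  unfold autInducedBy
  congr 1
  ext α
  constructor
  · rintro ⟨g, hg, h⟩
    exact ⟨g, hAS hg, h⟩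
  · rintro ⟨g, hg, h⟩
    rw [← hsup] at hg
    obtain ⟨a, ha, b, hb, rfl⟩ := exists_mul_of_mem_sup_commute hcomm hg
    refine ⟨a, ha, fun x => ?_⟩
    rw [h x]
    have hxb : (x : Ω) * b = b * x := hcomm x (hQA x.2) b hb
    calc a * b * (x : Ω) * (a * b)⁻¹ = a * (b * x) * b⁻¹ * a⁻¹ := by group
      _ = a * (x * b) * b⁻¹ * a⁻¹ := by rw [hxb]
      _ = a * x * a⁻¹ := by group

/-- The full subsystem on a direct factor `A` of `S` that is strongly closed is saturated. -/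
theorem isSaturated_of_directProduct [Finite S] (p : ℕ) [Fact p.Prime] (hS : IsPGroup p S)
    (F : FusionSystem S) (hF : F.IsSaturated p) {A B : Subgroup Ω}
    (hprod : Cfsg.IsInternalDirectProduct A B S) (hA : F.StronglyClosed A)
    (E : FusionSystem A) (hE : ∀ P : Subgroup Ω, P ≤ A → E.Hom P = F.Hom P) :
    E.IsSaturated p := by
  have hAS : A ≤ S := hprod.1
  intro P hPA
  obtain ⟨Q, ⟨φ, hφ, hφr⟩, hQFN⟩ := exists_isConj_fullyNormalized F (hPA.trans hAS)
  have hQA : Q ≤ A := by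
    rw [← hφr]
    rintro _ ⟨x, rfl⟩
    exact hA.2 P hPA φ hφ x
  obtain ⟨hFC, hFA⟩ := Cfsg.Agent.S5077.sylow_axiom p hS F hF Q hQFN
  have hrec := Cfsg.Agent.S5077.extension_axiom p hS F hF Q hFC
  refine ⟨Q, ⟨φ, by rw [hE P hPA]; exact hφ, hφr⟩, ⟨hQA, ?_⟩, ⟨hQA, ?_⟩⟩
  · have hAut : E.autGroup Q = F.autGroup Q := by
      unfold FusionSystem.autGroup
      rw [hE Q hQA]
    rw [hAut, autInducedBy_eq_of_directProduct hprod hQA]
    exact hFA.2
  · intro P' φ' hφ' hr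
    have hP'A : P' ≤ A := (E.le_of_mem hφ').1
    have hφ'F : φ' ∈ F.Hom P' := by rw [← hE P' hP'A]; exact hφ'
    obtain ⟨ψ, hψ, hψe⟩ := hrec.2 P' φ' hφ'F hr
    have hle : extender A P' φ' ≤ extender S P' φ' := by
      apply Subgroup.closure_mono
      rintro g ⟨hgA, hgN, h, hhA, hh⟩
      exact ⟨hAS hgA, hgN, h, hAS hhA, hh⟩
    have hleA : extender A P' φ' ≤ A := by
      unfold extender
      rw [Subgroup.closure_le]
      rintro g ⟨hgA, -⟩
      exact hgA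
    refine ⟨ψ.comp (Subgroup.inclusion hle), ?_, ?_⟩
    · rw [hE _ hleA]
      exact restrict_mem F hle hψ
    · intro x hP hN
      exact hψe x hP (hle hN)

/-- The full subsystem on a strongly closed subgroup satisfies the strong invariance condition. -/
theorem strongInv_of_full (F : FusionSystem S) {A : Subgroup Ω} (hA : F.StronglyClosed A)
    (E : FusionSystem A) (hE : ∀ P : Subgroup Ω, P ≤ A → E.Hom P = F.Hom P) : StrongInv E F := by
  intro P Q hPQ hQA φ hφ hφQ ψ hψ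
  have hPA := hPQ.trans hQA
  have hφF : φ ∈ F.Hom P := by rw [← hE P hPA]; exact hφ
  have hψP : ψ.comp (Subgroup.inclusion hPQ) ∈ F.Hom P := restrict_mem F hPQ hψ
  have hr : (ψ.comp (Subgroup.inclusion hPQ)).range = (P.subgroupOf Q).map ψ := by
    ext y
    constructor
    · rintro ⟨x, rfl⟩
      exact ⟨Subgroup.inclusion hPQ x, x.2, rfl⟩
    · rintro ⟨y, hy, rfl⟩
      exact ⟨⟨y, hy⟩, rfl⟩
  have hP₂A : (P.subgroupOf Q).map ψ ≤ A := by
    rintro _ ⟨y, -, rfl⟩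
    exact hA.2 Q hQA ψ hψ y
  obtain ⟨ρ, hρ, hρe, hρr⟩ := exists_inv_mem F hψP hr
  have hρP : ∀ y, ρ y ∈ P := fun y => hρr.le ⟨y, rfl⟩
  have h1 : (φ.comp (ρ.codRestrict P hρP)) ∈ F.Hom _ := F.comp_mem hρ hφF hρP
  have h2 := F.comp_mem h1 hψ (fun y => hφQ _)
  refine ⟨_, by rw [hE _ hP₂A]; exact h2, ?_⟩
  intro x hx
  have e : (⟨ρ ⟨ψ (Subgroup.inclusion hPQ x), hx⟩, hρP _⟩ : P) = x :=
    Subtype.ext (hρe x hx)
  simp only [MonoidHom.comp_apply]
  congr 1
  apply Subtype.ext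
  simp only [MonoidHom.codRestrict_apply, MonoidHom.comp_apply]
  congr 1

/-- The subsystem on `A` of maps centralizing `B` satisfies the strong invariance condition. -/
theorem strongInv_of_centralizer [Finite S] (p : ℕ) [Fact p.Prime] (hS : IsPGroup p S)
    (F : FusionSystem S) (hF : F.IsSaturated p) {A B : Subgroup Ω} (hA : F.StronglyClosed A)
    (hB : F.StronglyClosed B) (hAB : A ⊓ B = ⊥) (hcomm : ∀ a ∈ A, ∀ b ∈ B, a * b = b * a)
    (E : FusionSystem A) (hE : ∀ P : Subgroup Ω, P ≤ A → E.Hom P = F.centralizerHom B P) :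
    StrongInv E F := by
  intro P Q hPQ hQA φ hφ hφQ ψ hψ
  have hPA := hPQ.trans hQA
  have hAS := hA.1
  have hBS := hB.1
  have hAC : A ≤ centralizerIn S B := by
    intro a ha
    refine ⟨hAS ha, ?_⟩
    apply Subgroup.mem_centralizer_iff.mpr
    intro b hb
    exact (hcomm a ha b hb).symm
  rw [hE P hPA] at hφ
  obtain ⟨hφF, -, -, φt, hφt, hφtP, hφtB⟩ := hφ
  obtain ⟨ψt, hψt, hψtQ⟩ := exists_extension_of_disjoint p hS F hF hA hB hAB hQA hψ
  have hSS : F.StronglyClosed S := ⟨le_rfl, fun R _ χ hχ x => (F.le_of_mem hχ).2 x⟩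
  have hSI : StrongInv F F := strongInv_of_full F hSS F (fun _ _ => rfl)
  have hle : P ⊔ B ≤ Q ⊔ B := sup_le_sup_right hPQ B
  -- values of the extension of φ
  have hφtv : ∀ z : ↥(P ⊔ B), φt z ∈ Q ⊔ B := by
    intro z
    obtain ⟨x, hx, b, hb, hz⟩ := exists_mul_of_mem_sup_commute
      (fun a ha b hb => hcomm a (hPA ha) b hb) z.2
    have e : z = Subgroup.inclusion le_sup_left (⟨x, hx⟩ : P) *
        Subgroup.inclusion le_sup_right (⟨b, hb⟩ : B) := Subtype.ext hz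
    rw [e, map_mul, hφtP, hφtB]
    exact Subgroup.mul_mem _ (Subgroup.mem_sup_left (hφQ _)) (Subgroup.mem_sup_right hb)
  obtain ⟨χt, hχt, hχte⟩ := hSI (P ⊔ B) (Q ⊔ B) hle (sup_le (hQA.trans hAS) hBS) φt hφt hφtv ψt hψt
  -- the source of χt
  obtain ⟨hB1, hB2⟩ := stronglyClosed_mem_iff F hB le_sup_right hψt
  have hsrc : ((P ⊔ B).subgroupOf (Q ⊔ B)).map ψt = (P.subgroupOf Q).map ψ ⊔ B := by
    apply le_antisymm
    · rintro _ ⟨z, hz, rfl⟩
      have hz' : (z : Ω) ∈ P ⊔ B := hz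
      obtain ⟨x, hx, b, hb, hzxb⟩ := exists_mul_of_mem_sup_commute
        (fun a ha b hb => hcomm a (hPA ha) b hb) hz'
      have e : z = Subgroup.inclusion le_sup_left (⟨x, hPQ hx⟩ : Q) *
          Subgroup.inclusion le_sup_right (⟨b, hb⟩ : B) := Subtype.ext hzxb
      rw [e, map_mul, hψtQ]
      refine Subgroup.mul_mem _ (Subgroup.mem_sup_left ⟨⟨x, hPQ hx⟩, hx, rfl⟩)
        (Subgroup.mem_sup_right ?_)
      exact (hB1 _).mpr hb
    · refine sup_le ?_ ?_
      · rintro _ ⟨y, hy, rfl⟩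
        refine ⟨Subgroup.inclusion le_sup_left y, ?_, hψtQ y⟩
        show ((Subgroup.inclusion le_sup_left y : ↥(Q ⊔ B)) : Ω) ∈ P ⊔ B
        exact Subgroup.mem_sup_left hy
      · intro b hb
        obtain ⟨z, hz, hzb⟩ := hB2 b hb
        exact ⟨z, Subgroup.mem_sup_right hz, hzb⟩
  have hP₂A : (P.subgroupOf Q).map ψ ≤ A := by
    rintro _ ⟨y, -, rfl⟩
    exact hA.2 Q hQA ψ hψ y
  -- the candidate
  have hχ' := cast_mem F hsrc.symm hχt
  have hχ := restrict_mem F (le_sup_left : (P.subgroupOf Q).map ψ ≤ (P.subgroupOf Q).map ψ ⊔ B) hχ'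
  refine ⟨(χt.comp (Subgroup.inclusion hsrc.symm.le)).comp (Subgroup.inclusion le_sup_left), ?_, ?_⟩
  · rw [hE _ hP₂A]
    refine ⟨hχ, hP₂A.trans hAC, fun y => hAC (hA.2 _ hP₂A _ hχ y), _, hχ', fun _ => rfl, ?_⟩
    intro b
    obtain ⟨z, hz, hzb⟩ := hB2 b b.2
    have hzPB : (z : Ω) ∈ P ⊔ B := Subgroup.mem_sup_right hz
    have h1 := hχte ⟨z, hzPB⟩ ⟨z, hzPB, rfl⟩
    have e1 : (Subgroup.inclusion hle ⟨(z : Ω), hzPB⟩ : ↥(Q ⊔ B)) = z := Subtype.ext rfl
    have e2 : φt ⟨(z : Ω), hzPB⟩ = (z : Ω) := hφtB ⟨z, hz⟩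
    simp only [MonoidHom.comp_apply]
    have e3 : (Subgroup.inclusion hsrc.symm.le (Subgroup.inclusion le_sup_right b) :
        ↥(((P ⊔ B).subgroupOf (Q ⊔ B)).map ψt)) =
        ⟨ψt (Subgroup.inclusion hle ⟨(z : Ω), hzPB⟩), ⟨z, hzPB, by rw [e1]⟩⟩ := by
      apply Subtype.ext
      simp only [Subgroup.coe_inclusion]
      rw [e1, hzb]
    rw [e3, h1]
    have e4 : (⟨φt ⟨(z : Ω), hzPB⟩, hφtv _⟩ : ↥(Q ⊔ B)) = z := Subtype.ext e2
    rw [e4, hzb]
  · intro x hx
    have hxPB : (x : Ω) ∈ P ⊔ B := Subgroup.mem_sup_left x.2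
    have h1 := hχte ⟨x, hxPB⟩
    have e1 : (Subgroup.inclusion hle ⟨(x : Ω), hxPB⟩ : ↥(Q ⊔ B)) =
        Subgroup.inclusion le_sup_left (Subgroup.inclusion hPQ x) := Subtype.ext rfl
    have e2 : φt ⟨(x : Ω), hxPB⟩ = φ x := hφtP x
    have hmem : ψt (Subgroup.inclusion hle ⟨(x : Ω), hxPB⟩) ∈
        ((P ⊔ B).subgroupOf (Q ⊔ B)).map ψt := ⟨_, hxPB, rfl⟩
    have h2 := h1 hmem
    simp only [MonoidHom.comp_apply]
    have e3 : (Subgroup.inclusion hsrc.symm.le (Subgroup.inclusion le_sup_left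
        (⟨ψ (Subgroup.inclusion hPQ x), hx⟩ : ↥((P.subgroupOf Q).map ψ))) :
        ↥(((P ⊔ B).subgroupOf (Q ⊔ B)).map ψt)) =
        ⟨ψt (Subgroup.inclusion hle ⟨(x : Ω), hxPB⟩), hmem⟩ := by
      apply Subtype.ext
      simp only [Subgroup.coe_inclusion]
      rw [e1, hψtQ]
    rw [e3, h2]
    have e4 : (⟨φt ⟨(x : Ω), hxPB⟩, hφtv _⟩ : ↥(Q ⊔ B)) =
        Subgroup.inclusion le_sup_left (⟨φ x, hφQ x⟩ : Q) := Subtype.ext e2
    rw [e4, hψtQ]

/-- A strongly closed subgroup is its only conjugate, hence fully centralized. -/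
theorem isFullyCentralized_of_stronglyClosed [Finite S] (F : FusionSystem S) {T : Subgroup Ω}
    (hT : F.StronglyClosed T) : F.IsFullyCentralized T := by
  refine ⟨hT.1, ?_⟩
  rintro Q ⟨φ, hφ, hr⟩
  have hfinT : Finite T := finite_of_le hT.1
  have hle : φ.range ≤ T := by
    rintro _ ⟨x, rfl⟩
    exact hT.2 T le_rfl φ hφ x
  have hfinr : Finite φ.range := finite_of_le (hle.trans hT.1)
  have hcard : Nat.card T ≤ Nat.card φ.range :=
    Nat.card_le_card_of_injective (fun x => (⟨φ x, x, rfl⟩ : φ.range))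
      (fun x y hxy => F.injective_of_mem hφ (congrArg Subtype.val hxy))
  have : φ.range = T := Subgroup.eq_of_le_of_card_ge hle hcard
  rw [← hr, this]

/-- Building the extension required by the extension condition from a map of the system. -/
theorem exists_ext_of_hom (G : FusionSystem S) {T U : Subgroup Ω}
    (hU : U = T ⊔ centralizerIn S T) (α : MulAut T) (ψ : ↥U →* Ω) (hψ : ψ ∈ G.Hom U)
    (hrange : ψ.range = U) (hTU : T ≤ U)
    (hα : ∀ x : T, ψ (Subgroup.inclusion hTU x) = ((α x : T) : Ω))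
    (hc : ∀ c : U, (c : Ω) ∈ centralizerIn S T →
      (c : Ω)⁻¹ * ψ c ∈ T ⊓ Subgroup.centralizer (T : Set Ω)) :
    ∃ β ∈ G.autGroup (T ⊔ centralizerIn S T),
      (∀ x : T, ((β (Subgroup.inclusion le_sup_left x) : ↥(T ⊔ centralizerIn S T)) : Ω) =
        ((α x : T) : Ω)) ∧
      ∀ c : ↥(T ⊔ centralizerIn S T), (c : Ω) ∈ centralizerIn S T →
        (c : Ω)⁻¹ * ((β c : ↥(T ⊔ centralizerIn S T)) : Ω) ∈
          T ⊓ Subgroup.centralizer (T : Set Ω) := by
  subst hU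
  have hUS : T ⊔ centralizerIn S T ≤ S := (G.le_of_mem hψ).1
  refine ⟨isoOfHom ψ (G.injective_of_mem hψ) hrange, ?_, fun x => hα x, fun c hcc => hc c hcc⟩
  rw [mem_autGroup_iff G hUS]
  exact hψ

theorem aut_apply_mem_centralizer_dp {T : Subgroup Ω} (α : MulAut T) {z : T}
    (hz : (z : Ω) ∈ Subgroup.centralizer (T : Set Ω)) :
    ((α z : T) : Ω) ∈ Subgroup.centralizer (T : Set Ω) := by
  apply Subgroup.mem_centralizer_iff.mpr
  intro t ht
  have h1 : (⟨t, ht⟩ : T) = α (α.symm ⟨t, ht⟩) := (MulEquiv.apply_symm_apply α _).symm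
  have h2 : (α.symm ⟨t, ht⟩ : T) * z = z * α.symm ⟨t, ht⟩ := by
    apply Subtype.ext
    exact (Subgroup.mem_centralizer_iff.mp hz) _ (α.symm ⟨t, ht⟩).2
  have h3 : (⟨t, ht⟩ : T) * α z = α z * ⟨t, ht⟩ := by
    rw [h1, ← map_mul, ← map_mul, h2]
  exact congrArg Subtype.val h3

/-- `a⁻¹ α(a) ∈ Z(T)` for `a ∈ Z(T)`. -/
theorem inv_mul_aut_mem_center {T : Subgroup Ω} (α : MulAut T) {a : T}
    (ha : (a : Ω) ∈ Subgroup.centralizer (T : Set Ω)) :
    (a : Ω)⁻¹ * ((α a : T) : Ω) ∈ T ⊓ Subgroup.centralizer (T : Set Ω) :=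
  ⟨T.mul_mem (T.inv_mem a.2) (α a).2,
    Subgroup.mul_mem _ (Subgroup.inv_mem _ ha) (aut_apply_mem_centralizer_dp α ha)⟩

/-- Main theorem on direct products of strongly closed subgroups. -/
theorem directProduct_main [Finite S] (p : ℕ) [Fact p.Prime] (hS : IsPGroup p S)
    (F : FusionSystem S) (hF : F.IsSaturated p) (S₁ S₂ : Subgroup Ω)
    (hprod : Cfsg.IsInternalDirectProduct S₁ S₂ S) (h₁ : F.StronglyClosed S₁)
    (h₂ : F.StronglyClosed S₂) (R R' : FusionSystem S₁)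
    (hR : ∀ P : Subgroup Ω, P ≤ S₁ → R.Hom P = F.Hom P)
    (hR' : ∀ P : Subgroup Ω, P ≤ S₁ → R'.Hom P = F.centralizerHom S₂ P) :
    R.IsSaturated p ∧ R'.IsSaturated p ∧ R'.IsNormalIn F p ∧ R'.IsNormalIn R p ∧
      R.IsWeaklyNormalIn F p := by
  obtain ⟨h1S, h2S, hcomm, hinf, hsup⟩ := hprod
  have hprod : Cfsg.IsInternalDirectProduct S₁ S₂ S := ⟨h1S, h2S, hcomm, hinf, hsup⟩
  have hfin1 : Finite S₁ := finite_of_le h1S
  have hS1 : IsPGroup p S₁ := hS.to_le h1S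
  -- saturation of R
  have hRsat : R.IsSaturated p := isSaturated_of_directProduct p hS F hF hprod h₁ R hR
  -- the centralizer system of S₂
  have hFC₂ := isFullyCentralized_of_stronglyClosed F h₂
  have hCsat : (centralizerSystem F S₂ h2S).IsSaturated p :=
    centralizerSystem_isSaturated p hS F hF S₂ hFC₂ _ (fun _ => rfl)
  have hfinC : Finite ↥(centralizerIn S S₂) := finite_of_le inf_le_left
  have hSC : IsPGroup p ↥(centralizerIn S S₂) := hS.to_le inf_le_left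
  have h1C : S₁ ≤ centralizerIn S S₂ := by
    intro a ha
    refine ⟨h1S ha, ?_⟩
    apply Subgroup.mem_centralizer_iff.mpr
    intro b hb
    exact (hcomm a ha b hb).symm
  have hprodC : Cfsg.IsInternalDirectProduct S₁ (centralizerIn S₂ S₂) (centralizerIn S S₂) := by
    refine ⟨h1C, ?_, ?_, ?_, ?_⟩
    · rintro b ⟨hb, hbc⟩
      exact ⟨h2S hb, hbc⟩
    · intro a ha b hb
      exact hcomm a ha b hb.1
    · rw [eq_bot_iff, ← hinf]
      exact inf_le_inf_left _ inf_le_left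
    · apply le_antisymm
      · refine sup_le h1C ?_
        rintro b ⟨hb, hbc⟩
        exact ⟨h2S hb, hbc⟩
      · rintro g ⟨hgS, hgc⟩
        rw [← hsup] at hgS
        obtain ⟨a, ha, b, hb, rfl⟩ := exists_mul_of_mem_sup_commute hcomm hgS
        refine Subgroup.mul_mem _ (Subgroup.mem_sup_left ha) (Subgroup.mem_sup_right ⟨hb, ?_⟩)
        have hac : a ∈ Subgroup.centralizer (S₂ : Set Ω) := (h1C ha).2
        have : b = a⁻¹ * (a * b) := by group
        rw [this]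
        exact Subgroup.mul_mem _ (Subgroup.inv_mem _ hac) hgc
  have h1Csc : (centralizerSystem F S₂ h2S).StronglyClosed S₁ :=
    ⟨h1C, fun P hP φ hφ x => h₁.2 P hP φ hφ.1 x⟩
  have hR'sat : R'.IsSaturated p :=
    isSaturated_of_directProduct p hSC (centralizerSystem F S₂ h2S) hCsat hprodC h1Csc R' hR'
  -- subsystem relations
  have hRsub : R.IsSubsystemOf F := by
    intro P φ hφ
    have hP := (R.le_of_mem hφ).1
    rw [← hR P hP]; exact hφ
  have hR'subR : R'.IsSubsystemOf R := by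
    intro P φ hφ
    have hP := (R'.le_of_mem hφ).1
    rw [hR P hP]
    rw [hR' P hP] at hφ
    exact hφ.1
  have hR'sub : R'.IsSubsystemOf F := fun P φ hφ => hRsub P (hR'subR P hφ)
  have hSI' : StrongInv R' F := strongInv_of_centralizer p hS F hF h₁ h₂ hinf hcomm R' hR'
  have hSI : StrongInv R F := strongInv_of_full F h₁ R hR
  have hinvR : R.IsInvariantIn F := (isInvariantIn_iff_strongInv p hS F hF R hRsub h₁).mpr hSI
  have hinvR' : R'.IsInvariantIn F :=
    (isInvariantIn_iff_strongInv p hS F hF R' hR'sub h₁).mpr hSI'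
  have hscR : R.StronglyClosed S₁ := ⟨le_rfl, fun P _ φ hφ x => (R.le_of_mem hφ).2 x⟩
  have hSI'' : StrongInv R' R := by
    intro P Q hPQ hQ φ hφ hφQ ψ hψ
    exact hSI' P Q hPQ hQ φ hφ hφQ ψ (hRsub Q hψ)
  have hinvR'R : R'.IsInvariantIn R :=
    (isInvariantIn_iff_strongInv p hS1 R hRsat R' hR'subR hscR).mpr hSI''
  refine ⟨hRsat, hR'sat, ⟨⟨hR'sat, hF, hinvR'⟩, ?_⟩, ⟨⟨hR'sat, hRsat, hinvR'R⟩, ?_⟩,
    ⟨hRsat, hF, hinvR⟩⟩
  · -- extension condition in F
    intro α hα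
    rw [mem_autGroup_iff R' le_rfl, hR' S₁ le_rfl] at hα
    obtain ⟨hαF, -, -, ψ, hψ, hψ1, hψ2⟩ := hα
    have h2C : S₂ ≤ centralizerIn S S₁ := by
      intro b hb
      refine ⟨h2S hb, ?_⟩
      apply Subgroup.mem_centralizer_iff.mpr
      intro a ha
      exact hcomm a ha b hb
    have hU : S₁ ⊔ S₂ = S₁ ⊔ centralizerIn S S₁ := by
      apply le_antisymm
      · exact sup_le le_sup_left (le_trans h2C le_sup_right)
      · refine sup_le le_sup_left ?_
        rw [hsup]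
        exact inf_le_left
    have hrange : ψ.range = S₁ ⊔ S₂ := by
      rw [range_sup_eq, map_subgroupOf_eq_range ψ (autHom α) hψ1, autHom_range,
        map_subgroupOf_eq_of_fix ψ hψ2]
    refine exists_ext_of_hom F hU α ψ hψ hrange le_sup_left hψ1 ?_
    intro c hc
    obtain ⟨a, ha, b, hb, hcab⟩ := exists_mul_of_mem_sup_commute hcomm c.2
    have hac : a ∈ Subgroup.centralizer (S₁ : Set Ω) := by
      have hbc : b ∈ Subgroup.centralizer (S₁ : Set Ω) := by
        apply Subgroup.mem_centralizer_iff.mpr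
        intro a' ha'
        exact hcomm a' ha' b hb
      have : a = (c : Ω) * b⁻¹ := by rw [hcab]; group
      rw [this]
      exact Subgroup.mul_mem _ hc.2 (Subgroup.inv_mem _ hbc)
    have e : c = Subgroup.inclusion le_sup_left (⟨a, ha⟩ : S₁) *
        Subgroup.inclusion le_sup_right (⟨b, hb⟩ : S₂) := Subtype.ext hcab
    have e2 : ψ c = ((α ⟨a, ha⟩ : S₁) : Ω) * b := by
      rw [e, map_mul, hψ1, hψ2]
      rfl
    rw [e2, hcab]
    have hab' : ((α ⟨a, ha⟩ : S₁) : Ω) * b = b * ((α ⟨a, ha⟩ : S₁) : Ω) :=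
      hcomm _ (α ⟨a, ha⟩).2 b hb
    have e3 : (a * b)⁻¹ * (((α ⟨a, ha⟩ : S₁) : Ω) * b) = a⁻¹ * ((α ⟨a, ha⟩ : S₁) : Ω) := by
      rw [hab', hcomm a ha b hb]; group
    rw [e3]
    exact inv_mul_aut_mem_center α (a := ⟨a, ha⟩) hac
  · -- extension condition in R
    intro α hα
    have hαR' := (mem_autGroup_iff R' le_rfl α).mp hα
    have hαR : autHom α ∈ R.Hom S₁ := hR'subR S₁ hαR'
    have hU : S₁ = S₁ ⊔ centralizerIn S₁ S₁ := (sup_of_le_left inf_le_left).symm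
    refine exists_ext_of_hom R hU α (autHom α) hαR (autHom_range α) le_rfl (fun x => rfl) ?_
    intro c hc
    exact inv_mul_aut_mem_center α hc.2

end Cfsg.Agent.Helper25
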