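import Mathlib
import Cfsg.Agent.Helper25.FusionPFour

set_option autoImplicit false

/-! If `S` controls `F`-fusion of the cyclic subgroups of order `p` or `4` of `hyp(F)`, then all
`Aut_F(P)` are `p`-groups. -/

namespace Cfsg.Agent.Helper25.PFour

open Cfsg Cfsg.FusionSystem Cfsg.Agent.Helper25
open scoped commutatorElement

variable {Ω : Type*} [Group Ω] {S : Subgroup Ω}

/-- Data for applying a control hypothesis to `γ x`. -/
theorem zpowers_data [Finite S] (p : ℕ) [Fact p.Prime] (hS : IsPGroup p S)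
    (F : FusionSystem S) (hF : F.IsSaturated p) {P : Subgroup Ω} (hPS : P ≤ S)
    {γ : MulAut P} (hγ : γ ∈ F.autGroup P) {x : P} (hx : (x : Ω) ∈ F.hyperfocalSubgroup p)
    (hxq : x ^ qexp p = 1) (hx1 : x ≠ 1) :
    Subgroup.zpowers (x : Ω) ≤ F.hyperfocalSubgroup p ∧
    Subgroup.zpowers ((γ x : P) : Ω) ≤ F.hyperfocalSubgroup p ∧
    (Nat.card (Subgroup.zpowers (x : Ω)) = p ∨ Nat.card (Subgroup.zpowers (x : Ω)) = 4) ∧
    (Nat.card (Subgroup.zpowers ((γ x : P) : Ω)) = p ∨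
      Nat.card (Subgroup.zpowers ((γ x : P) : Ω)) = 4) := by
  refine ⟨?_, ?_, ?_, ?_⟩
  · rw [Subgroup.zpowers_le]; exact hx
  · rw [Subgroup.zpowers_le]; exact apply_mem_hyperfocal p hS F hF hPS hγ hx
  · apply card_zpowers_of_pow_qexp p
    · rw [← Subgroup.coe_pow, hxq, Subgroup.coe_one]
    · intro h; exact hx1 (Subtype.ext h)
  · apply card_zpowers_of_pow_qexp p
    · rw [← Subgroup.coe_pow, ← map_pow, hxq, map_one, Subgroup.coe_one]
    · intro h
      apply hx1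
      have : γ x = 1 := Subtype.ext h
      exact (map_eq_one_iff γ γ.injective).mp this

theorem autGroup_isPGroup_of_inner_control [Finite S] (p : ℕ) [Fact p.Prime] (hS : IsPGroup p S)
    (F : FusionSystem S) (hF : F.IsSaturated p)
    (h : ∀ A B : Subgroup Ω, A ≤ (F.hyperfocalSubgroup p) → B ≤ (F.hyperfocalSubgroup p) →
      IsCyclic ↥A → (Nat.card ↥A = p ∨ Nat.card ↥A = 4) → IsCyclic ↥B →
      (Nat.card ↥B = p ∨ Nat.card ↥B = 4) →
      F.homSet A B ⊆ (Cfsg.innerFusionSystem S).Hom A)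
    (P : Subgroup Ω) (hPS : P ≤ S) : IsPGroup p (F.autGroup P) := by
  have hfinP : Finite P := finite_of_le hPS
  have hfinA : Finite (MulAut P) :=
    Finite.of_injective (fun e : MulAut P => (e : P → P)) (fun a b h => DFunLike.coe_injective h)
  have hPp : IsPGroup p P := isPGroup_of_le hS hPS
  -- control of elements
  have hctrl : ∀ γ ∈ F.autGroup P, ∀ x : P, (x : Ω) ∈ F.hyperfocalSubgroup p → x ^ qexp p = 1 →
      x ≠ 1 → ∃ g ∈ S, ((γ x : P) : Ω) = g * x * g⁻¹ := by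
    intro γ hγ x hx hxq hx1
    obtain ⟨hA, hB, hcA, hcB⟩ := zpowers_data p hS F hF hPS hγ hx hxq hx1
    obtain ⟨φ, hφ, hφx⟩ := exists_restrict_zpowers F hPS hγ x
    obtain ⟨-, g, hg, hgφ⟩ := h _ _ hA hB inferInstance hcA inferInstance hcB hφ
    exact ⟨g, hg, by rw [← hφx, hgφ]⟩
  apply isPGroup_of_coprime_trivial p
  rintro ⟨α, hα⟩ hcop
  rw [Subgroup.orderOf_mk] at hcop
  have key := coprime_trivial p hPp (F.autGroup P)
    {β | β ∈ F.autGroup P ∧ Nat.Coprime (orderOf β) p} (fun β hβ => hβ.1)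
    (fun γ hγ β hβ => ⟨(F.autGroup P).mul_mem ((F.autGroup P).mul_mem hγ hβ.1)
      ((F.autGroup P).inv_mem hγ), by
        have : orderOf (γ * β * γ⁻¹) = orderOf β := (MulAut.conj γ).orderOf_eq β
        rw [this]; exact hβ.2⟩)
    (fun β hβ => hβ.2)
    ((F.hyperfocalSubgroup p).subgroupOf P)
    (fun γ hγ x hx => by
      rw [Subgroup.mem_subgroupOf] at hx ⊢
      exact apply_mem_hyperfocal p hS F hF hPS hγ hx)
    (fun β hβ x => by
      rw [Subgroup.mem_subgroupOf, Subgroup.coe_mul, Subgroup.coe_inv]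
      exact inv_mul_apply_mem_hyperfocal F p hPS hβ.1 hβ.2 x)
    ?_ α ⟨hα, hcop⟩
  · exact Subtype.ext key
  · intro U hUH hUinv hUexp β hβ x hx
    obtain ⟨n, hn⟩ := exists_lcsIn_eq_bot p hS P
    have := trivial_of_stabilizes_chain p hPp β hβ.2 (fun j => U ⊓ lcsIn S P j) n
      (by simp only [hn, inf_bot_eq]) ?_ x (by simp only [lcsIn_zero hPS, inf_top_eq]; exact hx)
    · exact this
    · intro j y hy
      by_cases hy1 : y = 1
      · rw [hy1, map_one, inv_one, one_mul]; exact Subgroup.one_mem _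
      · have hyH : (y : Ω) ∈ F.hyperfocalSubgroup p := Subgroup.mem_subgroupOf.mp (hUH hy.1)
        obtain ⟨g, hg, hgy⟩ := hctrl β hβ.1 y hyH (hUexp y hy.1) hy1
        exact ⟨U.mul_mem (U.inv_mem hy.1) (hUinv β hβ.1 y hy.1),
          inv_mul_mem_lcsIn_succ hy.2 hg hgy⟩

end Cfsg.Agent.Helper25.PFour
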