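import Mathlib
import Cfsg.Agent.Helper25.FusionPFourInner
import Cfsg.Agent.Helper25.StronglyEmb
import Cfsg.Agent.Helper25.FusionNormal
import Cfsg.Agent.S5077

set_option autoImplicit false

/-! If `N_F(S)` controls `F`-fusion of the cyclic subgroups of order `p` or `4` of `hyp(F)`, then
`F` has no essential subgroups. -/

namespace Cfsg.Agent.Helper25.PFour

open Cfsg Cfsg.FusionSystem Cfsg.Agent.Helper25
open scoped commutatorElement

variable {Ω : Type*} [Group Ω] {S : Subgroup Ω}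

/-- Maps of `N_F(S)` preserve the terms of the lower central series of `S`. -/
theorem apply_mem_lcs_of_normalizerHom (F : FusionSystem S) {A : Subgroup Ω} {φ : A →* Ω}
    (hφ : φ ∈ F.normalizerHom S A) {j : ℕ} (y : A) (hy : (y : Ω) ∈ S.lowerCentralSeries j) :
    φ y ∈ S.lowerCentralSeries j := by
  obtain ⟨-, -, -, ψ, -, hext, hmap⟩ := hφ
  have hSle : S ≤ A ⊔ S := le_sup_right
  have h1 : ((S.subgroupOf (A ⊔ S)).lowerCentralSeries j).map (A ⊔ S).subtype =
      S.lowerCentralSeries j := by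
    rw [Subgroup.map_lowerCentralSeries, Subgroup.subgroupOf_map_subtype, inf_eq_left.mpr hSle]
  have h2 : ((S.subgroupOf (A ⊔ S)).lowerCentralSeries j).map ψ = S.lowerCentralSeries j := by
    rw [Subgroup.map_lowerCentralSeries, hmap]
  rw [← h1] at hy
  obtain ⟨z, hz, hzy⟩ := hy
  have : Subgroup.inclusion le_sup_left y = z := Subtype.ext hzy.symm
  rw [← hext y, this, ← h2]
  exact ⟨z, hz, rfl⟩

theorem not_isEssential_of_normalizer_control [Finite S] (p : ℕ) [Fact p.Prime]
    (hS : IsPGroup p S) (F : FusionSystem S) (hF : F.IsSaturated p)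
    (h : ∀ A B : Subgroup Ω, A ≤ (F.hyperfocalSubgroup p) → B ≤ (F.hyperfocalSubgroup p) →
      IsCyclic ↥A → (Nat.card ↥A = p ∨ Nat.card ↥A = 4) → IsCyclic ↥B →
      (Nat.card ↥B = p ∨ Nat.card ↥B = 4) → F.homSet A B ⊆ F.normalizerHom S A)
    (P : Subgroup Ω) : ¬ F.IsEssential p P := by
  intro hess
  have hPS : P ≤ S := hess.1.1
  have hfinP : Finite P := finite_of_le hPS
  have hfinA : Finite (MulAut P) :=
    Finite.of_injective (fun e : MulAut P => (e : P → P)) (fun a b h => DFunLike.coe_injective h)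
  have hPp : IsPGroup p P := isPGroup_of_le hS hPS
  obtain ⟨-, -, R, hR⟩ := Cfsg.Agent.S5077.sylow_axiom p hS F hF P hess.2.1
  -- control of lcs terms
  have hctrl : ∀ γ ∈ F.autGroup P, ∀ x : P, (x : Ω) ∈ F.hyperfocalSubgroup p → x ^ qexp p = 1 →
      ∀ j, x ∈ lcsIn S P j → γ x ∈ lcsIn S P j := by
    intro γ hγ x hx hxq j hxj
    by_cases hx1 : x = 1
    · rw [hx1, map_one]; exact Subgroup.one_mem _
    obtain ⟨hA, hB, hcA, hcB⟩ := zpowers_data p hS F hF hPS hγ hx hxq hx1
    obtain ⟨φ, hφ, hφx⟩ := exists_restrict_zpowers F hPS hγ x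
    have hφN := h _ _ hA hB inferInstance hcA inferInstance hcB hφ
    rw [lcsIn, Subgroup.mem_subgroupOf] at hxj ⊢
    rw [← hφx]
    exact apply_mem_lcs_of_normalizerHom F hφN ⟨(x : Ω), Subgroup.mem_zpowers _⟩ hxj
  -- control by `Aut_S(P)`
  have hsig : ∀ σ ∈ autInducedBy S P, ∀ j, ∀ x ∈ lcsIn S P j,
      σ x ∈ lcsIn S P j ∧ x⁻¹ * σ x ∈ lcsIn S P (j + 1) := by
    intro σ hσ j x hx
    obtain ⟨s, hs, hsx⟩ := (mem_autInducedBy_iff S P σ).mp hσ
    have h2 := inv_mul_mem_lcsIn_succ hx hs (hsx x)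
    refine ⟨?_, h2⟩
    have h3 : lcsIn S P (j + 1) ≤ lcsIn S P j := by
      intro y hy
      rw [lcsIn, Subgroup.mem_subgroupOf] at hy ⊢
      exact S.lowerCentralSeries_antitone (Nat.le_succ j) hy
    have : σ x = x * (x⁻¹ * σ x) := by group
    rw [this]
    exact Subgroup.mul_mem _ hx (h3 h2)
  -- the normal closure of the Sylow subgroup
  set K' : Subgroup (F.autGroup P) :=
    Subgroup.normalClosure ((R : Subgroup (F.autGroup P)) : Set (F.autGroup P)) with hK'
  have hK'p : IsPGroup p K' := by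
    apply isPGroup_of_coprime_trivial p
    rintro ⟨κ, hκ⟩ hcop
    rw [Subgroup.orderOf_mk] at hcop
    have hcop' : Nat.Coprime (orderOf (κ : MulAut P)) p := by rwa [Subgroup.orderOf_coe]
    have key := coprime_trivial p hPp (F.autGroup P)
      {β | (∃ κ ∈ K', (κ : MulAut P) = β) ∧ Nat.Coprime (orderOf β) p}
      (by rintro β ⟨⟨κ, -, rfl⟩, -⟩; exact κ.2)
      (by
        rintro γ hγ β ⟨⟨κ, hκ, rfl⟩, hc⟩
        refine ⟨⟨⟨γ, hγ⟩ * κ * ⟨γ, hγ⟩⁻¹, ?_, rfl⟩, ?_⟩
        · exact (Subgroup.normalClosure_normal).conj_mem κ hκ ⟨γ, hγ⟩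
        · have : orderOf (γ * (κ : MulAut P) * γ⁻¹) = orderOf (κ : MulAut P) :=
            (MulAut.conj γ).orderOf_eq _
          rw [this]; exact hc)
      (fun β hβ => hβ.2)
      ((F.hyperfocalSubgroup p).subgroupOf P)
      (fun γ hγ x hx => by
        rw [Subgroup.mem_subgroupOf] at hx ⊢
        exact apply_mem_hyperfocal p hS F hF hPS hγ hx)
      (fun β hβ x => by
        obtain ⟨⟨κ, -, rfl⟩, hc⟩ := hβ
        rw [Subgroup.mem_subgroupOf, Subgroup.coe_mul, Subgroup.coe_inv]
        exact inv_mul_apply_mem_hyperfocal F p hPS κ.2 hc x)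
      ?_ (κ : MulAut P) ⟨⟨κ, hκ, rfl⟩, hcop'⟩
    · exact Subtype.ext (Subtype.ext key)
    · intro U hUH hUinv hUexp β hβ x hx
      obtain ⟨⟨κ, hκ, rfl⟩, hc⟩ := hβ
      obtain ⟨n, hn⟩ := exists_lcsIn_eq_bot p hS P
      have hUj : ∀ γ ∈ F.autGroup P, ∀ j, ∀ y ∈ U ⊓ lcsIn S P j, γ y ∈ U ⊓ lcsIn S P j := by
        intro γ hγ j y hy
        exact ⟨hUinv γ hγ y hy.1, hctrl γ hγ y (Subgroup.mem_subgroupOf.mp (hUH hy.1))
          (hUexp y hy.1) j hy.2⟩
      let Stab : MulAut P → Prop := fun β => ∀ j, ∀ y ∈ U ⊓ lcsIn S P j,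
        β y ∈ U ⊓ lcsIn S P j ∧ y⁻¹ * β y ∈ U ⊓ lcsIn S P (j + 1)
      have hStab_mul : ∀ β₁ β₂, Stab β₁ → Stab β₂ → Stab (β₁ * β₂) := by
        intro β₁ β₂ h1 h2 j y hy
        obtain ⟨h2a, h2b⟩ := h2 j y hy
        obtain ⟨h1a, h1b⟩ := h1 j y hy
        refine ⟨(h1 j _ h2a).1, ?_⟩
        have : y⁻¹ * (β₁ * β₂) y = (y⁻¹ * β₁ y) * β₁ (y⁻¹ * β₂ y) := by
          rw [MulAut.mul_apply, map_mul, map_inv]; group
        rw [this]
        exact Subgroup.mul_mem _ h1b (h1 (j + 1) _ h2b).1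
      let T : Subgroup (MulAut P) :=
        { carrier := {β | Stab β ∧ Stab β⁻¹}
          one_mem' := by
            have h1 : Stab 1 := by
              intro j y hy
              refine ⟨hy, ?_⟩
              rw [MulAut.one_apply, inv_mul_cancel]
              exact Subgroup.one_mem _
            exact ⟨h1, by rw [inv_one]; exact h1⟩
          mul_mem' := by
            rintro a b ⟨ha, ha'⟩ ⟨hb, hb'⟩
            refine ⟨hStab_mul a b ha hb, ?_⟩
            rw [mul_inv_rev]; exact hStab_mul _ _ hb' ha'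
          inv_mem' := by
            rintro a ⟨ha, ha'⟩
            exact ⟨ha', by rwa [inv_inv]⟩ }
      have hKT : ∀ κ ∈ K', (κ : MulAut P) ∈ T := by
        intro κ hκ
        rw [hK', Subgroup.normalClosure] at hκ
        induction hκ using Subgroup.closure_induction with
        | mem c hc =>
          rw [Group.mem_conjugatesOfSet_iff] at hc
          obtain ⟨σ, hσ, hconj⟩ := hc
          obtain ⟨g, rfl⟩ := isConj_iff.mp hconj
          have hσ' : (σ : MulAut P) ∈ autInducedBy S P := by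
            have : σ ∈ (R : Subgroup (F.autGroup P)) := hσ
            rw [hR] at this
            exact this
          have hform : ∀ τ ∈ autInducedBy S P,
              Stab ((g : MulAut P) * τ * (g : MulAut P)⁻¹) := by
            intro τ hτ j y hy
            have hginv : (g : MulAut P)⁻¹ ∈ F.autGroup P := (F.autGroup P).inv_mem g.2
            have hτΓ : τ ∈ F.autGroup P := autInducedBy_le_autGroup F hPS hτ
            have hw := hUj _ hginv j y hy
            obtain ⟨ha, hb⟩ := hsig τ hτ j _ hw.2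
            have hτw : τ ((g : MulAut P)⁻¹ y) ∈ U ⊓ lcsIn S P j := ⟨hUinv τ hτΓ _ hw.1, ha⟩
            have hb' : ((g : MulAut P)⁻¹ y)⁻¹ * τ ((g : MulAut P)⁻¹ y) ∈ U ⊓ lcsIn S P (j + 1) :=
              ⟨U.mul_mem (U.inv_mem hw.1) hτw.1, hb⟩
            refine ⟨?_, ?_⟩
            · have := hUj _ g.2 j _ hτw
              simpa [MulAut.mul_apply] using this
            · have := hUj _ g.2 (j + 1) _ hb'
              have he : y⁻¹ * ((g : MulAut P) * τ * (g : MulAut P)⁻¹) y =
                  (g : MulAut P) (((g : MulAut P)⁻¹ y)⁻¹ * τ ((g : MulAut P)⁻¹ y)) := by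
                rw [map_mul, map_inv]
                simp [MulAut.mul_apply]
              rw [he]
              exact this
          refine ⟨hform _ hσ', ?_⟩
          have : ((g * σ * g⁻¹ : F.autGroup P) : MulAut P)⁻¹ =
              (g : MulAut P) * (σ : MulAut P)⁻¹ * (g : MulAut P)⁻¹ := by
            simp [mul_assoc]
          rw [this]
          exact hform _ (Subgroup.inv_mem _ hσ')
        | one => exact T.one_mem
        | mul a b _ _ iha ihb => exact T.mul_mem iha ihb
        | inv a _ iha => exact T.inv_mem iha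
      have hst := (hKT κ hκ).1
      exact trivial_of_stabilizes_chain p hPp (κ : MulAut P) hc (fun j => U ⊓ lcsIn S P j) n
        (by simp only [hn, inf_bot_eq]) (fun j y hy => (hst j y hy).2) x
        (by simp only [lcsIn_zero hPS, inf_top_eq]; exact hx)
  -- contradiction with essentiality
  obtain ⟨-, -, hN, E, hE⟩ := hess
  have hKmap : K'.map (QuotientGroup.mk' ((Inn P).subgroupOf (F.autGroup P))) = ⊥ := by
    have hnorm : (K'.map (QuotientGroup.mk' ((Inn P).subgroupOf (F.autGroup P)))).Normal :=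
      Subgroup.Normal.map Subgroup.normalClosure_normal _ (QuotientGroup.mk'_surjective _)
    exact normal_pSubgroup_eq_bot_of_stronglyPEmbedded p hE _ (hK'p.map _)
  have hK'N : K' ≤ (Inn P).subgroupOf (F.autGroup P) := by
    intro κ hκ
    have : QuotientGroup.mk' ((Inn P).subgroupOf (F.autGroup P)) κ ∈
        K'.map (QuotientGroup.mk' ((Inn P).subgroupOf (F.autGroup P))) := ⟨κ, hκ, rfl⟩
    rw [hKmap, Subgroup.mem_bot] at this
    exact (QuotientGroup.eq_one_iff κ).mp this
  have hRN : (R : Subgroup (F.autGroup P)) ≤ (Inn P).subgroupOf (F.autGroup P) :=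
    (Subgroup.le_normalClosure).trans hK'N
  have hdvd := Subgroup.index_dvd_of_le hRN
  have hnd : ¬ p ∣ (R : Subgroup (F.autGroup P)).index := R.not_dvd_index
  have h1 := hE.1
  rw [← Subgroup.index_eq_card] at h1
  exact hnd (h1.trans hdvd)

end Cfsg.Agent.Helper25.PFour
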