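import Cfsg.Agent.Helper25.FusionTransport
import Cfsg.Agent.Helper25.FusionAut
import Mathlib.GroupTheory.SemidirectProduct

set_option autoImplicit false

/-!
# Pulling back conjugation along an embedding; the system of `T ⋊ B`

`pullSystem ι hinj`: for an injective `ι : T →* G` the fusion system over `T` whose maps are the
homomorphisms between subgroups of `T` that become conjugations in `G`.  It is realized by `ι`,
hence saturated when `ι(T)` is a Sylow subgroup of the finite group `G`.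

`semiSystem T B`: the case `G = T ⋊ B` for a group `B` of automorphisms of `T`.
-/

namespace Cfsg.Agent.Helper25

open Cfsg Cfsg.FusionSystem

variable {Ω : Type*} [Group Ω]

/-- The fusion system over `T` induced by conjugation in `G` through the embedding `ι`. -/
def pullSystem {T : Subgroup Ω} {G : Type*} [Group G] (ι : T →* G) (hinj : Function.Injective ι) :
    FusionSystem T where
  Hom Q := {φ | ∃ (hQ : Q ≤ T) (hφ : ∀ x : Q, φ x ∈ T), ∃ g : G, ∀ x : Q,
    ι ⟨φ x, hφ x⟩ = g * ι ⟨x, hQ x.2⟩ * g⁻¹}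
  le_of_mem := by
    rintro Q φ ⟨hQ, hφ, -⟩
    exact ⟨hQ, hφ⟩
  injective_of_mem := by
    rintro Q φ ⟨hQ, hφ, g, hg⟩ a b hab
    have h1 : ι ⟨φ a, hφ a⟩ = ι ⟨φ b, hφ b⟩ := by
      congr 1
      exact Subtype.ext hab
    rw [hg a, hg b] at h1
    have h2 := hinj (mul_left_cancel (mul_right_cancel h1))
    exact Subtype.ext (congrArg (fun t : T => (t : Ω)) h2)
  conj_mem := by
    intro Q g hQ hg
    refine ⟨hQ, fun x => T.mul_mem (T.mul_mem hg (hQ x.2)) (T.inv_mem hg), ι ⟨g, hg⟩, fun x => ?_⟩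
    rw [← map_inv, ← map_mul, ← map_mul]
    rfl
  comp_mem := by
    rintro P Q φ ψ ⟨hP, hφ, g, hg⟩ ⟨hQ, hψ, k, hk⟩ h
    refine ⟨hP, fun x => hψ _, k * g, fun x => ?_⟩
    have h1 := hk (φ.codRestrict Q h x)
    have h2 : (⟨((φ.codRestrict Q h x : Q) : Ω), hQ (φ.codRestrict Q h x).2⟩ : T) = ⟨φ x, hφ x⟩ := rfl
    rw [h2, hg x] at h1
    show ι ⟨ψ (φ.codRestrict Q h x), _⟩ = _
    rw [h1, mul_inv_rev]
    simp only [mul_assoc]
  inv_mem := by
    rintro P φ ⟨hP, hφ, g, hg⟩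
    have hφinj : Function.Injective φ := by
      intro a b hab
      have h1 : ι ⟨φ a, hφ a⟩ = ι ⟨φ b, hφ b⟩ := by
        congr 1
        exact Subtype.ext hab
      rw [hg a, hg b] at h1
      have h2 := hinj (mul_left_cancel (mul_right_cancel h1))
      exact Subtype.ext (congrArg (fun t : T => (t : Ω)) h2)
    set e := MonoidHom.ofInjective hφinj with he
    have hex : ∀ x : P, e x = ⟨φ x, ⟨x, rfl⟩⟩ := fun x => rfl
    have hinv : ∀ x : P, (P.subtype.comp e.symm.toMonoidHom) ⟨φ x, ⟨x, rfl⟩⟩ = (x : Ω) := by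
      intro x
      show ((e.symm ⟨φ x, ⟨x, rfl⟩⟩ : P) : Ω) = x
      rw [← hex x, MulEquiv.symm_apply_apply]
    refine ⟨P.subtype.comp e.symm.toMonoidHom, ⟨?_, ?_, g⁻¹, ?_⟩, hinv⟩
    · rintro _ ⟨x, rfl⟩
      exact hφ x
    · intro y
      exact hP (e.symm y).2
    · rintro ⟨_, x, rfl⟩
      have h3 : (⟨(P.subtype.comp e.symm.toMonoidHom) ⟨φ x, ⟨x, rfl⟩⟩,
          hP (e.symm ⟨φ x, ⟨x, rfl⟩⟩).2⟩ : T) = ⟨x, hP x.2⟩ := Subtype.ext (hinv x)
      rw [h3, hg x, inv_inv]
      group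

theorem mem_pullSystem_iff {T : Subgroup Ω} {G : Type*} [Group G] (ι : T →* G)
    (hinj : Function.Injective ι) {Q : Subgroup Ω} (φ : Q →* Ω) :
    φ ∈ (pullSystem ι hinj).Hom Q ↔ ∃ (hQ : Q ≤ T) (hφ : ∀ x : Q, φ x ∈ T), ∃ g : G, ∀ x : Q,
      ι ⟨φ x, hφ x⟩ = g * ι ⟨x, hQ x.2⟩ * g⁻¹ := Iff.rfl

theorem pullSystem_isRealizedBy {T : Subgroup Ω} {G : Type*} [Group G] (ι : T →* G)
    (hinj : Function.Injective ι) : (pullSystem ι hinj).IsRealizedBy ι :=
  ⟨hinj, fun _ hP _ hφ => ⟨fun ⟨_, _, g, hg⟩ => ⟨g, hg⟩, fun ⟨g, hg⟩ => ⟨hP, hφ, g, hg⟩⟩⟩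

theorem pullSystem_isSaturated {T : Subgroup Ω} {G : Type*} [Group G] [Finite G] (ι : T →* G)
    (hinj : Function.Injective ι) (p : ℕ) [Fact p.Prime] (R : Sylow p G)
    (hR : (R : Subgroup G) = ι.range) : (pullSystem ι hinj).IsSaturated p :=
  isSaturated_of_realizedBy p _ ι (pullSystem_isRealizedBy ι hinj) R hR

/-! ### The system of `T ⋊ B` -/

/-- The fusion system over `T` of the semidirect product of `T` by a group `B` of automorphisms. -/
def semiSystem (T : Subgroup Ω) (B : Subgroup (MulAut T)) : FusionSystem T :=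
  pullSystem (SemidirectProduct.inl : T →* T ⋊[B.subtype] B) SemidirectProduct.inl_injective

theorem semi_conj_inl {T : Subgroup Ω} (B : Subgroup (MulAut T)) (n : T) (b : B) (x : T) :
    (⟨n, b⟩ : T ⋊[B.subtype] B) * SemidirectProduct.inl x * (⟨n, b⟩ : T ⋊[B.subtype] B)⁻¹ =
      SemidirectProduct.inl (n * (b : MulAut T) x * n⁻¹) := by
  apply SemidirectProduct.ext
  · simp
  · simp

theorem mem_semiSystem_iff {T : Subgroup Ω} (B : Subgroup (MulAut T)) {Q : Subgroup Ω} (φ : Q →* Ω) :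
    φ ∈ (semiSystem T B).Hom Q ↔ ∃ (hQ : Q ≤ T), ∃ n : T, ∃ b ∈ B, ∀ x : Q,
      φ x = (n : Ω) * ((b ⟨x, hQ x.2⟩ : T) : Ω) * (n : Ω)⁻¹ := by
  constructor
  · rintro ⟨hQ, hφ, ⟨n, b⟩, hg⟩
    refine ⟨hQ, n, b, b.2, fun x => ?_⟩
    have h1 := hg x
    rw [semi_conj_inl] at h1
    have h2 := SemidirectProduct.inl_injective h1
    exact congrArg (fun t : T => (t : Ω)) h2
  · rintro ⟨hQ, n, b, hb, h⟩
    have hφ : ∀ x : Q, φ x ∈ T := by
      intro x
      rw [h x]
      exact T.mul_mem (T.mul_mem n.2 (b ⟨x, hQ x.2⟩).2) (T.inv_mem n.2)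
    refine ⟨hQ, hφ, ⟨n, ⟨b, hb⟩⟩, fun x => ?_⟩
    rw [semi_conj_inl]
    congr 1
    exact Subtype.ext (h x)

theorem semiSystem_isSaturated {T : Subgroup Ω} [Finite T] (B : Subgroup (MulAut T))
    (p : ℕ) [Fact p.Prime] (hT : IsPGroup p T) (hB : (Nat.card B).Coprime p) :
    (semiSystem T B).IsSaturated p := by
  classical
  have : Finite (MulAut T) := Finite.of_injective (fun e : MulAut T => (e : T → T))
    (fun a b h => MulEquiv.ext (congrFun h))
  have : Finite B := inferInstance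
  have : Finite (T ⋊[B.subtype] B) :=
    Finite.of_equiv _ (SemidirectProduct.equivProd (φ := B.subtype)).symm
  set ι : T →* T ⋊[B.subtype] B := SemidirectProduct.inl with hι
  have hinj : Function.Injective ι := SemidirectProduct.inl_injective
  have hP : IsPGroup p ι.range := by
    have e : T ≃* ι.range := MonoidHom.ofInjective hinj
    exact hT.of_equiv e
  have hcardG : Nat.card (T ⋊[B.subtype] B) = Nat.card T * Nat.card B := by
    rw [Nat.card_congr (SemidirectProduct.equivProd (φ := B.subtype)), Nat.card_prod]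
  have hcardR : Nat.card ι.range = Nat.card T :=
    (Nat.card_congr (MonoidHom.ofInjective hinj).toEquiv).symm
  have hidx : ι.range.index = Nat.card B := by
    have h1 := ι.range.card_mul_index
    rw [hcardG, hcardR] at h1
    exact Nat.eq_of_mul_eq_mul_left Nat.card_pos h1
  have hnd : ¬ p ∣ ι.range.index := by
    rw [hidx]
    intro hd
    have := Nat.Coprime.eq_one_of_dvd hB.symm hd
    exact (Fact.out : p.Prime).one_lt.ne' this
  exact pullSystem_isSaturated ι hinj p (hP.toSylow hnd) (IsPGroup.toSylow_coe hP hnd)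

end Cfsg.Agent.Helper25
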