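import Mathlib
import Cfsg.Agent.Helper25.FusionSolvable
import Cfsg.Agent.Helper25.FusionInvariant
import Cfsg.Agent.Helper25.FusionChain

set_option autoImplicit false

/-! Solvability of a fusion system in terms of a normal (even just invariant) subsystem and
the factor system modulo its underlying subgroup. -/

namespace Cfsg.Agent.Helper25

open Cfsg Cfsg.FusionSystem
open scoped commutatorElement

variable {Ω Ω' : Type*} [Group Ω] [Group Ω'] {S T : Subgroup Ω}

/-- A step in a finite chain: if `P` holds at the start and fails at the end, it fails across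
some step. -/
theorem fin_exists_step {n : ℕ} (P : Fin (n + 1) → Prop) (h0 : P 0) (hl : ¬ P (Fin.last n)) :
    ∃ i : Fin n, P (Fin.castSucc i) ∧ ¬ P i.succ := by
  by_contra h
  apply hl
  refine Fin.induction h0 (fun i hi => ?_) (Fin.last n)
  by_contra hs
  exact h ⟨i, hi, hs⟩

theorem commutator_self_le (X : Subgroup Ω) : ⁅X, X⁆ ≤ X := by
  rw [Subgroup.commutator_le]
  intro a ha b hb
  rw [commutatorElement_def]
  exact X.mul_mem (X.mul_mem (X.mul_mem ha hb) (X.inv_mem ha)) (X.inv_mem hb)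

/-- A subgroup strongly closed in `F` meets `T` in a subgroup strongly closed in a subsystem
over `T`. -/
theorem stronglyClosed_inf_of_subsystem (E : FusionSystem T) (F : FusionSystem S)
    (hEF : E.IsSubsystemOf F) {R : Subgroup Ω} (hR : F.StronglyClosed R) :
    E.StronglyClosed (R ⊓ T) :=
  ⟨inf_le_right, fun Q hQ φ hφ x =>
    ⟨hR.2 Q (hQ.trans inf_le_left) φ (hEF Q hφ) x, (E.le_of_mem hφ).2 x⟩⟩

theorem stronglyClosed_inf' (E : FusionSystem T) {A B : Subgroup Ω} (hA : E.StronglyClosed A)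
    (hB : E.StronglyClosed B) : E.StronglyClosed (A ⊓ B) :=
  ⟨inf_le_left.trans hA.1, fun Q hQ φ hφ x =>
    ⟨hA.2 Q (hQ.trans inf_le_left) φ hφ x, hB.2 Q (hQ.trans inf_le_right) φ hφ x⟩⟩

/-- The descending step: in an invariant subsystem `E` (over `T`) of `F` that has a chain of
strongly closed subgroups with abelian quotients, every nontrivial subgroup `X ≤ T` strongly closed
in `F` contains a proper subgroup strongly closed in `F` and containing `[X, X]`. -/
theorem exists_lt_stronglyClosed_of_invariant (F : FusionSystem S) (E : FusionSystem T)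
    (hinv : E.IsInvariantIn F)
    (hchain : ∃ (n : ℕ) (C : Fin (n + 1) → Subgroup Ω), C 0 = ⊥ ∧ C (Fin.last n) = T ∧
      (∀ i, E.StronglyClosed (C i)) ∧ ∀ i : Fin n, ⁅C i.succ, C i.succ⁆ ≤ C (Fin.castSucc i))
    {X : Subgroup Ω} (hX : F.StronglyClosed X) (hXT : X ≤ T) (hXne : X ≠ ⊥) :
    ∃ Y : Subgroup Ω, F.StronglyClosed Y ∧ Y < X ∧ ⁅X, X⁆ ≤ Y := by
  obtain ⟨hEF, hTsc, hI, hFr⟩ := hinv
  have hTS : T ≤ S := hTsc.1
  have hI' : InvCond E F := hI
  let 𝒴 : Set (Subgroup Ω) := {R | E.StronglyClosed R ∧ R ≤ X ∧ ⁅X, X⁆ ≤ R}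
  have hXE : E.StronglyClosed X := by
    have := stronglyClosed_inf_of_subsystem E F hEF hX
    rwa [inf_eq_left.mpr hXT] at this
  have hXmem : X ∈ 𝒴 := ⟨hXE, le_rfl, commutator_self_le X⟩
  have hYX : sInf 𝒴 ≤ X := sInf_le hXmem
  have hYE : E.StronglyClosed (sInf 𝒴) :=
    ⟨hYX.trans hXT, fun Q hQ φ hφ x =>
      (Subgroup.mem_sInf).mpr (fun R hR => hR.1.2 Q (hQ.trans (sInf_le hR)) φ hφ x)⟩
  have hcomm : ⁅X, X⁆ ≤ sInf 𝒴 := le_sInf (fun R hR => hR.2.2)
  -- invariance of the family under `Aut_F(T)`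
  have key : ∀ α ∈ F.autGroup T, ∀ y : T, (y : Ω) ∈ sInf 𝒴 → ((α y : T) : Ω) ∈ sInf 𝒴 := by
    intro α hα y hy
    rw [Subgroup.mem_sInf]
    intro R hR
    have hRα : (R.comap (T.subtype.comp α.toMonoidHom)).map T.subtype ∈ 𝒴 := by
      refine ⟨⟨Subgroup.map_subtype_le _, ?_⟩, ?_, ?_⟩
      · intro Q hQ ψ hψ x
        have hQT : Q ≤ T := hQ.trans (Subgroup.map_subtype_le _)
        obtain ⟨P₂, χ, hχ, hmem, hsurj, hχe⟩ := invCond_apply hI' hQT hψ hα
        have hP₂R : P₂ ≤ R := by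
          intro z hz
          obtain ⟨x', hx'⟩ := hsurj z hz
          obtain ⟨t, ht, hte⟩ := hQ x'.2
          have : t = ⟨x', hQT x'.2⟩ := Subtype.ext hte
          rw [← hx', ← this]
          exact ht
        have h1 := hR.1.2 P₂ hP₂R χ hχ ⟨_, hmem x⟩
        rw [hχe x (hmem x)] at h1
        exact ⟨⟨ψ x, (E.le_of_mem hψ).2 x⟩, h1, rfl⟩
      · rintro _ ⟨t, ht, rfl⟩
        have h1 : ((α t : T) : Ω) ∈ X := hR.2.1 ht
        have h2 := autGroup_apply_mem_of_stronglyClosed F hX hTS α⁻¹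
          ((F.autGroup T).inv_mem hα) (α t) h1
        rwa [MulAut.inv_apply_self] at h2
      · rw [Subgroup.commutator_le]
        intro a ha b hb
        have haT : a ∈ T := hXT ha
        have hbT : b ∈ T := hXT hb
        refine ⟨⁅(⟨a, haT⟩ : T), ⟨b, hbT⟩⁆, ?_, rfl⟩
        show ((α ⁅(⟨a, haT⟩ : T), ⟨b, hbT⟩⁆ : T) : Ω) ∈ R
        rw [map_commutatorElement]
        apply hR.2.2
        have h1 := autGroup_apply_mem_of_stronglyClosed F hX hTS α hα ⟨a, haT⟩ ha
        have h2 := autGroup_apply_mem_of_stronglyClosed F hX hTS α hα ⟨b, hbT⟩ hb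
        exact Subgroup.commutator_mem_commutator h1 h2
    obtain ⟨y', hy', e⟩ := (sInf_le hRα) hy
    have : y' = y := Subtype.ext e
    rw [← this]
    exact hy'
  have hYF : F.StronglyClosed (sInf 𝒴) := by
    refine ⟨hYX.trans hX.1, fun Q hQ φ hφ x => ?_⟩
    have hQT : Q ≤ T := hQ.trans (hYX.trans hXT)
    obtain ⟨α, hα, φ₀, hφ₀, he⟩ := hFr Q hQT φ hφ
    have h0 : φ₀ x ∈ sInf 𝒴 := hYE.2 Q hQ φ₀ hφ₀ x
    rw [he x ((E.le_of_mem hφ₀).2 x)]
    exact key α hα ⟨φ₀ x, _⟩ h0
  -- properness from the chain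
  obtain ⟨n, C, hC0, hCl, hCsc, hCc⟩ := hchain
  obtain ⟨i, hi1, hi2⟩ := fin_exists_step (fun i => ¬ X ≤ C i)
    (by
      show ¬ X ≤ C 0
      rw [hC0, le_bot_iff]
      exact hXne)
    (by
      show ¬ ¬ X ≤ C (Fin.last n)
      rw [hCl, not_not]
      exact hXT)
  have hi2' : X ≤ C i.succ := not_not.mp hi2
  have hR : X ⊓ C (Fin.castSucc i) ∈ 𝒴 := by
    refine ⟨stronglyClosed_inf' E hXE (hCsc _), inf_le_left,
      le_inf (commutator_self_le X) ?_⟩
    exact (Subgroup.commutator_mono hi2' hi2').trans (hCc i)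
  refine ⟨sInf 𝒴, hYF, lt_of_le_of_ne hYX ?_, hcomm⟩
  intro heq
  apply hi1
  have : sInf 𝒴 ≤ X ⊓ C (Fin.castSucc i) := sInf_le hR
  rw [heq] at this
  exact this.trans inf_le_right

/-- The image of a strongly closed subgroup in a factor system is strongly closed. -/
theorem imageAlong_stronglyClosed [Finite S] (p : ℕ) [Fact p.Prime] (hS : IsPGroup p S)
    (F : FusionSystem S) (hF : F.IsSaturated p) {R : Subgroup Ω} (hR : F.StronglyClosed R)
    {S' : Subgroup Ω'} (θ : S →* Ω') (E : FusionSystem S') (hE : F.IsFactorSystem R θ E)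
    {A : Subgroup Ω} (hA : F.StronglyClosed A) : E.StronglyClosed (imageAlong θ A) := by
  obtain ⟨hRS, hker, hrange, hiff⟩ := hE
  have hAS : A ≤ S := hA.1
  have hQ'S : imageAlong θ A ≤ S' := by
    rintro _ ⟨x, -, rfl⟩
    rw [← hrange]
    exact ⟨x, rfl⟩
  refine ⟨hQ'S, ?_⟩
  intro P' hP' φ' hφ' y
  obtain ⟨-, φ, hφ, hind⟩ := (hiff _ _).mp hφ'
  have hAR' := stronglyClosed_sup p hS F hF hA hR
  have hpre : preimageAlong θ P' ≤ A ⊔ R := by
    rw [← preimageAlong_imageAlong θ hRS hker hAS]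
    intro x hx
    obtain ⟨hxS, hx'⟩ := (mem_preimageAlong _ _ _).mp hx
    exact (mem_preimageAlong _ _ _).mpr ⟨hxS, hP' hx'⟩
  obtain ⟨x, hx⟩ := exists_preimageAlong θ hrange (hP'.trans hQ'S) y
  have ey : y = ⟨θ ⟨x, preimageAlong_le θ P' x.2⟩, preimageAlong_map_mem θ P' x⟩ :=
    Subtype.ext hx.symm
  have hφS := (F.le_of_mem hφ).2
  rw [ey, inducedAlong_apply θ hind x (preimageAlong_le θ P' x.2)
    (preimageAlong_map_mem θ P' x) (hφS x)]
  have h2 : φ x ∈ A ⊔ R := hAR'.2 _ hpre φ hφ x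
  have h3 : φ x ∈ preimageAlong θ (imageAlong θ A) := by
    rw [preimageAlong_imageAlong θ hRS hker hAS]
    exact h2
  exact preimageAlong_map_mem θ _ ⟨φ x, h3⟩

/-- Solvability criterion in "step" form: it suffices that every proper strongly closed `R` admits a
strongly closed `A` not inside `R` with `[A, A] ≤ R`. -/
theorem isSolvableSystem_of_steps [Finite S] (p : ℕ) [Fact p.Prime] (hS : IsPGroup p S)
    (F : FusionSystem S) (hF : F.IsSaturated p)
    (h : ∀ R : Subgroup Ω, F.StronglyClosed R → R ≠ S →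
      ∃ A : Subgroup Ω, F.StronglyClosed A ∧ ⁅A, A⁆ ≤ R ∧ ¬ A ≤ R) : F.IsSolvableSystem := by
  intro R hR hne _ E hE
  obtain ⟨A, hA, hAA, hAR⟩ := h R hR hne
  exact core_ne_bot_of_step p hS F hF hR _ E hE hA hAA hAR

/-- The "step" form holds in a system with a chain. -/
theorem exists_step_of_chain (F : FusionSystem S)
    (hchain : ∃ (n : ℕ) (C : Fin (n + 1) → Subgroup Ω), C 0 = ⊥ ∧ C (Fin.last n) = S ∧
      (∀ i, F.StronglyClosed (C i)) ∧ ∀ i : Fin n, ⁅C i.succ, C i.succ⁆ ≤ C (Fin.castSucc i))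
    {R : Subgroup Ω} (hRS : R ≤ S) (hne : R ≠ S) :
    ∃ A : Subgroup Ω, F.StronglyClosed A ∧ ⁅A, A⁆ ≤ R ∧ ¬ A ≤ R := by
  obtain ⟨n, C, hC0, hCl, hCsc, hCc⟩ := hchain
  obtain ⟨i, hi1, hi2⟩ := fin_exists_step (fun i => C i ≤ R)
    (by
      show C 0 ≤ R
      rw [hC0]; exact bot_le)
    (by
      show ¬ C (Fin.last n) ≤ R
      rw [hCl]
      exact fun h => hne (le_antisymm hRS h))
  exact ⟨C i.succ, hCsc _, (hCc i).trans hi1, hi2⟩

/-- Solvability passes to an invariant saturated subsystem and to the factor system modulo its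
underlying subgroup, and conversely. -/
theorem isSolvableSystem_iff_of_invariant [Finite S] (p : ℕ) [Fact p.Prime] (hS : IsPGroup p S)
    (F : FusionSystem S) (hF : F.IsSaturated p) (E : FusionSystem T) (hEsat : E.IsSaturated p)
    (hinv : E.IsInvariantIn F) {S' : Subgroup Ω'} (θ : S →* Ω') (D : FusionSystem S')
    (hD : F.IsFactorSystem T θ D) :
    F.IsSolvableSystem ↔ (E.IsSolvableSystem ∧ D.IsSolvableSystem) := by
  have hTsc : F.StronglyClosed T := hinv.2.1
  have hTS : T ≤ S := hTsc.1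
  have hTfin : Finite T :=
    Finite.of_injective (Subgroup.inclusion hTS) (Subgroup.inclusion_injective _)
  have hTp : IsPGroup p T := hS.to_le hTS
  have hD' := hD
  obtain ⟨-, hker, hrange, hiff⟩ := hD
  obtain ⟨hS'fin, hS'p⟩ := factor_finite_pgroup p hS θ hrange
  have hDsat : D.IsSaturated p := factor_isSaturated F hTsc θ hker hrange D hiff p hS hF
  constructor
  · intro hsolv
    obtain ⟨n, C, hC0, hCl, hCmono, hCsc, hCc⟩ :=
      (isSolvableSystem_iff_chain p hS F hF).mp hsolv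
    constructor
    · rw [isSolvableSystem_iff_chain p hTp E hEsat]
      refine ⟨n, fun i => C i ⊓ T, ?_, ?_, ?_, ?_, ?_⟩
      · show C 0 ⊓ T = ⊥
        rw [hC0, bot_inf_eq]
      · show C (Fin.last n) ⊓ T = T
        rw [hCl, inf_eq_right]
        exact hTS
      · intro i j hij
        exact inf_le_inf_right T (hCmono hij)
      · intro i
        exact stronglyClosed_inf_of_subsystem E F hinv.1 (hCsc i)
      · intro i
        refine le_inf ?_ ?_
        · exact (Subgroup.commutator_mono inf_le_left inf_le_left).trans (hCc i)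
        · exact (Subgroup.commutator_mono inf_le_right inf_le_right).trans (commutator_self_le T)
    · rw [isSolvableSystem_iff_chain p hS'p D hDsat]
      refine ⟨n, fun i => imageAlong θ (C i), ?_, ?_, ?_, ?_, ?_⟩
      · show imageAlong θ (C 0) = ⊥
        rw [hC0]
        unfold imageAlong
        rw [Subgroup.bot_subgroupOf, Subgroup.map_bot]
      · show imageAlong θ (C (Fin.last n)) = S'
        rw [hCl]
        unfold imageAlong
        rw [Subgroup.subgroupOf_self, ← MonoidHom.range_eq_map, hrange]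
      · intro i j hij
        rintro _ ⟨x, hx, rfl⟩
        exact ⟨x, hCmono hij hx, rfl⟩
      · intro i
        exact imageAlong_stronglyClosed p hS F hF hTsc θ D hD' (hCsc i)
      · intro i
        rw [Subgroup.commutator_le]
        rintro _ ⟨a, ha, rfl⟩ _ ⟨b, hb, rfl⟩
        refine ⟨⁅a, b⁆, ?_, map_commutatorElement θ a b⟩
        show ((⁅a, b⁆ : S) : Ω) ∈ C (Fin.castSucc i)
        apply hCc i
        exact Subgroup.commutator_mem_commutator ha hb
  · rintro ⟨hEsolv, hDsolv⟩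
    have hEchain := (isSolvableSystem_iff_chain p hTp E hEsat).mp hEsolv
    have hDchain := (isSolvableSystem_iff_chain p hS'p D hDsat).mp hDsolv
    have hEchain' : ∃ (n : ℕ) (C : Fin (n + 1) → Subgroup Ω), C 0 = ⊥ ∧ C (Fin.last n) = T ∧
        (∀ i, E.StronglyClosed (C i)) ∧ ∀ i : Fin n, ⁅C i.succ, C i.succ⁆ ≤ C (Fin.castSucc i) := by
      obtain ⟨n, C, h0, hl, -, hsc, hc⟩ := hEchain
      exact ⟨n, C, h0, hl, hsc, hc⟩
    have hDchain' : ∃ (n : ℕ) (C : Fin (n + 1) → Subgroup Ω'), C 0 = ⊥ ∧ C (Fin.last n) = S' ∧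
        (∀ i, D.StronglyClosed (C i)) ∧ ∀ i : Fin n, ⁅C i.succ, C i.succ⁆ ≤ C (Fin.castSucc i) := by
      obtain ⟨n, C, h0, hl, -, hsc, hc⟩ := hDchain
      exact ⟨n, C, h0, hl, hsc, hc⟩
    apply isSolvableSystem_of_steps p hS F hF
    intro R hR hne
    by_cases hTR : T ≤ R
    · -- use the factor system
      have hpre : preimageAlong θ (imageAlong θ R) = R := by
        rw [preimageAlong_imageAlong θ hTS hker hR.1]
        exact sup_of_le_left hTR
      have hR' : D.StronglyClosed (imageAlong θ R) :=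
        imageAlong_stronglyClosed p hS F hF hTsc θ D hD' hR
      have hR'ne : imageAlong θ R ≠ S' := by
        intro heq
        apply hne
        apply le_antisymm hR.1
        intro s hs
        rw [← hpre]
        refine (mem_preimageAlong _ _ _).mpr ⟨hs, ?_⟩
        rw [heq, ← hrange]
        exact ⟨⟨s, hs⟩, rfl⟩
      obtain ⟨A', hA', hA'A', hA'R'⟩ := exists_step_of_chain D hDchain' hR'.1 hR'ne
      refine ⟨preimageAlong θ A', preimageAlong_stronglyClosed p hS F hF hTsc θ D hD' hA', ?_, ?_⟩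
      · rw [Subgroup.commutator_le]
        intro a ha b hb
        have haS := preimageAlong_le θ A' ha
        have hbS := preimageAlong_le θ A' hb
        rw [← hpre]
        refine (mem_preimageAlong _ _ _).mpr
          ⟨S.mul_mem (S.mul_mem (S.mul_mem haS hbS) (S.inv_mem haS)) (S.inv_mem hbS), ?_⟩
        have e : (⟨⁅a, b⁆, S.mul_mem (S.mul_mem (S.mul_mem haS hbS) (S.inv_mem haS))
            (S.inv_mem hbS)⟩ : S) = ⁅(⟨a, haS⟩ : S), ⟨b, hbS⟩⁆ := rfl
        rw [e, map_commutatorElement]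
        apply hA'A'
        exact Subgroup.commutator_mem_commutator (preimageAlong_map_mem θ A' ⟨a, ha⟩)
          (preimageAlong_map_mem θ A' ⟨b, hb⟩)
      · intro hle
        apply hA'R'
        intro y hy
        obtain ⟨x, hx⟩ := exists_preimageAlong θ hrange hA'.1 ⟨y, hy⟩
        have hxR : (x : Ω) ∈ R := hle x.2
        have hx' : θ ⟨x, preimageAlong_le θ A' x.2⟩ = y := hx
        rw [← hx']
        exact ⟨⟨x, preimageAlong_le θ A' x.2⟩, hxR, rfl⟩
    · -- descend inside `T`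
      have main : ∀ k : ℕ, ∀ X : Subgroup Ω, F.StronglyClosed X → X ≤ T → ¬ X ≤ R →
          Nat.card X = k → ∃ A : Subgroup Ω, F.StronglyClosed A ∧ ⁅A, A⁆ ≤ R ∧ ¬ A ≤ R := by
        intro k
        induction k using Nat.strong_induction_on with
        | _ k ih =>
          intro X hX hXT hXR hk
          have hXne : X ≠ ⊥ := by
            rintro rfl
            exact hXR bot_le
          obtain ⟨Y, hY, hYX, hcomm⟩ :=
            exists_lt_stronglyClosed_of_invariant F E hinv hEchain' hX hXT hXne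
          by_cases hYR : Y ≤ R
          · exact ⟨X, hX, hcomm.trans hYR, hXR⟩
          · have hcard : Nat.card Y < Nat.card X := card_lt_of_lt hX.1 hYX
            exact ih (Nat.card Y) (hk ▸ hcard) Y hY (hYX.le.trans hXT) hYR rfl
      exact main _ T hTsc le_rfl hTR rfl

end Cfsg.Agent.Helper25
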