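import Cfsg.Agent.Helper25.FusionSemi
import Cfsg.Agent.Helper25.PFour
import Cfsg.Agent.Helper25.FusionPPowerNormal
import Cfsg.Agent.Helper25.FusionNormal
import Cfsg.Agent.Helper25.FusionHyperfocal
import Cfsg.Agent.S5083

set_option autoImplicit false

/-!
# Sparse fusion systems: subsystems `F_P(P ⋊ ⟨β⟩)` inside a fusion system
-/

namespace Cfsg.Agent.Helper25

open Cfsg Cfsg.FusionSystem

variable {Ω : Type*} [Group Ω] {S : Subgroup Ω}

theorem semiSystem_isSubsystemOf (F : FusionSystem S) {T : Subgroup Ω} (hTS : T ≤ S)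
    (B : Subgroup (MulAut T)) (hB : B ≤ F.autGroup T) : (semiSystem T B).IsSubsystemOf F := by
  intro Q φ hφ
  obtain ⟨hQ, n, b, hb, h⟩ := (mem_semiSystem_iff B φ).mp hφ
  have h1 : autHom b ∈ F.Hom T := (mem_autGroup_iff F hTS b).mp (hB hb)
  have h2 := restrict_mem F hQ h1
  have h3 : conjHom T (n : Ω) ∈ F.Hom T := F.conj_mem hTS (hTS n.2)
  refine comp_mem' F h2 h3 (fun x => (b ⟨x, hQ x.2⟩).2) (fun x => ?_)
  rw [h x]
  rfl

theorem semiSystem_inner_imp (T : Subgroup Ω) (B : Subgroup (MulAut T))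
    (h : ∀ P, (semiSystem T B).Hom P = (innerFusionSystem T).Hom P) : B ≤ Inn T := by
  intro b hb
  have h1 : autHom b ∈ (semiSystem T B).Hom T :=
    (mem_semiSystem_iff B _).mpr ⟨le_rfl, 1, b, hb, fun x => by simp [autHom]⟩
  rw [h T] at h1
  obtain ⟨-, g, hg, hgx⟩ := h1
  refine ⟨⟨g, hg⟩, ?_⟩
  ext x
  exact (hgx x).symm

theorem eq_one_of_mem_inn_of_coprime (p : ℕ) [Fact p.Prime] {T : Subgroup Ω} (hT : IsPGroup p T)
    {β : MulAut T} (hβ : β ∈ Inn T) (hcop : (orderOf β).Coprime p) : β = 1 := by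
  obtain ⟨g, rfl⟩ := hβ
  obtain ⟨k, hk⟩ := hT g
  have h1 : (MulAut.conj g) ^ (p ^ k) = 1 := by rw [← map_pow, hk, map_one]
  have h2 : orderOf (MulAut.conj g) ∣ p ^ k := orderOf_dvd_of_pow_eq_one h1
  have h3 : orderOf (MulAut.conj g) = 1 :=
    Nat.Coprime.eq_one_of_dvd (Nat.Coprime.pow_right k hcop) h2
  exact orderOf_eq_one_iff.mp h3

theorem semiSystem_autGroup (T : Subgroup Ω) (B : Subgroup (MulAut T)) :
    (semiSystem T B).autGroup T = Inn T ⊔ B := by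
  apply le_antisymm
  · intro α hα
    rw [mem_autGroup_iff _ le_rfl] at hα
    obtain ⟨hQ, n, b, hb, h⟩ := (mem_semiSystem_iff B _).mp hα
    have e : α = MulAut.conj n * b := by
      ext x
      exact h x
    rw [e]
    exact Subgroup.mul_mem _ (Subgroup.mem_sup_left ⟨n, rfl⟩) (Subgroup.mem_sup_right hb)
  · apply sup_le
    · rintro _ ⟨n, rfl⟩
      rw [mem_autGroup_iff _ le_rfl]
      exact (mem_semiSystem_iff B _).mpr ⟨le_rfl, n, 1, B.one_mem, fun x => rfl⟩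
    · intro b hb
      rw [mem_autGroup_iff _ le_rfl]
      exact (mem_semiSystem_iff B _).mpr ⟨le_rfl, 1, b, hb, fun x => by simp [autHom]⟩

/-- In a system all of whose proper saturated subsystems are inner, a nontrivial `p'`-automorphism
exists only on `S` itself, and then generates the system. -/
theorem sparse_key [Finite S] (p : ℕ) [Fact p.Prime] (hS : IsPGroup p S) (F : FusionSystem S)
    (hsp : ∀ (T : Subgroup Ω) (E : FusionSystem T), E.IsSaturated p → E.IsSubsystemOf F →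
      (T = S ∧ ∀ P : Subgroup Ω, E.Hom P = F.Hom P) ∨
        (∀ P : Subgroup Ω, E.Hom P = (innerFusionSystem T).Hom P))
    {P : Subgroup Ω} (hP : P ≤ S) {β : MulAut P} (hβ : β ∈ F.autGroup P)
    (hcop : (orderOf β).Coprime p) (hne : β ≠ 1) :
    P = S ∧ ∀ Q : Subgroup Ω, (semiSystem P (Subgroup.zpowers β)).Hom Q = F.Hom Q := by
  have hfin : Finite P := Finite.of_injective (Subgroup.inclusion hP) (Subgroup.inclusion_injective hP)
  have hPp : IsPGroup p P := hS.to_le hP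
  have hsat : (semiSystem P (Subgroup.zpowers β)).IsSaturated p := by
    apply semiSystem_isSaturated _ p hPp
    rw [Nat.card_zpowers]
    exact hcop
  have hsub : (semiSystem P (Subgroup.zpowers β)).IsSubsystemOf F :=
    semiSystem_isSubsystemOf F hP _ (by rw [Subgroup.zpowers_le]; exact hβ)
  rcases hsp P _ hsat hsub with h | h
  · exact h
  · exfalso
    have h1 := semiSystem_inner_imp P _ h (Subgroup.mem_zpowers β)
    exact hne (eq_one_of_mem_inn_of_coprime p hPp h1 hcop)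

/-- restriction of an automorphism of `S` to an invariant subgroup -/
def resAutSub {H : Subgroup Ω} (hHS : H ≤ S) (β : MulAut S)
    (h1 : ∀ x : S, (x : Ω) ∈ H → ((β x : S) : Ω) ∈ H)
    (h2 : ∀ x : S, (x : Ω) ∈ H → ((β.symm x : S) : Ω) ∈ H) : MulAut H where
  toFun x := ⟨β ⟨x, hHS x.2⟩, h1 _ x.2⟩
  invFun x := ⟨β.symm ⟨x, hHS x.2⟩, h2 _ x.2⟩
  left_inv x := by
    apply Subtype.ext
    show ((β.symm ⟨((β ⟨x, hHS x.2⟩ : S) : Ω), _⟩ : S) : Ω) = x
    have : (⟨((β ⟨x, hHS x.2⟩ : S) : Ω), hHS (h1 _ x.2)⟩ : S) = β ⟨x, hHS x.2⟩ := rfl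
    rw [this, MulEquiv.symm_apply_apply]
  right_inv x := by
    apply Subtype.ext
    show ((β ⟨((β.symm ⟨x, hHS x.2⟩ : S) : Ω), _⟩ : S) : Ω) = x
    have : (⟨((β.symm ⟨x, hHS x.2⟩ : S) : Ω), hHS (h2 _ x.2)⟩ : S) = β.symm ⟨x, hHS x.2⟩ := rfl
    rw [this, MulEquiv.apply_symm_apply]
  map_mul' x y := by
    apply Subtype.ext
    show ((β ⟨((x * y : H) : Ω), _⟩ : S) : Ω) = ((β ⟨x, _⟩ : S) : Ω) * ((β ⟨y, _⟩ : S) : Ω)
    have : (⟨((x * y : H) : Ω), hHS (x * y).2⟩ : S) = ⟨x, hHS x.2⟩ * ⟨y, hHS y.2⟩ := rfl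
    rw [this, map_mul]
    rfl

theorem resAutSub_coe {H : Subgroup Ω} (hHS : H ≤ S) (β : MulAut S)
    (h1 : ∀ x : S, (x : Ω) ∈ H → ((β x : S) : Ω) ∈ H)
    (h2 : ∀ x : S, (x : Ω) ∈ H → ((β.symm x : S) : Ω) ∈ H) (x : H) :
    ((resAutSub hHS β h1 h2 x : H) : Ω) = ((β ⟨x, hHS x.2⟩ : S) : Ω) := rfl

theorem resAutSub_pow {H : Subgroup Ω} (hHS : H ≤ S) (β : MulAut S)
    (h1 : ∀ x : S, (x : Ω) ∈ H → ((β x : S) : Ω) ∈ H)
    (h2 : ∀ x : S, (x : Ω) ∈ H → ((β.symm x : S) : Ω) ∈ H) (k : ℕ) (x : H) :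
    (((resAutSub hHS β h1 h2) ^ k) x : Ω) = (((β ^ k) ⟨x, hHS x.2⟩ : S) : Ω) := by
  induction k generalizing x with
  | zero => rfl
  | succ k ih =>
    rw [pow_succ, pow_succ, MulAut.mul_apply, MulAut.mul_apply, ih]
    rfl

end Cfsg.Agent.Helper25
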