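import Mathlib

/-!
Concrete facts about `GL (Fin 2) (ZMod 3)` and a fixed Sylow 2-subgroup `P0` (semidihedral of order 16),
checked by `decide` on a 4-tuple model of 2×2 matrices over `ZMod 3`.
-/

set_option autoImplicit false

namespace Cfsg.Agent.Helper25.GL23

abbrev T4 := ZMod 3 × ZMod 3 × ZMod 3 × ZMod 3

def mulT (x y : T4) : T4 :=
  (x.1 * y.1 + x.2.1 * y.2.2.1, x.1 * y.2.1 + x.2.1 * y.2.2.2,
   x.2.2.1 * y.1 + x.2.2.2 * y.2.2.1, x.2.2.1 * y.2.1 + x.2.2.2 * y.2.2.2)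

def eT : T4 := (1, 0, 0, 1)
def negT : T4 := (2, 0, 0, 2)
def rT : T4 := (1, 2, 1, 1)
def sT : T4 := (1, 0, 0, 2)
def r2T : T4 := (0, 1, 2, 0)
def sr2T : T4 := (0, 1, 1, 0)
def srT : T4 := (1, 2, 2, 2)
def cT : T4 := (0, 1, 1, 1)
def cinvT : T4 := (2, 1, 1, 0)

def L0 : List T4 :=
  [(1, 0, 0, 1), (1, 2, 1, 1), (0, 1, 2, 0), (1, 1, 2, 1), (2, 0, 0, 2), (2, 1, 2, 2), (0, 2, 1, 0),
   (2, 2, 1, 2), (1, 0, 0, 2), (1, 2, 2, 2), (0, 1, 1, 0), (1, 1, 1, 2), (2, 0, 0, 1), (2, 1, 1, 1),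
   (0, 2, 2, 0), (2, 2, 2, 1)]

def powT (x : T4) : ℕ → T4
  | 0 => eT
  | n + 1 => mulT (powT x n) x

theorem d_mul : ∀ a ∈ L0, ∀ b ∈ L0, mulT a b ∈ L0 := by decide
theorem d_one : eT ∈ L0 := by decide
theorem d_inv : ∀ a ∈ L0, ∀ b : T4, mulT a b = eT → b ∈ L0 := by decide
theorem d_norm : ∀ m n : T4, mulT m n = eT → (∀ x ∈ L0, mulT (mulT m x) n ∈ L0) → m ∈ L0 := by
  decide +kernel
theorem d_center : ∀ x ∈ L0, (∀ y ∈ L0, mulT x y = mulT y x) → x = eT ∨ x = negT := by decide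
theorem d_centerH : ∀ m : T4, mulT m (1, 1, 0, 1) = mulT (1, 1, 0, 1) m →
    mulT m (1, 0, 1, 1) = mulT (1, 0, 1, 1) m → m = (0, 0, 0, 0) ∨ m = eT ∨ m = negT := by decide
theorem d_list : L0 = (List.range 8).map (powT rT) ++
    (List.range 8).map (fun i => mulT sT (powT rT i)) := by decide +kernel
theorem d_gen : ∀ x ∈ L0, ∃ i : ℕ, x = powT rT i ∨ x = mulT sT (powT rT i) := by
  intro x hx
  rw [d_list, List.mem_append, List.mem_map, List.mem_map] at hx
  rcases hx with ⟨i, -, rfl⟩ | ⟨i, -, rfl⟩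
  · exact ⟨i, Or.inl rfl⟩
  · exact ⟨i, Or.inr rfl⟩
theorem d_unit : ∀ x ∈ L0, ∃ y : T4, mulT x y = eT ∧ mulT y x = eT := by decide +kernel
theorem d_nodup : L0.Nodup := by decide
theorem d_len : L0.length = 16 := by decide


theorem d_s_sq : mulT sT sT = eT := by decide
theorem d_sr2_sq : mulT sr2T sr2T = eT := by decide
theorem d_s_ne : sT ≠ eT := by decide
theorem d_sr2_ne : sr2T ≠ eT := by decide
theorem d_c1 : mulT cT cinvT = eT := by decide
theorem d_c2 : mulT cinvT cT = eT := by decide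
theorem d_s_mem : sT ∈ L0 := by decide
theorem d_r_mem : rT ∈ L0 := by decide
theorem d_neg_mem : negT ∈ L0 := by decide
theorem d_neg_ne : negT ≠ eT := by decide

/-! ### The link with `GL (Fin 2) (ZMod 3)` -/

abbrev H := GL (Fin 2) (ZMod 3)

def tup (M : Matrix (Fin 2) (Fin 2) (ZMod 3)) : T4 := (M 0 0, M 0 1, M 1 0, M 1 1)

def mat (x : T4) : Matrix (Fin 2) (Fin 2) (ZMod 3) := !![x.1, x.2.1; x.2.2.1, x.2.2.2]

theorem tup_mul (M N : Matrix (Fin 2) (Fin 2) (ZMod 3)) : tup (M * N) = mulT (tup M) (tup N) := by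
  simp [tup, mulT, Matrix.mul_apply, Fin.sum_univ_two]

theorem tup_injective : Function.Injective tup := by
  intro M N h
  simp only [tup, Prod.mk.injEq] at h
  ext i j
  fin_cases i <;> fin_cases j
  · exact h.1
  · exact h.2.1
  · exact h.2.2.1
  · exact h.2.2.2

theorem tup_one : tup 1 = eT := by
  simp [tup, eT]

theorem tup_mat (x : T4) : tup (mat x) = x := by
  simp [tup, mat]

def tau (g : H) : T4 := tup (g : Matrix (Fin 2) (Fin 2) (ZMod 3))

theorem tau_mul (g h : H) : tau (g * h) = mulT (tau g) (tau h) := by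
  unfold tau
  rw [Units.val_mul, tup_mul]

theorem tau_one : tau 1 = eT := by
  unfold tau
  rw [Units.val_one, tup_one]

theorem tau_injective : Function.Injective tau := by
  intro g h hgh
  exact Units.ext (tup_injective hgh)

theorem tau_pow (g : H) (n : ℕ) : tau (g ^ n) = powT (tau g) n := by
  induction n with
  | zero => simp [powT, tau_one]
  | succ n ih => rw [pow_succ, tau_mul, ih]; rfl

theorem tau_mul_inv (g : H) : mulT (tau g) (tau g⁻¹) = eT := by
  rw [← tau_mul, mul_inv_cancel, tau_one]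

/-- the unit with prescribed tuple, given an inverse tuple -/
def mkGL (x y : T4) (h1 : mulT x y = eT) (h2 : mulT y x = eT) : H :=
  ⟨mat x, mat y, tup_injective (by rw [tup_mul, tup_mat, tup_mat, h1, tup_one]),
    tup_injective (by rw [tup_mul, tup_mat, tup_mat, h2, tup_one])⟩

theorem tau_mkGL (x y : T4) (h1 : mulT x y = eT) (h2 : mulT y x = eT) : tau (mkGL x y h1 h2) = x :=
  tup_mat x

theorem exists_tau_eq {x : T4} (hx : x ∈ L0) : ∃ g : H, tau g = x := by
  obtain ⟨y, h1, h2⟩ := d_unit x hx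
  exact ⟨mkGL x y h1 h2, tau_mkGL x y h1 h2⟩

/-- The fixed Sylow 2-subgroup of `GL₂(3)`. -/
def P0 : Subgroup H where
  carrier := {g | tau g ∈ L0}
  mul_mem' := by
    intro a b ha hb
    show tau (a * b) ∈ L0
    rw [tau_mul]
    exact d_mul _ ha _ hb
  one_mem' := by
    show tau 1 ∈ L0
    rw [tau_one]
    exact d_one
  inv_mem' := by
    intro a ha
    exact d_inv _ ha _ (tau_mul_inv a)

theorem mem_P0 {g : H} : g ∈ P0 ↔ tau g ∈ L0 := Iff.rfl

theorem card_P0 : Nat.card P0 = 16 := by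
  have e : P0 ≃ {x : T4 // x ∈ L0} := by
    refine Equiv.ofBijective (fun g => ⟨tau g.1, g.2⟩) ⟨?_, ?_⟩
    · intro g h hgh
      exact Subtype.ext (tau_injective (Subtype.ext_iff.mp hgh))
    · rintro ⟨x, hx⟩
      obtain ⟨g, hg⟩ := exists_tau_eq hx
      exact ⟨⟨g, by rw [mem_P0, hg]; exact hx⟩, Subtype.ext hg⟩
  rw [Nat.card_congr e, Nat.card_eq_fintype_card, Fintype.card_of_subtype L0.toFinset (by simp),
    List.toFinset_card_of_nodup d_nodup, d_len]

theorem normalizer_P0_le : Subgroup.normalizer (P0 : Set H) ≤ P0 := by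
  intro g hg
  rw [mem_P0]
  apply d_norm (tau g) (tau g⁻¹) (tau_mul_inv g)
  intro x hx
  obtain ⟨h, rfl⟩ := exists_tau_eq hx
  have : g * h * g⁻¹ ∈ P0 := (Subgroup.mem_normalizer_iff.mp hg h).mp hx
  rw [mem_P0, tau_mul, tau_mul] at this
  exact this

theorem tau_neg_one : tau (-1 : H) = negT := by
  show tup (-(1 : Matrix (Fin 2) (Fin 2) (ZMod 3))) = negT
  simp [tup, negT]
  decide

theorem center_P0 {g : H} (hg : g ∈ P0) (hc : ∀ h ∈ P0, g * h = h * g) : g = 1 ∨ g = -1 := by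
  have := d_center (tau g) hg (by
    intro y hy
    obtain ⟨h, rfl⟩ := exists_tau_eq hy
    rw [← tau_mul, ← tau_mul, hc h hy])
  rcases this with h | h
  · left; exact tau_injective (h.trans tau_one.symm)
  · right; exact tau_injective (h.trans tau_neg_one.symm)

theorem tau_ne_zero (g : H) : tau g ≠ (0, 0, 0, 0) := by
  intro h
  have h1 := tau_mul_inv g
  rw [h] at h1
  revert h1
  generalize tau g⁻¹ = y
  revert y
  decide

theorem center_H {g : H} (hc : ∀ h : H, g * h = h * g) : g = 1 ∨ g = -1 := by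
  have h1 : mulT (1, 1, 0, 1) (1, 2, 0, 1) = eT ∧ mulT (1, 2, 0, 1) (1, 1, 0, 1) = eT ∧
      mulT (1, 0, 1, 1) (1, 0, 2, 1) = eT ∧ mulT (1, 0, 2, 1) (1, 0, 1, 1) = eT := by decide
  have e1 := hc (mkGL _ _ h1.1 h1.2.1)
  have e2 := hc (mkGL _ _ h1.2.2.1 h1.2.2.2)
  have e1' := congrArg tau e1
  have e2' := congrArg tau e2
  rw [tau_mul, tau_mul, tau_mkGL] at e1' e2'
  rcases d_centerH (tau g) e1' e2' with h | h | h
  · exact absurd h (tau_ne_zero g)
  · left; exact tau_injective (h.trans tau_one.symm)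
  · right; exact tau_injective (h.trans tau_neg_one.symm)

/-- the generators and auxiliary elements -/
noncomputable def rho : H := Classical.choose (exists_tau_eq d_r_mem)
theorem tau_rho : tau rho = rT := Classical.choose_spec (exists_tau_eq d_r_mem)
noncomputable def sigma : H := Classical.choose (exists_tau_eq d_s_mem)
theorem tau_sigma : tau sigma = sT := Classical.choose_spec (exists_tau_eq d_s_mem)

theorem rho_mem : rho ∈ P0 := by rw [mem_P0, tau_rho]; exact d_r_mem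
theorem sigma_mem : sigma ∈ P0 := by rw [mem_P0, tau_sigma]; exact d_s_mem

theorem P0_le_of_mem {T : Subgroup H} (hr : rho ∈ T) (hs : sigma ∈ T) : P0 ≤ T := by
  intro g hg
  obtain ⟨i, h | h⟩ := d_gen (tau g) hg
  · have : g = rho ^ i := tau_injective (by rw [h, tau_pow, tau_rho])
    rw [this]; exact T.pow_mem hr i
  · have : g = sigma * rho ^ i := tau_injective (by rw [h, tau_mul, tau_pow, tau_rho, tau_sigma])
    rw [this]; exact T.mul_mem hs (T.pow_mem hr i)

theorem sigma_sq : sigma * sigma = 1 := tau_injective (by rw [tau_mul, tau_sigma, tau_one]; exact d_s_sq)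
theorem sigma_ne_one : sigma ≠ 1 := by
  intro h
  have := congrArg tau h
  rw [tau_sigma, tau_one] at this
  exact d_s_ne this

theorem tau_sigma_rho_sq : tau (sigma * (rho * rho)) = sr2T := by
  rw [tau_mul, tau_mul, tau_sigma, tau_rho]; decide

theorem sigma_rho_sq_sq : (sigma * (rho * rho)) * (sigma * (rho * rho)) = 1 :=
  tau_injective (by rw [tau_mul, tau_sigma_rho_sq, tau_one]; exact d_sr2_sq)

theorem sigma_rho_sq_ne_one : sigma * (rho * rho) ≠ 1 := by
  intro h
  have := congrArg tau h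
  rw [tau_sigma_rho_sq, tau_one] at this
  exact d_sr2_ne this

theorem sigma_rho_sq_mem : sigma * (rho * rho) ∈ P0 :=
  P0.mul_mem sigma_mem (P0.mul_mem rho_mem rho_mem)

theorem neg_one_mem : (-1 : H) ∈ P0 := by
  rw [mem_P0, tau_neg_one]; exact d_neg_mem

theorem neg_one_ne_one : (-1 : H) ≠ 1 := by
  intro h
  have := congrArg tau h
  rw [tau_neg_one, tau_one] at this
  exact d_neg_ne this

/-- `ρ²` is conjugate in `GL₂(3)` to `σρ`. -/
theorem exists_conj : ∃ c : H, c * (rho * rho) * c⁻¹ = sigma * rho := by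
  refine ⟨mkGL cT cinvT d_c1 d_c2, ?_⟩
  apply tau_injective
  have hinv : tau (mkGL cT cinvT d_c1 d_c2)⁻¹ = cinvT := tup_mat cinvT
  rw [tau_mul, tau_mul, tau_mul, tau_mul, tau_mkGL, hinv, tau_rho, tau_sigma]
  decide

end Cfsg.Agent.Helper25.GL23
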