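import Mathlib
import Cfsg.Agent.Helper25.HT3371Defs

/-!
# S3371: base lemmas (orbit–stabilizer, equal stabilizer orders, fixed-point-freeness of
normal subgroups)
-/

set_option autoImplicit false

namespace Cfsg.Agent.HT3371

theorem card_orbit_mul_card_stab {q : ℕ} {V : Type*} [AddCommGroup V] [Module (ZMod q) V]
    {G : Type*} [Group G] [Finite G] (ρ : G →* (V ≃ₗ[ZMod q] V)) (v : V) :
    Nat.card {u : V | ∃ g : G, ρ g v = u} * Nat.card (stab ρ v) = Nat.card G := by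
  let _ : MulAction G V := MulAction.compHom V ρ
  have h1 : MulAction.orbit G v = {u : V | ∃ g : G, ρ g v = u} := by
    ext u
    rfl
  have h2 : MulAction.stabilizer G v = stab ρ v := by
    ext g
    rfl
  rw [← h1, ← h2]
  have := MulAction.index_stabilizer G v
  rw [← Subgroup.card_mul_index (MulAction.stabilizer G v), this, mul_comm]
  rfl

theorem eqStab_of_halfTrans {q : ℕ} {V : Type*} [AddCommGroup V] [Module (ZMod q) V]
    {G : Type*} [Group G] [Finite G] (ρ : G →* (V ≃ₗ[ZMod q] V)) (h : HalfTrans ρ) :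
    EqStab ρ := by
  intro v w hv hw
  have h1 := card_orbit_mul_card_stab ρ v
  have h2 := card_orbit_mul_card_stab ρ w
  rw [h v w hv hw, ← h2] at h1
  have hpos : 0 < Nat.card {u : V | ∃ g : G, ρ g w = u} := by
    rcases Nat.eq_zero_or_pos (Nat.card {u : V | ∃ g : G, ρ g w = u}) with h0 | h0
    · rw [h0, zero_mul] at h2
      exact absurd h2.symm (Nat.card_pos (α := G)).ne'
    · exact h0
  exact Nat.eq_of_mul_eq_mul_left hpos h1

theorem stab_eq_of_le {q : ℕ} {V : Type*} [AddCommGroup V] [Module (ZMod q) V]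
    {G : Type*} [Group G] [Finite G] (ρ : G →* (V ≃ₗ[ZMod q] V)) (hEq : EqStab ρ) {v w : V}
    (hv : v ≠ 0) (hw : w ≠ 0) (h : stab ρ v ≤ stab ρ w) : stab ρ v = stab ρ w :=
  Subgroup.eq_of_le_of_card_ge h (hEq v w hv hw).ge

theorem semireg_of_stab_eq_bot {q : ℕ} {V : Type*} [AddCommGroup V] [Module (ZMod q) V]
    {G : Type*} [Group G] [Finite G] (ρ : G →* (V ≃ₗ[ZMod q] V)) (hEq : EqStab ρ) {v : V}
    (hv : v ≠ 0) (h : stab ρ v = ⊥) : Semireg ρ := by
  intro w hw g hg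
  have h1 : Nat.card (stab ρ w) = 1 := by
    rw [← hEq v w hv hw, h]
    exact Subgroup.card_bot
  have h2 : stab ρ w = ⊥ := Subgroup.card_eq_one.mp h1
  have h3 : g ∈ stab ρ w := hg
  rw [h2] at h3
  exact Subgroup.mem_bot.mp h3

theorem semireg_of_isCompl {q : ℕ} {V : Type*} [AddCommGroup V] [Module (ZMod q) V]
    {G : Type*} [Group G] [Finite G] (ρ : G →* (V ≃ₗ[ZMod q] V)) (hinj : Function.Injective ρ)
    (hEq : EqStab ρ) (W₁ W₂ : Submodule (ZMod q) V) (hc : IsCompl W₁ W₂) (h₁ : W₁ ≠ ⊥)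
    (h₂ : W₂ ≠ ⊥) (hW₁ : ∀ g : G, ∀ v ∈ W₁, ρ g v ∈ W₁) (hW₂ : ∀ g : G, ∀ v ∈ W₂, ρ g v ∈ W₂) :
    Semireg ρ := by
  have hdisj : ∀ u : V, u ∈ W₁ → u ∈ W₂ → u = 0 := by
    intro u h1 h2
    have : u ∈ W₁ ⊓ W₂ := ⟨h1, h2⟩
    rw [hc.inf_eq_bot] at this
    exact this
  -- the key: stabilizers of mixed sums
  have key : ∀ w₁ w₂ : V, w₁ ∈ W₁ → w₂ ∈ W₂ → w₁ ≠ 0 → w₂ ≠ 0 → stab ρ w₁ = stab ρ w₂ := by
    intro w₁ w₂ hw₁ hw₂ h10 h20
    have hsum : w₁ + w₂ ≠ 0 := by
      intro h0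
      apply h10
      apply hdisj w₁ hw₁
      have : w₁ = -w₂ := eq_neg_of_add_eq_zero_left h0
      rw [this]
      exact Submodule.neg_mem _ hw₂
    have hle : stab ρ (w₁ + w₂) ≤ stab ρ w₁ ⊓ stab ρ w₂ := by
      intro g hg
      rw [mem_stab, map_add] at hg
      have hd : ρ g w₁ - w₁ = w₂ - ρ g w₂ := by
        have : ρ g w₁ = w₁ + w₂ - ρ g w₂ := eq_sub_of_add_eq hg
        rw [this]; abel
      have hz : ρ g w₁ - w₁ = 0 := by
        apply hdisj
        · exact Submodule.sub_mem _ (hW₁ g w₁ hw₁) hw₁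
        · rw [hd]
          exact Submodule.sub_mem _ hw₂ (hW₂ g w₂ hw₂)
      have hz2 : w₂ - ρ g w₂ = 0 := by rw [← hd, hz]
      exact ⟨sub_eq_zero.mp hz, (sub_eq_zero.mp hz2).symm⟩
    have e1 := stab_eq_of_le ρ hEq hsum h10 (hle.trans inf_le_left)
    have e2 := stab_eq_of_le ρ hEq hsum h20 (hle.trans inf_le_right)
    rw [← e1, e2]
  obtain ⟨a₁, ha₁, ha₁0⟩ := Submodule.exists_mem_ne_zero_of_ne_bot h₁
  obtain ⟨a₂, ha₂, ha₂0⟩ := Submodule.exists_mem_ne_zero_of_ne_bot h₂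
  apply semireg_of_stab_eq_bot ρ hEq ha₁0
  rw [Subgroup.eq_bot_iff_forall]
  intro g hg
  apply hinj
  rw [map_one]
  apply LinearEquiv.ext
  intro v
  have hv : v ∈ W₁ ⊔ W₂ := by
    rw [hc.sup_eq_top]; exact Submodule.mem_top
  obtain ⟨u₁, hu₁, u₂, hu₂, rfl⟩ := Submodule.mem_sup.mp hv
  have f1 : ρ g u₁ = u₁ := by
    by_cases h0 : u₁ = 0
    · rw [h0, map_zero]
    · have : stab ρ u₁ = stab ρ a₁ := by
        rw [key u₁ a₂ hu₁ ha₂ h0 ha₂0, key a₁ a₂ ha₁ ha₂ ha₁0 ha₂0]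
      have hg' : g ∈ stab ρ u₁ := by rw [this]; exact hg
      exact hg'
  have f2 : ρ g u₂ = u₂ := by
    by_cases h0 : u₂ = 0
    · rw [h0, map_zero]
    · have : stab ρ u₂ = stab ρ a₁ := (key a₁ u₂ ha₁ hu₂ ha₁0 h0).symm
      have hg' : g ∈ stab ρ u₂ := by rw [this]; exact hg
      exact hg'
  rw [map_add, f1, f2]
  rfl

theorem neg_of_fpf_involution {q : ℕ} {V : Type*} [AddCommGroup V] [Module (ZMod q) V]
    {G : Type*} [Group G] (ρ : G →* (V ≃ₗ[ZMod q] V)) (z : G) (hz : z * z = 1) (hf : Fpf ρ z)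
    (v : V) : ρ z v = -v := by
  have h1 : ρ z (v + ρ z v) = v + ρ z v := by
    rw [map_add, ← LinearEquiv.mul_apply, ← map_mul, hz, map_one, add_comm]
    rfl
  have h2 := hf _ h1
  exact (neg_eq_of_add_eq_zero_right h2).symm

theorem sumZ_of_fpf {q : ℕ} {V : Type*} [AddCommGroup V] [Module (ZMod q) V]
    {G : Type*} [Group G] (ρ : G →* (V ≃ₗ[ZMod q] V)) (p : ℕ) (z : G) (hz : z ^ p = 1)
    (hf : Fpf ρ z) : SumZ ρ p z := by
  intro v
  apply hf
  rw [map_sum]
  have h1 : ∀ t ∈ Finset.range p, ρ z (ρ (z ^ t) v) = ρ (z ^ (t + 1)) v := by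
    intro t _
    rw [← LinearEquiv.mul_apply, ← map_mul, ← pow_succ']
  rw [Finset.sum_congr rfl h1]
  rcases Nat.eq_zero_or_pos p with h0 | h0
  · subst h0; simp
  · obtain ⟨m, rfl⟩ : ∃ m, p = m + 1 := ⟨p - 1, by omega⟩
    rw [Finset.sum_range_succ, Finset.sum_range_succ', hz, pow_zero]

theorem fpf_of_central {q : ℕ} {V : Type*} [AddCommGroup V] [Module (ZMod q) V]
    {G : Type*} [Group G] (ρ : G →* (V ≃ₗ[ZMod q] V)) (hfpf : NormalFpf ρ) (y : G) (hy : y ≠ 1)
    (hc : ∀ h : G, h * y = y * h) : Fpf ρ y := by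
  intro v hv
  have hn : (Subgroup.zpowers y).Normal := by
    constructor
    intro n hn g
    obtain ⟨k, rfl⟩ := Subgroup.mem_zpowers_iff.mp hn
    have : g * y ^ k * g⁻¹ = y ^ k := by
      have h1 : Commute g y := hc g
      have h2 : Commute g (y ^ k) := h1.zpow_right k
      rw [h2.eq, mul_assoc, mul_inv_cancel, mul_one]
    rw [this]
    exact Subgroup.zpow_mem_zpowers y k
  have hne : Subgroup.zpowers y ≠ ⊥ := by
    intro h
    apply hy
    have : y ∈ Subgroup.zpowers y := Subgroup.mem_zpowers y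
    rw [h] at this
    exact Subgroup.mem_bot.mp this
  apply hfpf _ hn hne v
  intro n hn'
  have hs : Subgroup.zpowers y ≤ stab ρ v := by
    rw [Subgroup.zpowers_le]
    exact hv
  exact hs hn'

theorem fpf_of_normal {q : ℕ} [Fact q.Prime] {V : Type*} [AddCommGroup V] [Module (ZMod q) V]
    {G : Type*} [Group G] [Finite G] (ρ : G →* (V ≃ₗ[ZMod q] V)) (hinj : Function.Injective ρ)
    (hEq : EqStab ρ) (hns : ¬ Semireg ρ) (hcop : (Nat.card G).Coprime q) : NormalFpf ρ := by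
  classical
  intro N hN hne
  have := Fintype.ofFinite N
  -- the averaging operator
  let T : V →ₗ[ZMod q] V := ∑ n : N, ((ρ (n : G) : V ≃ₗ[ZMod q] V) : V →ₗ[ZMod q] V)
  have hT : ∀ v : V, T v = ∑ n : N, ρ (n : G) v := by
    intro v
    simp only [T, LinearMap.sum_apply, LinearEquiv.coe_coe]
  -- `ρ m (T v) = T v` for `m ∈ N`
  have hTfix : ∀ (m : N) (v : V), ρ (m : G) (T v) = T v := by
    intro m v
    rw [hT, map_sum]
    have h1 : ∀ n : N, ρ (m : G) (ρ (n : G) v) = ρ ((m * n : N) : G) v := by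
      intro n
      rw [← LinearEquiv.mul_apply, ← map_mul]
      rfl
    rw [Finset.sum_congr rfl (fun n _ => h1 n)]
    exact Fintype.sum_equiv (Equiv.mulLeft m) _ _ (fun n => rfl)
  -- `T (ρ m v) = T v`
  have hTinv : ∀ (m : N) (v : V), T (ρ (m : G) v) = T v := by
    intro m v
    rw [hT, hT]
    have h1 : ∀ n : N, ρ (n : G) (ρ (m : G) v) = ρ ((n * m : N) : G) v := by
      intro n
      rw [← LinearEquiv.mul_apply, ← map_mul]
      rfl
    rw [Finset.sum_congr rfl (fun n _ => h1 n)]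
    exact Fintype.sum_equiv (Equiv.mulRight m) _ _ (fun n => rfl)
  -- `T (ρ g v) = ρ g (T v)` for all `g`
  have hTg : ∀ (g : G) (v : V), T (ρ g v) = ρ g (T v) := by
    intro g v
    rw [hT, hT, map_sum]
    have h1 : ∀ n : N, ρ (n : G) (ρ g v) =
        ρ g (ρ ((MulAut.conjNormal g⁻¹ n : N) : G) v) := by
      intro n
      rw [← LinearEquiv.mul_apply, ← map_mul, ← LinearEquiv.mul_apply, ← map_mul]
      congr 2
      rw [MulAut.conjNormal_apply]
      group
    rw [Finset.sum_congr rfl (fun n _ => h1 n)]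
    exact Fintype.sum_equiv (MulAut.conjNormal g⁻¹ : N ≃* N).toEquiv _ _ (fun n => rfl)
  -- `|N|` is a unit of `ZMod q`
  have hcN : (Nat.card N).Coprime q := Nat.Coprime.coprime_dvd_left (Subgroup.card_subgroup_dvd_card N) hcop
  have hunit : IsUnit ((Nat.card N : ℕ) : ZMod q) := (ZMod.isUnit_iff_coprime _ _).mpr hcN
  -- on fixed vectors `T v = |N| v`
  have hTfixed : ∀ v : V, (∀ n ∈ N, ρ n v = v) → T v = ((Nat.card N : ℕ) : ZMod q) • v := by
    intro v hv
    rw [hT]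
    rw [Finset.sum_congr rfl (fun (n : N) _ => hv (n : G) n.2)]
    rw [Finset.sum_const, Finset.card_univ, Nat.card_eq_fintype_card, Nat.cast_smul_eq_nsmul]
  let W₁ : Submodule (ZMod q) V :=
    { carrier := {v | ∀ n ∈ N, ρ n v = v}
      zero_mem' := by intro n _; simp
      add_mem' := by
        intro v w hv hw n hn
        rw [map_add, hv n hn, hw n hn]
      smul_mem' := by
        intro c v hv n hn
        rw [map_smul, hv n hn] }
  let W₂ : Submodule (ZMod q) V := LinearMap.ker T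
  have hW₁mem : ∀ v, v ∈ W₁ ↔ ∀ n ∈ N, ρ n v = v := fun v => Iff.rfl
  have hcompl : IsCompl W₁ W₂ := by
    constructor
    · rw [Submodule.disjoint_def]
      intro v hv1 hv2
      have h1 := hTfixed v hv1
      have h2 : T v = 0 := hv2
      rw [h2] at h1
      exact (hunit.smul_eq_zero).mp h1.symm
    · rw [codisjoint_iff, eq_top_iff]
      intro v _
      obtain ⟨c, hc⟩ := hunit.exists_left_inv
      have hv : v = c • T v + (v - c • T v) := by abel
      rw [hv]
      apply Submodule.add_mem_sup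
      · intro n hn
        rw [map_smul]
        congr 1
        exact hTfix ⟨n, hn⟩ v
      · show T (v - c • T v) = 0
        rw [map_sub, map_smul]
        have : T (T v) = ((Nat.card N : ℕ) : ZMod q) • T v :=
          hTfixed (T v) (fun n hn => hTfix ⟨n, hn⟩ v)
        rw [this, smul_smul, hc, one_smul, sub_self]
  have hW₁inv : ∀ g : G, ∀ v ∈ W₁, ρ g v ∈ W₁ := by
    intro g v hv n hn
    have h1 : g⁻¹ * n * g ∈ N := by
      have := hN.conj_mem n hn g⁻¹
      rwa [inv_inv] at this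
    have h2 := hv _ h1
    have h3 : ρ n (ρ g v) = ρ g (ρ (g⁻¹ * n * g) v) := by
      rw [← LinearEquiv.mul_apply, ← map_mul, ← LinearEquiv.mul_apply, ← map_mul]
      congr 2
      group
    rw [h3, h2]
  have hW₂inv : ∀ g : G, ∀ v ∈ W₂, ρ g v ∈ W₂ := by
    intro g v hv
    show T (ρ g v) = 0
    rw [hTg]
    have : T v = 0 := hv
    rw [this, map_zero]
  by_cases h1 : W₁ = ⊥
  · intro v hv
    have : v ∈ W₁ := hv
    rw [h1] at this
    exact this
  · exfalso
    by_cases h2 : W₂ = ⊥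
    · -- then `W₁ = ⊤` and `N` acts trivially
      have htop : W₁ = ⊤ := by
        have := hcompl.sup_eq_top
        rw [h2, sup_bot_eq] at this
        exact this
      apply hne
      rw [Subgroup.eq_bot_iff_forall]
      intro n hn
      apply hinj
      rw [map_one]
      apply LinearEquiv.ext
      intro v
      have : v ∈ W₁ := by rw [htop]; exact Submodule.mem_top
      exact this n hn
    · exact hns (semireg_of_isCompl ρ hinj hEq W₁ W₂ hcompl h1 h2 hW₁inv hW₂inv)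

end Cfsg.Agent.HT3371
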