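import Mathlib
import Cfsg.Agent.Helper25.HT3371Defs

/-!
# S3371, piece DIM1F (`concl_three`)
-/

set_option autoImplicit false

namespace Cfsg.Agent.HT3371

theorem concl_three {q : ℕ} [Fact q.Prime] {V : Type*} [AddCommGroup V]
    [Module (ZMod q) V] {G : Type*} [Group G] (ρ : G →* (V ≃ₗ[ZMod q] V)) (e₁ e₂ : V)
    (e : V ≃ₗ[ZMod q] (Fin 2 → ZMod q))
    (he : ∀ c : Fin 2 → ZMod q, e.symm c = c 0 • e₁ + c 1 • e₂)
    (h1 : ∀ g : G, ∃ a s : ZMod q, a ≠ 0 ∧ (s = 1 ∨ s = -1) ∧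
      ((ρ g e₁ = a • e₁ ∧ ρ g e₂ = (s * a⁻¹) • e₂) ∨
       (ρ g e₁ = a • e₂ ∧ ρ g e₂ = (s * a⁻¹) • e₁)))
    (h2 : ∀ a s : ZMod q, a ≠ 0 → (s = 1 ∨ s = -1) →
      (∃ g : G, ρ g e₁ = a • e₁ ∧ ρ g e₂ = (s * a⁻¹) • e₂) ∧
      (∃ g : G, ρ g e₁ = a • e₂ ∧ ρ g e₂ = (s * a⁻¹) • e₁)) :
    ∀ f : (Fin 2 → ZMod q) ≃ₗ[ZMod q] (Fin 2 → ZMod q),
        (∃ g : G, f = e.symm.trans ((ρ g).trans e)) ↔
        ∃ a s : ZMod q, a ≠ 0 ∧ (s = 1 ∨ s = -1) ∧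
          ((∀ v, f v = ![a * v 0, s * a⁻¹ * v 1]) ∨ (∀ v, f v = ![s * a⁻¹ * v 1, a * v 0])) := by
  have hD : ∀ (g : G) (a b : ZMod q), ρ g e₁ = a • e₁ → ρ g e₂ = b • e₂ →
      ∀ v : Fin 2 → ZMod q, e (ρ g (e.symm v)) = ![a * v 0, b * v 1] := by
    intro g a b d1 d2 v
    apply e.symm.injective
    rw [e.symm_apply_apply, he, he, map_add, map_smul, map_smul, d1, d2, smul_smul, smul_smul]
    simp only [Matrix.cons_val_zero, Matrix.cons_val_one, mul_comm]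
  have hA : ∀ (g : G) (a b : ZMod q), ρ g e₁ = a • e₂ → ρ g e₂ = b • e₁ →
      ∀ v : Fin 2 → ZMod q, e (ρ g (e.symm v)) = ![b * v 1, a * v 0] := by
    intro g a b d1 d2 v
    apply e.symm.injective
    rw [e.symm_apply_apply, he, he, map_add, map_smul, map_smul, d1, d2, smul_smul, smul_smul]
    simp only [Matrix.cons_val_zero, Matrix.cons_val_one, mul_comm]
    rw [add_comm]
  intro f
  constructor
  · rintro ⟨g, rfl⟩
    obtain ⟨a, s, ha, hs, h⟩ := h1 g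
    refine ⟨a, s, ha, hs, ?_⟩
    rcases h with ⟨d1, d2⟩ | ⟨d1, d2⟩
    · left
      intro v
      exact hD g a (s * a⁻¹) d1 d2 v
    · right
      intro v
      exact hA g a (s * a⁻¹) d1 d2 v
  · rintro ⟨a, s, ha, hs, h⟩
    obtain ⟨⟨g, d1, d2⟩, ⟨g', d1', d2'⟩⟩ := h2 a s ha hs
    rcases h with h | h
    · refine ⟨g, LinearEquiv.ext (fun v => ?_)⟩
      rw [h v]
      exact (hD g a (s * a⁻¹) d1 d2 v).symm
    · refine ⟨g', LinearEquiv.ext (fun v => ?_)⟩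
      rw [h v]
      exact (hA g' a (s * a⁻¹) d1' d2' v).symm

end Cfsg.Agent.HT3371
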