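import Mathlib
import Cfsg.Agent.Helper25.HT3371Defs
import Cfsg.Agent.Helper25.HT3371Base

/-!
# S3371, piece DIM1K: the group in the basis `e₁, e₂`
-/

set_option autoImplicit false

namespace Cfsg.Agent.HT3371

theorem dim_one_group {q : ℕ} [Fact q.Prime] {V : Type*} [AddCommGroup V]
    [Module (ZMod q) V] {G : Type*} [Group G] [Finite G] (ρ : G →* (V ≃ₗ[ZMod q] V))
    (hinj : Function.Injective ρ) (hEq : EqStab ρ) (hns : ¬ Semireg ρ) (z t : G)
    (hk : Klein z t) (e₁ e₂ : V)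
    (hind : ∀ x y : ZMod q, x • e₁ + y • e₂ = 0 → x = 0 ∧ y = 0)
    (hspan : ∀ v : V, ∃ x y : ZMod q, v = x • e₁ + y • e₂)
    (hdiag : ∀ g : G, g * t = t * g → ∃ α β : ZMod q, ρ g e₁ = α • e₁ ∧ ρ g e₂ = β • e₂)
    (hanti : ∀ g : G, g * t * g⁻¹ = t * z → ∃ γ δ : ZMod q, ρ g e₁ = γ • e₂ ∧ ρ g e₂ = δ • e₁) :
    (∀ g : G, ∃ a s : ZMod q, a ≠ 0 ∧ (s = 1 ∨ s = -1) ∧
      ((ρ g e₁ = a • e₁ ∧ ρ g e₂ = (s * a⁻¹) • e₂) ∨
       (ρ g e₁ = a • e₂ ∧ ρ g e₂ = (s * a⁻¹) • e₁))) ∧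
    (∀ a s : ZMod q, a ≠ 0 → (s = 1 ∨ s = -1) →
      (∃ g : G, ρ g e₁ = a • e₁ ∧ ρ g e₂ = (s * a⁻¹) • e₂) ∧
      (∃ g : G, ρ g e₁ = a • e₂ ∧ ρ g e₂ = (s * a⁻¹) • e₁)) := by
  -- coordinates are unique
  have hcoord : ∀ x y x' y' : ZMod q, x • e₁ + y • e₂ = x' • e₁ + y' • e₂ → x = x' ∧ y = y' := by
    intro x y x' y' h
    have h0 : (x - x') • e₁ + (y - y') • e₂ = 0 := by
      rw [sub_smul, sub_smul]
      have : x • e₁ - x' • e₁ + (y • e₂ - y' • e₂) = (x • e₁ + y • e₂) - (x' • e₁ + y' • e₂) := by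
        abel
      rw [this, h, sub_self]
    obtain ⟨h1, h2⟩ := hind _ _ h0
    exact ⟨sub_eq_zero.mp h1, sub_eq_zero.mp h2⟩
  have he₁ : e₁ ≠ 0 := by
    intro h
    have := (hind 1 0 (by rw [h]; simp)).1
    exact one_ne_zero this
  have he₂ : e₂ ≠ 0 := by
    intro h
    have := (hind 0 1 (by rw [h]; simp)).2
    exact one_ne_zero this
  -- an element is determined by its values on `e₁, e₂`
  have hdet : ∀ g h : G, ρ g e₁ = ρ h e₁ → ρ g e₂ = ρ h e₂ → g = h := by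
    intro g h h1 h2
    apply hinj
    apply LinearEquiv.ext
    intro v
    obtain ⟨x, y, rfl⟩ := hspan v
    rw [map_add, map_add, map_smul, map_smul, map_smul, map_smul, h1, h2]
  have hone : ∀ g : G, ρ g e₁ = e₁ → ρ g e₂ = e₂ → g = 1 := by
    intro g h1 h2
    apply hdet
    · rw [h1, map_one]; rfl
    · rw [h2, map_one]; rfl
  -- every element is diagonal or antidiagonal
  have hcases : ∀ g : G, (∃ α β : ZMod q, ρ g e₁ = α • e₁ ∧ ρ g e₂ = β • e₂) ∨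
      (∃ γ δ : ZMod q, ρ g e₁ = γ • e₂ ∧ ρ g e₂ = δ • e₁) := by
    intro g
    rcases hk.conj g with h | h
    · left
      apply hdiag
      calc g * t = g * t * g⁻¹ * g := by rw [inv_mul_cancel_right]
        _ = t * g := by rw [h]
    · right
      exact hanti g h
  -- composition rules
  have hDD : ∀ (g h : G) (α β α' β' : ZMod q), ρ g e₁ = α • e₁ → ρ g e₂ = β • e₂ →
      ρ h e₁ = α' • e₁ → ρ h e₂ = β' • e₂ →
      ρ (g * h) e₁ = (α * α') • e₁ ∧ ρ (g * h) e₂ = (β * β') • e₂ := by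
    intro g h α β α' β' h1 h2 h3 h4
    constructor
    · rw [map_mul, LinearEquiv.mul_apply, h3, map_smul, h1, smul_smul, mul_comm]
    · rw [map_mul, LinearEquiv.mul_apply, h4, map_smul, h2, smul_smul, mul_comm]
  have hAA : ∀ (g h : G) (γ δ γ' δ' : ZMod q), ρ g e₁ = γ • e₂ → ρ g e₂ = δ • e₁ →
      ρ h e₁ = γ' • e₂ → ρ h e₂ = δ' • e₁ →
      ρ (g * h) e₁ = (γ' * δ) • e₁ ∧ ρ (g * h) e₂ = (δ' * γ) • e₂ := by
    intro g h γ δ γ' δ' h1 h2 h3 h4
    constructor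
    · rw [map_mul, LinearEquiv.mul_apply, h3, map_smul, h2, smul_smul]
    · rw [map_mul, LinearEquiv.mul_apply, h4, map_smul, h1, smul_smul]
  have hAD : ∀ (g h : G) (γ δ α β : ZMod q), ρ g e₁ = γ • e₂ → ρ g e₂ = δ • e₁ →
      ρ h e₁ = α • e₁ → ρ h e₂ = β • e₂ →
      ρ (g * h) e₁ = (α * γ) • e₂ ∧ ρ (g * h) e₂ = (β * δ) • e₁ := by
    intro g h γ δ α β h1 h2 h3 h4
    constructor
    · rw [map_mul, LinearEquiv.mul_apply, h3, map_smul, h1, smul_smul]
    · rw [map_mul, LinearEquiv.mul_apply, h4, map_smul, h2, smul_smul]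
  -- every nonzero vector is fixed by a nonidentity element
  have hex : ∀ v : V, v ≠ 0 → ∃ g : G, g ≠ 1 ∧ ρ g v = v := by
    intro v hv
    have hne : stab ρ v ≠ ⊥ := fun h => hns (semireg_of_stab_eq_bot ρ hEq hv h)
    obtain ⟨g, hg1⟩ := (Subgroup.ne_bot_iff_exists_ne_one.mp hne)
    exact ⟨g, fun h => hg1 (Subtype.ext h), g.2⟩
  -- the antidiagonal elements `g_r`
  have hgr : ∀ r : ZMod q, r ≠ 0 → ∃ g : G, ρ g e₁ = r⁻¹ • e₂ ∧ ρ g e₂ = r • e₁ := by
    intro r hr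
    have hv : r • e₁ + (1 : ZMod q) • e₂ ≠ 0 := by
      intro h
      exact hr (hind _ _ h).1
    obtain ⟨g, hg1, hgv⟩ := hex _ hv
    rw [map_add, map_smul, map_smul] at hgv
    rcases hcases g with ⟨α, β, h1, h2⟩ | ⟨γ, δ, h1, h2⟩
    · exfalso
      rw [h1, h2, smul_smul, smul_smul] at hgv
      obtain ⟨c1, c2⟩ := hcoord _ _ _ _ hgv
      have hα : α = 1 := by
        have : r * α = r * 1 := by rw [c1, mul_one]
        exact mul_left_cancel₀ hr this
      have hβ : β = 1 := by rw [one_mul] at c2; exact c2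
      apply hg1
      apply hone
      · rw [h1, hα, one_smul]
      · rw [h2, hβ, one_smul]
    · rw [h1, h2, smul_smul, smul_smul, add_comm] at hgv
      obtain ⟨c1, c2⟩ := hcoord _ _ _ _ hgv
      rw [one_mul] at c1
      refine ⟨g, ?_, ?_⟩
      · rw [h1]
        congr 1
        exact eq_inv_of_mul_eq_one_right c2
      · rw [h2, c1]
  -- the stabilizer of `e₁ + e₂` has at most two elements
  obtain ⟨g₁, hg₁a, hg₁b⟩ := hgr 1 one_ne_zero
  rw [inv_one, one_smul] at hg₁a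
  rw [one_smul] at hg₁b
  have hv12 : e₁ + e₂ ≠ 0 := by
    intro h
    have := (hind 1 1 (by rw [one_smul, one_smul]; exact h)).1
    exact one_ne_zero this
  have hstab12 : ∀ g : G, g ∈ stab ρ (e₁ + e₂) → g = 1 ∨ g = g₁ := by
    intro g hg
    rw [mem_stab, map_add] at hg
    rcases hcases g with ⟨α, β, h1, h2⟩ | ⟨γ, δ, h1, h2⟩
    · left
      rw [h1, h2] at hg
      have hg' : α • e₁ + β • e₂ = (1 : ZMod q) • e₁ + (1 : ZMod q) • e₂ := by
        rw [one_smul, one_smul]; exact hg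
      obtain ⟨c1, c2⟩ := hcoord _ _ _ _ hg'
      apply hone
      · rw [h1, c1, one_smul]
      · rw [h2, c2, one_smul]
    · right
      rw [h1, h2, add_comm] at hg
      have hg' : δ • e₁ + γ • e₂ = (1 : ZMod q) • e₁ + (1 : ZMod q) • e₂ := by
        rw [one_smul, one_smul]; exact hg
      obtain ⟨c1, c2⟩ := hcoord _ _ _ _ hg'
      apply hdet
      · rw [h1, c2, one_smul, hg₁a]
      · rw [h2, c1, one_smul, hg₁b]
  have hcard12 : Nat.card (stab ρ (e₁ + e₂)) ≤ 2 := by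
    classical
    have hsub : ((stab ρ (e₁ + e₂) : Subgroup G) : Set G) ⊆ ({1, g₁} : Finset G) := by
      intro g hg
      rcases hstab12 g hg with h | h
      · rw [h]; simp
      · rw [h]; simp
    calc Nat.card (stab ρ (e₁ + e₂)) = Nat.card ((stab ρ (e₁ + e₂) : Subgroup G) : Set G) := rfl
      _ ≤ Nat.card (({1, g₁} : Finset G) : Set G) := Nat.card_mono (Finset.finite_toSet _) hsub
      _ = ({1, g₁} : Finset G).card := Nat.card_coe_set_eq _ ▸ (Set.ncard_coe_finset _)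
      _ ≤ 2 := Finset.card_le_two
  -- elements fixing `e₁` are involutions
  have hcard1 : Nat.card (stab ρ e₁) = 2 := by
    have h1 : Nat.card (stab ρ e₁) ≤ 2 := by rw [hEq e₁ (e₁ + e₂) he₁ hv12]; exact hcard12
    have h2 : Nat.card (stab ρ e₁) ≠ 1 := by
      intro h
      exact hns (semireg_of_stab_eq_bot ρ hEq he₁ (Subgroup.card_eq_one.mp h))
    have h3 : 0 < Nat.card (stab ρ e₁) := Nat.card_pos
    omega
  have hsq : ∀ m : G, ρ m e₁ = e₁ → m * m = 1 := by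
    intro m hm
    have h1 : orderOf (⟨m, hm⟩ : stab ρ e₁) ∣ 2 := by
      rw [← hcard1]; exact orderOf_dvd_natCard _
    have h2 : (⟨m, hm⟩ : stab ρ e₁) ^ 2 = 1 := orderOf_dvd_iff_pow_eq_one.mp h1
    have h3 := congrArg Subtype.val h2
    simpa [pow_two] using h3
  -- diagonal elements fixing `e₁` act as `±1` on `e₂`
  have hpm : ∀ (m : G) (μ : ZMod q), ρ m e₁ = e₁ → ρ m e₂ = μ • e₂ → μ = 1 ∨ μ = -1 := by
    intro m μ h1 h2
    have hmm := hsq m h1
    have h3 := (hDD m m 1 μ 1 μ (by rw [one_smul]; exact h1) h2 (by rw [one_smul]; exact h1) h2).2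
    rw [hmm, map_one] at h3
    have h4 : (0 : ZMod q) • e₁ + (1 : ZMod q) • e₂ = (0 : ZMod q) • e₁ + (μ * μ) • e₂ := by
      rw [one_smul, zero_smul, zero_add, zero_add]
      exact h3
    have h5 := (hcoord _ _ _ _ h4).2
    have h6 : (μ - 1) * (μ + 1) = 0 := by
      have : (μ - 1) * (μ + 1) = μ * μ - 1 := by ring
      rw [this, ← h5, sub_self]
    rcases mul_eq_zero.mp h6 with h | h
    · left; exact sub_eq_zero.mp h
    · right; exact eq_neg_of_add_eq_zero_left h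
  -- the element `n₁ = diag(1, -1)`
  obtain ⟨n₁, hn₁1, hn₁a, hn₁b⟩ : ∃ n₁ : G, n₁ ≠ 1 ∧ ρ n₁ e₁ = e₁ ∧ ρ n₁ e₂ = (-1 : ZMod q) • e₂ := by
    obtain ⟨n, hn1, hnv⟩ := hex e₁ he₁
    rcases hcases n with ⟨α, β, h1, h2⟩ | ⟨γ, δ, h1, h2⟩
    · rcases hpm n β hnv h2 with h | h
      · exfalso
        apply hn1
        apply hone n hnv
        rw [h2, h, one_smul]
      · exact ⟨n, hn1, hnv, by rw [h2, h]⟩
    · exfalso
      rw [hnv] at h1
      have h3 : (1 : ZMod q) • e₁ + (0 : ZMod q) • e₂ = (0 : ZMod q) • e₁ + γ • e₂ := by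
        rw [one_smul, zero_smul, zero_smul, add_zero, zero_add]
        exact h1
      exact one_ne_zero (hcoord _ _ _ _ h3).1
  -- the diagonal elements `d_a`
  have hda : ∀ a : ZMod q, a ≠ 0 → ∃ d : G, ρ d e₁ = a • e₁ ∧ ρ d e₂ = a⁻¹ • e₂ := by
    intro a ha
    obtain ⟨g, hg1, hg2⟩ := hgr a ha
    have := hAA g g₁ a⁻¹ a 1 1 hg1 hg2 (by rw [one_smul]; exact hg₁a) (by rw [one_smul]; exact hg₁b)
    rw [one_mul, one_mul] at this
    exact ⟨g * g₁, this.1, this.2⟩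
  -- diagonal shape: the product of the two scalars is `±1`
  have hdshape : ∀ (g : G) (α β : ZMod q), ρ g e₁ = α • e₁ → ρ g e₂ = β • e₂ →
      α ≠ 0 ∧ (β * α = 1 ∨ β * α = -1) := by
    intro g α β h1 h2
    have hα : α ≠ 0 := by
      intro h
      rw [h, zero_smul] at h1
      exact he₁ ((ρ g).map_eq_zero_iff.mp h1)
    refine ⟨hα, ?_⟩
    obtain ⟨d, hd1, hd2⟩ := hda α⁻¹ (inv_ne_zero hα)
    rw [inv_inv] at hd2
    obtain ⟨m1, m2⟩ := hDD g d α β α⁻¹ α h1 h2 hd1 hd2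
    rw [mul_inv_cancel₀ hα, one_smul] at m1
    exact hpm (g * d) (β * α) m1 m2
  constructor
  · intro g
    rcases hcases g with ⟨α, β, h1, h2⟩ | ⟨γ, δ, h1, h2⟩
    · obtain ⟨hα, hs⟩ := hdshape g α β h1 h2
      refine ⟨α, β * α, hα, hs, Or.inl ⟨h1, ?_⟩⟩
      rw [h2, mul_assoc, mul_inv_cancel₀ hα, mul_one]
    · have := hAA g g₁ γ δ 1 1 h1 h2 (by rw [one_smul]; exact hg₁a) (by rw [one_smul]; exact hg₁b)
      rw [one_mul, one_mul] at this
      obtain ⟨hδ, hs⟩ := hdshape (g * g₁) δ γ this.1 this.2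
      have hγ : γ ≠ 0 := by
        intro h
        rw [h, zero_mul] at hs
        rcases hs with h' | h'
        · exact zero_ne_one h'
        · exact zero_ne_one (neg_eq_zero.mp h'.symm).symm
      refine ⟨γ, γ * δ, hγ, hs, Or.inr ⟨h1, ?_⟩⟩
      rw [h2]
      congr 1
      rw [mul_comm γ δ, mul_assoc, mul_inv_cancel₀ hγ, mul_one]
  · intro a s ha hs
    obtain ⟨d, hd1, hd2⟩ := hda a ha
    obtain ⟨g, hg1, hg2⟩ := hgr a⁻¹ (inv_ne_zero ha)
    rw [inv_inv] at hg1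
    rcases hs with rfl | rfl
    · constructor
      · exact ⟨d, hd1, by rw [one_mul]; exact hd2⟩
      · exact ⟨g, hg1, by rw [one_mul]; exact hg2⟩
    · constructor
      · obtain ⟨m1, m2⟩ := hDD d n₁ a a⁻¹ 1 (-1) hd1 hd2 (by rw [one_smul]; exact hn₁a) hn₁b
        refine ⟨d * n₁, ?_, ?_⟩
        · rw [m1, mul_one]
        · rw [m2, mul_comm]
      · obtain ⟨m1, m2⟩ := hAD g n₁ a a⁻¹ 1 (-1) hg1 hg2 (by rw [one_smul]; exact hn₁a) hn₁b
        refine ⟨g * n₁, ?_, ?_⟩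
        · rw [m1, one_mul]
        · rw [m2]

end Cfsg.Agent.HT3371
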