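import Mathlib
import Cfsg.Agent.Helper25.HT3371Defs
import Cfsg.Agent.Helper25.HT3371Base

/-!
# S3371, pieces DQA (`dq_fpf`), DQB (`dq_stab`)
-/

set_option autoImplicit false

namespace Cfsg.Agent.HT3371

theorem dq_fpf {q : ℕ} {V : Type*} [AddCommGroup V] [Module (ZMod q) V]
    {G : Type*} [Group G] [Finite G] (ρ : G →* (V ≃ₗ[ZMod q] V)) (x : G) (k : ℕ)
    (hdq : DQ G x k) (hfpf : NormalFpf ρ) :
    ∀ y : G, y ∈ Subgroup.zpowers x → y ≠ 1 → Fpf ρ y := by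
  have hk2 := hdq.two_le
  have hww : x ^ (2 ^ (k - 2)) * x ^ (2 ^ (k - 2)) = x ^ (2 ^ (k - 1)) := by
    rw [← pow_add]
    congr 1
    have : k - 1 = (k - 2) + 1 := by omega
    rw [this, pow_succ]; ring
  have hz1 : x ^ (2 ^ (k - 1)) ≠ 1 := by
    intro h
    have := orderOf_dvd_of_pow_eq_one h
    rw [hdq.ord] at this
    have h2 := Nat.le_of_dvd (by positivity) this
    have : 2 ^ (k - 1) < 2 ^ k := Nat.pow_lt_pow_right (by norm_num) (by omega)
    omega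
  have hzz : x ^ (2 ^ (k - 1)) * x ^ (2 ^ (k - 1)) = 1 := by
    rw [← pow_add]
    have : 2 ^ (k - 1) + 2 ^ (k - 1) = 2 ^ k := by
      have : k = (k - 1) + 1 := by omega
      conv_rhs => rw [this, pow_succ]
      ring
    rw [this, ← hdq.ord, pow_orderOf_eq_one]
  have hzinv : (x ^ (2 ^ (k - 1)))⁻¹ = x ^ (2 ^ (k - 1)) := inv_eq_of_mul_eq_one_left hzz
  -- `zz` is central
  have hcent : ∀ g : G, g * x ^ (2 ^ (k - 1)) = x ^ (2 ^ (k - 1)) * g := by
    intro g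
    by_cases hg : g ∈ Subgroup.zpowers x
    · obtain ⟨n, rfl⟩ := Subgroup.mem_zpowers_iff.mp hg
      have h1 : Commute (x ^ n) (x ^ (2 ^ (k - 1))) :=
        ((Commute.refl x).zpow_left n).pow_right _
      exact h1.eq
    · have h1 := hdq.conj g hg
      have h2 : g * x ^ (2 ^ (k - 1)) * g⁻¹ = x ^ (2 ^ (k - 1)) := by
        rw [← hww]
        have : g * (x ^ (2 ^ (k - 2)) * x ^ (2 ^ (k - 2))) * g⁻¹ =
            (g * x ^ (2 ^ (k - 2)) * g⁻¹) * (g * x ^ (2 ^ (k - 2)) * g⁻¹) := by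
          simp only [mul_assoc, inv_mul_cancel_left]
        rw [this, h1, ← mul_inv_rev, hww, hzinv]
      calc g * x ^ (2 ^ (k - 1)) = g * x ^ (2 ^ (k - 1)) * g⁻¹ * g := by
            rw [inv_mul_cancel_right]
        _ = x ^ (2 ^ (k - 1)) * g := by rw [h2]
  have hzf : Fpf ρ (x ^ (2 ^ (k - 1))) := fpf_of_central ρ hfpf _ hz1 hcent
  intro y hy hy1 v hv
  apply hzf
  -- an involution in `zpowers y`
  have ho1 : orderOf y ≠ 1 := by rwa [Ne, orderOf_eq_one_iff]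
  have hod : orderOf y ∣ 2 ^ k := by
    obtain ⟨n, rfl⟩ := Subgroup.mem_zpowers_iff.mp hy
    rw [← hdq.ord]
    exact orderOf_dvd_of_pow_eq_one (by
      rw [← zpow_natCast, ← zpow_mul, mul_comm, zpow_mul, zpow_natCast, pow_orderOf_eq_one, one_zpow])
  obtain ⟨j, hj, hoj⟩ := (Nat.dvd_prime_pow Nat.prime_two).mp hod
  have hj1 : 1 ≤ j := by
    rcases Nat.eq_zero_or_pos j with h | h
    · rw [h, pow_zero] at hoj; exact absurd hoj ho1
    · exact h
  -- `y' = y^(2^(j-1))` is an involution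
  have hy'2 : (y ^ (2 ^ (j - 1))) ^ 2 = 1 := by
    rw [← pow_mul]
    have : 2 ^ (j - 1) * 2 = 2 ^ j := by
      have : j = (j - 1) + 1 := by omega
      conv_rhs => rw [this, pow_succ]
    rw [this, ← hoj, pow_orderOf_eq_one]
  have hy'1 : y ^ (2 ^ (j - 1)) ≠ 1 := by
    intro h
    have := orderOf_dvd_of_pow_eq_one h
    rw [hoj] at this
    have h2 := Nat.le_of_dvd (by positivity) this
    have : 2 ^ (j - 1) < 2 ^ j := Nat.pow_lt_pow_right (by norm_num) (by omega)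
    omega
  have hy'mem : y ^ (2 ^ (j - 1)) ∈ Subgroup.zpowers x := Subgroup.pow_mem _ hy _
  -- hence `y' = zz`
  have hy'z : y ^ (2 ^ (j - 1)) = x ^ (2 ^ (k - 1)) := by
    obtain ⟨n, hn⟩ := Subgroup.mem_zpowers_iff.mp hy'mem
    rw [← hn] at hy'2 hy'1 ⊢
    have h1 : x ^ (n * 2) = 1 := by
      rw [zpow_mul]; exact_mod_cast hy'2
    have h2 : (orderOf x : ℤ) ∣ n * 2 := orderOf_dvd_iff_zpow_eq_one.mpr h1
    rw [hdq.ord] at h2
    have h3 : ((2 : ℤ) ^ (k - 1)) ∣ n := by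
      have hk' : k = (k - 1) + 1 := by omega
      have h4 : ((2 : ℤ) ^ (k - 1)) * 2 ∣ n * 2 := by
        have : ((2 ^ k : ℕ) : ℤ) = (2 : ℤ) ^ (k - 1) * 2 := by
          push_cast
          conv_lhs => rw [hk', pow_succ]
        rw [← this]; exact h2
      exact Int.dvd_of_mul_dvd_mul_right (by norm_num) h4
    obtain ⟨c, hc⟩ := h3
    have h5 : x ^ n = (x ^ (2 ^ (k - 1))) ^ c := by
      rw [hc, zpow_mul]
      congr 1
      rw [← zpow_natCast]
      push_cast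
      rfl
    rw [h5] at hy'1 ⊢
    rcases Int.even_or_odd c with ⟨d, hd⟩ | ⟨d, hd⟩
    · exfalso
      apply hy'1
      rw [hd, ← two_mul, zpow_mul, zpow_two, hzz, one_zpow]
    · rw [hd, zpow_add, zpow_one, zpow_mul, zpow_two, hzz, one_zpow, one_mul]
  have hs : Subgroup.zpowers y ≤ stab ρ v := by
    rw [Subgroup.zpowers_le]
    exact hv
  have : y ^ (2 ^ (j - 1)) ∈ stab ρ v := hs (Subgroup.pow_mem _ (Subgroup.mem_zpowers y) _)
  rw [hy'z] at this
  exact this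

theorem dq_stab {q : ℕ} {V : Type*} [AddCommGroup V] [Module (ZMod q) V]
    {G : Type*} [Group G] [Finite G] (ρ : G →* (V ≃ₗ[ZMod q] V)) (hEq : EqStab ρ)
    (hns : ¬ Semireg ρ) (x : G) (k : ℕ) (hdq : DQ G x k)
    (hfpf : ∀ y : G, y ∈ Subgroup.zpowers x → y ≠ 1 → Fpf ρ y) (v : V) (hv : v ≠ 0) :
    ∃ t : G, t ∈ outInv x ∧ ρ t v = v ∧ ∀ t' : G, t' ∈ outInv x → ρ t' v = v → t' = t := by
  -- index two
  have hidx : (Subgroup.zpowers x).index = 2 := by
    have h1 := Subgroup.card_mul_index (Subgroup.zpowers x)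
    rw [Nat.card_zpowers, hdq.ord, hdq.card, pow_succ] at h1
    exact Nat.eq_of_mul_eq_mul_left (by positivity) h1
  -- elements of `⟨x⟩` fixing `v` are trivial
  have htriv : ∀ y : G, y ∈ Subgroup.zpowers x → ρ y v = v → y = 1 := by
    intro y hy hyv
    by_contra h1
    exact hv (hfpf y hy h1 v hyv)
  have hne : stab ρ v ≠ ⊥ := fun h => hns (semireg_of_stab_eq_bot ρ hEq hv h)
  obtain ⟨t, ht1⟩ := Subgroup.ne_bot_iff_exists_ne_one.mp hne
  have htv : ρ (t : G) v = v := t.2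
  have ht1' : (t : G) ≠ 1 := fun h => ht1 (Subtype.ext h)
  have htx : (t : G) ∉ Subgroup.zpowers x := fun h => ht1' (htriv _ h htv)
  have htt : (t : G) * t = 1 := by
    apply htriv
    · rw [Subgroup.mul_mem_iff_of_index_two hidx]
    · rw [map_mul, LinearEquiv.mul_apply, htv, htv]
  refine ⟨t, ⟨htx, htt⟩, htv, ?_⟩
  intro t' ht' ht'v
  have h1 : (t : G)⁻¹ * t' ∈ Subgroup.zpowers x := by
    rw [Subgroup.mul_mem_iff_of_index_two hidx, Subgroup.inv_mem_iff]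
    exact ⟨fun h => absurd h htx, fun h => absurd h ht'.1⟩
  have h2 : ρ ((t : G)⁻¹ * t') v = v := by
    rw [map_mul, LinearEquiv.mul_apply, ht'v]
    have : ρ (t : G)⁻¹ (ρ (t : G) v) = v := by
      rw [← LinearEquiv.mul_apply, ← map_mul, inv_mul_cancel, map_one]
      rfl
    rw [htv] at this
    exact this
  have h3 := htriv _ h1 h2
  exact (inv_mul_eq_one.mp h3).symm

end Cfsg.Agent.HT3371
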