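import Mathlib
import Cfsg.Agent.Helper25.HT3371Defs

/-!
# S3371, piece DQC (`dq_card_sq`)
-/

set_option autoImplicit false

namespace Cfsg.Agent.HT3371

theorem dq_card_sq {q : ℕ} [Fact q.Prime] {V : Type*} [AddCommGroup V] [Module (ZMod q) V]
    [Finite V] {G : Type*} [Group G] (ρ : G →* (V ≃ₗ[ZMod q] V)) (hq2 : q ≠ 2) (w t : G)
    (hneg : ∀ v : V, ρ (w * w) v = -v) (ht : t * t = 1) (hconj : t * w * t⁻¹ = w⁻¹) :
    Nat.card V = Nat.card (fixSp ρ t) ^ 2 := by
  have hq : q.Prime := Fact.out
  have h2 : (2 : ZMod q) ≠ 0 := by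
    intro h
    have h' : ((2 : ℕ) : ZMod q) = 0 := by exact_mod_cast h
    rw [ZMod.natCast_eq_zero_iff] at h'
    have := (Nat.prime_dvd_prime_iff_eq hq Nat.prime_two).mp h'
    exact hq2 this
  have htt : ∀ v : V, ρ t (ρ t v) = v := by
    intro v
    rw [← LinearEquiv.mul_apply, ← map_mul, ht, map_one]
    rfl
  -- `ρ w⁻¹ u = - ρ w u`
  have hwinv : ∀ u : V, ρ w⁻¹ u = -ρ w u := by
    intro u
    have h1 : ρ w (ρ w u) = -u := by
      rw [← LinearEquiv.mul_apply, ← map_mul]; exact hneg u
    have h3 : ρ w⁻¹ (ρ w (ρ w u)) = ρ w u := by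
      rw [← LinearEquiv.mul_apply, ← map_mul, inv_mul_cancel, map_one]
      rfl
    rw [h1, map_neg] at h3
    rw [← h3, neg_neg]
  -- `ρ t (ρ w v) = ρ w⁻¹ (ρ t v)`
  have htw : ∀ v : V, ρ t (ρ w v) = ρ w⁻¹ (ρ t v) := by
    intro v
    rw [← LinearEquiv.mul_apply, ← map_mul, ← LinearEquiv.mul_apply, ← map_mul]
    congr 2
    rw [← hconj]; group
  -- the `(-1)`-eigenspace
  let Wm : Submodule (ZMod q) V :=
    { carrier := {v | ρ t v = -v}
      zero_mem' := by simp
      add_mem' := by
        intro v v' hv hv'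
        simp only [Set.mem_ofPred_eq] at hv hv' ⊢
        rw [map_add, hv, hv', neg_add]
      smul_mem' := by
        intro c v hv
        simp only [Set.mem_ofPred_eq] at hv ⊢
        rw [map_smul, hv, smul_neg] }
  have hWm : ∀ v : V, v ∈ Wm ↔ ρ t v = -v := fun v => Iff.rfl
  have hcompl : IsCompl (fixSp ρ t) Wm := by
    constructor
    · rw [Submodule.disjoint_def]
      intro v hv1 hv2
      rw [mem_fixSp] at hv1
      rw [hWm, hv1] at hv2
      have h3 : (2 : ZMod q) • v = 0 := by
        rw [two_smul]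
        nth_rewrite 1 [hv2]
        exact neg_add_cancel v
      rcases smul_eq_zero.mp h3 with h | h
      · exact absurd h h2
      · exact h
    · rw [codisjoint_iff, eq_top_iff]
      intro v _
      have hv : v = (2 : ZMod q)⁻¹ • (v + ρ t v) + (2 : ZMod q)⁻¹ • (v - ρ t v) := by
        rw [← smul_add]
        have : v + ρ t v + (v - ρ t v) = (2 : ZMod q) • v := by rw [two_smul]; abel
        rw [this, smul_smul, inv_mul_cancel₀ h2, one_smul]
      rw [hv]
      apply Submodule.add_mem_sup
      · apply Submodule.smul_mem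
        rw [mem_fixSp, map_add, htt, add_comm]
      · apply Submodule.smul_mem
        rw [hWm, map_sub, htt]
        abel
  let f : fixSp ρ t → Wm := fun u =>
    ⟨ρ w u, by
      rw [hWm, htw]
      have : ρ t (u : V) = u := u.2
      rw [this, hwinv]⟩
  let f' : Wm → fixSp ρ t := fun u =>
    ⟨ρ w u, by
      rw [mem_fixSp, htw]
      have : ρ t (u : V) = -u := u.2
      rw [this, map_neg, hwinv, neg_neg]⟩
  have hf : Function.Injective f := by
    intro u u' h
    have : ρ w (u : V) = ρ w (u' : V) := congrArg Subtype.val h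
    exact Subtype.ext ((ρ w).injective this)
  have hf' : Function.Injective f' := by
    intro u u' h
    have : ρ w (u : V) = ρ w (u' : V) := congrArg Subtype.val h
    exact Subtype.ext ((ρ w).injective this)
  have hcard : Nat.card Wm = Nat.card (fixSp ρ t) :=
    le_antisymm (Nat.card_le_card_of_injective f' hf') (Nat.card_le_card_of_injective f hf)
  have e := Submodule.prodEquivOfIsCompl _ _ hcompl
  rw [← Nat.card_congr e.toEquiv, Nat.card_prod, hcard, pow_two]

end Cfsg.Agent.HT3371
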