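import Mathlib
import Cfsg.Agent.Helper25.HT3371Defs
import Cfsg.Agent.Helper9.NormalElemAb
import Cfsg.Agent.Helper16.PImprim

/-!
# S3371, piece KLEINODD (`exists_oddData`)
-/

set_option autoImplicit false

namespace Cfsg.Agent.HT3371

theorem exists_oddData {G : Type*} [Group G] [Finite G] (p : ℕ) [Fact p.Prime] (hp2 : p ≠ 2)
    (hG : IsPGroup p G) (hnc : ¬ IsCyclic G) : ∃ z a : G, OddData p z a := by
  have hp : p.Prime := Fact.out
  obtain ⟨A, hAn, hAe, hAc⟩ := Cfsg.Agent.Helper9.exists_normal_elemAb_sq hp2 hG hnc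
  obtain ⟨x, y, _, _, hxp, hyp, hy1, hyc, hconj, hxy⟩ :=
    Cfsg.Agent.Helper16.PImprim.exists_adapted_pair p hG A hAn hAe hAc
  have hx1 : x ≠ 1 := by
    intro h
    apply hxy
    rw [h]
    exact Subgroup.one_mem _
  refine ⟨y, x, hyc, orderOf_eq_prime hyp hy1, orderOf_eq_prime hxp hx1, hxy, hconj⟩

end Cfsg.Agent.HT3371
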