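import Mathlib
import Cfsg.Agent.Helper25.HT3371Defs
import Cfsg.Agent.Helper25.HT3371Base

/-!
# S3371, pieces TWOC (`two_isCompl`), TWOS (`two_exists_swap`), TWOQ (`two_card_sq`)
-/

set_option autoImplicit false

namespace Cfsg.Agent.HT3371

theorem two_isCompl {q : ℕ} [Fact q.Prime] {V : Type*} [AddCommGroup V] [Module (ZMod q) V]
    {G : Type*} [Group G] (ρ : G →* (V ≃ₗ[ZMod q] V)) (hq2 : q ≠ 2) (z a : G)
    (hk : Klein z a) (hneg : ∀ v : V, ρ z v = -v) :
    IsCompl (fixSp ρ a) (fixSp ρ (a * z)) := by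
  have hq : q.Prime := Fact.out
  have h2 : (2 : ZMod q) ≠ 0 := by
    intro h
    have h' : ((2 : ℕ) : ZMod q) = 0 := by exact_mod_cast h
    rw [ZMod.natCast_eq_zero_iff] at h'
    have := (Nat.prime_dvd_prime_iff_eq hq Nat.prime_two).mp h'
    exact hq2 this
  have haz : ∀ v : V, ρ (a * z) v = -ρ a v := by
    intro v
    rw [map_mul, LinearEquiv.mul_apply, hneg, map_neg]
  have haa : ∀ v : V, ρ a (ρ a v) = v := by
    intro v
    rw [← LinearEquiv.mul_apply, ← map_mul, hk.a_sq, map_one]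
    rfl
  constructor
  · rw [Submodule.disjoint_def]
    intro v hv1 hv2
    rw [mem_fixSp] at hv1 hv2
    rw [haz, hv1] at hv2
    have h3 : (2 : ZMod q) • v = 0 := by
      rw [two_smul]
      nth_rewrite 1 [← hv2]
      exact neg_add_cancel v
    rcases smul_eq_zero.mp h3 with h | h
    · exact absurd h h2
    · exact h
  · rw [codisjoint_iff, eq_top_iff]
    intro v _
    have hv : v = (2 : ZMod q)⁻¹ • (v + ρ a v) + (2 : ZMod q)⁻¹ • (v - ρ a v) := by
      rw [← smul_add]
      have : v + ρ a v + (v - ρ a v) = (2 : ZMod q) • v := by rw [two_smul]; abel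
      rw [this, smul_smul, inv_mul_cancel₀ h2, one_smul]
    rw [hv]
    apply Submodule.add_mem_sup
    · apply Submodule.smul_mem
      rw [mem_fixSp, map_add, haa, add_comm]
    · apply Submodule.smul_mem
      rw [mem_fixSp, haz, map_sub, haa]
      abel

theorem two_exists_swap {q : ℕ} {V : Type*} [AddCommGroup V] [Module (ZMod q) V]
    [Nontrivial V] {G : Type*} [Group G] (ρ : G →* (V ≃ₗ[ZMod q] V)) (z a : G)
    (hk : Klein z a) (hfpf : NormalFpf ρ) (hcompl : IsCompl (fixSp ρ a) (fixSp ρ (a * z))) :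
    ∃ g₀ : G, g₀ * a * g₀⁻¹ = a * z := by
  by_contra hno
  have hac : ∀ h : G, h * a = a * h := by
    intro h
    rcases hk.conj h with h1 | h1
    · calc h * a = h * a * h⁻¹ * h := by rw [inv_mul_cancel_right]
        _ = a * h := by rw [h1]
    · exact absurd ⟨h, h1⟩ hno
  have hazc : ∀ h : G, h * (a * z) = (a * z) * h := by
    intro h
    rw [← mul_assoc, hac h, mul_assoc, hk.z_comm h, ← mul_assoc]
  have h1 : Fpf ρ a := fpf_of_central ρ hfpf a hk.a_ne_one hac
  have h2 : Fpf ρ (a * z) := fpf_of_central ρ hfpf (a * z) hk.symm.a_ne_one hazc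
  have e1 : fixSp ρ a = ⊥ := by
    rw [Submodule.eq_bot_iff]
    intro v hv
    exact h1 v hv
  have e2 : fixSp ρ (a * z) = ⊥ := by
    rw [Submodule.eq_bot_iff]
    intro v hv
    exact h2 v hv
  have htop := hcompl.sup_eq_top
  rw [e1, e2, bot_sup_eq] at htop
  obtain ⟨v, hv⟩ := exists_ne (0 : V)
  have : v ∈ (⊤ : Submodule (ZMod q) V) := Submodule.mem_top
  rw [← htop] at this
  exact hv ((Submodule.mem_bot _).mp this)

theorem two_card_sq {q : ℕ} {V : Type*} [AddCommGroup V] [Module (ZMod q) V] [Finite V]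
    {G : Type*} [Group G] (ρ : G →* (V ≃ₗ[ZMod q] V)) (z a : G) (hk : Klein z a)
    (hcompl : IsCompl (fixSp ρ a) (fixSp ρ (a * z))) (g₀ : G) (hg₀ : g₀ * a * g₀⁻¹ = a * z) :
    Nat.card V = Nat.card (fixSp ρ a) ^ 2 := by
  have hgz : g₀ * z * g₀⁻¹ = z := by rw [hk.z_comm g₀, mul_assoc, mul_inv_cancel, mul_one]
  have hg₀' : g₀ * (a * z) * g₀⁻¹ = a := by
    have hm : g₀ * (a * z) * g₀⁻¹ = (g₀ * a * g₀⁻¹) * (g₀ * z * g₀⁻¹) := by
      simp only [mul_assoc, inv_mul_cancel_left]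
    rw [hm, hg₀, hgz, mul_assoc, hk.z_sq, mul_one]
  -- injections both ways
  let f : fixSp ρ a → fixSp ρ (a * z) := fun u =>
    ⟨ρ g₀ u, by have := map_mem_fixSp ρ g₀ a u u.2; rwa [hg₀] at this⟩
  let f' : fixSp ρ (a * z) → fixSp ρ a := fun u =>
    ⟨ρ g₀ u, by have := map_mem_fixSp ρ g₀ (a * z) u u.2; rwa [hg₀'] at this⟩
  have hf : Function.Injective f := by
    intro u u' h
    have : ρ g₀ (u : V) = ρ g₀ (u' : V) := congrArg Subtype.val h
    exact Subtype.ext ((ρ g₀).injective this)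
  have hf' : Function.Injective f' := by
    intro u u' h
    have : ρ g₀ (u : V) = ρ g₀ (u' : V) := congrArg Subtype.val h
    exact Subtype.ext ((ρ g₀).injective this)
  have hcard : Nat.card (fixSp ρ (a * z)) = Nat.card (fixSp ρ a) :=
    le_antisymm (Nat.card_le_card_of_injective f' hf') (Nat.card_le_card_of_injective f hf)
  have e := Submodule.prodEquivOfIsCompl _ _ hcompl
  rw [← Nat.card_congr e.toEquiv, Nat.card_prod, hcard, pow_two]

end Cfsg.Agent.HT3371
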