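import Mathlib
import Cfsg.Agent.Helper25.HT3371Defs
import Cfsg.Agent.Helper25.HT3371Base

/-!
# S3371, pieces TWOD (`two_dich`), TWOT (`two_ctrans`)
-/

set_option autoImplicit false

namespace Cfsg.Agent.HT3371

namespace TWODT

theorem conj_z {G : Type*} [Group G] {z a : G} (hk : Klein z a) (g : G) : g * z * g⁻¹ = z := by
  rw [hk.z_comm g, mul_assoc, mul_inv_cancel, mul_one]

theorem conj_az {G : Type*} [Group G] {z a : G} (hk : Klein z a) (g : G) :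
    g * (a * z) * g⁻¹ = (g * a * g⁻¹) * z := by
  have hm : g * (a * z) * g⁻¹ = (g * a * g⁻¹) * (g * z * g⁻¹) := by
    simp only [mul_assoc, inv_mul_cancel_left]
  rw [hm, conj_z hk]

end TWODT

open TWODT

theorem two_dich {q : ℕ} {V : Type*} [AddCommGroup V] [Module (ZMod q) V]
    {G : Type*} [Group G] [Finite G] (ρ : G →* (V ≃ₗ[ZMod q] V)) (hEq : EqStab ρ) (z a : G)
    (hk : Klein z a) (hcompl : IsCompl (fixSp ρ a) (fixSp ρ (a * z))) : Dich ρ z a := by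
  intro u₁ u₂ hu₁ hu₂ h10 h20
  have hdisj : ∀ u : V, u ∈ fixSp ρ a → u ∈ fixSp ρ (a * z) → u = 0 := by
    intro u h1 h2
    have : u ∈ fixSp ρ a ⊓ fixSp ρ (a * z) := ⟨h1, h2⟩
    rw [hcompl.inf_eq_bot] at this
    exact this
  have hazz : a * z * z = a := by rw [mul_assoc, hk.z_sq, mul_one]
  by_cases hex : ∃ g : G, g ∈ stab ρ (u₁ + u₂) ∧ g * a * g⁻¹ = a * z
  · right
    obtain ⟨g, hg, hga⟩ := hex
    refine ⟨g, hga, ?_⟩
    rw [mem_stab, map_add] at hg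
    have m1 : ρ g u₁ ∈ fixSp ρ (a * z) := by
      have := map_mem_fixSp ρ g a u₁ hu₁
      rwa [hga] at this
    have m2 : ρ g u₂ ∈ fixSp ρ a := by
      have := map_mem_fixSp ρ g (a * z) u₂ hu₂
      rwa [conj_az hk, hga, hazz] at this
    have hd : ρ g u₁ - u₂ = u₁ - ρ g u₂ := by
      have : ρ g u₁ = u₁ + u₂ - ρ g u₂ := eq_sub_of_add_eq hg
      rw [this]; abel
    have hz : ρ g u₁ - u₂ = 0 := by
      apply hdisj
      · rw [hd]; exact Submodule.sub_mem _ hu₁ m2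
      · exact Submodule.sub_mem _ m1 hu₂
    exact sub_eq_zero.mp hz
  · left
    have hsum : u₁ + u₂ ≠ 0 := by
      intro h0
      apply h10
      apply hdisj u₁ hu₁
      have : u₁ = -u₂ := eq_neg_of_add_eq_zero_left h0
      rw [this]
      exact Submodule.neg_mem _ hu₂
    have hle : stab ρ (u₁ + u₂) ≤ stab ρ u₁ ⊓ stab ρ u₂ := by
      intro g hg
      have hga : g * a * g⁻¹ = a := by
        rcases hk.conj g with h | h
        · exact h
        · exact absurd ⟨g, hg, h⟩ hex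
      rw [mem_stab, map_add] at hg
      have m1 : ρ g u₁ ∈ fixSp ρ a := by
        have := map_mem_fixSp ρ g a u₁ hu₁
        rwa [hga] at this
      have m2 : ρ g u₂ ∈ fixSp ρ (a * z) := by
        have := map_mem_fixSp ρ g (a * z) u₂ hu₂
        rwa [conj_az hk, hga] at this
      have hd : ρ g u₁ - u₁ = u₂ - ρ g u₂ := by
        have : ρ g u₁ = u₁ + u₂ - ρ g u₂ := eq_sub_of_add_eq hg
        rw [this]; abel
      have hz : ρ g u₁ - u₁ = 0 := by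
        apply hdisj
        · exact Submodule.sub_mem _ m1 hu₁
        · rw [hd]; exact Submodule.sub_mem _ hu₂ m2
      have hz2 : u₂ - ρ g u₂ = 0 := by rw [← hd, hz]
      exact ⟨sub_eq_zero.mp hz, (sub_eq_zero.mp hz2).symm⟩
    have e1 := stab_eq_of_le ρ hEq hsum h10 (hle.trans inf_le_left)
    have e2 := stab_eq_of_le ρ hEq hsum h20 (hle.trans inf_le_right)
    rw [← e1, e2]

theorem two_ctrans {q : ℕ} {V : Type*} [AddCommGroup V] [Module (ZMod q) V]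
    [Nontrivial V] {G : Type*} [Group G] [Finite G] (ρ : G →* (V ≃ₗ[ZMod q] V))
    (hinj : Function.Injective ρ) (hEq : EqStab ρ) (hns : ¬ Semireg ρ) (z a : G)
    (hk : Klein z a) (hcompl : IsCompl (fixSp ρ a) (fixSp ρ (a * z))) (g₀ : G)
    (hg₀ : g₀ * a * g₀⁻¹ = a * z)
    (hA : FixOrTrans ρ a (fixSp ρ a) (fixSp ρ (a * z)))
    (hA' : FixOrTrans ρ a (fixSp ρ (a * z)) (fixSp ρ a)) : CTrans ρ a (fixSp ρ a) := by
  have hazz : a * z * z = a := by rw [mul_assoc, hk.z_sq, mul_one]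
  have hg₀' : g₀ * (a * z) * g₀⁻¹ = a := by rw [conj_az hk, hg₀, hazz]
  have hmap0 : ∀ u : V, u ∈ fixSp ρ a → ρ g₀ u ∈ fixSp ρ (a * z) := by
    intro u hu
    have := map_mem_fixSp ρ g₀ a u hu
    rwa [hg₀] at this
  have hmap1 : ∀ u : V, u ∈ fixSp ρ (a * z) → ρ g₀ u ∈ fixSp ρ a := by
    intro u hu
    have := map_mem_fixSp ρ g₀ (a * z) u hu
    rwa [hg₀'] at this
  have hne : ∀ u : V, u ≠ 0 → ρ g₀ u ≠ 0 := by
    intro u hu h
    exact hu ((ρ g₀).map_eq_zero_iff.mp h)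
  by_contra hnt
  -- transitivity on the second eigenspace would give transitivity on the first
  have hnt' : ¬ CTrans ρ a (fixSp ρ (a * z)) := by
    intro htr
    apply hnt
    intro u u' hu hu' h0 h0'
    obtain ⟨n, hn, hnu⟩ := htr (ρ g₀ u) (ρ g₀ u') (hmap0 u hu) (hmap0 u' hu') (hne u h0) (hne u' h0')
    refine ⟨g₀⁻¹ * n * g₀, ?_, ?_⟩
    · -- commutes with a
      have h1 : a * g₀⁻¹ = g₀⁻¹ * (a * z) := by
        rw [← hg₀]; group
      have h2 : g₀ * a = a * z * g₀ := by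
        rw [← hg₀]; group
      have h3 : n * (a * z) = a * z * n := by
        rw [← mul_assoc, hn, mul_assoc, hk.z_comm n, ← mul_assoc]
      calc g₀⁻¹ * n * g₀ * a = g₀⁻¹ * n * (g₀ * a) := by rw [mul_assoc]
        _ = g₀⁻¹ * n * (a * z * g₀) := by rw [h2]
        _ = g₀⁻¹ * (n * (a * z)) * g₀ := by simp only [mul_assoc]
        _ = g₀⁻¹ * (a * z * n) * g₀ := by rw [h3]
        _ = (g₀⁻¹ * (a * z)) * n * g₀ := by simp only [mul_assoc]
        _ = a * g₀⁻¹ * n * g₀ := by rw [← h1]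
        _ = a * (g₀⁻¹ * n * g₀) := by simp only [mul_assoc]
    · rw [map_mul, map_mul, LinearEquiv.mul_apply, LinearEquiv.mul_apply, hnu,
        ← LinearEquiv.mul_apply, ← map_mul, inv_mul_cancel, map_one]
      rfl
  have hfix0 : ∀ u₁ : V, u₁ ∈ fixSp ρ a → u₁ ≠ 0 →
      ∀ g : G, g ∈ stab ρ u₁ → ∀ u₂ : V, u₂ ∈ fixSp ρ (a * z) → ρ g u₂ = u₂ := by
    intro u₁ hu₁ h0
    rcases hA u₁ hu₁ h0 with h | h
    · exact h
    · exact absurd h hnt'
  have hfix1 : ∀ u₂ : V, u₂ ∈ fixSp ρ (a * z) → u₂ ≠ 0 →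
      ∀ g : G, g ∈ stab ρ u₂ → ∀ u₁ : V, u₁ ∈ fixSp ρ a → ρ g u₁ = u₁ := by
    intro u₂ hu₂ h0
    rcases hA' u₂ hu₂ h0 with h | h
    · exact h
    · exact absurd h hnt
  -- nonzero vectors in both eigenspaces
  obtain ⟨a₁, a₂, ha₁, ha₂, ha₁0, ha₂0⟩ : ∃ a₁ a₂ : V, a₁ ∈ fixSp ρ a ∧ a₂ ∈ fixSp ρ (a * z) ∧
      a₁ ≠ 0 ∧ a₂ ≠ 0 := by
    obtain ⟨v, hv⟩ := exists_ne (0 : V)
    have hv' : v ∈ fixSp ρ a ⊔ fixSp ρ (a * z) := by
      rw [hcompl.sup_eq_top]; exact Submodule.mem_top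
    obtain ⟨u₀, hu₀, u₁, hu₁, rfl⟩ := Submodule.mem_sup.mp hv'
    by_cases h0 : u₀ = 0
    · have h1 : u₁ ≠ 0 := by
        intro h; apply hv; rw [h0, h, add_zero]
      exact ⟨ρ g₀ u₁, u₁, hmap1 u₁ hu₁, hu₁, hne u₁ h1, h1⟩
    · exact ⟨u₀, ρ g₀ u₀, hu₀, hmap0 u₀ hu₀, h0, hne u₀ h0⟩
  apply hns
  apply semireg_of_stab_eq_bot ρ hEq ha₁0
  rw [Subgroup.eq_bot_iff_forall]
  intro g hg
  have f1 := hfix0 a₁ ha₁ ha₁0 g hg
  have hg2 : g ∈ stab ρ a₂ := f1 a₂ ha₂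
  have f2 := hfix1 a₂ ha₂ ha₂0 g hg2
  apply hinj
  rw [map_one]
  apply LinearEquiv.ext
  intro v
  have hv' : v ∈ fixSp ρ a ⊔ fixSp ρ (a * z) := by
    rw [hcompl.sup_eq_top]; exact Submodule.mem_top
  obtain ⟨u₀, hu₀, u₁, hu₁, rfl⟩ := Submodule.mem_sup.mp hv'
  rw [map_add, f2 u₀ hu₀, f1 u₁ hu₁]
  rfl

end Cfsg.Agent.HT3371
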