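import Cfsg.Agent.Helper25.GL23
import Cfsg.Agent.Helper25.FusionSimpleCrit
import Cfsg.Agent.Helper27.InvPattern
import Cfsg.Agent.Helper27.SylowConj
import Cfsg.Agent.Helper27.GLIso2

/-!
If a finite group `G` has the involution centraliser pattern of `GL₂(3)` (one class of involutions,
centraliser `≅ GL₂(3)` of odd index), then its 2-fusion system is simple.  (Applies to `M₁₁`, `L₃(3)`.)
-/

set_option autoImplicit false

namespace Cfsg.Agent.Helper25

open Cfsg Cfsg.FusionSystem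

section crit

variable {G : Type*} [Group G] [Finite G]

/-- Simplicity criterion: self-normalizing Sylow subgroup without nontrivial proper strongly closed subgroups. -/
theorem groupFusionSystem_isSimple_of_selfnorm (p : ℕ) [Fact p.Prime] (S : Sylow p G)
    (hS1 : (S : Subgroup G) ≠ ⊥)
    (ha : ∀ T : Subgroup G, T ≤ (S : Subgroup G) →
      (∀ t ∈ T, ∀ g : G, g * t * g⁻¹ ∈ (S : Subgroup G) → g * t * g⁻¹ ∈ T) →
      T = ⊥ ∨ T = (S : Subgroup G))
    (hb : Subgroup.normalizer ((S : Subgroup G) : Set G) ≤ (S : Subgroup G)) :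
    (groupFusionSystem (S : Subgroup G)).IsSimple p := by
  have hsat := Cfsg.Agent.S5076.result p S
  refine ⟨hsat, hS1, ?_⟩
  intro T E hE
  have hT : (groupFusionSystem (S : Subgroup G)).StronglyClosed T := hE.1.2.2.2.1
  have hT' : T = ⊥ ∨ T = (S : Subgroup G) := by
    apply ha T hT.1
    intro t ht g hg
    have hle : Subgroup.zpowers t ≤ T := (Subgroup.zpowers_le).mpr ht
    have hmem : conjHom (Subgroup.zpowers t) g ∈
        (groupFusionSystem (S : Subgroup G)).Hom (Subgroup.zpowers t) := by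
      refine ⟨hle.trans hT.1, ?_, g, fun x => rfl⟩
      intro x
      have h1 : Subgroup.zpowers t ≤ (S : Subgroup G).comap (MulAut.conj g).toMonoidHom := by
        rw [Subgroup.zpowers_le]
        exact hg
      exact h1 x.2
    exact hT.2 _ hle _ hmem ⟨t, Subgroup.mem_zpowers t⟩
  rcases hT' with rfl | rfl
  · exact Or.inl rfl
  · refine Or.inr ⟨rfl, ?_⟩
    apply hom_subset_of_normal_of_autGroup_le p _ E hE
    rw [Cfsg.Agent.S5076.autGroup_groupFusion (S : Subgroup G) (S : Subgroup G) le_rfl]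
    intro α hα
    rw [mem_autInducedBy_iff] at hα
    obtain ⟨g, -, hgα⟩ := hα
    have hgN : g ∈ Subgroup.normalizer ((S : Subgroup G) : Set G) := by
      rw [Subgroup.mem_normalizer_iff]
      intro x
      constructor
      · intro hx
        rw [← hgα ⟨x, hx⟩]
        exact (α ⟨x, hx⟩).2
      · intro hx
        obtain ⟨y, hy⟩ := α.surjective ⟨_, hx⟩
        have h1 := hgα y
        rw [hy] at h1
        have h2 : x = (y : G) := mul_left_cancel (mul_right_cancel h1)
        rw [h2]; exact y.2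
    have hgS := hb hgN
    apply autInducedBy_le_autGroup E le_rfl
    rw [mem_autInducedBy_iff]
    exact ⟨g, hgS, hgα⟩

end crit

open GL23

/-- Normalised data: an involution `u` with `C_G(u) ≅ GL₂(3)` via `θ`, with `S ≤ C_G(u)` mapped onto the
fixed Sylow subgroup `P0`, and all involutions of `C_G(u)` conjugate to `u`. -/
structure GL23Data (G : Type*) [Group G] (S : Subgroup G) where
  u : G
  hu : orderOf u = 2
  θ : ↥(Subgroup.centralizer ({u} : Set G)) ≃* H
  hS : S ≤ Subgroup.centralizer ({u} : Set G)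
  hP : (S.subgroupOf (Subgroup.centralizer ({u} : Set G))).map θ.toMonoidHom = P0
  hconj : ∀ a ∈ Subgroup.centralizer ({u} : Set G), orderOf a = 2 → IsConj a u

namespace GL23Data

variable {G : Type*} [Group G] {S : Subgroup G} (D : GL23Data G S)
include D

/-- the embedding `GL₂(3) → G` -/
noncomputable def ι : H →* G := (Subgroup.centralizer ({D.u} : Set G)).subtype.comp D.θ.symm.toMonoidHom

theorem ι_apply (x : H) : D.ι x = ((D.θ.symm x : ↥(Subgroup.centralizer ({D.u} : Set G))) : G) := rfl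

theorem ι_injective : Function.Injective D.ι := by
  intro x y h
  exact D.θ.symm.injective (Subtype.ext h)

theorem ι_θ {c : G} (hc : c ∈ Subgroup.centralizer ({D.u} : Set G)) : D.ι (D.θ ⟨c, hc⟩) = c := by
  rw [ι_apply, MulEquiv.symm_apply_apply]

theorem ι_mem_C (x : H) : D.ι x ∈ Subgroup.centralizer ({D.u} : Set G) := (D.θ.symm x).2

theorem ι_mem_S_iff (x : H) : D.ι x ∈ S ↔ x ∈ P0 := by
  rw [← D.hP]
  constructor
  · intro h
    refine ⟨D.θ.symm x, ?_, ?_⟩
    · exact h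
    · exact D.θ.apply_symm_apply x
  · rintro ⟨c, hc, rfl⟩
    rw [ι_apply]
    have : D.θ.symm (D.θ.toMonoidHom c) = c := D.θ.symm_apply_apply c
    rw [this]
    exact hc

theorem exists_of_mem_S {s : G} (hs : s ∈ S) : ∃ x ∈ P0, D.ι x = s := by
  refine ⟨D.θ ⟨s, D.hS hs⟩, ?_, D.ι_θ _⟩
  rw [← D.ι_mem_S_iff, D.ι_θ]
  exact hs

theorem u_mem_C : D.u ∈ Subgroup.centralizer ({D.u} : Set G) :=
  Subgroup.mem_centralizer_singleton_iff.mpr rfl

theorem u_ne_one : D.u ≠ 1 := by
  intro h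
  have := D.hu
  rw [h, orderOf_one] at this
  omega

theorem ι_neg_one : D.ι (-1) = D.u := by
  have hc : ∀ h : H, D.θ ⟨D.u, D.u_mem_C⟩ * h = h * D.θ ⟨D.u, D.u_mem_C⟩ := by
    intro h
    have h1 : (⟨D.u, D.u_mem_C⟩ : ↥(Subgroup.centralizer ({D.u} : Set G))) * D.θ.symm h =
        D.θ.symm h * ⟨D.u, D.u_mem_C⟩ := by
      apply Subtype.ext
      show D.u * (D.θ.symm h : G) = (D.θ.symm h : G) * D.u
      exact (Subgroup.mem_centralizer_singleton_iff.mp (D.θ.symm h).2).symm
    have h2 := congrArg D.θ h1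
    rw [map_mul, map_mul, MulEquiv.apply_symm_apply] at h2
    exact h2
  rcases center_H hc with h | h
  · exfalso
    apply D.u_ne_one
    have h1 := D.ι_θ D.u_mem_C
    rw [h, map_one] at h1
    exact h1.symm
  · rw [← h]
    exact D.ι_θ D.u_mem_C

theorem u_mem_S : D.u ∈ S := by
  rw [← D.ι_neg_one, D.ι_mem_S_iff]
  exact neg_one_mem

theorem S_ne_bot : S ≠ ⊥ := by
  intro h
  have h1 : D.u ∈ (⊥ : Subgroup G) := h ▸ D.u_mem_S
  exact D.u_ne_one (Subgroup.mem_bot.mp h1)

theorem commute_u {s : G} (hs : s ∈ S) : s * D.u = D.u * s :=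
  (Subgroup.mem_centralizer_singleton_iff.mp (D.hS hs))

/-- `S` is self-normalizing. -/
theorem normalizer_le : Subgroup.normalizer (S : Set G) ≤ S := by
  intro n hn
  -- `v = n u n⁻¹` is a central involution of `S`
  have hvS : n * D.u * n⁻¹ ∈ S := (Subgroup.mem_normalizer_iff.mp hn D.u).mp D.u_mem_S
  obtain ⟨x, hxP, hx⟩ := D.exists_of_mem_S hvS
  have hxc : ∀ h ∈ P0, x * h = h * x := by
    intro h hh
    apply D.ι_injective
    rw [map_mul, map_mul, hx]
    have hs : D.ι h ∈ S := (D.ι_mem_S_iff h).mpr hh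
    have hs' : n⁻¹ * D.ι h * n⁻¹⁻¹ ∈ S :=
      (Subgroup.mem_normalizer_iff.mp (Subgroup.inv_mem _ hn) _).mp hs
    have h1 := D.commute_u hs'
    have h2 : n * D.u * n⁻¹ * D.ι h = n * (D.u * (n⁻¹ * D.ι h * n⁻¹⁻¹)) * n⁻¹ := by group
    have h3 : D.ι h * (n * D.u * n⁻¹) = n * ((n⁻¹ * D.ι h * n⁻¹⁻¹) * D.u) * n⁻¹ := by group
    rw [h2, h3, h1]
  have hx1 : x ≠ 1 := by
    intro h
    rw [h, map_one] at hx
    apply D.u_ne_one
    have : D.u = n⁻¹ * (n * D.u * n⁻¹) * n := by group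
    rw [this, ← hx]; group
  have hxneg : x = -1 := (center_P0 hxP hxc).resolve_left hx1
  rw [hxneg, D.ι_neg_one] at hx
  -- so `n` centralizes `u`
  have hnC : n ∈ Subgroup.centralizer ({D.u} : Set G) := by
    rw [Subgroup.mem_centralizer_singleton_iff]
    have : n * D.u = (n * D.u * n⁻¹) * n := by group
    rw [this, ← hx]
  have hyN : D.θ ⟨n, hnC⟩ ∈ Subgroup.normalizer (P0 : Set H) := by
    rw [Subgroup.mem_normalizer_iff]
    intro h
    rw [← D.ι_mem_S_iff, ← D.ι_mem_S_iff, map_mul, map_mul, map_inv, D.ι_θ]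
    exact Subgroup.mem_normalizer_iff.mp hn _
  have := normalizer_P0_le hyN
  rw [← D.ι_mem_S_iff, D.ι_θ] at this
  exact this

theorem card_S : Nat.card S = 16 := by
  rw [← card_P0]
  have e : S ≃ P0 := by
    refine Equiv.ofBijective (fun s => ⟨D.θ ⟨s.1, D.hS s.2⟩, ?_⟩) ⟨?_, ?_⟩
    · rw [← D.ι_mem_S_iff, D.ι_θ]; exact s.2
    · intro s t hst
      have h1 := congrArg (fun z : P0 => D.ι z.1) hst
      simp only [D.ι_θ] at h1
      exact Subtype.ext h1
    · rintro ⟨x, hx⟩
      refine ⟨⟨D.ι x, (D.ι_mem_S_iff x).mpr hx⟩, ?_⟩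
      apply Subtype.ext
      apply D.ι_injective
      show D.ι (D.θ ⟨D.ι x, _⟩) = D.ι x
      rw [D.ι_θ]
  exact Nat.card_congr e

/-- No nontrivial proper subgroup of `S` is strongly closed. -/
theorem stronglyClosed_eq [Finite G] {T : Subgroup G} (hTS : T ≤ S)
    (hcl : ∀ t ∈ T, ∀ g : G, g * t * g⁻¹ ∈ S → g * t * g⁻¹ ∈ T) (hT : T ≠ ⊥) : T = S := by
  have : Fact (Nat.Prime 2) := ⟨Nat.prime_two⟩
  -- an involution in `T`
  have hdvd : Nat.card T ∣ 16 := by
    rw [← D.card_S]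
    exact Subgroup.card_dvd_of_le hTS
  have h2 : 2 ∣ Nat.card T := by
    have h16 : (16 : ℕ) = 2 ^ 4 := by norm_num
    rw [h16] at hdvd
    obtain ⟨k, -, hk⟩ := (Nat.dvd_prime_pow Nat.prime_two).mp hdvd
    rcases Nat.eq_zero_or_pos k with rfl | hk0
    · exfalso
      apply hT
      rw [pow_zero] at hk
      exact Subgroup.eq_bot_of_card_eq T hk
    · rw [hk]
      exact dvd_pow_self 2 hk0.ne'
  obtain ⟨t, ht⟩ := exists_prime_orderOf_dvd_card' (G := ↥T) 2 h2
  have ht2 : orderOf (t : G) = 2 := by rw [Subgroup.orderOf_coe]; exact ht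
  -- `u ∈ T`
  have huT : D.u ∈ T := by
    obtain ⟨g, hg⟩ := isConj_iff.mp (D.hconj _ (D.hS (hTS t.2)) ht2)
    rw [← hg]
    apply hcl _ t.2
    rw [hg]
    exact D.u_mem_S
  -- all involutions of `S` are in `T`
  have hinv : ∀ a ∈ S, orderOf a = 2 → a ∈ T := by
    intro a ha ha2
    obtain ⟨g, hg⟩ := isConj_iff.mp (D.hconj a (D.hS ha) ha2).symm
    rw [← hg]
    apply hcl _ huT
    rw [hg]
    exact ha
  have hord : ∀ x : H, x * x = 1 → x ≠ 1 → orderOf (D.ι x) = 2 := by
    intro x hx hx1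
    apply orderOf_eq_prime
    · rw [pow_two, ← map_mul, hx, map_one]
    · intro h
      apply hx1
      apply D.ι_injective
      rw [h, map_one]
  have hσ : D.ι sigma ∈ T :=
    hinv _ ((D.ι_mem_S_iff _).mpr sigma_mem) (hord _ sigma_sq sigma_ne_one)
  have hσρ2 : D.ι (sigma * (rho * rho)) ∈ T :=
    hinv _ ((D.ι_mem_S_iff _).mpr sigma_rho_sq_mem) (hord _ sigma_rho_sq_sq sigma_rho_sq_ne_one)
  have hρ2 : D.ι (rho * rho) ∈ T := by
    have : rho * rho = sigma * (sigma * (rho * rho)) := by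
      rw [← mul_assoc, sigma_sq, one_mul]
    rw [this, map_mul]
    exact T.mul_mem hσ hσρ2
  have hσρ : D.ι (sigma * rho) ∈ T := by
    obtain ⟨c, hc⟩ := exists_conj
    rw [← hc, map_mul, map_mul, map_inv]
    apply hcl _ hρ2
    rw [← map_inv, ← map_mul, ← map_mul, hc, D.ι_mem_S_iff]
    exact P0.mul_mem sigma_mem rho_mem
  have hρ : D.ι rho ∈ T := by
    have : rho = sigma * (sigma * rho) := by
      rw [← mul_assoc, sigma_sq, one_mul]
    rw [this, map_mul]
    exact T.mul_mem hσ hσρ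
  have hle : P0 ≤ T.comap D.ι := P0_le_of_mem (T := T.comap D.ι) hρ hσ
  apply le_antisymm hTS
  intro s hs
  obtain ⟨x, hxP, rfl⟩ := D.exists_of_mem_S hs
  exact hle hxP

end GL23Data

section build

variable {G : Type*} [Group G] [Finite G]

theorem exists_sylow_le_of_not_dvd_index' {p : ℕ} [Fact p.Prime] (C : Subgroup G)
    (hC : ¬ p ∣ C.index) : ∃ S : Sylow p G, (S : Subgroup G) ≤ C := by
  obtain ⟨S'⟩ : Nonempty (Sylow p C) := inferInstance
  have hcard : Nat.card ((S' : Subgroup C).map C.subtype) = p ^ (Nat.card G).factorization p := by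
    rw [Subgroup.card_subtype, S'.card_eq_multiplicity]
    congr 1
    have h1 : Nat.card G = Nat.card C * C.index := (Subgroup.card_mul_index C).symm
    have hidx : C.index ≠ 0 := Subgroup.index_ne_zero_of_finite
    rw [h1, Nat.factorization_mul Nat.card_pos.ne' hidx]
    have h2 : (C.index).factorization p = 0 := Nat.factorization_eq_zero_of_not_dvd hC
    simp [h2]
  refine ⟨Sylow.ofCard _ hcard, ?_⟩
  rw [Sylow.coe_ofCard]
  exact Subgroup.map_subtype_le _

theorem nonempty_GL23Data (h : Cfsg.Agent.Helper27.InvPattern GL23.H G) (S : Sylow 2 G) :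
    Nonempty (GL23Data G (S : Subgroup G)) := by
  have : Fact (Nat.Prime 2) := ⟨Nat.prime_two⟩
  obtain ⟨u₀, hu₀, ⟨θ₀⟩, hidx, hconj₀⟩ := h
  obtain ⟨S₁, hS₁⟩ := exists_sylow_le_of_not_dvd_index' (p := 2) (Subgroup.centralizer {u₀}) hidx
  obtain ⟨g, hg⟩ := MulAction.exists_smul_eq G S₁ S
  have hu : orderOf (MulAut.conj g u₀) = 2 := by rw [MulEquiv.orderOf_eq]; exact hu₀
  let θ₁ : ↥(Subgroup.centralizer ({MulAut.conj g u₀} : Set G)) ≃* GL23.H :=
    (Cfsg.Agent.Helper27.centralizerSingletonEquiv (MulAut.conj g) u₀).symm.trans θ₀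
  have hS : (S : Subgroup G) ≤ Subgroup.centralizer ({MulAut.conj g u₀} : Set G) := by
    intro s hs
    rw [← hg, Sylow.coe_subgroup_smul, Subgroup.mem_pointwise_smul_iff_inv_smul_mem] at hs
    have h1 := hS₁ hs
    rw [Subgroup.mem_centralizer_singleton_iff] at h1 ⊢
    have h2 : (MulAut.conj g)⁻¹ • s = g⁻¹ * s * g := by
      simp [MulAut.smul_def]
    rw [h2] at h1
    rw [MulAut.conj_apply]
    have e1 : s * (g * u₀ * g⁻¹) = g * ((g⁻¹ * s * g) * u₀) * g⁻¹ := by group
    have e2 : g * u₀ * g⁻¹ * s = g * (u₀ * (g⁻¹ * s * g)) * g⁻¹ := by group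
    rw [e1, e2, h1]
  have hconj : ∀ a ∈ Subgroup.centralizer ({MulAut.conj g u₀} : Set G), orderOf a = 2 →
      IsConj a (MulAut.conj g u₀) := by
    intro a ha ha2
    rw [Subgroup.mem_centralizer_singleton_iff, MulAut.conj_apply] at ha
    have h1 : g⁻¹ * a * g ∈ Subgroup.centralizer ({u₀} : Set G) := by
      rw [Subgroup.mem_centralizer_singleton_iff]
      have e1 : g⁻¹ * a * g * u₀ = g⁻¹ * (a * (g * u₀ * g⁻¹)) * g := by group
      have e2 : u₀ * (g⁻¹ * a * g) = g⁻¹ * ((g * u₀ * g⁻¹) * a) * g := by group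
      rw [e1, e2, ha]
    have h2 : orderOf (g⁻¹ * a * g) = 2 := by
      have : g⁻¹ * a * g = MulAut.conj g⁻¹ a := by rw [MulAut.conj_apply, inv_inv]
      rw [this, MulEquiv.orderOf_eq]; exact ha2
    obtain ⟨c, hc⟩ := isConj_iff.mp (hconj₀ _ h1 h2)
    rw [isConj_iff, MulAut.conj_apply]
    refine ⟨g * c * g⁻¹, ?_⟩
    rw [← hc]; group
  -- the order of `S`
  have hC48 : Nat.card ↥(Subgroup.centralizer ({MulAut.conj g u₀} : Set G)) = 48 := by
    rw [Nat.card_congr θ₁.toEquiv]; exact Cfsg.Agent.Helper27.card_GL23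
  have hcardS : Nat.card (S : Subgroup G) = 16 := by
    obtain ⟨n, hn⟩ := IsPGroup.iff_card.mp S.isPGroup'
    have hodd : ¬ 2 ∣ (S : Subgroup G).index := S.not_dvd_index
    have h1 : Nat.card (S : Subgroup G) ∣ 48 := by
      rw [← hC48]; exact Subgroup.card_dvd_of_le hS
    have h2 : 16 ∣ Nat.card G := by
      rw [← Subgroup.card_mul_index (Subgroup.centralizer ({MulAut.conj g u₀} : Set G)), hC48]
      exact Dvd.dvd.mul_right (by norm_num) _
    rw [← Subgroup.card_mul_index (S : Subgroup G), hn] at h2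
    have hcop : Nat.Coprime (2 ^ 4) (S : Subgroup G).index :=
      Nat.Coprime.pow_left 4 ((Nat.Prime.coprime_iff_not_dvd Nat.prime_two).mpr hodd)
    have h3 : 2 ^ 4 ∣ 2 ^ n := hcop.dvd_of_dvd_mul_right (by simpa using h2)
    have h4 : 4 ≤ n := (Nat.pow_dvd_pow_iff_le_right (by norm_num)).mp h3
    have h5 : n ≤ 4 := by
      by_contra hlt
      push Not at hlt
      have : 2 ^ 5 ∣ 2 ^ n := Nat.pow_dvd_pow 2 hlt
      rw [hn] at h1
      have := this.trans h1
      norm_num at this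
    have : n = 4 := le_antisymm h5 h4
    rw [hn, this]; norm_num
  -- the image of `S` in `GL₂(3)` is conjugate to `P0`
  set X := ((S : Subgroup G).subgroupOf (Subgroup.centralizer ({MulAut.conj g u₀} : Set G))) with hX
  have hP₁ : Nat.card (X.map θ₁.toMonoidHom) = 2 ^ 4 := by
    rw [Subgroup.card_map_of_injective θ₁.injective, hX,
      Nat.card_congr (Subgroup.subgroupOfEquivOfLe hS).toEquiv, hcardS]
    norm_num
  have hP₀ : Nat.card GL23.P0 = 2 ^ 4 := by rw [GL23.card_P0]; norm_num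
  obtain ⟨c, hc⟩ := Cfsg.Agent.Helper27.exists_conj_of_card_eq (p := 2) (k := 4)
    (X.map θ₁.toMonoidHom) GL23.P0 hP₁ hP₀ (by rw [Cfsg.Agent.Helper27.card_GL23]; norm_num)
  refine ⟨⟨MulAut.conj g u₀, hu, θ₁.trans (MulAut.conj c⁻¹), hS, ?_, hconj⟩⟩
  have e1 : X.map (θ₁.trans (MulAut.conj c⁻¹)).toMonoidHom =
      (X.map θ₁.toMonoidHom).map (MulAut.conj c⁻¹).toMonoidHom := by
    rw [Subgroup.map_map]; rfl
  rw [e1, hc]
  ext x
  rw [Subgroup.mem_map_equiv, Subgroup.mem_map_equiv]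
  have : (MulAut.conj c).symm ((MulAut.conj c⁻¹).symm x) = x := by
    simp [MulAut.conj_symm_apply]
    group
  rw [this]

/-- **2-fusion simplicity from the `GL₂(3)` involution pattern.** -/
theorem isSimple_of_invPattern (h : Cfsg.Agent.Helper27.InvPattern GL23.H G) (S : Sylow 2 G) :
    (groupFusionSystem (S : Subgroup G)).IsSimple 2 := by
  have : Fact (Nat.Prime 2) := ⟨Nat.prime_two⟩
  obtain ⟨D⟩ := nonempty_GL23Data h S
  apply groupFusionSystem_isSimple_of_selfnorm 2 S D.S_ne_bot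
  · intro T hTS hcl
    by_cases hT : T = ⊥
    · exact Or.inl hT
    · exact Or.inr (D.stronglyClosed_eq hTS hcl hT)
  · exact D.normalizer_le

end build

end Cfsg.Agent.Helper25
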