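import Cfsg.Agent.Helper15.Iso44Bas
import Cfsg.Agent.S2905

/-! Board `s3044pieces`, row ZCL: `D_le_normalClosure_QL`, `Y_le_normalClosure_QL`. -/

set_option autoImplicit false

namespace Cfsg.Agent.Helper15.Iso44

open Cfsg Subgroup

variable {G : Type*} [Group G] [Finite G] {p : ℕ} [Fact p.Prime] {S : Sylow p G} {P : Subgroup G}

theorem D_le_normalClosure_QL (h : Ctx p S P) :
    Dsub p P ≤ normalClosure (QLsub p S P : Set G) := by
  classical
  have hSyl := Cfsg.Agent.Helper14.isSylowIn_of_sylow_le S h.hSP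
  set SP : Sylow p ↥P := hSyl.toSylow with hSPdef
  have hSPc : (SP : Subgroup ↥P) = (S : Subgroup G).subgroupOf P := rfl
  obtain ⟨-, M, ⟨hM, hSM⟩, -⟩ := h.hPmin SP
  haveI : M.normalCore.Normal := Subgroup.normalCore_normal M
  obtain ⟨h1, -, h3, -, -⟩ := Cfsg.Agent.S2905.result h.hPmin SP M hM hSM
  have hQP : QLsub p S P ≤ P := (QL_le_S (p := p) (S := S) (P := P)).trans h.hSP
  set R : Subgroup ↥P := normalClosure (((QLsub p S P).subgroupOf P : Subgroup ↥P) : Set ↥P) with hR
  have hRn : R.Normal := Subgroup.normalClosure_normal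
  have hQR : (QLsub p S P).subgroupOf P ≤ R := Subgroup.le_normalClosure
  rcases h3 R hRn with hDR | hRM
  · -- D ≤ R
    have hcomap : R ≤ (normalClosure (QLsub p S P : Set G)).comap P.subtype := by
      haveI : (normalClosure (QLsub p S P : Set G)).Normal := Subgroup.normalClosure_normal
      apply Subgroup.normalClosure_le_normal
      intro x hx
      rw [SetLike.mem_coe, Subgroup.mem_subgroupOf] at hx
      exact Subgroup.le_normalClosure hx
    have h4 : (Cfsg.pResidual p ↥P).map P.subtype ≤ normalClosure (QLsub p S P : Set G) :=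
      Subgroup.map_le_iff_le_comap.2 (hDR.trans hcomap)
    exact h4
  · -- R ≤ core(M): contradiction
    exfalso
    apply h.hiso
    have hRM' : R ≤ M := hRM.trans (Subgroup.normalCore_le M)
    have h5 := h1 R hRn.isSubnormal hRM'
    have hQS : (QLsub p S P).subgroupOf P ≤ (SP : Subgroup ↥P) := by
      rw [hSPc]
      intro x hx
      rw [Subgroup.mem_subgroupOf] at hx ⊢
      exact QL_le_S hx
    have h6 : (QLsub p S P).subgroupOf P ≤ Cfsg.pCore p ↥P := (le_inf hQR hQS).trans h5
    have h7 := Subgroup.map_mono (f := P.subtype) h6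
    rw [Subgroup.map_subgroupOf_eq_of_le hQP] at h7
    exact h7

theorem Y_le_normalClosure_QL (h : Ctx p S P) :
    Ysub p P ≤ normalClosure (QLsub p S P : Set G) := by
  haveI : (normalClosure (QLsub p S P : Set G)).Normal := Subgroup.normalClosure_normal
  exact Subgroup.normalClosure_le_normal (D_le_normalClosure_QL h)

end Cfsg.Agent.Helper15.Iso44
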