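import Mathlib
import Cfsg.Agent.Helper18.K2P.Defs
import Cfsg.Agent.Helper18.K2P.Defs2
import Cfsg.Agent.Helper7.K2MSMOVE
import Cfsg.Agent.Helper16.K2PBCHANGEB

set_option autoImplicit false
set_option linter.unusedSectionVars false
set_option linter.unusedVariables false

/-! # K2P (S5692, `k = 2`, hyperbolic blocks), chapter B, piece B-STEP (helper25): `m ∈ M` fixing a block pointwise with
`z := a - m a` singular gives `E(z, -(Q a)⁻¹ a) ∈ M`. -/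

namespace Cfsg.Agent.K2P

open Matrix Cfsg.Agent.OC2P Cfsg.Agent.Helper28.Sg Cfsg.Agent.Helper28.Spin
  Cfsg.Agent.Helper12.OrthGen Cfsg.Agent.K2M

variable {F : Type*} [Field F] [Fintype F] {t : ℕ} {Q : QuadraticForm F (Fin t × Fin 2 → F)}
  {q : QuadraticForm F (Fin 2 → F)} {e f : Fin 2 → F} {M : Subgroup (OG Q)}

theorem B.STEP (bp : BP Q q e f) (ht : 3 ≤ t) (hM : HasMO M) {a : Fin t × Fin 2 → F}
    (ha : InA M a) {m : OG Q} (hm : m ∈ M) {k : Fin t}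
    (hk : ∀ y : Fin 2 → F, mt Q m *ᵥ binj k y = binj k y) (hz : Q (a - mt Q m *ᵥ a) = 0) :
    (-(Q a)⁻¹) • a ∈ Rad M (a - mt Q m *ᵥ a) hz := by
  obtain ⟨y, ha', hb, hqy, hab⟩ := B.CHANGEB bp ht hM ha k
  have hQma : Q (mt Q m *ᵥ a) = Q a := Q_isom m a
  have hma : Q (mt Q m *ᵥ a) ≠ 0 := by rw [hQma]; exact ha'
  have h1 := Cfsg.Agent.K2M.SMOVE.main ha' hb hab hm (hk y) hma
  exact Cfsg.Agent.K2M.STOSIEG.main ha' hma hQma hz h1

end Cfsg.Agent.K2P
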