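import Mathlib
import Cfsg.Agent.Helper11.NoSimple

/-!
# Order `720`: general permutation-group lemmas
-/

set_option autoImplicit false

namespace Cfsg.Agent.Helper25.NoSimple720A

open MulAction

section general

variable {G Ω : Type*} [Group G] [MulAction G Ω] [Finite Ω]

/-- a `p`-subgroup acting on an invariant subset: the size is congruent to the number of fixed points
in the subset -/
theorem ncard_modEq_of_invariant {p : ℕ} [Fact p.Prime] {Q : Subgroup G} (hQ : IsPGroup p Q)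
    (S : Set Ω) (hS : ∀ q ∈ Q, ∀ s ∈ S, q • s ∈ S) :
    S.ncard ≡ (S ∩ {s | ∀ q ∈ Q, q • s = s}).ncard [MOD p] := by
  let S' : SubMulAction Q Ω := { carrier := S, smul_mem' := fun q s hs => hS q q.2 s hs }
  have h := hQ.card_modEq_card_fixedPoints (↥S')
  have h1 : Nat.card ↥S' = S.ncard := Nat.card_coe_set_eq S
  have h2 : Nat.card (fixedPoints Q ↥S') = (S ∩ {s | ∀ q ∈ Q, q • s = s}).ncard := by
    rw [← Nat.card_coe_set_eq]
    refine Nat.card_congr ⟨fun x => ⟨x.1.1, x.1.2, fun q hq => ?_⟩,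
      fun y => ⟨⟨y.1, y.2.1⟩, fun q => ?_⟩, fun x => rfl, fun y => rfl⟩
    · have := x.2 ⟨q, hq⟩
      exact congrArg Subtype.val this
    · apply Subtype.ext
      exact y.2.2 q.1 q.2
  rw [h1, h2] at h
  exact h

/-- invariant subset without fixed points -/
theorem dvd_ncard_of_invariant_of_no_fixed {p : ℕ} [Fact p.Prime] {Q : Subgroup G} (hQ : IsPGroup p Q)
    (S : Set Ω) (hS : ∀ q ∈ Q, ∀ s ∈ S, q • s ∈ S)
    (hfix : ∀ s ∈ S, ¬ ∀ q ∈ Q, q • s = s) : p ∣ S.ncard := by
  have h := ncard_modEq_of_invariant hQ S hS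
  have h0 : S ∩ {s | ∀ q ∈ Q, q • s = s} = ∅ := by
    ext s
    simp only [Set.mem_inter_iff, Set.mem_setOf_eq, Set.mem_empty_iff_false, iff_false, not_and]
    exact fun hs => hfix s hs
  rw [h0, Set.ncard_empty] at h
  exact (Nat.modEq_zero_iff_dvd).1 h

/-- invariant subset with exactly one fixed point -/
theorem ncard_modEq_one_of_invariant {p : ℕ} [Fact p.Prime] {Q : Subgroup G} (hQ : IsPGroup p Q)
    (S : Set Ω) (hS : ∀ q ∈ Q, ∀ s ∈ S, q • s ∈ S) (x : Ω) (hx : x ∈ S)
    (hxfix : ∀ q ∈ Q, q • x = x)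
    (hfix : ∀ s ∈ S, (∀ q ∈ Q, q • s = s) → s = x) : S.ncard ≡ 1 [MOD p] := by
  have h := ncard_modEq_of_invariant hQ S hS
  have h0 : S ∩ {s | ∀ q ∈ Q, q • s = s} = {x} := by
    ext s
    simp only [Set.mem_inter_iff, Set.mem_setOf_eq, Set.mem_singleton_iff]
    constructor
    · rintro ⟨hs, hq⟩
      exact hfix s hs hq
    · rintro rfl
      exact ⟨hx, hxfix⟩
  rw [h0, Set.ncard_singleton] at h
  exact h

end general

section s720

open Cfsg.Agent.Helper11

variable {G : Type*} [Group G] [Finite G] [IsSimpleGroup G]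

theorem noncomm (hcard : Nat.card G = 720) : ¬ IsMulCommutative G :=
  simple_noncomm_of_card (by rw [hcard]; norm_num)

/-- proper subgroups have index at least `8` -/
theorem index_ge_eight (hcard : Nat.card G = 720) (H : Subgroup G) (hH : H ≠ ⊤) : 8 ≤ H.index := by
  by_contra hlt
  have h1 := simple_two_mul_card_dvd_factorial (noncomm hcard) H hH
  rw [hcard] at h1
  have h7 : H.index ≤ 7 := by omega
  have h2 : H.index.factorial ∣ Nat.factorial 7 := Nat.factorial_dvd_factorial h7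
  have h3 := h1.trans h2
  norm_num [Nat.factorial] at h3

theorem ne_top_of_card (hcard : Nat.card G = 720) (M : Subgroup G) (hM : Nat.card M < 720) :
    M ≠ ⊤ := by
  rintro rfl
  rw [Subgroup.card_top, hcard] at hM
  omega

theorem card_quot (hcard : Nat.card G = 720) (M : Subgroup G) (hM : Nat.card M = 72) :
    Nat.card (G ⧸ M) = 10 := by
  have h := M.card_mul_index
  rw [hM, hcard] at h
  have : M.index = 10 := by omega
  exact this

theorem card_stabilizer (hcard : Nat.card G = 720) (M : Subgroup G) (hM : Nat.card M = 72)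
    (x : G ⧸ M) : Nat.card (stabilizer G x) = 72 := by
  have h1 := index_stabilizer_of_transitive G x
  rw [card_quot hcard M hM] at h1
  have h := (stabilizer G x).card_mul_index
  rw [h1, hcard] at h
  omega

/-- the action is faithful -/
theorem exists_moved (hcard : Nat.card G = 720) (M : Subgroup G) (hM : Nat.card M = 72)
    (g : G) (hg : g ≠ 1) : ∃ x : G ⧸ M, g • x ≠ x := by
  by_contra hall
  push Not at hall
  have hk : g ∈ (MulAction.toPermHom G (G ⧸ M)).ker := by
    rw [MonoidHom.mem_ker]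
    ext x
    simpa using hall x
  rw [← Subgroup.normalCore_eq_ker] at hk
  have hn : M.normalCore.Normal := inferInstance
  rcases hn.eq_bot_or_eq_top with h | h
  · rw [h, Subgroup.mem_bot] at hk
    exact hg hk
  · have : M = ⊤ := top_le_iff.1 (h ▸ M.normalCore_le)
    exact ne_top_of_card hcard M (by rw [hM]; norm_num) this

theorem card_sylow3 (hcard : Nat.card G = 720) [Fact (Nat.Prime 3)] (Q : Sylow 3 G) :
    Nat.card ↥(Q : Subgroup G) = 9 := by
  have := (sylow_card_of_card_eq_pow (p := 3) 80 2 (by rw [hcard]; norm_num) (by norm_num) Q).1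
  rw [this]; norm_num

theorem sylow3_comm (hcard : Nat.card G = 720) [Fact (Nat.Prime 3)] (Q : Sylow 3 G) (a b : G)
    (ha : a ∈ (Q : Subgroup G)) (hb : b ∈ (Q : Subgroup G)) : a * b = b * a := by
  have h9 : Nat.card ↥(Q : Subgroup G) = 3 ^ 2 := by rw [card_sylow3 hcard Q]; norm_num
  have := (IsPGroup.isMulCommutative_of_card_eq_prime_sq h9).is_comm.comm ⟨a, ha⟩ ⟨b, hb⟩
  exact congrArg Subtype.val this

/-- an element of order `3` fixing a point lies in a Sylow `3`-subgroup fixing that point -/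
theorem exists_sylow_le_stabilizer (hcard : Nat.card G = 720) [Fact (Nat.Prime 3)] (M : Subgroup G)
    (hM : Nat.card M = 72) (x : G ⧸ M) (d : G) (hd : orderOf d = 3) (hdx : d • x = x) :
    ∃ Q : Sylow 3 G, d ∈ (Q : Subgroup G) ∧ (Q : Subgroup G) ≤ stabilizer G x := by
  set H := stabilizer G x with hH
  have hHc : Nat.card H = 72 := card_stabilizer hcard M hM x
  have hdH : d ∈ H := mem_stabilizer_iff.2 hdx
  have hZ : Nat.card (Subgroup.zpowers (⟨d, hdH⟩ : H)) = 3 ^ 1 := by
    rw [Nat.card_zpowers, pow_one, ← hd]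
    exact (Subgroup.orderOf_mk d hdH)
  obtain ⟨K, hK, hZK⟩ := Sylow.exists_subgroup_card_pow_prime_le 3 (m := 2)
    (by rw [hHc]; norm_num) _ hZ (by norm_num)
  have hQ₀c : Nat.card (K.map H.subtype) = 9 := by
    rw [← Nat.card_congr (K.equivMapOfInjective H.subtype H.subtype_injective).toEquiv, hK]
    norm_num
  have hQ₀p : IsPGroup 3 (K.map H.subtype) := IsPGroup.of_card (n := 2) (by rw [hQ₀c]; norm_num)
  obtain ⟨Q, hQ⟩ := hQ₀p.exists_le_sylow
  have heq : K.map H.subtype = (Q : Subgroup G) :=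
    Subgroup.eq_of_le_of_card_ge hQ (by rw [hQ₀c, card_sylow3 hcard Q])
  refine ⟨Q, ?_, ?_⟩
  · rw [← heq]
    exact ⟨⟨d, hdH⟩, hZK (Subgroup.mem_zpowers _), rfl⟩
  · rw [← heq]
    rintro _ ⟨k, -, rfl⟩
    exact k.2

/-- a Sylow `3`-subgroup has at most one fixed point -/
theorem eq_of_fixed [Fact (Nat.Prime 3)] (M : Subgroup G)
    (hfixP : ∀ P : Sylow 3 G, Nat.card (fixedPoints ↥(P : Subgroup G) (G ⧸ M)) = 1)
    (Q : Sylow 3 G) (x y : G ⧸ M) (hx : ∀ q ∈ (Q : Subgroup G), q • x = x)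
    (hy : ∀ q ∈ (Q : Subgroup G), q • y = y) : y = x := by
  have h1 := hfixP Q
  have hs : Subsingleton (fixedPoints ↥(Q : Subgroup G) (G ⧸ M)) :=
    (Nat.card_eq_one_iff_unique.1 h1).1
  have hx' : x ∈ fixedPoints ↥(Q : Subgroup G) (G ⧸ M) := fun q => hx q.1 q.2
  have hy' : y ∈ fixedPoints ↥(Q : Subgroup G) (G ⧸ M) := fun q => hy q.1 q.2
  have := Subsingleton.elim (⟨y, hy'⟩ : fixedPoints ↥(Q : Subgroup G) (G ⧸ M)) ⟨x, hx'⟩
  exact congrArg Subtype.val this

theorem smul_eq_of_mem_zpowers {Ω : Type*} [MulAction G Ω] {d q : G} (hq : q ∈ Subgroup.zpowers d)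
    {s : Ω} (hs : d • s = s) : q • s = s := by
  obtain ⟨k, rfl⟩ := Subgroup.mem_zpowers_iff.1 hq
  exact fixedBy_subset_fixedBy_zpow Ω d k hs

theorem isPGroup_zpowers [Fact (Nat.Prime 3)] (d : G) (hd : orderOf d = 3) :
    IsPGroup 3 (Subgroup.zpowers d) :=
  IsPGroup.of_card (n := 1) (by rw [Nat.card_zpowers, hd, pow_one])

/-- the number of fixed points of an element of order `3` is `1`, `4` or `7` -/
theorem ncard_fixedBy_mem (hcard : Nat.card G = 720) [Fact (Nat.Prime 3)] (M : Subgroup G)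
    (hM : Nat.card M = 72) (d : G) (hd : orderOf d = 3) :
    (fixedBy (G ⧸ M) d).ncard = 1 ∨ (fixedBy (G ⧸ M) d).ncard = 4 ∨
      (fixedBy (G ⧸ M) d).ncard = 7 := by
  have h := ncard_modEq_of_invariant (isPGroup_zpowers d hd) (Set.univ : Set (G ⧸ M))
    (fun _ _ _ _ => Set.mem_univ _)
  have h0 : (Set.univ : Set (G ⧸ M)) ∩ {s | ∀ q ∈ Subgroup.zpowers d, q • s = s} =
      fixedBy (G ⧸ M) d := by
    ext s
    simp only [Set.univ_inter, Set.mem_ofPred_eq, mem_fixedBy]
    exact ⟨fun h => h d (Subgroup.mem_zpowers d), fun h q hq => smul_eq_of_mem_zpowers hq h⟩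
  rw [h0, Set.ncard_univ, card_quot hcard M hM] at h
  have hle : (fixedBy (G ⧸ M) d).ncard ≤ 9 := by
    have h10 : (fixedBy (G ⧸ M) d).ncard ≤ (Set.univ : Set (G ⧸ M)).ncard :=
      Set.ncard_le_ncard (Set.subset_univ _)
    rw [Set.ncard_univ, card_quot hcard M hM] at h10
    rcases Nat.lt_or_ge (fixedBy (G ⧸ M) d).ncard 10 with h' | h'
    · omega
    exfalso
    have heq : fixedBy (G ⧸ M) d = Set.univ := by
      apply Set.eq_of_subset_of_ncard_le (Set.subset_univ _)
      rw [Set.ncard_univ, card_quot hcard M hM]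
      exact h'
    have hd1 : d ≠ 1 := by
      rintro rfl
      rw [orderOf_one] at hd
      omega
    obtain ⟨x, hx⟩ := exists_moved hcard M hM d hd1
    have : x ∈ fixedBy (G ⧸ M) d := by rw [heq]; exact Set.mem_univ x
    exact hx this
  unfold Nat.ModEq at h
  omega

end s720

end Cfsg.Agent.Helper25.NoSimple720A
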