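import Mathlib
import Cfsg.Agent.Helper25.NoSimple720A

/-!
# Order `720`: the centraliser of an element of order `3` is transitive on its fixed points
-/

set_option autoImplicit false

namespace Cfsg.Agent.Helper25.NoSimple720B

open MulAction Cfsg.Agent.Helper25.NoSimple720A

variable {G : Type*} [Group G] [Finite G] [IsSimpleGroup G]

/-- the centraliser of an element of order `3` is transitive on its fixed points -/
theorem exists_comm_smul_eq (hcard : Nat.card G = 720) [Fact (Nat.Prime 3)] (M : Subgroup G)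
    (hM : Nat.card M = 72)
    (hfixP : ∀ P : Sylow 3 G, Nat.card (fixedPoints ↥(P : Subgroup G) (G ⧸ M)) = 1)
    (d : G) (hd : orderOf d = 3) (x y : G ⧸ M) (hx : d • x = x) (hy : d • y = y) :
    ∃ c : G, c * d = d * c ∧ c • x = y := by
  by_contra hno
  set O : Set (G ⧸ M) := {z | ∃ c : G, c * d = d * c ∧ c • x = z} with hO
  have hyO : y ∉ O := hno
  have hxO : x ∈ O := ⟨1, by simp, one_smul _ _⟩
  obtain ⟨Qx, hdQx, hQx⟩ := exists_sylow_le_stabilizer hcard M hM x d hd hx
  obtain ⟨Qy, hdQy, hQy⟩ := exists_sylow_le_stabilizer hcard M hM y d hd hy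
  have hinv : ∀ Q : Sylow 3 G, d ∈ (Q : Subgroup G) → ∀ q ∈ (Q : Subgroup G), ∀ s ∈ O, q • s ∈ O := by
    rintro Q hdQ q hq s ⟨c, hc, rfl⟩
    refine ⟨q * c, ?_, mul_smul _ _ _⟩
    have hqd : q * d = d * q := sylow3_comm hcard Q q d hq hdQ
    rw [mul_assoc, hc, ← mul_assoc, hqd, mul_assoc]
  have h1 : O.ncard ≡ 1 [MOD 3] :=
    ncard_modEq_one_of_invariant Qx.2 O (hinv Qx hdQx) x hxO
      (fun q hq => mem_stabilizer_iff.1 (hQx hq))
      (fun s _ hs => eq_of_fixed M hfixP Qx x s (fun q hq => mem_stabilizer_iff.1 (hQx hq)) hs)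
  have h0 : 3 ∣ O.ncard :=
    dvd_ncard_of_invariant_of_no_fixed Qy.2 O (hinv Qy hdQy) (fun s hs hfix => by
      have := eq_of_fixed M hfixP Qy y s (fun q hq => mem_stabilizer_iff.1 (hQy hq)) hfix
      rw [this] at hs
      exact hyO hs)
  unfold Nat.ModEq at h1
  omega

/-- the number of fixed points of an element of order `3` divides the group order -/
theorem ncard_fixedBy_dvd (hcard : Nat.card G = 720) [Fact (Nat.Prime 3)] (M : Subgroup G)
    (hM : Nat.card M = 72)
    (hfixP : ∀ P : Sylow 3 G, Nat.card (fixedPoints ↥(P : Subgroup G) (G ⧸ M)) = 1)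
    (d : G) (hd : orderOf d = 3) : (fixedBy (G ⧸ M) d).ncard ∣ 720 := by
  have hne : (fixedBy (G ⧸ M) d).ncard ≠ 0 := by
    rcases ncard_fixedBy_mem hcard M hM d hd with h | h | h <;> omega
  obtain ⟨x, hx⟩ := Set.nonempty_of_ncard_ne_zero hne
  set C := Subgroup.centralizer ({d} : Set G) with hC
  have horb : orbit ↥C x = fixedBy (G ⧸ M) d := by
    ext z
    constructor
    · rintro ⟨c, rfl⟩
      rw [mem_fixedBy]
      have hc : (c : G) * d = d * (c : G) := by
        have := Subgroup.mem_centralizer_iff.1 c.2 d (Set.mem_singleton d)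
        exact this.symm
      show d • ((c : G) • x) = (c : G) • x
      rw [← mul_smul, ← hc, mul_smul, hx]
    · intro hz
      obtain ⟨c, hc, hcx⟩ := exists_comm_smul_eq hcard M hM hfixP d hd x z hx hz
      refine ⟨⟨c, ?_⟩, hcx⟩
      rw [hC, Subgroup.mem_centralizer_iff]
      intro h hh
      rw [Set.mem_singleton_iff] at hh
      rw [hh, hc]
  have h1 := index_stabilizer (G := ↥C) x
  rw [horb] at h1
  rw [← h1]
  have h2 : (stabilizer ↥C x).index ∣ Nat.card ↥C := Subgroup.index_dvd_card _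
  have h3 : Nat.card ↥C ∣ Nat.card G := Subgroup.card_subgroup_dvd_card C
  rw [hcard] at h3
  exact h2.trans h3

/-- the number of fixed points of an element of order `3` is `1` or `4` -/
theorem ncard_fixedBy_one_or_four (hcard : Nat.card G = 720) [Fact (Nat.Prime 3)] (M : Subgroup G)
    (hM : Nat.card M = 72)
    (hfixP : ∀ P : Sylow 3 G, Nat.card (fixedPoints ↥(P : Subgroup G) (G ⧸ M)) = 1)
    (d : G) (hd : orderOf d = 3) :
    (fixedBy (G ⧸ M) d).ncard = 1 ∨ (fixedBy (G ⧸ M) d).ncard = 4 := by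
  have h := ncard_fixedBy_dvd hcard M hM hfixP d hd
  rcases ncard_fixedBy_mem hcard M hM d hd with h1 | h1 | h1
  · exact Or.inl h1
  · exact Or.inr h1
  · rw [h1] at h
    norm_num at h

end Cfsg.Agent.Helper25.NoSimple720B
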