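import Mathlib
import Cfsg.Agent.Helper25.NoSimple720B

/-!
# Order `720`: every element of order `3` fixes exactly one point
-/

set_option autoImplicit false

namespace Cfsg.Agent.Helper25.NoSimple720C

open MulAction Cfsg.Agent.Helper25.NoSimple720A Cfsg.Agent.Helper25.NoSimple720B

variable {G : Type*} [Group G] [Finite G] [IsSimpleGroup G]

/-- a point stabiliser containing an element of order `3` fixing a second point has an invariant
`3`-set among the other nine points -/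
theorem exists_invariant_three (hcard : Nat.card G = 720) [Fact (Nat.Prime 3)] (M : Subgroup G)
    (hM : Nat.card M = 72)
    (hfixP : ∀ P : Sylow 3 G, Nat.card (fixedPoints ↥(P : Subgroup G) (G ⧸ M)) = 1)
    (P : Sylow 3 G) (x₀ β : G ⧸ M) (hx₀ : ∀ q ∈ (P : Subgroup G), q • x₀ = x₀) (hβ : β ≠ x₀)
    (d : G) (hd : orderOf d = 3) (hdx : d • x₀ = x₀) (hdβ : d • β = β) :
    ∃ Δ : Set (G ⧸ M), Δ.ncard = 3 ∧ x₀ ∉ Δ ∧ ∀ m ∈ stabilizer G x₀, ∀ s ∈ Δ, m • s ∈ Δ := by
  set M₀ := stabilizer G x₀ with hM₀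
  have hM₀c : Nat.card M₀ = 72 := card_stabilizer hcard M hM x₀
  have hPM₀ : (P : Subgroup G) ≤ M₀ := fun q hq => mem_stabilizer_iff.2 (hx₀ q hq)
  set O : Set (G ⧸ M) := orbit ↥M₀ β with hO
  have hOmem : ∀ z, z ∈ O ↔ ∃ m ∈ M₀, m • β = z := by
    intro z
    constructor
    · rintro ⟨m, rfl⟩
      exact ⟨m.1, m.2, rfl⟩
    · rintro ⟨m, hm, rfl⟩
      exact ⟨⟨m, hm⟩, rfl⟩
  have hOinv : ∀ m ∈ M₀, ∀ s ∈ O, m • s ∈ O := by
    intro m hm s hs
    obtain ⟨m', hm', rfl⟩ := (hOmem s).1 hs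
    exact (hOmem _).2 ⟨m * m', M₀.mul_mem hm hm', mul_smul _ _ _⟩
  have hx₀O : x₀ ∉ O := by
    intro h
    obtain ⟨m, hm, hmβ⟩ := (hOmem x₀).1 h
    apply hβ
    have h1 : m⁻¹ • x₀ = x₀ := mem_stabilizer_iff.1 (M₀.inv_mem hm)
    have h2 : m⁻¹ • x₀ = β := by rw [← hmβ, inv_smul_smul]
    exact h2.symm.trans h1
  -- `3 ∣ |O|`
  have h3O : 3 ∣ O.ncard :=
    dvd_ncard_of_invariant_of_no_fixed P.2 O (fun q hq => hOinv q (hPM₀ hq)) (fun s hs hfix => by
      have := eq_of_fixed M hfixP P x₀ s hx₀ hfix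
      rw [this] at hs
      exact hx₀O hs)
  -- orbit-stabiliser
  have h1 := index_stabilizer (G := ↥M₀) β
  have h2 := (stabilizer ↥M₀ β).card_mul_index
  rw [h1, hM₀c] at h2
  have hdM₀ : d ∈ M₀ := mem_stabilizer_iff.2 hdx
  have h3S : 3 ∣ Nat.card (stabilizer ↥M₀ β) := by
    have hmem : (⟨d, hdM₀⟩ : M₀) ∈ stabilizer ↥M₀ β := mem_stabilizer_iff.2 hdβ
    have := orderOf_dvd_natCard (⟨⟨d, hdM₀⟩, hmem⟩ : stabilizer ↥M₀ β)
    rw [Subgroup.orderOf_mk, Subgroup.orderOf_mk, hd] at this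
    exact this
  have hO9 : O.ncard ≤ 9 := by
    have hsub : O ⊆ {x₀}ᶜ := fun z hz => by
      simp only [Set.mem_compl_iff, Set.mem_singleton_iff]
      rintro rfl
      exact hx₀O hz
    have := Set.ncard_le_ncard hsub
    have h10 : ({x₀}ᶜ : Set (G ⧸ M)).ncard = 9 := by
      have := Set.ncard_add_ncard_compl ({x₀} : Set (G ⧸ M))
      rw [Set.ncard_singleton, card_quot hcard M hM] at this
      omega
    omega
  obtain ⟨k, hk⟩ := h3O
  obtain ⟨j, hj⟩ := h3S
  rw [hk, hj] at h2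
  have hkj : j * k = 8 := by nlinarith
  have hk3 : k ≤ 3 := by omega
  have hk12 : k = 1 ∨ k = 2 := by
    interval_cases k
    · omega
    · exact Or.inl rfl
    · exact Or.inr rfl
    · omega
  rcases hk12 with rfl | rfl
  · exact ⟨O, by rw [hk], hx₀O, hOinv⟩
  · refine ⟨{x₀}ᶜ \ O, ?_, ?_, ?_⟩
    · have hsub : O ⊆ {x₀}ᶜ := fun z hz => by
        simp only [Set.mem_compl_iff, Set.mem_singleton_iff]
        rintro rfl
        exact hx₀O hz
      have h10 : ({x₀}ᶜ : Set (G ⧸ M)).ncard = 9 := by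
        have := Set.ncard_add_ncard_compl ({x₀} : Set (G ⧸ M))
        rw [Set.ncard_singleton, card_quot hcard M hM] at this
        omega
      rw [Set.ncard_diff hsub, h10, hk]
    · simp
    · intro m hm s hs
      simp only [Set.mem_diff, Set.mem_compl_iff, Set.mem_singleton_iff] at hs ⊢
      have hm' : m⁻¹ ∈ M₀ := M₀.inv_mem hm
      constructor
      · intro h
        apply hs.1
        have h1 : m⁻¹ • x₀ = x₀ := mem_stabilizer_iff.1 hm'
        have h2 : m⁻¹ • x₀ = s := by rw [← h, inv_smul_smul]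
        exact h2.symm.trans h1
      · intro h
        apply hs.2
        have := hOinv m⁻¹ hm' _ h
        rwa [inv_smul_smul] at this

open Pointwise in
/-- no element of order `3` has four fixed points -/
theorem ncard_fixedBy_ne_four (hcard : Nat.card G = 720) [Fact (Nat.Prime 3)] (M : Subgroup G)
    (hM : Nat.card M = 72)
    (hfixP : ∀ P : Sylow 3 G, Nat.card (fixedPoints ↥(P : Subgroup G) (G ⧸ M)) = 1)
    (d : G) (hd : orderOf d = 3) : (fixedBy (G ⧸ M) d).ncard ≠ 4 := by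
  intro h4
  -- a Sylow subgroup containing `d`, its fixed point
  obtain ⟨P, hdP⟩ := (isPGroup_zpowers d hd).exists_le_sylow
  have hdP' : d ∈ (P : Subgroup G) := hdP (Subgroup.mem_zpowers d)
  obtain ⟨⟨x₀, hx₀'⟩⟩ := (Nat.card_eq_one_iff_unique.1 (hfixP P)).2
  have hx₀ : ∀ q ∈ (P : Subgroup G), q • x₀ = x₀ := fun q hq => hx₀' ⟨q, hq⟩
  have hPc : Nat.card ↥(P : Subgroup G) = 9 := card_sylow3 hcard P
  -- a second fixed point of `d`
  have hdx₀ : d • x₀ = x₀ := hx₀ d hdP'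
  obtain ⟨β, hβ, hβx⟩ : ∃ β ∈ fixedBy (G ⧸ M) d, β ≠ x₀ := by
    by_contra hno
    push Not at hno
    have hsub : fixedBy (G ⧸ M) d ⊆ {x₀} := fun z hz => hno z hz
    have := Set.ncard_le_ncard hsub
    rw [Set.ncard_singleton, h4] at this
    omega
  obtain ⟨Δ, hΔ3, hx₀Δ, hΔinv⟩ := exists_invariant_three hcard M hM hfixP P x₀ β hx₀ hβx d hd
    hdx₀ hβ
  set M₀ := stabilizer G x₀ with hM₀
  have hM₀c : Nat.card M₀ = 72 := card_stabilizer hcard M hM x₀
  have hPM₀ : (P : Subgroup G) ≤ M₀ := fun q hq => mem_stabilizer_iff.2 (hx₀ q hq)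
  have hΔP : ∀ q ∈ (P : Subgroup G), ∀ s ∈ Δ, q • s ∈ Δ := fun q hq => hΔinv q (hPM₀ hq)
  have hΔnofix : ∀ s ∈ Δ, ¬ ∀ q ∈ (P : Subgroup G), q • s = s := by
    intro s hs hfix
    have := eq_of_fixed M hfixP P x₀ s hx₀ hfix
    rw [this] at hs
    exact hx₀Δ hs
  have hΔne : Δ.Nonempty := Set.nonempty_of_ncard_ne_zero (by rw [hΔ3]; norm_num)
  obtain ⟨β', hβ'⟩ := hΔne
  -- an element of order `3` of `P` fixing `β'`
  obtain ⟨d', hd', hd'P, hd'β⟩ : ∃ d' : G, orderOf d' = 3 ∧ d' ∈ (P : Subgroup G) ∧ d' • β' = β' := by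
    have h1 := index_stabilizer (G := ↥(P : Subgroup G)) β'
    have h2 := (stabilizer ↥(P : Subgroup G) β').card_mul_index
    rw [h1, hPc] at h2
    have hsub : orbit ↥(P : Subgroup G) β' ⊆ Δ := by
      rintro _ ⟨q, rfl⟩
      exact hΔP q.1 q.2 β' hβ'
    have hle := Set.ncard_le_ncard hsub
    rw [hΔ3] at hle
    have h3 : 3 ∣ Nat.card (stabilizer ↥(P : Subgroup G) β') := by
      generalize (orbit ↥(P : Subgroup G) β').ncard = k at *
      generalize Nat.card (stabilizer ↥(P : Subgroup G) β') = j at *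
      interval_cases k
      · omega
      · omega
      · omega
      · omega
    obtain ⟨e, he⟩ := exists_prime_orderOf_dvd_card' (G := stabilizer ↥(P : Subgroup G) β') 3 h3
    refine ⟨((e : ↥(P : Subgroup G)) : G), ?_, (e : ↥(P : Subgroup G)).2, ?_⟩
    · rw [Subgroup.orderOf_coe, Subgroup.orderOf_coe]; exact he
    · exact mem_stabilizer_iff.1 e.2
  -- `d'` fixes all of `Δ`
  have hΔfix : Δ ⊆ fixedBy (G ⧸ M) d' := by
    have hinv : ∀ q ∈ (P : Subgroup G), ∀ s ∈ Δ ∩ fixedBy (G ⧸ M) d', q • s ∈ Δ ∩ fixedBy (G ⧸ M) d' := by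
      rintro q hq s ⟨hs, hsf⟩
      refine ⟨hΔP q hq s hs, ?_⟩
      rw [mem_fixedBy] at hsf ⊢
      rw [← mul_smul, sylow3_comm hcard P d' q hd'P hq, mul_smul, hsf]
    have h3 : 3 ∣ (Δ ∩ fixedBy (G ⧸ M) d').ncard :=
      dvd_ncard_of_invariant_of_no_fixed P.2 _ hinv (fun s hs => hΔnofix s hs.1)
    have hne : (Δ ∩ fixedBy (G ⧸ M) d').ncard ≠ 0 := by
      intro h0
      have hfin : (Δ ∩ fixedBy (G ⧸ M) d').Finite := Set.toFinite _
      rw [Set.ncard_eq_zero hfin] at h0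
      have : β' ∈ Δ ∩ fixedBy (G ⧸ M) d' := ⟨hβ', hd'β⟩
      rw [h0] at this
      exact this
    have hle : (Δ ∩ fixedBy (G ⧸ M) d').ncard ≤ Δ.ncard := Set.ncard_le_ncard Set.inter_subset_left
    have heq : Δ ∩ fixedBy (G ⧸ M) d' = Δ := by
      apply Set.eq_of_subset_of_ncard_le Set.inter_subset_left
      rw [hΔ3] at hle ⊢
      obtain ⟨k, hk⟩ := h3
      omega
    rw [← heq]
    exact Set.inter_subset_right
  have hd'x₀ : d' • x₀ = x₀ := hx₀ d' hd'P
  -- the fixed point set of `d'`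
  have hΦ : fixedBy (G ⧸ M) d' = insert x₀ Δ := by
    symm
    apply Set.eq_of_subset_of_ncard_le
    · intro z hz
      rcases hz with rfl | hz
      · exact hd'x₀
      · exact hΔfix hz
    · rw [Set.ncard_insert_of_notMem hx₀Δ, hΔ3]
      rcases ncard_fixedBy_one_or_four hcard M hM hfixP d' hd' with h | h <;> omega
    · exact Set.toFinite _
  have hΦ4 : (fixedBy (G ⧸ M) d').ncard = 4 := by
    rw [hΦ, Set.ncard_insert_of_notMem hx₀Δ, hΔ3]
  -- the setwise stabiliser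
  set H := stabilizer G (fixedBy (G ⧸ M) d') with hH
  have hfin : (fixedBy (G ⧸ M) d').Finite := Set.toFinite _
  have hM₀H : M₀ ≤ H := by
    intro m hm
    rw [hH, mem_stabilizer_set' hfin]
    intro b hb
    rw [hΦ] at hb ⊢
    rcases hb with rfl | hb
    · left
      exact mem_stabilizer_iff.1 hm
    · right
      exact hΔinv m hm b hb
  -- an element of `H` outside `M₀`
  obtain ⟨Q, hd'Q, hQ⟩ := exists_sylow_le_stabilizer hcard M hM β' d' hd' hd'β
  have hQH : (Q : Subgroup G) ≤ H := by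
    intro q hq
    rw [hH, mem_stabilizer_set' hfin]
    intro b hb
    rw [mem_fixedBy] at hb ⊢
    rw [← mul_smul, sylow3_comm hcard Q d' q hd'Q hq, mul_smul, hb]
  have hQM₀ : ¬ (Q : Subgroup G) ≤ M₀ := by
    intro hle
    have := eq_of_fixed M hfixP Q β' x₀ (fun q hq => mem_stabilizer_iff.1 (hQ hq))
      (fun q hq => mem_stabilizer_iff.1 (hle hq))
    rw [this] at hx₀Δ
    exact hx₀Δ hβ'
  have hne : M₀ ≠ H := by
    intro h
    apply hQM₀
    rw [h]
    exact hQH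
  -- `H` is proper
  have hHtop : H ≠ ⊤ := by
    intro htop
    obtain ⟨z, hz⟩ : ∃ z, z ∉ fixedBy (G ⧸ M) d' := by
      by_contra hall
      push Not at hall
      have : fixedBy (G ⧸ M) d' = Set.univ := Set.eq_univ_of_forall hall
      rw [this, Set.ncard_univ, card_quot hcard M hM] at hΦ4
      omega
    obtain ⟨g, hg⟩ := exists_smul_eq G x₀ z
    have hgH : g ∈ H := by rw [htop]; exact Subgroup.mem_top g
    rw [hH, mem_stabilizer_set' hfin] at hgH
    have := hgH hd'x₀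
    rw [hg] at this
    exact hz this
  have h8 := index_ge_eight hcard H hHtop
  have hci := H.card_mul_index
  rw [hcard] at hci
  have hdvd : Nat.card M₀ ∣ Nat.card H := Subgroup.card_dvd_of_le hM₀H
  rw [hM₀c] at hdvd
  obtain ⟨k, hk⟩ := hdvd
  have hk1 : k = 1 := by
    rw [hk] at hci
    have : k * H.index = 10 := by nlinarith
    have hk0 : k ≠ 0 := by rintro rfl; omega
    have : k ≤ 1 := by
      by_contra hlt
      have : 2 ≤ k := by omega
      nlinarith
    omega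
  apply hne
  apply Subgroup.eq_of_le_of_card_ge hM₀H
  rw [hk, hk1, hM₀c]

/-- **(IV)**: every element of order `3` fixes exactly one point. -/
theorem three_elt_fix_one (hcard : Nat.card G = 720) (M : Subgroup G) (hM : Nat.card M = 72)
    (hfix : ∀ P : Sylow 3 G, Nat.card (MulAction.fixedPoints ↥(P : Subgroup G) (G ⧸ M)) = 1)
    (g : G) (hg : orderOf g = 3) : Nat.card (MulAction.fixedBy (G ⧸ M) g) = 1 := by
  have : Fact (Nat.Prime 3) := ⟨by norm_num⟩
  rw [Nat.card_coe_set_eq]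
  rcases ncard_fixedBy_one_or_four hcard M hM hfix g hg with h | h
  · exact h
  · exact absurd h (ncard_fixedBy_ne_four hcard M hM hfix g hg)

end Cfsg.Agent.Helper25.NoSimple720C
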