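import Mathlib
import Cfsg.Agent.Helper25.NoSimple720A
import Cfsg.Agent.Helper11.Transfer
import Cfsg.Agent.Helper9.Focal
import Cfsg.Agent.Helper16.BswLoc
import Cfsg.Agent.Helper11.SylowInter2
import Cfsg.Agent.Helper27.RelSylow
import Cfsg.Agent.Helper11.O504A

/-!
# Order `720`, `n₃ = 40`: a subgroup of order `72`
-/

set_option autoImplicit false

namespace Cfsg.Agent.Helper25.NoSimple720D

open Subgroup Cfsg.Agent.Helper25.NoSimple720A

variable {G : Type*} [Group G] [Finite G] [IsSimpleGroup G]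

theorem card_normalizer_of_forty (hcard : Nat.card G = 720) [Fact (Nat.Prime 3)]
    (h40 : Nat.card (Sylow 3 G) = 40) (P : Sylow 3 G) :
    Nat.card ↥(normalizer ((P : Subgroup G) : Set G)) = 18 := by
  have h1 : Nat.card (Sylow 3 G) = (normalizer ((P : Subgroup G) : Set G)).index :=
    P.card_eq_index_normalizer
  rw [h40] at h1
  have h2 := (normalizer ((P : Subgroup G) : Set G)).card_mul_index
  rw [← h1, hcard] at h2
  omega

theorem le_centralizer (hcard : Nat.card G = 720) [Fact (Nat.Prime 3)] (P : Sylow 3 G) :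
    (P : Subgroup G) ≤ centralizer ((P : Subgroup G) : Set G) := by
  intro a ha
  rw [mem_centralizer_iff]
  intro b hb
  exact sylow3_comm hcard P b a hb ha

theorem centralizer_eq (hcard : Nat.card G = 720) [Fact (Nat.Prime 3)]
    (h40 : Nat.card (Sylow 3 G) = 40) (P : Sylow 3 G) :
    centralizer ((P : Subgroup G) : Set G) = (P : Subgroup G) := by
  have hN := card_normalizer_of_forty hcard h40 P
  have hP := card_sylow3 hcard P
  have hPC := le_centralizer hcard P
  have hCN : centralizer ((P : Subgroup G) : Set G) ≤ normalizer ((P : Subgroup G) : Set G) :=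
    centralizer_le_normalizer _
  have h1 := card_dvd_of_le hPC
  have h2 := card_dvd_of_le hCN
  rw [hP] at h1
  rw [hN] at h2
  have hne : ¬ normalizer ((P : Subgroup G) : Set G) ≤ centralizer ((P : Subgroup G) : Set G) :=
    Cfsg.Agent.Helper11.simple_not_normalizer_le_centralizer (noncomm hcard) 3 P
      (by rw [hcard]; norm_num)
  have hC9 : Nat.card ↥(centralizer ((P : Subgroup G) : Set G)) = 9 := by
    obtain ⟨k, hk⟩ := h1
    rw [hk] at h2 ⊢
    have hk2 : k ∣ 2 :=
      Nat.dvd_of_mul_dvd_mul_left (by norm_num : 0 < 9) (by simpa using h2)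
    have hk12 : k = 1 ∨ k = 2 := by
      have := Nat.le_of_dvd (by norm_num) hk2
      interval_cases k
      · simp at hk2
      · exact Or.inl rfl
      · exact Or.inr rfl
    rcases hk12 with rfl | rfl
    · rfl
    · exfalso
      apply hne
      have : centralizer ((P : Subgroup G) : Set G) = normalizer ((P : Subgroup G) : Set G) :=
        eq_of_le_of_card_ge hCN (by rw [hN, hk])
      rw [this]
  exact (eq_of_le_of_card_ge hPC (by rw [hC9, hP])).symm

/-- an involution of `N(P)` inverting `P` -/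
theorem exists_inverting (hcard : Nat.card G = 720) [Fact (Nat.Prime 3)]
    (h40 : Nat.card (Sylow 3 G) = 40) (P : Sylow 3 G) :
    ∃ t : G, t * t = 1 ∧ t ∈ normalizer ((P : Subgroup G) : Set G) ∧ t ∉ (P : Subgroup G) ∧
      ∀ c ∈ (P : Subgroup G), t * c * t⁻¹ = c⁻¹ := by
  set N := normalizer ((P : Subgroup G) : Set G) with hNdef
  have hN := card_normalizer_of_forty hcard h40 P
  have hP := card_sylow3 hcard P
  have hPN : (P : Subgroup G) ≤ N := le_normalizer
  -- an involution of `N`
  obtain ⟨t', ht'⟩ := exists_prime_orderOf_dvd_card' (G := N) 2 (by rw [hN]; norm_num)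
  set t : G := (t' : G) with ht
  have ht2 : orderOf t = 2 := by rw [ht, Subgroup.orderOf_coe]; exact ht'
  have htN : t ∈ N := t'.2
  have htt : t * t = 1 := by rw [← sq, ← ht2]; exact pow_orderOf_eq_one t
  have hti : t⁻¹ = t := inv_eq_of_mul_eq_one_right htt
  have htP : t ∉ (P : Subgroup G) := by
    intro h
    have := orderOf_dvd_natCard (⟨t, h⟩ : (P : Subgroup G))
    rw [Subgroup.orderOf_mk, ht2, hP] at this
    omega
  have hnorm : ∀ n ∈ N, ∀ c ∈ (P : Subgroup G), n * c * n⁻¹ ∈ (P : Subgroup G) :=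
    fun n hn c hc => (mem_normalizer_iff.1 hn c).1 hc
  -- elements of `N` outside `P` act like `t`
  have hact : ∀ n ∈ N, n ∉ (P : Subgroup G) → ∀ x ∈ (P : Subgroup G),
      n * x * n⁻¹ = t * x * t⁻¹ := by
    intro n hn hnP x hx
    have hidx : ((P : Subgroup G).subgroupOf N).index = 2 := by
      have h1 := ((P : Subgroup G).subgroupOf N).index_mul_card
      rw [Nat.card_congr (Subgroup.subgroupOfEquivOfLe hPN).toEquiv, hN, hP] at h1
      omega
    have hiff := Subgroup.mul_mem_iff_of_index_two hidx (a := (⟨t⁻¹, N.inv_mem htN⟩ : N))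
      (b := ⟨n, hn⟩)
    have hs : t⁻¹ * n ∈ (P : Subgroup G) := by
      have : (⟨t⁻¹, N.inv_mem htN⟩ : N) * ⟨n, hn⟩ ∈ (P : Subgroup G).subgroupOf N := by
        rw [hiff, mem_subgroupOf, mem_subgroupOf]
        constructor
        · intro h; exact absurd ((P : Subgroup G).inv_mem_iff.1 h) htP
        · intro h; exact absurd h hnP
      exact this
    have hcomm := sylow3_comm hcard P (t⁻¹ * n) x hs hx
    calc n * x * n⁻¹ = t * ((t⁻¹ * n) * x * (t⁻¹ * n)⁻¹) * t⁻¹ := by group
      _ = t * x * t⁻¹ := by rw [hcomm, mul_inv_cancel_right]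
  -- the subgroup of inverted elements
  let R : Subgroup G :=
    { carrier := {y | y ∈ (P : Subgroup G) ∧ t * y * t⁻¹ = y⁻¹}
      one_mem' := ⟨one_mem _, by simp⟩
      mul_mem' := by
        rintro y z ⟨hy, hy'⟩ ⟨hz, hz'⟩
        refine ⟨mul_mem hy hz, ?_⟩
        have e : t * (y * z) * t⁻¹ = (t * y * t⁻¹) * (t * z * t⁻¹) := by group
        rw [e, hy', hz', mul_inv_rev, sylow3_comm hcard P z⁻¹ y⁻¹ (inv_mem hz) (inv_mem hy)]
      inv_mem' := by
        rintro y ⟨hy, hy'⟩
        refine ⟨inv_mem hy, ?_⟩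
        have e : t * y⁻¹ * t⁻¹ = (t * y * t⁻¹)⁻¹ := by group
        rw [e, hy'] }
  have hRmem : ∀ y, y ∈ R ↔ y ∈ (P : Subgroup G) ∧ t * y * t⁻¹ = y⁻¹ := fun y => Iff.rfl
  have hcomR : ⁅(P : Subgroup G), N⁆ ≤ R := by
    rw [Subgroup.commutator_le]
    intro x hx n hn
    rw [commutatorElement_def]
    by_cases hnP : n ∈ (P : Subgroup G)
    · have : x * n * x⁻¹ * n⁻¹ = 1 := by
        rw [sylow3_comm hcard P x n hx hnP]; group
      rw [this]
      exact one_mem R
    · have h1 := hact n hn hnP x⁻¹ (inv_mem hx)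
      have e : x * n * x⁻¹ * n⁻¹ = x * (n * x⁻¹ * n⁻¹) := by group
      rw [e, h1, hRmem]
      refine ⟨mul_mem hx (hnorm t htN _ (inv_mem hx)), ?_⟩
      rw [hti]
      have e2 : t * (x * (t * x⁻¹ * t)) * t = (t * x * t) * (x⁻¹ * (t * t)) := by group
      rw [e2, htt, mul_one, mul_inv_rev]
      have e3 : (t * x⁻¹ * t)⁻¹ = t⁻¹ * x * t⁻¹ := by group
      rw [e3, hti]
  have hPcomm : IsMulCommutative ↥(P : Subgroup G) :=
    IsPGroup.isMulCommutative_of_card_eq_prime_sq (p := 3) (by rw [hP]; norm_num)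
  have hfocal := Cfsg.Agent.Helper9.commutator_inf_eq_commutator_normalizer P hPcomm
  rw [Cfsg.Agent.Helper11.O504.commutator_eq_top (noncomm hcard), top_inf_eq] at hfocal
  refine ⟨t, htt, htN, htP, fun c hc => ?_⟩
  have : c ∈ R := hcomR (hfocal ▸ hc)
  exact ((hRmem c).1 this).2

/-- **(B)**: if `n₃ = 40` there is a subgroup of order `72`. -/
theorem exists_sub72_of_forty (hcard : Nat.card G = 720) (h40 : Nat.card (Sylow 3 G) = 40)
    (h15 : ∀ x y : G, orderOf x = 3 → orderOf y = 5 → x * y ≠ y * x) :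
    ∃ M : Subgroup G, Nat.card M = 72 := by
  have : Fact (Nat.Prime 3) := ⟨by norm_num⟩
  have : Fact (Nat.Prime 5) := ⟨by norm_num⟩
  have hmod : ¬ Nat.card (Sylow 3 G) ≡ 1 [MOD 3 ^ 2] := by rw [h40]; decide
  obtain ⟨P, R, hPR, hD⟩ := Cfsg.Agent.Helper11.exists_sylow_inter_index_p 3 hmod
  set D := (P : Subgroup G) ⊓ (R : Subgroup G) with hDdef
  have hP := card_sylow3 hcard P
  have hR := card_sylow3 hcard R
  have hD3 : Nat.card D = 3 := by omega
  set C := centralizer (D : Set G) with hC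
  set N := normalizer (D : Set G) with hN
  have hPC : (P : Subgroup G) ≤ C := by
    intro a ha
    rw [hC, mem_centralizer_iff]
    intro d hd
    exact sylow3_comm hcard P d a (inf_le_left (a := (P : Subgroup G)) hd) ha
  have hRC : (R : Subgroup G) ≤ C := by
    intro a ha
    rw [hC, mem_centralizer_iff]
    intro d hd
    exact sylow3_comm hcard R d a (inf_le_right (b := (R : Subgroup G)) hd) ha
  have hCN : C ≤ N := centralizer_le_normalizer _
  -- a generator of `D`
  obtain ⟨d', hd'⟩ := exists_prime_orderOf_dvd_card' (G := D) 3 (by rw [hD3])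
  set d : G := (d' : G) with hd
  have hd3 : orderOf d = 3 := by rw [hd, Subgroup.orderOf_coe]; exact hd'
  have hdD : d ∈ D := d'.2
  -- `5 ∤ |C|`
  have h5C : ¬ 5 ∣ Nat.card C := by
    intro h5
    obtain ⟨y, hy⟩ := exists_prime_orderOf_dvd_card' (G := C) 5 h5
    have hy5 : orderOf (y : G) = 5 := by rw [Subgroup.orderOf_coe]; exact hy
    have := mem_centralizer_iff.1 y.2 d hdD
    exact h15 d y hd3 hy5 this
  -- the inverting involution
  obtain ⟨t, htt, -, -, hinv⟩ := exists_inverting hcard h40 P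
  have hti : t⁻¹ = t := inv_eq_of_mul_eq_one_right htt
  have hDP : D ≤ (P : Subgroup G) := inf_le_left
  have htN : t ∈ N := by
    rw [hN, mem_normalizer_iff]
    intro h
    constructor
    · intro hh
      rw [hinv h (hDP hh)]
      exact inv_mem hh
    · intro hh
      have h1 := hinv _ (hDP hh)
      have e : t * (t * h * t⁻¹) * t⁻¹ = (t * t) * h * (t * t)⁻¹ := by group
      rw [e, htt, one_mul, inv_one, mul_one] at h1
      rw [h1]
      exact inv_mem hh
  have htC : t ∉ C := by
    intro h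
    have h1 := mem_centralizer_iff.1 h d hdD
    have h2 := hinv d (hDP hdD)
    rw [← h1, mul_inv_cancel_right] at h2
    -- `d = d⁻¹`
    have h3 : d ^ 2 = 1 := by rw [sq]; nth_rewrite 1 [h2]; exact inv_mul_cancel d
    have := orderOf_dvd_of_pow_eq_one h3
    rw [hd3] at this
    omega
  have hCneN : C ≠ N := fun h => htC (h ▸ htN)
  -- `|C| ≥ 36`
  have hCdvd : Nat.card C ∣ 720 := hcard ▸ card_subgroup_dvd_card C
  have hidx : ¬ 3 ∣ ((P : Subgroup G).subgroupOf C).index := by
    intro h3
    have h1 := ((P : Subgroup G).subgroupOf C).index_mul_card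
    rw [Nat.card_congr (Subgroup.subgroupOfEquivOfLe hPC).toEquiv, hP] at h1
    obtain ⟨k, hk⟩ := h3
    rw [hk] at h1
    have : 27 ∣ 720 := Dvd.dvd.trans ⟨k, by omega⟩ hCdvd
    omega
  obtain ⟨hrel1, hrel2, hrel3⟩ :=
    Cfsg.Agent.Helper27.RelSylow.rel_sylow C (P : Subgroup G) hPC P.2 hidx
  have hn1 : Nat.card (Sylow 3 ↥C) ≠ 1 := by
    intro h1
    have hRP := hrel3 h1 (R : Subgroup G) hRC R.2
    have : (R : Subgroup G) = (P : Subgroup G) := eq_of_le_of_card_ge hRP (by rw [hP, hR])
    exact hPR (Sylow.ext this).symm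
  have h9 : 9 ∣ Nat.card ↥(normalizer ((P : Subgroup G) : Set G) ⊓ C) := by
    have := card_dvd_of_le (le_inf (le_normalizer (H := (P : Subgroup G))) hPC)
    rwa [hP] at this
  have hC36 : 36 ≤ Nat.card C := by
    obtain ⟨m, hm⟩ := h9
    rw [hm] at hrel1
    have hCpos : 0 < Nat.card C := Nat.card_pos
    unfold Nat.ModEq at hrel2
    have hn4 : 4 ≤ Nat.card (Sylow 3 ↥C) := by
      have hn0 : Nat.card (Sylow 3 ↥C) ≠ 0 := by
        intro h0
        rw [h0] at hrel1
        omega
      omega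
    have hm1 : 1 ≤ m := by
      rcases Nat.eq_zero_or_pos m with h | h
      · rw [h] at hrel1
        omega
      · exact h
    nlinarith
  have h9C : 9 ∣ Nat.card C := hP ▸ card_dvd_of_le hPC
  -- `N` is proper
  have hNtop : N ≠ ⊤ := by
    intro h
    have hn : D.Normal := normalizer_eq_top_iff.1 h
    rcases hn.eq_bot_or_eq_top with h1 | h1
    · rw [h1, card_bot] at hD3
      omega
    · rw [h1, card_top, hcard] at hD3
      omega
  have h8 := index_ge_eight hcard N hNtop
  have hNi := N.card_mul_index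
  rw [hcard] at hNi
  have hN90 : Nat.card N ≤ 90 := by nlinarith
  obtain ⟨k, hk⟩ := card_dvd_of_le hCN
  have hk2 : 2 ≤ k := by
    rcases Nat.lt_or_ge k 2 with h | h
    · exfalso
      interval_cases k
      · rw [mul_zero] at hk
        have : 0 < Nat.card N := Nat.card_pos
        omega
      · apply hCneN
        exact eq_of_le_of_card_ge hCN (by rw [hk, mul_one])
    · exact h
  have hC45 : Nat.card C ≤ 45 := by nlinarith
  have hC36' : Nat.card C = 36 := by
    obtain ⟨j, hj⟩ := h9C
    rw [hj] at hC36 hC45 h5C ⊢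
    have : j = 4 ∨ j = 5 := by omega
    rcases this with rfl | rfl
    · rfl
    · exact absurd ⟨9, by norm_num⟩ h5C
  refine ⟨N, ?_⟩
  rw [hC36'] at hk
  have : k = 2 := by omega
  rw [hk, this]

end Cfsg.Agent.Helper25.NoSimple720D
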