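import Mathlib
import Cfsg.Agent.S0344
import Cfsg.Agent.Helper18.PSL27b

/-!
# Order `720`: the Zassenhaus endgame

A simple group of order `720` cannot act `2`-transitively on `10` points with two-point stabilisers
of order `8` and no non-identity element fixing three points: it would be a Zassenhaus group,
hence `PSL₂(F)` by `S0344`, and `|PSL₂(q)| = 720` has no solution.
-/

set_option autoImplicit false

namespace Cfsg.Agent.Helper25.NoSimple720Z

/-- `|PSL₂(F)| ≠ 720`. -/
theorem card_psl2_ne_720 {F : Type*} [Field F] [Fintype F] :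
    Nat.card (Matrix.ProjectiveSpecialLinearGroup (Fin 2) F) ≠ 720 := by
  intro h
  have hq2 : 2 ≤ Fintype.card F := by
    have := Fintype.one_lt_card (α := F)
    omega
  have h1 := Cfsg.Agent.Helper18.PSL27.card_psl2 (F := F) (Fintype.card F) rfl hq2
  rw [h] at h1
  generalize Fintype.card F = q at *
  have hq : q ≤ 12 := by
    by_contra hlt
    obtain ⟨k, rfl⟩ : ∃ k, q = k + 13 := ⟨q - 13, by omega⟩
    have hg : Nat.gcd 2 (k + 13 - 1) ≤ 2 := Nat.le_of_dvd (by norm_num) (Nat.gcd_dvd_left _ _)
    have e1 : k + 13 - 1 = k + 12 := by omega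
    have e2 : (k + 13) ^ 2 - 1 = (k + 12) * (k + 14) := by
      have : (k + 13) ^ 2 = (k + 12) * (k + 14) + 1 := by ring
      omega
    have e3 : (k + 13) ^ 2 - (k + 13) = (k + 13) * (k + 12) := by
      have : (k + 13) ^ 2 = (k + 13) * (k + 12) + (k + 13) := by ring
      omega
    rw [e2, e3, e1] at h1
    rw [e1] at hg
    have h2 : 720 * Nat.gcd 2 (k + 12) * (k + 12) ≤ 1440 * (k + 12) := by
      have : 720 * Nat.gcd 2 (k + 12) ≤ 1440 := by omega
      exact Nat.mul_le_mul_right _ this
    have h3 : 1440 * (k + 12) < (k + 12) * (k + 14) * ((k + 13) * (k + 12)) := by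
      have : 1440 < (k + 14) * ((k + 13) * (k + 12)) := by nlinarith
      calc 1440 * (k + 12) = (k + 12) * 1440 := by ring
        _ < (k + 12) * ((k + 14) * ((k + 13) * (k + 12))) :=
            Nat.mul_lt_mul_of_pos_left this (by omega)
        _ = (k + 12) * (k + 14) * ((k + 13) * (k + 12)) := by ring
    omega
  interval_cases q <;> simp at h1

variable {G : Type*} [Group G] [Finite G] [IsSimpleGroup G]

/-- the Zassenhaus endgame for order `720`, for an arbitrary `G`-set -/
theorem false_of_zassenhaus {Ω : Type*} [MulAction G Ω] [Finite Ω]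
    (hcard : Nat.card G = 720) (hΩ : 3 ≤ Nat.card Ω)
    (h2 : MulAction.IsMultiplyPretransitive G Ω 2)
    (h8 : ∀ a b : Ω, a ≠ b →
      Nat.card ↥(MulAction.stabilizer G a ⊓ MulAction.stabilizer G b) = 8)
    (h3 : ∀ g : G, ∀ a b c : Ω, a ≠ b → b ≠ c → a ≠ c → g • a = a → g • b = b → g • c = c →
      g = 1) : False := by
  classical
  -- three distinct points
  have : Fintype Ω := Fintype.ofFinite Ω
  rw [Nat.card_eq_fintype_card] at hΩ
  obtain ⟨s, hs⟩ := Finset.exists_subset_card_eq (s := (Finset.univ : Finset Ω)) (n := 3)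
    (by rw [Finset.card_univ]; exact hΩ)
  obtain ⟨a, b, c, hab, hac, hbc, -⟩ := Finset.card_eq_three.1 hs.2
  have hZ : Cfsg.IsZassenhausGroup G Ω := by
    refine ⟨⟨fun {g₁ g₂} h => ?_⟩, h2, h3, ?_, ?_⟩
    · have : g₂⁻¹ * g₁ = 1 := by
        apply h3 _ a b c hab hbc hac
        · rw [mul_smul, h a, inv_smul_smul]
        · rw [mul_smul, h b, inv_smul_smul]
        · rw [mul_smul, h c, inv_smul_smul]
      calc g₁ = g₂ * (g₂⁻¹ * g₁) := by group
        _ = g₂ := by rw [this, mul_one]
    · have h1 : 1 < Nat.card ↥(MulAction.stabilizer G a ⊓ MulAction.stabilizer G b) := by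
        rw [h8 a b hab]; norm_num
      have : Nontrivial ↥(MulAction.stabilizer G a ⊓ MulAction.stabilizer G b) :=
        Finite.one_lt_card_iff_nontrivial.mp h1
      obtain ⟨⟨g, hg⟩, hg1⟩ := exists_ne (1 : ↥(MulAction.stabilizer G a ⊓ MulAction.stabilizer G b))
      refine ⟨g, fun h => hg1 (Subtype.ext h), a, b, hab, ?_, ?_⟩
      · exact MulAction.mem_stabilizer_iff.1 (Subgroup.mem_inf.1 hg).1
      · exact MulAction.mem_stabilizer_iff.1 (Subgroup.mem_inf.1 hg).2
    · intro N hN hNt
      rcases hN.eq_bot_or_eq_top with h | h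
      · exfalso
        obtain ⟨n, hn⟩ := hNt.exists_smul_eq a b
        have hn1 : (n : G) = 1 := by
          have hmem : (n : G) ∈ N := n.2
          exact (Subgroup.eq_bot_iff_forall N).1 h _ hmem
        have : (n : G) • a = b := hn
        rw [hn1, one_smul] at this
        exact hab this
      · refine ⟨a, fun hbot => ?_⟩
        have h1 : 1 < Nat.card ↥(MulAction.stabilizer G a ⊓ MulAction.stabilizer G b) := by
          rw [h8 a b hab]; norm_num
        have : Nontrivial ↥(MulAction.stabilizer G a ⊓ MulAction.stabilizer G b) :=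
          Finite.one_lt_card_iff_nontrivial.mp h1
        obtain ⟨⟨g, hg⟩, hg1⟩ :=
          exists_ne (1 : ↥(MulAction.stabilizer G a ⊓ MulAction.stabilizer G b))
        have hgN : g ∈ N := by rw [h]; exact Subgroup.mem_top g
        have hmem : (⟨g, hgN⟩ : N) ∈ MulAction.stabilizer N a := by
          rw [MulAction.mem_stabilizer_iff]
          exact MulAction.mem_stabilizer_iff.1 (Subgroup.mem_inf.1 hg).1
        rw [hbot, Subgroup.mem_bot] at hmem
        exact hg1 (Subtype.ext (show g = 1 from congrArg Subtype.val hmem))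
  have heven : Even (Nat.card ↥(MulAction.stabilizer G a ⊓ MulAction.stabilizer G b)) := by
    rw [h8 a b hab]; decide
  obtain ⟨F, _, _, -, ⟨e⟩⟩ := Cfsg.Agent.S0344.result hZ hab heven
  have := Nat.card_congr e.toEquiv
  rw [hcard] at this
  exact card_psl2_ne_720 this.symm

end Cfsg.Agent.Helper25.NoSimple720Z
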