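import Mathlib
import Cfsg.Agent.Helper25.NoSimple720Z
import Cfsg.Agent.Helper4.P720V0
import Cfsg.Agent.Helper4.P720V1a
import Cfsg.Agent.Helper4.P720V1b

/-!
# Order `720`: if every element of order `3` fixes exactly one of the ten points, contradiction
-/

set_option autoImplicit false

namespace Cfsg.Agent.Helper25.NoSimple720V

open MulAction

variable {G : Type*} [Group G] [Finite G] [IsSimpleGroup G]

/-- **(V)** -/
theorem no_zassenhaus_720 (hcard : Nat.card G = 720) (M : Subgroup G) (hM : Nat.card M = 72)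
    (hfix : ∀ g : G, orderOf g = 3 → Nat.card (MulAction.fixedBy (G ⧸ M) g) = 1) : False := by
  classical
  obtain ⟨h2, h8⟩ := Cfsg.Agent.Helper4.P720V0.two_transitive hcard M hM hfix
  have h10 : Nat.card (G ⧸ M) = 10 := by
    have h := M.card_mul_index
    rw [hM, hcard] at h
    have : M.index = 10 := by omega
    exact this
  refine Cfsg.Agent.Helper25.NoSimple720Z.false_of_zassenhaus (Ω := G ⧸ M) hcard
    (by rw [h10]; norm_num) h2 h8 ?_
  intro g a b c hab hbc hac ha hb hc
  by_contra hg1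
  -- the order of `g` divides `8`
  have hmem : g ∈ stabilizer G a ⊓ stabilizer G b :=
    Subgroup.mem_inf.2 ⟨mem_stabilizer_iff.2 ha, mem_stabilizer_iff.2 hb⟩
  have hdvd : orderOf g ∣ 8 := by
    have := orderOf_dvd_natCard (⟨g, hmem⟩ : ↥(stabilizer G a ⊓ stabilizer G b))
    rw [Subgroup.orderOf_mk, h8 a b hab] at this
    exact this
  have hne1 : orderOf g ≠ 1 := fun h => hg1 (orderOf_eq_one_iff.1 h)
  have h2dvd : 2 ∣ orderOf g := by
    have hle : orderOf g ≤ 8 := Nat.le_of_dvd (by norm_num) hdvd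
    generalize orderOf g = n at *
    interval_cases n <;> omega
  have hn0 : orderOf g ≠ 0 := by
    intro h
    rw [h] at hdvd
    omega
  set u := g ^ (orderOf g / 2) with hu
  have hu2 : orderOf u = 2 := orderOf_pow_orderOf_div hn0 h2dvd
  have hfixu : ∀ z : G ⧸ M, g • z = z → u • z = z := by
    intro z hz
    have := fixedBy_subset_fixedBy_zpow (G ⧸ M) g ((orderOf g / 2 : ℕ) : ℤ) hz
    rw [mem_fixedBy, zpow_natCast] at this
    exact this
  have h3 : 3 ≤ Nat.card (fixedBy (G ⧸ M) u) := by
    rw [Nat.card_coe_set_eq]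
    have hsub : ({a, b, c} : Set (G ⧸ M)) ⊆ fixedBy (G ⧸ M) u := by
      intro z hz
      rcases hz with rfl | rfl | rfl
      · exact hfixu _ ha
      · exact hfixu _ hb
      · exact hfixu _ hc
    have h3' : ({a, b, c} : Set (G ⧸ M)).ncard = 3 :=
      Set.ncard_eq_three.2 ⟨a, b, c, hab, hac, hbc, rfl⟩
    have := Set.ncard_le_ncard hsub (Set.toFinite _)
    omega
  have h6 := Cfsg.Agent.Helper4.P720V1a.involution_fixed_six hcard M hM u hu2 h3
  exact Cfsg.Agent.Helper4.P720V1b.no_involution_six hcard M hM hfix h8 u hu2 h6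

end Cfsg.Agent.Helper25.NoSimple720V
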