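import Mathlib
import Cfsg.Agent.Helper25.NoSimple720C
import Cfsg.Agent.Helper25.NoSimple720D
import Cfsg.Agent.Helper25.NoSimple720V
import Cfsg.Agent.Helper27.P720S
import Cfsg.Agent.Helper4.P720F

/-!
# There is no simple group of order `720`

Let `G` be simple of order `720`. Then `n₃ ∈ {10, 40}` (`Helper27.P720S`), and there is a subgroup
`M` of order `72` (`N(P₀)` if `n₃ = 10`, `N(P ⊓ R)` if `n₃ = 40`, `NoSimple720D`) such that every Sylow
`3`-subgroup fixes exactly one point of `Ω = G ⧸ M` (`Helper4.P720F`). Then every element of order `3`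
fixes exactly one point (`NoSimple720C`), `G` is `2`-transitive with two-point stabilisers of order
`8` (`Helper4.P720V0`), no involution fixes three points (`Helper4.P720V1a`, `P720V1b`), so `G` is a
Zassenhaus group, hence `PSL₂(F)` by `S0344`, of order `≠ 720` (`NoSimple720Z`, `NoSimple720V`).
-/

set_option autoImplicit false

namespace Cfsg.Agent.Helper25.NoSimple720

/-- there is no simple group of order `720` -/
theorem no_simple_720 {G : Type*} [Group G] [Finite G] [IsSimpleGroup G]
    (hcard : Nat.card G = 720) : False := by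
  classical
  have : Fact (Nat.Prime 3) := ⟨by norm_num⟩
  obtain ⟨hn3, h15⟩ := Cfsg.Agent.Helper27.P720S.sylow_data hcard
  obtain ⟨M, hM, hMP⟩ : ∃ M : Subgroup G, Nat.card M = 72 ∧ (Nat.card (Sylow 3 G) = 40 ∨
      ∃ P₀ : Sylow 3 G, M = Subgroup.normalizer ((P₀ : Subgroup G) : Set G)) := by
    rcases hn3 with h10 | h40
    · obtain ⟨P₀⟩ : Nonempty (Sylow 3 G) := inferInstance
      refine ⟨Subgroup.normalizer ((P₀ : Subgroup G) : Set G), ?_, Or.inr ⟨P₀, rfl⟩⟩
      have h1 : Nat.card (Sylow 3 G) =
          (Subgroup.normalizer ((P₀ : Subgroup G) : Set G)).index := P₀.card_eq_index_normalizer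
      rw [h10] at h1
      have h2 := (Subgroup.normalizer ((P₀ : Subgroup G) : Set G)).card_mul_index
      rw [← h1, hcard] at h2
      omega
    · obtain ⟨M, hM⟩ := Cfsg.Agent.Helper25.NoSimple720D.exists_sub72_of_forty hcard h40 h15
      exact ⟨M, hM, Or.inl h40⟩
  exact Cfsg.Agent.Helper25.NoSimple720V.no_zassenhaus_720 hcard M hM
    (Cfsg.Agent.Helper25.NoSimple720C.three_elt_fix_one hcard M hM
      (Cfsg.Agent.Helper4.P720F.fixedPoints_eq_one hcard M hM hMP))

end Cfsg.Agent.Helper25.NoSimple720
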