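import Mathlib

set_option autoImplicit false

/-! A nilpotent non-abelian group generated by two abelian subgroups `E`, `F`: the normal closure of
`E` has smaller class. -/

namespace Cfsg.Agent.Helper25

variable {P : Type*} [Group P]

/-- If `E` is abelian and `D` is central modulo the normal subgroup `L`, then `E ⊔ D` is abelian
modulo `L`. -/
theorem commutator_sup_le_of_central_mod (E D L : Subgroup P) [hL : L.Normal]
    (hE : ∀ x ∈ E, ∀ y ∈ E, x * y = y * x) (hD : ⁅D, (⊤ : Subgroup P)⁆ ≤ L) :
    ⁅E ⊔ D, E ⊔ D⁆ ≤ L := by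
  have hker : (QuotientGroup.mk' L).ker = L := QuotientGroup.ker_mk' L
  have hDc : D.map (QuotientGroup.mk' L) ≤ Subgroup.center (P ⧸ L) := by
    rw [← Subgroup.commutator_top_right_eq_bot_iff_le_center]
    have htop : (⊤ : Subgroup (P ⧸ L)) = (⊤ : Subgroup P).map (QuotientGroup.mk' L) := by
      rw [← MonoidHom.range_eq_map]
      exact (MonoidHom.range_eq_top_of_surjective _ (QuotientGroup.mk'_surjective L)).symm
    rw [htop, ← Subgroup.map_commutator, (Subgroup.map_eq_bot_iff _), hker]
    exact hD
  have hEc : E.map (QuotientGroup.mk' L) ≤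
      Subgroup.centralizer ((E.map (QuotientGroup.mk' L) : Subgroup (P ⧸ L)) : Set (P ⧸ L)) := by
    rintro _ ⟨x, hx, rfl⟩
    rw [Subgroup.mem_centralizer_iff]
    rintro _ ⟨y, hy, rfl⟩
    rw [← map_mul, ← map_mul, hE y hy x hx]
  rw [← hker, ← Subgroup.map_eq_bot_iff, Subgroup.map_commutator, Subgroup.map_sup,
    Subgroup.commutator_eq_bot_iff_le_centralizer]
  apply sup_le
  · rw [Subgroup.le_centralizer_iff]
    apply sup_le hEc
    exact hDc.trans (Subgroup.center_le_centralizer _)
  · exact hDc.trans (Subgroup.center_le_centralizer _)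

theorem normalClosure_lowerCentralSeries_le {E : Subgroup P}
    (hE : ∀ x ∈ E, ∀ y ∈ E, x * y = y * x) :
    ∀ n : ℕ, (Subgroup.normalClosure (E : Set P)).lowerCentralSeries (n + 1) ≤
      (⊤ : Subgroup P).lowerCentralSeries (n + 2) := by
  have hnormal : (E ⊔ commutator P).Normal := Subgroup.Normal.of_commutator_le (G := P) le_sup_right
  have hNle : Subgroup.normalClosure (E : Set P) ≤ E ⊔ commutator P :=
    Subgroup.normalClosure_le_normal (fun x hx => Subgroup.mem_sup_left hx)
  intro n
  induction n with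
  | zero =>
    have h2 : (⊤ : Subgroup P).lowerCentralSeries 2 = ⁅commutator P, (⊤ : Subgroup P)⁆ := rfl
    have hLn : ((⊤ : Subgroup P).lowerCentralSeries 2).Normal := inferInstance
    have h3 := commutator_sup_le_of_central_mod E (commutator P)
      ((⊤ : Subgroup P).lowerCentralSeries 2) hE (le_of_eq h2.symm)
    calc (Subgroup.normalClosure (E : Set P)).lowerCentralSeries (0 + 1)
        = ⁅Subgroup.normalClosure (E : Set P), Subgroup.normalClosure (E : Set P)⁆ := rfl
      _ ≤ ⁅E ⊔ commutator P, E ⊔ commutator P⁆ := Subgroup.commutator_mono hNle hNle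
      _ ≤ _ := h3
  | succ n ih =>
    rw [Subgroup.lowerCentralSeries_succ, Subgroup.lowerCentralSeries_succ _ (n + 2)]
    exact Subgroup.commutator_mono ih le_top

theorem nilpotencyClass_normalClosure_lt [hnil : Group.IsNilpotent P] (hna : ¬ IsMulCommutative P)
    {E : Subgroup P} (hE : ∀ x ∈ E, ∀ y ∈ E, x * y = y * x) :
    Group.nilpotencyClass ↥(Subgroup.normalClosure (E : Set P)) < Group.nilpotencyClass P := by
  have hc2 : 2 ≤ Group.nilpotencyClass P := by
    by_contra hlt
    push Not at hlt
    have h1 : Group.nilpotencyClass P ≤ 1 := by omega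
    rw [← Subgroup.lowerCentralSeries_eq_bot_iff_nilpotencyClass_le,
      Subgroup.top_lowerCentralSeries_one, commutator_eq_bot_iff] at h1
    exact hna h1
  obtain ⟨c, hc⟩ : ∃ c, Group.nilpotencyClass P = c + 2 := ⟨Group.nilpotencyClass P - 2, by omega⟩
  have h1 : (⊤ : Subgroup P).lowerCentralSeries (c + 2) = ⊥ := by
    rw [Subgroup.lowerCentralSeries_eq_bot_iff_nilpotencyClass_le, hc]
  have h2 : (Subgroup.normalClosure (E : Set P)).lowerCentralSeries (c + 1) = ⊥ := by
    rw [eq_bot_iff, ← h1]
    exact normalClosure_lowerCentralSeries_le hE c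
  have h3 : (⊤ : Subgroup ↥(Subgroup.normalClosure (E : Set P))).lowerCentralSeries (c + 1) = ⊥ := by
    rw [← Subgroup.map_subtype_inj, Subgroup.map_bot, Subgroup.top_subtype_lowerCentralSeries]
    exact h2
  rw [Subgroup.lowerCentralSeries_eq_bot_iff_nilpotencyClass_le] at h3
  omega

end Cfsg.Agent.Helper25
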