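import Cfsg.Agent.Helper3.OC2Q2.Defs

set_option autoImplicit false
set_option linter.unusedSectionVars false
set_option linter.unusedVariables false

/-! # S5694 chapter CHAR2, sub-chapter Q2, piece S1A (helper25): `p ∈ Rad M v` nonsingular gives `r_p r_{p+v} ∈ M`. -/

namespace Cfsg.Agent.OC2K

open Matrix Cfsg.Agent.Helper28.Sg Cfsg.Agent.Helper28.Spin Cfsg.Agent.Helper12.OrthGen
  Cfsg.Agent.S2614 Cfsg.Agent.S5683P Cfsg.Agent.Helper28.NDM

variable {F : Type*} [Field F] {t k : ℕ} {ι : Type} [Fintype ι] [DecidableEq ι] {Q : QuadraticForm F (ι → F)} [QHyp Q] {D : Fin t → Submodule F (ι → F)}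
  {M : Subgroup (OGq Q)}

/-- transport of a product of reflections along vector equalities -/
theorem Q2.S1A.aux_congr {p z z' : ι → F} (hQp : Q p ≠ 0) (hQz : Q z ≠ 0) (hQz' : Q z' ≠ 0)
    (h : z = z') : reflO Q p hQp * reflO Q z hQz = reflO Q p hQp * reflO Q z' hQz' := by
  subst h; rfl

/-- transport of a Siegel element along a vector equality -/
theorem Q2.S1A.aux_sieg {u w w' : ι → F} (hu : Q u = 0) (huw : B Q u w = 0) (huw' : B Q u w' = 0)
    (h : w = w') : siegO Q u w hu huw = siegO Q u w' hu huw' := by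
  subst h; rfl

theorem Q2.S1A.main (hF : Q2.IsF2 F) {v : ι → F} (hQv : Q v = 0) {p : ι → F} (hQp : Q p ≠ 0)
    (hpR : p ∈ Rad M v hQv) (hQz : Q (p + v) ≠ 0) :
    reflO Q p hQp * reflO Q (p + v) hQz ∈ M := by
  obtain ⟨hvp, hmem⟩ := mem_Rad.mp hpR
  have h1 : Q p = 1 := Q2.eq_one hF hQp
  have e1 : p + (1 : F) • v = p + v := by rw [one_smul]
  have e2 : ((1 : F) * (Q p)⁻¹) • p = p := by rw [h1, inv_one, one_mul, one_smul]
  have hQz' : Q (p + (1 : F) • v) ≠ 0 := by rw [e1]; exact hQz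
  have hB' : B Q v (((1 : F) * (Q p)⁻¹) • p) = 0 := by rw [e2]; exact hvp
  have key := Cfsg.Agent.Helper28.Sg.reflO_mul_reflO (Q := Q) (1 : F) hQv hvp hQp hQz' hB'
  rw [Q2.S1A.aux_congr hQp hQz hQz' e1.symm, key, Q2.S1A.aux_sieg hQv hB' hvp e2]
  exact hmem

end Cfsg.Agent.OC2K
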