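import Mathlib
import Cfsg.Prelude.Def_GeometricClasses
import Cfsg.Agent.Helper28.OrthSim3
import Cfsg.Agent.Helper8.OS6Defs

set_option autoImplicit false

/-! # S5798 (sl6 table), orthogonal conjunct, piece NOTSIM — helper25 (design helper8) -/

namespace Cfsg.Agent.OS6P

open Matrix Module Cfsg.Agent.Helper28.Sg Cfsg.Agent.Helper28.Spin Cfsg.Agent.Helper28.SLMax
  Cfsg.Agent.Helper28.SimMax Cfsg.Agent.Helper28.OSim

variable {F : Type*} [Field F] {n : ℕ} {Q : QuadraticForm F (Fin n → F)}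

/-- a nondegenerate form on a nonzero space has a nonsingular vector -/
theorem NOTSIM.exists_nonsing (hQ : (QuadraticMap.polarBilin Q).Nondegenerate) (hn : 1 ≤ n) :
    ∃ a : Fin n → F, Q a ≠ 0 := by
  by_contra hcon
  push Not at hcon
  let i0 : Fin n := ⟨0, hn⟩
  have h0 : (Pi.single i0 1 : Fin n → F) = 0 := by
    apply hQ.1
    intro x
    show QuadraticMap.polar ⇑Q (Pi.single i0 1) x = 0
    unfold QuadraticMap.polar
    rw [hcon, hcon, hcon]
    ring
  have := congrFun h0 i0
  rw [Pi.single_eq_same, Pi.zero_apply] at this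
  exact one_ne_zero this

/-- a nonzero covector vanishing on `a` (`n ≥ 2`) -/
theorem NOTSIM.exists_covector (hn : 2 ≤ n) (a : Fin n → F) :
    ∃ φ : Fin n → F, φ ≠ 0 ∧ φ ⬝ᵥ a = 0 := by
  classical
  let i0 : Fin n := ⟨0, by omega⟩
  let i1 : Fin n := ⟨1, by omega⟩
  have h01 : i0 ≠ i1 := by
    intro h
    have := congrArg Fin.val h
    simp [i0, i1] at this
  by_cases ha : a i0 = 0
  · refine ⟨Pi.single i0 1, ?_, ?_⟩
    · intro h
      have := congrFun h i0
      rw [Pi.single_eq_same, Pi.zero_apply] at this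
      exact one_ne_zero this
    · rw [single_dotProduct, one_mul, ha]
  · refine ⟨a i1 • Pi.single i0 1 - a i0 • Pi.single i1 1, ?_, ?_⟩
    · intro h
      have := congrFun h i1
      rw [Pi.sub_apply, Pi.smul_apply, Pi.smul_apply, Pi.single_eq_of_ne h01.symm,
        Pi.single_eq_same, Pi.zero_apply, smul_eq_mul, smul_eq_mul, mul_zero, mul_one, zero_sub,
        neg_eq_zero] at this
      exact ha this
    · rw [sub_dotProduct, smul_dotProduct, smul_dotProduct, single_dotProduct, single_dotProduct,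
        one_mul, one_mul, smul_eq_mul, smul_eq_mul]
      ring

/-- NOTSIM (S-M): a transvection is not a similarity. -/
theorem NOTSIM.main [Finite F] (h2 : (2 : F) ≠ 0) (hQ : (QuadraticMap.polarBilin Q).Nondegenerate)
    (hn : 3 ≤ n) : ∃ g ∈ SL n F, g ∉ Cfsg.Geo.quadSimilarityGroup (⇑Q) := by
  classical
  obtain ⟨a, ha⟩ := NOTSIM.exists_nonsing hQ (by omega)
  obtain ⟨φ, hφ0, hφa⟩ := NOTSIM.exists_covector (by omega) a
  have hBaa : B Q a a ≠ 0 := by
    rw [B_self]; exact mul_ne_zero h2 ha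
  refine ⟨Eg a φ (by rw [hφa, add_zero]; exact one_ne_zero), ?_, ?_⟩
  · apply (mem_SL_iff _).mpr
    rw [Eg_val, E_det, hφa, add_zero]
  · rintro ⟨c, hc⟩
    -- `c = 1`
    have h1 := hc a
    rw [Eg_val, E_mulVec, hφa, zero_smul, add_zero] at h1
    have hc1 : (c : F) = 1 := by
      have : (1 - (c : F)) * Q a = 0 := by linear_combination h1
      rcases mul_eq_zero.mp this with h | h
      · exact (sub_eq_zero.mp h).symm
      · exact absurd h ha
    -- a test vector
    obtain ⟨j, hj⟩ := Function.ne_iff.mp hφ0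
    rw [Pi.zero_apply] at hj
    set x₀ : Fin n → F := Pi.single j (φ j)⁻¹ with hx₀
    have hφx₀ : φ ⬝ᵥ x₀ = 1 := by
      rw [hx₀, dotProduct_single, mul_inv_cancel₀ hj]
    set x : Fin n → F := x₀ - (B Q a x₀ / B Q a a) • a with hx
    have hφx : φ ⬝ᵥ x = 1 := by
      rw [hx, dotProduct_sub, dotProduct_smul, hφa, smul_zero, sub_zero, hφx₀]
    have hax : B Q x a = 0 := by
      rw [hx]
      show QuadraticMap.polar ⇑Q (x₀ - (B Q a x₀ / B Q a a) • a) a = 0
      rw [QuadraticMap.polar_sub_left, QuadraticMap.polar_smul_left, smul_eq_mul]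
      have e1 : QuadraticMap.polar ⇑Q x₀ a = B Q a x₀ := B_comm Q x₀ a
      have e2 : QuadraticMap.polar ⇑Q a a = B Q a a := rfl
      rw [e1, e2, div_mul_cancel₀ _ hBaa, sub_self]
    have h3 := hc x
    rw [Eg_val, E_mulVec, hφx, one_smul, Q_add, hax, add_zero, hc1, one_mul] at h3
    exact ha (by linear_combination h3)

end Cfsg.Agent.OS6P
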