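import Mathlib
import Cfsg.Prelude.Def_RootSubgroups
import Cfsg.Agent.Helper14.PCore

set_option autoImplicit false

/-! Odd transpositions and `O₂(G)` (Timmesfeld, root involutions). -/

namespace Cfsg.Agent.Helper25

open Cfsg
open scoped commutatorElement

variable {G : Type*} [Group G]

theorem rootInv_sq {D : Set G} (hD : IsRootInvolutionSet D) {d : G} (hd : d ∈ D) : d * d = 1 := by
  have := hD.orderOf_eq d hd
  have h2 : d ^ 2 = 1 := by rw [← this]; exact pow_orderOf_eq_one d
  rwa [pow_two] at h2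

theorem rootInv_inv {D : Set G} (hD : IsRootInvolutionSet D) {d : G} (hd : d ∈ D) : d⁻¹ = d :=
  inv_eq_of_mul_eq_one_right (rootInv_sq hD hd)

/-- Two odd transpositions whose product squares into a normal `2`-subgroup commute. -/
theorem oddTransp_commute_of_sq_mem {D : Set G} (hD : IsOddTranspositionSet D) {Q : Subgroup G}
    (hQ : IsPGroup 2 Q) {d d' : G} (hd : d ∈ D) (hd' : d' ∈ D) (hsq : (d * d') * (d * d') ∈ Q) :
    d * d' = d' * d := by
  rcases hD.1.pair d hd d' hd' with h | h | h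
  · exact h
  · -- odd order: then d d' ∈ Q, hence trivial
    obtain ⟨k, hk⟩ := h
    have hpow : (d * d') ^ (2 * k + 1) = 1 := by rw [← hk]; exact pow_orderOf_eq_one _
    have hmem : d * d' ∈ Q := by
      have h1 : ((d * d') * (d * d')) ^ (k + 1) = d * d' := by
        rw [← pow_two, ← pow_mul]
        have : 2 * (k + 1) = (2 * k + 1) + 1 := by ring
        rw [this, pow_succ, hpow, one_mul]
      rw [← h1]
      exact Q.pow_mem hsq _
    obtain ⟨j, hj⟩ := (IsPGroup.iff_orderOf.mp hQ) ⟨d * d', hmem⟩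
    have hj' : orderOf (d * d') = 2 ^ j := by
      rw [← hj]; exact (Subgroup.orderOf_mk _ _).symm
    have hone : orderOf (d * d') = 1 := by
      rcases Nat.eq_zero_or_pos j with hj0 | hj0
      · rw [hj', hj0, pow_zero]
      · exfalso
        have h2 : 2 ∣ orderOf (d * d') := by rw [hj']; exact dvd_pow_self 2 (by omega)
        rw [hk] at h2
        omega
    have h1 : d * d' = 1 := orderOf_eq_one_iff.mp hone
    have h2 : d' = d⁻¹ := (inv_eq_of_mul_eq_one_right h1).symm
    rw [h2]; simp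
  · exact absurd h.1 (hD.2 d hd d' hd')

/-- If `e ∈ D` commutes with `a ∈ D` (possibly `e = a`), then `e` commutes with every conjugate of
`a` under the normal `2`-subgroup `Q`. -/
theorem oddTransp_commute_conj {D : Set G} (hD : IsOddTranspositionSet D) {Q : Subgroup G}
    [hQn : Q.Normal] (hQ : IsPGroup 2 Q) {a e x : G} (ha : a ∈ D) (he : e ∈ D)
    (hea : e * a = a * e) (hx : x ∈ Q) : e * (x * a * x⁻¹) = (x * a * x⁻¹) * e := by
  apply oddTransp_commute_of_sq_mem hD hQ he (hD.1.conj_mem a ha x)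
  have hπx : (QuotientGroup.mk' Q) x = 1 := (QuotientGroup.eq_one_iff x).mpr hx
  have h1 : e * a * (e * a) = 1 := by
    rw [hea, mul_assoc, ← mul_assoc e a e, hea, mul_assoc, rootInv_sq hD.1 he, mul_one,
      rootInv_sq hD.1 ha]
  have h2 := congrArg (QuotientGroup.mk' Q) h1
  rw [← QuotientGroup.eq_one_iff, ← QuotientGroup.mk'_apply]
  simp only [map_mul, map_inv, hπx, one_mul, inv_one, mul_one] at h2 ⊢
  exact h2

/-- Part (1): members of `D` commuting with `a` centralize `[Q, a]`. -/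
theorem oddTransp_centralizes_commutator {D : Set G} (hD : IsOddTranspositionSet D)
    {Q : Subgroup G} [hQn : Q.Normal] (hQ : IsPGroup 2 Q) {a e : G} (ha : a ∈ D) (he : e ∈ D)
    (hea : e * a = a * e) : ∀ q ∈ ⁅Q, Subgroup.zpowers a⁆, e * q = q * e := by
  have hle : ⁅Q, Subgroup.zpowers a⁆ ≤ Subgroup.centralizer ({e} : Set G) := by
    rw [Subgroup.commutator_le]
    rintro x hx _ ⟨n, rfl⟩
    rw [Subgroup.mem_centralizer_iff]
    intro y hy
    rw [Set.mem_singleton_iff] at hy
    subst hy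
    have h1 : Commute y (x * a * x⁻¹) := oddTransp_commute_conj hD hQ ha he hea hx
    have h2 : Commute y a := hea
    have h3 : Commute y ((x * a * x⁻¹) ^ n) := h1.zpow_right n
    have h4 : (x * a * x⁻¹) ^ n = x * a ^ n * x⁻¹ := by
      simp
    rw [h4] at h3
    have h5 : Commute y ((a ^ n)⁻¹) := (h2.zpow_right n).inv_right
    have h6 : ⁅x, a ^ n⁆ = (x * a ^ n * x⁻¹) * (a ^ n)⁻¹ := by
      rw [commutatorElement_def]
    rw [h6]
    exact (h3.mul_right h5).eq
  intro q hq
  have := Subgroup.mem_centralizer_iff.mp (hle hq) e rfl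
  exact this

/-- Core of part (2). -/
theorem oddTransp_eq_of_inverts {D : Set G} (hD : IsOddTranspositionSet D) {a a' b : G}
    (ha : a ∈ D) (ha' : a' ∈ D) (hb : b ∈ D) (hcomm : a * a' = a' * a)
    (hinv' : a' * (a * b) * a'⁻¹ = (a * b)⁻¹) (hne : b ≠ a) (hodd : Odd (orderOf (a * b))) :
    a' = a := by
  have haa := rootInv_sq hD.1 ha
  have hbb := rootInv_sq hD.1 hb
  have ha'a' := rootInv_sq hD.1 ha'
  have hainv := rootInv_inv hD.1 ha
  have ha'inv := rootInv_inv hD.1 ha'
  by_contra hne'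
  have htt : (a' * a) * (a' * a) = 1 := by
    rw [mul_assoc, ← mul_assoc a, hcomm, mul_assoc, haa, mul_one, ha'a']
  have ht1 : a' * a ≠ 1 := by
    intro h1
    apply hne'
    have h2 : a' = a⁻¹ := eq_inv_of_mul_eq_one_left h1
    rw [h2, hainv]
  have hordt : orderOf (a' * a) = 2 := by
    apply orderOf_eq_prime
    · rw [pow_two]; exact htt
    · exact ht1
  have hinv_a : a * (a * b) * a⁻¹ = (a * b)⁻¹ := by
    rw [hainv, mul_inv_rev, rootInv_inv hD.1 hb, hainv, ← mul_assoc, haa, one_mul]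
  have htd : Commute (a' * a) (a * b) := by
    have h1 : (a' * a) * (a * b) * (a' * a)⁻¹ = a * b := by
      have : (a' * a) * (a * b) * (a' * a)⁻¹ = a' * (a * (a * b) * a⁻¹) * a'⁻¹ := by
        simp [mul_assoc]
      rw [this, hinv_a]
      have h4 := congrArg Inv.inv hinv'
      simp only [mul_inv_rev, inv_inv] at h4 ⊢
      simpa [mul_assoc] using h4
    have : (a' * a) * (a * b) = (a * b) * (a' * a) := by
      have h5 := congrArg (· * (a' * a)) h1
      simpa [mul_assoc] using h5
    exact this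
  have hprod : a' * b = (a' * a) * (a * b) := by
    rw [mul_assoc, ← mul_assoc a a b, haa, one_mul]
  have hcop : Nat.Coprime (orderOf (a' * a)) (orderOf (a * b)) := by
    rw [hordt]; exact Nat.coprime_two_left.mpr hodd
  have hord : orderOf (a' * b) = 2 * orderOf (a * b) := by
    rw [hprod, htd.orderOf_mul_eq_mul_orderOf_of_coprime hcop, hordt]
  have hd1 : orderOf (a * b) ≠ 1 := by
    intro h1
    apply hne
    have h2 : a * b = 1 := orderOf_eq_one_iff.mp h1
    have h3 : b = a⁻¹ := (inv_eq_of_mul_eq_one_right h2).symm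
    rw [h3, hainv]
  have hdpos : 0 < orderOf (a * b) := hodd.pos
  rcases hD.1.pair _ ha' b hb with h | h | h
  · have h2 : (a' * b) ^ 2 = 1 := by
      rw [pow_two, mul_assoc, ← mul_assoc b, ← h, mul_assoc, hbb, mul_one, ha'a']
    have h3 := orderOf_dvd_of_pow_eq_one h2
    rw [hord] at h3
    have h4 : 2 * orderOf (a * b) ≤ 2 := Nat.le_of_dvd (by norm_num) h3
    omega
  · rw [hord] at h
    exact (Nat.not_odd_iff_even.mpr (even_two_mul _)) h
  · exact hD.2 _ ha' b hb h.1

/-- Part (2): for `b ∈ D` with `ab` of odd order `> 1`, an element of `Q` commuting with `ab`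
commutes with `a`. -/
theorem oddTransp_commute_left_of_mul {D : Set G} (hD : IsOddTranspositionSet D)
    {Q : Subgroup G} [hQn : Q.Normal] (hQ : IsPGroup 2 Q) {a b q : G} (ha : a ∈ D) (hb : b ∈ D)
    (hne : b ≠ a) (hodd : Odd (orderOf (a * b))) (hq : q ∈ Q) (hqd : q * (a * b) = (a * b) * q) :
    q * a = a * q := by
  have hainv := rootInv_inv hD.1 ha
  have ha'D : q * a * q⁻¹ ∈ D := hD.1.conj_mem a ha q
  have hcomm : a * (q * a * q⁻¹) = (q * a * q⁻¹) * a :=
    oddTransp_commute_conj hD hQ ha ha rfl hq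
  have hinv_a : a * (a * b) * a⁻¹ = (a * b)⁻¹ := by
    rw [hainv, mul_inv_rev, rootInv_inv hD.1 hb, hainv, ← mul_assoc, rootInv_sq hD.1 ha, one_mul]
  have hinv_a' : (q * a * q⁻¹) * (a * b) * (q * a * q⁻¹)⁻¹ = (a * b)⁻¹ := by
    have h1 : (q * a * q⁻¹) * (a * b) * (q * a * q⁻¹)⁻¹ =
        q * (a * (q⁻¹ * (a * b) * q) * a⁻¹) * q⁻¹ := by simp [mul_assoc]
    have h2 : q⁻¹ * (a * b) * q = a * b := by rw [mul_assoc, ← hqd]; simp
    rw [h1, h2, hinv_a]
    have h3 : q * (a * b)⁻¹ = (a * b)⁻¹ * q := by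
      have : Commute q (a * b) := hqd
      exact (this.inv_right).eq
    rw [h3]; simp
  have h := oddTransp_eq_of_inverts hD ha ha'D hb hcomm hinv_a' hne hodd
  have : q * a = q * a * q⁻¹ * q := by simp
  rw [this, h]

end Cfsg.Agent.Helper25
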