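import Mathlib
import Cfsg.Agent.Helper25.SylowIn

set_option autoImplicit false

/-! An endomorphism `T` of a finite group with `|ker T² : ker T| = p`: sizes of the iterated images. -/

namespace Cfsg.Agent.Helper25.Oliver

variable {B : Type*} [Group B]

theorem card_mul_relIndex' {H K : Subgroup B} (hHK : H ≤ K) :
    Nat.card H * H.relIndex K = Nat.card K := by
  have h1 := Subgroup.card_mul_index (H.subgroupOf K)
  rw [Nat.card_congr (Subgroup.subgroupOfEquivOfLe hHK).toEquiv] at h1
  exact h1

/-- `|T(H)| · |ker T ∩ H| = |H|`. -/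
theorem card_map_mul_card_ker_inf (T : B →* B) (H : Subgroup B) :
    Nat.card (H.map T) * Nat.card ↥(T.ker ⊓ H) = Nat.card H := by
  have h1 := Subgroup.card_mul_index (T.domRestrict H).ker
  rw [Subgroup.index_ker, MonoidHom.domRestrict_range, MonoidHom.ker_domRestrict,
    card_subgroupOf_eq_card_inf] at h1
  rw [mul_comm]
  exact h1

/-- the iterated images of `T` -/
def iterImage (T : B →* B) (k : ℕ) : Subgroup B := (Subgroup.map T)^[k] ⊤

theorem iterImage_zero (T : B →* B) : iterImage T 0 = ⊤ := rfl

theorem iterImage_succ (T : B →* B) (k : ℕ) : iterImage T (k + 1) = (iterImage T k).map T := by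
  unfold iterImage
  rw [Function.iterate_succ_apply']

theorem iterImage_one (T : B →* B) : iterImage T 1 = T.range := by
  rw [iterImage_succ, iterImage_zero, MonoidHom.range_eq_map]

theorem iterImage_le_range (T : B →* B) (k : ℕ) : iterImage T (k + 1) ≤ T.range := by
  rw [iterImage_succ]
  exact Subgroup.map_le_range T _

theorem ker_le_comap_ker (T : B →* B) : T.ker ≤ T.ker.comap T := by
  intro a ha
  rw [Subgroup.mem_comap, MonoidHom.mem_ker.mp ha]
  exact Subgroup.one_mem _

theorem ker_inf_range_eq (T : B →* B) : T.ker ⊓ T.range = (T.ker.comap T).map T := by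
  ext y
  constructor
  · rintro ⟨hy, a, rfl⟩
    exact ⟨a, hy, rfl⟩
  · rintro ⟨a, ha, rfl⟩
    exact ⟨ha, a, rfl⟩

section

variable [Finite B] {p : ℕ} (hp : p.Prime) (T : B →* B) (hW : T.ker.relIndex (T.ker.comap T) = p)

include hp hW

theorem card_ker_inf_range : Nat.card ↥(T.ker ⊓ T.range) = p := by
  rw [ker_inf_range_eq]
  have h1 := card_map_mul_card_ker_inf T (T.ker.comap T)
  rw [inf_eq_left.mpr (ker_le_comap_ker T)] at h1
  have h2 := card_mul_relIndex' (ker_le_comap_ker T)
  rw [hW, ← h1, mul_comm] at h2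
  exact (Nat.eq_of_mul_eq_mul_right Nat.card_pos h2).symm

theorem index_ker_sup_range : (T.ker ⊔ T.range).index = p := by
  have h1 : T.ker ⊔ T.range = (T.range.map T).comap T := by
    rw [Subgroup.comap_map_eq, sup_comm]
  rw [h1, Subgroup.index_comap]
  have h2 := card_map_mul_card_ker_inf T T.range
  rw [card_ker_inf_range hp T hW] at h2
  have h3 := card_mul_relIndex' (Subgroup.map_le_range T T.range)
  rw [← h2] at h3
  exact Nat.eq_of_mul_eq_mul_left Nat.card_pos h3

theorem card_ker_inf_iterImage_le (k : ℕ) : Nat.card ↥(T.ker ⊓ iterImage T (k + 1)) ≤ p := by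
  rw [← card_ker_inf_range hp T hW]
  exact Subgroup.card_le_of_le (inf_le_inf_left _ (iterImage_le_range T k))

theorem card_range_le (k : ℕ) :
    Nat.card T.range ≤ Nat.card (iterImage T (k + 1)) * p ^ k := by
  induction k with
  | zero => rw [pow_zero, mul_one, iterImage_one]
  | succ k ih =>
    have h1 := card_map_mul_card_ker_inf T (iterImage T (k + 1))
    rw [← iterImage_succ] at h1
    have h2 := card_ker_inf_iterImage_le hp T hW k
    calc Nat.card T.range ≤ Nat.card (iterImage T (k + 1)) * p ^ k := ih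
      _ = Nat.card (iterImage T (k + 1 + 1)) * Nat.card ↥(T.ker ⊓ iterImage T (k + 1)) * p ^ k := by
        rw [h1]
      _ ≤ Nat.card (iterImage T (k + 1 + 1)) * p * p ^ k := by
        apply Nat.mul_le_mul_right
        exact Nat.mul_le_mul_left _ h2
      _ = Nat.card (iterImage T (k + 1 + 1)) * p ^ (k + 1) := by
        rw [pow_succ, mul_assoc, mul_comm p]

end

end Cfsg.Agent.Helper25.Oliver
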