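import Mathlib
import Cfsg.Agent.Helper25.OliverA
import Cfsg.Agent.Helper25.OliverE
import Cfsg.Agent.Helper1.AbelianIndexP

set_option autoImplicit false

/-! The commutator endomorphism `a ↦ x⁻¹ a x a⁻¹` of an abelian normal subgroup `A` of index `p`. -/

namespace Cfsg.Agent.Helper25.Oliver

open scoped commutatorElement

variable {Ω : Type*} [Group Ω]

/-- the commutator endomorphism `a ↦ x⁻¹ a x a⁻¹` of the abelian subgroup `A` normalized by `x` -/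
def commEnd {A : Subgroup Ω} (hAc : ∀ a ∈ A, ∀ b ∈ A, a * b = b * a) {x : Ω}
    (hx : x ∈ Subgroup.normalizer (A : Set Ω)) : ↥A →* ↥A :=
  have hmem : ∀ a : A, x⁻¹ * ((a : Ω) * x * (a : Ω)⁻¹) ∈ A := by
    intro a
    have h1 : x⁻¹ * (a : Ω) * x⁻¹⁻¹ ∈ A :=
      (Subgroup.mem_normalizer_iff.mp (Subgroup.inv_mem _ hx) a).mp a.2
    have h2 := A.mul_mem h1 (A.inv_mem a.2)
    have e : x⁻¹ * ((a : Ω) * x * (a : Ω)⁻¹) = x⁻¹ * (a : Ω) * x⁻¹⁻¹ * (a : Ω)⁻¹ := by group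
    rw [e]
    exact h2
  MonoidHom.mk' (fun a => ⟨x⁻¹ * ((a : Ω) * x * (a : Ω)⁻¹), hmem a⟩) (by
    intro a b
    apply Subtype.ext
    show x⁻¹ * ((a : Ω) * b * x * ((a : Ω) * b)⁻¹) =
      x⁻¹ * ((a : Ω) * x * (a : Ω)⁻¹) * (x⁻¹ * ((b : Ω) * x * (b : Ω)⁻¹))
    have hc := hAc _ (hmem b) _ (A.inv_mem a.2)
    calc x⁻¹ * ((a : Ω) * b * x * ((a : Ω) * b)⁻¹)
        = x⁻¹ * (a : Ω) * x * ((x⁻¹ * ((b : Ω) * x * (b : Ω)⁻¹)) * (a : Ω)⁻¹) := by group
      _ = x⁻¹ * (a : Ω) * x * ((a : Ω)⁻¹ * (x⁻¹ * ((b : Ω) * x * (b : Ω)⁻¹))) := by rw [hc]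
      _ = x⁻¹ * ((a : Ω) * x * (a : Ω)⁻¹) * (x⁻¹ * ((b : Ω) * x * (b : Ω)⁻¹)) := by group)

theorem commEnd_coe {A : Subgroup Ω} (hAc : ∀ a ∈ A, ∀ b ∈ A, a * b = b * a) {x : Ω}
    (hx : x ∈ Subgroup.normalizer (A : Set Ω)) (a : A) :
    ((commEnd hAc hx a : A) : Ω) = x⁻¹ * ((a : Ω) * x * (a : Ω)⁻¹) := rfl

section

variable {S A : Subgroup Ω} {p : ℕ} (hp : p.Prime) (hAS : A ≤ S) (hAi : A.relIndex S = p)
  (hAc : ∀ a ∈ A, ∀ b ∈ A, a * b = b * a) {x : Ω} (hxS : x ∈ S) (hxA : x ∉ A)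
  (hxN : x ∈ Subgroup.normalizer (A : Set Ω))

include hp hAS hAi hxS hxA

theorem map_ker_commEnd (hZA : ZS S ≤ A) : (commEnd hAc hxN).ker.map A.subtype = ZS S := by
  apply le_antisymm
  · rintro _ ⟨a, ha, rfl⟩
    apply mem_ZS_of_comm hp hAS hAi hAc hxS hxA a.2
    have h1 : x⁻¹ * ((a : Ω) * x * (a : Ω)⁻¹) = 1 :=
      congrArg Subtype.val (MonoidHom.mem_ker.mp ha)
    calc (a : Ω) * x = x * (x⁻¹ * ((a : Ω) * x * (a : Ω)⁻¹)) * a := by group
      _ = x * a := by rw [h1, mul_one]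
  · intro z hz
    refine ⟨⟨z, hZA hz⟩, ?_, rfl⟩
    rw [SetLike.mem_coe, MonoidHom.mem_ker]
    apply Subtype.ext
    rw [commEnd_coe]
    have h1 := (mem_ZS.mp hz).2 x hxS
    show x⁻¹ * (z * x * z⁻¹) = 1
    rw [← h1]
    group

omit hxA hp hAi in
theorem map_iterImage_le (k : ℕ) :
    (iterImage (commEnd hAc hxN) k).map A.subtype ≤ Subgroup.lowerCentralSeries S k := by
  induction k with
  | zero =>
    rw [iterImage_zero, Subgroup.lowerCentralSeries_zero]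
    rintro _ ⟨a, -, rfl⟩
    exact hAS a.2
  | succ k ih =>
    rw [iterImage_succ, Subgroup.lowerCentralSeries_succ]
    rintro _ ⟨_, ⟨a, ha, rfl⟩, rfl⟩
    have h1 : (a : Ω) ∈ Subgroup.lowerCentralSeries S k := ih ⟨a, ha, rfl⟩
    have h2 : ⁅x⁻¹, (a : Ω)⁆ ∈ ⁅S, Subgroup.lowerCentralSeries S k⁆ :=
      Subgroup.commutator_mem_commutator (S.inv_mem hxS) h1
    rw [Subgroup.commutator_comm] at h2
    have e : ⁅x⁻¹, (a : Ω)⁆ = x⁻¹ * ((a : Ω) * x * (a : Ω)⁻¹) := by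
      rw [commutatorElement_def]
      group
    rw [e] at h2
    exact h2

theorem map_comap_ker_commEnd (hZA : ZS S ≤ A) (hWA : W2 S ≤ A) :
    ((commEnd hAc hxN).ker.comap (commEnd hAc hxN)).map A.subtype = W2 S := by
  have hK := map_ker_commEnd hp hAS hAi hAc hxS hxA hxN hZA
  apply le_antisymm
  · rintro _ ⟨a, ha, rfl⟩
    apply mem_W2_of_comm hp hAS hAi hAc hxS hxA a.2
    rw [← hK]
    exact ⟨commEnd hAc hxN a, ha, rfl⟩
  · intro w hw
    refine ⟨⟨w, hWA hw⟩, ?_, rfl⟩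
    rw [SetLike.mem_coe, Subgroup.mem_comap]
    have h1 : x⁻¹ * (w * x * w⁻¹) ∈ ZS S := (mem_W2.mp hw).2 x hxS
    rw [← hK] at h1
    obtain ⟨b, hb, hbe⟩ := h1
    have : commEnd hAc hxN ⟨w, hWA hw⟩ = b := Subtype.ext hbe.symm
    rw [this]
    exact hb

theorem map_range_commEnd [Finite S] (hna : ¬ ∀ s ∈ S, ∀ t ∈ S, s * t = t * s)
    (hAN : S ≤ Subgroup.normalizer (A : Set Ω)) (hZA : ZS S ≤ A) :
    (commEnd hAc hxN).range.map A.subtype = (commutator ↥S).map S.subtype := by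
  have hfinA : Finite A := Finite.of_injective (Subgroup.inclusion hAS) (Subgroup.inclusion_injective hAS)
  have hK := map_ker_commEnd hp hAS hAi hAc hxS hxA hxN hZA
  have hle : (commEnd hAc hxN).range.map A.subtype ≤ (commutator ↥S).map S.subtype := by
    rintro _ ⟨_, ⟨a, rfl⟩, rfl⟩
    refine ⟨⁅(⟨x, hxS⟩ : S)⁻¹, ⟨a, hAS a.2⟩⁆, ?_, ?_⟩
    · rw [SetLike.mem_coe, commutator_def]
      exact Subgroup.commutator_mem_commutator (Subgroup.mem_top _) (Subgroup.mem_top _)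
    · show ((⁅(⟨x, hxS⟩ : S)⁻¹, ⟨a, hAS a.2⟩⁆ : S) : Ω) = x⁻¹ * ((a : Ω) * x * (a : Ω)⁻¹)
      rw [commutatorElement_def]
      simp only [Subgroup.coe_mul, Subgroup.coe_inv, inv_inv]
      group
  have hfinC : Finite ↥((commutator ↥S).map S.subtype) :=
    Finite.of_injective (Subgroup.inclusion (Subgroup.map_subtype_le _))
      (Subgroup.inclusion_injective _)
  apply Subgroup.eq_of_le_of_card_ge hle
  -- cardinalities
  have hAn : (A.subgroupOf S).Normal := (Subgroup.normal_subgroupOf_iff_le_normalizer hAS).mpr hAN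
  have hAc' : IsMulCommutative (A.subgroupOf S) :=
    ⟨⟨fun a b => Subtype.ext (Subtype.ext (hAc _ a.2 _ b.2))⟩⟩
  have hcen : Subgroup.center ↥S ≠ ⊤ := by
    intro h
    apply hna
    intro s hs t ht
    have h1 : (⟨t, ht⟩ : S) ∈ Subgroup.center ↥S := h ▸ Subgroup.mem_top _
    exact congrArg Subtype.val (Subgroup.mem_center_iff.mp h1 ⟨s, hs⟩)
  have h1 := Cfsg.Agent.Helper1.AbIdxP.card_eq_card_center_mul_card_commutator hAc' hp hAi hcen
  rw [Nat.card_congr (Subgroup.subgroupOfEquivOfLe hAS).toEquiv] at h1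
  have h2 : Nat.card (Subgroup.center ↥S) = Nat.card (ZS S) := by
    have e : (Subgroup.center ↥S).map S.subtype = ZS S := by
      ext z
      constructor
      · rintro ⟨s, hs, rfl⟩
        exact (mem_ZS_iff_center s).mpr hs
      · intro hz
        exact ⟨⟨z, (mem_ZS.mp hz).1⟩, (mem_ZS_iff_center _).mp hz, rfl⟩
    rw [← e, Subgroup.card_subtype]
  have h3 := Subgroup.card_mul_index (commEnd hAc hxN).ker
  rw [Subgroup.index_ker] at h3
  have h4 : Nat.card (commEnd hAc hxN).ker = Nat.card (ZS S) := by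
    rw [← hK, Subgroup.card_subtype]
  have hfinZ : Finite ↥(ZS S) :=
    Finite.of_injective (Subgroup.inclusion (inf_le_left : ZS S ≤ S)) (Subgroup.inclusion_injective _)
  rw [Subgroup.card_subtype, Subgroup.card_subtype]
  rw [h2] at h1
  rw [h4, h1] at h3
  exact le_of_eq (Nat.eq_of_mul_eq_mul_left Nat.card_pos h3).symm

end

end Cfsg.Agent.Helper25.Oliver
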