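import Mathlib
import Cfsg.Agent.Helper25.AbRank2e
import Cfsg.Agent.Helper1.PGroup

set_option autoImplicit false

/-! Tools for groups of order `p ^ 4`: flags, splitting off central factors, power kernels. -/

namespace Cfsg.Agent.Helper25.OrderP4

open scoped commutatorElement

variable {H : Type*} [Group H]

theorem char_mem (K : Subgroup H) [hK : K.Characteristic] (α : MulAut H) : ∀ x ∈ K, α x ∈ K :=
  fun _ hx => (Subgroup.characteristic_iff_le_comap.mp hK α) hx

theorem center_char (α : MulAut H) : ∀ x ∈ Subgroup.center H, α x ∈ Subgroup.center H :=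
  char_mem _ α

theorem commutator_char (α : MulAut H) : ∀ x ∈ commutator H, α x ∈ commutator H :=
  char_mem _ α

theorem centralizer_char (K : Subgroup H) (hK : ∀ α : MulAut H, ∀ x ∈ K, α x ∈ K) (α : MulAut H) :
    ∀ x ∈ Subgroup.centralizer (K : Set H), α x ∈ Subgroup.centralizer (K : Set H) := by
  intro x hx
  rw [Subgroup.mem_centralizer_iff] at hx ⊢
  intro k hk
  have h1 := hx (α⁻¹ k) (hK α⁻¹ k hk)
  have h2 := congrArg α h1
  rwa [map_mul, map_mul, MulAut.apply_inv_self] at h2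

/-- A flag `⊤ > A > B > C > ⊥` of characteristic subgroups with all indices `p`. -/
theorem flag4 [Finite H] (p : ℕ) [hp : Fact p.Prime]
    (hcard : Nat.card H = p ^ 4) (A B C : Subgroup H) (hBA : B ≤ A) (hCB : C ≤ B)
    (hA : Nat.card A = p ^ 3) (hB : Nat.card B = p ^ 2) (hC : Nat.card C = p)
    (hAc : ∀ α : MulAut H, ∀ x ∈ A, α x ∈ A)
    (hBc : ∀ α : MulAut H, ∀ x ∈ B, α x ∈ B)
    (hCc : ∀ α : MulAut H, ∀ x ∈ C, α x ∈ C) : IsPGroup p (commutator (MulAut H)) := by
  have hH : IsPGroup p H := IsPGroup.of_card hcard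
  have hAn : A.Normal := ⟨fun x hx g => hAc (MulAut.conj g) x hx⟩
  have hBn : B.Normal := ⟨fun x hx g => hBc (MulAut.conj g) x hx⟩
  have hCn : C.Normal := ⟨fun x hx g => hCc (MulAut.conj g) x hx⟩
  let U : ℕ → Subgroup H := fun j => match j with
    | 0 => ⊤
    | 1 => A
    | 2 => B
    | 3 => C
    | _ => ⊥
  refine CharChain.commutator_mulAut_isPGroup p hH U 4 rfl rfl ?_ ?_
  · intro j α x hx
    match j with
    | 0 => exact Subgroup.mem_top _
    | 1 => exact hAc α x hx
    | 2 => exact hBc α x hx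
    | 3 => exact hCc α x hx
    | (k + 4) =>
      have hx' : x ∈ (⊥ : Subgroup H) := hx
      rw [Subgroup.mem_bot] at hx'
      subst hx'
      show α 1 ∈ (⊥ : Subgroup H)
      rw [map_one]; exact Subgroup.one_mem _
  · intro j
    match j with
    | 0 =>
      show ∃ g ∈ (⊤ : Subgroup H), ∀ y ∈ (⊤ : Subgroup H), ∃ k : ℤ, (g ^ k)⁻¹ * y ∈ A
      apply OrderPCube.exists_gen_mod p ⊤ A le_top
      rw [Subgroup.card_top, hcard, hA]; ring
    | 1 =>
      show ∃ g ∈ A, ∀ y ∈ A, ∃ k : ℤ, (g ^ k)⁻¹ * y ∈ B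
      apply OrderPCube.exists_gen_mod p A B hBA
      rw [hA, hB]; ring
    | 2 =>
      show ∃ g ∈ B, ∀ y ∈ B, ∃ k : ℤ, (g ^ k)⁻¹ * y ∈ C
      apply OrderPCube.exists_gen_mod p B C hCB
      rw [hB, hC]; ring
    | 3 =>
      show ∃ g ∈ C, ∀ y ∈ C, ∃ k : ℤ, (g ^ k)⁻¹ * y ∈ (⊥ : Subgroup H)
      apply OrderPCube.exists_gen_mod p C ⊥ bot_le
      rw [hC, Subgroup.card_bot, mul_one]
    | (k + 4) =>
      show ∃ g ∈ (⊥ : Subgroup H), ∀ y ∈ (⊥ : Subgroup H), ∃ k : ℤ, (g ^ k)⁻¹ * y ∈ (⊥ : Subgroup H)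
      refine ⟨1, Subgroup.one_mem _, fun y hy => ⟨0, ?_⟩⟩
      rw [Subgroup.mem_bot] at hy
      subst hy
      simp

/-- The homomorphism `a ↦ z ^ a` from `Multiplicative (ZMod p)`, for `z ^ p = 1`. -/
noncomputable def zpowHom (p : ℕ) (z : H) (hz : z ^ p = 1) : Multiplicative (ZMod p) →* H :=
  AddMonoidHom.toMultiplicativeLeft (AbRank2.zl p z hz)

theorem zpowHom_one (p : ℕ) (z : H) (hz : z ^ p = 1) :
    zpowHom p z hz (Multiplicative.ofAdd 1) = z := by
  have h := AbRank2.zl_natCast p z hz 1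
  rw [Nat.cast_one, pow_one] at h
  show Additive.toMul (AbRank2.zl p z hz 1) = z
  rw [h]; rfl

theorem zpowHom_mem_zpowers (p : ℕ) [NeZero p] (z : H) (hz : z ^ p = 1) (a : Multiplicative (ZMod p)) :
    zpowHom p z hz a ∈ Subgroup.zpowers z := by
  have h := AbRank2.zl_natCast p z hz (Multiplicative.toAdd a).val
  rw [ZMod.natCast_zmod_val] at h
  show Additive.toMul (AbRank2.zl p z hz (Multiplicative.toAdd a)) ∈ _
  rw [h]
  exact Subgroup.pow_mem _ (Subgroup.mem_zpowers z) _

/-- Splitting off a central element of order `p` outside the Frattini subgroup. -/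
theorem split_central [Finite H] (p : ℕ) [hp : Fact p.Prime] (hH : IsPGroup p H) (z : H)
    (hzc : ∀ h : H, z * h = h * z) (hzp : z ^ p = 1) (hzf : z ∉ frattini H) :
    ∃ M : Subgroup H, M.Normal ∧ M.index = p ∧ z ∉ M ∧
      Nonempty (H ≃* ↥M × Multiplicative (ZMod p)) := by
  rw [Cfsg.Agent.Helper1.mem_frattini_iff] at hzf
  push Not at hzf
  obtain ⟨M, hMco, hzM⟩ := hzf
  have hMn : M.Normal := Cfsg.Agent.Helper1.IsPGroup.coatom_normal hH hMco
  have hMi : M.index = p := Cfsg.Agent.Helper1.IsPGroup.coatom_index hH hMco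
  refine ⟨M, hMn, hMi, hzM, ?_⟩
  have : NeZero p := ⟨hp.out.ne_zero⟩
  set g := zpowHom p z hzp with hg
  have hcomm : ∀ (m : ↥M) (a : Multiplicative (ZMod p)), Commute (M.subtype m) (g a) := by
    intro m a
    obtain ⟨k, hk⟩ := Subgroup.mem_zpowers_iff.mp (zpowHom_mem_zpowers p z hzp a)
    rw [← hk]
    have : Commute z (M.subtype m) := hzc _
    exact (this.zpow_left k).symm
  let ψ : ↥M × Multiplicative (ZMod p) →* H := MonoidHom.noncommCoprod M.subtype g hcomm
  have hψ : ∀ m a, ψ (m, a) = (m : H) * g a := fun m a => rfl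
  have hinj : Function.Injective ψ := by
    rw [injective_iff_map_eq_one]
    rintro ⟨m, a⟩ h
    rw [hψ] at h
    have hga : g a ∈ M := by
      have : g a = (m : H)⁻¹ := eq_inv_of_mul_eq_one_right h
      rw [this]
      exact M.inv_mem m.2
    have ha : a = 1 := by
      by_contra hne
      have hne' : Multiplicative.toAdd a ≠ 0 := fun h0 => hne (by
        apply Multiplicative.toAdd.injective
        rw [h0]; rfl)
      set b := (Multiplicative.toAdd a)⁻¹ with hb
      have h1 : a ^ b.val = Multiplicative.ofAdd 1 := by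
        apply Multiplicative.toAdd.injective
        rw [toAdd_pow, toAdd_ofAdd, nsmul_eq_mul, ZMod.natCast_zmod_val, hb,
          inv_mul_cancel₀ hne']
      have h2 : g (a ^ b.val) = z := by rw [h1, hg, zpowHom_one]
      rw [map_pow] at h2
      apply hzM
      rw [← h2]
      exact M.pow_mem hga _
    subst ha
    rw [map_one, mul_one] at h
    have : m = 1 := Subtype.ext h
    rw [this]; rfl
  have hbij : Function.Bijective ψ := by
    apply hinj.bijective_of_nat_card_le
    rw [Nat.card_prod, Nat.card_eq_fintype_card (α := Multiplicative (ZMod p))]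
    have h1 := Subgroup.card_mul_index M
    rw [hMi] at h1
    rw [← h1]
    simp
  exact ⟨(MulEquiv.ofBijective ψ hbij).symm⟩

/-- The kernel of the `n`-th power map modulo `M`. -/
theorem card_powKer [Finite H] (p : ℕ) [hp : Fact p.Prime] (hH : IsPGroup p H)
    (M R : Subgroup H) [hMn : M.Normal] (n : ℕ) (hMR : M ≤ R)
    (hmul : ∀ x y : H, ((x * y) ^ n)⁻¹ * (x ^ n * y ^ n) ∈ M)
    (hR : ∀ h : H, h ^ n ∈ R) (hcard : Nat.card R = p * Nat.card M) (hne : ∃ x₀ : H, x₀ ^ n ∉ M) :
    ∃ T : Subgroup H, (∀ h, h ∈ T ↔ h ^ n ∈ M) ∧ Nat.card T * p = Nat.card H := by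
  let f : H →* H ⧸ M :=
    { toFun := fun h => (QuotientGroup.mk h : H ⧸ M) ^ n
      map_one' := by simp
      map_mul' := by
        intro x y
        rw [← QuotientGroup.mk_pow, ← QuotientGroup.mk_pow, ← QuotientGroup.mk_pow,
          ← QuotientGroup.mk_mul, QuotientGroup.eq]
        exact hmul x y }
  have hf : ∀ h, f h = (QuotientGroup.mk (h ^ n) : H ⧸ M) := fun h => by
    show (QuotientGroup.mk h : H ⧸ M) ^ n = _
    rw [QuotientGroup.mk_pow]
  have hmem : ∀ h, h ∈ f.ker ↔ h ^ n ∈ M := by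
    intro h
    rw [MonoidHom.mem_ker, hf, QuotientGroup.eq_one_iff]
  refine ⟨f.ker, hmem, ?_⟩
  have h1 := Subgroup.card_mul_index f.ker
  rw [Subgroup.index_ker] at h1
  have hrange : Nat.card f.range = p := by
    obtain ⟨j, hj⟩ := hH.index f.ker
    rw [Subgroup.index_ker] at hj
    have hne1 : Nat.card f.range ≠ 1 := by
      intro h
      rw [Subgroup.card_eq_one] at h
      obtain ⟨x₀, hx₀⟩ := hne
      have : f x₀ ∈ f.range := ⟨x₀, rfl⟩
      rw [h, Subgroup.mem_bot, ← MonoidHom.mem_ker, hmem] at this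
      exact hx₀ this
    have hle : Nat.card f.range ≤ p := by
      have h2 : Nat.card ((QuotientGroup.mk : H → H ⧸ M) ⁻¹' (f.range : Set (H ⧸ M))) =
          Nat.card M * Nat.card (f.range : Set (H ⧸ M)) := QuotientGroup.card_preimage_mk M _
      have h3 : (QuotientGroup.mk : H → H ⧸ M) ⁻¹' (f.range : Set (H ⧸ M)) ⊆ (R : Set H) := by
        rintro x ⟨h, hh⟩
        rw [hf] at hh
        have h4 : (h ^ n)⁻¹ * x ∈ M := QuotientGroup.eq.mp hh
        have : x = h ^ n * ((h ^ n)⁻¹ * x) := by group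
        rw [this]
        exact R.mul_mem (hR h) (hMR h4)
      have h5 : Nat.card ((QuotientGroup.mk : H → H ⧸ M) ⁻¹' (f.range : Set (H ⧸ M))) ≤
          Nat.card R := Nat.card_mono (Set.toFinite _) h3
      rw [h2, hcard] at h5
      have hpos : 0 < Nat.card M := Nat.card_pos
      have h6 : Nat.card M * Nat.card f.range ≤ Nat.card M * p := by
        rw [mul_comm _ p]; exact h5
      exact Nat.le_of_mul_le_mul_left h6 hpos
    rcases j with _ | j
    · rw [pow_zero] at hj; exact absurd hj hne1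
    · rcases j with _ | j
      · rw [hj]; simp
      · exfalso
        rw [hj] at hle
        have : p ^ 1 < p ^ (j + 1 + 1) := Nat.pow_lt_pow_right hp.out.one_lt (by omega)
        rw [pow_one] at this
        omega
  rw [hrange] at h1
  exact h1

end Cfsg.Agent.Helper25.OrderP4
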