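import Mathlib
import Cfsg.Agent.Helper25.OrderP4a
import Cfsg.Agent.Helper20.PCube
import Cfsg.Agent.Helper1.AbelianIndexP
import Cfsg.Agent.Helper23.PGroup

set_option autoImplicit false

/-! Non-abelian groups of order `p ^ 4`: centre, derived subgroup, characteristic flags. -/

namespace Cfsg.Agent.Helper25.OrderP4

open scoped commutatorElement

variable {H : Type*} [Group H] [Finite H]

theorem exists_abelian_max (p : ℕ) [hp : Fact p.Prime] (hcard : Nat.card H = p ^ 4) :
    ∃ A : Subgroup H, A.Normal ∧ A.index = p ∧ IsMulCommutative A ∧ Nat.card A = p ^ 3 := by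
  have hH : IsPGroup p H := IsPGroup.of_card hcard
  obtain ⟨A, hAcard, hAcomm⟩ := Cfsg.Agent.Helper20.exists_abelian_card_cube hH (by rw [hcard])
  have hAi : A.index = p := by
    have h1 := Subgroup.card_mul_index A
    rw [hAcard, hcard] at h1
    have : p ^ 3 * A.index = p ^ 3 * p := by rw [h1]; ring
    exact Nat.eq_of_mul_eq_mul_left (pow_pos hp.out.pos 3) this
  have hAn : A.Normal := by
    apply Subgroup.normal_of_index_eq_minFac_card
    rw [hAi, hcard, Nat.Prime.pow_minFac hp.out (by norm_num)]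
  exact ⟨A, hAn, hAi, hAcomm, hAcard⟩

theorem pow_eq_one_of_card (K : Subgroup H) (n : ℕ) (hK : Nat.card K = n) {x : H} (hx : x ∈ K) :
    x ^ n = 1 := by
  have h1 : (⟨x, hx⟩ : K) ^ Nat.card K = 1 := pow_card_eq_one'
  rw [hK] at h1
  exact congrArg Subtype.val h1

theorem zpowers_eq_of_card_prime (p : ℕ) [hp : Fact p.Prime] (K : Subgroup H) (hK : Nat.card K = p)
    {x : H} (hx : x ∈ K) (hx1 : x ≠ 1) : Subgroup.zpowers x = K := by
  apply Subgroup.eq_of_le_of_card_ge (Subgroup.zpowers_le.mpr hx)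
  rw [hK, Nat.card_zpowers, orderOf_eq_prime (pow_eq_one_of_card K p hK hx) hx1]

theorem card_cases (p : ℕ) [hp : Fact p.Prime] (hcard : Nat.card H = p ^ 4)
    (hna : ∃ a b : H, a * b ≠ b * a) :
    (Nat.card (Subgroup.center H) = p ∧ Nat.card (commutator H) = p ^ 2) ∨
      (Nat.card (Subgroup.center H) = p ^ 2 ∧ Nat.card (commutator H) = p) := by
  obtain ⟨A, hAn, hAi, hAc, hAcard⟩ := exists_abelian_max p hcard
  have hZtop : Subgroup.center H ≠ ⊤ := by
    intro h
    obtain ⟨a, b, hab⟩ := hna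
    exact hab (Cfsg.Agent.Helper1.AbIdxP.comm_of_center_eq_top h a b)
  have h1 := Cfsg.Agent.Helper1.AbIdxP.card_eq_card_center_mul_card_commutator hAc hp.out hAi hZtop
  rw [hAcard] at h1
  have hH : IsPGroup p H := IsPGroup.of_card hcard
  obtain ⟨a, ha⟩ := IsPGroup.iff_card.mp (hH.to_subgroup (Subgroup.center H))
  obtain ⟨b, hb⟩ := IsPGroup.iff_card.mp (hH.to_subgroup (commutator H))
  rw [ha, hb, ← pow_add] at h1
  have hab : 3 = a + b := Nat.pow_right_injective hp.out.two_le h1
  have hnt : Nontrivial H := by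
    rw [← Finite.one_lt_card_iff_nontrivial, hcard]
    exact Nat.one_lt_pow (by norm_num) hp.out.one_lt
  have ha0 : a ≠ 0 := by
    rintro rfl
    rw [pow_zero, Subgroup.card_eq_one] at ha
    exact (IsPGroup.bot_lt_center hH).ne' ha
  have hb0 : b ≠ 0 := by
    rintro rfl
    rw [pow_zero, Subgroup.card_eq_one, commutator_eq_bot_iff_center_eq_top] at hb
    exact hZtop hb
  have : (a = 1 ∧ b = 2) ∨ (a = 2 ∧ b = 1) := by omega
  rcases this with ⟨rfl, rfl⟩ | ⟨rfl, rfl⟩
  · left; exact ⟨by rw [ha, pow_one], hb⟩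
  · right; exact ⟨ha, by rw [hb, pow_one]⟩

/-- Centre of order `p`: there is a characteristic flag. -/
theorem caseZ2 (p : ℕ) [hp : Fact p.Prime] (hcard : Nat.card H = p ^ 4)
    (hZ : Nat.card (Subgroup.center H) = p) (hD : Nat.card (commutator H) = p ^ 2) :
    IsPGroup p (commutator (MulAut H)) := by
  obtain ⟨A, hAn, hAi, hAc, hAcard⟩ := exists_abelian_max p hcard
  have hH : IsPGroup p H := IsPGroup.of_card hcard
  have hp1 := hp.out.one_lt
  have hDA : commutator H ≤ A := by
    have hq : Nat.card (H ⧸ A) = p := by rw [← Subgroup.index_eq_card, hAi]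
    have : IsCyclic (H ⧸ A) := isCyclic_of_prime_card hq
    letI : CommGroup (H ⧸ A) := IsCyclic.commGroup
    have := Abelianization.commutator_subset_ker (QuotientGroup.mk' A)
    rwa [QuotientGroup.ker_mk'] at this
  set C := Subgroup.centralizer (commutator H : Set H) with hC
  have hAC : A ≤ C := by
    intro a ha
    rw [Subgroup.mem_centralizer_iff]
    intro d hd
    exact Cfsg.Agent.Helper1.AbIdxP.comm_of_isMulCommutative hAc (hDA hd) ha
  have hCtop : C ≠ ⊤ := by
    intro h
    have hle : commutator H ≤ Subgroup.center H := by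
      intro d hd
      rw [Subgroup.mem_center_iff]
      intro g
      have hg : g ∈ C := h ▸ Subgroup.mem_top g
      rw [Subgroup.mem_centralizer_iff] at hg
      exact (hg d hd).symm
    have := Subgroup.card_le_of_le hle
    rw [hZ, hD] at this
    have h2 : p ^ 1 < p ^ 2 := Nat.pow_lt_pow_right hp1 (by norm_num)
    rw [pow_one] at h2
    omega
  have hCA : C = A := by
    by_contra hne
    have h1 : ¬ C ≤ A := fun h => hne (le_antisymm h hAC)
    have h2 := Cfsg.Agent.Helper1.AbIdxP.sup_eq_top_of_index_prime hp.out hAi h1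
    rw [sup_eq_right.mpr hAC] at h2
    exact hCtop h2
  have hZD : Subgroup.center H ≤ commutator H := by
    have hDne : commutator H ≠ ⊥ := by
      intro h
      rw [h, Subgroup.card_bot] at hD
      have : 1 < p ^ 2 := Nat.one_lt_pow (by norm_num) hp1
      omega
    obtain ⟨b, hbD, hbZ, hb1⟩ :=
      Cfsg.Agent.Helper23.exists_mem_inf_center_ne_one hH (commutator H) hDne
    rw [← zpowers_eq_of_card_prime p _ hZ hbZ hb1, Subgroup.zpowers_le]
    exact hbD
  refine flag4 p hcard C (commutator H) (Subgroup.center H) ?_ hZD ?_ hD hZ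
    (centralizer_char _ (fun α => commutator_char α)) (fun α => commutator_char α)
    (fun α => center_char α)
  · rw [hCA]; exact hDA
  · rw [hCA]; exact hAcard

/-! ### Centre of order `p ^ 2` -/

theorem commutator_le_center (p : ℕ) [hp : Fact p.Prime] (hcard : Nat.card H = p ^ 4)
    (hD : Nat.card (commutator H) = p) : commutator H ≤ Subgroup.center H := by
  have hH : IsPGroup p H := IsPGroup.of_card hcard
  have hDne : commutator H ≠ ⊥ := by
    intro h
    rw [h, Subgroup.card_bot] at hD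
    exact hp.out.one_lt.ne hD
  obtain ⟨b, hbD, hbZ, hb1⟩ :=
    Cfsg.Agent.Helper23.exists_mem_inf_center_ne_one hH (commutator H) hDne
  rw [← zpowers_eq_of_card_prime p _ hD hbD hb1, Subgroup.zpowers_le]
  exact hbZ

omit [Finite H] in
theorem comm_mem (a b : H) : ⁅a, b⁆ ∈ commutator H :=
  Subgroup.commutator_mem_commutator (Subgroup.mem_top a) (Subgroup.mem_top b)

omit [Finite H] in
theorem comm_commute (hDZ : commutator H ≤ Subgroup.center H) (a b g : H) : Commute ⁅a, b⁆ g :=
  (Subgroup.mem_center_iff.mp (hDZ (comm_mem a b)) g).symm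

omit [Finite H] in
theorem mul_pow_cl2 (hDZ : commutator H ≤ Subgroup.center H) (x y : H) (n : ℕ) :
    (x * y) ^ n = x ^ n * y ^ n * ⁅y, x⁆ ^ (n.choose 2) :=
  PFour.mul_pow_of_central (comm_commute hDZ y x x) (comm_commute hDZ y x y) n

theorem pow_mem_center (p : ℕ) (hDZ : commutator H ≤ Subgroup.center H)
    (hD : Nat.card (commutator H) = p) (x : H) : x ^ p ∈ Subgroup.center H := by
  rw [Subgroup.mem_center_iff]
  intro y
  have h1 : ⁅x ^ p, y⁆ = ⁅x, y⁆ ^ p := PFour.commutator_pow_of_central (comm_commute hDZ x y x) p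
  rw [pow_eq_one_of_card _ p hD (comm_mem x y)] at h1
  exact (commutatorElement_eq_one_iff_commute.mp h1).eq.symm

theorem mul_pow_eq (p : ℕ) (hDZ : commutator H ≤ Subgroup.center H)
    (hD : Nat.card (commutator H) = p) (n : ℕ) (hn : p ∣ n.choose 2) (x y : H) :
    (x * y) ^ n = x ^ n * y ^ n := by
  rw [mul_pow_cl2 hDZ]
  obtain ⟨m, hm⟩ := hn
  rw [hm, pow_mul, pow_eq_one_of_card _ p hD (comm_mem y x), one_pow, mul_one]

theorem card_between (p : ℕ) [hp : Fact p.Prime] (hcard : Nat.card H = p ^ 4)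
    (hZ : Nat.card (Subgroup.center H) = p ^ 2) (K : Subgroup H) (hZK : Subgroup.center H ≤ K)
    (hK : K ≠ ⊤) {x : H} (hxK : x ∈ K) (hxZ : x ∉ Subgroup.center H) : Nat.card K = p ^ 3 := by
  have hp1 := hp.out.one_lt
  have hdvd : Nat.card K ∣ p ^ 4 := hcard ▸ Subgroup.card_subgroup_dvd_card K
  obtain ⟨k, hk4, hk⟩ := (Nat.dvd_prime_pow hp.out).mp hdvd
  have hk4' : k ≠ 4 := by
    rintro rfl
    apply hK
    rw [← Subgroup.card_eq_iff_eq_top, hk, hcard]
  have hk2 : 2 ≤ k := by
    have := Subgroup.card_le_of_le hZK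
    rw [hZ, hk] at this
    by_contra hcon
    push Not at hcon
    have := Nat.pow_lt_pow_right hp1 hcon
    omega
  have hk2' : k ≠ 2 := by
    rintro rfl
    have : Subgroup.center H = K := Subgroup.eq_of_le_of_card_ge hZK (by rw [hk, hZ])
    exact hxZ (this ▸ hxK)
  have : k = 3 := by omega
  rw [hk, this]

theorem comm_of_proper (p : ℕ) [hp : Fact p.Prime] (hcard : Nat.card H = p ^ 4)
    (hZ : Nat.card (Subgroup.center H) = p ^ 2) (K : Subgroup H) (hZK : Subgroup.center H ≤ K)
    (hK : K ≠ ⊤) {x y : H} (hx : x ∈ K) (hy : y ∈ K) : x * y = y * x := by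
  by_cases hxZ : x ∈ Subgroup.center H
  · exact ((Subgroup.mem_center_iff.mp hxZ) y).symm
  · set J := Subgroup.centralizer ({x} : Set H) ⊓ K with hJ
    have hZJ : Subgroup.center H ≤ J :=
      le_inf (Subgroup.center_le_centralizer _) hZK
    have hJK : J ≤ K := inf_le_right
    have hJtop : J ≠ ⊤ := fun h => hK (top_le_iff.mp (h ▸ hJK))
    have hxJ : x ∈ J := ⟨Subgroup.mem_centralizer_iff.mpr (fun g hg => by
      rw [Set.mem_singleton_iff] at hg; rw [hg]), hx⟩
    have h1 := card_between p hcard hZ J hZJ hJtop hxJ hxZ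
    have h2 := card_between p hcard hZ K hZK hK hx hxZ
    have hJeq : J = K := Subgroup.eq_of_le_of_card_ge hJK (by rw [h1, h2])
    have hyJ : y ∈ J := hJeq ▸ hy
    have := Subgroup.mem_centralizer_iff.mp hyJ.1 x (Set.mem_singleton x)
    exact this

theorem flagZ1 (p : ℕ) [hp : Fact p.Prime] (hcard : Nat.card H = p ^ 4)
    (hZ : Nat.card (Subgroup.center H) = p ^ 2) (hD : Nat.card (commutator H) = p)
    (T : Subgroup H) (hTc : ∀ α : MulAut H, ∀ x ∈ T, α x ∈ T) (hZT : Subgroup.center H ≤ T)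
    (hT : Nat.card T * p = Nat.card H) : IsPGroup p (commutator (MulAut H)) := by
  have hT3 : Nat.card T = p ^ 3 := by
    rw [hcard] at hT
    have : Nat.card T * p = p ^ 3 * p := by rw [hT]; ring
    exact Nat.eq_of_mul_eq_mul_right hp.out.pos this
  exact flag4 p hcard T (Subgroup.center H) (commutator H) hZT (commutator_le_center p hcard hD)
    hT3 hZ hD hTc (fun α => center_char α) (fun α => commutator_char α)

end Cfsg.Agent.Helper25.OrderP4
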