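import Mathlib
import Cfsg.Agent.Helper25.OrderP4b

set_option autoImplicit false

/-! Non-abelian groups of order `p ^ 4` with centre of order `p ^ 2`. -/

namespace Cfsg.Agent.Helper25.OrderP4

open scoped commutatorElement

variable {H : Type*} [Group H] [Finite H]

/-- In a subgroup of order two, the non-identity elements coincide. -/
theorem eq_of_card_two (K : Subgroup H) (hK : Nat.card K = 2) {u v : H} (hu : u ∈ K) (hv : v ∈ K)
    (hu1 : u ≠ 1) (hv1 : v ≠ 1) : u = v := by
  have : Fact (Nat.Prime 2) := ⟨Nat.prime_two⟩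
  have h1 := zpowers_eq_of_card_prime 2 K hK hu hu1
  have hu2 : u ^ 2 = 1 := pow_eq_one_of_card K 2 hK hu
  rw [← h1] at hv
  obtain ⟨k, hk⟩ := Subgroup.mem_zpowers_iff.mp hv
  rcases Int.emod_two_eq_zero_or_one k with h | h
  · exfalso
    apply hv1
    have : k = 2 * (k / 2) := by omega
    rw [← hk, this, zpow_mul, zpow_ofNat, hu2, one_zpow]
  · have : k = 2 * (k / 2) + 1 := by omega
    rw [← hk, this, zpow_add, zpow_mul, zpow_ofNat, hu2, one_zpow, one_mul, zpow_one]

theorem caseZ1_two (hcard : Nat.card H = 2 ^ 4) (hZ : Nat.card (Subgroup.center H) = 2 ^ 2)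
    (hD : Nat.card (commutator H) = 2) (hZexp : ∀ z ∈ Subgroup.center H, z ^ 2 = 1)
    (hsq : ∀ h : H, h ^ 2 ∈ commutator H) (h : H) (hhZ : h ∉ Subgroup.center H) (hh : h ^ 2 = 1) :
    IsPGroup 2 (commutator (MulAut H)) := by
  have : Fact (Nat.Prime 2) := ⟨Nat.prime_two⟩
  have hDZ := commutator_le_center 2 hcard hD
  have key : ∀ k₁ k₂ : H, k₁ ^ 2 ≠ 1 → k₂ ^ 2 ≠ 1 → k₁ * k₂ = k₂ * k₁ := by
    intro k₁ k₂ hk₁ hk₂
    by_contra hnc
    have hc1 : ⁅k₂, k₁⁆ ≠ 1 := by
      intro h1
      exact hnc (commutatorElement_eq_one_iff_commute.mp h1).eq.symm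
    have e1 : k₁ ^ 2 = k₂ ^ 2 := eq_of_card_two _ hD (hsq k₁) (hsq k₂) hk₁ hk₂
    have e2 : ⁅k₂, k₁⁆ = k₂ ^ 2 := eq_of_card_two _ hD (comm_mem k₂ k₁) (hsq k₂) hc1 hk₂
    have hc2 : (k₂ ^ 2) ^ 2 = 1 := pow_eq_one_of_card _ 2 hD (hsq k₂)
    have hk₁Z : k₁ ∉ Subgroup.center H := fun hz => hk₁ (hZexp _ hz)
    have hk₂Z : k₂ ∉ Subgroup.center H := fun hz => hk₂ (hZexp _ hz)
    set B := Subgroup.centralizer ({k₁} : Set H) with hB
    set B' := Subgroup.centralizer ({k₂} : Set H) with hB'
    have memB : ∀ g : H, g ∈ B ↔ k₁ * g = g * k₁ := by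
      intro g
      rw [hB, Subgroup.mem_centralizer_iff]
      constructor
      · intro hg; exact hg k₁ (Set.mem_singleton _)
      · intro hg x hx; rw [Set.mem_singleton_iff] at hx; rw [hx]; exact hg
    have memB' : ∀ g : H, g ∈ B' ↔ k₂ * g = g * k₂ := by
      intro g
      rw [hB', Subgroup.mem_centralizer_iff]
      constructor
      · intro hg; exact hg k₂ (Set.mem_singleton _)
      · intro hg x hx; rw [Set.mem_singleton_iff] at hx; rw [hx]; exact hg
    have h11 : k₁ ∈ B := (memB _).mpr rfl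
    have h22 : k₂ ∈ B' := (memB' _).mpr rfl
    have h21 : k₂ ∉ B := fun hx => hnc ((memB _).mp hx)
    have h12 : k₁ ∉ B' := fun hx => hnc ((memB' _).mp hx).symm
    have hBtop : B ≠ ⊤ := fun hx => h21 (hx ▸ Subgroup.mem_top _)
    have hB'top : B' ≠ ⊤ := fun hx => h12 (hx ▸ Subgroup.mem_top _)
    have hBcard := card_between 2 hcard hZ B (Subgroup.center_le_centralizer _) hBtop h11 hk₁Z
    have hB'card := card_between 2 hcard hZ B' (Subgroup.center_le_centralizer _) hB'top h22 hk₂Z
    have hBi : B.index = 2 := by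
      have := Subgroup.card_mul_index B
      rw [hBcard, hcard] at this
      omega
    have hB'i : B'.index = 2 := by
      have := Subgroup.card_mul_index B'
      rw [hB'card, hcard] at this
      omega
    have hBB' : ∀ g, g ∈ B → g ∈ B' → g ∈ Subgroup.center H := by
      intro g hg hg'
      by_contra hgZ
      set K := Subgroup.centralizer ({g} : Set H) with hK
      have hKtop : K ≠ ⊤ := by
        intro hx
        apply hgZ
        rw [Subgroup.mem_center_iff]
        intro y
        have : y ∈ K := hx ▸ Subgroup.mem_top y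
        exact (Subgroup.mem_centralizer_iff.mp this g (Set.mem_singleton _)).symm
      have hk₁K : k₁ ∈ K := by
        rw [hK, Subgroup.mem_centralizer_iff]
        intro x hx; rw [Set.mem_singleton_iff] at hx; rw [hx]
        exact ((memB _).mp hg).symm
      have hk₂K : k₂ ∈ K := by
        rw [hK, Subgroup.mem_centralizer_iff]
        intro x hx; rw [Set.mem_singleton_iff] at hx; rw [hx]
        exact ((memB' _).mp hg').symm
      exact hnc (comm_of_proper 2 hcard hZ K (Subgroup.center_le_centralizer _) hKtop hk₁K hk₂K)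
    -- write `h = w * z`
    obtain ⟨w, hw⟩ : ∃ w : H, (w ^ 2 ≠ 1 ∧ w⁻¹ * h ∈ Subgroup.center H) ∨
        (w = 1 ∧ w⁻¹ * h ∈ Subgroup.center H) := by
      by_cases hhB : h ∈ B
      · by_cases hhB' : h ∈ B'
        · exact ⟨1, Or.inr ⟨rfl, by rw [inv_one, one_mul]; exact hBB' h hhB hhB'⟩⟩
        · refine ⟨k₁, Or.inl ⟨hk₁, hBB' _ (B.mul_mem (B.inv_mem h11) hhB) ?_⟩⟩
          rw [Subgroup.mul_mem_iff_of_index_two hB'i, inv_mem_iff]
          exact ⟨fun hx => absurd hx h12, fun hx => absurd hx hhB'⟩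
      · by_cases hhB' : h ∈ B'
        · refine ⟨k₂, Or.inl ⟨hk₂, hBB' _ ?_ (B'.mul_mem (B'.inv_mem h22) hhB')⟩⟩
          rw [Subgroup.mul_mem_iff_of_index_two hBi, inv_mem_iff]
          exact ⟨fun hx => absurd hx h21, fun hx => absurd hx hhB⟩
        · have h3 : k₁ * k₂ ∉ B := by
            rw [Subgroup.mul_mem_iff_of_index_two hBi]
            intro hx
            exact h21 (hx.mp h11)
          have h4 : k₁ * k₂ ∉ B' := by
            rw [Subgroup.mul_mem_iff_of_index_two hB'i]
            intro hx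
            exact h12 (hx.mpr h22)
          have h5 : (k₁ * k₂) ^ 2 ≠ 1 := by
            rw [mul_pow_cl2 hDZ, e2, e1]
            have : Nat.choose 2 2 = 1 := by decide
            rw [this, pow_one, ← sq (k₂ ^ 2), hc2, one_mul]
            exact hk₂
          refine ⟨k₁ * k₂, Or.inl ⟨h5, hBB' _ ?_ ?_⟩⟩
          · rw [Subgroup.mul_mem_iff_of_index_two hBi, inv_mem_iff]
            exact ⟨fun hx => absurd hx h3, fun hx => absurd hx hhB⟩
          · rw [Subgroup.mul_mem_iff_of_index_two hB'i, inv_mem_iff]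
            exact ⟨fun hx => absurd hx h4, fun hx => absurd hx hhB'⟩
    rcases hw with ⟨hw2, hz⟩ | ⟨rfl, hz⟩
    · apply hw2
      set z := w⁻¹ * h with hzdef
      have hhw : h = w * z := by rw [hzdef]; group
      have hcz : Commute w z := (Subgroup.mem_center_iff.mp hz w)
      have : h ^ 2 = w ^ 2 * z ^ 2 := by rw [hhw, hcz.mul_pow]
      rw [hh, hZexp z hz, mul_one] at this
      exact this.symm
    · rw [inv_one, one_mul] at hz
      exact hhZ hz
  -- an element of order four
  obtain ⟨w, hw⟩ : ∃ w : H, w ^ 2 ≠ 1 := by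
    by_contra hcon
    push Not at hcon
    apply hhZ
    rw [Subgroup.mem_center_iff]
    intro g
    have h1 := hcon (g * h)
    have h2 := hcon g
    have h3 := hcon h
    have hg : g⁻¹ = g := by
      rw [inv_eq_iff_mul_eq_one, ← sq]; exact h2
    have hh' : h⁻¹ = h := by
      rw [inv_eq_iff_mul_eq_one, ← sq]; exact h3
    have : (g * h)⁻¹ = g * h := by
      rw [inv_eq_iff_mul_eq_one, ← sq]; exact h1
    rw [mul_inv_rev, hg, hh'] at this
    exact this.symm
  have hwZ : w ∉ Subgroup.center H := fun hz => hw (hZexp _ hz)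
  set T := Subgroup.centralizer {k : H | k ^ 2 ≠ 1} with hT
  have hwT : w ∈ T := by
    rw [hT, Subgroup.mem_centralizer_iff]
    intro k hk
    exact key k w hk hw
  have hTtop : T ≠ ⊤ := by
    intro hx
    apply hwZ
    rw [Subgroup.mem_center_iff]
    intro y
    have : y ∈ T := hx ▸ Subgroup.mem_top y
    exact (Subgroup.mem_centralizer_iff.mp this w hw).symm
  have hTcard := card_between 2 hcard hZ T (Subgroup.center_le_centralizer _) hTtop hwT hwZ
  refine flagZ1 2 hcard hZ hD T ?_ (Subgroup.center_le_centralizer _) (by rw [hTcard, hcard]; norm_num)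
  intro α x hx
  rw [hT, Subgroup.mem_centralizer_iff] at hx ⊢
  intro k hk
  have hk' : (α⁻¹ k) ^ 2 ≠ 1 := by
    intro h1
    apply hk
    have := congrArg α h1
    rwa [map_pow, MulAut.apply_inv_self, map_one] at this
  have h1 := hx _ hk'
  have h2 := congrArg α h1
  rwa [map_mul, map_mul, MulAut.apply_inv_self] at h2

/-- The case of a centre of order `p ^ 2`. -/
theorem caseZ1 (p : ℕ) [hp : Fact p.Prime] (hcard : Nat.card H = p ^ 4)
    (hZ : Nat.card (Subgroup.center H) = p ^ 2) (hD : Nat.card (commutator H) = p)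
    (hA : ¬ IsPGroup p (commutator (MulAut H))) :
    (IsCyclic (Subgroup.center H) ∧ ∀ x : H, x ^ (p ^ 2) = 1) ∨
      ((∀ z ∈ Subgroup.center H, z ^ p = 1) ∧ p ≠ 2 ∧ ∀ x : H, x ^ p = 1) ∨
      ((∀ z ∈ Subgroup.center H, z ^ p = 1) ∧ p = 2 ∧ (∀ h : H, h ^ 2 ∈ commutator H) ∧
        ∀ h : H, h ∉ Subgroup.center H → h ^ 2 ≠ 1) := by
  have hDZ := commutator_le_center p hcard hD
  have hH : IsPGroup p H := IsPGroup.of_card hcard
  have hp1 := hp.out.one_lt
  by_cases hcyc : IsCyclic (Subgroup.center H)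
  · left
    refine ⟨hcyc, ?_⟩
    by_contra hne
    push Not at hne
    apply hA
    obtain ⟨g, hg⟩ := hcyc.exists_generator
    have hog : orderOf g = p ^ 2 := by rw [orderOf_eq_card_of_forall_mem_zpowers hg, hZ]
    set z₀ : H := (g : H) with hz₀
    have hoz : orderOf z₀ = p ^ 2 := by rw [hz₀, Subgroup.orderOf_coe, hog]
    have hcardR : Nat.card (Subgroup.zpowers (z₀ ^ p)) = p * Nat.card (⊥ : Subgroup H) := by
      rw [Subgroup.card_bot, mul_one, Nat.card_zpowers,
        orderOf_pow_of_dvd hp.out.ne_zero (by rw [hoz, sq]; exact dvd_mul_right p p), hoz, sq,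
        Nat.mul_div_cancel _ hp.out.pos]
    have hdvd : p ∣ (p ^ 2).choose 2 := by
      apply Nat.Prime.dvd_choose_pow hp.out (by norm_num)
      have : 2 ^ 2 ≤ p ^ 2 := Nat.pow_le_pow_left hp.out.two_le 2
      omega
    obtain ⟨T, hTmem, hTcard⟩ := card_powKer p hH ⊥ (Subgroup.zpowers (z₀ ^ p)) (p ^ 2) bot_le
      (by
        intro x y
        rw [mul_pow_eq p hDZ hD (p ^ 2) hdvd x y, inv_mul_cancel]
        exact Subgroup.one_mem _)
      (by
        intro h
        have h1 := pow_mem_center p hDZ hD h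
        obtain ⟨k, hk⟩ := Subgroup.mem_zpowers_iff.mp (hg ⟨h ^ p, h1⟩)
        have hk' : z₀ ^ k = h ^ p := by
          have := congrArg Subtype.val hk
          rwa [Subgroup.coe_zpow] at this
        rw [Subgroup.mem_zpowers_iff]
        refine ⟨k, ?_⟩
        rw [sq, pow_mul, ← hk', ← zpow_natCast, ← zpow_natCast, ← zpow_mul, ← zpow_mul, mul_comm])
      hcardR
      (by
        obtain ⟨x₀, hx₀⟩ := hne
        exact ⟨x₀, fun h => hx₀ (Subgroup.mem_bot.mp h)⟩)
    refine flagZ1 p hcard hZ hD T ?_ ?_ hTcard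
    · intro α x hx
      rw [hTmem, Subgroup.mem_bot] at hx ⊢
      rw [← map_pow, hx, map_one]
    · intro z hz
      rw [hTmem, Subgroup.mem_bot]
      exact pow_eq_one_of_card _ _ hZ hz
  · have hZexp : ∀ z ∈ Subgroup.center H, z ^ p = 1 := by
      intro z hz
      have h1 : orderOf (⟨z, hz⟩ : Subgroup.center H) ∣ p ^ 2 := hZ ▸ orderOf_dvd_natCard _
      obtain ⟨k, hk2, hk⟩ := (Nat.dvd_prime_pow hp.out).mp h1
      have hk2' : k ≠ 2 := by
        rintro rfl
        exact hcyc (isCyclic_of_orderOf_eq_card _ (by rw [hk, hZ]))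
      have h2 : orderOf (⟨z, hz⟩ : Subgroup.center H) ∣ p := by
        rw [hk]
        have : k ≤ 1 := by omega
        calc p ^ k ∣ p ^ 1 := pow_dvd_pow p this
          _ = p := pow_one p
      have h3 := orderOf_dvd_iff_pow_eq_one.mp h2
      exact congrArg Subtype.val h3
    right
    by_cases h1 : ∃ x₀ : H, x₀ ^ p ∉ commutator H
    · exfalso
      apply hA
      obtain ⟨T, hTmem, hTcard⟩ := card_powKer p hH (commutator H) (Subgroup.center H) p hDZ
        (by
          intro x y
          rw [mul_pow_cl2 hDZ, mul_inv_rev, mul_assoc, inv_mul_cancel, mul_one]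
          exact Subgroup.inv_mem _ (Subgroup.pow_mem _ (comm_mem y x) _))
        (pow_mem_center p hDZ hD) (by rw [hZ, hD, sq]) h1
      refine flagZ1 p hcard hZ hD T ?_ ?_ hTcard
      · intro α x hx
        rw [hTmem] at hx ⊢
        rw [← map_pow]
        exact commutator_char α _ hx
      · intro z hz
        rw [hTmem, hZexp z hz]
        exact Subgroup.one_mem _
    · push Not at h1
      by_cases hp2 : p = 2
      · right
        subst hp2
        refine ⟨hZexp, rfl, h1, ?_⟩
        intro h hhZ hh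
        exact hA (caseZ1_two hcard hZ hD hZexp h1 h hhZ hh)
      · left
        refine ⟨hZexp, hp2, ?_⟩
        by_contra hne
        push Not at hne
        apply hA
        have h2p : 2 < p := lt_of_le_of_ne hp.out.two_le (Ne.symm hp2)
        have hdvd : p ∣ p.choose 2 := Nat.Prime.dvd_choose_self hp.out (by norm_num) h2p
        obtain ⟨T, hTmem, hTcard⟩ := card_powKer p hH ⊥ (commutator H) p bot_le
          (by
            intro x y
            rw [mul_pow_eq p hDZ hD p hdvd x y, inv_mul_cancel]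
            exact Subgroup.one_mem _)
          h1 (by rw [Subgroup.card_bot, mul_one, hD])
          (by
            obtain ⟨x₀, hx₀⟩ := hne
            exact ⟨x₀, fun h => hx₀ (Subgroup.mem_bot.mp h)⟩)
        refine flagZ1 p hcard hZ hD T ?_ ?_ hTcard
        · intro α x hx
          rw [hTmem, Subgroup.mem_bot] at hx ⊢
          rw [← map_pow, hx, map_one]
        · intro z hz
          rw [hTmem, Subgroup.mem_bot]
          exact hZexp z hz

end Cfsg.Agent.Helper25.OrderP4
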