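import Mathlib
import Cfsg.Agent.Helper25.OrderP4c
import Cfsg.Agent.Helper25.OrderPCube2
import Cfsg.Agent.Helper2.QuaternionLift

set_option autoImplicit false

/-! Groups of order `p ^ 4` whose automorphism group has a derived subgroup that is not a
`p`-group: the classification. -/

namespace Cfsg.Agent.Helper25.OrderP4

open scoped commutatorElement

theorem exists_type0 (M : Type*) [Group M] [Finite M] :
    ∃ (E : Type) (_ : Group E) (_ : Finite E), Nonempty (E ≃* M) := by
  let e := (Finite.equivFin M).symm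
  exact ⟨Fin (Nat.card M), e.group, inferInstance, ⟨@Equiv.mulEquiv _ _ e _⟩⟩

theorem mult_zmod_pow (p : ℕ) (c : Multiplicative (ZMod p)) : c ^ p = 1 := by
  apply Multiplicative.toAdd.injective
  rw [toAdd_pow, toAdd_one, nsmul_eq_mul, ZMod.natCast_self, zero_mul]

theorem comm_of_equiv_prod {H M : Type*} [Group H] [Group M] (p : ℕ)
    (e : H ≃* M × Multiplicative (ZMod p)) (hM : ∀ a b : M, a * b = b * a) (x y : H) :
    x * y = y * x := by
  apply e.injective
  rw [map_mul, map_mul]
  exact Prod.ext (hM _ _) (mul_comm _ _)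

variable {H : Type*} [Group H] [Finite H]

/-- Case (d): exponent `p`, `p` odd. -/
theorem caseD (p : ℕ) [hp : Fact p.Prime] (hcard : Nat.card H = p ^ 4)
    (hZ : Nat.card (Subgroup.center H) = p ^ 2) (hD : Nat.card (commutator H) = p)
    (hexp : ∀ x : H, x ^ p = 1) (hna : ∃ a b : H, a * b ≠ b * a) :
    ∃ (E : Type) (_ : Group E) (_ : Finite E), Cfsg.IsExtraspecial p E ∧ Nat.card E = p ^ 3 ∧
      (∀ x : E, x ^ p = 1) ∧ Nonempty (H ≃* E × Multiplicative (ZMod p)) := by
  have hH : IsPGroup p H := IsPGroup.of_card hcard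
  have hp1 := hp.out.one_lt
  obtain ⟨z, hzZ, hzD⟩ : ∃ z ∈ Subgroup.center H, z ∉ commutator H := by
    rw [← SetLike.not_le_iff_exists]
    intro hle
    have := Subgroup.card_le_of_le hle
    rw [hZ, hD] at this
    have h2 : p ^ 1 < p ^ 2 := Nat.pow_lt_pow_right hp1 (by norm_num)
    rw [pow_one] at h2
    omega
  have hfr : frattini H ≤ commutator H :=
    Cfsg.Agent.Helper20.frattini_le_of_elemAb' p (commutator H) (fun a b => comm_mem a b)
      (fun a => by rw [hexp]; exact Subgroup.one_mem _)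
  obtain ⟨M, hMn, hMi, hzM, ⟨e⟩⟩ := split_central p hH z
    (fun h => ((Subgroup.mem_center_iff.mp hzZ) h).symm) (hexp z) (fun h => hzD (hfr h))
  have hMcard : Nat.card M = p ^ 3 := by
    have h1 := Subgroup.card_mul_index M
    rw [hMi, hcard] at h1
    have : Nat.card M * p = p ^ 3 * p := by rw [h1]; ring
    exact Nat.eq_of_mul_eq_mul_right hp.out.pos this
  have hMna : ∃ a b : M, a * b ≠ b * a := by
    by_contra hcon
    push Not at hcon
    obtain ⟨a, b, hab⟩ := hna
    exact hab (comm_of_equiv_prod p e hcon a b)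
  obtain ⟨E, instG, instF, ⟨eM⟩⟩ := exists_type0 ↥M
  have hEcard : Nat.card E = p ^ 3 := by rw [Nat.card_congr eM.toEquiv, hMcard]
  have hEna : ∃ a b : E, a * b ≠ b * a := by
    obtain ⟨a, b, hab⟩ := hMna
    refine ⟨eM.symm a, eM.symm b, fun h => hab ?_⟩
    have := congrArg eM h
    rwa [map_mul, map_mul, MulEquiv.apply_symm_apply, MulEquiv.apply_symm_apply] at this
  refine ⟨E, instG, instF, OrderPCube.isExtraspecial p hEcard hEna, hEcard, ?_, ?_⟩
  · intro x
    apply eM.injective
    rw [map_pow, map_one]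
    apply Subtype.ext
    rw [Subgroup.coe_pow, hexp]
    rfl
  · exact ⟨e.trans (MulEquiv.prodCongr eM.symm (MulEquiv.refl _))⟩

/-- Case (e): `Q₈ × C₂`. -/
theorem caseE (hcard : Nat.card H = 2 ^ 4) (hZ : Nat.card (Subgroup.center H) = 2 ^ 2)
    (hD : Nat.card (commutator H) = 2) (hsq : ∀ h : H, h ^ 2 ∈ commutator H)
    (hord : ∀ h : H, h ∉ Subgroup.center H → h ^ 2 ≠ 1) (hna : ∃ a b : H, a * b ≠ b * a) :
    Nonempty (H ≃* QuaternionGroup 2 × Multiplicative (ZMod 2)) := by
  have : Fact (Nat.Prime 2) := ⟨Nat.prime_two⟩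
  have hH : IsPGroup 2 H := IsPGroup.of_card hcard
  have hDZ := commutator_le_center 2 hcard hD
  obtain ⟨z, hzZ, hzD⟩ : ∃ z ∈ Subgroup.center H, z ∉ commutator H := by
    rw [← SetLike.not_le_iff_exists]
    intro hle
    have := Subgroup.card_le_of_le hle
    rw [hZ, hD] at this
    omega
  have hfr : frattini H ≤ commutator H :=
    Cfsg.Agent.Helper20.frattini_le_of_elemAb' 2 (commutator H) (fun a b => comm_mem a b) hsq
  have hz2 : z ^ 2 = 1 := by
    by_contra hne
    -- the centre has exponent two, otherwise it is cyclic and `z ^ 2` generates `H'`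
    have h1 : z ^ 2 ∈ commutator H := hsq z
    have h4 : z ^ 4 = 1 := by
      have := pow_eq_one_of_card _ _ hZ hzZ
      norm_num at this
      exact this
    -- take `h ∉ Z`; then `(h z)` ∉ Z and `(h z)^2 = h^2 z^2 = 1`
    obtain ⟨a, b, hab⟩ := hna
    have haZ : a ∉ Subgroup.center H := fun hz => hab ((Subgroup.mem_center_iff.mp hz b).symm)
    have ha2 := hord a haZ
    have e1 : a ^ 2 = z ^ 2 := eq_of_card_two _ hD (hsq a) h1 ha2 hne
    have hazZ : a * z⁻¹ ∉ Subgroup.center H := by
      intro hx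
      apply haZ
      have := Subgroup.mul_mem _ hx hzZ
      rwa [inv_mul_cancel_right] at this
    apply hord _ hazZ
    have hc : Commute a z⁻¹ := ((Subgroup.mem_center_iff.mp (Subgroup.inv_mem _ hzZ)) a)
    rw [hc.mul_pow, e1, inv_pow, mul_inv_cancel]
  obtain ⟨M, hMn, hMi, hzM, ⟨e⟩⟩ := split_central 2 hH z
    (fun h => ((Subgroup.mem_center_iff.mp hzZ) h).symm) hz2 (fun h => hzD (hfr h))
  have hMcard : Nat.card M = 4 * 2 := by
    have h1 := Subgroup.card_mul_index M
    rw [hMi, hcard] at h1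
    omega
  have hMna : ∃ a b : M, a * b ≠ b * a := by
    by_contra hcon
    push Not at hcon
    obtain ⟨a, b, hab⟩ := hna
    exact hab (comm_of_equiv_prod 2 e hcon a b)
  obtain ⟨a, b, hab⟩ := hMna
  have hab' : (a : H) * b ≠ b * a := fun h => hab (Subtype.ext h)
  have haZ : (a : H) ∉ Subgroup.center H :=
    fun hz => hab' ((Subgroup.mem_center_iff.mp hz b).symm)
  have hbZ : (b : H) ∉ Subgroup.center H :=
    fun hz => hab' ((Subgroup.mem_center_iff.mp hz a))
  have ha2 := hord _ haZ
  have hb2 := hord _ hbZ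
  have e1 : (b : H) ^ 2 = (a : H) ^ 2 := eq_of_card_two _ hD (hsq _) (hsq _) hb2 ha2
  have hc1 : ⁅(b : H), (a : H)⁆ ≠ 1 := by
    intro h1
    exact hab' (commutatorElement_eq_one_iff_commute.mp h1).eq.symm
  have e2 : ⁅(b : H), (a : H)⁆ = (a : H) ^ 2 :=
    eq_of_card_two _ hD (comm_mem _ _) (hsq _) hc1 ha2
  have ha4 : (a : H) ^ 4 = 1 := by
    have h1 := pow_eq_one_of_card _ 2 hD (hsq (a : H))
    rw [← pow_mul] at h1
    exact h1
  have hQ : Nonempty (↥M ≃* QuaternionGroup 2) := by
    apply Cfsg.Agent.Helper2.QLift.nonempty_mulEquiv_quaternionGroup 2 hMcard a b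
    · have h1 : ¬ a ^ 2 ^ 1 = 1 := by
        intro h
        apply ha2
        have := congrArg Subtype.val h
        simpa using this
      have h2 : a ^ 2 ^ (1 + 1) = 1 := by
        apply Subtype.ext
        rw [Subgroup.coe_pow]
        exact ha4
      have := orderOf_eq_prime_pow h1 h2
      rw [this]
      norm_num
    · apply Subtype.ext
      rw [Subgroup.coe_mul, Subgroup.coe_pow, ← sq]
      exact e1
    · apply Subtype.ext
      rw [Subgroup.coe_mul, Subgroup.coe_mul, Subgroup.coe_inv, Subgroup.coe_inv]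
      have h1 : (b : H) * a * (b : H)⁻¹ = ⁅(b : H), (a : H)⁆ * a := by
        rw [commutatorElement_def]; group
      rw [h1, e2]
      apply eq_inv_of_mul_eq_one_left
      rw [← pow_succ, ← pow_succ]
      exact ha4
    · intro hmem
      obtain ⟨k, hk⟩ := Subgroup.mem_zpowers_iff.mp hmem
      apply hab
      rw [← hk]
      exact ((Commute.refl a).zpow_right k).eq
  obtain ⟨eQ⟩ := hQ
  exact ⟨e.trans (MulEquiv.prodCongr eQ (MulEquiv.refl _))⟩

end Cfsg.Agent.Helper25.OrderP4
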