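import Mathlib
import Cfsg.Agent.Helper25.OrderP4d

set_option autoImplicit false

/-! Groups of order `p ^ 4`: the abelian case and the final classification. -/

namespace Cfsg.Agent.Helper25.OrderP4

open scoped commutatorElement
open AbRank2

/-- Splitting a cyclic factor of order `p` off an abelian `p`-group with more elements of order
dividing `p` than `p`-th powers. -/
theorem split_abelian {G : Type*} [Group G] [Finite G] (p : ℕ) [hp : Fact p.Prime]
    (hG : IsPGroup p G) (hcomm : ∀ a b : G, a * b = b * a)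
    (hlt : Nat.card (cpow hcomm p).range < Nat.card (cpow hcomm p).ker) :
    ∃ M : Subgroup G, M.index = p ∧ Nonempty (G ≃* ↥M × Multiplicative (ZMod p)) := by
  obtain ⟨u, huΩ, huP⟩ : ∃ u ∈ (cpow hcomm p).ker, u ∉ (cpow hcomm p).range := by
    rw [← SetLike.not_le_iff_exists]
    intro hle
    have := Subgroup.card_le_of_le hle
    omega
  have hfr : frattini G ≤ (cpow hcomm p).range := by
    apply Cfsg.Agent.Helper20.frattini_le_of_elemAb' p
    · intro a b
      have : ⁅a, b⁆ = 1 := by
        rw [commutatorElement_def, hcomm a b]; group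
      rw [this]; exact Subgroup.one_mem _
    · intro a
      exact ⟨a, rfl⟩
  obtain ⟨M, _, hMi, _, hM⟩ := split_central p hG u (fun h => hcomm u h) huΩ (fun h => huP (hfr h))
  exact ⟨M, hMi, hM⟩

/-- The abelian groups of type `(p², p, p)`. -/
theorem caseAb211 {H : Type*} [Group H] [Finite H] (p : ℕ) [hp : Fact p.Prime]
    (hcard : Nat.card H = p ^ 4) (hcomm : ∀ a b : H, a * b = b * a)
    (hΩ : Nat.card (cpow hcomm p).ker = p ^ 3) :
    Nonempty (H ≃* Multiplicative (ZMod (p ^ 2) × ZMod p × ZMod p)) := by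
  have hH : IsPGroup p H := IsPGroup.of_card hcard
  have hp1 := hp.out.one_lt
  have hprod : Nat.card (cpow hcomm p).ker * Nat.card (cpow hcomm p).range = Nat.card H :=
    OrderPCube.card_ker_mul_card_range p (fun x y => Commute.mul_pow (hcomm x y) p)
  have hP : Nat.card (cpow hcomm p).range = p := by
    rw [hΩ, hcard] at hprod
    have : p ^ 3 * Nat.card (cpow hcomm p).range = p ^ 3 * p := by rw [hprod]; ring
    exact Nat.eq_of_mul_eq_mul_left (pow_pos hp.out.pos 3) this
  have hp3 : p < p ^ 3 := by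
    calc p = p ^ 1 := (pow_one p).symm
      _ < p ^ 3 := Nat.pow_lt_pow_right hp1 (by norm_num)
  -- first splitting
  obtain ⟨M₁, hM₁i, ⟨e₁⟩⟩ := split_abelian p hH hcomm (by rw [hP, hΩ]; exact hp3)
  have hM₁card : Nat.card M₁ = p ^ 3 := by
    have h1 := Subgroup.card_mul_index M₁
    rw [hM₁i, hcard] at h1
    have : Nat.card M₁ * p = p ^ 3 * p := by rw [h1]; ring
    exact Nat.eq_of_mul_eq_mul_right hp.out.pos this
  have hM₁p : IsPGroup p M₁ := hH.to_subgroup M₁
  have hcomm₁ : ∀ a b : M₁, a * b = b * a := fun a b => Subtype.ext (hcomm _ _)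
  -- second splitting
  have hprod₁ : Nat.card (cpow hcomm₁ p).ker * Nat.card (cpow hcomm₁ p).range = Nat.card M₁ :=
    OrderPCube.card_ker_mul_card_range p (fun x y => Commute.mul_pow (hcomm₁ x y) p)
  have hP₁le : Nat.card (cpow hcomm₁ p).range ≤ p := by
    have h1 : ((cpow hcomm₁ p).range.map M₁.subtype) ≤ (cpow hcomm p).range := by
      rintro _ ⟨_, ⟨m, rfl⟩, rfl⟩
      exact ⟨(m : H), by rw [cpow_apply, cpow_apply, Subgroup.subtype_apply, Subgroup.coe_pow]⟩
    have h2 := Subgroup.card_le_of_le h1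
    rw [Subgroup.card_map_of_injective M₁.subtype_injective, hP] at h2
    exact h2
  obtain ⟨j, hj⟩ := IsPGroup.iff_card.mp (hM₁p.to_subgroup (cpow hcomm₁ p).range)
  obtain ⟨i, hi⟩ := IsPGroup.iff_card.mp (hM₁p.to_subgroup (cpow hcomm₁ p).ker)
  have hj1 : j ≤ 1 := by
    by_contra hcon
    push Not at hcon
    rw [hj] at hP₁le
    have : p ^ 1 < p ^ j := Nat.pow_lt_pow_right hp1 hcon
    rw [pow_one] at this
    omega
  have hij : i + j = 3 := by
    rw [hi, hj, hM₁card, ← pow_add] at hprod₁
    exact Nat.pow_right_injective hp.out.two_le hprod₁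
  obtain ⟨M₂, hM₂i, ⟨e₂⟩⟩ := split_abelian p hM₁p hcomm₁ (by
    rw [hi, hj]
    exact Nat.pow_lt_pow_right hp1 (by omega))
  have hM₂card : Nat.card M₂ = p ^ 2 := by
    have h1 := Subgroup.card_mul_index M₂
    rw [hM₂i, hM₁card] at h1
    have : Nat.card M₂ * p = p ^ 2 * p := by rw [h1]; ring
    exact Nat.eq_of_mul_eq_mul_right hp.out.pos this
  -- `M₂` is cyclic
  have hM₂ne : ∃ m : M₂, m ^ p ≠ 1 := by
    by_contra hcon
    push Not at hcon
    have hall : ∀ h : H, h ^ p = 1 := by
      intro h
      apply e₁.injective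
      rw [map_pow, map_one]
      apply Prod.ext
      · rw [Prod.pow_fst, Prod.fst_one]
        apply e₂.injective
        rw [map_pow, map_one]
        apply Prod.ext
        · rw [Prod.pow_fst, Prod.fst_one]; exact hcon _
        · rw [Prod.pow_snd, Prod.snd_one]; exact mult_zmod_pow p _
      · rw [Prod.pow_snd, Prod.snd_one]; exact mult_zmod_pow p _
    have htop : (cpow hcomm p).ker = ⊤ := by
      rw [eq_top_iff]
      intro x _
      exact hall x
    rw [htop, Subgroup.card_top, hcard] at hΩ
    have := Nat.pow_right_injective hp.out.two_le hΩ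
    omega
  obtain ⟨m, hm⟩ := hM₂ne
  have hom : orderOf m = Nat.card M₂ := by
    rw [hM₂card]
    have h1 : ¬ m ^ p ^ 1 = 1 := by rwa [pow_one]
    have h2 : m ^ p ^ (1 + 1) = 1 := by
      have : m ^ Nat.card M₂ = 1 := pow_card_eq_one'
      rwa [hM₂card] at this
    exact orderOf_eq_prime_pow h1 h2
  have hcyc : IsCyclic M₂ := isCyclic_of_orderOf_eq_card m hom
  have e₃ := zmodCyclicMulEquiv hcyc
  rw [hM₂card] at e₃
  -- assemble
  let f1 : H ≃* (↥M₂ × Multiplicative (ZMod p)) × Multiplicative (ZMod p) :=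
    e₁.trans (MulEquiv.prodCongr e₂ (MulEquiv.refl _))
  let f2 : (↥M₂ × Multiplicative (ZMod p)) × Multiplicative (ZMod p) ≃*
      (Multiplicative (ZMod (p ^ 2)) × Multiplicative (ZMod p)) × Multiplicative (ZMod p) :=
    MulEquiv.prodCongr (MulEquiv.prodCongr e₃.symm (MulEquiv.refl _)) (MulEquiv.refl _)
  let f3 : (Multiplicative (ZMod (p ^ 2)) × Multiplicative (ZMod p)) × Multiplicative (ZMod p) ≃*
      Multiplicative (ZMod (p ^ 2)) × (Multiplicative (ZMod p) × Multiplicative (ZMod p)) :=
    MulEquiv.prodAssoc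
  let f4 : Multiplicative (ZMod (p ^ 2)) × (Multiplicative (ZMod p) × Multiplicative (ZMod p)) ≃*
      Multiplicative (ZMod (p ^ 2)) × Multiplicative (ZMod p × ZMod p) :=
    MulEquiv.prodCongr (MulEquiv.refl _) (MulEquiv.prodMultiplicative _ _).symm
  let f5 : Multiplicative (ZMod (p ^ 2)) × Multiplicative (ZMod p × ZMod p) ≃*
      Multiplicative (ZMod (p ^ 2) × (ZMod p × ZMod p)) :=
    (MulEquiv.prodMultiplicative _ _).symm
  exact ⟨(((f1.trans f2).trans f3).trans f4).trans f5⟩

variable {H : Type*} [Group H] [Finite H]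

/-- Classification of the groups of order `p⁴` that can be essential subgroups. -/
theorem classify4 (p : ℕ) [hp : Fact p.Prime] (hcard : Nat.card H = p ^ 4)
    (hA : ¬ IsPGroup p (commutator (MulAut H)))
    (hGF : (∀ a b : H, a * b = b * a) → ∃ GF : Subgroup (MulAut H), p ∣ Nat.card GF ∧
      ∀ N : Subgroup GF, N.Normal → IsPGroup p N → N = ⊥) :
    ((∀ a b : H, a * b = b * a) ∧ ∀ x : H, x ^ p = 1) ∨
    Nonempty (H ≃* Multiplicative (ZMod (p ^ 2) × ZMod p × ZMod p)) ∨
    ((p = 2 ∨ p = 3) ∧ Nonempty (H ≃* Multiplicative (ZMod (p ^ 2) × ZMod (p ^ 2)))) ∨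
    (Odd p ∧ ∃ (E : Type) (_ : Group E) (_ : Finite E), Cfsg.IsExtraspecial p E ∧
      Nat.card E = p ^ 3 ∧ (∀ x : E, x ^ p = 1) ∧
      Nonempty (H ≃* E × Multiplicative (ZMod p))) ∨
    (p = 2 ∧ Nonempty (H ≃* QuaternionGroup 2 × Multiplicative (ZMod 2))) ∨
    ((∃ a b : H, a * b ≠ b * a) ∧ (∀ x : H, x ^ (p ^ 2) = 1) ∧
      IsCyclic (Subgroup.center H) ∧ Nat.card (Subgroup.center H) = p ^ 2) := by
  have hH : IsPGroup p H := IsPGroup.of_card hcard
  have hp1 := hp.out.one_lt
  by_cases hcomm : ∀ a b : H, a * b = b * a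
  · obtain ⟨GF, hpGF, hOp⟩ := hGF hcomm
    have hprod : Nat.card (cpow hcomm p).ker * Nat.card (cpow hcomm p).range = Nat.card H :=
      OrderPCube.card_ker_mul_card_range p (fun x y => Commute.mul_pow (hcomm x y) p)
    obtain ⟨r, hr⟩ := IsPGroup.iff_card.mp (hH.to_subgroup (cpow hcomm p).ker)
    have hr4 : r ≤ 4 := by
      have := Subgroup.card_le_card_group (cpow hcomm p).ker
      rw [hr, hcard] at this
      by_contra hcon
      push Not at hcon
      have := Nat.pow_lt_pow_right hp1 hcon
      omega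
    by_cases hr2 : r ≤ 2
    · -- rank at most two
      have hidx : (frattini H).index ≤ p ^ 2 := by
        have hle : (cpow hcomm p).range ≤ frattini H := by
          rintro _ ⟨x, rfl⟩
          exact Cfsg.Agent.Helper1.IsPGroup.pow_mem_frattini hH x
        have h1 : (frattini H).index ∣ (cpow hcomm p).range.index := Subgroup.index_dvd_of_le hle
        have h2 : (cpow hcomm p).range.index = p ^ r := by
          have h3 := Subgroup.card_mul_index (cpow hcomm p).range
          rw [← hprod, hr, mul_comm] at h3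
          exact Nat.eq_of_mul_eq_mul_right Nat.card_pos h3
        have h4 : (frattini H).index ≤ p ^ r := by
          rw [← h2]
          exact Nat.le_of_dvd (Nat.pos_of_ne_zero Subgroup.index_ne_zero_of_finite) h1
        exact h4.trans (Nat.pow_le_pow_right hp.out.pos hr2)
      rcases AbRank2.main p hH hcomm hidx hA GF hpGF hOp with ⟨_, hc2⟩ | ⟨hp3, k, ⟨e⟩⟩
      · exfalso
        rw [hcard] at hc2
        have := Nat.pow_right_injective hp.out.two_le hc2
        omega
      · right; right; left
        have hk : k = 2 := by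
          have h1 := Nat.card_congr e.toEquiv
          rw [hcard] at h1
          have h2 : Nat.card (Multiplicative (ZMod (p ^ k) × ZMod (p ^ k))) = p ^ k * p ^ k := by
            show Nat.card (ZMod (p ^ k) × ZMod (p ^ k)) = _
            rw [Nat.card_prod, Nat.card_zmod]
          rw [h2, ← pow_add] at h1
          have := Nat.pow_right_injective hp.out.two_le h1
          omega
        subst hk
        refine ⟨?_, ⟨e⟩⟩
        have := hp.out.two_le
        omega
    · push Not at hr2
      have hr34 : r = 3 ∨ r = 4 := by omega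
      rcases hr34 with rfl | rfl
      · right; left
        exact caseAb211 p hcard hcomm hr
      · left
        refine ⟨hcomm, fun x => ?_⟩
        have htop : (cpow hcomm p).ker = ⊤ := by
          rw [← Subgroup.card_eq_iff_eq_top, hr, hcard]
        have : x ∈ (cpow hcomm p).ker := htop ▸ Subgroup.mem_top x
        exact this
  · have hna : ∃ a b : H, a * b ≠ b * a := by
      by_contra hcon
      push Not at hcon
      exact hcomm hcon
    rcases card_cases p hcard hna with ⟨hZ, hD⟩ | ⟨hZ, hD⟩
    · exact absurd (caseZ2 p hcard hZ hD) hA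
    · rcases caseZ1 p hcard hZ hD hA with ⟨hcyc, hexp⟩ | ⟨_, hp2, hexp⟩ |
        ⟨_, hp2, hsq, hord⟩
      · right; right; right; right; right
        exact ⟨hna, hexp, hcyc, hZ⟩
      · right; right; right; left
        exact ⟨hp.out.odd_of_ne_two hp2, caseD p hcard hZ hD hexp hna⟩
      · right; right; right; right; left
        subst hp2
        exact ⟨rfl, caseE hcard hZ hD hsq hord hna⟩

end Cfsg.Agent.Helper25.OrderP4
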