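import Mathlib
import Cfsg.Agent.Helper13.PGDefs
import Cfsg.Agent.Helper25.PGN144A

/-!
# S2490 piece N144B: `n₁₁ = 144` forces simplicity
-/

set_option autoImplicit false

open Cfsg.Agent.Helper13.PG MulAction

namespace Cfsg.Agent.Helper25.PG

variable {G : Type*} [Group G]

theorem simple_of_card_sylow [Finite G] (hord : Nat.card G = 7920)
    (h11 : ∀ N : Subgroup G, N.Normal → N ≠ ⊥ → 11 ∣ Nat.card ↥N)
    (hcompl : ∀ (X : Sylow 11 G) (N : Subgroup G), N.Normal → (X : Subgroup G) ≤ N →
      N ⊓ Subgroup.normalizer ((X : Subgroup G) : Set G) = (X : Subgroup G) →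
      ∃ L : Subgroup G, L.Normal ∧ Nat.card ↥L * 11 = Nat.card ↥N)
    (hn : Nat.card (Sylow 11 G) = 144) : IsSimpleGroup G := by
  classical
  have hp : Fact (Nat.Prime 11) := ⟨by norm_num⟩
  have hnt : Nontrivial G := by
    rw [← Finite.one_lt_card_iff_nontrivial, hord]; norm_num
  refine ⟨fun N hNn => ?_⟩
  by_cases hN : N = ⊥
  · exact Or.inl hN
  right
  have hN11 : 11 ∣ Nat.card N := h11 N hNn hN
  -- a Sylow 11-subgroup of `G` inside `N`
  obtain ⟨y, hy⟩ := exists_prime_orderOf_dvd_card' 11 hN11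
  have hyG : orderOf (y : G) = 11 := by rw [Subgroup.orderOf_coe]; exact hy
  have hZcard : Nat.card (Subgroup.zpowers (y : G)) = 11 := by
    rw [Nat.card_zpowers, hyG]
  have hZN : Subgroup.zpowers (y : G) ≤ N := by
    rw [Subgroup.zpowers_le]; exact y.2
  have hZ' : Nat.card (Subgroup.zpowers (y : G)) = 11 ^ (Nat.card G).factorization 11 := by
    rw [hZcard, hord, factorization_7920_eleven, pow_one]
  set X : Sylow 11 G := Sylow.ofCard (Subgroup.zpowers (y : G)) hZ' with hX
  have hXcoe : (X : Subgroup G) = Subgroup.zpowers (y : G) := Sylow.coe_ofCard _ hZ'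
  have hXN : (X : Subgroup G) ≤ N := by rw [hXcoe]; exact hZN
  have hXcard : Nat.card (X : Subgroup G) = 11 := by rw [hXcoe]; exact hZcard
  set H := Subgroup.normalizer ((X : Subgroup G) : Set G) with hH
  have hfrat : H ⊔ N = ⊤ := Sylow.normalizer_sup_eq_top' X hXN
  have hidx : H.index = 144 := by
    rw [← hn]; exact (Sylow.card_eq_index_normalizer X).symm
  have hHcard : Nat.card H = 55 := by
    have h1 := Subgroup.card_mul_index H
    rw [hidx, hord] at h1
    omega
  have hXH : (X : Subgroup G) ≤ H := Subgroup.le_normalizer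
  have hXNH : (X : Subgroup G) ≤ N ⊓ H := le_inf hXN hXH
  have hd1 : 11 ∣ Nat.card (N ⊓ H : Subgroup G) := by
    rw [← hXcard]; exact Subgroup.card_dvd_of_le hXNH
  have hd2 : Nat.card (N ⊓ H : Subgroup G) ∣ 55 := by
    rw [← hHcard]; exact Subgroup.card_dvd_of_le inf_le_right
  have hcases : Nat.card (N ⊓ H : Subgroup G) = 11 ∨ Nat.card (N ⊓ H : Subgroup G) = 55 := by
    obtain ⟨k, hk⟩ := hd1
    rw [hk] at hd2 ⊢
    have hk5 : k ∣ 5 := by
      have : 11 * k ∣ 11 * 5 := by simpa using hd2
      exact Nat.dvd_of_mul_dvd_mul_left (by norm_num) this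
    have hkle : k ≤ 5 := Nat.le_of_dvd (by norm_num) hk5
    interval_cases k
    · simp at hk5
    · left; rfl
    · norm_num at hk5
    · norm_num at hk5
    · norm_num at hk5
    · right; rfl
  rcases hcases with hc | hc
  · -- `N ⊓ H = X`
    exfalso
    have heq : (X : Subgroup G) = N ⊓ H := by
      apply Subgroup.eq_of_le_of_card_ge hXNH
      rw [hc, hXcard]
    obtain ⟨L, hLn, hLcard⟩ := hcompl X N hNn hXN heq.symm
    by_cases hL : L = ⊥
    · -- `|N| = 11`, so `N = X` is normal
      rw [hL, Subgroup.card_bot, one_mul] at hLcard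
      have hNX : (X : Subgroup G) = N := by
        apply Subgroup.eq_of_le_of_card_ge hXN
        rw [← hLcard, hXcard]
      have hXn : (X : Subgroup G).Normal := by rw [hNX]; exact hNn
      have htop : H = ⊤ := Subgroup.normalizer_eq_top_iff.mpr hXn
      rw [htop, Subgroup.index_top] at hidx
      norm_num at hidx
    · have h1 : 11 ∣ Nat.card L := h11 L hLn hL
      have h2 : Nat.card N ∣ 7920 := hord ▸ Subgroup.card_subgroup_dvd_card N
      obtain ⟨j, hj⟩ := h1
      rw [← hLcard, hj] at h2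
      have : (121 : ℕ) ∣ 7920 := Dvd.dvd.trans ⟨j, by ring⟩ h2
      norm_num at this
  · -- `H ≤ N`
    have heq : N ⊓ H = H := by
      apply Subgroup.eq_of_le_of_card_ge inf_le_right
      rw [hc, hHcard]
    have hHN : H ≤ N := by rw [← heq]; exact inf_le_left
    rw [← hfrat]
    exact (sup_eq_right.mpr hHN).symm

end Cfsg.Agent.Helper25.PG
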