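import Mathlib
import Cfsg.Agent.Helper25.FusionQuotGroup
import Cfsg.Agent.Helper25.FusionGroup

set_option autoImplicit false

/-! Conjugation by `g` is an isomorphism of fusion systems `F_S(G) → F_{gSg⁻¹}(G)`. -/

namespace Cfsg.Agent.Helper25

open Cfsg Cfsg.FusionSystem

variable {G : Type*} [Group G]

theorem groupFusion_conj_isFactorSystem (S : Subgroup G) (g : G) :
    (groupFusionSystem S).IsFactorSystem ⊥ (conjHom S g) (groupFusionSystem (cj S g)) := by
  have hθv : ∀ s : S, conjHom S g s = g * (s : G) * g⁻¹ := fun s => rfl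
  refine ⟨bot_le, ?_, ?_, ?_⟩
  · intro s
    rw [hθv, Subgroup.mem_bot]
    constructor
    · intro h
      have : (s : G) = g⁻¹ * (g * (s : G) * g⁻¹) * g := by group
      rw [this, h]
      group
    · intro h
      rw [h]
      group
  · ext y
    constructor
    · rintro ⟨s, rfl⟩
      exact ⟨s, s.2, rfl⟩
    · rintro ⟨s, hs, rfl⟩
      exact ⟨⟨s, hs⟩, rfl⟩
  · intro P' φ'
    have hpre : ∀ x, x ∈ preimageAlong (conjHom S g) P' ↔ x ∈ S ∧ g * x * g⁻¹ ∈ P' := by
      intro x
      rw [mem_preimageAlong]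
      constructor
      · rintro ⟨hx, h⟩
        exact ⟨hx, h⟩
      · rintro ⟨hx, h⟩
        exact ⟨hx, h⟩
    have hPS : preimageAlong (conjHom S g) P' ≤ S := fun x hx => ((hpre x).mp hx).1
    constructor
    · rintro ⟨hP', hφ'S, h, hh⟩
      refine ⟨hP', ?_⟩
      have hval : ∀ x : preimageAlong (conjHom S g) P', conjHom _ (g⁻¹ * h * g) x ∈ S := by
        intro x
        obtain ⟨hxS, hxP'⟩ := (hpre _).mp x.2
        have h1 := hφ'S ⟨_, hxP'⟩
        rw [hh] at h1
        have h2 := mem_cj.mp h1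
        have e : conjHom _ (g⁻¹ * h * g) x = g⁻¹ * (h * (g * (x : G) * g⁻¹) * h⁻¹) * g := by
          show g⁻¹ * h * g * (x : G) * (g⁻¹ * h * g)⁻¹ = _
          group
        rw [e]
        exact h2
      refine ⟨conjHom _ (g⁻¹ * h * g), ⟨hPS, hval, _, fun x => rfl⟩, hPS, hval,
        fun x => ((hpre _).mp x.2).2, ?_⟩
      intro x
      rw [hh]
      show h * (g * (x : G) * g⁻¹) * h⁻¹ =
        g * (g⁻¹ * h * g * (x : G) * (g⁻¹ * h * g)⁻¹) * g⁻¹
      group
    · rintro ⟨hP', φ, ⟨-, hφS, k, hk⟩, hP, hφ, hP'', hind⟩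
      have key : ∀ y : P', ∃ x : preimageAlong (conjHom S g) P', (y : G) = g * (x : G) * g⁻¹ := by
        intro y
        have hyS := mem_cj.mp (hP' y.2)
        refine ⟨⟨g⁻¹ * y * g, (hpre _).mpr ⟨hyS, ?_⟩⟩, by group⟩
        have : g * (g⁻¹ * (y : G) * g) * g⁻¹ = y := by group
        rw [this]
        exact y.2
      have hform : ∀ y : P', φ' y = (g * k * g⁻¹) * (y : G) * (g * k * g⁻¹)⁻¹ ∧ φ' y ∈ cj S g := by
        intro y
        obtain ⟨x, hx⟩ := key y
        have h1 := hind x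
        have h2 : (⟨conjHom S g ⟨x, hP x.2⟩, hP'' x⟩ : P') = y := by
          apply Subtype.ext
          exact hx.symm
        rw [h2] at h1
        refine ⟨?_, ?_⟩
        · rw [h1, hθv]
          show g * (φ x) * g⁻¹ = _
          rw [hk, hx]
          group
        · rw [h1, hθv]
          exact conj_mem_cj (hφ x)
      exact ⟨hP', fun y => (hform y).2, g * k * g⁻¹, fun y => (hform y).1⟩

end Cfsg.Agent.Helper25
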