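import Mathlib
import Cfsg.Agent.Helper25.SLUnitriC

set_option autoImplicit false
set_option linter.unusedSimpArgs false

/-! Row and column groups (unipotent radicals of the two extreme maximal parabolics). -/

namespace Cfsg.Agent.Helper25.SLU

open Matrix Matrix.SpecialLinearGroup

variable {n : ℕ} {K : Type*} [Field K]

section transpose

theorem transpose_mul' (a b : Matrix.SpecialLinearGroup (Fin n) K) :
    (a * b).transpose = b.transpose * a.transpose := by
  apply Subtype.ext
  simp only [Matrix.SpecialLinearGroup.coe_transpose, Matrix.SpecialLinearGroup.coe_mul,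
    Matrix.transpose_mul]

theorem transpose_one' : (1 : Matrix.SpecialLinearGroup (Fin n) K).transpose = 1 := by
  apply Subtype.ext
  simp only [Matrix.SpecialLinearGroup.coe_transpose, Matrix.SpecialLinearGroup.coe_one,
    Matrix.transpose_one]

theorem transpose_transpose' (a : Matrix.SpecialLinearGroup (Fin n) K) :
    a.transpose.transpose = a := by
  apply Subtype.ext
  simp only [Matrix.SpecialLinearGroup.coe_transpose, Matrix.transpose_transpose]

theorem transpose_inv' (a : Matrix.SpecialLinearGroup (Fin n) K) :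
    (a⁻¹).transpose = (a.transpose)⁻¹ := by
  rw [eq_inv_iff_mul_eq_one, ← transpose_mul', mul_inv_cancel, transpose_one']

theorem transpose_pow' (a : Matrix.SpecialLinearGroup (Fin n) K) (k : ℕ) :
    (a ^ k).transpose = a.transpose ^ k := by
  induction k with
  | zero => rw [pow_zero, pow_zero, transpose_one']
  | succ k ih => rw [pow_succ, pow_succ', transpose_mul', ih]

theorem transpose_transvection {i j : Fin n} (h : i ≠ j) (c : K) :
    (transvection h c).transpose = transvection h.symm c := by
  apply Subtype.ext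
  simp only [Matrix.SpecialLinearGroup.coe_transpose, transvection_coe, Matrix.transpose_add,
    Matrix.transpose_one, Matrix.transpose_single]

end transpose

theorem transvection_pow {i j : Fin n} (h : i ≠ j) (c : K) (k : ℕ) :
    transvection h c ^ k = transvection h (k • c) := by
  induction k with
  | zero => rw [pow_zero, zero_smul, transvection_coeff_zero]
  | succ k ih => rw [pow_succ, ih, ← transvection_add, succ_nsmul]

theorem exists_orderOf_transvection (p : ℕ) [Fact p.Prime] [CharP K p] {i j : Fin n} (h : i ≠ j)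
    (c : K) : ∃ k : ℕ, orderOf (transvection h c) = p ^ k := by
  have h1 : transvection h c ^ p = 1 := by
    rw [transvection_pow, nsmul_eq_mul, CharP.cast_eq_zero, zero_mul, transvection_coeff_zero]
  rcases (Nat.dvd_prime (Fact.out : p.Prime)).mp (orderOf_dvd_of_pow_eq_one h1) with h2 | h2
  · exact ⟨0, by rw [h2, pow_zero]⟩
  · exact ⟨1, by rw [h2, pow_one]⟩

variable [Fintype K]

/-- Matrices all of whose rows except row `k` are those of the identity. -/
def rowGrp (n : ℕ) (K : Type*) [Field K] [Fintype K] (k : Fin n) :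
    Subgroup (Matrix.SpecialLinearGroup (Fin n) K) :=
  subgroupOfMul {g | g.1 k k = 1 ∧ ∀ r s, r ≠ k → g.1 r s = (1 : Matrix (Fin n) (Fin n) K) r s}
    ⟨Matrix.one_apply_eq k, fun _ _ _ => rfl⟩ (by
      rintro a b ⟨ha1, ha2⟩ ⟨hb1, hb2⟩
      refine ⟨?_, fun r s hr => ?_⟩
      · rw [Matrix.SpecialLinearGroup.coe_mul, Matrix.mul_apply, Finset.sum_eq_single k]
        · rw [ha1, hb1, one_mul]
        · intro c _ hc
          rw [hb2 c k hc, Matrix.one_apply_ne hc, mul_zero]
        · intro h
          exact absurd (Finset.mem_univ k) h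
      · rw [Matrix.SpecialLinearGroup.coe_mul, Matrix.mul_apply, Finset.sum_eq_single r]
        · rw [ha2 r r hr, Matrix.one_apply_eq, one_mul, hb2 r s hr]
        · intro c _ hc
          rw [ha2 r c hr, Matrix.one_apply_ne (Ne.symm hc), zero_mul]
        · intro h
          exact absurd (Finset.mem_univ r) h)

theorem mem_rowGrp {k : Fin n} {g : Matrix.SpecialLinearGroup (Fin n) K} :
    g ∈ rowGrp n K k ↔
      g.1 k k = 1 ∧ ∀ r s, r ≠ k → g.1 r s = (1 : Matrix (Fin n) (Fin n) K) r s := Iff.rfl

/-- Matrices all of whose columns except column `k` are those of the identity. -/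
def colGrp (n : ℕ) (K : Type*) [Field K] [Fintype K] (k : Fin n) :
    Subgroup (Matrix.SpecialLinearGroup (Fin n) K) :=
  subgroupOfMul {g | g.transpose ∈ rowGrp n K k} (by
      show (1 : Matrix.SpecialLinearGroup (Fin n) K).transpose ∈ rowGrp n K k
      rw [transpose_one']
      exact one_mem _) (by
      intro a b ha hb
      show (a * b).transpose ∈ rowGrp n K k
      rw [transpose_mul']
      exact mul_mem hb ha)

theorem mem_colGrp_iff {k : Fin n} {g : Matrix.SpecialLinearGroup (Fin n) K} :
    g ∈ colGrp n K k ↔ g.transpose ∈ rowGrp n K k := Iff.rfl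

theorem mem_colGrp {k : Fin n} {g : Matrix.SpecialLinearGroup (Fin n) K} :
    g ∈ colGrp n K k ↔
      g.1 k k = 1 ∧ ∀ r s, s ≠ k → g.1 r s = (1 : Matrix (Fin n) (Fin n) K) r s := by
  rw [mem_colGrp_iff, mem_rowGrp]
  simp only [Matrix.SpecialLinearGroup.coe_transpose, Matrix.transpose_apply]
  constructor
  · rintro ⟨h1, h2⟩
    refine ⟨h1, fun r s hs => ?_⟩
    rw [h2 s r hs, Matrix.one_apply, Matrix.one_apply]
    simp only [eq_comm]
  · rintro ⟨h1, h2⟩
    refine ⟨h1, fun r s hr => ?_⟩
    rw [h2 s r hr, Matrix.one_apply, Matrix.one_apply]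
    simp only [eq_comm]

theorem rowGrp_le_unitri {a : Fin n} (ha : ∀ i, a ≤ i) : rowGrp n K a ≤ unitri n K := by
  rintro g ⟨h1, h2⟩
  refine ⟨fun i j hji => ?_, fun i => ?_⟩
  · have hia : i ≠ a := fun h => absurd (ha j) (not_le.mpr (h ▸ hji))
    rw [h2 i j hia, Matrix.one_apply_ne (ne_of_gt hji)]
  · by_cases hia : i = a
    · rw [hia, h1]
    · rw [h2 i i hia, Matrix.one_apply_eq]

theorem colGrp_le_unitri {b : Fin n} (hb : ∀ i, i ≤ b) : colGrp n K b ≤ unitri n K := by
  intro g hg
  obtain ⟨h1, h2⟩ := mem_colGrp.mp hg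
  refine ⟨fun i j hji => ?_, fun i => ?_⟩
  · have hjb : j ≠ b := fun h => absurd (hb i) (not_le.mpr (h ▸ hji))
    rw [h2 i j hjb, Matrix.one_apply_ne (ne_of_gt hji)]
  · by_cases hib : i = b
    · rw [hib, h1]
    · rw [h2 i i hib, Matrix.one_apply_eq]

theorem transvection_mem_rowGrp {k j : Fin n} (h : k ≠ j) (c : K) :
    transvection h c ∈ rowGrp n K k := by
  rw [mem_rowGrp, transvection_coe]
  refine ⟨?_, fun r s hr => ?_⟩
  · rw [Matrix.add_apply, Matrix.one_apply_eq, Matrix.single_apply, if_neg, add_zero]
    rintro ⟨-, h2⟩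
    exact h h2.symm
  · rw [Matrix.add_apply, Matrix.single_apply, if_neg, add_zero]
    rintro ⟨h1, -⟩
    exact hr h1.symm

/-- `p`-elements centralizing the row group lie in it. -/
theorem mem_rowGrp_of_centralizer (p : ℕ) [Fact p.Prime] [CharP K p] {k j₀ : Fin n}
    (hj₀ : j₀ ≠ k) {y : Matrix.SpecialLinearGroup (Fin n) K}
    (hy : ∀ r ∈ rowGrp n K k, y * r = r * y) {m : ℕ} (hm : y ^ (p ^ m) = 1) :
    y ∈ rowGrp n K k := by
  have hent : ∀ j, j ≠ k → (∀ s, s ≠ j → y.1 j s = 0) ∧ y.1 k k = y.1 j j := by
    intro j hj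
    have hm := comm_single_of_comm_transvection (Ne.symm hj)
      (hy _ (transvection_mem_rowGrp (Ne.symm hj) 1))
    exact ⟨(entries_of_comm hm).2.1, (entries_of_comm hm).2.2⟩
  have hpow : ∀ N : ℕ, ∀ j, j ≠ k → ∀ s,
      (y.1 ^ N) j s = (y.1 k k) ^ N * (1 : Matrix (Fin n) (Fin n) K) j s := by
    intro N
    induction N with
    | zero =>
      intro j _ s
      rw [pow_zero, pow_zero, one_mul]
    | succ N ih =>
      intro j hj s
      rw [pow_succ', Matrix.mul_apply, Finset.sum_eq_single j]
      · rw [ih j hj s, ← (hent j hj).2, pow_succ']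
        ring
      · intro c _ hc
        rw [(hent j hj).1 c hc, zero_mul]
      · intro h
        exact absurd (Finset.mem_univ j) h
  have hl : y.1 k k = 1 := by
    have h1 := hpow (p ^ m) j₀ hj₀ j₀
    rw [← Matrix.SpecialLinearGroup.coe_pow, hm, Matrix.SpecialLinearGroup.coe_one,
      Matrix.one_apply_eq, mul_one] at h1
    exact eq_one_of_pow_eq_one p h1.symm
  rw [mem_rowGrp]
  refine ⟨hl, fun r s hr => ?_⟩
  by_cases hrs : r = s
  · subst hrs
    rw [← (hent r hr).2, hl, Matrix.one_apply_eq]
  · rw [(hent r hr).1 s (Ne.symm hrs), Matrix.one_apply_ne hrs]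

theorem transvection_conj_mem_rowGrp {k i j : Fin n} (hij : i ≠ j) (hik : i ≠ k) (hjk : j ≠ k)
    (c : K) {h : Matrix.SpecialLinearGroup (Fin n) K} (hh : h ∈ rowGrp n K k) :
    transvection hij c * h * (transvection hij c)⁻¹ ∈ rowGrp n K k := by
  obtain ⟨h1, h2⟩ := mem_rowGrp.mp hh
  have hA : ∀ r s, r ≠ k → (transvection hij c * h).1 r s = (transvection hij c).1 r s := by
    intro r s hr
    rw [transvection_mul_apply, h2 r s hr, h2 j s hjk, transvection_coe, Matrix.add_apply,
      Matrix.single_apply, Matrix.one_apply (i := j)]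
    by_cases hri : r = i
    · subst hri
      by_cases hjs : j = s
      · simp [hjs]
      · simp [hjs]
    · have : ¬ (i = r ∧ j = s) := fun h => hri h.1.symm
      rw [if_neg hri, if_neg this]
  rw [mem_rowGrp]
  refine ⟨?_, fun r s hr => ?_⟩
  · rw [Matrix.SpecialLinearGroup.coe_mul, Matrix.mul_apply, Finset.sum_eq_single k]
    · rw [transvection_mul_apply, if_neg (Ne.symm hik), add_zero, h1, one_mul, transvection_inv,
        transvection_coe, Matrix.add_apply, Matrix.one_apply_eq, Matrix.single_apply, if_neg,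
        add_zero]
      rintro ⟨-, h⟩
      exact hjk h
    · intro c' _ hc'
      rw [transvection_inv, transvection_coe, Matrix.add_apply, Matrix.one_apply_ne hc',
        Matrix.single_apply, if_neg, add_zero, mul_zero]
      rintro ⟨-, h⟩
      exact hjk h
    · intro h
      exact absurd (Finset.mem_univ k) h
  · rw [Matrix.SpecialLinearGroup.coe_mul, Matrix.mul_apply]
    simp_rw [hA r _ hr]
    rw [← Matrix.mul_apply, ← Matrix.SpecialLinearGroup.coe_mul, mul_inv_cancel,
      Matrix.SpecialLinearGroup.coe_one]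

theorem transvection_mem_normalizer_rowGrp {k i j : Fin n} (hij : i ≠ j) (hik : i ≠ k)
    (hjk : j ≠ k) (c : K) :
    transvection hij c ∈
      Subgroup.normalizer (rowGrp n K k : Set (Matrix.SpecialLinearGroup (Fin n) K)) := by
  rw [Subgroup.mem_normalizer_iff]
  intro h
  constructor
  · exact transvection_conj_mem_rowGrp hij hik hjk c
  · intro hh
    have := transvection_conj_mem_rowGrp hij hik hjk (-c) hh
    rw [← transvection_inv] at this
    have e : (transvection hij c)⁻¹ * (transvection hij c * h * (transvection hij c)⁻¹) *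
        ((transvection hij c)⁻¹)⁻¹ = h := by group
    rwa [e] at this

/-- `p`-elements centralizing the column group lie in it. -/
theorem mem_colGrp_of_centralizer (p : ℕ) [Fact p.Prime] [CharP K p] {k j₀ : Fin n}
    (hj₀ : j₀ ≠ k) {y : Matrix.SpecialLinearGroup (Fin n) K}
    (hy : ∀ r ∈ colGrp n K k, y * r = r * y) {m : ℕ} (hm : y ^ (p ^ m) = 1) :
    y ∈ colGrp n K k := by
  rw [mem_colGrp_iff]
  apply mem_rowGrp_of_centralizer p hj₀ (m := m)
  · intro r hr
    have hr' : r.transpose ∈ colGrp n K k := by
      rw [mem_colGrp_iff, transpose_transpose']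
      exact hr
    have := congrArg Matrix.SpecialLinearGroup.transpose (hy _ hr')
    rw [transpose_mul', transpose_mul', transpose_transpose'] at this
    exact this.symm
  · rw [← transpose_pow', hm, transpose_one']

theorem transvection_conj_mem_colGrp {k i j : Fin n} (hij : i ≠ j) (hik : i ≠ k) (hjk : j ≠ k)
    (c : K) {h : Matrix.SpecialLinearGroup (Fin n) K} (hh : h ∈ colGrp n K k) :
    transvection hij c * h * (transvection hij c)⁻¹ ∈ colGrp n K k := by
  rw [mem_colGrp_iff, transpose_mul', transpose_mul', transpose_inv', transpose_transvection,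
    transvection_inv]
  have := transvection_conj_mem_rowGrp hij.symm hjk hik (-c) (mem_colGrp_iff.mp hh)
  rw [transvection_inv, neg_neg, mul_assoc] at this
  exact this

theorem transvection_mem_normalizer_colGrp {k i j : Fin n} (hij : i ≠ j) (hik : i ≠ k)
    (hjk : j ≠ k) (c : K) :
    transvection hij c ∈
      Subgroup.normalizer (colGrp n K k : Set (Matrix.SpecialLinearGroup (Fin n) K)) := by
  rw [Subgroup.mem_normalizer_iff]
  intro h
  constructor
  · exact transvection_conj_mem_colGrp hij hik hjk c
  · intro hh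
    have := transvection_conj_mem_colGrp hij hik hjk (-c) hh
    rw [← transvection_inv] at this
    have e : (transvection hij c)⁻¹ * (transvection hij c * h * (transvection hij c)⁻¹) *
        ((transvection hij c)⁻¹)⁻¹ = h := by group
    rwa [e] at this

end Cfsg.Agent.Helper25.SLU
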