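import Mathlib
import Cfsg.Agent.Helper25.SLUnitriD
import Cfsg.Agent.Helper2.Transvec

set_option autoImplicit false

/-! The upper triangular matrices are generated by `U` and the torus elements coming from
`O^{p'}(N(R))` for the row and column groups `R`. -/

namespace Cfsg.Agent.Helper25.SLU

open Matrix Matrix.SpecialLinearGroup

variable {n : ℕ} {K : Type*} [Field K] [Fintype K]

/-- The generating set for the automizer of `U`. -/
def goodSet (p : ℕ) (n : ℕ) (K : Type*) [Field K] [Fintype K] (a b : Fin n) :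
    Set (Matrix.SpecialLinearGroup (Fin n) K) :=
  {g | g ∈ upTri n K ∧ ∃ R : Subgroup (Matrix.SpecialLinearGroup (Fin n) K),
    (R = unitri n K ∨ R = rowGrp n K a ∨ R = colGrp n K b) ∧
    g ∈ Subgroup.closure {h | h ∈ Subgroup.normalizer (R : Set _) ∧ ∃ k : ℕ, orderOf h = p ^ k}}

omit [Fintype K] in
theorem diag2n_mem_closure (p : ℕ) [Fact p.Prime] [CharP K p]
    (R : Subgroup (Matrix.SpecialLinearGroup (Fin n) K)) {i j : Fin n} (hij : i ≠ j)
    (hR : ∀ c : K, transvection hij c ∈ Subgroup.normalizer (R : Set _) ∧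
      transvection hij.symm c ∈ Subgroup.normalizer (R : Set _)) (c : K) (hc : c ≠ 0) :
    diag2n hij c hc ∈
      Subgroup.closure {h | h ∈ Subgroup.normalizer (R : Set _) ∧ ∃ k : ℕ, orderOf h = p ^ k} := by
  have h1 : ∀ d : K, transvection hij d ∈
      Subgroup.closure {h | h ∈ Subgroup.normalizer (R : Set _) ∧ ∃ k : ℕ, orderOf h = p ^ k} :=
    fun d => Subgroup.subset_closure ⟨(hR d).1, exists_orderOf_transvection p hij d⟩
  have h2 : ∀ d : K, transvection hij.symm d ∈
      Subgroup.closure {h | h ∈ Subgroup.normalizer (R : Set _) ∧ ∃ k : ℕ, orderOf h = p ^ k} :=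
    fun d => Subgroup.subset_closure ⟨(hR d).2, exists_orderOf_transvection p hij.symm d⟩
  rw [Cfsg.Agent.Helper2.diag2n_eq_prod_transvections hij c hc]
  exact mul_mem (mul_mem (mul_mem (h1 _) (h2 _)) (h1 _)) (mul_mem (mul_mem (h1 _) (h2 _)) (h1 _))

theorem upTri_le_closure_goodSet (p : ℕ) [Fact p.Prime] [CharP K p] {a m b : Fin n}
    (ham : a < m) (hmb : m < b) : upTri n K ≤ Subgroup.closure (goodSet p n K a b) := by
  intro g hg
  have hdet : Matrix.det (Matrix.diagonal (fun i => g.1 i i)) = 1 := by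
    rw [Matrix.det_diagonal, ← Matrix.det_of_isUpperTriangular (M := g.1) (fun i j h => hg i j h)]
    exact g.2
  obtain ⟨t, ht⟩ : ∃ t : Matrix.SpecialLinearGroup (Fin n) K,
      t = ⟨Matrix.diagonal (fun i => g.1 i i), hdet⟩ := ⟨_, rfl⟩
  have ht1 : t.1 = Matrix.diagonal (fun i => g.1 i i) := by rw [ht]
  have htup : t ∈ upTri n K := by
    intro i j hji
    rw [ht1]
    exact Matrix.diagonal_apply_ne _ (ne_of_gt hji)
  have hu : t⁻¹ * g ∈ unitri n K := by
    have h1 : t⁻¹ ∈ upTri n K := inv_mem htup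
    refine ⟨mul_mem h1 hg, fun i => ?_⟩
    rw [Matrix.SpecialLinearGroup.coe_mul, IsUp.mul_diag h1 hg]
    have e : g.1 i i = t.1 i i := by
      rw [ht1, Matrix.diagonal_apply_eq]
    rw [e, ← IsUp.mul_diag h1 htup, ← Matrix.SpecialLinearGroup.coe_mul, inv_mul_cancel,
      Matrix.SpecialLinearGroup.coe_one, Matrix.one_apply_eq]
  have hg' : g = t * (t⁻¹ * g) := by group
  rw [hg']
  apply mul_mem
  · rw [ht, diag_eq_diag2n_prod m (fun i => g.1 i i) hdet]
    refine Finset.noncommProd_induction _ _ _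
      (fun x => x ∈ Subgroup.closure (goodSet p n K a b)) (fun _ _ => mul_mem) (one_mem _) ?_
    intro i hi
    have him : i ≠ m := (Finset.mem_filter.1 hi).2
    simp only [dif_pos him]
    apply Subgroup.subset_closure
    refine ⟨?_, ?_⟩
    · intro r s hsr
      rw [diag2n_coe]
      exact Matrix.diagonal_apply_ne _ (ne_of_gt hsr)
    · by_cases hia : i = a
      · refine ⟨colGrp n K b, Or.inr (Or.inr rfl), ?_⟩
        have hib : i ≠ b := by
          rw [hia]
          exact ne_of_lt (ham.trans hmb)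
        apply diag2n_mem_closure p _ him
        intro c
        exact ⟨transvection_mem_normalizer_colGrp him hib (ne_of_lt hmb) c,
          transvection_mem_normalizer_colGrp him.symm (ne_of_lt hmb) hib c⟩
      · refine ⟨rowGrp n K a, Or.inr (Or.inl rfl), ?_⟩
        apply diag2n_mem_closure p _ him
        intro c
        exact ⟨transvection_mem_normalizer_rowGrp him hia (ne_of_gt ham) c,
          transvection_mem_normalizer_rowGrp him.symm (ne_of_gt ham) hia c⟩
  · apply Subgroup.subset_closure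
    refine ⟨unitri_le_upTri hu, unitri n K, Or.inl rfl,
      Subgroup.subset_closure ⟨Subgroup.le_normalizer hu, ?_⟩⟩
    obtain ⟨k, hk⟩ := (IsPGroup.iff_orderOf.mp (isPGroup_unitri (n := n) (K := K) p)) ⟨_, hu⟩
    exact ⟨k, by rw [← hk, Subgroup.orderOf_mk]⟩

end Cfsg.Agent.Helper25.SLU
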