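import Mathlib
import Cfsg.Agent.Helper25.SLUnitriE
import Cfsg.Agent.Helper25.PSLFusionA
import Cfsg.Agent.Helper25.PSLFusionB
import Cfsg.Agent.Helper25.FusionIso4

set_option autoImplicit false

/-! The `p`-fusion system of `SL_n(K)` and `PSL_n(K)` (`n ≥ 3`, `char K = p`) is simple. -/

namespace Cfsg.Agent.Helper25

open Cfsg Cfsg.FusionSystem Matrix Matrix.SpecialLinearGroup SLU

variable {n : ℕ} {K : Type*} [Field K] [Fintype K]

theorem sl_isSimple_unitri (p : ℕ) [Fact p.Prime] [CharP K p] (hn : 3 ≤ n)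
    (P : Sylow p (Matrix.SpecialLinearGroup (Fin n) K)) (hP : (P : Subgroup _) = unitri n K) :
    (groupFusionSystem (P : Subgroup (Matrix.SpecialLinearGroup (Fin n) K))).IsSimple p := by
  obtain ⟨a, m, b, ha, hb, ham, hmb⟩ : ∃ a m b : Fin n, (∀ i, a ≤ i) ∧ (∀ i, i ≤ b) ∧ a < m ∧
      m < b := by
    refine ⟨⟨0, by omega⟩, ⟨1, by omega⟩, ⟨n - 1, by omega⟩, fun i => ?_, fun i => ?_, ?_, ?_⟩
    · exact Fin.le_def.mpr (Nat.zero_le _)
    · apply Fin.le_def.mpr
      have := i.isLt
      show i.val ≤ n - 1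
      omega
    · apply Fin.lt_def.mpr
      show 0 < 1
      omega
    · apply Fin.lt_def.mpr
      show 1 < n - 1
      omega
  apply groupFusionSystem_isSimple_of_centric_gen p P
  · rw [hP]
    intro h
    have h1 : transvection (ne_of_lt ham) (1 : K) ∈ unitri n K := transvection_mem_unitri ham 1
    rw [h, Subgroup.mem_bot] at h1
    have h2 : (transvection (ne_of_lt ham) (1 : K)).1 a m = (1 : Matrix (Fin n) (Fin n) K) a m := by
      rw [h1]
      rfl
    rw [transvection_coe, Matrix.add_apply, Matrix.single_apply_same, Matrix.one_apply_ne (ne_of_lt ham),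
      zero_add] at h2
    exact one_ne_zero h2
  · intro T hTS hcl
    by_cases hT : T = ⊥
    · exact Or.inl hT
    · right
      rw [hP] at hTS hcl ⊢
      exact eq_unitri_of_closed p ha hb ham hmb T hTS hT hcl
  · rw [hP]
    intro g hg
    have h1 := upTri_le_closure_goodSet p ham hmb (normalizer_unitri_le hg)
    refine Subgroup.closure_mono ?_ h1
    rintro x ⟨hxup, R, hR, hxR⟩
    refine ⟨upTri_le_normalizer hxup, R, ?_, hxR⟩
    rcases hR with rfl | rfl | rfl
    · exact isCentric_self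
    · exact isCentric_of_pElements p (isPGroup_unitri p) (rowGrp_le_unitri ha)
        (fun y hy ⟨k, hk⟩ => mem_rowGrp_of_centralizer p (j₀ := m) (ne_of_gt ham)
          (fun r hr => (Subgroup.mem_centralizer_iff.mp hy r hr).symm) hk)
    · exact isCentric_of_pElements p (isPGroup_unitri p) (colGrp_le_unitri hb)
        (fun y hy ⟨k, hk⟩ => mem_colGrp_of_centralizer p (j₀ := m) (ne_of_lt hmb)
          (fun r hr => (Subgroup.mem_centralizer_iff.mp hy r hr).symm) hk)

/-- The `p`-fusion system of `SL_n(K)` is simple on every Sylow `p`-subgroup. -/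
theorem sl_isSimple (p : ℕ) [Fact p.Prime] [CharP K p] (hn : 3 ≤ n)
    (S : Sylow p (Matrix.SpecialLinearGroup (Fin n) K)) :
    (groupFusionSystem (S : Subgroup (Matrix.SpecialLinearGroup (Fin n) K))).IsSimple p := by
  obtain ⟨P, hP⟩ := exists_sylow_unitri (n := n) (K := K) p
  have h1 := sl_isSimple_unitri p hn P hP
  obtain ⟨g, hg⟩ := MulAction.exists_smul_eq (Matrix.SpecialLinearGroup (Fin n) K) P S
  have hS : (S : Subgroup (Matrix.SpecialLinearGroup (Fin n) K)) = cj (P : Subgroup _) g := by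
    rw [← hg]
    rfl
  rw [hS]
  exact iso_isSimple p P.isPGroup' (groupFusion_conj_isFactorSystem (P : Subgroup _) g) h1

/-- The `p`-fusion system of `PSL_n(K)` is simple on every Sylow `p`-subgroup. -/
theorem psl_isSimple (p : ℕ) [Fact p.Prime] [CharP K p] (hn : 3 ≤ n)
    (S : Sylow p (Matrix.ProjectiveSpecialLinearGroup (Fin n) K)) :
    (groupFusionSystem
      (S : Subgroup (Matrix.ProjectiveSpecialLinearGroup (Fin n) K))).IsSimple p := by
  have hsurj : Function.Surjective
      (QuotientGroup.mk' (Subgroup.center (Matrix.SpecialLinearGroup (Fin n) K))) :=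
    QuotientGroup.mk'_surjective _
  obtain ⟨S₀, hS₀⟩ := Sylow.mapSurjective_surjective hsurj p S
  have hcoe : (S : Subgroup (Matrix.ProjectiveSpecialLinearGroup (Fin n) K)) =
      (S₀ : Subgroup (Matrix.SpecialLinearGroup (Fin n) K)).map
        (QuotientGroup.mk' (Subgroup.center (Matrix.SpecialLinearGroup (Fin n) K))) := by
    rw [← hS₀]
    rfl
  have hfac := groupFusion_isFactorSystem p S₀
    (Subgroup.center (Matrix.SpecialLinearGroup (Fin n) K))
  have hbot : (S₀ : Subgroup (Matrix.SpecialLinearGroup (Fin n) K)) ⊓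
      Subgroup.center (Matrix.SpecialLinearGroup (Fin n) K) = ⊥ := by
    rw [eq_bot_iff]
    rintro z ⟨hzS, hzZ⟩
    obtain ⟨r, -, hz⟩ := Matrix.SpecialLinearGroup.mem_center_iff.mp hzZ
    obtain ⟨k, hk⟩ := S₀.isPGroup' ⟨z, hzS⟩
    have hk' : z ^ (p ^ k) = 1 := congrArg Subtype.val hk
    have h1 : (Matrix.scalar (Fin n) r) ^ (p ^ k) = 1 := by
      rw [hz, ← Matrix.SpecialLinearGroup.coe_pow, hk', Matrix.SpecialLinearGroup.coe_one]
    rw [← map_pow] at h1
    have h2 : r ^ (p ^ k) = 1 := by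
      have := congrFun (congrFun h1 ⟨0, by omega⟩) ⟨0, by omega⟩
      rw [Matrix.scalar_apply, Matrix.diagonal_apply_eq, Matrix.one_apply_eq] at this
      exact this
    have h3 : r = 1 := SLU.eq_one_of_pow_eq_one p h2
    rw [Subgroup.mem_bot]
    apply Subtype.ext
    rw [← hz, h3, map_one, Matrix.SpecialLinearGroup.coe_one]
  rw [hbot] at hfac
  rw [hcoe]
  exact iso_isSimple p S₀.isPGroup' hfac (sl_isSimple p hn S₀)

end Cfsg.Agent.Helper25
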