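import Mathlib
import Cfsg.Prelude.Def_LocalEven
import Cfsg.Prelude.Def_TwoFusion
import Cfsg.Prelude.Def_Transfer
import Cfsg.Agent.Helper14.QdOver4

/-! # Pushing up, corollary layer for S2766 (helper25), abstract tail, part A:
* `S2766_tail_aux_transfer`: a central `p`-subgroup `A` of a finite group with abelian Sylow `p`-subgroups and
  `G = G' A` has a normal complement (the kernel of the transfer);
* `S2766_tail_aux_Theta`: the homomorphism `Γ → F² ⋊ SL₂(F)` attached to a `1`-cocycle. -/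

set_option autoImplicit false

namespace Cfsg.Agent.PU

open Subgroup
open scoped commutatorElement

section Transfer

variable {G : Type*} [Group G] [Finite G] {p : ℕ} [Fact p.Prime]

open scoped IsMulCommutative in
/-- a central `p`-subgroup `A` of a finite group with abelian Sylow `p`-subgroups and `G = G' A` has a normal
complement -/
theorem S2766_tail_aux_transfer (P : Sylow p G)
    (hP : ∀ a ∈ (P : Subgroup G), ∀ b ∈ (P : Subgroup G), a * b = b * a)
    (A : Subgroup G) (hAc : A ≤ Subgroup.center G) (hAp : IsPGroup p ↥A)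
    (hgen : commutator G ⊔ A = ⊤) :
    ∃ N : Subgroup G, N.Normal ∧ N ⊓ A = ⊥ ∧ N ⊔ A = ⊤ := by
  haveI : IsMulCommutative ↥(P : Subgroup G) := ⟨⟨fun a b => Subtype.ext (hP a a.2 b b.2)⟩⟩
  let τ : G →* ↥(P : Subgroup G) := MonoidHom.transfer (MonoidHom.id ↥(P : Subgroup G))
  refine ⟨τ.ker, MonoidHom.normal_ker τ, ?_, ?_⟩
  · rw [eq_bot_iff]
    rintro a ⟨ha1, ha2⟩
    rw [Subgroup.mem_bot]
    have hac : a ∈ Subgroup.center G := hAc ha2
    have key : ∀ (k : ℕ) (g₀ : G), g₀⁻¹ * a ^ k * g₀ ∈ (P : Subgroup G) → g₀⁻¹ * a ^ k * g₀ = a ^ k := by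
      intro k g₀ _
      have hk : a ^ k ∈ Subgroup.center G := Subgroup.pow_mem _ hac k
      have := Subgroup.mem_center_iff.1 hk g₀
      rw [mul_assoc, ← this, ← mul_assoc, inv_mul_cancel, one_mul]
    have h1 := MonoidHom.transfer_eq_pow (MonoidHom.id ↥(P : Subgroup G)) a key
    have h2 : τ a = 1 := ha1
    have h3 : a ^ (P : Subgroup G).index = 1 := by
      have : τ a = ⟨a ^ (P : Subgroup G).index, MonoidHom.transfer_eq_pow_aux a key⟩ := h1
      rw [h2] at this
      exact (congrArg Subtype.val this).symm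
    obtain ⟨k, hk⟩ := hAp ⟨a, ha2⟩
    have h4 : a ^ p ^ k = 1 := by
      have := congrArg Subtype.val hk
      simpa using this
    have hcop : Nat.Coprime (p ^ k) (P : Subgroup G).index := by
      apply Nat.Coprime.pow_left
      exact (Nat.Prime.coprime_iff_not_dvd Fact.out).2 P.not_dvd_index
    have h5 : orderOf a ∣ Nat.gcd (p ^ k) (P : Subgroup G).index :=
      Nat.dvd_gcd (orderOf_dvd_of_pow_eq_one h4) (orderOf_dvd_of_pow_eq_one h3)
    rw [hcop.gcd_eq_one, Nat.dvd_one, orderOf_eq_one_iff] at h5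
    exact h5
  · rw [eq_top_iff, ← hgen]
    exact sup_le ((Abelianization.commutator_subset_ker τ).trans le_sup_left) le_sup_right

end Transfer

section Theta

open Cfsg.Agent.Helper14

variable {F : Type*} [Field F]

theorem S2766_tail_aux_tau_add (a b : Fin 2 → F) : affTau (a + b) = affTau a * affTau b := by
  apply eq_of_mem_ker_of_affVec_eq (affTau_mem_ker _)
    (Subgroup.mul_mem _ (affTau_mem_ker a) (affTau_mem_ker b))
  rw [affVec_mul_of_mem_ker (affTau_mem_ker a), affVec_affTau, affVec_affTau, affVec_affTau]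

theorem S2766_tail_aux_tau_zero : affTau (0 : Fin 2 → F) = 1 := by
  apply eq_of_mem_ker_of_affVec_eq (affTau_mem_ker _) (Subgroup.one_mem _)
  rw [affVec_affTau]
  ext i
  fin_cases i <;> simp [affVec, affMat3_one]

theorem S2766_tail_aux_iota_tau (N : Matrix.SpecialLinearGroup (Fin 2) F) (v : Fin 2 → F) :
    affIota F N * affTau v = affTau ((N : Matrix (Fin 2) (Fin 2) F).mulVec v) * affIota F N := by
  have hw : affIota F N * affTau v * (affIota F N)⁻¹ ∈ (affPi F).ker :=
    (MonoidHom.normal_ker (affPi F)).conj_mem _ (affTau_mem_ker v) _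
  have h1 := affVec_conj (l := affIota F N) (v := affTau v) ⟨N, rfl⟩ (affTau_mem_ker v) hw rfl
  rw [affPi_affIota, affVec_affTau] at h1
  have h2 : affIota F N * affTau v * (affIota F N)⁻¹ = affTau ((N : Matrix (Fin 2) (Fin 2) F).mulVec v) := by
    apply eq_of_mem_ker_of_affVec_eq hw (affTau_mem_ker _)
    rw [h1, affVec_affTau]
  rw [← h2]
  group

variable {Γ : Type*} [Group Γ]

/-- the homomorphism `Γ → F² ⋊ SL₂(F)` attached to a `1`-cocycle `c` for `ρ` -/
noncomputable def S2766_tail_aux_Theta (ρ : Γ →* Matrix.SpecialLinearGroup (Fin 2) F) (c : Γ → Fin 2 → F)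
    (hc : ∀ g h : Γ, c (g * h) = c g +
      ((ρ g : Matrix.SpecialLinearGroup (Fin 2) F) : Matrix (Fin 2) (Fin 2) F).mulVec (c h)) :
    Γ →* ↥(Cfsg.Agent.Helper17.affSub F) where
  toFun g := affTau (c g) * affIota F (ρ g)
  map_one' := by
    have h1 := hc 1 1
    rw [mul_one, map_one, Matrix.SpecialLinearGroup.coe_one, Matrix.one_mulVec] at h1
    have h0 : c 1 = 0 := by
      have : c 1 + 0 = c 1 + c 1 := by rw [add_zero]; exact h1
      exact (add_left_cancel this).symm
    rw [h0, S2766_tail_aux_tau_zero, map_one, map_one, mul_one]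
  map_mul' g h := by
    rw [hc g h, S2766_tail_aux_tau_add, map_mul, map_mul]
    calc affTau (c g) * affTau (((ρ g : Matrix.SpecialLinearGroup (Fin 2) F) :
            Matrix (Fin 2) (Fin 2) F).mulVec (c h)) * (affIota F (ρ g) * affIota F (ρ h))
        = affTau (c g) * (affTau (((ρ g : Matrix.SpecialLinearGroup (Fin 2) F) :
            Matrix (Fin 2) (Fin 2) F).mulVec (c h)) * affIota F (ρ g)) * affIota F (ρ h) := by group
      _ = affTau (c g) * (affIota F (ρ g) * affTau (c h)) * affIota F (ρ h) := by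
          rw [S2766_tail_aux_iota_tau]
      _ = affTau (c g) * affIota F (ρ g) * (affTau (c h) * affIota F (ρ h)) := by group

theorem S2766_tail_aux_Theta_apply (ρ : Γ →* Matrix.SpecialLinearGroup (Fin 2) F) (c : Γ → Fin 2 → F)
    (hc : ∀ g h : Γ, c (g * h) = c g +
      ((ρ g : Matrix.SpecialLinearGroup (Fin 2) F) : Matrix (Fin 2) (Fin 2) F).mulVec (c h)) (g : Γ) :
    S2766_tail_aux_Theta ρ c hc g = affTau (c g) * affIota F (ρ g) := rfl

theorem S2766_tail_aux_Theta_pi (ρ : Γ →* Matrix.SpecialLinearGroup (Fin 2) F) (c : Γ → Fin 2 → F)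
    (hc : ∀ g h : Γ, c (g * h) = c g +
      ((ρ g : Matrix.SpecialLinearGroup (Fin 2) F) : Matrix (Fin 2) (Fin 2) F).mulVec (c h)) (g : Γ) :
    affPi F (S2766_tail_aux_Theta ρ c hc g) = ρ g := by
  rw [S2766_tail_aux_Theta_apply, map_mul, affPi_affIota]
  have : affPi F (affTau (c g)) = 1 := affTau_mem_ker (c g)
  rw [this, one_mul]

theorem S2766_tail_aux_Theta_eq_one (ρ : Γ →* Matrix.SpecialLinearGroup (Fin 2) F) (c : Γ → Fin 2 → F)
    (hc : ∀ g h : Γ, c (g * h) = c g +
      ((ρ g : Matrix.SpecialLinearGroup (Fin 2) F) : Matrix (Fin 2) (Fin 2) F).mulVec (c h)) (g : Γ) :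
    S2766_tail_aux_Theta ρ c hc g = 1 ↔ ρ g = 1 ∧ c g = 0 := by
  constructor
  · intro h
    have h1 : ρ g = 1 := by
      rw [← S2766_tail_aux_Theta_pi ρ c hc g, h, map_one]
    refine ⟨h1, ?_⟩
    rw [S2766_tail_aux_Theta_apply, h1, map_one, mul_one] at h
    have := congrArg affVec h
    rw [affVec_affTau] at this
    rw [this]
    ext i
    fin_cases i <;> simp [affVec, affMat3_one]
  · rintro ⟨h1, h2⟩
    rw [S2766_tail_aux_Theta_apply, h1, h2, S2766_tail_aux_tau_zero, map_one, mul_one]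

/-- surjectivity of `Θ` from surjectivity of `ρ` and of `c` on the kernel of `ρ` -/
theorem S2766_tail_aux_Theta_surj (ρ : Γ →* Matrix.SpecialLinearGroup (Fin 2) F) (c : Γ → Fin 2 → F)
    (hc : ∀ g h : Γ, c (g * h) = c g +
      ((ρ g : Matrix.SpecialLinearGroup (Fin 2) F) : Matrix (Fin 2) (Fin 2) F).mulVec (c h))
    (hρ : Function.Surjective ρ) (hcs : ∀ w : Fin 2 → F, ∃ x : Γ, ρ x = 1 ∧ c x = w) :
    Function.Surjective (S2766_tail_aux_Theta ρ c hc) := by
  intro M
  obtain ⟨g, hg⟩ := hρ (affPi F M)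
  have hker : (S2766_tail_aux_Theta ρ c hc g)⁻¹ * M ∈ (affPi F).ker := by
    rw [MonoidHom.mem_ker, map_mul, map_inv, S2766_tail_aux_Theta_pi, hg, inv_mul_cancel]
  obtain ⟨x, hx1, hx2⟩ := hcs (affVec ((S2766_tail_aux_Theta ρ c hc g)⁻¹ * M))
  refine ⟨g * x, ?_⟩
  rw [map_mul]
  have hx : S2766_tail_aux_Theta ρ c hc x = (S2766_tail_aux_Theta ρ c hc g)⁻¹ * M := by
    rw [S2766_tail_aux_Theta_apply, hx1, map_one, mul_one]
    apply eq_of_mem_ker_of_affVec_eq (affTau_mem_ker _) hker
    rw [affVec_affTau, hx2]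
  rw [hx]
  group

end Theta

end Cfsg.Agent.PU
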