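import Mathlib
import Cfsg.Agent.Helper25.PU2766TailA
import Cfsg.Agent.Lead.AISLPSL

/-! # Pushing up, corollary layer for S2766 (helper25), abstract tail:
a finite group `Γ` with `O_p` elementary abelian `= Q`, `Γ/Q = SL₂(F)` acting naturally on `Q / (Q ∩ Z(Γ))`,
`p` odd, `|F| ≥ 4`, and `[S, S] ≤ [Q, Γ]` for a Sylow `p`-subgroup `S`, is `Qd(F) × (elementary abelian)`. -/

set_option autoImplicit false

namespace Cfsg.Agent.PU

open Subgroup
open scoped commutatorElement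
open Cfsg.Agent.Helper14

section M1

variable {F : Type*} [Field F]

/-- the central element `-1` of `SL₂(F)` -/
def S2766_tail_aux_m1 (F : Type*) [Field F] : Matrix.SpecialLinearGroup (Fin 2) F :=
  ⟨!![-1, 0; 0, -1], by rw [Matrix.det_fin_two_of]; ring⟩

theorem S2766_tail_aux_m1_coe :
    ((S2766_tail_aux_m1 F : Matrix.SpecialLinearGroup (Fin 2) F) : Matrix (Fin 2) (Fin 2) F) =
      !![-1, 0; 0, -1] := rfl

theorem S2766_tail_aux_m1_mulVec (v : Fin 2 → F) :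
    ((S2766_tail_aux_m1 F : Matrix.SpecialLinearGroup (Fin 2) F) : Matrix (Fin 2) (Fin 2) F).mulVec v = -v := by
  rw [S2766_tail_aux_m1_coe]
  funext i
  fin_cases i <;> simp [Matrix.mulVec, dotProduct]

theorem S2766_tail_aux_m1_sq : S2766_tail_aux_m1 F * S2766_tail_aux_m1 F = 1 := by
  apply Subtype.ext
  rw [Matrix.SpecialLinearGroup.coe_mul, S2766_tail_aux_m1_coe, Matrix.mul_fin_two,
    Matrix.SpecialLinearGroup.coe_one]
  ext i j
  fin_cases i <;> fin_cases j <;> simp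

theorem S2766_tail_aux_m1_comm (M : Matrix.SpecialLinearGroup (Fin 2) F) :
    M * S2766_tail_aux_m1 F = S2766_tail_aux_m1 F * M := by
  apply Subtype.ext
  rw [Matrix.SpecialLinearGroup.coe_mul, Matrix.SpecialLinearGroup.coe_mul, S2766_tail_aux_m1_coe]
  ext i j
  fin_cases i <;> fin_cases j <;> simp [Matrix.mul_apply, Fin.sum_univ_two]

theorem S2766_tail_aux_m1_pow (k : ℕ) : S2766_tail_aux_m1 F ^ (2 * k + 1) = S2766_tail_aux_m1 F := by
  rw [pow_succ, pow_mul, pow_two, S2766_tail_aux_m1_sq, one_pow, one_mul]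

end M1

section Tail

variable {Γ : Type*} [Group Γ] [Finite Γ] {p : ℕ} [Fact p.Prime]

/-- **the abstract tail of S2766** -/
theorem S2766_tail (hp : 5 ≤ p) (F : Type) [Field F] [Fintype F] (n : ℕ) (hF : Fintype.card F = p ^ n)
    (Q : Subgroup Γ) [hQn : Q.Normal] (hQ : Cfsg.IsElementaryAbelian p Q)
    (ρ : Γ →* Matrix.SpecialLinearGroup (Fin 2) F) (ψ : ↥Q →* Multiplicative (Fin 2 → F))
    (hρ : Function.Surjective ρ) (hker : ρ.ker = Q) (hψ : Function.Surjective ψ)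
    (hψk : ∀ u : ↥Q, ψ u = 1 ↔ (u : Γ) ∈ Subgroup.center Γ)
    (heq : ∀ (g : Γ) (u w : ↥Q), (w : Γ) = g * (u : Γ) * g⁻¹ →
      Multiplicative.toAdd (ψ w) =
        ((ρ g : Matrix.SpecialLinearGroup (Fin 2) F) : Matrix (Fin 2) (Fin 2) F).mulVec (Multiplicative.toAdd (ψ u)))
    (S : Sylow p Γ) (hS : ⁅(S : Subgroup Γ), (S : Subgroup Γ)⁆ ≤ ⁅Q, (⊤ : Subgroup Γ)⁆) :
    ∃ G₀ E : Subgroup Γ, Cfsg.IsInternalDirectProduct G₀ E ⊤ ∧ Cfsg.IsElementaryAbelian p E ∧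
      Nonempty (↥G₀ ≃* ↥(Cfsg.qdOver F)) := by
  classical
  have hpp : p.Prime := Fact.out
  have hodd : p % 2 = 1 := by
    rcases hpp.eq_two_or_odd with h | h
    · omega
    · exact h
  have hn0 : n ≠ 0 := by
    rintro rfl
    rw [pow_zero] at hF
    have := Fintype.one_lt_card (α := F)
    omega
  have hpF : (p : F) = 0 := by
    have := Nat.cast_card_eq_zero F
    rw [hF] at this
    push_cast at this
    exact (pow_eq_zero_iff hn0).1 this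
  have h2F : (2 : F) ≠ 0 := by
    intro h2
    have : (p : F) = 1 := by
      obtain ⟨k, hk⟩ : ∃ k, p = 2 * k + 1 := ⟨p / 2, by omega⟩
      rw [hk]
      push_cast
      rw [h2]
      ring
    rw [hpF] at this
    exact zero_ne_one this
  have h4 : 4 ≤ Fintype.card F := by
    rw [hF]
    calc 4 ≤ p := by omega
      _ = p ^ 1 := (pow_one p).symm
      _ ≤ p ^ n := Nat.pow_le_pow_right hpp.pos (by omega)
  have hcomm : ∀ a ∈ Q, ∀ b ∈ Q, a * b = b * a := by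
    intro a ha b hb
    have := hQ.1.is_comm.comm ⟨a, ha⟩ ⟨b, hb⟩
    exact congrArg Subtype.val this
  have hexp : ∀ a ∈ Q, a ^ p = 1 := hQ.2
  have hQp : IsPGroup p ↥Q := by
    rintro ⟨x, hx⟩
    refine ⟨1, Subtype.ext ?_⟩
    rw [pow_one, Subgroup.coe_pow, Subgroup.coe_one]
    exact hexp x hx
  have hmemQ : ∀ g : Γ, g ∈ Q ↔ ρ g = 1 := by
    intro g
    rw [← hker, MonoidHom.mem_ker]
  set A : Subgroup Γ := Q ⊓ Subgroup.center Γ with hA
  -- the involution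
  obtain ⟨t₀, ht₀⟩ := hρ (S2766_tail_aux_m1 F)
  obtain ⟨k₀, hk₀⟩ : ∃ k, p = 2 * k + 1 := ⟨p / 2, by omega⟩
  set t := t₀ ^ p with ht
  have hρt : ρ t = S2766_tail_aux_m1 F := by
    rw [ht, map_pow, ht₀]
    nth_rewrite 1 [hk₀]
    exact S2766_tail_aux_m1_pow k₀
  have ht2 : t * t = 1 := by
    have h1 : t₀ ^ 2 ∈ Q := by
      rw [hmemQ, map_pow, ht₀, pow_two, S2766_tail_aux_m1_sq]
    have h2 := hexp _ h1
    rw [ht, ← pow_add, ← two_mul, pow_mul]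
    exact h2
  have htinv : t⁻¹ = t := inv_eq_of_mul_eq_one_right ht2
  have hσQ : ∀ x ∈ Q, t * x * t⁻¹ ∈ Q := fun x hx => hQn.conj_mem x hx t
  have hψσ : ∀ x (hx : x ∈ Q), Multiplicative.toAdd (ψ ⟨t * x * t⁻¹, hσQ x hx⟩) =
      - Multiplicative.toAdd (ψ ⟨x, hx⟩) := by
    intro x hx
    rw [heq t ⟨x, hx⟩ ⟨t * x * t⁻¹, hσQ x hx⟩ rfl, hρt, S2766_tail_aux_m1_mulVec]
  -- the inverted elements
  let V : Subgroup Γ :=
    { carrier := {x | x ∈ Q ∧ t * x * t⁻¹ = x⁻¹}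
      one_mem' := ⟨Q.one_mem, by simp⟩
      mul_mem' := by
        rintro a b ⟨ha, ha'⟩ ⟨hb, hb'⟩
        refine ⟨Q.mul_mem ha hb, ?_⟩
        have : t * (a * b) * t⁻¹ = (t * a * t⁻¹) * (t * b * t⁻¹) := by group
        rw [this, ha', hb', mul_inv_rev]
        exact hcomm _ (Q.inv_mem ha) _ (Q.inv_mem hb)
      inv_mem' := by
        rintro a ⟨ha, ha'⟩
        refine ⟨Q.inv_mem ha, ?_⟩
        have : t * a⁻¹ * t⁻¹ = (t * a * t⁻¹)⁻¹ := by group
        rw [this, ha'] }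
  have hVmem : ∀ x : Γ, x ∈ V ↔ x ∈ Q ∧ t * x * t⁻¹ = x⁻¹ := fun x => Iff.rfl
  have hVQ : V ≤ Q := fun x hx => hx.1
  have hVn : V.Normal := by
    constructor
    rintro x ⟨hx, hx'⟩ g
    refine ⟨hQn.conj_mem x hx g, ?_⟩
    set q := t⁻¹ * (g⁻¹ * t * g) with hq
    have hqQ : q ∈ Q := by
      rw [hmemQ, hq, map_mul, map_inv, map_mul, map_mul, map_inv, hρt]
      have := S2766_tail_aux_m1_comm (ρ g)
      rw [mul_assoc, ← this]
      group
    have hqx : q * x * q⁻¹ = x := by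
      rw [hcomm q hqQ x hx]
      group
    have e1 : g⁻¹ * t * g = t * q := by
      rw [hq]
      group
    calc t * (g * x * g⁻¹) * t⁻¹ = g * ((g⁻¹ * t * g) * x * (g⁻¹ * t * g)⁻¹) * g⁻¹ := by group
      _ = g * (t * (q * x * q⁻¹) * t⁻¹) * g⁻¹ := by rw [e1]; group
      _ = g * x⁻¹ * g⁻¹ := by rw [hqx, hx']
      _ = (g * x * g⁻¹)⁻¹ := by group
  -- the decomposition `Q = V A`
  have hdec : ∀ x ∈ Q, ∃ v ∈ V, ∃ a ∈ A, x = v * a := by
    intro x hx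
    set y := t * x * t⁻¹ with hy
    have hyQ : y ∈ Q := hσQ x hx
    have hσy : t * y * t⁻¹ = x := by
      rw [hy, htinv]
      calc t * (t * x * t) * t = (t * t) * x * (t * t) := by group
        _ = x := by rw [ht2, one_mul, mul_one]
    have hv0 : x * y⁻¹ ∈ V := by
      refine ⟨Q.mul_mem hx (Q.inv_mem hyQ), ?_⟩
      have : t * (x * y⁻¹) * t⁻¹ = (t * x * t⁻¹) * (t * y * t⁻¹)⁻¹ := by group
      rw [this, hσy, ← hy]
      group
    have ha0 : x * y ∈ A := by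
      refine ⟨Q.mul_mem hx hyQ, ?_⟩
      have : ψ ⟨x * y, Q.mul_mem hx hyQ⟩ = 1 := by
        have e : (⟨x * y, Q.mul_mem hx hyQ⟩ : ↥Q) = ⟨x, hx⟩ * ⟨y, hyQ⟩ := rfl
        rw [e, map_mul]
        apply Multiplicative.toAdd.injective
        rw [toAdd_mul, hψσ x hx, toAdd_one, add_neg_cancel]
      exact (hψk _).1 this
    have hc : Commute (x * y⁻¹) (x * y) :=
      hcomm _ (Q.mul_mem hx (Q.inv_mem hyQ)) _ (Q.mul_mem hx hyQ)
    have hx2 : x ^ 2 = (x * y⁻¹) * (x * y) := by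
      have h1 : y⁻¹ * x = x * y⁻¹ := hcomm _ (Q.inv_mem hyQ) _ hx
      calc x ^ 2 = x * (x * y⁻¹) * y := by rw [pow_two]; group
        _ = x * (y⁻¹ * x) * y := by rw [h1]
        _ = (x * y⁻¹) * (x * y) := by group
    set m := (p + 1) / 2 with hm
    have h2m : 2 * m = p + 1 := by omega
    have hxm : x = (x ^ 2) ^ m := by
      rw [← pow_mul, h2m, pow_succ, hexp x hx, one_mul]
    refine ⟨(x * y⁻¹) ^ m, V.pow_mem hv0 m, (x * y) ^ m, A.pow_mem ha0 m, ?_⟩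
    rw [← hc.mul_pow, ← hx2]
    exact hxm
  have hVA : V ⊓ A = ⊥ := by
    rw [eq_bot_iff]
    rintro x ⟨⟨hxQ, hx'⟩, ⟨_, hxc⟩⟩
    rw [Subgroup.mem_bot]
    have h1 : t * x * t⁻¹ = x := by
      rw [Subgroup.mem_center_iff.1 hxc t]
      group
    have h2 : x ^ 2 = 1 := by
      have h3 : x⁻¹ = x := by rw [← hx', h1]
      rw [pow_two]
      nth_rewrite 1 [← h3]
      group
    have h3 : orderOf x ∣ Nat.gcd 2 p :=
      Nat.dvd_gcd (orderOf_dvd_of_pow_eq_one h2) (orderOf_dvd_of_pow_eq_one (hexp x hxQ))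
    have h4 : Nat.gcd 2 p = 1 := by
      rw [Nat.gcd_comm]
      apply (Nat.Prime.coprime_iff_not_dvd hpp).2
      intro hdvd
      have := Nat.le_of_dvd (by norm_num) hdvd
      omega
    rw [h4, Nat.dvd_one, orderOf_eq_one_iff] at h3
    exact h3
  have hQV : ⁅Q, (⊤ : Subgroup Γ)⁆ ≤ V := by
    rw [Subgroup.commutator_le]
    intro x hx g _
    obtain ⟨v, hv, a, ha, rfl⟩ := hdec x hx
    have hac := Subgroup.mem_center_iff.1 ha.2
    have e : ⁅v * a, g⁆ = v * (g * v⁻¹ * g⁻¹) := by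
      rw [commutatorElement_def, mul_inv_rev]
      have h1 : a * g = g * a := (hac g).symm
      calc v * a * g * (a⁻¹ * v⁻¹) * g⁻¹ = v * (a * g) * a⁻¹ * v⁻¹ * g⁻¹ := by group
        _ = v * (g * a) * a⁻¹ * v⁻¹ * g⁻¹ := by rw [h1]
        _ = v * (g * v⁻¹ * g⁻¹) := by group
    rw [e]
    exact V.mul_mem hv (hVn.conj_mem _ (V.inv_mem hv) g)
  -- the quotient by `V`
  haveI := hVn
  have hπ : Function.Surjective (QuotientGroup.mk' V) := QuotientGroup.mk'_surjective V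
  have hSb : ∀ a ∈ ((S.mapSurjective hπ : Sylow p (Γ ⧸ V)) : Subgroup (Γ ⧸ V)),
      ∀ b ∈ ((S.mapSurjective hπ : Sylow p (Γ ⧸ V)) : Subgroup (Γ ⧸ V)), a * b = b * a := by
    rintro _ ⟨s₁, h1, rfl⟩ _ ⟨s₂, h2, rfl⟩
    rw [← map_mul, ← map_mul]
    apply (QuotientGroup.eq).2
    have : (s₁ * s₂)⁻¹ * (s₂ * s₁) = ⁅s₂⁻¹, s₁⁻¹⁆ := by
      rw [commutatorElement_def]
      group
    rw [this]
    exact hQV (hS (Subgroup.commutator_mem_commutator (Subgroup.inv_mem _ h2) (Subgroup.inv_mem _ h1)))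
  have hAbc : A.map (QuotientGroup.mk' V) ≤ Subgroup.center (Γ ⧸ V) := by
    rintro _ ⟨a, ha, rfl⟩
    rw [Subgroup.mem_center_iff]
    intro y
    obtain ⟨g, rfl⟩ := hπ y
    rw [← map_mul, ← map_mul, Subgroup.mem_center_iff.1 ha.2 g]
  have hAbp : IsPGroup p ↥(A.map (QuotientGroup.mk' V)) :=
    IsPGroup.map (hQp.to_le inf_le_left) (QuotientGroup.mk' V)
  have hgen : commutator (Γ ⧸ V) ⊔ A.map (QuotientGroup.mk' V) = ⊤ := by
    rw [eq_top_iff]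
    intro y _
    obtain ⟨g, rfl⟩ := hπ y
    have hc : ρ g ∈ (commutator Γ).map ρ := by
      rw [commutator_def, Subgroup.map_commutator, ← MonoidHom.range_eq_map,
        MonoidHom.range_eq_top.2 hρ, ← commutator_def, Cfsg.Agent.Lead.AI.sl2_commutator_eq_top h4]
      trivial
    obtain ⟨c, hc, hcg⟩ := hc
    have hy : c⁻¹ * g ∈ Q := by
      rw [hmemQ, map_mul, map_inv, hcg, inv_mul_cancel]
    obtain ⟨v, hv, a, ha, hva⟩ := hdec _ hy
    have hg : g = c * (v * a) := by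
      rw [← hva]
      group
    have e : QuotientGroup.mk' V g = QuotientGroup.mk' V c * QuotientGroup.mk' V a := by
      rw [hg, map_mul, map_mul]
      have : QuotientGroup.mk' V v = 1 := (QuotientGroup.eq_one_iff v).2 hv
      rw [this, one_mul]
    rw [e]
    apply Subgroup.mul_mem_sup
    · have : (commutator Γ).map (QuotientGroup.mk' V) ≤ commutator (Γ ⧸ V) := by
        rw [commutator_def, Subgroup.map_commutator, commutator_def]
        exact Subgroup.commutator_mono le_top le_top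
      exact this (Subgroup.mem_map_of_mem _ hc)
    · exact Subgroup.mem_map_of_mem _ ha
  obtain ⟨N, hNn, hNA, hNsup⟩ :=
    S2766_tail_aux_transfer (S.mapSurjective hπ) hSb (A.map (QuotientGroup.mk' V)) hAbc hAbp hgen
  set G₀ : Subgroup Γ := N.comap (QuotientGroup.mk' V) with hG₀
  have hG₀A : G₀ ⊓ A = ⊥ := by
    rw [eq_bot_iff]
    rintro x ⟨hx1, hx2⟩
    rw [Subgroup.mem_bot]
    have h1 : QuotientGroup.mk' V x ∈ N ⊓ A.map (QuotientGroup.mk' V) :=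
      ⟨hx1, Subgroup.mem_map_of_mem _ hx2⟩
    rw [hNA, Subgroup.mem_bot] at h1
    have hxV : x ∈ V := (QuotientGroup.eq_one_iff x).1 h1
    have h2 : x ∈ V ⊓ A := ⟨hxV, hx2⟩
    rw [hVA, Subgroup.mem_bot] at h2
    exact h2
  have hG₀dec : ∀ g : Γ, ∃ g₀ ∈ G₀, ∃ a ∈ A, g = g₀ * a := by
    intro g
    have h1 : QuotientGroup.mk' V g ∈ N ⊔ A.map (QuotientGroup.mk' V) := by
      rw [hNsup]; trivial
    haveI := hNn
    have h2 : QuotientGroup.mk' V g ∈ ((N ⊔ A.map (QuotientGroup.mk' V) : Subgroup (Γ ⧸ V)) : Set (Γ ⧸ V)) := h1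
    rw [Subgroup.normal_mul] at h2
    obtain ⟨n', hn', b, hb, hnb⟩ := Set.mem_mul.1 h2
    obtain ⟨a, ha, rfl⟩ := hb
    refine ⟨g * a⁻¹, ?_, a, ha, by group⟩
    show QuotientGroup.mk' V (g * a⁻¹) ∈ N
    rw [map_mul, map_inv, ← hnb]
    simpa using hn'
  -- the cocycle and `Θ`
  have hcQ : ∀ g : Γ, ⁅t, g⁆ ∈ Q := by
    intro g
    rw [hmemQ, map_commutatorElement, hρt, commutatorElement_def, ← S2766_tail_aux_m1_comm]
    group
  let c : Γ → Fin 2 → F := fun g => Multiplicative.toAdd (ψ ⟨⁅t, g⁆, hcQ g⟩)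
  have hc : ∀ g h : Γ, c (g * h) = c g +
      ((ρ g : Matrix.SpecialLinearGroup (Fin 2) F) : Matrix (Fin 2) (Fin 2) F).mulVec (c h) := by
    intro g h
    have hm : g * ⁅t, h⁆ * g⁻¹ ∈ Q := hQn.conj_mem _ (hcQ h) g
    have e : (⟨⁅t, g * h⁆, hcQ (g * h)⟩ : ↥Q) = ⟨⁅t, g⁆, hcQ g⟩ * ⟨g * ⁅t, h⁆ * g⁻¹, hm⟩ := by
      apply Subtype.ext
      show ⁅t, g * h⁆ = ⁅t, g⁆ * (g * ⁅t, h⁆ * g⁻¹)
      simp only [commutatorElement_def]
      group
    show Multiplicative.toAdd (ψ ⟨⁅t, g * h⁆, hcQ (g * h)⟩) = _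
    rw [e, map_mul, toAdd_mul, heq g ⟨⁅t, h⁆, hcQ h⟩ ⟨g * ⁅t, h⁆ * g⁻¹, hm⟩ rfl]
  have hcQf : ∀ g (hg : g ∈ Q), c g = - Multiplicative.toAdd (ψ ⟨g, hg⟩) - Multiplicative.toAdd (ψ ⟨g, hg⟩) := by
    intro g hg
    have e : (⟨⁅t, g⁆, hcQ g⟩ : ↥Q) = ⟨t * g * t⁻¹, hσQ g hg⟩ * (⟨g, hg⟩ : ↥Q)⁻¹ := by
      apply Subtype.ext
      show ⁅t, g⁆ = t * g * t⁻¹ * g⁻¹
      exact commutatorElement_def t g
    show Multiplicative.toAdd (ψ ⟨⁅t, g⁆, hcQ g⟩) = _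
    rw [e, map_mul, map_inv, toAdd_mul, toAdd_inv, hψσ g hg, sub_eq_add_neg]
  have hΘker : ∀ g : Γ, S2766_tail_aux_Theta ρ c hc g = 1 ↔ g ∈ A := by
    intro g
    rw [S2766_tail_aux_Theta_eq_one]
    constructor
    · rintro ⟨h1, h2⟩
      have hg : g ∈ Q := (hmemQ g).2 h1
      refine ⟨hg, ?_⟩
      rw [hcQf g hg] at h2
      apply (hψk ⟨g, hg⟩).1
      apply Multiplicative.toAdd.injective
      rw [toAdd_one]
      funext i
      have h3 := congrFun h2 i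
      simp only [Pi.sub_apply, Pi.neg_apply, Pi.zero_apply] at h3
      have h4' : (2 : F) * (Multiplicative.toAdd (ψ ⟨g, hg⟩) i) = 0 := by linear_combination -h3
      rcases mul_eq_zero.1 h4' with h5 | h5
      · exact absurd h5 h2F
      · exact h5
    · rintro ⟨hg, hgc⟩
      refine ⟨(hmemQ g).1 hg, ?_⟩
      rw [hcQf g hg]
      have : ψ ⟨g, hg⟩ = 1 := (hψk ⟨g, hg⟩).2 hgc
      rw [this, toAdd_one]
      simp
  have hΘsurj : Function.Surjective (S2766_tail_aux_Theta ρ c hc) := by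
    apply S2766_tail_aux_Theta_surj ρ c hc hρ
    intro w
    obtain ⟨⟨x, hx⟩, hxw⟩ := hψ (Multiplicative.ofAdd ((-2 : F)⁻¹ • w))
    refine ⟨x, (hmemQ x).1 hx, ?_⟩
    rw [hcQf x hx, hxw]
    funext i
    have hm2 : (-2 : F) ≠ 0 := neg_ne_zero.2 h2F
    simp only [toAdd_ofAdd, Pi.sub_apply, Pi.neg_apply, Pi.smul_apply, smul_eq_mul]
    field_simp
    ring
  -- the isomorphism
  let Θ₀ : ↥G₀ →* ↥(Cfsg.Agent.Helper17.affSub F) := (S2766_tail_aux_Theta ρ c hc).comp G₀.subtype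
  have hΘ₀inj : Function.Injective Θ₀ := by
    rw [injective_iff_map_eq_one]
    intro x hx
    have h1 : (x : Γ) ∈ A := (hΘker (x : Γ)).1 hx
    have h2 : (x : Γ) ∈ G₀ ⊓ A := ⟨x.2, h1⟩
    rw [hG₀A, Subgroup.mem_bot] at h2
    exact Subtype.ext h2
  have hΘ₀surj : Function.Surjective Θ₀ := by
    intro M
    obtain ⟨g, rfl⟩ := hΘsurj M
    obtain ⟨g₀, hg₀, a, ha, rfl⟩ := hG₀dec g
    refine ⟨⟨g₀, hg₀⟩, ?_⟩
    show S2766_tail_aux_Theta ρ c hc g₀ = _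
    rw [map_mul, (hΘker a).2 ha, mul_one]
  refine ⟨G₀, A, ⟨le_top, le_top, ?_, hG₀A, ?_⟩, ⟨?_, ?_⟩, ?_⟩
  · intro a _ b hb
    exact Subgroup.mem_center_iff.1 hb.2 a
  · rw [eq_top_iff]
    intro g _
    obtain ⟨g₀, hg₀, a, ha, rfl⟩ := hG₀dec g
    exact Subgroup.mul_mem_sup hg₀ ha
  · exact ⟨⟨fun a b => Subtype.ext (hcomm a a.2.1 b b.2.1)⟩⟩
  · intro a ha
    exact hexp a ha.1
  · exact ⟨(MulEquiv.ofBijective Θ₀ ⟨hΘ₀inj, hΘ₀surj⟩).trans
      (MulEquiv.subgroupCongr (qdOver_eq_affSub (F := F)).symm)⟩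

end Tail

section Sub

variable {H : Type*} [Group H] {p : ℕ} [Fact p.Prime]

/-- the tail of S2766 for a subgroup `G` of `H`, conclusion in the form of the frozen statement -/
theorem S2766_tail_sub (G : Subgroup H) [Finite ↥G] (hp : 5 ≤ p) (F : Type) [Field F] [Fintype F] (n : ℕ)
    (hF : Fintype.card F = p ^ n)
    (Q : Subgroup ↥G) [hQn : Q.Normal] (hQ : Cfsg.IsElementaryAbelian p Q)
    (ρ : ↥G →* Matrix.SpecialLinearGroup (Fin 2) F) (ψ : ↥Q →* Multiplicative (Fin 2 → F))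
    (hρ : Function.Surjective ρ) (hker : ρ.ker = Q) (hψ : Function.Surjective ψ)
    (hψk : ∀ u : ↥Q, ψ u = 1 ↔ (u : ↥G) ∈ Subgroup.center ↥G)
    (heq : ∀ (g : ↥G) (u w : ↥Q), (w : ↥G) = g * (u : ↥G) * g⁻¹ →
      Multiplicative.toAdd (ψ w) =
        ((ρ g : Matrix.SpecialLinearGroup (Fin 2) F) : Matrix (Fin 2) (Fin 2) F).mulVec (Multiplicative.toAdd (ψ u)))
    (S : Sylow p ↥G) (hS : ⁅(S : Subgroup ↥G), (S : Subgroup ↥G)⁆ ≤ ⁅Q, (⊤ : Subgroup ↥G)⁆) :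
    ∃ G₀ E : Subgroup H, Cfsg.IsInternalDirectProduct G₀ E G ∧ Cfsg.IsElementaryAbelian p E ∧
      Nonempty (↥G₀ ≃* ↥(Cfsg.qdOver F)) := by
  obtain ⟨G₀, E, ⟨-, -, hc, hinf, hsup⟩, ⟨hE1, hE2⟩, ⟨e⟩⟩ :=
    S2766_tail hp F n hF Q hQ ρ ψ hρ hker hψ hψk heq S hS
  have hinj : Function.Injective G.subtype := Subgroup.subtype_injective G
  refine ⟨G₀.map G.subtype, E.map G.subtype, ⟨?_, ?_, ?_, ?_, ?_⟩, ⟨?_, ?_⟩, ?_⟩
  · rintro _ ⟨x, -, rfl⟩
    exact x.2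
  · rintro _ ⟨x, -, rfl⟩
    exact x.2
  · rintro _ ⟨a, ha, rfl⟩ _ ⟨b, hb, rfl⟩
    exact congrArg Subtype.val (hc a ha b hb)
  · rw [← Subgroup.map_inf _ _ G.subtype hinj, hinf, Subgroup.map_bot]
  · rw [← Subgroup.map_sup, hsup, ← MonoidHom.range_eq_map, Subgroup.range_subtype]
  · refine ⟨⟨fun a b => ?_⟩⟩
    obtain ⟨a', ha', haa⟩ := a.2
    obtain ⟨b', hb', hbb⟩ := b.2
    apply Subtype.ext
    show (a : H) * (b : H) = (b : H) * (a : H)
    rw [← haa, ← hbb]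
    have := hE1.is_comm.comm ⟨a', ha'⟩ ⟨b', hb'⟩
    have h2 : a' * b' = b' * a' := congrArg Subtype.val this
    exact congrArg Subtype.val h2
  · rintro _ ⟨a, ha, rfl⟩
    have := hE2 a ha
    have h2 := congrArg Subtype.val this
    simpa using h2
  · exact ⟨(Subgroup.equivMapOfInjective G₀ G.subtype hinj).symm.trans e⟩

end Sub

end Cfsg.Agent.PU
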