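import Mathlib
import Cfsg.Agent.Helper29.PqAsm
import Cfsg.Agent.Helper29.PqWt

/-!
# S4306, piece (E): if `X = G/C_G(V)` is nilpotent, the conclusion holds for `G`
-/

set_option autoImplicit false

namespace Cfsg.Agent.Helper25.PqE

open Cfsg.Agent.Helper29.S3f Cfsg.Agent.Helper29.Pq
open scoped commutatorElement

universe u v

/-- (E) if `X = G/C_G(V)` is nilpotent, the conclusion holds for `G`. -/
theorem step1 {Γ : Type u} [Group Γ] [Finite Γ] {A : Type v} [Group A] [Finite A] (j : A →* Γ)
    (G : Subgroup Γ) [G.Normal] (hG : HypPQ j G) (V : Subgroup Γ) [V.Normal] (hVG : V ≤ G)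
    (hVne : V ≠ ⊥) (hVab : ∀ a ∈ V, ∀ b ∈ V, a * b = b * a)
    (hnil : Group.IsNilpotent ↥(G.map (QuotientGroup.mk' (cen G V))))
    (IH : ∀ (Γ' : Type u) [Group Γ'] [Finite Γ'] (j' : A →* Γ') (G' : Subgroup Γ'),
      HypPQ j' G' → Nat.card G' < Nat.card G → Concl j' G') : Concl j G := by
  obtain ⟨N1, hN1G, hN1A, hN1n, hN1nil, k1, hk1⟩ :=
    IH (Γ ⧸ V) ((QuotientGroup.mk' V).comp j) (G.map (QuotientGroup.mk' V))
      (hG.quot V hVG) (quot_card_lt V hVG hVne)
  obtain ⟨k2, hk2⟩ := (Subgroup.isNilpotent_iff_lowerCentralSeries _).mp hnil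
  obtain ⟨n1, hn1⟩ := (Subgroup.isNilpotent_iff_lowerCentralSeries _).mp hN1nil
  have hCn : (cen G V).Normal := inferInstance
  refine ⟨N1.comap (QuotientGroup.mk' V) ⊓ cen G V, inf_le_right.trans (cen_le G V), ?_, ?_, ?_, ?_⟩
  · -- `A`-invariance
    intro a n hn
    refine Subgroup.mem_inf.mpr ⟨?_, hCn.conj_mem n hn.2 _⟩
    rw [Subgroup.mem_comap]
    have := hN1A a _ (Subgroup.mem_comap.mp hn.1)
    simpa using this
  · -- normalised by `G`
    intro g hg n hn
    refine Subgroup.mem_inf.mpr ⟨?_, hCn.conj_mem n hn.2 _⟩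
    rw [Subgroup.mem_comap]
    have := hN1n _ (Subgroup.mem_map_of_mem (QuotientGroup.mk' V) hg) _ (Subgroup.mem_comap.mp hn.1)
    simpa using this
  · -- nilpotent
    apply Subgroup.isNilpotent_of_lowerCentralSeries_eq_bot (n := n1 + 1)
    rw [Subgroup.lowerCentralSeries_succ, Subgroup.commutator_eq_bot_iff_le_centralizer]
    -- the `n1`-th term lies in `V`
    have hV : (N1.comap (QuotientGroup.mk' V) ⊓ cen G V).lowerCentralSeries n1 ≤ V := by
      have h1 : ((N1.comap (QuotientGroup.mk' V) ⊓ cen G V).lowerCentralSeries n1).map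
          (QuotientGroup.mk' V) ≤ ⊥ := by
        rw [Subgroup.map_lowerCentralSeries, ← hn1]
        apply Subgroup.lowerCentralSeries_mono n1
        rw [Subgroup.map_le_iff_le_comap]
        exact inf_le_left
      intro x hx
      have h2 := h1 (Subgroup.mem_map_of_mem _ hx)
      rw [Subgroup.mem_bot] at h2
      exact (QuotientGroup.eq_one_iff x).mp h2
    intro x hx
    rw [Subgroup.mem_centralizer_iff]
    intro y hy
    have hyC : y ∈ Subgroup.centralizer (V : Set Γ) := (hy : y ∈ _ ⊓ cen G V).2.2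
    exact ((Subgroup.mem_centralizer_iff.mp hyC) x (hV hx)).symm
  · -- the lower central series of `G` reaches `N`
    refine ⟨max k1 k2, le_inf ?_ ?_⟩
    · refine (Subgroup.lowerCentralSeries_antitone G (le_max_left k1 k2)).trans ?_
      rw [← Subgroup.map_le_iff_le_comap, Subgroup.map_lowerCentralSeries]
      exact hk1
    · refine (Subgroup.lowerCentralSeries_antitone G (le_max_right k1 k2)).trans ?_
      intro x hx
      have h1 : QuotientGroup.mk' (cen G V) x ∈
          (G.map (QuotientGroup.mk' (cen G V))).lowerCentralSeries k2 := by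
        rw [← Subgroup.map_lowerCentralSeries]
        exact Subgroup.mem_map_of_mem _ hx
      rw [hk2, Subgroup.mem_bot] at h1
      exact (QuotientGroup.eq_one_iff x).mp h1

end Cfsg.Agent.Helper25.PqE
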