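import Mathlib
import Cfsg.Prelude.Def_RootSubgroups
import Cfsg.Agent.Helper25.RankOne
import Cfsg.Agent.Helper25.RankOne2

/-!
# Rank one groups acting quadratically (Timmesfeld I §3)
-/

set_option autoImplicit false
set_option linter.unusedSectionVars false
set_option linter.unusedVariables false

namespace Cfsg.Agent.Helper25.Quad

open Cfsg Cfsg.Agent.Helper25

variable {X : Type*} [Group X] {A B : Subgroup X} {V : Type*} [AddCommGroup V]
  [DistribMulAction X V]

/-- `v` is fixed by the subgroup `K`. -/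
def Fix (K : Subgroup X) (v : V) : Prop := ∀ k ∈ K, k • v = v

theorem Fix.add {K : Subgroup X} {v w : V} (hv : Fix K v) (hw : Fix K w) : Fix K (v + w) :=
  fun k hk => by rw [smul_add, hv k hk, hw k hk]

theorem Fix.sub {K : Subgroup X} {v w : V} (hv : Fix K v) (hw : Fix K w) : Fix K (v - w) :=
  fun k hk => by rw [smul_sub, hv k hk, hw k hk]

theorem Fix.neg {K : Subgroup X} {v : V} (hv : Fix K v) : Fix K (-v) :=
  fun k hk => by rw [smul_neg, hv k hk]

theorem Fix.nsmul {K : Subgroup X} {v : V} (hv : Fix K v) (n : ℕ) : Fix K (n • v) :=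
  fun k hk => by rw [smul_comm, hv k hk]

theorem Fix.zero (K : Subgroup X) : Fix K (0 : V) := fun k _ => smul_zero k

theorem fix_top_of (hX : A ⊔ B = ⊤) {v : V} (hA : Fix A v) (hB : Fix B v) :
    Fix (⊤ : Subgroup X) v := by
  have h1 : A ≤ MulAction.stabilizer X v := fun a ha => MulAction.mem_stabilizer_iff.mpr (hA a ha)
  have h2 : B ≤ MulAction.stabilizer X v := fun b hb => MulAction.mem_stabilizer_iff.mpr (hB b hb)
  have h3 : (⊤ : Subgroup X) ≤ MulAction.stabilizer X v := by rw [← hX]; exact sup_le h1 h2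
  intro k hk
  exact MulAction.mem_stabilizer_iff.mp (h3 hk)

theorem Fix.of_top {K : Subgroup X} {v : V} (hv : Fix (⊤ : Subgroup X) v) : Fix K v :=
  fun k _ => hv k (Subgroup.mem_top k)

/-- `K` acts quadratically. -/
def Quadratic (K : Subgroup X) (V : Type*) [AddCommGroup V] [DistribMulAction X V] : Prop :=
  ∀ a ∈ K, ∀ a' ∈ K, ∀ v : V, a' • (a • v - v) = a • v - v

theorem smul_conj (x c : X) (w : V) : c • x • w = x • (x⁻¹ * c * x) • w := by
  rw [smul_smul, smul_smul]; congr 1; group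

theorem quadratic_conjBy (hq : Quadratic A V) (x : X) : Quadratic (conjBy A x) V := by
  intro c hc c' hc' v
  rw [mem_conjBy_iff] at hc hc'
  have h := hq _ hc _ hc' (x⁻¹ • v)
  have e1 : c • v - v = x • ((x⁻¹ * c * x) • (x⁻¹ • v) - x⁻¹ • v) := by
    rw [smul_sub, ← smul_conj, smul_inv_smul]
  rw [e1, smul_conj, h]

theorem quadratic_right (h : IsRankOnePair A B) (hq : Quadratic A V) : Quadratic B V := by
  obtain ⟨x, -, hx⟩ := rankOne_exists_conj h
  rw [hx]
  exact quadratic_conjBy hq x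

theorem inv_smul_sub (hq : Quadratic A V) {a : X} (ha : a ∈ A) (v : V) :
    a⁻¹ • v - v = -(a • v - v) := by
  have h1 := hq a ha a⁻¹ (A.inv_mem ha) v
  rw [smul_sub, inv_smul_smul] at h1
  -- h1 : v - a⁻¹ • v = a • v - v
  rw [← h1]; abel

/-- The basic relation: for `v` fixed by `B`, `v + [[v, a⁻¹], b]` is fixed by `X`. -/
theorem rel (hX : A ⊔ B = ⊤) (hqA : Quadratic A V) (hqB : Quadratic B V) {a b : X} (ha : a ∈ A)
    (hb : b ∈ B) (hab : conjBy A b⁻¹ = conjBy B a⁻¹) {v : V} (hv : Fix B v) :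
    Fix (⊤ : Subgroup X) (v + (b • (a⁻¹ • v - v) - (a⁻¹ • v - v))) := by
  have hu : Fix A (a⁻¹ • v - v) := fun a' ha' => hqA a⁻¹ (A.inv_mem ha) a' ha' v
  have hbu : Fix B (b • (a⁻¹ • v - v) - (a⁻¹ • v - v)) := fun b' hb' => hqB b hb b' hb' _
  have h3 : Fix A (b • a⁻¹ • v) := by
    intro a' ha'
    have hmem : b⁻¹ * a' * b⁻¹⁻¹ ∈ conjBy A b⁻¹ := conj_mem_conjBy ha'
    rw [hab, mem_conjBy_iff] at hmem
    have h4 := hv _ hmem
    -- a⁻¹⁻¹ * (b⁻¹ * a' * b⁻¹⁻¹) * a⁻¹ fixes v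
    have e : a' • b • a⁻¹ • v = b • a⁻¹ • ((a⁻¹⁻¹ * (b⁻¹ * a' * b⁻¹⁻¹) * a⁻¹) • v) := by
      rw [smul_smul, smul_smul, smul_smul, smul_smul]
      congr 1; group
    rw [e, h4]
  have e : v + (b • (a⁻¹ • v - v) - (a⁻¹ • v - v)) = b • a⁻¹ • v - (a⁻¹ • v - v) := by
    rw [smul_sub, hv b hb]; abel
  refine fix_top_of hX ?_ (hv.add hbu)
  rw [e]
  exact h3.sub hu

/-- If some `a₂ ∈ A#` has `[V, a₂] ≤ C_V(X)`, then `[V, x] ≤ C_V(X)` for all `x`. -/
theorem collapse (hX : A ⊔ B = ⊤) (h : IsRankOnePair A B) (hqA : Quadratic A V) {a₂ : X}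
    (ha₂ : a₂ ∈ A) (ha₂1 : a₂ ≠ 1) (hc : ∀ v : V, Fix (⊤ : Subgroup X) (a₂ • v - v)) :
    ∀ (x : X) (v : V), Fix (⊤ : Subgroup X) (x • v - v) := by
  have hqB := quadratic_right h hqA
  obtain ⟨b₂, hb₂, -, hab⟩ := h.cond_left a₂ ha₂ ha₂1
  have hCB : ∀ v : V, Fix B v → Fix (⊤ : Subgroup X) v := by
    intro v hv
    have h1 := rel hX hqA hqB ha₂ hb₂ hab hv
    have hu : Fix (⊤ : Subgroup X) (a₂⁻¹ • v - v) := by
      rw [inv_smul_sub hqA ha₂]; exact (hc v).neg
    rw [hu b₂ (Subgroup.mem_top _), sub_self, add_zero] at h1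
    exact h1
  obtain ⟨x₀, -, hx₀⟩ := rankOne_exists_conj h
  have hCA : ∀ v : V, Fix A v → Fix (⊤ : Subgroup X) v := by
    intro v hv
    have h1 : Fix B (x₀ • v) := by
      intro b' hb'
      rw [hx₀, mem_conjBy_iff] at hb'
      have := hv _ hb'
      have e : b' • x₀ • v = x₀ • ((x₀⁻¹ * b' * x₀) • v) := by
        rw [smul_smul, smul_smul]; congr 1; group
      rw [e, this]
    have h2 := hCB _ h1
    have h3 := h2 x₀⁻¹ (Subgroup.mem_top _)
    rw [inv_smul_smul] at h3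
    rw [h3]; exact h2
  -- the subgroup of all `x` with `[V, x] ≤ C_V(X)`
  let K₁ : Subgroup X :=
    { carrier := {x | ∀ v : V, Fix (⊤ : Subgroup X) (x • v - v)}
      one_mem' := by
        intro v
        rw [one_smul, sub_self]; exact Fix.zero _
      mul_mem' := by
        intro x y hx hy v
        have e : (x * y) • v - v = x • (y • v - v) + (x • v - v) := by
          rw [mul_smul, smul_sub]; abel
        rw [e, hy v x (Subgroup.mem_top _)]
        exact (hy v).add (hx v)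
      inv_mem' := by
        intro x hx v
        have e : x⁻¹ • v - v = -(x⁻¹ • (x • v - v)) := by
          rw [smul_sub, inv_smul_smul]; abel
        rw [e, hx v x⁻¹ (Subgroup.mem_top _)]
        exact (hx v).neg }
  have hA : A ≤ K₁ := fun a ha v => hCA _ (fun a' ha' => hqA a ha a' ha' v)
  have hB : B ≤ K₁ := fun b hb v => hCB _ (fun b' hb' => hqB b hb b' hb' v)
  have htop : (⊤ : Subgroup X) ≤ K₁ := by rw [← hX]; exact sup_le hA hB
  intro x v
  exact htop (Subgroup.mem_top x) v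

end Cfsg.Agent.Helper25.Quad
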