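import Mathlib
import Cfsg.Prelude.Def_RootSubgroups
import Cfsg.Prelude.Def_Transfer
import Cfsg.Agent.Helper25.QuadRankOne

/-!
# Rank one groups acting quadratically and faithfully: the unipotent subgroups are torsion free
or elementary abelian (Timmesfeld I (3.4))
-/

set_option autoImplicit false
set_option linter.unusedSectionVars false
set_option linter.unusedVariables false

namespace Cfsg.Agent.Helper25.Quad

open Cfsg Cfsg.Agent.Helper25

variable {X : Type*} [Group X] {A B : Subgroup X} {V : Type*} [AddCommGroup V]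
  [DistribMulAction X V]

theorem pow_smul_sub (hq : Quadratic A V) {a : X} (ha : a ∈ A) (n : ℕ) (v : V) :
    a ^ n • v - v = n • (a • v - v) := by
  induction n with
  | zero => simp
  | succ n ih =>
    have h1 := hq a ha (a ^ n) (A.pow_mem ha n) v
    have e : a ^ (n + 1) • v - v = a ^ n • (a • v - v) + (a ^ n • v - v) := by
      rw [pow_succ, mul_smul, smul_sub]; abel
    rw [e, h1, ih, succ_nsmul]; abel

/-- If all `[V, x] ≤ C_V(X)` then `X` acts as an abelian group. -/
theorem smul_comm_of_collapse (hall : ∀ (x : X) (v : V), Fix (⊤ : Subgroup X) (x • v - v))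
    (x y : X) (v : V) : (y * x) • v = (x * y) • v := by
  have h1 := hall x v y (Subgroup.mem_top _)
  have h2 := hall y v x (Subgroup.mem_top _)
  rw [smul_sub] at h1 h2
  have e1 : y • x • v = x • v - v + y • v := by rw [← h1]; abel
  have e2 : x • y • v = y • v - v + x • v := by rw [← h2]; abel
  rw [mul_smul, mul_smul, e1, e2]; abel

theorem quad_torsion (h : IsRankOneGroup X A B)
    (hf : ∀ x : X, (∀ v : V, x • v = v) → x = 1) (hq : Quadratic A V) :
    (∀ a ∈ A, a ≠ 1 → ¬ IsOfFinOrder a) ∨ ∃ p : ℕ, p.Prime ∧ IsElementaryAbelian p A := by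
  obtain ⟨hX, hr⟩ := h
  have hqB := quadratic_right hr hq
  have faithful : ∀ x y : X, (∀ v : V, x • v = y • v) → x = y := by
    intro x y hxy
    have : y⁻¹ * x = 1 := hf _ (fun v => by rw [mul_smul, hxy v, inv_smul_smul])
    exact (inv_mul_eq_one.mp this).symm
  have hAcomm : ∀ a ∈ A, ∀ a' ∈ A, a * a' = a' * a := by
    intro a ha a' ha'
    apply faithful
    intro v
    have h1 := hq a' ha' a ha v
    have h2 := hq a ha a' ha' v
    rw [smul_sub] at h1 h2
    have e1 : a • a' • v = a' • v - v + a • v := by rw [← h1]; abel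
    have e2 : a' • a • v = a • v - v + a' • v := by rw [← h2]; abel
    rw [mul_smul, mul_smul, e1, e2]; abel
  by_cases htf : ∀ a ∈ A, a ≠ 1 → ¬ IsOfFinOrder a
  · exact Or.inl htf
  right
  push Not at htf
  obtain ⟨a₀, ha₀, ha₀1, hfin⟩ := htf
  have hn : orderOf a₀ ≠ 1 := by rwa [Ne, orderOf_eq_one_iff]
  have hpos : 0 < orderOf a₀ := hfin.orderOf_pos
  have hpp : (orderOf a₀).minFac.Prime := Nat.minFac_prime hn
  have hpd : (orderOf a₀).minFac ∣ orderOf a₀ := Nat.minFac_dvd _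
  obtain ⟨p, hp⟩ : ∃ p, p = (orderOf a₀).minFac := ⟨_, rfl⟩
  rw [← hp] at hpp hpd
  have haA : a₀ ^ (orderOf a₀ / p) ∈ A := A.pow_mem ha₀ _
  have hord : orderOf (a₀ ^ (orderOf a₀ / p)) = p := orderOf_pow_orderOf_div hpos.ne' hpd
  obtain ⟨a, haeq⟩ : ∃ a, a = a₀ ^ (orderOf a₀ / p) := ⟨_, rfl⟩
  rw [← haeq] at haA hord
  have hap : a ^ p = 1 := by rw [← hord]; exact pow_orderOf_eq_one a
  have ha1 : a ≠ 1 := by
    intro h1
    rw [h1, orderOf_one] at hord
    exact hpp.one_lt.ne hord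
  refine ⟨p, hpp, IsMulCommutative.of_setLike_mul_comm (fun x hx y hy => hAcomm x hx y hy), ?_⟩
  obtain ⟨b, hb, hb1, hab⟩ := hr.cond_left a haA ha1
  have hpu : ∀ v : V, p • (a⁻¹ • v - v) = 0 := by
    intro v
    rw [← pow_smul_sub hq (A.inv_mem haA), inv_pow, hap, inv_one, one_smul, sub_self]
  have star : ∀ v : V, Fix B v → Fix (⊤ : Subgroup X) (p • v) := by
    intro v hv
    have h1 := (rel hX hq hqB haA hb hab hv).nsmul p
    have e : p • (v + (b • (a⁻¹ • v - v) - (a⁻¹ • v - v))) = p • v := by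
      rw [nsmul_add, nsmul_sub, ← smul_comm b p, hpu v, smul_zero, sub_zero, add_zero]
    rwa [e] at h1
  obtain ⟨b₁, hb₁, hb₁1⟩ := rankOne_exists_ne_one (RankOnePair_symm hr)
  obtain ⟨a₁, ha₁, ha₁1, hba⟩ := hr.cond_right b₁ hb₁ hb₁1
  have hX' : B ⊔ A = ⊤ := by rw [sup_comm]; exact hX
  have star2 : ∀ v : V, Fix A v → Fix (⊤ : Subgroup X) (p • v) := by
    intro v hv
    have h1 := (rel hX' hqB hq hb₁ ha₁ hba hv).nsmul p
    have hu' : Fix B (b₁⁻¹ • v - v) := fun b' hb' => hqB b₁⁻¹ (B.inv_mem hb₁) b' hb' v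
    have h2 := star _ hu'
    have e : p • (v + (a₁ • (b₁⁻¹ • v - v) - (b₁⁻¹ • v - v))) = p • v := by
      rw [nsmul_add, nsmul_sub, ← smul_comm a₁ p, h2 a₁ (Subgroup.mem_top _), sub_self,
        add_zero]
    rwa [e] at h1
  intro a₂ ha₂
  by_contra hne
  have hcx : ∀ v : V, Fix (⊤ : Subgroup X) ((a₂ ^ p) • v - v) := by
    intro v
    rw [pow_smul_sub hq ha₂]
    exact star2 _ (fun a' ha' => hq a₂ ha₂ a' ha' v)
  have hall := collapse hX hr hq (A.pow_mem ha₂ p) hne hcx
  apply rankOne_center_ne_top hX hr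
  rw [eq_top_iff]
  intro x _
  rw [Subgroup.mem_center_iff]
  intro y
  exact faithful _ _ (fun v => smul_comm_of_collapse hall x y v)

end Cfsg.Agent.Helper25.Quad
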