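import Mathlib
import Cfsg.Prelude.Def_RootSubgroups
import Cfsg.Agent.Helper25.QuadRankOne

/-!
# A rank one group with a quadratic, but not globally quadratic, module is special
(Timmesfeld I (3.2))
-/

set_option autoImplicit false
set_option linter.unusedSectionVars false
set_option linter.unusedVariables false
set_option linter.unusedSimpArgs false

namespace Cfsg.Agent.Helper25.Quad

open Cfsg Cfsg.Agent.Helper25

variable {X : Type*} [Group X] {A B : Subgroup X} {V : Type*} [AddCommGroup V]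
  [DistribMulAction X V]

/-- The additive map `v ↦ x • v - v`. -/
def dl (x : X) : V →+ V := DistribSMul.toAddMonoidHom V x - AddMonoidHom.id V

theorem dl_apply (x : X) (v : V) : dl x v = x • v - v := rfl

theorem smul_eq_add_dl (x : X) (v : V) : x • v = v + dl x v := by rw [dl_apply]; abel

theorem inv_smul_eq_sub_dl (hq : Quadratic A V) {a : X} (ha : a ∈ A) (v : V) :
    a⁻¹ • v = v - dl a v := by
  have := inv_smul_sub hq ha v
  rw [dl_apply]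
  have e : a⁻¹ • v = (a⁻¹ • v - v) + v := by abel
  rw [e, this]; abel

theorem dl_dl (hq : Quadratic A V) {a : X} (ha : a ∈ A) (v : V) : dl a (dl a v) = 0 := by
  rw [dl_apply, dl_apply, hq a ha a ha v, sub_self]

/-- `g₁ = b⁻¹ a b` and `g₂ = a⁻¹ b⁻¹ a` agree modulo `C_V(X)`. -/
theorem special_diff (hX : A ⊔ B = ⊤) (hqA : Quadratic A V) (hqB : Quadratic B V) {a b : X}
    (ha : a ∈ A) (hb : b ∈ B) (hab : conjBy A b⁻¹ = conjBy B a⁻¹) (v : V) :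
    Fix (⊤ : Subgroup X) ((b⁻¹ * a * b) • v - (a⁻¹ * b⁻¹ * a) • v) := by
  have hX' : B ⊔ A = ⊤ := by rw [sup_comm]; exact hX
  have e1 : (b⁻¹ * a * b) • v =
      v + dl a v + dl a (dl b v) - dl b (dl a v) - dl b (dl a (dl b v)) := by
    rw [mul_smul, mul_smul, inv_smul_eq_sub_dl hqB hb, smul_eq_add_dl a, smul_eq_add_dl b]
    simp only [map_add, map_sub, dl_dl hqB hb]
    abel
  have e2 : (a⁻¹ * b⁻¹ * a) • v =
      v - dl b v - dl b (dl a v) + dl a (dl b v) + dl a (dl b (dl a v)) := by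
    rw [mul_smul, mul_smul, inv_smul_eq_sub_dl hqA ha, inv_smul_eq_sub_dl hqB hb,
      smul_eq_add_dl a]
    simp only [map_add, map_sub, dl_dl hqA ha]
    abel
  have h1 : Fix (⊤ : Subgroup X) (dl b v - dl b (dl a (dl b v))) := by
    have hfix : Fix B (dl b v) := fun b' hb' => hqB b hb b' hb' v
    have := rel hX hqA hqB ha hb hab hfix
    have e : dl b v + (b • (a⁻¹ • dl b v - dl b v) - (a⁻¹ • dl b v - dl b v)) =
        dl b v - dl b (dl a (dl b v)) := by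
      rw [inv_smul_eq_sub_dl hqA ha, smul_eq_add_dl b]
      simp only [map_add, map_sub, map_neg]
      abel
    rwa [e] at this
  have h2 : Fix (⊤ : Subgroup X) (dl a v - dl a (dl b (dl a v))) := by
    have hfix : Fix A (dl a v) := fun a' ha' => hqA a ha a' ha' v
    have := rel hX' hqB hqA hb ha hab.symm hfix
    have e : dl a v + (a • (b⁻¹ • dl a v - dl a v) - (b⁻¹ • dl a v - dl a v)) =
        dl a v - dl a (dl b (dl a v)) := by
      rw [inv_smul_eq_sub_dl hqB hb, smul_eq_add_dl a]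
      simp only [map_add, map_sub, map_neg]
      abel
    rwa [e] at this
  have e3 : (b⁻¹ * a * b) • v - (a⁻¹ * b⁻¹ * a) • v =
      (dl a v - dl a (dl b (dl a v))) + (dl b v - dl b (dl a (dl b v))) := by
    rw [e1, e2]; abel
  rw [e3]
  exact h2.add h1

/-- Timmesfeld I (3.2). -/
theorem quad_special (h : IsRankOneGroup X A B) (hq : Quadratic A V)
    (hnq : ∃ x y : X, ∃ n : V, y • (x • n - n) ≠ x • n - n) : IsSpecialRankOnePair A B := by
  obtain ⟨hX, hr⟩ := h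
  have hqB := quadratic_right hr hq
  refine ⟨hr, ?_⟩
  intro a ha ha1 b hb hb1 hab
  -- `h = g₁⁻¹ g₂`
  have hg₁ : b⁻¹ * a * b ∈ conjBy A b⁻¹ := by
    have := conj_mem_conjBy (A := A) (g := b⁻¹) ha
    rwa [inv_inv] at this
  have hg₂ : a⁻¹ * b⁻¹ * a ∈ conjBy A b⁻¹ := by
    rw [hab]
    have := conj_mem_conjBy (A := B) (g := a⁻¹) (B.inv_mem hb)
    rwa [inv_inv] at this
  have hh : (b⁻¹ * a * b)⁻¹ * (a⁻¹ * b⁻¹ * a) ∈ conjBy A b⁻¹ :=
    Subgroup.mul_mem _ (Subgroup.inv_mem _ hg₁) hg₂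
  have hhfix : ∀ v : V,
      Fix (⊤ : Subgroup X) (((b⁻¹ * a * b)⁻¹ * (a⁻¹ * b⁻¹ * a)) • v - v) := by
    intro v
    have h1 := (special_diff hX hq hqB ha hb hab v).neg
    have e : ((b⁻¹ * a * b)⁻¹ * (a⁻¹ * b⁻¹ * a)) • v - v =
        (b⁻¹ * a * b)⁻¹ • (-((b⁻¹ * a * b) • v - (a⁻¹ * b⁻¹ * a) • v)) := by
      rw [mul_smul, smul_neg, smul_sub, inv_smul_smul]; abel
    rw [e, h1 _ (Subgroup.mem_top _)]
    exact h1
  rw [mem_conjBy_iff] at hh
  -- `a₂ = b h b⁻¹ ∈ A`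
  have ha₂fix : ∀ v : V, Fix (⊤ : Subgroup X)
      ((b⁻¹⁻¹ * ((b⁻¹ * a * b)⁻¹ * (a⁻¹ * b⁻¹ * a)) * b⁻¹) • v - v) := by
    intro v
    have h1 := hhfix (b⁻¹ • v)
    have e : (b⁻¹⁻¹ * ((b⁻¹ * a * b)⁻¹ * (a⁻¹ * b⁻¹ * a)) * b⁻¹) • v - v =
        b⁻¹⁻¹ • (((b⁻¹ * a * b)⁻¹ * (a⁻¹ * b⁻¹ * a)) • (b⁻¹ • v) - b⁻¹ • v) := by
      rw [mul_smul, mul_smul, smul_sub, smul_smul b⁻¹⁻¹ b⁻¹ v]
      simp
    rw [e, h1 _ (Subgroup.mem_top _)]
    exact h1
  by_cases ha₂1 : b⁻¹⁻¹ * ((b⁻¹ * a * b)⁻¹ * (a⁻¹ * b⁻¹ * a)) * b⁻¹ = 1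
  · have h1 : (b⁻¹ * a * b)⁻¹ * (a⁻¹ * b⁻¹ * a) = 1 := by
      have e : (b⁻¹ * a * b)⁻¹ * (a⁻¹ * b⁻¹ * a) =
          b⁻¹ * (b⁻¹⁻¹ * ((b⁻¹ * a * b)⁻¹ * (a⁻¹ * b⁻¹ * a)) * b⁻¹) * b⁻¹⁻¹ := by group
      rw [e, ha₂1]; group
    exact inv_mul_eq_one.mp h1
  · exfalso
    have hall := collapse hX hr hq hh ha₂1 ha₂fix
    obtain ⟨x, y, n, hne⟩ := hnq
    exact hne (hall x n y (Subgroup.mem_top _))

end Cfsg.Agent.Helper25.Quad
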