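import Mathlib
import Cfsg.Prelude.Def_RootSubgroups

set_option autoImplicit false
set_option linter.unusedSectionVars false
set_option linter.unusedVariables false
open scoped Pointwise

namespace Cfsg.Agent.Helper25.RankOne

variable {X : Type*} [Group X]

/-- the conjugate subgroup `g A g⁻¹` -/
abbrev cj (g : X) (A : Subgroup X) : Subgroup X := MulAut.conj g • A

lemma cj_mul (g h : X) (A : Subgroup X) : cj (g * h) A = cj g (cj h A) := by
  simp [cj, map_mul, mul_smul]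

lemma cj_one (A : Subgroup X) : cj 1 A = A := by simp [cj]

lemma cj_inv_cj (g : X) (A : Subgroup X) : cj g⁻¹ (cj g A) = A := by
  rw [← cj_mul]; simp [cj_one]

lemma cj_cj_inv (g : X) (A : Subgroup X) : cj g (cj g⁻¹ A) = A := by
  rw [← cj_mul]; simp [cj_one]

lemma cj_of_mem {A : Subgroup X} {a : X} (ha : a ∈ A) : cj a A = A :=
  Subgroup.conj_smul_eq_self_of_mem ha

lemma mem_cj {g z : X} {A : Subgroup X} : z ∈ cj g A ↔ g⁻¹ * z * g ∈ A := by
  rw [cj, Subgroup.mem_pointwise_smul_iff_inv_smul_mem]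
  simp [MulAut.smul_def, ← map_inv]

lemma conjBy_eq_cj (A : Subgroup X) (g : X) : Cfsg.conjBy A g = cj g A := by
  ext z
  simp [Cfsg.conjBy, cj, Subgroup.mem_map, Subgroup.mem_smul_pointwise_iff_exists, MulAut.smul_def]

/-- the pairing `b = b(a)` of the rank one group -/
def Rel (A B : Subgroup X) (a b : X) : Prop :=
  a ∈ A ∧ a ≠ 1 ∧ b ∈ B ∧ b ≠ 1 ∧ cj b⁻¹ A = cj a⁻¹ B

structure SP (A B : Subgroup X) : Prop where
  ne : A ≠ B
  commA : ∀ x ∈ A, ∀ y ∈ A, x * y = y * x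
  commB : ∀ x ∈ B, ∀ y ∈ B, x * y = y * x
  exL : ∀ a ∈ A, a ≠ 1 → ∃ b, Rel A B a b
  exR : ∀ b ∈ B, b ≠ 1 → ∃ a, Rel A B a b
  spec : ∀ a b, Rel A B a b → b⁻¹ * a * b = a⁻¹ * b⁻¹ * a

variable {A B : Subgroup X}

lemma SP.inter (s : SP A B) {z : X} (hA : z ∈ A) (hB : z ∈ B) : z = 1 := by
  by_contra hz
  obtain ⟨b, -, -, hb, -, h⟩ := s.exL z hA hz
  apply s.ne
  rw [cj_of_mem (B.inv_mem hB)] at h
  have h2 : A = cj b B := by rw [← h, cj_cj_inv]
  rw [h2, cj_of_mem hb]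

lemma SP.normB (s : SP A B) {d : X} (hd : d ∈ B) (h : cj d A = A) : d = 1 := by
  by_contra hd1
  obtain ⟨a, ha, -, -, -, hE⟩ := s.exR d⁻¹ (B.inv_mem hd) (inv_ne_one.mpr hd1)
  rw [inv_inv, h] at hE
  apply s.ne
  have h2 : B = cj a A := by rw [hE, cj_cj_inv]
  rw [h2, cj_of_mem ha]

lemma SP.normA (s : SP A B) {e : X} (he : e ∈ A) (h : cj e B = B) : e = 1 := by
  by_contra he1
  obtain ⟨b, -, -, hb, -, hE⟩ := s.exL e he he1
  have h' : cj e⁻¹ B = B := by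
    conv_lhs => rw [← h]
    rw [cj_inv_cj]
  rw [h'] at hE
  apply s.ne
  have h2 : A = cj b B := by rw [← hE, cj_cj_inv]
  rw [h2, cj_of_mem hb]

lemma SP.rel_right_unique (s : SP A B) {a b b' : X} (h : Rel A B a b) (h' : Rel A B a b') :
    b = b' := by
  obtain ⟨-, -, hb, -, hE⟩ := h
  obtain ⟨-, -, hb', -, hE'⟩ := h'
  have h1 : cj (b' * b⁻¹) A = A := by
    rw [cj_mul, hE, ← hE', cj_cj_inv]
  have := s.normB (B.mul_mem hb' (B.inv_mem hb)) h1
  exact (mul_inv_eq_one.mp this).symm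

lemma SP.rel_left_unique (s : SP A B) {a a' b : X} (h : Rel A B a b) (h' : Rel A B a' b) :
    a = a' := by
  obtain ⟨ha, -, -, -, hE⟩ := h
  obtain ⟨ha', -, -, -, hE'⟩ := h'
  have h1 : cj (a' * a⁻¹) B = B := by
    rw [cj_mul, ← hE, hE', cj_cj_inv]
  have := s.normA (A.mul_mem ha' (A.inv_mem ha)) h1
  exact (mul_inv_eq_one.mp this).symm

lemma braid_of_spec {a c : X} (h : c * a * c⁻¹ = a⁻¹ * c * a) : a * c * a = c * a * c := by
  have := congrArg (fun t => a * t * c) h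
  simpa [mul_assoc] using this

lemma braid_comm {a c : X} (h : c * a * c⁻¹ = a⁻¹ * c * a) :
    (c * a * a * c) * a = a * (c * a * a * c) := by
  have h1 := braid_of_spec h
  calc c * a * a * c * a = c * a * (a * c * a) := by group
    _ = c * a * (c * a * c) := by rw [h1]
    _ = (c * a * c) * a * c := by group
    _ = (a * c * a) * a * c := by rw [h1]
    _ = a * (c * a * a * c) := by group

lemma SP.rel_inv (s : SP A B) {a b : X} (h : Rel A B a b) : Rel A B a⁻¹ b⁻¹ := by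
  have hsp := s.spec a b h
  obtain ⟨ha, ha1, hb, hb1, hE⟩ := h
  obtain ⟨b₁, hR1⟩ := s.exL a⁻¹ (A.inv_mem ha) (inv_ne_one.2 ha1)
  suffices hs : b₁ = b⁻¹ by rw [← hs]; exact hR1
  obtain ⟨-, -, hb₁, -, hE1⟩ := hR1
  rw [inv_inv] at hE1
  have hm : (b⁻¹ * a * a * b⁻¹) * a = a * (b⁻¹ * a * a * b⁻¹) := by
    apply braid_comm
    rw [inv_inv]; exact hsp
  have hmA : cj (b⁻¹ * a * a * b⁻¹) A = cj (b⁻¹ * b₁⁻¹) A := by
    have e1 : b⁻¹ * a * a * b⁻¹ = b⁻¹ * ((a * a) * b⁻¹) := by group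
    rw [e1, cj_mul, cj_mul (a * a), hE, cj_mul a a, cj_cj_inv, ← hE1, ← cj_mul]
  have haM : a ∈ cj (b⁻¹ * a * a * b⁻¹) A := by
    rw [mem_cj]
    have : (b⁻¹ * a * a * b⁻¹)⁻¹ * a * (b⁻¹ * a * a * b⁻¹) = a := by
      rw [mul_assoc, ← hm, ← mul_assoc, inv_mul_cancel, one_mul]
    rw [this]; exact ha
  by_contra hne
  have hd : b⁻¹ * b₁⁻¹ ∈ B := B.mul_mem (B.inv_mem hb) (B.inv_mem hb₁)
  have hd1 : b⁻¹ * b₁⁻¹ ≠ 1 := by
    intro h0
    apply hne
    have := mul_eq_one_iff_eq_inv.mp h0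
    rw [inv_inv] at this
    exact this.symm
  obtain ⟨a', ha', -, -, -, hE'⟩ := s.exR (b⁻¹ * b₁⁻¹)⁻¹ (B.inv_mem hd) (inv_ne_one.2 hd1)
  rw [inv_inv, ← hmA] at hE'
  rw [hE', mem_cj, inv_inv] at haM
  have haB : a ∈ B := by
    have e : a' * a * a'⁻¹ = a := by
      rw [s.commA a' ha' a ha, mul_assoc, mul_inv_cancel, mul_one]
    rwa [e] at haM
  exact ha1 (s.inter ha haB)

lemma conj_pow_inv (a b : X) (i : ℕ) : (a⁻¹ * b * a) ^ i = a⁻¹ * b ^ i * a := by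
  have := conj_pow (a := a⁻¹) (b := b) (i := i)
  simpa using this

lemma SP.pow_eq_one_iff (s : SP A B) {x y : X} (h : Rel A B x y) (k : ℕ) :
    x ^ k = 1 ↔ y ^ k = 1 := by
  have hs := s.spec x y h
  have hk : y⁻¹ * x ^ k * y = x⁻¹ * (y⁻¹) ^ k * x := by
    have := congrArg (· ^ k) hs
    simp only [conj_pow_inv] at this
    exact this
  constructor
  · intro h1
    rw [h1] at hk
    have : (y⁻¹) ^ k = 1 := by
      have h2 : x⁻¹ * (y⁻¹) ^ k * x = 1 := by rw [← hk]; group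
      have h3 := congrArg (fun t => x * t * x⁻¹) h2
      simpa [mul_assoc] using h3
    simpa using this
  · intro h1
    have : (y⁻¹) ^ k = 1 := by simpa using h1
    rw [this] at hk
    have h2 : y⁻¹ * x ^ k * y = 1 := by rw [hk]; group
    have h3 := congrArg (fun t => y * t * y⁻¹) h2
    simpa [mul_assoc] using h3

end Cfsg.Agent.Helper25.RankOne
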