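import Cfsg.Agent.Helper25.RankOneA

set_option autoImplicit false
set_option linter.unusedSectionVars false
set_option linter.unusedVariables false
open scoped Pointwise

namespace Cfsg.Agent.Helper25.RankOne

variable {X : Type*} [Group X] {A B : Subgroup X}

/-- the isomorphism `A → B`, `u ↦ (x y⁻¹) u (x y⁻¹)⁻¹` -/
lemma SP.phi_mem (s : SP A B) {x y : X} (h : Rel A B x y) {u : X} (hu : u ∈ A) :
    x * y⁻¹ * u * y * x⁻¹ ∈ B := by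
  obtain ⟨hx, -, hy, -, hE⟩ := h
  have hB : B = cj x (cj y⁻¹ A) := by rw [hE, cj_cj_inv]
  rw [hB, mem_cj, mem_cj, inv_inv]
  have : y * (x⁻¹ * (x * y⁻¹ * u * y * x⁻¹) * x) * y⁻¹ = u := by group
  rw [this]; exact hu

lemma SP.phi_self (s : SP A B) {x y : X} (h : Rel A B x y) :
    x * y⁻¹ * x * y * x⁻¹ = y⁻¹ := by
  have hs := s.spec x y h
  calc x * y⁻¹ * x * y * x⁻¹ = x * (y⁻¹ * x * y) * x⁻¹ := by group
    _ = x * (x⁻¹ * y⁻¹ * x) * x⁻¹ := by rw [hs]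
    _ = y⁻¹ := by group

lemma SP.phi_pow (s : SP A B) {x y : X} (h : Rel A B x y) (j : ℕ) :
    x * y⁻¹ * x ^ j * y * x⁻¹ = (y⁻¹) ^ j := by
  have h1 := s.phi_self h
  have c := conj_pow (a := x * y⁻¹) (b := x) (i := j)
  have e1 : x * y⁻¹ * x * (x * y⁻¹)⁻¹ = y⁻¹ :=
    (by group : x * y⁻¹ * x * (x * y⁻¹)⁻¹ = x * y⁻¹ * x * y * x⁻¹).trans h1
  have e2 : x * y⁻¹ * x ^ j * (x * y⁻¹)⁻¹ = x * y⁻¹ * x ^ j * y * x⁻¹ := by group
  rw [← e2, ← c, e1]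

lemma SP.star (s : SP A B) {x y u v w : X} (hxy : Rel A B x y) (huv : Rel A B u v)
    (hw : Rel A B w (v * y)) :
    Rel A B (w * x⁻¹) (y⁻¹ * (x * y⁻¹ * u * y * x⁻¹)) := by
  have hT : y⁻¹ * (x * y⁻¹ * u * y * x⁻¹) = x * y⁻¹ * (x * u) * y * x⁻¹ := by
    have e := s.phi_self hxy
    calc y⁻¹ * (x * y⁻¹ * u * y * x⁻¹)
        = (x * y⁻¹ * x * y * x⁻¹) * (x * y⁻¹ * u * y * x⁻¹) := by rw [e]
      _ = x * y⁻¹ * (x * u) * y * x⁻¹ := by group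
  have hxi := s.rel_inv hxy
  obtain ⟨hx, hx1, hy, hy1, hE⟩ := hxy
  obtain ⟨hu, hu1, hv, hv1, hEu⟩ := huv
  obtain ⟨hwA, hw1, hvy, hvy1, hEw⟩ := hw
  have hxy' : Rel A B x y := ⟨hx, hx1, hy, hy1, hE⟩
  have huv' : Rel A B u v := ⟨hu, hu1, hv, hv1, hEu⟩
  refine ⟨A.mul_mem hwA (A.inv_mem hx), ?_, B.mul_mem (B.inv_mem hy) (s.phi_mem hxy' hu), ?_, ?_⟩
  · intro h0
    have hwx : w = x := mul_inv_eq_one.mp h0
    have := s.rel_right_unique (hwx ▸ (⟨hwA, hw1, hvy, hvy1, hEw⟩ : Rel A B w (v * y))) hxy'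
    apply hv1
    simpa using this
  · rw [hT]
    intro h0
    have hxu : x * u = 1 := by
      have h3 : y * x⁻¹ * (x * y⁻¹ * (x * u) * y * x⁻¹) * x * y⁻¹ = y * x⁻¹ * 1 * x * y⁻¹ := by
        rw [h0]
      have e1 : y * x⁻¹ * (x * y⁻¹ * (x * u) * y * x⁻¹) * x * y⁻¹ = x * u := by group
      have e2 : y * x⁻¹ * 1 * x * y⁻¹ = 1 := by group
      rw [e1, e2] at h3
      exact h3
    have hux : u = x⁻¹ := (mul_eq_one_iff_eq_inv'.mp hxu)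
    have := s.rel_right_unique (hux ▸ huv') hxi
    apply hvy1
    rw [this]; group
  · rw [hT]
    obtain ⟨-, -, -, -, hEi⟩ := hxi
    rw [inv_inv, inv_inv] at hEi
    -- hEi : cj y A = cj x B
    have eL : (x * y⁻¹ * (x * u) * y * x⁻¹)⁻¹ = (x * y⁻¹ * u⁻¹ * x⁻¹) * (y * x⁻¹) := by group
    have eR : (w * x⁻¹)⁻¹ = x * w⁻¹ := by group
    rw [eL, eR, cj_mul, cj_mul y, cj_of_mem (A.inv_mem hx), hEi, ← cj_mul,
      cj_mul x w⁻¹, ← hEw]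
    have e3 : x * y⁻¹ * u⁻¹ * x⁻¹ * x = (x * y⁻¹) * u⁻¹ := by group
    rw [e3, cj_mul (x * y⁻¹), ← hEu, ← cj_mul, ← cj_mul]
    congr 1
    group

/-- the induction statement: `α(y^k)^k = α(y)` -/
def PP (A B : Subgroup X) (k : ℕ) : Prop :=
  ∀ y ∈ B, ∀ w, Rel A B w (y ^ k) → Rel A B (w ^ k) y

lemma SP.pp_one (s : SP A B) : PP A B 1 := by
  intro y hy w hw
  simpa using hw

lemma SP.step (s : SP A B) {j : ℕ} (hj : PP A B j) {y : X} (hy : y ∈ B) (hyj : y ^ j ≠ 1)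
    {w : X} (hw : Rel A B w (y ^ (j + 1))) : Rel A B (w ^ (j + 1)) y := by
  obtain ⟨x, hx⟩ := s.exR (y ^ j) (B.pow_mem hy j) hyj
  have hxj : Rel A B (x ^ j) y := hj y hy x hx
  have hw' : Rel A B w (y * y ^ j) := by rwa [pow_succ'] at hw
  have hst := s.star hx hxj hw'
  have hT : (y ^ j)⁻¹ * (x * (y ^ j)⁻¹ * x ^ j * y ^ j * x⁻¹) = ((y ^ (j + 1)) ^ j)⁻¹ := by
    have h2 : x * (y ^ j)⁻¹ * x ^ j * y ^ j * x⁻¹ = ((y ^ j)⁻¹) ^ j := s.phi_pow hx j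
    rw [h2, ← pow_succ', inv_pow, ← pow_mul, ← pow_mul, mul_comm]
  rw [hT] at hst
  have h2 := s.rel_inv hst
  rw [inv_inv] at h2
  have h3 := hj (y ^ (j + 1)) (B.pow_mem hy _) _ h2
  have h4 : ((w * x⁻¹)⁻¹) ^ j = w := s.rel_left_unique h3 hw
  have hxA := hx.1
  have hwA := hw.1
  have h5 : x ^ j = w ^ (j + 1) := by
    have e : (w * x⁻¹)⁻¹ = x * w⁻¹ := by group
    rw [e] at h4
    have hc : Commute x w⁻¹ := s.commA x hxA w⁻¹ (A.inv_mem hwA)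
    rw [hc.mul_pow] at h4
    have h6 := congrArg (· * w ^ j) h4
    simp only [inv_pow, inv_mul_cancel_right] at h6
    rw [pow_succ']; exact h6
  rw [← h5]; exact hxj

end Cfsg.Agent.Helper25.RankOne
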