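import Cfsg.Agent.Helper25.RankOneB

set_option autoImplicit false
set_option linter.unusedSectionVars false
set_option linter.unusedVariables false
open scoped Pointwise

namespace Cfsg.Agent.Helper25.RankOne

variable {X : Type*} [Group X] {A B : Subgroup X}

lemma exists_prime_pow {a : X} (ha : a ≠ 1) {i : ℕ} (hi : 0 < i) (hai : a ^ i = 1) :
    ∃ q : ℕ, q.Prime ∧ q ≤ i ∧ ∃ m : ℕ, a ^ m ≠ 1 ∧ (a ^ m) ^ q = 1 := by
  have hn : orderOf a ∣ i := orderOf_dvd_of_pow_eq_one hai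
  have hn1 : orderOf a ≠ 1 := by rwa [Ne, orderOf_eq_one_iff]
  have hn0 : 0 < orderOf a := Nat.pos_of_dvd_of_pos hn hi
  have hq : (orderOf a).minFac.Prime := Nat.minFac_prime hn1
  have hqd : (orderOf a).minFac ∣ orderOf a := Nat.minFac_dvd _
  refine ⟨(orderOf a).minFac, hq, Nat.le_of_dvd hi (dvd_trans hqd hn), orderOf a / (orderOf a).minFac, ?_, ?_⟩
  · intro h0
    have h1 : orderOf a ∣ orderOf a / (orderOf a).minFac := orderOf_dvd_of_pow_eq_one h0
    have h2 : orderOf a / (orderOf a).minFac < orderOf a := Nat.div_lt_self hn0 hq.one_lt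
    have h3 : 0 < orderOf a / (orderOf a).minFac :=
      Nat.div_pos (Nat.le_of_dvd hn0 hqd) hq.pos
    exact absurd (Nat.le_of_dvd h3 h1) (not_le.mpr h2)
  · rw [← pow_mul, Nat.div_mul_cancel hqd, pow_orderOf_eq_one]

lemma SP.ne_one_of_rel_pow (s : SP A B) {y w : X} {k : ℕ} (h : Rel A B w (y ^ k)) : y ≠ 1 := by
  intro h0
  apply h.2.2.2.1
  rw [h0, one_pow]

theorem SP.main (s : SP A B) :
    (∃ p : ℕ, p.Prime ∧ ∀ a ∈ A, a ^ p = 1) ∨
    ((∀ a ∈ A, a ≠ 1 → ¬ IsOfFinOrder a) ∧ ∀ a ∈ A, ∀ n : ℕ, 0 < n → ∃ c ∈ A, c ^ n = a) := by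
  by_cases htf : ∀ a ∈ A, a ≠ 1 → ¬ IsOfFinOrder a
  · right
    refine ⟨htf, ?_⟩
    have hB : ∀ y ∈ B, y ≠ 1 → ∀ i : ℕ, 0 < i → y ^ i ≠ 1 := by
      intro y hy hy1 i hi h0
      obtain ⟨a, ha⟩ := s.exR y hy hy1
      have := (s.pow_eq_one_iff ha i).2 h0
      exact htf a ha.1 ha.2.1 (isOfFinOrder_iff_pow_eq_one.2 ⟨i, hi, this⟩)
    have hP : ∀ k : ℕ, 1 ≤ k → PP A B k := by
      intro k hk
      induction k, hk using Nat.le_induction with
      | base => exact s.pp_one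
      | succ j hj ih =>
        intro y hy w hw
        exact s.step ih hy (hB y hy (s.ne_one_of_rel_pow hw) j hj) hw
    intro a ha n hn
    by_cases h1 : a = 1
    · exact ⟨1, A.one_mem, by rw [h1, one_pow]⟩
    · obtain ⟨b, hb⟩ := s.exL a ha h1
      have hbn : b ^ n ≠ 1 := hB b hb.2.2.1 hb.2.2.2.1 n hn
      obtain ⟨c, hc⟩ := s.exR (b ^ n) (B.pow_mem hb.2.2.1 n) hbn
      have h2 := hP n hn b hb.2.2.1 c hc
      exact ⟨c, hc.1, s.rel_left_unique h2 hb⟩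
  · left
    push Not at htf
    obtain ⟨a₀, ha₀, ha₀1, hfin⟩ := htf
    have hex : ∃ q : ℕ, q.Prime ∧ ∃ x ∈ A, x ≠ 1 ∧ x ^ q = 1 := by
      obtain ⟨i, hi, hai⟩ := isOfFinOrder_iff_pow_eq_one.1 hfin
      obtain ⟨q, hq, -, m, hm1, hmq⟩ := exists_prime_pow ha₀1 hi hai
      exact ⟨q, hq, a₀ ^ m, A.pow_mem ha₀ m, hm1, hmq⟩
    classical
    obtain ⟨hp, x, hx, hx1, hxp⟩ := Nat.find_spec hex
    have hmin : ∀ q : ℕ, q < Nat.find hex → ¬ (q.Prime ∧ ∃ x ∈ A, x ≠ 1 ∧ x ^ q = 1) :=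
      fun q hq => Nat.find_min hex hq
    set p := Nat.find hex with hpdef
    -- small powers of nonidentity elements of B are nontrivial
    have hB : ∀ y ∈ B, y ≠ 1 → ∀ i : ℕ, 0 < i → i < p → y ^ i ≠ 1 := by
      intro y hy hy1 i hi hip h0
      obtain ⟨a, ha⟩ := s.exR y hy hy1
      have hai := (s.pow_eq_one_iff ha i).2 h0
      obtain ⟨q, hq, hqi, m, hm1, hmq⟩ := exists_prime_pow ha.2.1 hi hai
      exact hmin q (lt_of_le_of_lt hqi hip) ⟨hq, a ^ m, A.pow_mem ha.1 m, hm1, hmq⟩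
    have hP : ∀ k : ℕ, 1 ≤ k → k ≤ p → PP A B k := by
      intro k hk
      induction k, hk using Nat.le_induction with
      | base => intro _; exact s.pp_one
      | succ j hj ih =>
        intro hjp y hy w hw
        exact s.step (ih (by omega)) hy (hB y hy (s.ne_one_of_rel_pow hw) j hj (by omega)) hw
    have hPp : PP A B p := hP p hp.one_lt.le le_rfl
    obtain ⟨z, hz⟩ := s.exL x hx hx1
    have hzp : z ^ p = 1 := (s.pow_eq_one_iff hz p).1 hxp
    have hBp : ∀ v ∈ B, v ^ p = 1 := by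
      intro v hv
      by_contra hvp
      obtain ⟨w, hw⟩ := s.exR (v ^ p) (B.pow_mem hv p) hvp
      have h1 := hPp v hv w hw
      have hvz : (v * z) ^ p = v ^ p := by
        rw [(show Commute v z from s.commB v hv z hz.2.2.1).mul_pow, hzp, mul_one]
      have h2 := hPp (v * z) (B.mul_mem hv hz.2.2.1) w (by rw [hvz]; exact hw)
      have h3 := s.rel_right_unique h1 h2
      apply hz.2.2.2.1
      have := congrArg (fun t => v⁻¹ * t) h3
      simpa using this.symm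
    refine ⟨p, hp, ?_⟩
    intro a ha
    by_cases h1 : a = 1
    · rw [h1, one_pow]
    · obtain ⟨b, hb⟩ := s.exL a ha h1
      exact (s.pow_eq_one_iff hb p).2 (hBp b hb.2.2.1)

lemma comm_of_isMulCommutative {H : Subgroup X} (h : IsMulCommutative H) :
    ∀ x ∈ H, ∀ y ∈ H, x * y = y * x := by
  intro x hx y hy
  have := h.is_comm.comm (⟨x, hx⟩ : H) ⟨y, hy⟩
  exact congrArg Subtype.val this

theorem sp_of (hs : Cfsg.IsSpecialRankOnePair A B) (hab : Cfsg.HasAbelianUnipotents A B) :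
    SP A B := by
  obtain ⟨hp, hsp⟩ := hs
  refine ⟨hp.ne, comm_of_isMulCommutative hab.1, comm_of_isMulCommutative hab.2, ?_, ?_, ?_⟩
  · intro a ha ha1
    obtain ⟨b, hb, hb1, hE⟩ := hp.cond_left a ha ha1
    refine ⟨b, ha, ha1, hb, hb1, ?_⟩
    rw [← conjBy_eq_cj, ← conjBy_eq_cj]; exact hE
  · intro b hb hb1
    obtain ⟨a, ha, ha1, hE⟩ := hp.cond_right b hb hb1
    refine ⟨a, ha, ha1, hb, hb1, ?_⟩
    rw [← conjBy_eq_cj, ← conjBy_eq_cj]; exact hE.symm
  · intro a b h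
    obtain ⟨ha, ha1, hb, hb1, hE⟩ := h
    apply hsp a ha ha1 b hb hb1
    rw [conjBy_eq_cj, conjBy_eq_cj]; exact hE

end Cfsg.Agent.Helper25.RankOne
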