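import Cfsg.Agent.Helper25.St2D

set_option autoImplicit false
set_option linter.unusedSectionVars false
set_option linter.unusedVariables false

/-! `psi` is a homomorphism `SL₂(ZMod p) → Y`. -/

namespace Cfsg.Agent.Helper25.St2

open Cfsg Cfsg.Agent.Helper25

variable {p : ℕ} [Fact p.Prime] {Y : Type*} [Group Y] (S : St (ZMod p) Y)

local notation "SL2p" => Matrix.SpecialLinearGroup (Fin 2) (ZMod p)

namespace St

/-- the elements on which `psi` is right-multiplicative -/
def mulSub : Subgroup SL2p where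
  carrier := {g' | ∀ g, S.psi (g * g') = S.psi g * S.psi g'}
  one_mem' := by
    intro g
    rw [mul_one, S.psi_one, mul_one]
  mul_mem' := by
    intro a b ha hb g
    rw [← mul_assoc, hb (g * a), ha g, hb a, mul_assoc]
  inv_mem' := by
    intro a ha g
    have h1 : S.psi a⁻¹ = (S.psi a)⁻¹ := by
      have := ha a⁻¹
      rw [inv_mul_cancel, S.psi_one] at this
      exact eq_inv_of_mul_eq_one_left this.symm
    have h2 := ha (g * a⁻¹)
    rw [inv_mul_cancel_right] at h2
    rw [h1, h2, mul_inv_cancel_right]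

lemma upper_mem_mulSub (t : ZMod p) : sl2Upper t ∈ S.mulSub := by
  intro g
  rw [S.psi_mul_upper, S.psi_upper]

lemma W1_mem_mulSub : (W1 : SL2p) ∈ S.mulSub := by
  intro g
  rw [S.psi_mul_W1, S.psi_W1]

lemma lower_eq (t : ZMod p) : (sl2Lower t : SL2p) = W1 * sl2Upper (-t) * W1⁻¹ := by
  apply sl2_ext <;>
    simp only [sl2_mul_apply, sl2_inv_00, sl2_inv_01, sl2_inv_10, sl2_inv_11, sl2Lower_00,
      sl2Lower_01, sl2Lower_10, sl2Lower_11, sl2Upper_00, sl2Upper_01, sl2Upper_10, sl2Upper_11,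
      W1_00, W1_01, W1_10, W1_11] <;> ring

lemma mulSub_eq_top : S.mulSub = ⊤ := by
  rw [eq_top_iff, ← sl2_generation, sup_le_iff]
  constructor
  · intro g hg
    rw [eq_sl2Lower_of_mem hg, lower_eq]
    exact S.mulSub.mul_mem (S.mulSub.mul_mem S.W1_mem_mulSub (S.upper_mem_mulSub _))
      (S.mulSub.inv_mem S.W1_mem_mulSub)
  · intro g hg
    rw [eq_sl2Upper_of_mem hg]
    exact S.upper_mem_mulSub _

/-- the homomorphism `SL₂(ZMod p) → Y` -/
def psiHom : SL2p →* Y :=
  MonoidHom.mk' S.psi (fun a b => by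
    have : b ∈ S.mulSub := by rw [S.mulSub_eq_top]; trivial
    exact this a)

@[simp] lemma psiHom_apply (g : SL2p) : S.psiHom g = S.psi g := rfl

lemma psiHom_upper (t : ZMod p) : S.psiHom (sl2Upper t) = S.x t := S.psi_upper t

lemma psiHom_W1 : S.psiHom W1 = S.w 1 := S.psi_W1

lemma psiHom_lower (t : ZMod p) : S.psiHom (sl2Lower t) = S.y t := by
  rw [lower_eq, map_mul, map_mul, map_inv, S.psiHom_W1, S.psiHom_upper]
  have := S.relx (one_ne_zero (α := ZMod p)) (-t)
  rw [this]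
  congr 1
  rw [inv_one]; ring

lemma psi_of_eq {g : SL2p} (hc : g 1 0 = 0) :
    S.psiHom g = S.x (g 0 0 * g 0 1) * S.h (g 0 0) := by
  rw [psiHom_apply]; unfold psi; rw [if_pos hc]

lemma psi_of_ne {g : SL2p} (hc : g 1 0 ≠ 0) :
    S.psiHom g = S.x (g 0 0 / g 1 0) * S.w (-(g 1 0)⁻¹) * S.x (g 1 1 / g 1 0) := by
  rw [psiHom_apply]; unfold psi; rw [if_neg hc]

end St

end Cfsg.Agent.Helper25.St2
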