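import Cfsg.Agent.Helper25.RankOneC
import Cfsg.Agent.Helper25.St2E

set_option autoImplicit false
set_option linter.unusedSectionVars false
set_option linter.unusedVariables false
open scoped Pointwise

/-! Special rank one groups with unipotent subgroups of exponent `p`: the subgroups `⟨a, b(a)⟩`. -/

namespace Cfsg.Agent.Helper25.RankOne

open Cfsg.Agent.Helper25.St2

variable {X : Type*} [Group X] {A B : Subgroup X} {p : ℕ} [Fact p.Prime]

lemma pow_mod_of {a : X} (h : a ^ p = 1) (n : ℕ) : a ^ (n % p) = a ^ n := by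
  conv_rhs => rw [← Nat.div_add_mod n p, pow_add, pow_mul, h, one_pow, one_mul]

lemma zpow_val_add {a : X} (h : a ^ p = 1) (s t : ZMod p) :
    a ^ (s + t).val = a ^ s.val * a ^ t.val := by
  rw [ZMod.val_add, pow_mod_of h, pow_add]

lemma zpow_val_mul {a : X} (h : a ^ p = 1) (t u : ZMod p) :
    (a ^ t.val) ^ u.val = a ^ (t * u).val := by
  rw [ZMod.val_mul, pow_mod_of h, pow_mul]

lemma zpow_val_neg {a : X} (h : a ^ p = 1) (t : ZMod p) :
    a ^ (-t).val = (a ^ t.val)⁻¹ := by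
  have := zpow_val_add h (-t) t
  rw [neg_add_cancel, ZMod.val_zero, pow_zero] at this
  exact eq_inv_of_mul_eq_one_left this.symm

lemma SP.exp_right (s : SP A B) (hexp : ∀ a ∈ A, a ^ p = 1) : ∀ y ∈ B, y ^ p = 1 := by
  intro y hy
  by_cases h1 : y = 1
  · rw [h1, one_pow]
  · obtain ⟨a, ha⟩ := s.exR y hy h1
    exact (s.pow_eq_one_iff ha p).1 (hexp a ha.1)

lemma SP.pp_of_exp (s : SP A B) (hexp : ∀ a ∈ A, a ^ p = 1) :
    ∀ k : ℕ, 1 ≤ k → k ≤ p → PP A B k := by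
  have hp : p.Prime := Fact.out
  have hB : ∀ y ∈ B, y ≠ 1 → ∀ i : ℕ, 0 < i → i < p → y ^ i ≠ 1 := by
    intro y hy hy1 i hi hip h0
    have h1 := pow_gcd_eq_one.mpr ⟨h0, s.exp_right hexp y hy⟩
    have : Nat.Coprime i p := (Nat.coprime_of_lt_prime (Nat.pos_iff_ne_zero.mp hi) hip hp).symm
    rw [this, pow_one] at h1
    exact hy1 h1
  intro k hk
  induction k, hk using Nat.le_induction with
  | base => intro _; exact s.pp_one
  | succ j hj ih =>
    intro hjp y hy w hw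
    exact s.step (ih (by omega)) hy (hB y hy (s.ne_one_of_rel_pow hw) j hj (by omega)) hw

lemma SP.rel_val (s : SP A B) (hexp : ∀ a ∈ A, a ^ p = 1) {a b : X} (h : Rel A B a b)
    {t : ZMod p} (ht : t ≠ 0) : Rel A B (a ^ t.val) (b ^ (t⁻¹).val) := by
  have hbp := s.exp_right hexp b h.2.2.1
  have hk1 : 1 ≤ t.val := Nat.one_le_iff_ne_zero.mpr (by rwa [Ne, ZMod.val_eq_zero])
  have hk2 : t.val ≤ p := (ZMod.val_lt t).le
  apply s.pp_of_exp hexp t.val hk1 hk2 (b ^ (t⁻¹).val) (B.pow_mem h.2.2.1 _) a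
  rw [zpow_val_mul hbp, inv_mul_cancel₀ ht, ZMod.val_one, pow_one]
  exact h

/-- `n(x) = x b(x)⁻¹ x` conjugates `A` to `B` -/
lemma SP.cj_n (s : SP A B) {x y : X} (h : Rel A B x y) : cj (x * y⁻¹ * x) A = B := by
  obtain ⟨hx, -, -, -, hE⟩ := h
  rw [cj_mul, cj_mul, cj_of_mem hx, hE, cj_cj_inv]

/-- the Steinberg data attached to `a`, `b(a)` -/
def SP.st (s : SP A B) (hexp : ∀ a ∈ A, a ^ p = 1) {a b : X} (h : Rel A B a b) :
    St (ZMod p) X where
  x t := a ^ t.val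
  y t := b ^ t.val
  x_add := zpow_val_add (hexp a h.1)
  y_add := zpow_val_add (s.exp_right hexp b h.2.2.1)
  rel := by
    intro t ht u
    have hap := hexp a h.1
    have hbp := s.exp_right hexp b h.2.2.1
    have hR := s.rel_val hexp h ht
    have e1 : b ^ (-t⁻¹).val = (b ^ (t⁻¹).val)⁻¹ := zpow_val_neg hbp _
    have e2 : a ^ u.val = (a ^ t.val) ^ (u * t⁻¹).val := by
      rw [zpow_val_mul hap, mul_comm u, mul_inv_cancel_left₀ ht]
    have e3 := s.phi_pow hR (u * t⁻¹).val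
    have e4 : ((b ^ (t⁻¹).val)⁻¹) ^ (u * t⁻¹).val = b ^ (-(t⁻¹) ^ 2 * u).val := by
      rw [inv_pow, zpow_val_mul hbp, ← zpow_val_neg hbp]
      congr 2
      ring
    rw [e1, e2, ← e4, ← e3]
    have hc : Commute (a ^ t.val) ((a ^ t.val) ^ (u * t⁻¹).val) := (Commute.refl _).pow_right _
    calc a ^ t.val * (b ^ (t⁻¹).val)⁻¹ * a ^ t.val * (a ^ t.val) ^ (u * t⁻¹).val *
          (a ^ t.val * (b ^ (t⁻¹).val)⁻¹ * a ^ t.val)⁻¹
        = a ^ t.val * (b ^ (t⁻¹).val)⁻¹ * (a ^ t.val * (a ^ t.val) ^ (u * t⁻¹).val) *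
          (a ^ t.val)⁻¹ * b ^ (t⁻¹).val * (a ^ t.val)⁻¹ := by group
      _ = a ^ t.val * (b ^ (t⁻¹).val)⁻¹ * ((a ^ t.val) ^ (u * t⁻¹).val * a ^ t.val) *
          (a ^ t.val)⁻¹ * b ^ (t⁻¹).val * (a ^ t.val)⁻¹ := by rw [hc.eq]
      _ = a ^ t.val * (b ^ (t⁻¹).val)⁻¹ * (a ^ t.val) ^ (u * t⁻¹).val * b ^ (t⁻¹).val *
          (a ^ t.val)⁻¹ := by group

end Cfsg.Agent.Helper25.RankOne
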