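import Cfsg.Agent.Helper25.RankOneD

set_option autoImplicit false
set_option linter.unusedSectionVars false
set_option linter.unusedVariables false
open scoped Pointwise

/-! `⟨a, b(a)⟩ ≅ SL₂(p)` or `PSL₂(p)` in a special rank one group with unipotents of exponent `p`. -/

namespace Cfsg.Agent.Helper25.RankOne

open Cfsg Cfsg.Agent.Helper25 Cfsg.Agent.Helper25.St2

variable {X : Type*} [Group X] {A B : Subgroup X} {p : ℕ} [Fact p.Prime]

local notation "SL2p" => Matrix.SpecialLinearGroup (Fin 2) (ZMod p)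

section
variable (s : SP A B) (hexp : ∀ a ∈ A, a ^ p = 1) {a b : X} (h : Rel A B a b)

lemma SP.st_x (t : ZMod p) : (s.st hexp h).x t = a ^ t.val := rfl
lemma SP.st_y (t : ZMod p) : (s.st hexp h).y t = b ^ t.val := rfl

lemma SP.st_x_mem (t : ZMod p) : (s.st hexp h).x t ∈ A := A.pow_mem h.1 _
lemma SP.st_y_mem (t : ZMod p) : (s.st hexp h).y t ∈ B := B.pow_mem h.2.2.1 _

lemma SP.st_x_eq_one {t : ZMod p} (ht : (s.st hexp h).x t = 1) : t = 0 := by
  rw [SP.st_x] at ht
  have hp : p.Prime := Fact.out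
  have ho : orderOf a = p := orderOf_eq_prime (hexp a h.1) h.2.1
  have hd : orderOf a ∣ t.val := orderOf_dvd_of_pow_eq_one ht
  rw [ho] at hd
  have : t.val = 0 := Nat.eq_zero_of_dvd_of_lt hd (ZMod.val_lt t)
  exact (ZMod.val_eq_zero t).mp this

lemma SP.st_x_inj {t u : ZMod p} (ht : (s.st hexp h).x t = (s.st hexp h).x u) : t = u := by
  have : (s.st hexp h).x (t - u) = 1 := by
    rw [(s.st hexp h).x_sub, ht, mul_inv_cancel]
  exact sub_eq_zero.mp (s.st_x_eq_one hexp h this)

lemma SP.st_cj_w {t : ZMod p} (ht : t ≠ 0) : cj ((s.st hexp h).w t) A = B := by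
  have hbp := s.exp_right hexp b h.2.2.1
  have hR := s.rel_val hexp h ht
  have := s.cj_n hR
  unfold St.w
  rw [SP.st_x, SP.st_y, zpow_val_neg hbp]
  exact this

lemma SP.st_cj_h {t : ZMod p} (ht : t ≠ 0) : cj ((s.st hexp h).h t) B = B := by
  unfold St.h
  rw [cj_mul]
  have e := s.st_cj_w hexp h (one_ne_zero (α := ZMod p))
  have h1 : cj ((s.st hexp h).w 1)⁻¹ B = A := by
    calc cj ((s.st hexp h).w 1)⁻¹ B = cj ((s.st hexp h).w 1)⁻¹ (cj ((s.st hexp h).w 1) A) := by
          rw [e]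
      _ = A := cj_inv_cj _ _
  rw [h1, s.st_cj_w hexp h ht]

/-- entries of a kernel element -/
lemma SP.ker_entries {g : SL2p} (hg : (s.st hexp h).psiHom g = 1) :
    g 1 0 = 0 ∧ g 0 1 = 0 ∧ (g 0 0) ^ 2 = 1 := by
  set S := s.st hexp h with hS
  have hd := sl2_det g
  by_cases hc : g 1 0 = 0
  · have ha : g 0 0 ≠ 0 := by
      intro h0; rw [hc, h0] at hd; simp at hd
    rw [S.psi_of_eq hc] at hg
    have hh : S.h (g 0 0) = (S.x (g 0 0 * g 0 1))⁻¹ := eq_inv_of_mul_eq_one_right hg
    have hmem : S.h (g 0 0) ∈ A := by rw [hh]; exact A.inv_mem (s.st_x_mem hexp h _)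
    have h1 : S.h (g 0 0) = 1 := s.normA hmem (s.st_cj_h hexp h ha)
    have hx1 : S.x (g 0 0 * g 0 1) = 1 := by
      rw [h1] at hh
      exact inv_eq_one.mp hh.symm
    have hb : g 0 1 = 0 := by
      have := s.st_x_eq_one hexp h hx1
      rcases mul_eq_zero.mp this with h0 | h0
      · exact absurd h0 ha
      · exact h0
    have hx := S.h_x ha 1
    rw [h1, mul_one, one_mul, inv_one, mul_one] at hx
    exact ⟨hc, hb, (s.st_x_inj hexp h hx).symm⟩
  · exfalso
    rw [S.psi_of_ne hc] at hg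
    have ht : -(g 1 0)⁻¹ ≠ 0 := neg_ne_zero.mpr (inv_ne_zero hc)
    have hw : S.w (-(g 1 0)⁻¹) = (S.x (g 0 0 / g 1 0))⁻¹ * (S.x (g 1 1 / g 1 0))⁻¹ := by
      have := congrArg (fun z => (S.x (g 0 0 / g 1 0))⁻¹ * z * (S.x (g 1 1 / g 1 0))⁻¹) hg
      simp only [mul_one] at this
      rw [← this]; group
    have hmem : S.w (-(g 1 0)⁻¹) ∈ A := by
      rw [hw]
      exact A.mul_mem (A.inv_mem (s.st_x_mem hexp h _)) (A.inv_mem (s.st_x_mem hexp h _))
    have := s.st_cj_w hexp h ht
    rw [cj_of_mem hmem] at this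
    exact s.ne this

end

lemma center_entries {z : SL2p} (hz : z ∈ Subgroup.center SL2p) :
    z 1 0 = 0 ∧ z 0 1 = 0 ∧ (z 0 0) ^ 2 = 1 ∧ z 1 1 = z 0 0 := by
  obtain ⟨r, hr, hrz⟩ := Matrix.SpecialLinearGroup.mem_center_iff.mp hz
  have e : ∀ i j, z i j = (Matrix.scalar (Fin 2) r) i j := fun i j => by rw [hrz]
  simp only [Fintype.card_fin] at hr
  refine ⟨?_, ?_, ?_, ?_⟩
  · rw [e]; simp
  · rw [e]; simp
  · rw [e]; simpa using hr
  · rw [e, e]; simp

lemma mem_center_of_entries {g : SL2p} (h10 : g 1 0 = 0) (h01 : g 0 1 = 0)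
    (h00 : (g 0 0) ^ 2 = 1) : g ∈ Subgroup.center SL2p := by
  have hd := sl2_det g
  rw [h10, h01] at hd
  have h11 : g 1 1 = g 0 0 := by
    have : g 0 0 * g 1 1 = g 0 0 * g 0 0 := by rw [← sq, h00]; simpa using hd
    have ha : g 0 0 ≠ 0 := by
      intro h0; rw [h0] at h00; simp at h00
    exact mul_left_cancel₀ ha this
  rw [Matrix.SpecialLinearGroup.mem_center_iff]
  refine ⟨g 0 0, by simpa using h00, ?_⟩
  ext i j
  fin_cases i <;> fin_cases j <;> simp [h10, h01, h11]

theorem SP.closure_equiv (s : SP A B) (hexp : ∀ a ∈ A, a ^ p = 1) {a b : X}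
    (h : Rel A B a b) :
    Nonempty (↥(Subgroup.closure ({a, b} : Set X)) ≃* SL2p) ∨
    Nonempty (↥(Subgroup.closure ({a, b} : Set X)) ≃*
      Matrix.ProjectiveSpecialLinearGroup (Fin 2) (ZMod p)) := by
  set S := s.st hexp h with hS
  have hx1 : S.x 1 = a := by
    change a ^ (1 : ZMod p).val = a
    rw [ZMod.val_one, pow_one]
  have hy1 : S.y 1 = b := by
    change b ^ (1 : ZMod p).val = b
    rw [ZMod.val_one, pow_one]
  -- the range
  have hrange : S.psiHom.range = Subgroup.closure ({a, b} : Set X) := by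
    apply le_antisymm
    · rw [MonoidHom.range_eq_map, ← sl2_generation, Subgroup.map_sup, sup_le_iff]
      constructor
      · rintro _ ⟨g, hg, rfl⟩
        rw [eq_sl2Lower_of_mem hg, S.psiHom_lower]
        exact Subgroup.pow_mem _ (Subgroup.subset_closure (by simp)) _
      · rintro _ ⟨g, hg, rfl⟩
        rw [eq_sl2Upper_of_mem hg, S.psiHom_upper]
        exact Subgroup.pow_mem _ (Subgroup.subset_closure (by simp)) _
    · rw [Subgroup.closure_le]
      rintro z (rfl | rfl)
      · exact ⟨sl2Upper 1, by rw [S.psiHom_upper, hx1]⟩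
      · exact ⟨sl2Lower 1, by rw [S.psiHom_lower, hy1]⟩
  have e1 : SL2p ⧸ S.psiHom.ker ≃* ↥(Subgroup.closure ({a, b} : Set X)) :=
    (QuotientGroup.quotientKerEquivRange S.psiHom).trans (MulEquiv.subgroupCongr hrange)
  have hker_le : S.psiHom.ker ≤ Subgroup.center SL2p := by
    intro g hg
    obtain ⟨h10, h01, h00⟩ := s.ker_entries hexp h (MonoidHom.mem_ker.mp hg)
    exact mem_center_of_entries h10 h01 h00
  by_cases hbot : S.psiHom.ker = ⊥
  · left
    exact ⟨e1.symm.trans ((QuotientGroup.quotientMulEquivOfEq hbot).trans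
      QuotientGroup.quotientBot)⟩
  · right
    have hcen : S.psiHom.ker = Subgroup.center SL2p := by
      apply le_antisymm hker_le
      obtain ⟨g₀, hg₀1⟩ := (Subgroup.ne_bot_iff_exists_ne_one).mp hbot
      obtain ⟨g₀, hg₀⟩ := g₀
      have hg₀1' : g₀ ≠ 1 := fun h0 => hg₀1 (Subtype.ext h0)
      obtain ⟨h10, h01, h00⟩ := s.ker_entries hexp h (MonoidHom.mem_ker.mp hg₀)
      have hd := sl2_det g₀
      rw [h10, h01] at hd
      have hg00 : g₀ 0 0 = -1 := by
        have : (g₀ 0 0 - 1) * (g₀ 0 0 + 1) = 0 := by linear_combination h00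
        rcases mul_eq_zero.mp this with h1 | h1
        · exfalso
          apply hg₀1'
          have ha : g₀ 0 0 = 1 := sub_eq_zero.mp h1
          have hdd : g₀ 1 1 = 1 := by rw [ha] at hd; simpa using hd
          exact sl2_ext (by simp [ha]) (by simp [h01]) (by simp [h10]) (by simp [hdd])
        · exact eq_neg_of_add_eq_zero_left h1
      have hg11 : g₀ 1 1 = -1 := by rw [hg00] at hd; linear_combination (-1 : ZMod p) * hd
      intro z hz
      obtain ⟨z10, z01, z00, z11⟩ := center_entries hz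
      have : (z 0 0 - 1) * (z 0 0 + 1) = 0 := by linear_combination z00
      rcases mul_eq_zero.mp this with h1 | h1
      · have ha : z 0 0 = 1 := sub_eq_zero.mp h1
        have : z = 1 := sl2_ext (by simp [ha]) (by simp [z01]) (by simp [z10]) (by simp [z11, ha])
        rw [this]; exact Subgroup.one_mem _
      · have ha : z 0 0 = -1 := eq_neg_of_add_eq_zero_left h1
        have : z = g₀ := sl2_ext (by rw [ha, hg00]) (by rw [z01, h01]) (by rw [z10, h10])
          (by rw [z11, ha, hg11])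
        rw [this]; exact hg₀
    exact ⟨e1.symm.trans (QuotientGroup.quotientMulEquivOfEq hcen)⟩

end Cfsg.Agent.Helper25.RankOne
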