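import Cfsg.Agent.Helper25.RankOneE

set_option autoImplicit false
set_option linter.unusedSectionVars false
set_option linter.unusedVariables false
open scoped Pointwise

/-! A special rank one group with abelian unipotent subgroups of order `> 3` is perfect. -/

namespace Cfsg.Agent.Helper25.RankOne

variable {X : Type*} [Group X] {A B : Subgroup X}

lemma SP.symm (s : SP A B) : SP B A where
  ne := s.ne.symm
  commA := s.commB
  commB := s.commA
  exL := by
    intro b hb hb1
    obtain ⟨a, ha, ha1, -, -, hE⟩ := s.exR b hb hb1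
    exact ⟨a, hb, hb1, ha, ha1, hE.symm⟩
  exR := by
    intro a ha ha1
    obtain ⟨b, -, -, hb, hb1, hE⟩ := s.exL a ha ha1
    exact ⟨b, hb, hb1, ha, ha1, hE.symm⟩
  spec := by
    rintro b a ⟨hb, hb1, ha, ha1, hE⟩
    have := s.spec a b ⟨ha, ha1, hb, hb1, hE.symm⟩
    have h2 := congrArg (·⁻¹) this
    simp only [mul_inv_rev, inv_inv] at h2
    rw [← mul_assoc, ← mul_assoc] at h2
    exact h2.symm

lemma rel_symm {a b : X} : Rel B A b a ↔ Rel A B a b := by
  constructor
  · rintro ⟨hb, hb1, ha, ha1, hE⟩; exact ⟨ha, ha1, hb, hb1, hE.symm⟩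
  · rintro ⟨ha, ha1, hb, hb1, hE⟩; exact ⟨hb, hb1, ha, ha1, hE.symm⟩

section Ab

/-- conjugation is invisible in the abelianization -/
lemma ab_conj (g u : X) :
    (Abelianization.of (g * u * g⁻¹) : Abelianization X) = Abelianization.of u := by
  rw [map_mul, map_mul, map_inv, mul_comm (Abelianization.of g), mul_inv_cancel_right]

lemma SP.ab_rel (s : SP A B) {a b : X} (h : Rel A B a b) :
    (Abelianization.of b : Abelianization X) = (Abelianization.of a)⁻¹ := by
  have hs := congrArg (Abelianization.of (G := X)) (s.spec a b h)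
  simp only [map_mul, map_inv] at hs
  rw [mul_comm ((Abelianization.of b)⁻¹) (Abelianization.of a), inv_mul_cancel_right,
    mul_comm ((Abelianization.of a)⁻¹ * (Abelianization.of b)⁻¹) (Abelianization.of a),
    mul_inv_cancel_left] at hs
  rw [hs, inv_inv]

lemma SP.ab_key (s : SP A B) {z ζ u v w : X} (hz : Rel A B z ζ) (hu : Rel A B u v) (hw : Rel A B w (v * ζ)) :
    (Abelianization.of z : Abelianization X) =
      ((Abelianization.of u) * (Abelianization.of u))⁻¹ := by
  have hst := s.star hz hu hw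
  have e1 := s.ab_rel hst
  have e2 := s.ab_rel hw
  have e3 := s.ab_rel hz
  have e4 := s.ab_rel hu
  have hconj : z * ζ⁻¹ * u * ζ * z⁻¹ = (z * ζ⁻¹) * u * (z * ζ⁻¹)⁻¹ := by group
  rw [hconj, map_mul, ab_conj, map_inv, e3, inv_inv, map_mul, map_inv, mul_inv_rev, inv_inv]
    at e1
  -- e1 : Z * U = Z * W⁻¹
  have hUW : (Abelianization.of u : Abelianization X) = (Abelianization.of w)⁻¹ :=
    mul_left_cancel e1
  rw [map_mul, e4, e3, ← hUW] at e2
  -- e2 : U⁻¹ * Z⁻¹ = U
  have : (Abelianization.of z : Abelianization X)⁻¹ =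
      Abelianization.of u * Abelianization.of u := by
    calc (Abelianization.of z : Abelianization X)⁻¹
        = Abelianization.of u * ((Abelianization.of u)⁻¹ * (Abelianization.of z)⁻¹) := by
          rw [mul_inv_cancel_left]
      _ = Abelianization.of u * Abelianization.of u := by rw [e2]
  rw [← this, inv_inv]

/-- the key: an element of `A` is a commutator as soon as `A` has an element outside
`{1, a, a⁻¹}` -/
lemma SP.ab_eq_one (s : SP A B) {a z : X} (ha : a ∈ A) (ha1 : a ≠ 1) (hz : z ∈ A) (hz1 : z ≠ 1)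
    (hza : z ≠ a) (hza' : z ≠ a⁻¹) : (Abelianization.of a : Abelianization X) = 1 := by
  obtain ⟨α, hα⟩ := s.exL a ha ha1
  obtain ⟨ζ, hζ⟩ := s.exL z hz hz1
  have hzi := s.rel_inv hζ
  -- a ∥ z
  have h1 : α * ζ ≠ 1 := by
    intro h0
    have : α = ζ⁻¹ := mul_eq_one_iff_eq_inv.mp h0
    rw [this] at hα
    have e := s.rel_left_unique hzi hα
    exact hza' (inv_eq_iff_eq_inv.mp e)
  have h2 : α * ζ⁻¹ ≠ 1 := by
    intro h0
    have : α = ζ := by
      have := mul_eq_one_iff_eq_inv.mp h0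
      rwa [inv_inv] at this
    rw [this] at hα
    exact hza (s.rel_left_unique hζ hα)
  have h3 : ζ * α ≠ 1 := by rwa [s.commB ζ hζ.2.2.1 α hα.2.2.1]
  obtain ⟨w₁, hw₁⟩ := s.exR (α * ζ) (B.mul_mem hα.2.2.1 hζ.2.2.1) h1
  obtain ⟨w₂, hw₂⟩ := s.exR (α * ζ⁻¹) (B.mul_mem hα.2.2.1 (B.inv_mem hζ.2.2.1)) h2
  obtain ⟨w₃, hw₃⟩ := s.exR (ζ * α) (B.mul_mem hζ.2.2.1 hα.2.2.1) h3
  have k1 := s.ab_key hζ hα hw₁
  have k2 := s.ab_key hzi hα hw₂
  have k3 := s.ab_key hα hζ hw₃
  -- k1 : Z = (U U)⁻¹, k2 : Z⁻¹ = (U U)⁻¹, k3 : U = (Z Z)⁻¹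
  rw [map_inv] at k2
  have hZ : (Abelianization.of z : Abelianization X) * Abelianization.of z = 1 := by
    have : (Abelianization.of z : Abelianization X) = (Abelianization.of z)⁻¹ := by
      rw [k2, ← k1]
    exact mul_eq_one_iff_eq_inv.mpr this
  rw [k3, hZ, inv_one]

lemma SP.mem_commutator_left (s : SP A B) (hcard : 3 < ENat.card A) {a : X} (ha : a ∈ A) :
    a ∈ commutator X := by
  by_cases ha1 : a = 1
  · rw [ha1]; exact Subgroup.one_mem _
  have hex : ∃ z ∈ A, z ≠ 1 ∧ z ≠ a ∧ z ≠ a⁻¹ := by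
    by_contra hcon
    push Not at hcon
    have hsub : (A : Set X) ⊆ {1, a, a⁻¹} := by
      intro z hz
      by_cases h1 : z = 1
      · simp [h1]
      by_cases h2 : z = a
      · simp [h2]
      · have := hcon z hz h1 h2
        simp [this]
    have h3 : Set.encard (A : Set X) ≤ 3 := by
      refine (Set.encard_le_encard hsub).trans ?_
      refine (Set.encard_insert_le _ _).trans ?_
      have h5 : Set.encard ({a, a⁻¹} : Set X) ≤ 2 := by
        refine (Set.encard_insert_le _ _).trans ?_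
        rw [Set.encard_singleton]; norm_num
      calc Set.encard ({a, a⁻¹} : Set X) + 1 ≤ 2 + 1 := by gcongr
        _ = 3 := by norm_num
    have h4 : ENat.card A = Set.encard (A : Set X) := rfl
    rw [h4] at hcard
    exact absurd hcard (not_lt.mpr h3)
  obtain ⟨z, hz, hz1, hza, hza'⟩ := hex
  have := s.ab_eq_one ha ha1 hz hz1 hza hza'
  rw [← Abelianization.ker_of, MonoidHom.mem_ker]
  exact this

lemma SP.mem_commutator_right (s : SP A B) (hcard : 3 < ENat.card A) {b : X} (hb : b ∈ B) :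
    b ∈ commutator X := by
  by_cases hb1 : b = 1
  · rw [hb1]; exact Subgroup.one_mem _
  obtain ⟨a, ha⟩ := s.exR b hb hb1
  have h1 := s.mem_commutator_left hcard ha.1
  rw [← Abelianization.ker_of, MonoidHom.mem_ker] at h1 ⊢
  rw [s.ab_rel ha, h1, inv_one]

theorem SP.commutator_eq_top (s : SP A B) (hcard : 3 < ENat.card A) (hX : A ⊔ B = ⊤) :
    commutator X = ⊤ := by
  rw [eq_top_iff, ← hX, sup_le_iff]
  exact ⟨fun a ha => s.mem_commutator_left hcard ha, fun b hb => s.mem_commutator_right hcard hb⟩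

end Ab

end Cfsg.Agent.Helper25.RankOne
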