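import Cfsg.Agent.Helper25.RankOneF

set_option autoImplicit false
set_option linter.unusedSectionVars false
set_option linter.unusedVariables false
open scoped Pointwise
open scoped commutatorElement

/-! The diagonal elements `h(x,z) = n(x)⁻¹ n(z)` of a special rank one group and their action. -/

namespace Cfsg.Agent.Helper25.RankOne

open Cfsg Cfsg.Agent.Helper25

variable {X : Type*} [Group X] {A B : Subgroup X}

/-- `n(x) = x b(x)⁻¹ x` -/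
def nn (x ξ : X) : X := x * ξ⁻¹ * x

/-- `h(x,z) = n(x)⁻¹ n(z)` -/
def hh (x ξ z ζ : X) : X := (nn x ξ)⁻¹ * nn z ζ

/-- `x ^ h(x,z)` -/
def EE (x ξ z ζ : X) : X := (hh x ξ z ζ)⁻¹ * x * hh x ξ z ζ

lemma SP.cj_nn_left (s : SP A B) {x ξ : X} (h : Rel A B x ξ) : cj (nn x ξ) A = B := s.cj_n h

lemma SP.cj_nn_right (s : SP A B) {x ξ : X} (h : Rel A B x ξ) : cj (nn x ξ) B = A := by
  have h' := s.cj_n (s.rel_inv h)
  have e : x⁻¹ * (ξ⁻¹)⁻¹ * x⁻¹ = (nn x ξ)⁻¹ := by unfold nn; group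
  rw [e] at h'
  rw [← h', cj_cj_inv]

lemma SP.cj_nn_inv_left (s : SP A B) {x ξ : X} (h : Rel A B x ξ) : cj (nn x ξ)⁻¹ A = B := by
  rw [← s.cj_nn_right h, cj_inv_cj]

lemma SP.cj_nn_inv_right (s : SP A B) {x ξ : X} (h : Rel A B x ξ) : cj (nn x ξ)⁻¹ B = A := by
  rw [← s.cj_nn_left h, cj_inv_cj]

lemma SP.nn_conj_self (s : SP A B) {x ξ : X} (h : Rel A B x ξ) :
    nn x ξ * x * (nn x ξ)⁻¹ = ξ⁻¹ := by
  have := s.phi_self h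
  calc nn x ξ * x * (nn x ξ)⁻¹ = x * ξ⁻¹ * x * ξ * x⁻¹ := by unfold nn; group
    _ = ξ⁻¹ := this

lemma SP.nn_conj (s : SP A B) {z ζ : X} (h : Rel A B z ζ) {u : X} (hu : u ∈ A) :
    nn z ζ * u * (nn z ζ)⁻¹ = z * ζ⁻¹ * u * ζ * z⁻¹ := by
  unfold nn
  have hc : z * u = u * z := s.commA z h.1 u hu
  calc z * ζ⁻¹ * z * u * (z * ζ⁻¹ * z)⁻¹ = z * ζ⁻¹ * (z * u) * z⁻¹ * ζ * z⁻¹ := by group
    _ = z * ζ⁻¹ * (u * z) * z⁻¹ * ζ * z⁻¹ := by rw [hc]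
    _ = z * ζ⁻¹ * u * ζ * z⁻¹ := by group

lemma SP.cj_hh_left (s : SP A B) {x ξ z ζ : X} (hx : Rel A B x ξ) (hz : Rel A B z ζ) :
    cj (hh x ξ z ζ) A = A := by
  unfold hh
  rw [cj_mul, s.cj_nn_left hz, s.cj_nn_inv_right hx]

lemma SP.cj_hh_right (s : SP A B) {x ξ z ζ : X} (hx : Rel A B x ξ) (hz : Rel A B z ζ) :
    cj (hh x ξ z ζ) B = B := by
  unfold hh
  rw [cj_mul, s.cj_nn_right hz, s.cj_nn_inv_left hx]

lemma SP.hh_mem (s : SP A B) {x ξ z ζ : X} (hx : Rel A B x ξ) (hz : Rel A B z ζ) :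
    hh x ξ z ζ ∈ rankOneDiagonal A B := by
  have hxA : x ∈ A ⊔ B := Subgroup.mem_sup_left hx.1
  have hξB : ξ ∈ A ⊔ B := Subgroup.mem_sup_right hx.2.2.1
  have hzA : z ∈ A ⊔ B := Subgroup.mem_sup_left hz.1
  have hζB : ζ ∈ A ⊔ B := Subgroup.mem_sup_right hz.2.2.1
  unfold rankOneDiagonal
  rw [Subgroup.mem_inf, Subgroup.mem_inf]
  refine ⟨⟨?_, ?_⟩, ?_⟩
  · unfold hh nn
    exact Subgroup.mul_mem _ (Subgroup.inv_mem _ (Subgroup.mul_mem _ (Subgroup.mul_mem _ hxA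
      (Subgroup.inv_mem _ hξB)) hxA)) (Subgroup.mul_mem _ (Subgroup.mul_mem _ hzA
      (Subgroup.inv_mem _ hζB)) hzA)
  · rw [← conjBy_eq_self_iff, conjBy_eq_cj]
    exact s.cj_hh_left hx hz
  · rw [← conjBy_eq_self_iff, conjBy_eq_cj]
    exact s.cj_hh_right hx hz

lemma SP.EE_eq (s : SP A B) {x ξ z ζ : X} (hx : Rel A B x ξ) :
    EE x ξ z ζ = (nn z ζ)⁻¹ * ξ⁻¹ * nn z ζ := by
  have := s.nn_conj_self hx
  calc EE x ξ z ζ = (nn z ζ)⁻¹ * (nn x ξ * x * (nn x ξ)⁻¹) * nn z ζ := by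
        unfold EE hh; group
    _ = (nn z ζ)⁻¹ * ξ⁻¹ * nn z ζ := by rw [this]

lemma SP.EE_mem (s : SP A B) {x ξ z ζ : X} (hx : Rel A B x ξ) (hz : Rel A B z ζ) :
    EE x ξ z ζ ∈ A := by
  have h1 : cj (hh x ξ z ζ)⁻¹ A = A := by
    conv_lhs => rw [← s.cj_hh_left hx hz]
    rw [cj_inv_cj]
  rw [← h1, mem_cj, inv_inv]
  have : hh x ξ z ζ * EE x ξ z ζ * (hh x ξ z ζ)⁻¹ = x := by unfold EE; group
  rw [this]; exact hx.1

lemma SP.EE_ne_one (s : SP A B) {x ξ z ζ : X} (hx : Rel A B x ξ) : EE x ξ z ζ ≠ 1 := by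
  intro h0
  apply hx.2.1
  have : x = hh x ξ z ζ * EE x ξ z ζ * (hh x ξ z ζ)⁻¹ := by unfold EE; group
  rw [this, h0]; group

lemma SP.EE_comm_mem (s : SP A B) {x ξ z ζ : X} (hx : Rel A B x ξ) (hz : Rel A B z ζ) :
    x⁻¹ * EE x ξ z ζ ∈ ⁅A, rankOneDiagonal A B⁆ := by
  have h1 := Subgroup.commutator_mem_commutator (A.inv_mem hx.1)
    ((rankOneDiagonal A B).inv_mem (s.hh_mem hx hz))
  have : ⁅x⁻¹, (hh x ξ z ζ)⁻¹⁆ = x⁻¹ * EE x ξ z ζ := by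
    rw [commutatorElement_def]; unfold EE; group
  rwa [this] at h1

/-- `φ_z (x ^ h(x,z)) = b(x)⁻¹` -/
lemma SP.EE_phi (s : SP A B) {x ξ z ζ : X} (hx : Rel A B x ξ) (hz : Rel A B z ζ) :
    z * ζ⁻¹ * EE x ξ z ζ * ζ * z⁻¹ = ξ⁻¹ := by
  rw [← s.nn_conj hz (s.EE_mem hx hz), s.EE_eq hx]
  group

/-- if `h(x,z)` centralizes `x` then `(x ∥ z)² = z` -/
lemma SP.EE_fixed (s : SP A B) {x ξ z ζ w : X} (hx : Rel A B x ξ) (hz : Rel A B z ζ)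
    (hw : Rel A B w (ξ * ζ)) (hfix : EE x ξ z ζ = x) : w * w = z := by
  have h1 := s.EE_phi hx hz
  rw [hfix] at h1
  have hst := s.star hz hx hw
  rw [h1] at hst
  have hwi := s.rel_inv hw
  rw [mul_inv_rev] at hwi
  have := s.rel_left_unique hst hwi
  calc w * w = w * (w * z⁻¹) * z := by group
    _ = w * w⁻¹ * z := by rw [this]
    _ = z := by group

/-- `x ^ h(x,x²) = x⁴` -/
lemma SP.EE_sq (s : SP A B) {x ξ η : X} (hx : Rel A B x ξ) (hx2 : Rel A B (x ^ 2) η) :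
    EE x ξ (x ^ 2) η = (x ^ 2) ^ 2 := by
  have h1 := s.EE_phi hx hx2
  have h2 := s.phi_pow hx2 2
  have h3 : η ^ 2 = ξ := by
    have := s.symm.step (s.symm.pp_one) hx.1 (by rw [pow_one]; exact hx.2.1) (w := η)
      (rel_symm.mpr hx2)
    exact s.rel_right_unique (rel_symm.mp this) hx
  have h4 : (η⁻¹) ^ 2 = ξ⁻¹ := by rw [inv_pow, h3]
  rw [h4, ← h1] at h2
  -- cancel the conjugation
  have := congrArg (fun t => η * (x ^ 2)⁻¹ * t * (x ^ 2) * η⁻¹) h2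
  beta_reduce at this
  have e1 : η * (x ^ 2)⁻¹ * (x ^ 2 * η⁻¹ * (x ^ 2) ^ 2 * η * (x ^ 2)⁻¹) * (x ^ 2) * η⁻¹
      = (x ^ 2) ^ 2 := by group
  have e2 : η * (x ^ 2)⁻¹ * (x ^ 2 * η⁻¹ * EE x ξ (x ^ 2) η * η * (x ^ 2)⁻¹) * (x ^ 2) * η⁻¹
      = EE x ξ (x ^ 2) η := by group
  rw [e1, e2] at this
  exact this.symm

lemma SP.cube_mem (s : SP A B) {x : X} (hx : x ∈ A) (hx2 : x ^ 2 ≠ 1) :
    x ^ 3 ∈ ⁅A, rankOneDiagonal A B⁆ := by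
  have hx1 : x ≠ 1 := by rintro rfl; simp at hx2
  obtain ⟨ξ, hξ⟩ := s.exL x hx hx1
  obtain ⟨η, hη⟩ := s.exL (x ^ 2) (A.pow_mem hx 2) hx2
  have := s.EE_comm_mem hξ hη
  rw [s.EE_sq hξ hη] at this
  have e : x⁻¹ * (x ^ 2) ^ 2 = x ^ 3 := by group
  rwa [e] at this

end Cfsg.Agent.Helper25.RankOne
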