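import Cfsg.Agent.Helper25.RankOneG

set_option autoImplicit false
set_option linter.unusedSectionVars false
set_option linter.unusedVariables false
open scoped Pointwise
open scoped commutatorElement

/-! `⁅A, H⁆` has more than three elements when `A` has. -/

namespace Cfsg.Agent.Helper25.RankOne

open Cfsg Cfsg.Agent.Helper25

variable {X : Type*} [Group X] {A B : Subgroup X}

lemma three_lt_card {K : Subgroup X} {a b c d : X} (ha : a ∈ K) (hb : b ∈ K) (hc : c ∈ K)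
    (hd : d ∈ K) (hab : a ≠ b) (hac : a ≠ c) (had : a ≠ d) (hbc : b ≠ c) (hbd : b ≠ d)
    (hcd : c ≠ d) : 3 < ENat.card K := by
  let f : Fin 4 → K := ![⟨a, ha⟩, ⟨b, hb⟩, ⟨c, hc⟩, ⟨d, hd⟩]
  have hf : Function.Injective f := by
    intro i j hij
    have hij' : (f i : X) = (f j : X) := congrArg Subtype.val hij
    fin_cases i <;> fin_cases j <;> simp [f] at hij' ⊢ <;>
      (first | exact absurd hij' ‹_› | exact absurd hij'.symm ‹_›)
  have h1 := ENat.card_le_card_of_injective hf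
  have h2 : ENat.card (Fin 4) = 4 := by simp
  rw [h2] at h1
  exact lt_of_lt_of_le (by norm_num) h1

lemma exists_ne_of_card (hcard : 3 < ENat.card A) (a b c : X) :
    ∃ z ∈ A, z ≠ a ∧ z ≠ b ∧ z ≠ c := by
  by_contra hcon
  push Not at hcon
  have hsub : (A : Set X) ⊆ {a, b, c} := by
    intro z hz
    by_cases h1 : z = a
    · simp [h1]
    by_cases h2 : z = b
    · simp [h2]
    · have := hcon z hz h1 h2
      simp [this]
  have h3 : Set.encard (A : Set X) ≤ 3 := by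
    refine (Set.encard_le_encard hsub).trans ?_
    refine (Set.encard_insert_le _ _).trans ?_
    have h5 : Set.encard ({b, c} : Set X) ≤ 2 := by
      refine (Set.encard_insert_le _ _).trans ?_
      rw [Set.encard_singleton]; norm_num
    calc Set.encard ({b, c} : Set X) + 1 ≤ 2 + 1 := by gcongr
      _ = 3 := by norm_num
  have h4 : ENat.card A = Set.encard (A : Set X) := rfl
  rw [h4] at hcard
  exact absurd hcard (not_lt.mpr h3)

lemma SP.comm_le_left (s : SP A B) {x ξ z ζ : X} (hx : Rel A B x ξ) (hz : Rel A B z ζ) :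
    x⁻¹ * EE x ξ z ζ ∈ A := A.mul_mem (A.inv_mem hx.1) (s.EE_mem hx hz)

/-- the case where some element has order at least `5` or infinite order -/
lemma SP.cube_case (s : SP A B) {x : X} (hx : x ∈ A) (h2 : x ^ 2 ≠ 1) (h3 : x ^ 3 ≠ 1)
    (h6 : x ^ 6 ≠ 1) (h9 : x ^ 9 ≠ 1) : 3 < ENat.card ↥⁅A, rankOneDiagonal A B⁆ := by
  have hc := s.cube_mem hx h2
  have e6 : (x ^ 3) ^ 2 = x ^ 6 := by rw [← pow_mul]
  have e9 : (x ^ 3) ^ 3 = x ^ 9 := by rw [← pow_mul]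
  refine three_lt_card (Subgroup.one_mem _) hc (Subgroup.pow_mem _ hc 2) (Subgroup.pow_mem _ hc 3)
    (Ne.symm h3) ?_ ?_ ?_ ?_ ?_
  · rw [e6]; exact Ne.symm h6
  · rw [e9]; exact Ne.symm h9
  · intro h0
    apply h3
    have : x ^ 3 * 1 = x ^ 3 * x ^ 3 := by rw [mul_one, ← sq]; exact h0
    exact (mul_left_cancel this).symm
  · intro h0
    apply h6
    rw [← e6]
    have : x ^ 3 * 1 = x ^ 3 * (x ^ 3) ^ 2 := by rw [mul_one, ← pow_succ']; exact h0
    exact (mul_left_cancel this).symm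
  · intro h0
    apply h3
    have : (x ^ 3) ^ 2 * 1 = (x ^ 3) ^ 2 * x ^ 3 := by rw [mul_one, ← pow_succ]; exact h0
    exact (mul_left_cancel this).symm

lemma SP.EE_ne_self_two (s : SP A B) (hexp : ∀ a ∈ A, a ^ 2 = 1) {x ξ z ζ : X}
    (hx : Rel A B x ξ) (hz : Rel A B z ζ) (hxz : x ≠ z) : EE x ξ z ζ ≠ x := by
  intro hfix
  have hζ2 : ζ ^ 2 = 1 := (s.pow_eq_one_iff hz 2).1 (hexp z hz.1)
  have h1 : ξ * ζ ≠ 1 := by
    intro h0
    have e1 : ξ = ζ⁻¹ := mul_eq_one_iff_eq_inv.mp h0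
    have e2 : ζ⁻¹ = ζ := by
      rw [inv_eq_iff_mul_eq_one, ← sq]; exact hζ2
    rw [e1, e2] at hx
    exact hxz (s.rel_left_unique hx hz)
  obtain ⟨w, hw⟩ := s.exR (ξ * ζ) (B.mul_mem hx.2.2.1 hz.2.2.1) h1
  have := s.EE_fixed hx hz hw hfix
  rw [← sq, hexp w hw.1] at this
  exact hz.2.1 this.symm

lemma SP.two_case (s : SP A B) (hexp : ∀ a ∈ A, a ^ 2 = 1) (hcard : 3 < ENat.card A) :
    3 < ENat.card ↥⁅A, rankOneDiagonal A B⁆ := by
  obtain ⟨x, hx, hx1, -, -⟩ := exists_ne_of_card hcard 1 1 1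
  obtain ⟨z, hz, hz1, hzx, -⟩ := exists_ne_of_card hcard 1 x x
  obtain ⟨ξ, hξ⟩ := s.exL x hx hx1
  obtain ⟨ζ, hζ⟩ := s.exL z hz hz1
  set c₁ := x⁻¹ * EE x ξ z ζ with hc₁
  have hc₁A : c₁ ∈ A := s.comm_le_left hξ hζ
  have hc₁K : c₁ ∈ ⁅A, rankOneDiagonal A B⁆ := s.EE_comm_mem hξ hζ
  have hc₁1 : c₁ ≠ 1 := by
    intro h0
    apply s.EE_ne_self_two hexp hξ hζ (Ne.symm hzx)
    have : x * c₁ = x * 1 := by rw [h0]
    rw [hc₁, mul_inv_cancel_left, mul_one] at this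
    exact this
  obtain ⟨z', hz', hz'1, hz'c, -⟩ := exists_ne_of_card hcard 1 c₁ c₁
  obtain ⟨γ, hγ⟩ := s.exL c₁ hc₁A hc₁1
  obtain ⟨ζ', hζ'⟩ := s.exL z' hz' hz'1
  set c₂ := c₁⁻¹ * EE c₁ γ z' ζ' with hc₂
  have hc₂K : c₂ ∈ ⁅A, rankOneDiagonal A B⁆ := s.EE_comm_mem hγ hζ'
  have hc₂1 : c₂ ≠ 1 := by
    intro h0
    apply s.EE_ne_self_two hexp hγ hζ' (Ne.symm hz'c)
    have : c₁ * c₂ = c₁ * 1 := by rw [h0]
    rw [hc₂, mul_inv_cancel_left, mul_one] at this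
    exact this
  have hc₁sq : c₁ * c₁ = 1 := by rw [← sq]; exact hexp c₁ hc₁A
  have hc₂c₁ : c₂ ≠ c₁ := by
    intro h0
    apply s.EE_ne_one (z := z') (ζ := ζ') hγ
    have : c₁ * c₂ = c₁ * c₁ := by rw [h0]
    rw [hc₂, mul_inv_cancel_left, hc₁sq] at this
    exact this
  refine three_lt_card (Subgroup.one_mem _) hc₁K hc₂K (Subgroup.mul_mem _ hc₁K hc₂K)
    (Ne.symm hc₁1) (Ne.symm hc₂1) ?_ (Ne.symm hc₂c₁) ?_ ?_
  · intro h0
    apply hc₂c₁
    have : c₁ * c₁ = c₁ * c₂ := by rw [hc₁sq]; exact h0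
    exact (mul_left_cancel this).symm
  · intro h0
    apply hc₂1
    have : c₁ * 1 = c₁ * c₂ := by rw [mul_one]; exact h0
    exact (mul_left_cancel this).symm
  · intro h0
    apply hc₁1
    have : 1 * c₂ = c₁ * c₂ := by rw [one_mul]; exact h0
    exact (mul_right_cancel this).symm

end Cfsg.Agent.Helper25.RankOne
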