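import Cfsg.Agent.Helper25.RankOneH

set_option autoImplicit false
set_option linter.unusedSectionVars false
set_option linter.unusedVariables false
open scoped Pointwise
open scoped commutatorElement

/-! `⁅A, H⁆` has more than three elements: exponent three, and the assembly. -/

namespace Cfsg.Agent.Helper25.RankOne

open Cfsg Cfsg.Agent.Helper25

variable {X : Type*} [Group X] {A B : Subgroup X}

lemma inv_eq_sq_of_cube {g : X} (h : g ^ 3 = 1) : g⁻¹ = g * g := by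
  rw [inv_eq_iff_mul_eq_one]
  have : g ^ 3 = g * (g * g) := by simp [pow_succ, mul_assoc]
  rw [← this]; exact h

lemma eq_of_sq_eq_of_cube {g k : X} (hg : g ^ 3 = 1) (hk : k ^ 3 = 1) (h : g * g = k * k) :
    g = k := by
  have e1 : g = (g * g) * (g * g) := by
    have : (g * g) * (g * g) = g ^ 3 * g := by simp [pow_succ, mul_assoc]
    rw [this, hg, one_mul]
  have e2 : k = (k * k) * (k * k) := by
    have : (k * k) * (k * k) = k ^ 3 * k := by simp [pow_succ, mul_assoc]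
    rw [this, hk, one_mul]
  rw [e1, e2, h]

lemma SP.EE_ne_self_three (s : SP A B) (hexp : ∀ a ∈ A, a ^ 3 = 1) {x ξ z ζ : X}
    (hx : Rel A B x ξ) (hz : Rel A B z ζ) (hzx : z ≠ x) (hzx' : z ≠ x⁻¹) : EE x ξ z ζ ≠ x := by
  intro hfix
  have hζ3 : ζ ^ 3 = 1 := (s.pow_eq_one_iff hz 3).1 (hexp z hz.1)
  have hzi := s.rel_inv hz
  have h1 : ξ * ζ ≠ 1 := by
    intro h0
    have e1 : ξ = ζ⁻¹ := mul_eq_one_iff_eq_inv.mp h0
    rw [e1] at hx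
    have := s.rel_left_unique hzi hx
    exact hzx' (inv_eq_iff_eq_inv.mp this)
  obtain ⟨w, hw⟩ := s.exR (ξ * ζ) (B.mul_mem hx.2.2.1 hz.2.2.1) h1
  have h2 := s.EE_fixed hx hz hw hfix
  -- w * w = z, so w = z⁻¹
  have hw3 := hexp w hw.1
  have h3 : w⁻¹ = z := by rw [inv_eq_sq_of_cube hw3]; exact h2
  have h4 : w = z⁻¹ := by rw [← h3, inv_inv]
  rw [h4] at hw
  have h5 := s.rel_right_unique hw hzi
  -- ξ * ζ = ζ⁻¹, so ξ = ζ
  have h6 : ξ = ζ := by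
    have : ξ = ζ⁻¹ * ζ⁻¹ := by
      calc ξ = (ξ * ζ) * ζ⁻¹ := by group
        _ = ζ⁻¹ * ζ⁻¹ := by rw [h5]
    rw [this, ← mul_inv_rev, ← inv_eq_sq_of_cube hζ3, inv_inv]
  rw [h6] at hx
  exact hzx (s.rel_left_unique hz hx)

lemma SP.three_case (s : SP A B) (hexp : ∀ a ∈ A, a ^ 3 = 1) (hcard : 3 < ENat.card A) :
    3 < ENat.card ↥⁅A, rankOneDiagonal A B⁆ := by
  obtain ⟨x, hx, hx1, -, -⟩ := exists_ne_of_card hcard 1 1 1
  obtain ⟨z, hz, hz1, hzx, hzx'⟩ := exists_ne_of_card hcard 1 x x⁻¹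
  obtain ⟨ξ, hξ⟩ := s.exL x hx hx1
  obtain ⟨ζ, hζ⟩ := s.exL z hz hz1
  set c := x⁻¹ * EE x ξ z ζ with hc
  have hcA : c ∈ A := s.comm_le_left hξ hζ
  have hcK : c ∈ ⁅A, rankOneDiagonal A B⁆ := s.EE_comm_mem hξ hζ
  have hc1 : c ≠ 1 := by
    intro h0
    apply s.EE_ne_self_three hexp hξ hζ hzx hzx'
    have : x * c = x * 1 := by rw [h0]
    rw [hc, mul_inv_cancel_left, mul_one] at this
    exact this
  have hc3 : c ^ 3 = 1 := hexp c hcA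
  have hcinv : c⁻¹ = c * c := inv_eq_sq_of_cube hc3
  have hcc : c ≠ c⁻¹ := by
    intro h0
    apply hc1
    have : c * c = 1 := by
      have := mul_inv_cancel c
      rwa [← h0] at this
    rw [← hc3]
    have : c ^ 3 = c * c * c := by simp [pow_succ]
    rw [this, ‹c * c = 1›, one_mul]
  obtain ⟨γ, hγ⟩ := s.exL c hcA hc1
  have hγ3 : γ ^ 3 = 1 := (s.pow_eq_one_iff hγ 3).1 hc3
  have hγinv : γ⁻¹ = γ * γ := inv_eq_sq_of_cube hγ3
  have hγi := s.rel_inv hγ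
  -- the general step: either a fourth element of `K` or `E(c,z') = c⁻¹`
  have step : ∀ z' ζ' : X, Rel A B z' ζ' → z' ≠ c → z' ≠ c⁻¹ →
      3 < ENat.card ↥⁅A, rankOneDiagonal A B⁆ ∨ EE c γ z' ζ' = c⁻¹ := by
    intro z' ζ' hz' h1 h2
    set d := c⁻¹ * EE c γ z' ζ' with hd
    have hdK : d ∈ ⁅A, rankOneDiagonal A B⁆ := s.EE_comm_mem hγ hz'
    have hd1 : d ≠ 1 := by
      intro h0
      apply s.EE_ne_self_three hexp hγ hz' h1 h2
      have : c * d = c * 1 := by rw [h0]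
      rw [hd, mul_inv_cancel_left, mul_one] at this
      exact this
    have hdc : d ≠ c⁻¹ := by
      intro h0
      apply s.EE_ne_one (z := z') (ζ := ζ') hγ
      have : c * d = c * c⁻¹ := by rw [h0]
      rw [hd, mul_inv_cancel_left, mul_inv_cancel] at this
      exact this
    by_cases hdc' : d = c
    · right
      have : c * d = c * c := by rw [hdc']
      rw [hd, mul_inv_cancel_left] at this
      rw [this, hcinv]
    · left
      exact three_lt_card (Subgroup.one_mem _) hcK (Subgroup.inv_mem _ hcK) hdK (Ne.symm hc1)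
        (fun h0 => hc1 (inv_eq_one.mp h0.symm)) (Ne.symm hd1) hcc (Ne.symm hdc') (Ne.symm hdc)
  -- first point
  obtain ⟨z₁, hz₁, hz₁1, hz₁c, hz₁c'⟩ := exists_ne_of_card hcard 1 c c⁻¹
  obtain ⟨ζ₁, hζ₁⟩ := s.exL z₁ hz₁ hz₁1
  have hζ₁i := s.rel_inv hζ₁
  rcases step z₁ ζ₁ hζ₁ hz₁c hz₁c' with h | hE1
  · exact h
  -- second point `w₊`
  have hγζ : γ * ζ₁ ≠ 1 := by
    intro h0
    have e1 : γ = ζ₁⁻¹ := mul_eq_one_iff_eq_inv.mp h0
    rw [e1] at hγ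
    have := s.rel_left_unique hζ₁i hγ
    exact hz₁c' (inv_eq_iff_eq_inv.mp this)
  obtain ⟨w, hw⟩ := s.exR (γ * ζ₁) (B.mul_mem hγ.2.2.1 hζ₁.2.2.1) hγζ
  have hwc : w ≠ c := by
    intro h0
    rw [h0] at hw
    have := s.rel_right_unique hw hγ
    apply hζ₁.2.2.2.1
    have e : γ * ζ₁ = γ * 1 := by rw [mul_one]; exact this
    exact mul_left_cancel e
  have hwc' : w ≠ c⁻¹ := by
    intro h0
    rw [h0] at hw
    have := s.rel_right_unique hw hγi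
    -- γ * ζ₁ = γ⁻¹, so ζ₁ = γ
    have e : ζ₁ = γ := by
      have : ζ₁ = γ⁻¹ * γ⁻¹ := by
        calc ζ₁ = γ⁻¹ * (γ * ζ₁) := by group
          _ = γ⁻¹ * γ⁻¹ := by rw [this]
      rw [this, ← mul_inv_rev, ← hγinv, inv_inv]
    rw [e] at hζ₁
    exact hz₁c (s.rel_left_unique hζ₁ hγ)
  rcases step w (γ * ζ₁) hw hwc hwc' with h | hE2
  · exact h
  exfalso
  -- φ_{z₁}(c) = γ
  have p1 : z₁ * ζ₁⁻¹ * c * ζ₁ * z₁⁻¹ = γ := by
    have := s.EE_phi hγ hζ₁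
    rw [hE1] at this
    have h2 := congrArg (·⁻¹) this
    simp only [inv_inv] at h2
    exact (by group : z₁ * ζ₁⁻¹ * c * ζ₁ * z₁⁻¹ = (z₁ * ζ₁⁻¹ * c⁻¹ * ζ₁ * z₁⁻¹)⁻¹).trans h2
  have p2 : w * (γ * ζ₁)⁻¹ * c * (γ * ζ₁) * w⁻¹ = γ := by
    have := s.EE_phi hγ hw
    rw [hE2] at this
    have h2 := congrArg (·⁻¹) this
    simp only [inv_inv] at h2
    exact (by group : w * (γ * ζ₁)⁻¹ * c * (γ * ζ₁) * w⁻¹ =
      (w * (γ * ζ₁)⁻¹ * c⁻¹ * (γ * ζ₁) * w⁻¹)⁻¹).trans h2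
  have S1 := s.star hζ₁ hγ hw
  rw [p1] at S1
  -- w₊'
  have hγγζ : γ * (γ * ζ₁) ≠ 1 := by
    intro h0
    have e : ζ₁ = γ := by
      have : ζ₁ = (γ * γ)⁻¹ := by
        rw [eq_inv_iff_mul_eq_one, ← h0]
        rw [s.commB ζ₁ hζ₁.2.2.1 (γ * γ) (B.mul_mem hγ.2.2.1 hγ.2.2.1), mul_assoc]
      rw [this, ← hγinv, inv_inv]
    rw [e] at hζ₁
    exact hz₁c (s.rel_left_unique hζ₁ hγ)
  obtain ⟨w', hw'⟩ := s.exR (γ * (γ * ζ₁)) (B.mul_mem hγ.2.2.1 (B.mul_mem hγ.2.2.1 hζ₁.2.2.1)) hγγζ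
  have S2 := s.star hw hγ hw'
  rw [p2] at S2
  have e1 : (γ * ζ₁)⁻¹ * γ = ζ₁⁻¹ := by
    rw [mul_inv_rev, mul_assoc, inv_mul_cancel, mul_one]
  rw [e1] at S2
  have q1 : w' * w⁻¹ = z₁⁻¹ := s.rel_left_unique S2 hζ₁i
  have S1i := s.rel_inv S1
  have e2 : (ζ₁⁻¹ * γ)⁻¹ = γ * (γ * ζ₁) := by
    rw [mul_inv_rev, inv_inv, ← mul_assoc, ← hγinv]
  rw [e2] at S1i
  have q2 : (w * z₁⁻¹)⁻¹ = w' := s.rel_left_unique S1i hw'
  -- w * w = z₁ * z₁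
  have hww : w * w = z₁ * z₁ := by
    have hcomm : w * z₁ = z₁ * w := s.commA w hw.1 z₁ hζ₁.1
    have e3 : z₁ * w⁻¹ * w⁻¹ = z₁⁻¹ := by
      rw [← q1, ← q2]; group
    have e5 : w⁻¹ * w⁻¹ = z₁⁻¹ * z₁⁻¹ := by
      calc w⁻¹ * w⁻¹ = z₁⁻¹ * (z₁ * w⁻¹ * w⁻¹) := by group
        _ = z₁⁻¹ * z₁⁻¹ := by rw [e3]
    have e6 := congrArg (·⁻¹) e5
    simp only [mul_inv_rev, inv_inv] at e6
    exact e6
  have hwz : w = z₁ := eq_of_sq_eq_of_cube (hexp w hw.1) (hexp z₁ hz₁) hww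
  rw [hwz] at hw
  have := s.rel_right_unique hw hζ₁
  apply hγ.2.2.2.1
  have e : γ * ζ₁ = 1 * ζ₁ := by rw [one_mul]; exact this
  exact mul_right_cancel e

end Cfsg.Agent.Helper25.RankOne
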