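import Mathlib

set_option autoImplicit false

namespace Cfsg.Agent.Helper25

open scoped Pointwise

/-- An automorphism of a finite group `G` fixing a Sylow `p`-subgroup `T` elementwise is conjugation
by an element of `C_G(Q)`, for any normal subgroup `Q ≤ T` with `C_G(Q) ≤ Q`. -/
theorem aut_eq_conj_of_fix_sylow {G : Type*} [Group G] [Finite G] (p : ℕ) [Fact p.Prime]
    (T : Sylow p G) (Q : Subgroup G) [hQn : Q.Normal] (hQT : Q ≤ (T : Subgroup G))
    (hC : Subgroup.centralizer (Q : Set G) ≤ Q) (ψ : G ≃* G)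
    (hψ : ∀ x ∈ (T : Subgroup G), ψ x = x) :
    ∃ z ∈ Subgroup.centralizer (Q : Set G), ∀ g : G, ψ g = z * g * z⁻¹ := by
  classical
  set A := Subgroup.centralizer (Q : Set G) with hA
  have hAcomm : ∀ a b : A, a * b = b * a := by
    intro a b
    apply Subtype.ext
    exact (Subgroup.mem_centralizer_iff.mp a.2 b (hC b.2)).symm
  have hAnorm : ∀ a ∈ A, ∀ g : G, g * a * g⁻¹ ∈ A := by
    intro a ha g
    rw [hA, Subgroup.mem_centralizer_iff]
    intro x hx
    have hy : g⁻¹ * x * g⁻¹⁻¹ ∈ Q := hQn.conj_mem x hx g⁻¹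
    have h1 := Subgroup.mem_centralizer_iff.mp ha _ hy
    calc x * (g * a * g⁻¹) = g * ((g⁻¹ * x * g⁻¹⁻¹) * a) * g⁻¹ := by group
      _ = g * (a * (g⁻¹ * x * g⁻¹⁻¹)) * g⁻¹ := by rw [h1]
      _ = g * a * g⁻¹ * x := by group
  have htA : ∀ g : G, ψ g * g⁻¹ ∈ A := by
    intro g
    rw [hA, Subgroup.mem_centralizer_iff]
    intro x hx
    have hy : g⁻¹ * x * g⁻¹⁻¹ ∈ Q := hQn.conj_mem x hx g⁻¹
    have h1 : ψ (g * (g⁻¹ * x * g⁻¹⁻¹) * g⁻¹) = g * (g⁻¹ * x * g⁻¹⁻¹) * g⁻¹ := by
      apply hψ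
      have : g * (g⁻¹ * x * g⁻¹⁻¹) * g⁻¹ = x := by group
      rw [this]
      exact hQT hx
    rw [map_mul, map_mul, hψ _ (hQT hy), map_inv] at h1
    have h2 : ψ g * (g⁻¹ * x * g⁻¹⁻¹) * (ψ g)⁻¹ = x := by
      rw [h1]; group
    calc x * (ψ g * g⁻¹) = (ψ g * (g⁻¹ * x * g⁻¹⁻¹) * (ψ g)⁻¹) * (ψ g * g⁻¹) := by rw [h2]
      _ = ψ g * g⁻¹ * x := by group
  let _ : CommGroup A := { (inferInstance : Group A) with mul_comm := hAcomm }
  -- the cocycle as a function on left cosets
  let t : G → A := fun g => ⟨ψ g * g⁻¹, htA g⟩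
  have htcoset : ∀ a b : G, QuotientGroup.leftRel (T : Subgroup G) a b → t a = t b := by
    intro a b hab
    rw [QuotientGroup.leftRel_apply] at hab
    apply Subtype.ext
    show ψ a * a⁻¹ = ψ b * b⁻¹
    have hb : b = a * (a⁻¹ * b) := by group
    rw [hb, map_mul, hψ _ hab]
    group
  let f : G ⧸ (T : Subgroup G) → A := Quotient.lift t htcoset
  have hfmk : ∀ g : G, f (QuotientGroup.mk g) = t g := fun g => rfl
  let c : G → A →* A := fun g =>
    { toFun := fun a => ⟨g * a * g⁻¹, hAnorm a a.2 g⟩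
      map_one' := by apply Subtype.ext; simp
      map_mul' := by
        intro a b
        apply Subtype.ext
        show g * ((a : G) * (b : G)) * g⁻¹ = (g * a * g⁻¹) * (g * b * g⁻¹)
        group }
  have hcocycle : ∀ g h : G, t (g * h) = t g * c g (t h) := by
    intro g h
    apply Subtype.ext
    show ψ (g * h) * (g * h)⁻¹ = (ψ g * g⁻¹) * (g * (ψ h * h⁻¹) * g⁻¹)
    rw [map_mul]; group
  have : Fintype (G ⧸ (T : Subgroup G)) := Fintype.ofFinite _
  set u : A := ∏ q : G ⧸ (T : Subgroup G), f q with hu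
  set n := Fintype.card (G ⧸ (T : Subgroup G)) with hn
  have hkey : ∀ g : G, u = t g ^ n * c g u := by
    intro g
    have h1 : ∏ q : G ⧸ (T : Subgroup G), f (g • q) = u :=
      Equiv.prod_comp (MulAction.toPerm g) f
    have h2 : ∀ q : G ⧸ (T : Subgroup G), f (g • q) = t g * c g (f q) := by
      intro q
      induction q using QuotientGroup.induction_on with
      | H r =>
        show f (QuotientGroup.mk (g * r)) = _
        rw [hfmk, hfmk, hcocycle]
    calc u = ∏ q : G ⧸ (T : Subgroup G), f (g • q) := h1.symm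
      _ = ∏ q : G ⧸ (T : Subgroup G), (t g * c g (f q)) := by simp only [h2]
      _ = t g ^ n * c g u := by
        rw [Finset.prod_mul_distrib, Finset.prod_const, Finset.card_univ, ← map_prod]
  have hcop : (Nat.card A).Coprime n := by
    have hAp : IsPGroup p A := T.2.to_le (hC.trans hQT)
    obtain ⟨k, hk⟩ := IsPGroup.iff_card.mp hAp
    rw [hk]
    apply Nat.Coprime.pow_left
    have h1 : ¬ p ∣ (T : Subgroup G).index := T.not_dvd_index
    have h2 : (T : Subgroup G).index = n := by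
      rw [hn, Subgroup.index_eq_card, Nat.card_eq_fintype_card]
    rw [← h2]
    exact (Nat.Prime.coprime_iff_not_dvd Fact.out).mpr h1
  obtain ⟨v, hv⟩ := (powCoprime hcop).surjective u
  have hv' : v ^ n = u := hv
  have ht : ∀ g : G, t g = v * (c g v)⁻¹ := by
    intro g
    apply (powCoprime hcop).injective
    show t g ^ n = (v * (c g v)⁻¹) ^ n
    rw [mul_pow, inv_pow, ← map_pow, hv']
    have := hkey g
    rw [eq_mul_inv_iff_mul_eq]
    exact this.symm
  refine ⟨(v : G), v.2, fun g => ?_⟩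
  have h1 := congrArg (fun a : A => (a : G)) (ht g)
  have h2 : ψ g * g⁻¹ = (v : G) * (g * (v : G) * g⁻¹)⁻¹ := h1
  calc ψ g = ψ g * g⁻¹ * g := by group
    _ = (v : G) * (g * (v : G) * g⁻¹)⁻¹ * g := by rw [h2]
    _ = (v : G) * g * (v : G)⁻¹ := by group

end Cfsg.Agent.Helper25
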