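import Mathlib
import Cfsg.Prelude.Def_RootSubgroups
import Cfsg.Agent.Helper25.RootComm3

/-!
# Timmesfeld II (2.4)-(2.6): the chain `A - B - C` with `⁅A,B⁆, ⁅B,C⁆ ∈ S` and `⁅A,C⁆ = 1`

General commutator-reduction lemmas and the structure of `X = ⟨A, b⁻¹ C b⟩`.
-/

set_option autoImplicit false
set_option linter.unusedSectionVars false
set_option linter.unusedVariables false

namespace Cfsg.Agent.Helper25

open Cfsg

variable {G : Type*} [Group G] {S : Set (Subgroup G)}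

/-- Commutators of closures: reduction to generators, modulo a subgroup normalized by both. -/
theorem comm_closure_mem {L N : Subgroup G} (hN : N ≤ Subgroup.normalizer (L : Set G))
    {P Q : Set G} (hP : P ⊆ N) (hQ : Q ⊆ N) (h : ∀ p ∈ P, ∀ q ∈ Q, p * q * p⁻¹ * q⁻¹ ∈ L) :
    ∀ x ∈ Subgroup.closure P, ∀ y ∈ Subgroup.closure Q, x * y * x⁻¹ * y⁻¹ ∈ L := by
  have hPN : Subgroup.closure P ≤ N := (Subgroup.closure_le N).mpr hP
  have hQN : Subgroup.closure Q ≤ N := (Subgroup.closure_le N).mpr hQ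
  have hnorm : ∀ n ∈ N, ∀ l ∈ L, n * l * n⁻¹ ∈ L := fun n hn l hl =>
    (Subgroup.mem_normalizer_iff.mp (hN hn) l).mp hl
  have step1 : ∀ q ∈ Q, ∀ x ∈ Subgroup.closure P, x * q * x⁻¹ * q⁻¹ ∈ L := by
    intro q hq x hx
    induction hx using Subgroup.closure_induction with
    | mem p hp => exact h p hp q hq
    | one => simp
    | mul x y hx hy ihx ihy =>
      have : x * y * q * (x * y)⁻¹ * q⁻¹ =
          x * (y * q * y⁻¹ * q⁻¹) * x⁻¹ * (x * q * x⁻¹ * q⁻¹) := by group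
      rw [this]
      exact L.mul_mem (hnorm x (hPN hx) _ ihy) ihx
    | inv x hx ihx =>
      have : x⁻¹ * q * x⁻¹⁻¹ * q⁻¹ = x⁻¹ * (x * q * x⁻¹ * q⁻¹)⁻¹ * x⁻¹⁻¹ := by group
      rw [this]
      exact hnorm x⁻¹ (N.inv_mem (hPN hx)) _ (L.inv_mem ihx)
  intro x hx y hy
  induction hy using Subgroup.closure_induction with
  | mem q hq => exact step1 q hq x hx
  | one => simp
  | mul y z hy hz ihy ihz =>
    have : x * (y * z) * x⁻¹ * (y * z)⁻¹ =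
        (x * y * x⁻¹ * y⁻¹) * (y * (x * z * x⁻¹ * z⁻¹) * y⁻¹) := by group
    rw [this]
    exact L.mul_mem ihy (hnorm y (hQN hy) _ ihz)
  | inv y hy ihy =>
    have : x * y⁻¹ * x⁻¹ * y⁻¹⁻¹ = y⁻¹ * (x * y * x⁻¹ * y⁻¹)⁻¹ * y⁻¹⁻¹ := by group
    rw [this]
    exact hnorm y⁻¹ (N.inv_mem (hQN hy)) _ (L.inv_mem ihy)

/-- Elementwise commuting of closures. -/
theorem comm_closure_eq {P Q : Set G} (h : ∀ p ∈ P, ∀ q ∈ Q, p * q = q * p) :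
    ∀ x ∈ Subgroup.closure P, ∀ y ∈ Subgroup.closure Q, x * y = y * x := by
  have key := comm_closure_mem (L := (⊥ : Subgroup G)) (N := ⊤) (fun _ _ => by
    rw [Subgroup.mem_normalizer_iff]; intro h; simp [Subgroup.mem_bot]) (P := P) (Q := Q)
    (fun _ _ => Subgroup.mem_top _) (fun _ _ => Subgroup.mem_top _) (by
      intro p hp q hq
      rw [Subgroup.mem_bot, h p hp q hq]; group)
  intro x hx y hy
  have := key x hx y hy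
  rw [Subgroup.mem_bot] at this
  calc x * y = (x * y * x⁻¹ * y⁻¹) * (y * x) := by group
    _ = y * x := by rw [this, one_mul]

/-- If `[K, R] ⊆ L ≤ K` elementwise, then `R` normalizes `K`. -/
theorem le_normalizer_of_comm_mem {K L R : Subgroup G} (hLK : L ≤ K)
    (h : ∀ x ∈ K, ∀ g ∈ R, x * g * x⁻¹ * g⁻¹ ∈ L) : R ≤ Subgroup.normalizer (K : Set G) := by
  have fwd : ∀ g ∈ R, ∀ x ∈ K, g * x * g⁻¹ ∈ K := by
    intro g hg x hx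
    have h1 := h x hx g hg
    have : g * x * g⁻¹ = (x * g * x⁻¹ * g⁻¹)⁻¹ * x := by group
    rw [this]
    exact K.mul_mem (K.inv_mem (hLK h1)) hx
  intro g hg
  rw [Subgroup.mem_normalizer_iff]
  intro x
  constructor
  · exact fwd g hg x
  · intro hx
    have := fwd g⁻¹ (R.inv_mem hg) _ hx
    simpa [mul_assoc] using this

/-- `B ≤ N(W)` from `b W b⁻¹ ≤ W` for all `b ∈ B`. -/
theorem le_normalizer_of_conjBy_le {W B : Subgroup G} (h : ∀ b ∈ B, conjBy W b ≤ W) :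
    B ≤ Subgroup.normalizer (W : Set G) := by
  intro b hb
  rw [Subgroup.mem_normalizer_iff]
  intro x
  constructor
  · intro hx
    exact h b hb (conj_mem_conjBy hx)
  · intro hx
    have := h b⁻¹ (B.inv_mem hb) (conj_mem_conjBy hx)
    simpa [mul_assoc] using this

/-- A join of two abelian subgroups is abelian iff they commute elementwise. -/
theorem sup_comm_iff {P Q : Subgroup G} (hP : ∀ x ∈ P, ∀ y ∈ P, x * y = y * x)
    (hQ : ∀ x ∈ Q, ∀ y ∈ Q, x * y = y * x) :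
    IsMulCommutative ↥(P ⊔ Q) ↔ ∀ p ∈ P, ∀ q ∈ Q, p * q = q * p := by
  constructor
  · intro h p hp q hq
    have := mul_comm' (⟨p, Subgroup.mem_sup_left hp⟩ : ↥(P ⊔ Q)) ⟨q, Subgroup.mem_sup_right hq⟩
    exact congrArg Subtype.val this
  · intro h
    have key : ∀ x ∈ P ⊔ Q, ∀ y ∈ P ⊔ Q, x * y = y * x := by
      have e : P ⊔ Q = Subgroup.closure ((P : Set G) ∪ Q) := by
        rw [Subgroup.closure_union, Subgroup.closure_eq, Subgroup.closure_eq]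
      rw [e]
      apply comm_closure_eq
      rintro p (hp | hp) q (hq | hq)
      · exact hP p hp q hq
      · exact h p hp q hq
      · exact (h q hq p hp).symm
      · exact hQ p hp q hq
    exact IsMulCommutative.of_setLike_mul_comm (fun x hx y hy => key x hx y hy)

section Chain

variable {A B C : Subgroup G}

theorem commutator_le_sup' (H K : Subgroup G) : ⁅H, K⁆ ≤ H ⊔ K := by
  rw [Subgroup.commutator_le]
  intro g₁ h₁ g₂ h₂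
  rw [commutatorElement_def]
  exact Subgroup.mul_mem _ (Subgroup.mul_mem _ (Subgroup.mul_mem _ (Subgroup.mem_sup_left h₁)
    (Subgroup.mem_sup_right h₂)) (Subgroup.mem_sup_left (H.inv_mem h₁)))
    (Subgroup.mem_sup_right (K.inv_mem h₂))

/-- Elements of `A` commute with elements of `b' A b'⁻¹`, `b' ∈ B`. -/
theorem chain_comm_conj (hS : IsRootSubgroupSet S) (hA : A ∈ S) (hcA : RootCommutatorCase S A B)
    {b' : G} (hb' : b' ∈ B) {a x : G} (ha : a ∈ A) (hx : x ∈ conjBy A b') : a * x = x * a := by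
  rw [mem_conjBy_iff] at hx
  have hu : b' * (b'⁻¹ * x * b') * b'⁻¹ * (b'⁻¹ * x * b')⁻¹ ∈ ⁅A, B⁆ := cc_comm_mem' hx hb'
  have hx' : x = (b' * (b'⁻¹ * x * b') * b'⁻¹ * (b'⁻¹ * x * b')⁻¹) * (b'⁻¹ * x * b') := by group
  have h1 : Commute a (b' * (b'⁻¹ * x * b') * b'⁻¹ * (b'⁻¹ * x * b')⁻¹) :=
    cc_central_left hcA ha hu
  have h2 : Commute a (b'⁻¹ * x * b') := root_comm_of_mem hS hA ha hx
  have h3 := h1.mul_right h2
  rw [← hx'] at h3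
  exact h3

variable (hS : IsRootSubgroupSet S) (hA : A ∈ S) (hB : B ∈ S) (hC : C ∈ S)
  (hcA : RootCommutatorCase S A B) (hcC : RootCommutatorCase S C B)
  (hAC : ∀ a ∈ A, ∀ c ∈ C, a * c = c * a) {b : G} (hb : b ∈ B) (hb1 : b ≠ 1)

include hS hA hB hC hcA hcC hAC hb

/-- `X = ⟨A, b⁻¹ C b⟩` and `Y = ⟨b⁻¹ A b, C⟩` commute elementwise. -/
theorem chain_XY_comm : ∀ x ∈ A ⊔ conjBy C b⁻¹, ∀ y ∈ conjBy A b⁻¹ ⊔ C, x * y = y * x := by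
  have hbi : b⁻¹ ∈ B := B.inv_mem hb
  have e1 : A ⊔ conjBy C b⁻¹ = Subgroup.closure ((A : Set G) ∪ (conjBy C b⁻¹ : Subgroup G)) := by
    rw [Subgroup.closure_union, Subgroup.closure_eq, Subgroup.closure_eq]
  have e2 : conjBy A b⁻¹ ⊔ C = Subgroup.closure (((conjBy A b⁻¹ : Subgroup G) : Set G) ∪ C) := by
    rw [Subgroup.closure_union, Subgroup.closure_eq, Subgroup.closure_eq]
  rw [e1, e2]
  apply comm_closure_eq
  rintro p (hp | hp) q (hq | hq)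
  · exact chain_comm_conj hS hA hcA hbi hp hq
  · exact hAC p hp q hq
  · have hp' := mem_conjBy_iff.mp hp
    have hq' := mem_conjBy_iff.mp hq
    have h := hAC _ hq' _ hp'
    have e : p * q = b⁻¹ * ((b⁻¹⁻¹ * p * b⁻¹) * (b⁻¹⁻¹ * q * b⁻¹)) * b⁻¹⁻¹ := by group
    rw [e, ← h]; group
  · exact (chain_comm_conj hS hC hcC hbi hq hp).symm

/-- `W = X Y` contains `A`, `C`. -/
theorem chain_A_le_W : A ≤ (A ⊔ conjBy C b⁻¹) ⊔ (conjBy A b⁻¹ ⊔ C) :=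
  le_sup_of_le_left le_sup_left

theorem chain_C_le_W : C ≤ (A ⊔ conjBy C b⁻¹) ⊔ (conjBy A b⁻¹ ⊔ C) :=
  le_sup_of_le_right le_sup_right

include hb1

theorem chain_U_le : ⁅A, B⁆ ≤ A ⊔ conjBy A b⁻¹ := by
  intro u hu
  have hbi : b⁻¹ ∈ B := B.inv_mem hb
  have hbi1 : b⁻¹ ≠ 1 := fun h => hb1 (inv_eq_one.mp h)
  obtain ⟨a, ha, rfl⟩ := cc_exists_left hcA hbi hbi1 hu
  have : a * b⁻¹ * a⁻¹ * b⁻¹⁻¹ = a * (b⁻¹ * a⁻¹ * b⁻¹⁻¹) := by group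
  rw [this]
  exact Subgroup.mul_mem _ (Subgroup.mem_sup_left ha)
    (Subgroup.mem_sup_right (conj_mem_conjBy (A.inv_mem ha)))

theorem chain_U_le_W : ⁅A, B⁆ ≤ (A ⊔ conjBy C b⁻¹) ⊔ (conjBy A b⁻¹ ⊔ C) :=
  (chain_U_le hS hA hB hC hcA hcC hAC hb hb1).trans
    (sup_le (le_sup_of_le_left le_sup_left) (le_sup_of_le_right le_sup_left))

omit hS hA hB hC hcA hcC hAC hb hb1 in
theorem chain_W_symm (A C : Subgroup G) (b : G) :
    (C ⊔ conjBy A b⁻¹) ⊔ (conjBy C b⁻¹ ⊔ A) = (A ⊔ conjBy C b⁻¹) ⊔ (conjBy A b⁻¹ ⊔ C) := by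
  rw [sup_comm C, sup_comm _ A, sup_comm]

theorem chain_V_le_W : ⁅C, B⁆ ≤ (A ⊔ conjBy C b⁻¹) ⊔ (conjBy A b⁻¹ ⊔ C) := by
  have := chain_U_le_W hS hC hB hA hcC hcA (fun c hc a ha => (hAC a ha c hc).symm) hb hb1
  rwa [chain_W_symm] at this

/-- `A`, `B`, `C` normalize `W = X Y`. -/
theorem chain_W_normal : A ⊔ B ⊔ C ≤
    Subgroup.normalizer (((A ⊔ conjBy C b⁻¹) ⊔ (conjBy A b⁻¹ ⊔ C) : Subgroup G) : Set G) := by
  have hAW := chain_A_le_W hS hA hB hC hcA hcC hAC hb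
  have hCW := chain_C_le_W hS hA hB hC hcA hcC hAC hb
  have hUW := chain_U_le_W hS hA hB hC hcA hcC hAC hb hb1
  have hVW := chain_V_le_W hS hA hB hC hcA hcC hAC hb hb1
  have hbi : b⁻¹ ∈ B := B.inv_mem hb
  refine sup_le (sup_le (hAW.trans Subgroup.le_normalizer) ?_) (hCW.trans Subgroup.le_normalizer)
  apply le_normalizer_of_conjBy_le
  intro b' hb'
  have hA' : ∀ b'' ∈ B, conjBy A b'' ≤ (A ⊔ conjBy C b⁻¹) ⊔ (conjBy A b⁻¹ ⊔ C) := fun b'' hb'' =>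
    (cc_conjBy_le hb'').trans (sup_le hAW hUW)
  have hC' : ∀ b'' ∈ B, conjBy C b'' ≤ (A ⊔ conjBy C b⁻¹) ⊔ (conjBy A b⁻¹ ⊔ C) := fun b'' hb'' =>
    (cc_conjBy_le hb'').trans (sup_le hCW hVW)
  have e : conjBy ((A ⊔ conjBy C b⁻¹) ⊔ (conjBy A b⁻¹ ⊔ C)) b' =
      (conjBy A b' ⊔ conjBy C (b' * b⁻¹)) ⊔ (conjBy A (b' * b⁻¹) ⊔ conjBy C b') := by
    rw [← conjBy_conjBy, ← conjBy_conjBy]
    simp only [conjBy, Subgroup.map_sup]
  rw [e]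
  exact sup_le (sup_le (hA' b' hb') (hC' _ (B.mul_mem hb' hbi)))
    (sup_le (hA' _ (B.mul_mem hb' hbi)) (hC' b' hb'))

omit hb1 in
theorem chain_sup_B : ((A ⊔ conjBy C b⁻¹) ⊔ (conjBy A b⁻¹ ⊔ C)) ⊔ B = A ⊔ B ⊔ C := by
  have hbR : b⁻¹ ∈ A ⊔ B ⊔ C := Subgroup.mem_sup_left (Subgroup.mem_sup_right (B.inv_mem hb))
  have hAR : A ≤ A ⊔ B ⊔ C := le_sup_of_le_left le_sup_left
  have hCR : C ≤ A ⊔ B ⊔ C := le_sup_right
  apply le_antisymm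
  · refine sup_le (sup_le (sup_le hAR (conjBy_le_of_mem hCR hbR))
      (sup_le (conjBy_le_of_mem hAR hbR) hCR)) (le_sup_of_le_left le_sup_right)
  · refine sup_le (sup_le ?_ le_sup_right) ?_
    · exact le_sup_of_le_left (le_sup_of_le_left le_sup_left)
    · exact le_sup_of_le_left (le_sup_of_le_right le_sup_right)

/-- `(A, b⁻¹ C b)` is not a rank one pair. -/
theorem chain_not_rankOne : ¬ IsRankOnePair A (conjBy C b⁻¹) := by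
  intro h
  have hbi : b⁻¹ ∈ B := B.inv_mem hb
  have hbi1 : b⁻¹ ≠ 1 := fun h => hb1 (inv_eq_one.mp h)
  -- an `a ∈ A` not commuting with `b⁻¹`
  have hex : ∃ a ∈ A, a * b⁻¹ * a⁻¹ * b⁻¹⁻¹ ≠ 1 := by
    by_contra hcon
    push Not at hcon
    have h4 := hcA.2.2.2 b⁻¹ hbi hbi1
    have : Subgroup.closure ((fun a : G => a * b⁻¹ * a⁻¹ * b⁻¹⁻¹) '' (A : Set G)) = ⊥ := by
      rw [Subgroup.closure_eq_bot_iff]
      rintro x ⟨a, ha, rfl⟩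
      exact Set.mem_singleton_iff.mpr (hcon a ha)
    rw [this] at h4
    exact hS.ne_bot _ hcA.1 h4.symm
  obtain ⟨a, ha, hne⟩ := hex
  have ha1 : a ≠ 1 := by
    rintro rfl
    apply hne; group
  have hz : b⁻¹ * a⁻¹ * b⁻¹⁻¹ ∈ conjBy A b⁻¹ := conj_mem_conjBy (A.inv_mem ha)
  have hz1 : b⁻¹ * a⁻¹ * b⁻¹⁻¹ ≠ 1 := by
    intro h1
    apply ha1
    have : a⁻¹ = b⁻¹⁻¹ * (b⁻¹ * a⁻¹ * b⁻¹⁻¹) * b⁻¹ := by group
    rw [h1] at this
    have h2 : a⁻¹ = 1 := by rw [this]; group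
    exact inv_eq_one.mp h2
  have hzc : b⁻¹ * a⁻¹ * b⁻¹⁻¹ ∈
      Subgroup.centralizer ((A ⊔ conjBy C b⁻¹ : Subgroup G) : Set G) := by
    rw [Subgroup.mem_centralizer_iff]
    intro x hx
    exact chain_XY_comm hS hA hB hC hcA hcC hAC hb x hx _ (Subgroup.mem_sup_left hz)
  have hnot := root_central_mul_not_root hS (hS.conj_mem C hC b⁻¹) h hzc hz1 ha ha1
  apply hnot
  have hcomm : a * (b⁻¹ * a⁻¹ * b⁻¹⁻¹) = (b⁻¹ * a⁻¹ * b⁻¹⁻¹) * a :=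
    chain_comm_conj hS hA hcA hbi ha hz
  have hu : a * b⁻¹ * a⁻¹ * b⁻¹⁻¹ ∈ ⁅A, B⁆ := cc_comm_mem ha hbi
  have e : b⁻¹ * a⁻¹ * b⁻¹⁻¹ * a = a * b⁻¹ * a⁻¹ * b⁻¹⁻¹ := by
    rw [← hcomm]; group
  rw [e]
  exact ⟨hne, _, hcA.1, hu⟩

theorem chain_X_pair : ⁅A, conjBy C b⁻¹⁆ = ⊥ ∨ RootCommutatorCase S A (conjBy C b⁻¹) := by
  rcases hS.pair A hA _ (hS.conj_mem C hC b⁻¹) with h | h | h
  · exact Or.inl h
  · exact absurd h (chain_not_rankOne hS hA hB hC hcA hcC hAC hb hb1)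
  · exact Or.inr h

/-- `⁅A, b⁻¹ C b⁆` is central in `W`. -/
theorem chain_comm_central : ∀ z ∈ ⁅A, conjBy C b⁻¹⁆,
    ∀ w ∈ (A ⊔ conjBy C b⁻¹) ⊔ (conjBy A b⁻¹ ⊔ C), z * w = w * z := by
  intro z hz
  have hzX : z ∈ A ⊔ conjBy C b⁻¹ := commutator_le_sup' _ _ hz
  have hX : ∀ x ∈ A ⊔ conjBy C b⁻¹, z * x = x * z := by
    rcases chain_X_pair hS hA hB hC hcA hcC hAC hb hb1 with h | h
    · rw [h, Subgroup.mem_bot] at hz
      intro x _; rw [hz]; simp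
    · exact fun x hx => h.2.1 z hz x hx
  have hY : ∀ y ∈ conjBy A b⁻¹ ⊔ C, z * y = y * z := fun y hy =>
    chain_XY_comm hS hA hB hC hcA hcC hAC hb z hzX y hy
  have := mem_centralizer_sup hX hY
  exact commute_of_mem_centralizer this

/-- `[a, v] ∈ ⁅A, b⁻¹ C b⁆` for `a ∈ A`, `v ∈ ⁅C, B⁆`. -/
theorem chain_AV_mem {a v : G} (ha : a ∈ A) (hv : v ∈ ⁅C, B⁆) :
    a * v * a⁻¹ * v⁻¹ ∈ ⁅A, conjBy C b⁻¹⁆ := by
  have hbi : b⁻¹ ∈ B := B.inv_mem hb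
  have hbi1 : b⁻¹ ≠ 1 := fun h => hb1 (inv_eq_one.mp h)
  obtain ⟨c, hc, hcv⟩ := cc_exists_left hcC hbi hbi1 (Subgroup.inv_mem _ hv)
  have hv' : v = b⁻¹ * c * b⁻¹⁻¹ * c⁻¹ := by
    rw [← inv_inv v, ← hcv]; group
  have hc' : b⁻¹ * c * b⁻¹⁻¹ ∈ conjBy C b⁻¹ := conj_mem_conjBy hc
  have hac : a * c = c * a := hAC a ha c hc
  have haic : a⁻¹ * c = c * a⁻¹ := by
    have := hAC a⁻¹ (A.inv_mem ha) c hc
    exact this
  have key : a * v * a⁻¹ * v⁻¹ = a * (b⁻¹ * c * b⁻¹⁻¹) * a⁻¹ * (b⁻¹ * c * b⁻¹⁻¹)⁻¹ := by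
    have e1 : b⁻¹ * c * b⁻¹⁻¹ = v * c := by rw [hv']; group
    rw [e1]
    calc a * v * a⁻¹ * v⁻¹ = a * v * (c * a⁻¹ * c⁻¹) * v⁻¹ := by
          rw [← haic]; group
      _ = a * (v * c) * a⁻¹ * (v * c)⁻¹ := by group
  rw [key]
  exact Subgroup.commutator_mem_commutator ha hc'

/-- `[a, v]` is central in `W`, for `a ∈ A`, `v ∈ ⁅C, B⁆`. -/
theorem chain_AV_central {a v : G} (ha : a ∈ A) (hv : v ∈ ⁅C, B⁆) :
    ∀ w ∈ (A ⊔ conjBy C b⁻¹) ⊔ (conjBy A b⁻¹ ⊔ C),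
      (a * v * a⁻¹ * v⁻¹) * w = w * (a * v * a⁻¹ * v⁻¹) :=
  chain_comm_central hS hA hB hC hcA hcC hAC hb hb1 _
    (chain_AV_mem hS hA hB hC hcA hcC hAC hb hb1 ha hv)

/-- `[c, u]` is central in `W`, for `c ∈ C`, `u ∈ ⁅A, B⁆`. -/
theorem chain_CU_central {c u : G} (hc : c ∈ C) (hu : u ∈ ⁅A, B⁆) :
    ∀ w ∈ (A ⊔ conjBy C b⁻¹) ⊔ (conjBy A b⁻¹ ⊔ C),
      (c * u * c⁻¹ * u⁻¹) * w = w * (c * u * c⁻¹ * u⁻¹) := by
  have := chain_AV_central hS hC hB hA hcC hcA (fun c hc a ha => (hAC a ha c hc).symm) hb hb1 hc hu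
  rwa [chain_W_symm] at this

/-- `X = ⟨A, b⁻¹ C b⟩` has class at most two. -/
theorem chain_X_class_two :
    ⁅⁅A ⊔ conjBy C b⁻¹, A ⊔ conjBy C b⁻¹⁆, A ⊔ conjBy C b⁻¹⁆ = ⊥ := by
  have hcen := chain_comm_central hS hA hB hC hcA hcC hAC hb hb1
  have hXW : A ⊔ conjBy C b⁻¹ ≤ (A ⊔ conjBy C b⁻¹) ⊔ (conjBy A b⁻¹ ⊔ C) := le_sup_left
  have hC'S : conjBy C b⁻¹ ∈ S := hS.conj_mem C hC b⁻¹
  have hN : A ⊔ conjBy C b⁻¹ ≤ Subgroup.normalizer ((⁅A, conjBy C b⁻¹⁆ : Subgroup G) : Set G) := by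
    intro x hx
    rw [Subgroup.mem_normalizer_iff]
    intro z
    constructor
    · intro hz
      have := hcen z hz x (hXW hx)
      have e : x * z * x⁻¹ = z := by rw [← this]; group
      rw [e]; exact hz
    · intro hz
      have := hcen _ hz x (hXW hx)
      have h2 : x * z = x * (x * z * x⁻¹) := by rw [← this]; group
      have e : z = x * z * x⁻¹ := mul_left_cancel h2
      rw [e]; exact hz
  have e1 : A ⊔ conjBy C b⁻¹ = Subgroup.closure ((A : Set G) ∪ (conjBy C b⁻¹ : Subgroup G)) := by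
    rw [Subgroup.closure_union, Subgroup.closure_eq, Subgroup.closure_eq]
  have hgen : ∀ p ∈ (A : Set G) ∪ (conjBy C b⁻¹ : Subgroup G),
      ∀ q ∈ (A : Set G) ∪ (conjBy C b⁻¹ : Subgroup G),
      p * q * p⁻¹ * q⁻¹ ∈ ⁅A, conjBy C b⁻¹⁆ := by
    rintro p (hp | hp) q (hq | hq)
    · have := root_comm_of_mem hS hA hp hq
      have e : p * q * p⁻¹ * q⁻¹ = 1 := by rw [this]; group
      rw [e]; exact Subgroup.one_mem _
    · exact Subgroup.commutator_mem_commutator hp hq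
    · have := Subgroup.commutator_mem_commutator hq hp
      rw [commutatorElement_def] at this
      have e : p * q * p⁻¹ * q⁻¹ = (q * p * q⁻¹ * p⁻¹)⁻¹ := by group
      rw [e]; exact Subgroup.inv_mem _ this
    · have := root_comm_of_mem hS hC'S hp hq
      have e : p * q * p⁻¹ * q⁻¹ = 1 := by rw [this]; group
      rw [e]; exact Subgroup.one_mem _
  have hsub : (A : Set G) ∪ (conjBy C b⁻¹ : Subgroup G) ⊆ (A ⊔ conjBy C b⁻¹ : Subgroup G) := by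
    rintro p (hp | hp)
    · exact Subgroup.mem_sup_left hp
    · exact Subgroup.mem_sup_right hp
  have hXX : ⁅A ⊔ conjBy C b⁻¹, A ⊔ conjBy C b⁻¹⁆ ≤ ⁅A, conjBy C b⁻¹⁆ := by
    rw [Subgroup.commutator_le]
    intro x hx y hy
    rw [commutatorElement_def]
    rw [e1] at hx hy
    exact comm_closure_mem hN hsub hsub hgen x hx y hy
  rw [root_commutator_eq_bot_iff]
  intro z hz x hx
  exact hcen z (hXX hz) x (hXW hx)

omit hb1 in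
/-- `Y = ⟨b⁻¹ A b, C⟩` is abelian iff `⁅A, B⁆` and `C` commute. -/
theorem chain_Y_comm_iff (hb1 : b ≠ 1) : IsMulCommutative ↥(conjBy A b⁻¹ ⊔ C) ↔
    ∀ u ∈ ⁅A, B⁆, ∀ c ∈ C, u * c = c * u := by
  have hbi : b⁻¹ ∈ B := B.inv_mem hb
  have hbi1 : b⁻¹ ≠ 1 := fun h => hb1 (inv_eq_one.mp h)
  have hA'S : conjBy A b⁻¹ ∈ S := hS.conj_mem A hA b⁻¹
  rw [sup_comm_iff (fun x hx y hy => root_comm_of_mem hS hA'S hx hy)
    (fun x hx y hy => root_comm_of_mem hS hC hx hy)]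
  constructor
  · intro h u hu c hc
    obtain ⟨a, ha, rfl⟩ := cc_exists_left hcA hbi hbi1 hu
    have hz : b⁻¹ * a⁻¹ * b⁻¹⁻¹ ∈ conjBy A b⁻¹ := conj_mem_conjBy (A.inv_mem ha)
    have h1 : Commute (b⁻¹ * a⁻¹ * b⁻¹⁻¹) c := h _ hz c hc
    have h2 : Commute a c := hAC a ha c hc
    have h3 := h2.mul_left h1
    have e : a * b⁻¹ * a⁻¹ * b⁻¹⁻¹ = a * (b⁻¹ * a⁻¹ * b⁻¹⁻¹) := by group
    rw [e]; exact h3
  · intro h p hp q hq
    rw [mem_conjBy_iff] at hp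
    have hu : b⁻¹ * (b⁻¹⁻¹ * p * b⁻¹) * b⁻¹⁻¹ * (b⁻¹⁻¹ * p * b⁻¹)⁻¹ ∈ ⁅A, B⁆ := cc_comm_mem' hp hbi
    have h1 : Commute (b⁻¹ * (b⁻¹⁻¹ * p * b⁻¹) * b⁻¹⁻¹ * (b⁻¹⁻¹ * p * b⁻¹)⁻¹) q := h _ hu q hq
    have h2 : Commute (b⁻¹⁻¹ * p * b⁻¹) q := hAC _ hp q hq
    have h3 := h1.mul_left h2
    have e : b⁻¹ * (b⁻¹⁻¹ * p * b⁻¹) * b⁻¹⁻¹ * (b⁻¹⁻¹ * p * b⁻¹)⁻¹ * (b⁻¹⁻¹ * p * b⁻¹) = p := by
      group
    rw [e] at h3
    exact h3

omit hb1 in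
/-- `X = ⟨A, b⁻¹ C b⟩` is abelian iff `⁅A, B⁆` and `C` commute. -/
theorem chain_X_comm_iff (hb1 : b ≠ 1) : IsMulCommutative ↥(A ⊔ conjBy C b⁻¹) ↔
    ∀ u ∈ ⁅A, B⁆, ∀ c ∈ C, u * c = c * u := by
  have hC'S : conjBy C b⁻¹ ∈ S := hS.conj_mem C hC b⁻¹
  rw [sup_comm_iff (fun x hx y hy => root_comm_of_mem hS hA hx hy)
    (fun x hx y hy => root_comm_of_mem hS hC'S hx hy)]
  constructor
  · intro h u hu c hc
    obtain ⟨a, ha, hau⟩ := cc_exists_left hcA hb hb1 (Subgroup.inv_mem _ hu)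
    have hu' : u = (a * b * a⁻¹ * b⁻¹)⁻¹ := by rw [hau, inv_inv]
    rw [hu']
    have hc' : b⁻¹ * c * b⁻¹⁻¹ ∈ conjBy C b⁻¹ := conj_mem_conjBy hc
    have h1 : a * (b⁻¹ * c * b⁻¹⁻¹) = (b⁻¹ * c * b⁻¹⁻¹) * a := h a ha _ hc'
    have h2 : Commute (b * a * b⁻¹) c := by
      have e1 : b * a * b⁻¹ * c = b * (a * (b⁻¹ * c * b⁻¹⁻¹)) * b⁻¹ := by group
      have e2 : c * (b * a * b⁻¹) = b * ((b⁻¹ * c * b⁻¹⁻¹) * a) * b⁻¹ := by group
      show b * a * b⁻¹ * c = c * (b * a * b⁻¹)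
      rw [e1, e2, h1]
    have h3 : Commute a⁻¹ c := hAC a⁻¹ (A.inv_mem ha) c hc
    have h4 := h2.mul_left h3
    have e : (a * b * a⁻¹ * b⁻¹)⁻¹ = b * a * b⁻¹ * a⁻¹ := by group
    rw [e]; exact h4
  · intro h p hp q hq
    rw [mem_conjBy_iff] at hq
    have hu : b * p * b⁻¹ * p⁻¹ ∈ ⁅A, B⁆ := cc_comm_mem' hp hb
    have h1 : Commute (b * p * b⁻¹ * p⁻¹) (b⁻¹⁻¹ * q * b⁻¹) := h _ hu _ hq
    have h2 : Commute p (b⁻¹⁻¹ * q * b⁻¹) := hAC p hp _ hq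
    have h3 := h1.mul_left h2
    have e : b * p * b⁻¹ * p⁻¹ * p = b * p * b⁻¹ := by group
    rw [e] at h3
    have h4 : b * p * b⁻¹ * (b⁻¹⁻¹ * q * b⁻¹) = (b⁻¹⁻¹ * q * b⁻¹) * (b * p * b⁻¹) := h3
    have e1 : p * q = b⁻¹ * (b * p * b⁻¹ * (b⁻¹⁻¹ * q * b⁻¹)) * b := by group
    rw [e1, h4]; group

end Chain

end Cfsg.Agent.Helper25
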