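import Mathlib
import Cfsg.Prelude.Def_RootSubgroups
import Cfsg.Agent.Helper25.RootChain

/-!
# Timmesfeld II (2.6): `⟨A, B, C⟩` is nilpotent for a chain `A - B - C`
-/

set_option autoImplicit false
set_option linter.unusedSectionVars false
set_option linter.unusedVariables false

namespace Cfsg.Agent.Helper25

open Cfsg

variable {G : Type*} [Group G] {S : Set (Subgroup G)}

/-- generators `[u, v]` -/
def chainGT (A B C : Subgroup G) : Set G :=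
  {g | ∃ u ∈ ⁅A, B⁆, ∃ v ∈ ⁅C, B⁆, g = u * v * u⁻¹ * v⁻¹}

/-- generators `[a, v]`, `[c, u]`, `[u, v]` -/
def chainGZ (A B C : Subgroup G) : Set G :=
  {g | ∃ a ∈ A, ∃ v ∈ ⁅C, B⁆, g = a * v * a⁻¹ * v⁻¹} ∪
    {g | ∃ c ∈ C, ∃ u ∈ ⁅A, B⁆, g = c * u * c⁻¹ * u⁻¹} ∪ chainGT A B C

def chainGM (A B C : Subgroup G) : Set G :=
  (⁅A, B⁆ : Subgroup G) ∪ (⁅C, B⁆ : Subgroup G) ∪ chainGZ A B C

theorem chainGT_subset_GZ (A B C : Subgroup G) : chainGT A B C ⊆ chainGZ A B C :=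
  Set.subset_union_right

theorem chainGZ_subset_GM (A B C : Subgroup G) : chainGZ A B C ⊆ chainGM A B C :=
  Set.subset_union_right

theorem chain_R_eq (A B C : Subgroup G) :
    A ⊔ B ⊔ C = Subgroup.closure ((A : Set G) ∪ B ∪ C) := by
  rw [Subgroup.closure_union, Subgroup.closure_union, Subgroup.closure_eq, Subgroup.closure_eq,
    Subgroup.closure_eq]

theorem comm_elt_eq_one {x y : G} (h : x * y = y * x) : x * y * x⁻¹ * y⁻¹ = 1 := by
  rw [h]; group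

theorem comm_conj_aux {p q r z w t : G} (hz : z = p * q * p⁻¹ * q⁻¹)
    (hw : w = r * p * r⁻¹ * p⁻¹) (ht : t = w * q * w⁻¹ * q⁻¹) (hrq : r * q = q * r)
    (hzw : z * w = w * z) (hzt : z * t = t * z) : z * r * z⁻¹ * r⁻¹ = t⁻¹ := by
  have e1 : r * q * r⁻¹ = q := by rw [hrq]; group
  have e2 : r * p * r⁻¹ = w * p := by rw [hw]; group
  have e3 : r * z * r⁻¹ = z * t := by
    have h1 : r * z * r⁻¹ =
        (r * p * r⁻¹) * (r * q * r⁻¹) * (r * p * r⁻¹)⁻¹ * (r * q * r⁻¹)⁻¹ := by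
      rw [hz]; group
    rw [h1, e1, e2]
    have h2 : w * p * q * (w * p)⁻¹ * q⁻¹ = (w * z) * q * w⁻¹ * q⁻¹ := by rw [hz]; group
    rw [h2, ← hzw, ht]; group
  have e4 : z * r * z⁻¹ * r⁻¹ = z * (r * z * r⁻¹)⁻¹ := by group
  rw [e4, e3]
  have h3 : z * (z * t)⁻¹ = (z * t⁻¹) * z⁻¹ := by group
  rw [h3]
  have h5 : z * t⁻¹ = t⁻¹ * z := (show Commute z t from hzt).inv_right.eq
  rw [h5]; group

/-- The central series used for `⟨A, B, C⟩`. -/
def chainSeries (R M Z T : Subgroup G) : ℕ → Subgroup ↥R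
  | 0 => ⊤
  | 1 => M.subgroupOf R
  | 2 => Z.subgroupOf R
  | 3 => T.subgroupOf R
  | _ + 4 => ⊥

theorem chain_gens_sub_R (A B C : Subgroup G) :
    (A : Set G) ∪ B ∪ C ⊆ ((A ⊔ B ⊔ C : Subgroup G) : Set G) := by
  rintro x ((hx | hx) | hx)
  · exact Subgroup.mem_sup_left (Subgroup.mem_sup_left hx)
  · exact Subgroup.mem_sup_left (Subgroup.mem_sup_right hx)
  · exact Subgroup.mem_sup_right hx

theorem chain_GM_sub_R (A B C : Subgroup G) :
    chainGM A B C ⊆ ((A ⊔ B ⊔ C : Subgroup G) : Set G) := by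
  have hA : A ≤ A ⊔ B ⊔ C := le_sup_of_le_left le_sup_left
  have hB : B ≤ A ⊔ B ⊔ C := le_sup_of_le_left le_sup_right
  have hC : C ≤ A ⊔ B ⊔ C := le_sup_right
  have hU : ⁅A, B⁆ ≤ A ⊔ B ⊔ C := (commutator_le_sup' A B).trans (sup_le hA hB)
  have hV : ⁅C, B⁆ ≤ A ⊔ B ⊔ C := (commutator_le_sup' C B).trans (sup_le hC hB)
  have hcomm : ∀ x ∈ A ⊔ B ⊔ C, ∀ y ∈ A ⊔ B ⊔ C, x * y * x⁻¹ * y⁻¹ ∈ A ⊔ B ⊔ C :=
    fun x hx y hy => Subgroup.mul_mem _ (Subgroup.mul_mem _ (Subgroup.mul_mem _ hx hy)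
      (Subgroup.inv_mem _ hx)) (Subgroup.inv_mem _ hy)
  rintro m ((hm | hm) | ((⟨a, ha, v, hv, rfl⟩ | ⟨c, hc, u, hu, rfl⟩) | ⟨u, hu, v, hv, rfl⟩))
  · exact hU hm
  · exact hV hm
  · exact hcomm _ (hA ha) _ (hV hv)
  · exact hcomm _ (hC hc) _ (hU hu)
  · exact hcomm _ (hU hu) _ (hV hv)

section Chain

variable {A B C : Subgroup G}
  (hS : IsRootSubgroupSet S) (hA : A ∈ S) (hB : B ∈ S) (hC : C ∈ S)
  (hcA : RootCommutatorCase S A B) (hcC : RootCommutatorCase S C B)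
  (hAC : ∀ a ∈ A, ∀ c ∈ C, a * c = c * a) {b : G} (hb : b ∈ B) (hb1 : b ≠ 1)

include hS hA hB hC hcA hcC hAC hb hb1

theorem chain_W_le_R : (A ⊔ conjBy C b⁻¹) ⊔ (conjBy A b⁻¹ ⊔ C) ≤ A ⊔ B ⊔ C := by
  rw [← chain_sup_B hS hA hB hC hcA hcC hAC hb]
  exact le_sup_left

/-- `[u, v]` lies in `W`. -/
theorem chain_GT_le_W : chainGT A B C ⊆ ((A ⊔ conjBy C b⁻¹) ⊔ (conjBy A b⁻¹ ⊔ C) : Subgroup G) := by
  rintro g ⟨u, hu, v, hv, rfl⟩
  have hUW := chain_U_le_W hS hA hB hC hcA hcC hAC hb hb1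
  have hVW := chain_V_le_W hS hA hB hC hcA hcC hAC hb hb1
  exact Subgroup.mul_mem _ (Subgroup.mul_mem _ (Subgroup.mul_mem _ (hUW hu) (hVW hv))
    (Subgroup.inv_mem _ (hUW hu))) (Subgroup.inv_mem _ (hVW hv))

/-- `[u, v]` is central in `R`: generator form. -/
theorem chain_GT_central : ∀ t ∈ chainGT A B C, ∀ r ∈ (A : Set G) ∪ B ∪ C, t * r = r * t := by
  have hUW := chain_U_le_W hS hA hB hC hcA hcC hAC hb hb1
  have hVW := chain_V_le_W hS hA hB hC hcA hcC hAC hb hb1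
  rintro t ⟨u, hu, v, hv, rfl⟩ r ((hr | hr) | hr)
  · -- r = a ∈ A
    have hk := chain_AV_central hS hA hB hC hcA hcC hAC hb hb1 hr hv
    have hku : Commute (r * v * r⁻¹ * v⁻¹) u := hk u (hUW hu)
    have hkv : Commute (r * v * r⁻¹ * v⁻¹) v := hk v (hVW hv)
    have hkt : Commute (r * v * r⁻¹ * v⁻¹) (u * v * u⁻¹ * v⁻¹) :=
      ((hku.mul_right hkv).mul_right hku.inv_right).mul_right hkv.inv_right
    have hru : r * u = u * r := cc_central_left hcA hr hu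
    have e1 : r * u * r⁻¹ = u := by rw [hru]; group
    have e2 : r * v * r⁻¹ = (r * v * r⁻¹ * v⁻¹) * v := by group
    have e3 : r * (u * v * u⁻¹ * v⁻¹) * r⁻¹ =
        (r * u * r⁻¹) * (r * v * r⁻¹) * (r * u * r⁻¹)⁻¹ * (r * v * r⁻¹)⁻¹ := by group
    have e4 : r * (u * v * u⁻¹ * v⁻¹) * r⁻¹ = u * v * u⁻¹ * v⁻¹ := by
      rw [e3, e1, e2]
      generalize r * v * r⁻¹ * v⁻¹ = k at hku hkv hkt
      have h1 : u * (k * v) * u⁻¹ * (k * v)⁻¹ = (u * k) * v * u⁻¹ * v⁻¹ * k⁻¹ := by group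
      rw [h1, ← hku.eq]
      have h2 : k * u * v * u⁻¹ * v⁻¹ * k⁻¹ = (k * (u * v * u⁻¹ * v⁻¹)) * k⁻¹ := by group
      rw [h2, hkt.eq]; group
    calc u * v * u⁻¹ * v⁻¹ * r = (r * (u * v * u⁻¹ * v⁻¹) * r⁻¹) * r := by rw [e4]
      _ = r * (u * v * u⁻¹ * v⁻¹) := by group
  · -- r ∈ B
    have h1 : Commute r u := cc_central_right hcA hr hu
    have h2 : Commute r v := cc_central_right hcC hr hv
    exact (((h1.mul_right h2).mul_right h1.inv_right).mul_right h2.inv_right).symm.eq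
  · -- r = c ∈ C
    have hk := chain_CU_central hS hA hB hC hcA hcC hAC hb hb1 hr hu
    have hku : Commute (r * u * r⁻¹ * u⁻¹) u := hk u (hUW hu)
    have hkv : Commute (r * u * r⁻¹ * u⁻¹) v := hk v (hVW hv)
    have hkt : Commute (r * u * r⁻¹ * u⁻¹) (u * v * u⁻¹ * v⁻¹) :=
      ((hku.mul_right hkv).mul_right hku.inv_right).mul_right hkv.inv_right
    have hrv : r * v = v * r := cc_central_left hcC hr hv
    have e1 : r * v * r⁻¹ = v := by rw [hrv]; group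
    have e2 : r * u * r⁻¹ = (r * u * r⁻¹ * u⁻¹) * u := by group
    have e3 : r * (u * v * u⁻¹ * v⁻¹) * r⁻¹ =
        (r * u * r⁻¹) * (r * v * r⁻¹) * (r * u * r⁻¹)⁻¹ * (r * v * r⁻¹)⁻¹ := by group
    have e4 : r * (u * v * u⁻¹ * v⁻¹) * r⁻¹ = u * v * u⁻¹ * v⁻¹ := by
      rw [e3, e1, e2]
      generalize r * u * r⁻¹ * u⁻¹ = k at hku hkv hkt
      have h1 : (k * u) * v * (k * u)⁻¹ * v⁻¹ = k * (u * v * u⁻¹) * (k⁻¹ * v⁻¹) := by group
      rw [h1, hkv.inv_left.inv_right.eq]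
      have h2 : k * (u * v * u⁻¹) * (v⁻¹ * k⁻¹) = (k * (u * v * u⁻¹ * v⁻¹)) * k⁻¹ := by group
      rw [h2, hkt.eq]; group
    calc u * v * u⁻¹ * v⁻¹ * r = (r * (u * v * u⁻¹ * v⁻¹) * r⁻¹) * r := by rw [e4]
      _ = r * (u * v * u⁻¹ * v⁻¹) := by group

/-- `[Z, R] ⊆ T`: generator form. -/
theorem chain_GZ_step : ∀ z ∈ chainGZ A B C, ∀ r ∈ (A : Set G) ∪ B ∪ C,
    z * r * z⁻¹ * r⁻¹ ∈ Subgroup.closure (chainGT A B C) := by
  have hAW := chain_A_le_W hS hA hB hC hcA hcC hAC hb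
  have hCW := chain_C_le_W hS hA hB hC hcA hcC hAC hb
  have hUW := chain_U_le_W hS hA hB hC hcA hcC hAC hb hb1
  have hVW := chain_V_le_W hS hA hB hC hcA hcC hAC hb hb1
  have hTW := chain_GT_le_W hS hA hB hC hcA hcC hAC hb hb1
  rintro z ((⟨a, ha, v, hv, rfl⟩ | ⟨c, hc, u, hu, rfl⟩) | hz) r hr
  · have hcen := chain_AV_central hS hA hB hC hcA hcC hAC hb hb1 ha hv
    rcases hr with (hr | hr) | hr
    · rw [comm_elt_eq_one (hcen r (hAW hr))]; exact Subgroup.one_mem _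
    · have hu' : r * a * r⁻¹ * a⁻¹ ∈ ⁅A, B⁆ := cc_comm_mem' ha hr
      have hrv : r * v = v * r := cc_central_right hcC hr hv
      have htG : (r * a * r⁻¹ * a⁻¹) * v * (r * a * r⁻¹ * a⁻¹)⁻¹ * v⁻¹ ∈ chainGT A B C :=
        ⟨_, hu', v, hv, rfl⟩
      rw [comm_conj_aux rfl rfl rfl hrv (hcen _ (hUW hu')) (hcen _ (hTW htG))]
      exact Subgroup.inv_mem _ (Subgroup.subset_closure htG)
    · rw [comm_elt_eq_one (hcen r (hCW hr))]; exact Subgroup.one_mem _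
  · have hcen := chain_CU_central hS hA hB hC hcA hcC hAC hb hb1 hc hu
    rcases hr with (hr | hr) | hr
    · rw [comm_elt_eq_one (hcen r (hAW hr))]; exact Subgroup.one_mem _
    · have hv' : r * c * r⁻¹ * c⁻¹ ∈ ⁅C, B⁆ := cc_comm_mem' hc hr
      have hru : r * u = u * r := cc_central_right hcA hr hu
      have htG : u * (r * c * r⁻¹ * c⁻¹) * u⁻¹ * (r * c * r⁻¹ * c⁻¹)⁻¹ ∈ chainGT A B C :=
        ⟨u, hu, _, hv', rfl⟩
      have htW : (r * c * r⁻¹ * c⁻¹) * u * (r * c * r⁻¹ * c⁻¹)⁻¹ * u⁻¹ ∈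
          (A ⊔ conjBy C b⁻¹) ⊔ (conjBy A b⁻¹ ⊔ C) :=
        Subgroup.mul_mem _ (Subgroup.mul_mem _ (Subgroup.mul_mem _ (hVW hv') (hUW hu))
          (Subgroup.inv_mem _ (hVW hv'))) (Subgroup.inv_mem _ (hUW hu))
      rw [comm_conj_aux rfl rfl rfl hru (hcen _ (hVW hv')) (hcen _ htW)]
      have e : ((r * c * r⁻¹ * c⁻¹) * u * (r * c * r⁻¹ * c⁻¹)⁻¹ * u⁻¹)⁻¹ =
          u * (r * c * r⁻¹ * c⁻¹) * u⁻¹ * (r * c * r⁻¹ * c⁻¹)⁻¹ := by group
      rw [e]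
      exact Subgroup.subset_closure htG
    · rw [comm_elt_eq_one (hcen r (hCW hr))]; exact Subgroup.one_mem _
  · rw [comm_elt_eq_one (chain_GT_central hS hA hB hC hcA hcC hAC hb hb1 z hz r hr)]
    exact Subgroup.one_mem _

/-- `[M, R] ⊆ Z`: generator form. -/
theorem chain_GM_step : ∀ m ∈ chainGM A B C, ∀ r ∈ (A : Set G) ∪ B ∪ C,
    m * r * m⁻¹ * r⁻¹ ∈ Subgroup.closure (chainGZ A B C) := by
  rintro m ((hm | hm) | hm) r hr
  · rcases hr with (hr | hr) | hr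
    · rw [comm_elt_eq_one (cc_central_left hcA hr hm).symm]; exact Subgroup.one_mem _
    · rw [comm_elt_eq_one (cc_central_right hcA hr hm).symm]; exact Subgroup.one_mem _
    · have e : m * r * m⁻¹ * r⁻¹ = (r * m * r⁻¹ * m⁻¹)⁻¹ := by group
      rw [e]
      exact Subgroup.inv_mem _ (Subgroup.subset_closure
        (Or.inl (Or.inr ⟨r, hr, m, hm, rfl⟩)))
  · rcases hr with (hr | hr) | hr
    · have e : m * r * m⁻¹ * r⁻¹ = (r * m * r⁻¹ * m⁻¹)⁻¹ := by group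
      rw [e]
      exact Subgroup.inv_mem _ (Subgroup.subset_closure
        (Or.inl (Or.inl ⟨r, hr, m, hm, rfl⟩)))
    · rw [comm_elt_eq_one (cc_central_right hcC hr hm).symm]; exact Subgroup.one_mem _
    · rw [comm_elt_eq_one (cc_central_left hcC hr hm).symm]; exact Subgroup.one_mem _
  · exact Subgroup.closure_mono (chainGT_subset_GZ A B C)
      (chain_GZ_step hS hA hB hC hcA hcC hAC hb hb1 m hm r hr)

omit hb hb1 in
/-- `[R, R] ⊆ M`: generator form. -/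
theorem chain_GR_step : ∀ p ∈ (A : Set G) ∪ B ∪ C, ∀ q ∈ (A : Set G) ∪ B ∪ C,
    p * q * p⁻¹ * q⁻¹ ∈ Subgroup.closure (chainGM A B C) := by
  have hU : ∀ x ∈ ⁅A, B⁆, x ∈ Subgroup.closure (chainGM A B C) := fun x hx =>
    Subgroup.subset_closure (Or.inl (Or.inl hx))
  have hV : ∀ x ∈ ⁅C, B⁆, x ∈ Subgroup.closure (chainGM A B C) := fun x hx =>
    Subgroup.subset_closure (Or.inl (Or.inr hx))
  rintro p ((hp | hp) | hp) q ((hq | hq) | hq)
  · rw [comm_elt_eq_one (root_comm_of_mem hS hA hp hq)]; exact Subgroup.one_mem _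
  · exact hU _ (cc_comm_mem hp hq)
  · rw [comm_elt_eq_one (hAC p hp q hq)]; exact Subgroup.one_mem _
  · exact hU _ (cc_comm_mem' hq hp)
  · rw [comm_elt_eq_one (root_comm_of_mem hS hB hp hq)]; exact Subgroup.one_mem _
  · exact hV _ (cc_comm_mem' hq hp)
  · rw [comm_elt_eq_one (hAC q hq p hp).symm]; exact Subgroup.one_mem _
  · exact hV _ (cc_comm_mem hp hq)
  · rw [comm_elt_eq_one (root_comm_of_mem hS hC hp hq)]; exact Subgroup.one_mem _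

/-- Timmesfeld II (2.6): `R = ⟨A, B, C⟩` is nilpotent. -/
theorem chain_nilpotent : Group.IsNilpotent ↥(A ⊔ B ⊔ C) := by
  have hTZ : Subgroup.closure (chainGT A B C) ≤ Subgroup.closure (chainGZ A B C) :=
    Subgroup.closure_mono (chainGT_subset_GZ A B C)
  have hZM : Subgroup.closure (chainGZ A B C) ≤ Subgroup.closure (chainGM A B C) :=
    Subgroup.closure_mono (chainGZ_subset_GM A B C)
  have hgR := chain_gens_sub_R A B C
  have hMR := chain_GM_sub_R A B C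
  have hZR := (chainGZ_subset_GM A B C).trans hMR
  have hTR := (chainGT_subset_GZ A B C).trans hZR
  have N3 : ∀ x ∈ Subgroup.closure (chainGT A B C), ∀ g ∈ A ⊔ B ⊔ C, x * g = g * x := by
    intro x hx g hg
    rw [chain_R_eq] at hg
    exact comm_closure_eq (chain_GT_central hS hA hB hC hcA hcC hAC hb hb1) x hx g hg
  have hTn : A ⊔ B ⊔ C ≤ Subgroup.normalizer ((Subgroup.closure (chainGT A B C) : Subgroup G) : Set G) :=
    le_normalizer_of_comm_mem (L := ⊥) bot_le (fun x hx g hg => by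
      rw [comm_elt_eq_one (N3 x hx g hg)]; exact Subgroup.one_mem _)
  have N2 : ∀ x ∈ Subgroup.closure (chainGZ A B C), ∀ g ∈ A ⊔ B ⊔ C,
      x * g * x⁻¹ * g⁻¹ ∈ Subgroup.closure (chainGT A B C) := by
    intro x hx g hg
    rw [chain_R_eq] at hg
    exact comm_closure_mem hTn hZR hgR (chain_GZ_step hS hA hB hC hcA hcC hAC hb hb1) x hx g hg
  have hZn : A ⊔ B ⊔ C ≤ Subgroup.normalizer ((Subgroup.closure (chainGZ A B C) : Subgroup G) : Set G) :=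
    le_normalizer_of_comm_mem hTZ N2
  have N1 : ∀ x ∈ Subgroup.closure (chainGM A B C), ∀ g ∈ A ⊔ B ⊔ C,
      x * g * x⁻¹ * g⁻¹ ∈ Subgroup.closure (chainGZ A B C) := by
    intro x hx g hg
    rw [chain_R_eq] at hg
    exact comm_closure_mem hZn hMR hgR (chain_GM_step hS hA hB hC hcA hcC hAC hb hb1) x hx g hg
  have hMn : A ⊔ B ⊔ C ≤ Subgroup.normalizer ((Subgroup.closure (chainGM A B C) : Subgroup G) : Set G) :=
    le_normalizer_of_comm_mem hZM N1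
  have N0 : ∀ x ∈ A ⊔ B ⊔ C, ∀ g ∈ A ⊔ B ⊔ C,
      x * g * x⁻¹ * g⁻¹ ∈ Subgroup.closure (chainGM A B C) := by
    intro x hx g hg
    rw [chain_R_eq] at hx hg
    exact comm_closure_mem hMn hgR hgR (chain_GR_step hS hA hB hC hcA hcC hAC) x hx g hg
  rw [Subgroup.nilpotent_iff_finite_descending_central_series]
  refine ⟨4, chainSeries (A ⊔ B ⊔ C) (Subgroup.closure (chainGM A B C))
    (Subgroup.closure (chainGZ A B C)) (Subgroup.closure (chainGT A B C)), ⟨rfl, ?_⟩, rfl⟩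
  intro x n hx g
  rcases n with _ | _ | _ | _ | n
  · show x * g * x⁻¹ * g⁻¹ ∈ (Subgroup.closure (chainGM A B C)).subgroupOf (A ⊔ B ⊔ C)
    rw [Subgroup.mem_subgroupOf]
    exact N0 _ x.2 _ g.2
  · change x ∈ (Subgroup.closure (chainGM A B C)).subgroupOf (A ⊔ B ⊔ C) at hx
    show x * g * x⁻¹ * g⁻¹ ∈ (Subgroup.closure (chainGZ A B C)).subgroupOf (A ⊔ B ⊔ C)
    rw [Subgroup.mem_subgroupOf] at hx ⊢
    exact N1 _ hx _ g.2
  · change x ∈ (Subgroup.closure (chainGZ A B C)).subgroupOf (A ⊔ B ⊔ C) at hx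
    show x * g * x⁻¹ * g⁻¹ ∈ (Subgroup.closure (chainGT A B C)).subgroupOf (A ⊔ B ⊔ C)
    rw [Subgroup.mem_subgroupOf] at hx ⊢
    exact N2 _ hx _ g.2
  · change x ∈ (Subgroup.closure (chainGT A B C)).subgroupOf (A ⊔ B ⊔ C) at hx
    show x * g * x⁻¹ * g⁻¹ ∈ (⊥ : Subgroup ↥(A ⊔ B ⊔ C))
    rw [Subgroup.mem_subgroupOf] at hx
    rw [Subgroup.mem_bot]
    apply Subtype.ext
    have := N3 _ hx _ g.2
    show (x : G) * g * (x : G)⁻¹ * (g : G)⁻¹ = 1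
    exact comm_elt_eq_one this
  · change x ∈ (⊥ : Subgroup ↥(A ⊔ B ⊔ C)) at hx
    show x * g * x⁻¹ * g⁻¹ ∈ (⊥ : Subgroup ↥(A ⊔ B ⊔ C))
    rw [Subgroup.mem_bot] at hx ⊢
    rw [hx]; group

end Chain

end Cfsg.Agent.Helper25
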