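import Mathlib
import Cfsg.Prelude.Def_RootSubgroups
import Cfsg.Agent.Helper25.RankOne
import Cfsg.Agent.Helper25.RootBasic
import Cfsg.Agent.Helper25.RootComm
import Cfsg.Agent.Helper25.RootComm2
import Cfsg.Agent.Helper25.RootComm3
import Cfsg.Agent.Helper25.RootComm4
import Cfsg.Agent.Helper25.RootLine

set_option autoImplicit false

/-! The normalizer of a line is doubly transitive on it (Timmesfeld II (2.13)). -/

namespace Cfsg.Agent.Helper25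

open Cfsg
open scoped commutatorElement

variable {G : Type*} [Group G] {S : Set (Subgroup G)}

theorem root_line_two_trans (hS : IsRootSubgroupSet S)
    (hF : ∀ A ∈ S, ∃ E ∈ S, IsRankOnePair A E) {A B : Subgroup G} (hA : A ∈ S)
    (hB : B ∈ linePartners S A) :
    ∀ C₁ ∈ membersIn S (A ⊔ B), ∀ C₂ ∈ membersIn S (A ⊔ B), ∀ D₁ ∈ membersIn S (A ⊔ B),
      ∀ D₂ ∈ membersIn S (A ⊔ B), C₁ ≠ C₂ → D₁ ≠ D₂ →
        ∃ x ∈ ⨆ E ∈ normalizingMembers S (A ⊔ B), E, conjBy C₁ x = D₁ ∧ conjBy C₂ x = D₂ := by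
  obtain ⟨E, hE, hAE⟩ := hF A hA
  obtain ⟨T₁, hT₁, hT₁A, hsup, -, K₁, hK₁, hfix₁, htr₁⟩ := line_stab hS hA hE hAE hB hF
  have hcomm := line_comm hS hA hE hAE hB
  have hsup' : T₁ ⊔ A = A ⊔ B := by rw [sup_comm, hsup]
  have hA' : A ∈ linePartners S T₁ := by
    refine ⟨⟨hA, hT₁A.symm, ?_⟩, ?_⟩
    · rw [root_commutator_eq_bot_iff]
      intro x hx y hy
      exact hcomm x (hT₁.2 hx) y (Subgroup.mem_sup_left hy)
    · rw [hsup']; exact hB.2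
  obtain ⟨E₂, hE₂, hT₁E₂⟩ := hF T₁ hT₁.1
  obtain ⟨T₂, hT₂, hT₂T₁, -, -, K₂, hK₂, -, htr₂⟩ := line_stab hS hT₁.1 hE₂ hT₁E₂ hA' hF
  rw [hsup'] at hT₂ hK₂ htr₂
  -- a third member
  have hinf := line_inf hS hA hE hAE hB
  obtain ⟨a, ha, ha1⟩ := root_exists_ne_one hS hA
  obtain ⟨b, hb, hb1⟩ := root_exists_ne_one hS hB.1.1
  have hab1 : a * b ≠ 1 := by
    intro h
    have h1 : b = a⁻¹ := eq_inv_of_mul_eq_one_right h
    have : b ∈ A ⊓ B := Subgroup.mem_inf.mpr ⟨by rw [h1]; exact A.inv_mem ha, hb⟩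
    rw [hinf] at this
    exact hb1 this
  obtain ⟨T', hT', habT'⟩ := hB.2.2.1 (a * b)
    (Subgroup.mul_mem _ (Subgroup.mem_sup_left ha) (Subgroup.mem_sup_right hb)) hab1
  have hT'A : T' ≠ A := by
    intro h
    rw [h] at habT'
    have : b ∈ A ⊓ B := Subgroup.mem_inf.mpr
      ⟨by
        have : b = a⁻¹ * (a * b) := by group
        rw [this]; exact A.mul_mem (A.inv_mem ha) habT', hb⟩
    rw [hinf] at this
    exact hb1 this
  have hT'B : T' ≠ B := by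
    intro h
    rw [h] at habT'
    have : a ∈ A ⊓ B := Subgroup.mem_inf.mpr
      ⟨ha, by
        have : a = (a * b) * b⁻¹ := by group
        rw [this]; exact B.mul_mem habT' (B.inv_mem hb)⟩
    rw [hinf] at this
    exact ha1 this
  have hAmem : A ∈ membersIn S (A ⊔ B) := ⟨hA, le_sup_left⟩
  have hBmem : B ∈ membersIn S (A ⊔ B) := ⟨hB.1.1, le_sup_right⟩
  obtain ⟨T₃, hT₃, h31, h32⟩ : ∃ T₃ ∈ membersIn S (A ⊔ B), T₃ ≠ T₁ ∧ T₃ ≠ T₂ := by
    by_cases h2A : T₂ = A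
    · by_cases h1B : T₁ = B
      · exact ⟨T', hT', by rw [h1B]; exact hT'B, by rw [h2A]; exact hT'A⟩
      · exact ⟨B, hBmem, fun h => h1B h.symm, by rw [h2A]; exact hB.1.2.1⟩
    · exact ⟨A, hAmem, hT₁A.symm, fun h => h2A h.symm⟩
  have hKle : (⨆ E ∈ normalizingMembers S (A ⊔ B), E) ≤
      Subgroup.normalizer ((A ⊔ B : Subgroup G) : Set G) := iSup₂_le (fun E hE => hE.2)
  have hK : ∀ x ∈ ⨆ E ∈ normalizingMembers S (A ⊔ B), E, ∀ C ∈ membersIn S (A ⊔ B),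
      conjBy C x ∈ membersIn S (A ⊔ B) := by
    intro x hx C hC
    refine ⟨hS.conj_mem C hC.1 x, ?_⟩
    have h1 := conjBy_mono hC.2 x
    rwa [conjBy_eq_self_iff.mpr (hKle hx)] at h1
  exact two_trans_of_stabs hK (le_iSup₂ (f := fun E _ => E) K₁ hK₁)
    (le_iSup₂ (f := fun E _ => E) K₂ hK₂) hT₁ hT₂ hT₃ hT₂T₁.symm h31 h32 hfix₁ htr₁ htr₂

end Cfsg.Agent.Helper25
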