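import Mathlib
import Cfsg.Prelude.Def_RootSubgroups
import Cfsg.Agent.Helper25.RootSpecial
import Cfsg.Agent.Helper25.RootLine2
import Cfsg.Agent.Helper25.RootChain

/-!
# Timmesfeld II (2.18): `G = ⟨Λ_A, B⟩` for a rank one partner `B` of `A`
-/

set_option autoImplicit false
set_option linter.unusedSectionVars false
set_option linter.unusedVariables false

namespace Cfsg.Agent.Helper25

open Cfsg

variable {G : Type*} [Group G] {S : Set (Subgroup G)}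

/-- For a subgroup `G₀` containing `B ∈ Ω_A` and all line partners of `A`: `A ≤ G₀` and every
line partner of `A` is conjugate to `A` under `G₀`. -/
theorem gen_key (hS : IsRootSubgroupSet S) (hF : ∀ A ∈ S, ∃ E ∈ S, IsRankOnePair A E)
    {A B C₁ : Subgroup G} (hA : A ∈ S) (hB : B ∈ S) (hAB : IsRankOnePair A B)
    (hC₁ : C₁ ∈ linePartners S A) {G₀ : Subgroup G} (hBG : B ≤ G₀)
    (hΛG : ∀ C ∈ linePartners S A, C ≤ G₀) :
    A ≤ G₀ ∧ ∃ g ∈ G₀, C₁ = conjBy A g := by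
  obtain ⟨T, hT, hTA, hc⟩ := line_exists_cc hS hA hB hAB hC₁
  obtain ⟨K, hK, hTK⟩ := hF T hT.1
  obtain ⟨hc2, heq, hsup⟩ := line_data hS hA hB hAB hC₁ hT hTA hc hK hTK
  have hcomm := line_comm hS hA hB hAB hC₁
  have hTΛ : T ∈ linePartners S A := by
    refine ⟨⟨hT.1, hTA, ?_⟩, ?_⟩
    · rw [root_commutator_eq_bot_iff]
      intro x hx y hy
      exact hcomm x (Subgroup.mem_sup_left hx) y (hT.2 hy)
    · rw [hsup]; exact hC₁.2
  have hTG : T ≤ G₀ := hΛG T hTΛ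
  have hDG : ⁅B, T⁆ ≤ G₀ := (commutator_le_sup' B T).trans (sup_le hBG hTG)
  have hmem := cc_members hS hA hc2 hB hAB
  rw [heq, hsup] at hmem
  -- a line partner `C₂` of `A` with `⁅T, C₂⁆ = A`
  obtain ⟨x, -, hx1, hx2⟩ := root_line_two_trans hS hF hA hC₁ A ⟨hA, le_sup_left⟩ T hT T hT A
    ⟨hA, le_sup_left⟩ hTA.symm hTA
  have hC₂S : conjBy ⁅B, T⁆ x ∈ S := hS.conj_mem _ hc.1 x
  have hcomm2 : ⁅T, conjBy ⁅B, T⁆ x⁆ = A := by
    have h1 : ⁅conjBy A x, conjBy ⁅B, T⁆ x⁆ = conjBy ⁅A, ⁅B, T⁆⁆ x :=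
      (Subgroup.map_commutator A ⁅B, T⁆ _).symm
    rw [hx1, heq, hx2] at h1
    exact h1
  have hcc : RootCommutatorCase S T (conjBy ⁅B, T⁆ x) :=
    root_commutatorCase_of_mem hS hT.1 hC₂S (by rw [hcomm2]; exact hA)
  obtain ⟨K', hK', hC₂K'⟩ := hF _ hC₂S
  have hC₂Λ : conjBy ⁅B, T⁆ x ∈ linePartners S A := by
    have := cc_linePartner hS hC₂S (rootCommutatorCase_symm hcc) hK' hC₂K'
    rwa [Subgroup.commutator_comm, hcomm2] at this
  have hC₂G : conjBy ⁅B, T⁆ x ≤ G₀ := hΛG _ hC₂Λ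
  obtain ⟨c, hcC, hc1⟩ := root_exists_ne_one hS hC₂S
  have hcG : c ∈ G₀ := hC₂G hcC
  -- `P = c T c⁻¹` is a point of the line other than `T`
  have hPle : conjBy T c ≤ A ⊔ C₁ := by
    have := cc_conjBy_le (A := T) (B := conjBy ⁅B, T⁆ x) hcC
    rw [hcomm2, sup_comm, hsup] at this
    exact this
  have hPmem : conjBy T c ∈ membersIn S (A ⊔ C₁) := ⟨hS.conj_mem T hT.1 c, hPle⟩
  have hPne : conjBy T c ≠ T := cc_not_normalize hS hcc hK hTK hcC hc1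
  have hPG : conjBy T c ≤ G₀ := conjBy_le_of_mem hTG hcG
  rw [hmem] at hPmem
  rcases hPmem with ⟨d', hd', hPd'⟩ | hPT
  swap
  · exact absurd hPT hPne
  have hPd'' : conjBy A d' = conjBy T c := hPd'
  have hd'G : d' ∈ G₀ := hDG hd'
  -- `A ≤ P ⊔ T`
  have hAG : A ≤ G₀ := by
    have hle : A ≤ conjBy A d' ⊔ T := by
      intro a ha
      have h1 : a * d' * a⁻¹ * d'⁻¹ ∈ ⁅A, ⁅B, T⁆⁆ := cc_comm_mem ha hd'
      rw [heq] at h1
      have e : a = (a * d' * a⁻¹ * d'⁻¹) * (d' * a * d'⁻¹) := by group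
      rw [e]
      exact Subgroup.mul_mem _ (Subgroup.mem_sup_right h1)
        (Subgroup.mem_sup_left (conj_mem_conjBy ha))
    rw [hPd''] at hle
    exact hle.trans (sup_le hPG hTG)
  refine ⟨hAG, ?_⟩
  have hC₁mem : C₁ ∈ membersIn S (A ⊔ C₁) := ⟨hC₁.1.1, le_sup_right⟩
  rw [hmem] at hC₁mem
  rcases hC₁mem with ⟨d, hd, hC₁d⟩ | hC₁T
  · exact ⟨d, hDG hd, hC₁d.symm⟩
  · rw [Set.mem_singleton_iff] at hC₁T
    refine ⟨c⁻¹ * d', G₀.mul_mem (G₀.inv_mem hcG) hd'G, ?_⟩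
    rw [hC₁T, ← conjBy_conjBy, hPd'', conjBy_conjBy]
    simp [conjBy_one]

/-- Timmesfeld II (2.18). -/
theorem root_gen (hS : IsRootSubgroupClass S) (hnd : IsNondegenerateRootSet S)
    {A B : Subgroup G} (hA : A ∈ S) (hB : B ∈ rankOnePartners S A) :
    (⨆ C ∈ linePartners S A, C) ⊔ B = ⊤ := by
  have hF := root_class_exists_rankOne hS hnd
  have hΛ := root_class_exists_linePartner hS hnd
  have hE := (root_econn hS hnd).1
  obtain ⟨hS', -, hconj⟩ := hS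
  obtain ⟨hBS, hAB⟩ := hB
  have hBG : B ≤ (⨆ C ∈ linePartners S A, C) ⊔ B := le_sup_right
  have hΛG : ∀ C ∈ linePartners S A, C ≤ (⨆ C ∈ linePartners S A, C) ⊔ B := fun C hC =>
    le_sup_of_le_left (le_biSup (fun C => C) hC)
  obtain ⟨C₀, -, hC₀⟩ := hΛ A hA
  have hAG : A ≤ (⨆ C ∈ linePartners S A, C) ⊔ B :=
    (gen_key hS' hF hA hBS hAB hC₀ hBG hΛG).1
  have key : ∀ X Y : Subgroup G, Relation.ReflTransGen (EAdj S S) X Y →
      (∃ g ∈ (⨆ C ∈ linePartners S A, C) ⊔ B, X = conjBy A g) →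
      ∃ g ∈ (⨆ C ∈ linePartners S A, C) ⊔ B, Y = conjBy A g := by
    intro X Y h
    induction h with
    | refl => exact id
    | @tail Y Z _ hYZ ih =>
      intro hX
      obtain ⟨g, hg, rfl⟩ := ih hX
      have h1 := linePartners_conj hS' hYZ.2.2 g⁻¹
      have e1 : conjBy (conjBy A g) g⁻¹ = A := by
        rw [conjBy_conjBy]; simp [conjBy_one]
      rw [e1] at h1
      obtain ⟨g', hg', h2⟩ := (gen_key hS' hF hA hBS hAB h1 hBG hΛG).2
      refine ⟨g * g', Subgroup.mul_mem _ hg hg', ?_⟩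
      rw [← conjBy_conjBy, ← h2, conjBy_conjBy]
      simp [conjBy_one]
  rw [eq_top_iff, ← hS'.generates]
  apply iSup₂_le
  intro F hFS
  obtain ⟨g, hg, rfl⟩ := key A F (hE A hA F hFS) ⟨1, Subgroup.one_mem _, (conjBy_one A).symm⟩
  exact conjBy_le_of_mem hAG hg

end Cfsg.Agent.Helper25
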