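import Mathlib
import Cfsg.Prelude.Def_RootSubgroups
import Cfsg.Agent.Helper25.RankOne
import Cfsg.Agent.Helper25.RootBasic
import Cfsg.Agent.Helper25.RootComm
import Cfsg.Agent.Helper25.RootComm4
import Cfsg.Agent.Helper25.RootComm5

set_option autoImplicit false

/-! Homomorphic images of sets of abstract root subgroups (Timmesfeld II (2.12)). -/

namespace Cfsg.Agent.Helper25

open Cfsg
open scoped commutatorElement

variable {G H : Type*} [Group G] [Group H] {S : Set (Subgroup G)}

theorem map_conjBy (f : G →* H) (A : Subgroup G) (g : G) :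
    (conjBy A g).map f = conjBy (A.map f) (f g) := by
  ext y
  constructor
  · rintro ⟨x, hx, rfl⟩
    rw [mem_conjBy_iff]
    have hx' := mem_conjBy_iff.mp hx
    refine ⟨g⁻¹ * x * g, hx', ?_⟩
    simp
  · intro hy
    rw [mem_conjBy_iff] at hy
    obtain ⟨a, ha, hay⟩ := hy
    refine ⟨g * a * g⁻¹, conj_mem_conjBy ha, ?_⟩
    simp only [map_mul, map_inv, hay]
    group

theorem rankOneCondition_map (f : G →* H) {A B : Subgroup G} (h : RankOneCondition A B)
    (hne : A.map f ≠ B.map f) : RankOneCondition (A.map f) (B.map f) := by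
  rintro _ ⟨a, ha, rfl⟩ ha1
  have ha1' : a ≠ 1 := by
    rintro rfl
    exact ha1 (map_one f)
  obtain ⟨b, hb, -, hab⟩ := h a ha ha1'
  have h1 : (conjBy A b⁻¹).map f = (conjBy B a⁻¹).map f := by rw [hab]
  rw [map_conjBy, map_conjBy, map_inv, map_inv] at h1
  refine ⟨f b, ⟨b, hb, rfl⟩, ?_, h1⟩
  intro hb1
  apply hne
  rw [hb1, inv_one, conjBy_one] at h1
  have h2 : conjBy (A.map f) (f a) = B.map f := conjBy_eq_iff.mpr h1
  rw [conjBy_eq_self_of_mem (Subgroup.mem_map_of_mem f ha)] at h2
  exact h2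

theorem rankOnePair_map (f : G →* H) {A B : Subgroup G} (h : IsRankOnePair A B)
    (hne : A.map f ≠ B.map f) : IsRankOnePair (A.map f) (B.map f) := by
  have hnA := h.nilpotent_left
  have hnB := h.nilpotent_right
  exact ⟨hne, Group.nilpotent_of_surjective (f.subgroupMap A) (f.subgroupMap_surjective A),
    Group.nilpotent_of_surjective (f.subgroupMap B) (f.subgroupMap_surjective B),
    rankOneCondition_map f h.cond_left hne, rankOneCondition_map f h.cond_right hne.symm⟩

theorem comm_image_map (f : G →* H) (a : G) (B : Subgroup G) :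
    (fun y : H => f a * y * (f a)⁻¹ * y⁻¹) '' ((B.map f : Subgroup H) : Set H) =
      f '' ((fun b : G => a * b * a⁻¹ * b⁻¹) '' (B : Set G)) := by
  ext y
  constructor
  · rintro ⟨_, ⟨b, hb, rfl⟩, rfl⟩
    exact ⟨_, ⟨b, hb, rfl⟩, by simp⟩
  · rintro ⟨_, ⟨b, hb, rfl⟩, rfl⟩
    exact ⟨f b, ⟨b, hb, rfl⟩, by simp⟩

theorem comm_image_map' (f : G →* H) (b : G) (A : Subgroup G) :
    (fun y : H => y * f b * y⁻¹ * (f b)⁻¹) '' ((A.map f : Subgroup H) : Set H) =
      f '' ((fun a : G => a * b * a⁻¹ * b⁻¹) '' (A : Set G)) := by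
  ext y
  constructor
  · rintro ⟨_, ⟨a, ha, rfl⟩, rfl⟩
    exact ⟨_, ⟨a, ha, rfl⟩, by simp⟩
  · rintro ⟨_, ⟨a, ha, rfl⟩, rfl⟩
    exact ⟨f a, ⟨a, ha, rfl⟩, by simp⟩

theorem rootCommutatorCase_map (f : G →* H) {A B : Subgroup G} (hc : RootCommutatorCase S A B) :
    RootCommutatorCase ((fun A : Subgroup G => A.map f) '' S) (A.map f) (B.map f) := by
  have hcomm : ⁅A.map f, B.map f⁆ = (⁅A, B⁆).map f := (Subgroup.map_commutator A B f).symm
  refine ⟨⟨⁅A, B⁆, hc.1, hcomm.symm⟩, ?_, ?_, ?_⟩
  · intro c hcm x hx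
    rw [hcomm] at hcm
    rw [← Subgroup.map_sup] at hx
    obtain ⟨c', hc', rfl⟩ := hcm
    obtain ⟨x', hx', rfl⟩ := hx
    rw [← map_mul, ← map_mul, hc.2.1 c' hc' x' hx']
  · rintro _ ⟨a, ha, rfl⟩ ha1
    have ha1' : a ≠ 1 := by
      rintro rfl
      exact ha1 (map_one f)
    rw [comm_image_map, ← MonoidHom.map_closure, hc.2.2.1 a ha ha1', hcomm]
  · rintro _ ⟨b, hb, rfl⟩ hb1
    have hb1' : b ≠ 1 := by
      rintro rfl
      exact hb1 (map_one f)
    rw [comm_image_map', ← MonoidHom.map_closure, hc.2.2.2 b hb hb1', hcomm]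

/-- Timmesfeld II (2.12). -/
theorem root_image (hS : IsRootSubgroupSet S) (hc : IsConnectedFamily (FAdj S) S) (f : G →* H)
    (hf : Function.Surjective f) :
    (IsRootSubgroupSet ((fun A : Subgroup G => A.map f) '' S) ∧
      IsConnectedFamily (FAdj ((fun A : Subgroup G => A.map f) '' S))
        ((fun A : Subgroup G => A.map f) '' S)) ∨
    ∃ A ∈ S, A.map f = ⊤ := by
  by_cases hN : ∃ A ∈ S, A.map f = ⊥
  · right
    obtain ⟨A, hA, hAf⟩ := hN
    refine ⟨A, hA, ?_⟩
    have hall : ∀ B ∈ S, B.map f = ⊥ := by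
      intro B hB
      obtain ⟨g, rfl⟩ := fadj_reach_conj (hc A hA B hB)
      rw [map_conjBy, hAf]
      ext x
      rw [mem_conjBy_iff, Subgroup.mem_bot, Subgroup.mem_bot]
      constructor
      · intro h
        have : x = f g * ((f g)⁻¹ * x * f g) * (f g)⁻¹ := by group
        rw [this, h]; group
      · rintro rfl; group
    have htop : (⊤ : Subgroup H) = ⊥ := by
      rw [← Subgroup.map_top_of_surjective f hf, ← hS.generates, Subgroup.map_iSup]
      apply le_antisymm _ bot_le
      apply iSup_le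
      intro B
      rw [Subgroup.map_iSup]
      apply iSup_le
      intro hB
      rw [hall B hB]
    rw [hAf, htop]
  · left
    push Not at hN
    have hpair : ∀ A ∈ S, ∀ B ∈ S, ⁅A.map f, B.map f⁆ = ⊥ ∨ IsRankOnePair (A.map f) (B.map f) ∨
        RootCommutatorCase ((fun A : Subgroup G => A.map f) '' S) (A.map f) (B.map f) := by
      intro A hA B hB
      rcases hS.pair A hA B hB with h | h | h
      · left
        rw [← Subgroup.map_commutator, h, Subgroup.map_bot]
      · by_cases hne : A.map f = B.map f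
        · left
          rw [root_commutator_eq_bot_iff]
          rintro _ ⟨a, ha, rfl⟩ y hy
          rw [← hne] at hy
          obtain ⟨a', ha', rfl⟩ := hy
          rw [← map_mul, ← map_mul, root_comm_of_mem hS hA ha ha']
        · right; left
          exact rankOnePair_map f h hne
      · right; right
        exact rootCommutatorCase_map f h
    refine ⟨⟨?_, ?_, ?_, ?_, ?_⟩, ?_⟩
    · rintro _ ⟨A, hA, rfl⟩
      apply IsMulCommutative.of_setLike_mul_comm
      rintro _ ⟨a, ha, rfl⟩ _ ⟨a', ha', rfl⟩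
      rw [← map_mul, ← map_mul, root_comm_of_mem hS hA ha ha']
    · rintro _ ⟨A, hA, rfl⟩
      exact hN A hA
    · rw [eq_top_iff, ← Subgroup.map_top_of_surjective f hf, ← hS.generates, Subgroup.map_iSup]
      apply iSup_le
      intro B
      rw [Subgroup.map_iSup]
      apply iSup_le
      intro hB
      exact le_iSup₂_of_le (B.map f) ⟨B, hB, rfl⟩ le_rfl
    · rintro _ ⟨A, hA, rfl⟩ h
      obtain ⟨g, rfl⟩ := hf h
      exact ⟨conjBy A g, hS.conj_mem A hA g, map_conjBy f A g⟩
    · rintro _ ⟨A, hA, rfl⟩ _ ⟨B, hB, rfl⟩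
      exact hpair A hA B hB
    · have key : ∀ A B : Subgroup G, Relation.ReflTransGen (FAdj S) A B →
          Relation.ReflTransGen (FAdj ((fun A : Subgroup G => A.map f) '' S))
            (A.map f) (B.map f) := by
        intro A B hreach
        induction hreach with
        | refl => exact Relation.ReflTransGen.refl
        | @tail B' C' _ hbc ih =>
          by_cases hne : B'.map f = C'.map f
          · rw [← hne]; exact ih
          · exact ih.tail ⟨⟨B', hbc.1, rfl⟩, ⟨C', hbc.2.1, rfl⟩, rankOnePair_map f hbc.2.2 hne⟩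
      rintro _ ⟨A, hA, rfl⟩ _ ⟨B, hB, rfl⟩
      exact key A B (hc A hA B hB)

end Cfsg.Agent.Helper25
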