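import Mathlib
import Cfsg.Prelude.Def_RootSubgroups
import Cfsg.Agent.Helper25.RootInvA

set_option autoImplicit false

/-!
# Root involutions: product partners lie in the same component (Proposition A)
-/

namespace Cfsg.Agent.Helper25.RootInv

variable {G : Type*} [Group G] {D : Set G}

/-- From `(s d)^4 = 1` for involutions `s`, `d`: `d` commutes with `s d s⁻¹`. -/
theorem commute_conj_of_pow_four {s d : G} (hs : s * s = 1) (hd : d * d = 1)
    (h : (s * d) ^ 4 = 1) : Commute d (s * d * s⁻¹) := by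
  have hsi : s⁻¹ = s := inv_eq_of_mul_eq_one_left hs
  have hdi : d⁻¹ = d := inv_eq_of_mul_eq_one_left hd
  have h1 : (s * d * (s * d)) * (s * d * (s * d)) = 1 := by
    rw [← h]; simp [pow_succ, mul_assoc]
  have h2 : s * d * (s * d) = (s * d * (s * d))⁻¹ := eq_inv_of_mul_eq_one_left h1
  have h3 : (s * d * (s * d))⁻¹ = d * s * (d * s) := by
    simp only [mul_inv_rev, hsi, hdi, mul_assoc]
  show d * (s * d * s⁻¹) = s * d * s⁻¹ * d
  rw [hsi]
  calc d * (s * d * s) = d * s * (d * s) := by simp [mul_assoc]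
    _ = s * d * (s * d) := by rw [← h3, ← h2]
    _ = s * d * s * d := by simp [mul_assoc]

/-- four pairwise commuting involutions: the product squares to one. -/
theorem sq_prod_four {a b c d : G} (ha : a * a = 1) (hb : b * b = 1) (hc : c * c = 1)
    (hd : d * d = 1) (hab : Commute a b) (hac : Commute a c) (had : Commute a d)
    (hbc : Commute b c) (hbd : Commute b d) (hcd : Commute c d) :
    (a * b * c * d) * (a * b * c * d) = 1 := by
  have h1 : Commute (a * b * c) d := (had.mul_left hbd).mul_left hcd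
  have h2 : Commute (a * b) c := hac.mul_left hbc
  calc (a * b * c * d) * (a * b * c * d) = (a * b * c) * (d * (a * b * c)) * d := by
        simp [mul_assoc]
    _ = (a * b * c) * ((a * b * c) * d) * d := by rw [h1.eq]
    _ = (a * b * c) * (a * b * c) * (d * d) := by simp [mul_assoc]
    _ = (a * b) * (c * (a * b)) * c := by rw [hd, mul_one]; simp [mul_assoc]
    _ = (a * b) * ((a * b) * c) * c := by rw [h2.eq]
    _ = (a * b) * (a * b) * (c * c) := by simp [mul_assoc]
    _ = a * (b * a) * b := by rw [hc, mul_one]; simp [mul_assoc]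
    _ = a * (a * b) * b := by rw [hab.eq]
    _ = (a * a) * (b * b) := by simp [mul_assoc]
    _ = 1 := by rw [ha, hb, one_mul]

section
variable (hD : Cfsg.IsRootInvolutionSet D)
include hD

/-- Proposition A: `d, e ∈ D` commuting with `d e ∈ D`, and `z` odd to `e`. Then `e` is connected to
`d`, or `z` is odd to `d e`. -/
theorem rel_or_adj {d e z : G} (hd : d ∈ D) (he : e ∈ D) (hde : d * e = e * d) (hg : d * e ∈ D)
    (hz : Cfsg.OddAdj D e z) :
    Relation.ReflTransGen (Cfsg.OddAdj D) e d ∨ Cfsg.OddAdj D z (d * e) := by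
  by_contra hcon
  push Not at hcon
  obtain ⟨hrel, hadj⟩ := hcon
  obtain ⟨-, hzD, hez, hodd⟩ := hz
  have hdd := sq_one hD hd
  have hee := sq_one hD he
  have hzz := sq_one hD hzD
  have hei := inv_eq hD he
  have hzi := inv_eq hD hzD
  have hdi := inv_eq hD hd
  set u := z * e with hu
  have hu_odd : Odd (orderOf u) := by rw [hu, orderOf_mul_comm']; exact hodd
  have hu_ne : u ≠ 1 := by
    intro h
    apply hez
    have : z = e⁻¹ := eq_inv_of_mul_eq_one_left h
    rw [this, hei]
  -- e inverts u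
  have hinv : e * u * e⁻¹ = u⁻¹ := by
    rw [hu, mul_inv_rev, hei, hzi]
    simp [mul_assoc, hee]
  have hinvz : ∀ j : ℤ, e * u ^ j * e⁻¹ = (u ^ j)⁻¹ := by
    intro j
    rw [← conj_zpow, hinv, inv_zpow]
  -- Claim C
  have claimC : ∀ j : ℤ, Commute d (u ^ j * u ^ j * d * (u ^ j * u ^ j)⁻¹) := by
    intro j
    set σ := u ^ j with hσ
    by_cases h1 : σ * σ = 1
    · rw [h1]; simp
    · set s := σ * e * σ⁻¹ with hs
      have hsD : s ∈ D := hD.conj_mem e he σ
      have hs_eq : s = σ * σ * e := by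
        have h2 : e * σ⁻¹ * e⁻¹ = σ := by
          have := hinvz (-j)
          rw [zpow_neg] at this
          rw [this, inv_inv]
        calc s = σ * (e * σ⁻¹ * e⁻¹) * e := by rw [hs]; simp [mul_assoc]
          _ = σ * σ * e := by rw [h2]
      have hconj : s * d * s⁻¹ = σ * σ * d * (σ * σ)⁻¹ := by
        rw [hs_eq]
        have : e * d * e⁻¹ = d := by rw [← hde]; simp
        calc σ * σ * e * d * (σ * σ * e)⁻¹ = σ * σ * (e * d * e⁻¹) * (σ * σ)⁻¹ := by
              simp [mul_assoc]
          _ = σ * σ * d * (σ * σ)⁻¹ := by rw [this]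
      have hs_ne : s ≠ e := by
        intro h
        rw [hs_eq] at h
        exact h1 (by simpa using h)
      have hes : e * s = (σ * σ)⁻¹ := by
        rw [hs_eq]
        have h3 := hinvz j
        have hee' : ∀ x : G, e * (e * x) = x := fun x => by rw [← mul_assoc, hee, one_mul]
        calc e * (σ * σ * e) = (e * σ * e⁻¹) * (e * σ * e⁻¹) := by
              rw [hei]; simp [mul_assoc, hee']
          _ = σ⁻¹ * σ⁻¹ := by rw [h3]
          _ = (σ * σ)⁻¹ := by simp
      have hodd_es : Odd (orderOf (e * s)) := by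
        rw [hes, orderOf_inv]
        have hmem : σ * σ ∈ Subgroup.zpowers u := by
          refine ⟨j + j, ?_⟩
          simp only
          rw [zpow_add]
        exact Odd.of_dvd_nat hu_odd (orderOf_dvd_of_mem_zpowers hmem)
      have hadj_es : Cfsg.OddAdj D e s := ⟨he, hsD, hs_ne.symm, hodd_es⟩
      have hnc : s * d ≠ d * s :=
        not_commute_of_odd hD hsD hd he hde hg hodd_es hs_ne
      have h4 : (s * d) ^ 4 = 1 := by
        rcases hD.pair s hsD d hd with h | h | ⟨h, -⟩
        · exact absurd h hnc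
        · exfalso
          apply hrel
          have hne : s ≠ d := by
            intro h'
            apply hnc
            rw [h']
          exact Relation.ReflTransGen.tail (Relation.ReflTransGen.single hadj_es) ⟨hsD, hd, hne, h⟩
        · rw [← h]; exact pow_orderOf_eq_one _
      rw [← hconj]
      exact commute_conj_of_pow_four (sq_one hD hsD) hdd h4
  -- every power is a square
  obtain ⟨m, hm⟩ := hu_odd
  have hpow : ∀ i : ℤ, u ^ i = u ^ (i * (m + 1)) * u ^ (i * (m + 1)) := by
    intro i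
    rw [← zpow_add]
    have h1 : i * (↑m + 1) + i * (↑m + 1) = i + (orderOf u : ℤ) * i := by
      rw [hm]; push_cast; ring
    rw [h1, zpow_add, zpow_mul, zpow_natCast, pow_orderOf_eq_one, one_zpow, mul_one]
  have claimC' : ∀ i : ℤ, Commute d (u ^ i * d * (u ^ i)⁻¹) := by
    intro i
    have := claimC (i * (m + 1))
    rw [← hpow i] at this
    exact this
  set f : ℤ → G := fun i => u ^ i * d * (u ^ i)⁻¹ with hf
  have hf_sq : ∀ i, f i * f i = 1 := by
    intro i
    simp only [hf]
    calc u ^ i * d * (u ^ i)⁻¹ * (u ^ i * d * (u ^ i)⁻¹) = u ^ i * (d * d) * (u ^ i)⁻¹ := by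
          simp [mul_assoc]
      _ = 1 := by rw [hdd]; simp
  have hf_comm : ∀ i j, Commute (f i) (f j) := by
    intro i j
    have h1 := claimC' (j - i)
    have h2 : f i = u ^ i * d * (u ^ i)⁻¹ := rfl
    have h3 : f j = u ^ i * (u ^ (j - i) * d * (u ^ (j - i))⁻¹) * (u ^ i)⁻¹ := by
      simp only [hf]
      rw [zpow_sub]
      group
    rw [h2, h3]
    exact (Commute.conj_iff (u ^ i)).mpr h1
  have hexp : (u * d) ^ 4 = f 1 * f 2 * f 3 * f 4 * u ^ 4 := by
    rw [show (u * d) ^ 4 = u * d * (u * d) * (u * d) * (u * d) by simp [pow_succ, mul_assoc]]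
    simp only [hf]
    rw [show u ^ 4 = u * u * u * u by simp [pow_succ, mul_assoc]]
    rw [show u ^ (1 : ℤ) = u by simp, show u ^ (2 : ℤ) = u * u by
      rw [show (2 : ℤ) = 1 + 1 by norm_num, zpow_add]; simp,
      show u ^ (3 : ℤ) = u * u * u by
      rw [show (3 : ℤ) = 1 + 1 + 1 by norm_num, zpow_add, zpow_add]; simp,
      show u ^ (4 : ℤ) = u * u * u * u by
      rw [show (4 : ℤ) = 1 + 1 + 1 + 1 by norm_num, zpow_add, zpow_add, zpow_add]; simp]
    group
  have hne4 : (u * d) ^ 4 ≠ 1 := by
    intro h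
    rw [hexp] at h
    have h5 : u ^ 4 = (f 1 * f 2 * f 3 * f 4)⁻¹ := eq_inv_of_mul_eq_one_right h
    have h6 := sq_prod_four (hf_sq 1) (hf_sq 2) (hf_sq 3) (hf_sq 4) (hf_comm 1 2) (hf_comm 1 3)
      (hf_comm 1 4) (hf_comm 2 3) (hf_comm 2 4) (hf_comm 3 4)
    have h7 : u ^ 4 * u ^ 4 = 1 := by
      rw [h5, ← mul_inv_rev, h6, inv_one]
    have h8 : u ^ (2 ^ 3) = 1 := by
      have : u ^ (2 ^ 3) = u ^ 4 * u ^ 4 := by rw [← pow_add]; norm_num
      rw [this, h7]
    exact hu_ne (eq_one_of_odd_of_pow ⟨m, hm⟩ h8)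
  have hud : u * d = z * (d * e) := by rw [hu, hde]; simp [mul_assoc]
  rcases hD.pair z hzD (d * e) hg with h | h | ⟨h, -⟩
  · apply hne4
    rw [hud]
    have hgg := sq_one hD hg
    have h2 : z * (d * e) * (z * (d * e)) = 1 := by
      calc z * (d * e) * (z * (d * e)) = z * (d * e * z) * (d * e) := by simp [mul_assoc]
        _ = z * (z * (d * e)) * (d * e) := by rw [h]
        _ = (z * z) * ((d * e) * (d * e)) := by simp [mul_assoc]
        _ = 1 := by rw [hzz, hgg, one_mul]
    have : (z * (d * e)) ^ 4 = (z * (d * e) * (z * (d * e))) * (z * (d * e) * (z * (d * e))) := by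
      simp [pow_succ, mul_assoc]
    rw [this, h2, one_mul]
  · apply hadj
    refine ⟨hzD, hg, ?_, h⟩
    intro h'
    apply hne4
    rw [hud, ← h', hzz, one_pow]
  · apply hne4
    rw [hud, ← h]
    exact pow_orderOf_eq_one _

end

end Cfsg.Agent.Helper25.RootInv
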