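import Mathlib
import Cfsg.Prelude.Def_RootSubgroups
import Cfsg.Agent.Helper25.RootInvB
import Cfsg.Agent.Helper16.BaerSuzuki
import Cfsg.Agent.Helper4.ThreeTransO2

set_option autoImplicit false

/-!
# Root involutions: the isolated vertices of the odd-order-product graph
-/

namespace Cfsg.Agent.Helper25.RootInv

variable {G : Type*} [Group G] {D : Set G}

/-- The set of isolated vertices. -/
abbrev Wset (D : Set G) : Set G := {w | Cfsg.IsIsolatedElem (Cfsg.OddAdj D) D w}

abbrev Rel (D : Set G) (a b : G) : Prop := Relation.ReflTransGen (Cfsg.OddAdj D) a b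

theorem rel_symm {a b : G} (h : Rel D a b) : Rel D b a := by
  induction h with
  | refl => exact Relation.ReflTransGen.refl
  | tail _ hbc ih => exact Relation.ReflTransGen.head (adj_symm hbc) ih

theorem mem_W_iff {w : G} (hw : w ∈ D) : w ∈ Wset D ↔ ∀ b, ¬ Cfsg.OddAdj D w b := by
  constructor
  · intro h b
    exact (h.2 b).1
  · intro h
    exact ⟨hw, fun b => ⟨h b, fun h' => h b (adj_symm h')⟩⟩

theorem exists_adj_of_not_mem_W {w : G} (hw : w ∈ D) (h : w ∉ Wset D) :
    ∃ b, Cfsg.OddAdj D w b := by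
  by_contra hcon
  push Not at hcon
  exact h ((mem_W_iff hw).mpr hcon)

theorem comp_eq_of_rel {a b : G} (h : Rel D a b) :
    Cfsg.elemComponentOf (Cfsg.OddAdj D) D a = Cfsg.elemComponentOf (Cfsg.OddAdj D) D b := by
  ext x
  constructor
  · rintro ⟨hx, hr⟩
    exact ⟨hx, (rel_symm h).trans hr⟩
  · rintro ⟨hx, hr⟩
    exact ⟨hx, h.trans hr⟩

theorem exists_adj_of_nontrivial {a : G}
    (h : ∃ a' ∈ Cfsg.elemComponentOf (Cfsg.OddAdj D) D a, a' ≠ a) : ∃ x, Cfsg.OddAdj D a x := by
  obtain ⟨a', ⟨-, hr⟩, hne⟩ := h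
  rcases Relation.ReflTransGen.cases_head hr with h | ⟨c, hc, -⟩
  · exact absurd h.symm hne
  · exact ⟨c, hc⟩

section
variable (hD : Cfsg.IsRootInvolutionSet D)
include hD

/-- (6): product partners of a non-isolated vertex lie in its component or are isolated. -/
theorem partner_rel {a e : G} (ha : a ∈ D) (hx : ∃ x, Cfsg.OddAdj D a x)
    (he : e ∈ Cfsg.productPartners D a) (hW : e ∉ Wset D) : Rel D a e := by
  obtain ⟨⟨heD, hea, hne⟩, hg⟩ := he
  obtain ⟨z, hz⟩ := exists_adj_of_not_mem_W heD hW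
  obtain ⟨x, hx⟩ := hx
  have hg' : a * e ∈ D := by rw [← hea]; exact hg
  -- Prop A with d := a, e := e
  rcases rel_or_adj hD ha heD hea.symm hg' hz with h | h
  · exact rel_symm h
  · -- e ~ z ~ a*e
    have h1 : Rel D e (a * e) :=
      Relation.ReflTransGen.tail (Relation.ReflTransGen.single hz) h
    -- Prop A with d := e, e := a
    rcases rel_or_adj hD heD ha hea hg hx with h' | h'
    · exact h'
    · have h2 : Rel D a (e * a) :=
        Relation.ReflTransGen.tail (Relation.ReflTransGen.single hx) h'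
      rw [hea] at h2
      exact h2.trans (rel_symm h1)

end

section
variable [Finite G] (hD : Cfsg.IsRootInvolutionSet D)
include hD

theorem W_le_core : Subgroup.closure (Wset D) ≤ (⨅ P : Sylow 2 G, (P : Subgroup G)) := by
  rw [Subgroup.closure_le]
  intro w hw
  have hwD : w ∈ D := hw.1
  apply Cfsg.Agent.Helper16.baer_suzuki_elt 2 w
  intro g
  have hw' : g * w * g⁻¹ ∈ D := hD.conj_mem w hwD g
  apply Cfsg.Agent.Helper4.ThreeTransO2.isPGroup_two_of_dihedral w (g * w * g⁻¹)
    (sq_one hD hwD) (sq_one hD hw') 2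
  have hsq : ∀ x ∈ D, x * x = 1 := fun x hx => sq_one hD hx
  rcases hD.pair w hwD _ hw' with h | h | ⟨h, -⟩
  · have h2 : w * (g * w * g⁻¹) * (w * (g * w * g⁻¹)) = 1 := by
      calc w * (g * w * g⁻¹) * (w * (g * w * g⁻¹))
          = w * ((g * w * g⁻¹) * w) * (g * w * g⁻¹) := by simp [mul_assoc]
        _ = w * (w * (g * w * g⁻¹)) * (g * w * g⁻¹) := by rw [h]
        _ = (w * w) * ((g * w * g⁻¹) * (g * w * g⁻¹)) := by simp [mul_assoc]
        _ = 1 := by rw [hsq w hwD, hsq _ hw', one_mul]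
    have : (w * (g * w * g⁻¹)) ^ (2 ^ 2) =
        (w * (g * w * g⁻¹) * (w * (g * w * g⁻¹))) * (w * (g * w * g⁻¹) * (w * (g * w * g⁻¹))) := by
      simp [pow_succ, mul_assoc]
    rw [this, h2, one_mul]
  · by_cases hne : w = g * w * g⁻¹
    · rw [← hne, hsq w hwD, one_pow]
    · exact absurd ⟨hwD, hw', hne, h⟩ ((mem_W_iff hwD).mp hw _)
  · have : (2 : ℕ) ^ 2 = 4 := by norm_num
    rw [this, ← h]
    exact pow_orderOf_eq_one _

/-- A member of `D` lying in a normal 2-subgroup is isolated. -/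
theorem mem_W_of_mem_core {d : G} (hd : d ∈ D)
    (hN : d ∈ (⨅ P : Sylow 2 G, (P : Subgroup G))) : d ∈ Wset D := by
  rw [mem_W_iff hd]
  intro b hb
  obtain ⟨-, hbD, hne, hodd⟩ := hb
  have := Cfsg.Agent.Helper16.iInf_sylow_normal (G := G) 2
  have h1 : b * d * b⁻¹ ∈ (⨅ P : Sylow 2 G, (P : Subgroup G)) :=
    Subgroup.Normal.conj_mem inferInstance d hN b
  have h2 : d * b * (d * b) ∈ (⨅ P : Sylow 2 G, (P : Subgroup G)) := by
    have : d * b * (d * b) = d * (b * d * b⁻¹) := by
      rw [inv_eq hD hbD]; simp [mul_assoc]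
    rw [this]
    exact Subgroup.mul_mem _ hN h1
  obtain ⟨k, hk⟩ := (Cfsg.Agent.Helper16.iInf_sylow_isPGroup (G := G) 2) ⟨_, h2⟩
  have hk' : (d * b * (d * b)) ^ (2 ^ k) = 1 := by
    have := congrArg Subtype.val hk
    simpa using this
  have h3 : (d * b) ^ (2 ^ (k + 1)) = 1 := by
    rw [pow_succ, mul_comm, pow_mul, pow_two]
    exact hk'
  have h4 := eq_one_of_odd_of_pow hodd h3
  apply hne
  have : d = b⁻¹ := eq_inv_of_mul_eq_one_left h4
  rw [this, inv_eq hD hbD]

theorem main_W :
    (∀ w ∈ Wset D, ∀ g : G, g * w * g⁻¹ ∈ Wset D) ∧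
    (Subgroup.closure (Wset D)).Normal ∧
    IsPGroup 2 ↥(Subgroup.closure (Wset D)) ∧
    (Subgroup.closure (Wset D) : Set G) ∩ D = Wset D ∧
    (∀ a ∈ D, ∀ b ∈ D, (∃ a' ∈ Cfsg.elemComponentOf (Cfsg.OddAdj D) D a, a' ≠ a) →
      (∃ b' ∈ Cfsg.elemComponentOf (Cfsg.OddAdj D) D b, b' ≠ b) →
      Cfsg.elemComponentOf (Cfsg.OddAdj D) D a ≠ Cfsg.elemComponentOf (Cfsg.OddAdj D) D b →
        a * b * a⁻¹ * b⁻¹ ∈ Subgroup.closure (Wset D)) ∧
    (∀ a ∈ D, (∃ a' ∈ Cfsg.elemComponentOf (Cfsg.OddAdj D) D a, a' ≠ a) →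
      Cfsg.productPartners D a ⊆ Cfsg.elemComponentOf (Cfsg.OddAdj D) D a ∪ Wset D) := by
  have hconj : ∀ w ∈ Wset D, ∀ g : G, g * w * g⁻¹ ∈ Wset D := by
    intro w hw g
    have hwD : w ∈ D := hw.1
    rw [mem_W_iff (hD.conj_mem w hwD g)]
    intro b hb
    have h1 := adj_conj hb hD.conj_mem g⁻¹
    have h2 : g⁻¹ * (g * w * g⁻¹) * g⁻¹⁻¹ = w := by group
    rw [h2] at h1
    exact (mem_W_iff hwD).mp hw _ h1
  have h6 : ∀ a ∈ D, (∃ a' ∈ Cfsg.elemComponentOf (Cfsg.OddAdj D) D a, a' ≠ a) →
      Cfsg.productPartners D a ⊆ Cfsg.elemComponentOf (Cfsg.OddAdj D) D a ∪ Wset D := by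
    intro a ha hnt e he
    by_cases hW : e ∈ Wset D
    · exact Or.inr hW
    · exact Or.inl ⟨he.1.1, partner_rel hD ha (exists_adj_of_nontrivial hnt) he hW⟩
  refine ⟨hconj, ?_, ?_, ?_, ?_, h6⟩
  · constructor
    intro n hn g
    induction hn using Subgroup.closure_induction with
    | mem x hx => exact Subgroup.subset_closure (hconj x hx g)
    | one => simp
    | mul x y _ _ hx hy =>
      have : g * (x * y) * g⁻¹ = (g * x * g⁻¹) * (g * y * g⁻¹) := by group
      rw [this]; exact Subgroup.mul_mem _ hx hy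
    | inv x _ hx =>
      have : g * x⁻¹ * g⁻¹ = (g * x * g⁻¹)⁻¹ := by group
      rw [this]; exact Subgroup.inv_mem _ hx
  · exact (Cfsg.Agent.Helper16.iInf_sylow_isPGroup (G := G) 2).to_le (W_le_core hD)
  · ext x
    constructor
    · rintro ⟨hx1, hx2⟩
      exact mem_W_of_mem_core hD hx2 (W_le_core hD hx1)
    · intro hx
      exact ⟨Subgroup.subset_closure hx, hx.1⟩
  · intro a ha b hb hna hnb hne
    have hai := inv_eq hD ha
    have hbi := inv_eq hD hb
    rcases hD.pair a ha b hb with h | h | ⟨h, hc⟩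
    · have : a * b * a⁻¹ * b⁻¹ = 1 := by rw [h]; group
      rw [this]; exact Subgroup.one_mem _
    · exfalso
      apply hne
      by_cases hab : a = b
      · rw [hab]
      · exact comp_eq_of_rel (Relation.ReflTransGen.single ⟨ha, hb, hab, h⟩)
    · have hcomm_eq : a * b * a⁻¹ * b⁻¹ = (a * b) ^ 2 := by
        rw [hai, hbi, pow_two]; simp [mul_assoc]
      rw [hcomm_eq]
      set c := (a * b) ^ 2 with hcdef
      apply Subgroup.subset_closure
      by_contra hcW
      have h4 : (a * b) ^ 4 = 1 := by rw [← h]; exact pow_orderOf_eq_one _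
      have hcc : c * c = 1 := by
        rw [hcdef, ← pow_add]; exact h4
      have hc_eq : c = a * b * (a * b) := by rw [hcdef, pow_two]
      have hc_eq' : c = b * a * (b * a) := by
        have h5 : c = c⁻¹ := (inv_eq_of_mul_eq_one_left hcc).symm
        rw [h5, hc_eq]
        simp only [mul_inv_rev, hai, hbi, mul_assoc]
      have haa := sq_one hD ha
      have hbb := sq_one hD hb
      -- c ∈ X_a
      have hca : c * a = a * c := by
        calc c * a = b * a * (b * a) * a := by rw [hc_eq']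
          _ = b * a * b * (a * a) := by simp [mul_assoc]
          _ = (a * a) * (b * a * b) := by rw [haa]; simp
          _ = a * (a * b * (a * b)) := by simp [mul_assoc]
          _ = a * c := by rw [← hc_eq]
      have hcb : c * b = b * c := by
        calc c * b = a * b * (a * b) * b := by rw [hc_eq]
          _ = a * b * a * (b * b) := by simp [mul_assoc]
          _ = (b * b) * (a * b * a) := by rw [hbb]; simp
          _ = b * (b * a * (b * a)) := by simp [mul_assoc]
          _ = b * c := by rw [← hc_eq']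
      have hca_mem : c * a ∈ D := by
        have : c * a = b * a * b⁻¹ := by
          rw [hc_eq', hbi]
          calc b * a * (b * a) * a = b * a * b * (a * a) := by simp [mul_assoc]
            _ = b * a * b := by rw [haa, mul_one]
        rw [this]; exact hD.conj_mem a ha b
      have hcb_mem : c * b ∈ D := by
        have : c * b = a * b * a⁻¹ := by
          rw [hc_eq, hai]
          calc a * b * (a * b) * b = a * b * a * (b * b) := by simp [mul_assoc]
            _ = a * b * a := by rw [hbb, mul_one]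
        rw [this]; exact hD.conj_mem b hb a
      have hc_ne_a : c ≠ a := by
        intro h'
        have : c * a = 1 := by rw [h', haa]
        rw [this] at hca_mem
        exact ne_one hD hca_mem rfl
      have hc_ne_b : c ≠ b := by
        intro h'
        have : c * b = 1 := by rw [h', hbb]
        rw [this] at hcb_mem
        exact ne_one hD hcb_mem rfl
      have h1 : Rel D a c := partner_rel hD ha (exists_adj_of_nontrivial hna)
        ⟨⟨hc, hca, hc_ne_a⟩, hca_mem⟩ hcW
      have h2 : Rel D b c := partner_rel hD hb (exists_adj_of_nontrivial hnb)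
        ⟨⟨hc, hcb, hc_ne_b⟩, hcb_mem⟩ hcW
      exact hne (comp_eq_of_rel (h1.trans (rel_symm h2)))

end

end Cfsg.Agent.Helper25.RootInv
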