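import Mathlib
import Cfsg.Prelude.Def_RootSubgroups
import Cfsg.Prelude.Def_QuasithinSetup
import Cfsg.Agent.Helper25.RootInvC
import Cfsg.Agent.Helper14.PCore

set_option autoImplicit false

/-!
# Root involutions with connected odd-product graph: proper normal subgroups lie in `O_{2,Z}(G)`
-/

namespace Cfsg.Agent.Helper25.RootInv

open Cfsg

variable {G : Type*} [Group G] {D : Set G}

/-- A set of pairwise commuting involutions generates a 2-group. -/
theorem isPGroup_two_closure {S : Set G} (hc : ∀ a ∈ S, ∀ b ∈ S, a * b = b * a)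
    (hs : ∀ a ∈ S, a * a = 1) : IsPGroup 2 (Subgroup.closure S) := by
  have hcomm := Subgroup.isMulCommutative_closure hc
  have hsq : ∀ x ∈ Subgroup.closure S, x * x = 1 := by
    intro x hx
    induction hx using Subgroup.closure_induction with
    | mem x hx => exact hs x hx
    | one => simp
    | mul x y hx hy ihx ihy =>
      have h1 : (⟨x, hx⟩ : Subgroup.closure S) * ⟨y, hy⟩ = ⟨y, hy⟩ * ⟨x, hx⟩ :=
        hcomm.is_comm.comm _ _
      have h2 : x * y = y * x := congrArg Subtype.val h1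
      calc x * y * (x * y) = x * (y * x) * y := by simp [mul_assoc]
        _ = x * (x * y) * y := by rw [h2]
        _ = (x * x) * (y * y) := by simp [mul_assoc]
        _ = 1 := by rw [ihx, ihy, one_mul]
    | inv x _ ih =>
      have : x⁻¹ = x := inv_eq_of_mul_eq_one_left ih
      rw [this, ih]
  intro g
  refine ⟨1, ?_⟩
  apply Subtype.ext
  have := hsq g.1 g.2
  simpa [pow_two] using this

theorem pCoreOf_normal (N : Subgroup G) [hN : N.Normal] : (pCoreOf 2 N).Normal := by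
  constructor
  intro x hx g
  have h1 : N.map (MulAut.conj g).toMonoidHom = N := by
    ext y
    constructor
    · rintro ⟨x, hx, rfl⟩
      exact hN.conj_mem x hx g
    · intro hy
      refine ⟨g⁻¹ * y * g, ?_, ?_⟩
      · have := hN.conj_mem y hy g⁻¹
        simpa using this
      · simp [mul_assoc]
  have h2 := Cfsg.Agent.Helper14.pCoreOf_map_conj 2 N g
  rw [h1] at h2
  rw [h2]
  exact ⟨x, hx, rfl⟩

theorem pCoreOf_le_pCore (N : Subgroup G) [hN : N.Normal] : pCoreOf 2 N ≤ pCore 2 G :=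
  Cfsg.Agent.Helper14.le_pCore 2 (pCoreOf_normal N) (Cfsg.Agent.Helper14.pCoreOf_isPGroup 2 N)

section
variable (hD : Cfsg.IsRootInvolutionSet D)
include hD

/-- Members joined by an edge are conjugate. -/
theorem exists_conj_of_adj {d x : G} (h : Cfsg.OddAdj D d x) : ∃ σ : G, x = σ * d * σ⁻¹ := by
  obtain ⟨hd, hx, hne, hodd⟩ := h
  have hdd := sq_one hD hd
  have hxx := sq_one hD hx
  have hdi := inv_eq hD hd
  have hxi := inv_eq hD hx
  set u := x * d with hu
  have hu_odd : Odd (orderOf u) := by rw [hu, orderOf_mul_comm']; exact hodd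
  obtain ⟨m, hm⟩ := hu_odd
  have hinv : d * u * d⁻¹ = u⁻¹ := by
    rw [hu, mul_inv_rev, hdi, hxi]; simp [mul_assoc, hdd]
  set σ := u ^ (m + 1) with hσ
  have hσinv : d * σ * d⁻¹ = σ⁻¹ := by
    rw [hσ, ← conj_pow, hinv, inv_pow]
  have hσσ : σ * σ = u := by
    rw [hσ, ← pow_add]
    have : m + 1 + (m + 1) = orderOf u + 1 := by omega
    rw [this, pow_succ, pow_orderOf_eq_one, one_mul]
  refine ⟨σ, ?_⟩
  have h1 : d * σ⁻¹ * d⁻¹ = σ := by
    have : d * σ⁻¹ * d⁻¹ = (d * σ * d⁻¹)⁻¹ := by group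
    rw [this, hσinv, inv_inv]
  calc x = u * d := by rw [hu]; simp [mul_assoc, hdd]
    _ = σ * σ * d := by rw [hσσ]
    _ = σ * (d * σ⁻¹ * d⁻¹) * d := by rw [h1]
    _ = σ * d * σ⁻¹ := by simp [mul_assoc]

theorem exists_conj_of_rel {d x : G} (h : Rel D d x) : ∃ σ : G, x = σ * d * σ⁻¹ := by
  induction h with
  | refl => exact ⟨1, by simp⟩
  | tail _ hbc ih =>
    obtain ⟨σ, rfl⟩ := ih
    obtain ⟨τ, hτ⟩ := exists_conj_of_adj hD hbc
    exact ⟨τ * σ, by rw [hτ]; group⟩

/-- Conjugation transports product partners. -/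
theorem partners_conj {d b : G} (hb : b ∈ Cfsg.productPartners D d) (σ : G) :
    σ * b * σ⁻¹ ∈ Cfsg.productPartners D (σ * d * σ⁻¹) := by
  obtain ⟨⟨hbD, hbd, hne⟩, hg⟩ := hb
  refine ⟨⟨hD.conj_mem b hbD σ, ?_, ?_⟩, ?_⟩
  · calc σ * b * σ⁻¹ * (σ * d * σ⁻¹) = σ * (b * d) * σ⁻¹ := by group
      _ = σ * (d * b) * σ⁻¹ := by rw [hbd]
      _ = σ * d * σ⁻¹ * (σ * b * σ⁻¹) := by group
  · intro h
    apply hne
    have := congrArg (fun x => σ⁻¹ * x * σ) h
    simpa [mul_assoc] using this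
  · have : σ * b * σ⁻¹ * (σ * d * σ⁻¹) = σ * (b * d) * σ⁻¹ := by group
    rw [this]
    exact hD.conj_mem _ hg σ

/-- Step 3: a normal subgroup missing `D`: `d` commutes with its conjugates under `N`. -/
theorem commute_conj_of_normal (N : Subgroup G) [hN : N.Normal] (hDN : ∀ d ∈ D, d ∉ N)
    {d b : G} (hd : d ∈ D) (hb : b ∈ Cfsg.productPartners D d) {n : G} (hn : n ∈ N) :
    Commute d (n * d * n⁻¹) := by
  obtain ⟨⟨hbD, hbd, hne⟩, hg⟩ := hb
  set z := n * d * n⁻¹ with hz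
  have hzD : z ∈ D := hD.conj_mem d hd n
  have hπn : (QuotientGroup.mk' N) n = 1 := (QuotientGroup.eq_one_iff n).mpr hn
  have hπz : (QuotientGroup.mk' N) z = (QuotientGroup.mk' N) d := by
    rw [hz, map_mul, map_mul, map_inv, hπn]; simp
  have hmem : ∀ y : G, (QuotientGroup.mk' N) y = 1 → y ∈ N := fun y hy =>
    (QuotientGroup.eq_one_iff y).mp hy
  have hdd := sq_one hD hd
  have hgg := sq_one hD hg
  rcases hD.pair d hd z hzD with h | h | ⟨h, hc⟩
  · exact h
  · by_cases hzd : z = d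
    · rw [hzd]
    · exfalso
      have hnc := not_commute_of_odd hD hzD hbD hd hbd hg h hzd
      rcases hD.pair b hbD z hzD with h' | h' | ⟨h', hc'⟩
      · exact hnc h'.symm
      · obtain ⟨k, hk⟩ := h'
        have h1 : (b * z) ^ (2 * k + 1) = 1 := by rw [← hk]; exact pow_orderOf_eq_one _
        have h2 := congrArg (QuotientGroup.mk' N) h1
        rw [map_pow, map_mul, hπz, ← map_mul, map_one, pow_succ, pow_mul, pow_two, ← map_mul,
          hgg, map_one, one_pow, one_mul] at h2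
        exact hDN _ hg (hmem _ h2)
      · apply hDN _ hc'
        apply hmem
        rw [map_pow, map_mul, hπz, ← map_mul, pow_two, ← map_mul, hgg, map_one]
  · exfalso
    apply hDN _ hc
    apply hmem
    rw [map_pow, map_mul, hπz, ← map_mul, hdd, map_one, one_pow]

/-- Step 4: the commutators `d (n d n⁻¹)` lie in `O₂(G)`. -/
theorem comm_mem_pCore (N : Subgroup G) [hN : N.Normal] (hDN : ∀ d ∈ D, d ∉ N)
    {d b : G} (hd : d ∈ D) (hb : b ∈ Cfsg.productPartners D d) {n : G} (hn : n ∈ N) :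
    d * (n * d * n⁻¹) ∈ pCore 2 G := by
  set S : Set G := {z | ∃ n ∈ N, z = n * d * n⁻¹} with hS
  have hdd := sq_one hD hd
  have hdi := inv_eq hD hd
  have hSc : ∀ a ∈ S, ∀ b ∈ S, a * b = b * a := by
    rintro _ ⟨n₁, hn₁, rfl⟩ _ ⟨n₂, hn₂, rfl⟩
    have h1 := commute_conj_of_normal hD N hDN hd hb (N.mul_mem (N.inv_mem hn₁) hn₂)
    have h2 : n₂ * d * n₂⁻¹ = n₁ * (n₁⁻¹ * n₂ * d * (n₁⁻¹ * n₂)⁻¹) * n₁⁻¹ := by group
    rw [h2]
    exact ((Commute.conj_iff n₁).mpr h1).eq
  have hSs : ∀ a ∈ S, a * a = 1 := by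
    rintro _ ⟨n₁, hn₁, rfl⟩
    calc n₁ * d * n₁⁻¹ * (n₁ * d * n₁⁻¹) = n₁ * (d * d) * n₁⁻¹ := by group
      _ = 1 := by rw [hdd]; simp
  have hE : IsPGroup 2 (Subgroup.closure S) := isPGroup_two_closure hSc hSs
  set K := Subgroup.closure S ⊓ N with hK
  have hKN : K ≤ N := inf_le_right
  have hKp : IsPGroup 2 K := hE.to_le inf_le_left
  have hconjE : ∀ m ∈ N, ∀ x ∈ Subgroup.closure S, m * x * m⁻¹ ∈ Subgroup.closure S := by
    intro m hm x hx
    induction hx using Subgroup.closure_induction with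
    | mem x hx =>
      obtain ⟨n₁, hn₁, rfl⟩ := hx
      apply Subgroup.subset_closure
      exact ⟨m * n₁, N.mul_mem hm hn₁, by group⟩
    | one => simp
    | mul x y _ _ ihx ihy =>
      have : m * (x * y) * m⁻¹ = (m * x * m⁻¹) * (m * y * m⁻¹) := by group
      rw [this]; exact Subgroup.mul_mem _ ihx ihy
    | inv x _ ih =>
      have : m * x⁻¹ * m⁻¹ = (m * x * m⁻¹)⁻¹ := by group
      rw [this]; exact Subgroup.inv_mem _ ih
  have hnorm : N ≤ Subgroup.normalizer (K : Set G) := by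
    intro m hm
    rw [Subgroup.mem_normalizer_iff]
    intro x
    constructor
    · rintro ⟨hx1, hx2⟩
      exact ⟨hconjE m hm x hx1, hN.conj_mem x hx2 m⟩
    · rintro ⟨hx1, hx2⟩
      have h1 := hconjE m⁻¹ (N.inv_mem hm) _ hx1
      have h2 := hN.conj_mem _ hx2 m⁻¹
      have e : m⁻¹ * (m * x * m⁻¹) * m⁻¹⁻¹ = x := by group
      rw [e] at h1 h2
      exact ⟨h1, h2⟩
  have hmemK : d * (n * d * n⁻¹) ∈ K := by
    refine ⟨?_, ?_⟩
    · apply Subgroup.mul_mem
      · exact Subgroup.subset_closure ⟨1, N.one_mem, by simp⟩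
      · exact Subgroup.subset_closure ⟨n, hn, rfl⟩
    · have h1 : d * n * d⁻¹ ∈ N := hN.conj_mem n hn d
      have : d * (n * d * n⁻¹) = (d * n * d⁻¹) * n⁻¹ := by rw [hdi]; simp [mul_assoc]
      rw [this]
      exact N.mul_mem h1 (N.inv_mem hn)
  have h3 : K ≤ pCoreOf 2 N := Cfsg.Agent.Helper14.le_pCoreOf 2 hKN hnorm hKp
  exact pCoreOf_le_pCore N (h3 hmemK)

end

end Cfsg.Agent.Helper25.RootInv
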