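import Mathlib
import Cfsg.Prelude.Def_RootSubgroups
import Cfsg.Prelude.Def_QuasithinSetup
import Cfsg.Agent.Helper25.RootInvD

set_option autoImplicit false

/-!
# Root involutions with connected odd-product graph: `S(G) = O_{2,Z}(G)` and `G / S(G)` simple
-/

namespace Cfsg.Agent.Helper25.RootInv

open Cfsg

variable {G : Type*} [Group G] {D : Set G}

section
variable (hD : Cfsg.IsRootInvolutionSet D)
include hD

/-- Step 5. -/
theorem le_twoZCore (N : Subgroup G)
    (hcomm : ∀ d ∈ D, ∀ n ∈ N, d * (n * d * n⁻¹) ∈ pCore 2 G) : N ≤ twoZCore G := by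
  intro n hn
  show (QuotientGroup.mk' (pCore 2 G)) n ∈ Subgroup.center (G ⧸ pCore 2 G)
  rw [Subgroup.mem_center_iff]
  intro q
  obtain ⟨g, rfl⟩ := QuotientGroup.mk'_surjective _ q
  have hg : g ∈ Subgroup.closure D := by rw [hD.generates]; trivial
  induction hg using Subgroup.closure_induction with
  | mem d hd =>
    have h1 := hcomm d hd n hn
    have h2 : (QuotientGroup.mk' (pCore 2 G)) (d * (n * d * n⁻¹)) = 1 :=
      (QuotientGroup.eq_one_iff _).mpr h1
    have hdi := inv_eq hD hd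
    have h3 : d * (n * d * n⁻¹) = (d * n) * (n * d)⁻¹ := by
      rw [mul_inv_rev, hdi]; simp [mul_assoc]
    rw [h3, map_mul, map_inv, mul_inv_eq_one] at h2
    rw [← map_mul, ← map_mul, h2]
  | one => simp
  | mul x y _ _ ihx ihy =>
    rw [map_mul, mul_assoc, ihy, ← mul_assoc, ihx, mul_assoc]
  | inv x _ ih =>
    rw [map_inv]
    have := congrArg (fun t => ((QuotientGroup.mk' (pCore 2 G)) x)⁻¹ * t *
      ((QuotientGroup.mk' (pCore 2 G)) x)⁻¹) ih
    simp only [mul_assoc, mul_inv_cancel, mul_one, inv_mul_cancel_left] at this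
    exact this.symm

/-- Step 6: `G / O_{2,Z}(G)` is not commutative. -/
theorem quot_not_comm {d x : G} (h : Cfsg.OddAdj D d x) :
    ¬ ∀ p q : G ⧸ twoZCore G, p * q = q * p := by
  intro hcomm
  obtain ⟨hd, hx, hne, hodd⟩ := h
  have hdd := sq_one hD hd
  have hxx := sq_one hD hx
  have hdi := inv_eq hD hd
  have hxi := inv_eq hD hx
  set r := d * x with hr
  -- r² ∈ twoZCore
  have h1 : r * r ∈ twoZCore G := by
    have h2 := hcomm ((QuotientGroup.mk' (twoZCore G)) d) ((QuotientGroup.mk' (twoZCore G)) x)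
    have h3 : (QuotientGroup.mk' (twoZCore G)) ((d * x) * (x * d)⁻¹) = 1 := by
      rw [map_mul, map_inv, mul_inv_eq_one, map_mul, map_mul]; exact h2
    have h4 := (QuotientGroup.eq_one_iff _).mp h3
    have h5 : (d * x) * (x * d)⁻¹ = r * r := by
      rw [mul_inv_rev, hdi, hxi]
    rw [h5] at h4
    exact h4
  -- so its image mod O₂ is central
  have h2 : (QuotientGroup.mk' (pCore 2 G)) (r * r) ∈ Subgroup.center (G ⧸ pCore 2 G) := h1
  rw [Subgroup.mem_center_iff] at h2
  have h3 := h2 ((QuotientGroup.mk' (pCore 2 G)) d)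
  have hinv : d * (r * r) * d⁻¹ = (r * r)⁻¹ := by
    have hdd' : ∀ y : G, d * (d * y) = y := fun y => by rw [← mul_assoc, hdd, one_mul]
    rw [hr, hdi]
    simp only [mul_inv_rev, hdi, hxi]
    simp [mul_assoc, hdd']
  have h4 : (QuotientGroup.mk' (pCore 2 G)) ((r * r) * (r * r)) = 1 := by
    have h5 : (QuotientGroup.mk' (pCore 2 G)) (d * (r * r) * d⁻¹) =
        (QuotientGroup.mk' (pCore 2 G)) (r * r) := by
      rw [map_mul, map_mul, h3, map_inv]; simp
    rw [hinv, map_inv] at h5
    rw [map_mul]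
    calc (QuotientGroup.mk' (pCore 2 G)) (r * r) * (QuotientGroup.mk' (pCore 2 G)) (r * r)
        = ((QuotientGroup.mk' (pCore 2 G)) (r * r))⁻¹ * (QuotientGroup.mk' (pCore 2 G)) (r * r) := by
          rw [h5]
      _ = 1 := by simp
  have h5 : (r * r) * (r * r) ∈ pCore 2 G := (QuotientGroup.eq_one_iff _).mp h4
  obtain ⟨k, hk⟩ := (Cfsg.Agent.Helper14.pCore_isPGroup (G := G) 2) ⟨_, h5⟩
  have hk' : ((r * r) * (r * r)) ^ (2 ^ k) = 1 := by
    have := congrArg Subtype.val hk
    simpa using this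
  have h6 : r ^ (2 ^ (k + 2)) = 1 := by
    have : r ^ (2 ^ (k + 2)) = ((r * r) * (r * r)) ^ (2 ^ k) := by
      rw [show (r * r) * (r * r) = r ^ 4 by simp [pow_succ, mul_assoc], ← pow_mul]
      congr 1
      rw [pow_add]; ring
    rw [this, hk']
  have h7 := eq_one_of_odd_of_pow hodd h6
  apply hne
  have : d = x⁻¹ := eq_inv_of_mul_eq_one_left h7
  rw [this, hxi]

end

section
variable [Finite G] (hD : Cfsg.IsRootInvolutionSet D)
  (hc : Cfsg.IsConnectedSet (Cfsg.OddAdj D) D) (hDD : (D ∩ Cfsg.commutingProducts D).Nonempty)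
include hD hc hDD

theorem exists_partner {d : G} (hd : d ∈ D) : ∃ b, b ∈ Cfsg.productPartners D d := by
  obtain ⟨g, hgD, a, ha, b, hb, hab, hne, rfl⟩ := hDD
  have hbi := inv_eq hD hb
  have hba : b ≠ a := by
    intro h
    apply hne
    rw [h, sq_one hD ha]
  have hb' : b ∈ Cfsg.productPartners D a := ⟨⟨hb, hab.symm, hba⟩, by rw [← hab]; exact hgD⟩
  obtain ⟨σ, rfl⟩ := exists_conj_of_rel hD (hc a ha d hd)
  exact ⟨_, partners_conj hD hb' σ⟩

theorem exists_adj : ∃ d x : G, Cfsg.OddAdj D d x := by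
  obtain ⟨g, hgD, a, ha, b, hb, hab, hne, rfl⟩ := hDD
  have hba : a ≠ b := by
    intro h
    apply hne
    rw [h, sq_one hD hb]
  have hr := hc a ha b hb
  rcases Relation.ReflTransGen.cases_head hr with h | ⟨c, hc', -⟩
  · exact absurd h hba
  · exact ⟨a, c, hc'⟩

/-- Proper normal subgroups lie in `O_{2,Z}(G)`. -/
theorem normal_le_twoZCore (N : Subgroup G) [hN : N.Normal] (hNtop : N ≠ ⊤) : N ≤ twoZCore G := by
  have hDN : ∀ d ∈ D, d ∉ N := by
    intro d hd hdN
    apply hNtop
    rw [eq_top_iff, ← hD.generates, Subgroup.closure_le]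
    intro x hx
    obtain ⟨σ, rfl⟩ := exists_conj_of_rel hD (hc d hd x hx)
    exact hN.conj_mem d hdN σ
  apply le_twoZCore hD
  intro d hd n hn
  obtain ⟨b, hb⟩ := exists_partner hD hc hDD hd
  exact comm_mem_pCore hD N hDN hd hb hn

theorem twoZCore_isSolvable : Group.IsSolvable (twoZCore G) := by
  have hle : pCore 2 G ≤ twoZCore G := by
    intro x hx
    show (QuotientGroup.mk' (pCore 2 G)) x ∈ Subgroup.center (G ⧸ pCore 2 G)
    have h0 : (QuotientGroup.mk' (pCore 2 G)) x = 1 := (QuotientGroup.eq_one_iff x).mpr hx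
    rw [h0]
    exact Subgroup.one_mem _
  have : Group.IsNilpotent (pCore 2 G) :=
    (Cfsg.Agent.Helper14.pCore_isPGroup (G := G) 2).isNilpotent
  let f : (pCore 2 G) →* (twoZCore G) := Subgroup.inclusion hle
  let g : (twoZCore G) →* Subgroup.center (G ⧸ pCore 2 G) :=
    ((QuotientGroup.mk' (pCore 2 G)).comp (twoZCore G).subtype).codRestrict _ (fun x => x.2)
  have : Group.IsSolvable (Subgroup.center (G ⧸ pCore 2 G)) :=
    Group.isSolvable_of_comm (fun a b => Subtype.ext (Subgroup.mem_center_iff.mp b.2 a.1))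
  apply Group.isSolvable_of_ker_le_range f g
  intro x hx
  have h1 : (QuotientGroup.mk' (pCore 2 G)) x.1 = 1 := by
    have := congrArg Subtype.val (MonoidHom.mem_ker.mp hx)
    exact this
  have h2 : x.1 ∈ pCore 2 G := (QuotientGroup.eq_one_iff _).mp h1
  exact ⟨⟨x.1, h2⟩, Subtype.ext rfl⟩

theorem main_radical :
    Cfsg.solvableRadical G = Cfsg.twoZCore G ∧ IsSimpleGroup (G ⧸ Cfsg.twoZCore G) := by
  obtain ⟨d, x, hdx⟩ := exists_adj hD hc hDD
  have hnc := quot_not_comm hD hdx
  have hnt : Nontrivial (G ⧸ twoZCore G) := by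
    by_contra h
    rw [not_nontrivial_iff_subsingleton] at h
    exact hnc (fun p q => Subsingleton.elim _ _)
  have hsimple : IsSimpleGroup (G ⧸ twoZCore G) := by
    refine { toNontrivial := hnt, eq_bot_or_eq_top_of_normal := ?_ }
    intro H hH
    set N := H.comap (QuotientGroup.mk' (twoZCore G)) with hNdef
    have : N.Normal := Subgroup.Normal.comap hH _
    by_cases hN : N = ⊤
    · right
      rw [eq_top_iff]
      intro q _
      obtain ⟨g, rfl⟩ := QuotientGroup.mk'_surjective _ q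
      have : g ∈ N := by rw [hN]; trivial
      exact this
    · left
      rw [eq_bot_iff]
      intro q hq
      obtain ⟨g, rfl⟩ := QuotientGroup.mk'_surjective _ q
      have h1 : g ∈ N := hq
      have h2 := normal_le_twoZCore hD hc hDD N hN h1
      rw [Subgroup.mem_bot]
      exact (QuotientGroup.eq_one_iff g).mpr h2
  refine ⟨?_, hsimple⟩
  apply le_antisymm
  · apply sSup_le
    rintro N ⟨hNn, hNs⟩
    have := hNn
    apply normal_le_twoZCore hD hc hDD N
    intro htop
    apply hnc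
    have : Group.IsSolvable G := by
      have hsurj : Function.Surjective (N.subtype) := by
        intro g
        exact ⟨⟨g, by rw [htop]; trivial⟩, rfl⟩
      exact Group.isSolvable_of_surjective hsurj
    have := hsimple
    exact IsSimpleGroup.comm_iff_isSolvable.mpr inferInstance
  · apply le_sSup
    exact ⟨inferInstance, twoZCore_isSolvable hD hc hDD⟩

end

end Cfsg.Agent.Helper25.RootInv
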