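import Mathlib
import Cfsg.Prelude.Def_RootSubgroups
import Cfsg.Agent.Helper25.RootGen

/-!
# Timmesfeld II (2.19): weak TI-subsets of a non-degenerate class are abelian
-/

set_option autoImplicit false
set_option linter.unusedSectionVars false
set_option linter.unusedVariables false

namespace Cfsg.Agent.Helper25

open Cfsg

variable {G : Type*} [Group G] {S : Set (Subgroup G)}

/-- A root element moving some member of a weak TI-subset into it stabilizes the subset. -/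
theorem ti_mem_conjStab {Δ : Set (Subgroup G)} (hΔ : IsWeakTISubset S Δ) {d : G}
    (hd : d ∈ rootElements S) {F : Subgroup G} (hF : F ∈ Δ) (hFd : conjBy F d ∈ Δ) :
    d ∈ conjStab Δ := by
  have himg : (fun A => conjBy A d) '' Δ = Δ := by
    rcases hΔ.2.2.2 d hd with h | h
    · exact h
    · exact absurd hFd (Set.disjoint_left.mp h ⟨F, hF, rfl⟩)
  rw [mem_conjStab]
  intro T
  constructor
  · intro hT
    rw [← himg]; exact ⟨T, hT, rfl⟩
  · intro hT
    rw [← himg] at hT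
    obtain ⟨T', hT', hTT'⟩ := hT
    have := conjBy_injective d hTT'
    rwa [← this]

/-- A member of `S` normalizing a member of a weak TI-subset stabilizes the subset. -/
theorem ti_le_conjStab {Δ : Set (Subgroup G)} (hΔ : IsWeakTISubset S Δ) {E F : Subgroup G}
    (hE : E ∈ S) (hF : F ∈ Δ) (hEF : E ≤ Subgroup.normalizer (F : Set G)) :
    E ≤ conjStab Δ := by
  intro e he
  by_cases he1 : e = 1
  · rw [he1]; exact Subgroup.one_mem _
  · have hroot : e ∈ rootElements S := ⟨he1, E, hE, he⟩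
    have : conjBy F e = F := conjBy_eq_self_iff.mpr (hEF he)
    exact ti_mem_conjStab hΔ hroot hF (by rw [this]; exact hF)

/-- A weak TI-subset contains no member with a rank one partner stabilizing it. -/
theorem ti_no_rankOne (hS : IsRootSubgroupClass S) (hnd : IsNondegenerateRootSet S)
    {Δ : Set (Subgroup G)} (hΔ : IsWeakTISubset S Δ) {F K : Subgroup G} (hF : F ∈ Δ)
    (hK : K ∈ S) (hFK : IsRankOnePair F K) (hKN : K ≤ conjStab Δ) : False := by
  have hFS : F ∈ S := hΔ.1 hF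
  have hgen := root_gen hS hnd hFS ⟨hK, hFK⟩
  have htop : (⊤ : Subgroup G) ≤ conjStab Δ := by
    rw [← hgen]
    refine sup_le (iSup₂_le ?_) hKN
    intro C hC
    apply ti_le_conjStab hΔ hC.1.1 hF
    have h1 : ∀ c ∈ C, ∀ f ∈ F, c * f = f * c := by
      have := root_commutator_eq_bot_iff.mp hC.1.2.2
      intro c hc f hf
      exact (this f hf c hc).symm
    intro c hc
    exact conjBy_eq_self_iff.mp (conjBy_eq_self_of_commute (fun f hf => h1 c hc f hf))
  apply hΔ.2.2.1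
  apply Set.Subset.antisymm hΔ.1
  intro F' hF'
  obtain ⟨g, rfl⟩ := hS.2.2 F hFS F' hF'
  exact (mem_conjStab.mp (htop (Subgroup.mem_top g)) F).mp hF

/-- Timmesfeld II (2.19). -/
theorem root_ti_abelian (hS : IsRootSubgroupClass S) (hnd : IsNondegenerateRootSet S)
    {Δ : Set (Subgroup G)} (hΔ : IsWeakTISubset S Δ) : IsAbelianFamily Δ := by
  have hF := root_class_exists_rankOne hS hnd
  have hS' := hS.1
  intro A hA B hB
  have hAS : A ∈ S := hΔ.1 hA
  have hBS : B ∈ S := hΔ.1 hB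
  rcases hS'.pair A hAS B hBS with h | h | h
  · exact root_commutator_eq_bot_iff.mp h
  · exfalso
    exact ti_no_rankOne hS hnd hΔ hA hBS h (ti_le_conjStab hΔ hBS hB Subgroup.le_normalizer)
  · exfalso
    -- the commutator case: find `D'` with `⁅D', ⁅A, B⁆⁆ = A`
    obtain ⟨E, hE, hAE⟩ := hF A hAS
    have hAΛ : A ∈ linePartners S ⁅A, B⁆ := cc_linePartner hS' hAS h hE hAE
    obtain ⟨K, hK, hCK⟩ := hF _ h.1
    obtain ⟨T, hT, hTC, hc⟩ := line_exists_cc hS' h.1 hK hCK hAΛ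
    obtain ⟨K₂, hK₂, hTK₂⟩ := hF T hT.1
    obtain ⟨hc2, heq, hsup⟩ := line_data hS' h.1 hK hCK hAΛ hT hTC hc hK₂ hTK₂
    have hmem := cc_members hS' hAS h hE hAE
    have hT' : T ∈ membersIn S (A ⊔ ⁅A, B⁆) := by rw [sup_comm]; exact hT
    rw [hmem] at hT'
    rcases hT' with ⟨b₀, hb₀, hTb₀⟩ | hTC'
    swap
    · exact hTC hTC'
    have hTb₀' : conjBy A b₀ = T := hTb₀
    have hb₀C : ∀ c ∈ ⁅A, B⁆, b₀⁻¹ * c = c * b₀⁻¹ := fun c hc' =>
      cc_central_right h (B.inv_mem hb₀) hc'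
    have hCconj : conjBy ⁅A, B⁆ b₀⁻¹ = ⁅A, B⁆ := conjBy_eq_self_of_commute hb₀C
    have hD'S : conjBy ⁅K, T⁆ b₀⁻¹ ∈ S := hS'.conj_mem _ hc.1 b₀⁻¹
    have hcomm : ⁅⁅A, B⁆, conjBy ⁅K, T⁆ b₀⁻¹⁆ = A := by
      have h1 : ⁅conjBy ⁅A, B⁆ b₀⁻¹, conjBy ⁅K, T⁆ b₀⁻¹⁆ = conjBy ⁅⁅A, B⁆, ⁅K, T⁆⁆ b₀⁻¹ :=
        (Subgroup.map_commutator ⁅A, B⁆ ⁅K, T⁆ _).symm
      have e : conjBy T b₀⁻¹ = A := by
        rw [← hTb₀', conjBy_conjBy]; simp [conjBy_one]
      rw [hCconj, heq, e] at h1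
      exact h1
    have hDC : ⁅conjBy ⁅K, T⁆ b₀⁻¹, ⁅A, B⁆⁆ = A := by
      rw [Subgroup.commutator_comm]; exact hcomm
    have hBD' : IsRankOnePair B (conjBy ⁅K, T⁆ b₀⁻¹) :=
      opp_rankOne hS' hAS hBS h.1 hD'S hDC
    have hDA := opp_comm_DA hS' hAS hBS h.1 hD'S hDC
    have hD'N : conjBy ⁅K, T⁆ b₀⁻¹ ≤ conjStab Δ := by
      apply ti_le_conjStab hΔ hD'S hA
      intro d hd
      exact conjBy_eq_self_iff.mp (conjBy_eq_self_of_commute (fun a ha => hDA d hd a ha))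
    exact ti_no_rankOne hS hnd hΔ hB hD'S hBD' hD'N

end Cfsg.Agent.Helper25
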