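import Mathlib
import Cfsg.Agent.Helper27.S0429Defs
import Cfsg.Agent.Helper25.S0429K33_4
import Cfsg.Prelude.Def_Sporadic_a

/-! Board `s0429pieces` (S0429), row K33_3: three pairwise non-adjacent vertices do not have exactly 3 common
neighbours. -/

set_option autoImplicit false

namespace Cfsg.Agent.S0429P

open Finset

variable {V : Type*} [Fintype V] [DecidableEq V] {G : SimpleGraph V} [DecidableRel G.Adj]

/-- size of the trace of a set on a 3-set. -/
theorem K33_aux_card_inter3 (N : Finset V) {x y z : V} (hxy : x ≠ y) (hxz : x ≠ z) (hyz : y ≠ z) :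
    (N ∩ {x, y, z}).card = (if x ∈ N then 1 else 0) + (if y ∈ N then 1 else 0) + (if z ∈ N then 1 else 0) := by
  rw [Finset.inter_comm, ← Finset.filter_mem_eq_inter, Finset.filter_insert, Finset.filter_insert,
    Finset.filter_singleton]
  by_cases hx : x ∈ N <;> by_cases hy : y ∈ N <;> by_cases hz : z ∈ N <;>
    simp [hx, hy, hz, hxy, hxz, hyz]

/-- `E` from a 3-set. -/
theorem K33_aux_E_three (T : Finset V) {x y z : V} (hxy : x ≠ y) (hxz : x ≠ z) (hyz : y ≠ z) :
    E G {x, y, z} T = ((G.neighborFinset x ∩ T).card : ℚ) + ((G.neighborFinset y ∩ T).card : ℚ)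
      + ((G.neighborFinset z ∩ T).card : ℚ) := by
  unfold E
  rw [Finset.sum_insert (by simp [hxy, hxz]), Finset.sum_insert (by simp [hyz]), Finset.sum_singleton]
  ring

/-- K33_3 (M/L), helper25 twin of `Helper19.S0429K333` (renamed to avoid a name clash): nor 3 common neighbours (`Q2 (3·1_{a,b,c} + 2·1_M + 1_{N2}) = 84 - 144 + 648/11 < 0`). -/
theorem K33_3_h25 (h : G.IsSRGWith 77 16 0 4) {a b c : V} (hab : a ≠ b) (hac : a ≠ c) (hbc : b ≠ c)
    (nab : ¬ G.Adj a b) (nac : ¬ G.Adj a c) (nbc : ¬ G.Adj b c) : m3 G a b c ≠ 3 := by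
  intro h3
  set T : Finset V := {a, b, c} with hT
  set M : Finset V := G.neighborFinset a ∩ G.neighborFinset b ∩ G.neighborFinset c with hM
  have hTcard : T.card = 3 := Finset.card_eq_three.2 ⟨a, b, c, hab, hac, hbc, rfl⟩
  have hMcard : M.card = 3 := h3
  have hmemT : ∀ v, v ∈ T ↔ v = a ∨ v = b ∨ v = c := by
    intro v
    rw [hT]
    simp
  have hmemM : ∀ x, x ∈ M ↔ G.Adj a x ∧ G.Adj b x ∧ G.Adj c x := by
    intro x
    rw [hM]
    simp
  -- the three extra vertices
  have hex : ∀ u v : V, u ≠ v → ¬ G.Adj u v → M ⊆ cn G u v → ∃ x, x ∈ cn G u v ∧ x ∉ M := by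
    intro u v huv hnadj _
    have hc : M.card < (cn G u v).card := by rw [hMcard, card_cn h huv hnadj]; norm_num
    exact Finset.exists_mem_notMem_of_card_lt_card hc
  obtain ⟨x1, hx1, hx1M⟩ := hex a b hab nab (by
    intro x hx; exact mem_cn.2 ⟨((hmemM x).1 hx).1, ((hmemM x).1 hx).2.1⟩)
  obtain ⟨x2, hx2, hx2M⟩ := hex a c hac nac (by
    intro x hx; exact mem_cn.2 ⟨((hmemM x).1 hx).1, ((hmemM x).1 hx).2.2⟩)
  obtain ⟨x3, hx3, hx3M⟩ := hex b c hbc nbc (by
    intro x hx; exact mem_cn.2 ⟨((hmemM x).1 hx).2.1, ((hmemM x).1 hx).2.2⟩)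
  obtain ⟨a1, b1⟩ := mem_cn.1 hx1
  obtain ⟨a2, c2⟩ := mem_cn.1 hx2
  obtain ⟨b3, c3⟩ := mem_cn.1 hx3
  have c1 : ¬ G.Adj c x1 := fun hc => hx1M ((hmemM x1).2 ⟨a1, b1, hc⟩)
  have b2 : ¬ G.Adj b x2 := fun hb => hx2M ((hmemM x2).2 ⟨a2, hb, c2⟩)
  have a3 : ¬ G.Adj a x3 := fun ha => hx3M ((hmemM x3).2 ⟨ha, b3, c3⟩)
  have h12 : x1 ≠ x2 := by rintro rfl; exact b2 b1
  have h13 : x1 ≠ x3 := by rintro rfl; exact a3 a1
  have h23 : x2 ≠ x3 := by rintro rfl; exact a3 a2
  set N2 : Finset V := {x1, x2, x3} with hN2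
  have hN2card : N2.card = 3 := Finset.card_eq_three.2 ⟨x1, x2, x3, h12, h13, h23, rfl⟩
  have hmemN2 : ∀ v, v ∈ N2 ↔ v = x1 ∨ v = x2 ∨ v = x3 := by
    intro v
    rw [hN2]
    simp
  have irr : ∀ v : V, ¬ G.Adj v v := fun v => G.loopless.irrefl v
  -- adjacency facts
  have hTT : ∀ v ∈ T, ∀ y ∈ T, ¬ G.Adj v y := by
    intro v hv y hy hadj
    rcases (hmemT v).1 hv with rfl | rfl | rfl <;> rcases (hmemT y).1 hy with rfl | rfl | rfl
    · exact irr _ hadj
    · exact nab hadj
    · exact nac hadj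
    · exact nab hadj.symm
    · exact irr _ hadj
    · exact nbc hadj
    · exact nac hadj.symm
    · exact nbc hadj.symm
    · exact irr _ hadj
  have hTM : ∀ v ∈ T, ∀ y ∈ M, G.Adj v y := by
    intro v hv y hy
    obtain ⟨h1, h2, h3'⟩ := (hmemM y).1 hy
    rcases (hmemT v).1 hv with rfl | rfl | rfl
    · exact h1
    · exact h2
    · exact h3'
  have hMT : ∀ v ∈ M, ∀ y ∈ T, G.Adj v y := fun v hv y hy => (hTM y hy v hv).symm
  have hMM : ∀ v ∈ M, ∀ y ∈ M, ¬ G.Adj v y := by
    intro v hv y hy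
    exact nadj_of_common h ((hmemM v).1 hv).1 ((hmemM y).1 hy).1
  have hMN : ∀ v ∈ M, ∀ y ∈ N2, ¬ G.Adj v y := by
    intro v hv y hy
    obtain ⟨h1, h2, -⟩ := (hmemM v).1 hv
    rcases (hmemN2 y).1 hy with rfl | rfl | rfl
    · exact nadj_of_common h h1 a1
    · exact nadj_of_common h h1 a2
    · exact nadj_of_common h h2 b3
  have hNM : ∀ v ∈ N2, ∀ y ∈ M, ¬ G.Adj v y := fun v hv y hy hadj => hMN y hy v hv hadj.symm
  have hNN : ∀ v ∈ N2, ∀ y ∈ N2, ¬ G.Adj v y := by
    intro v hv y hy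
    rcases (hmemN2 v).1 hv with rfl | rfl | rfl <;> rcases (hmemN2 y).1 hy with rfl | rfl | rfl
    · exact irr _
    · exact nadj_of_common h a1 a2
    · exact nadj_of_common h b1 b3
    · exact nadj_of_common h a2 a1
    · exact irr _
    · exact nadj_of_common h c2 c3
    · exact nadj_of_common h b3 b1
    · exact nadj_of_common h c3 c2
    · exact irr _
  -- disjointness
  have hdTM : Disjoint T M := by
    rw [Finset.disjoint_left]
    intro v hv hvM
    exact hTT v hv v hv (hTM v hv v hvM)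
  have hdTN : Disjoint T N2 := by
    rw [Finset.disjoint_left]
    intro v hv hvN
    rcases (hmemT v).1 hv with rfl | rfl | rfl <;> rcases (hmemN2 v).1 hvN with hh | hh | hh
    · rw [← hh] at a1; exact irr _ a1
    · rw [← hh] at a2; exact irr _ a2
    · rw [← hh] at b3; exact nab b3.symm
    · rw [← hh] at b1; exact irr _ b1
    · rw [← hh] at a2; exact nab a2
    · rw [← hh] at b3; exact irr _ b3
    · rw [← hh] at a1; exact nac a1
    · rw [← hh] at c2; exact irr _ c2
    · rw [← hh] at c3; exact irr _ c3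
  have hdMN : Disjoint M N2 := by
    rw [Finset.disjoint_left]
    intro v hv hvN
    rcases (hmemN2 v).1 hvN with rfl | rfl | rfl
    · exact hx1M hv
    · exact hx2M hv
    · exact hx3M hv
  -- E T N2 and E N2 T
  have mem_nb : ∀ u v : V, v ∈ G.neighborFinset u ↔ G.Adj u v := fun u v => SimpleGraph.mem_neighborFinset G u v
  have hETN : E G T N2 = 6 := by
    rw [hT, K33_aux_E_three N2 hab hac hbc, hN2, K33_aux_card_inter3 _ h12 h13 h23,
      K33_aux_card_inter3 _ h12 h13 h23, K33_aux_card_inter3 _ h12 h13 h23]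
    simp only [mem_nb, a1, a2, a3, b1, b2, b3, c1, c2, c3, if_true, if_false]
    norm_num
  have hENT : E G N2 T = 6 := by
    rw [hN2, K33_aux_E_three T h12 h13 h23, hT, K33_aux_card_inter3 _ hab hac hbc,
      K33_aux_card_inter3 _ hab hac hbc, K33_aux_card_inter3 _ hab hac hbc]
    have a1' := a1.symm
    have a2' := a2.symm
    have b1' := b1.symm
    have b3' := b3.symm
    have c2' := c2.symm
    have c3' := c3.symm
    have a3' : ¬ G.Adj x3 a := fun hh => a3 hh.symm
    have b2' : ¬ G.Adj x2 b := fun hh => b2 hh.symm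
    have c1' : ¬ G.Adj x1 c := fun hh => c1 hh.symm
    simp only [mem_nb, a1', a2', a3', b1', b2', b3', c1', c2', c3', if_true, if_false]
    norm_num
  -- the vector
  set S : Fin 3 → Finset V := ![T, M, N2] with hS
  set w : Fin 3 → ℚ := ![3, 2, 1] with hw
  have hdisj : ∀ i j : Fin 3, i ≠ j → Disjoint (S i) (S j) := by
    intro i j hij
    fin_cases i <;> fin_cases j
    · exact absurd rfl hij
    · exact hdTM
    · exact hdTN
    · exact hdTM.symm
    · exact absurd rfl hij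
    · exact hdMN
    · exact hdTN.symm
    · exact hdMN.symm
    · exact absurd rfl hij
  have hsum : ∑ v, ind S w v = 18 := by
    rw [sum_ind, Fin.sum_univ_three]
    simp only [hS, hw, Matrix.cons_val_zero, Matrix.cons_val_one, Matrix.cons_val_two,
      Matrix.head_cons, Matrix.tail_cons, hTcard, hMcard, hN2card]
    norm_num
  have hsq : ∑ v, ind S w v ^ 2 = 42 := by
    rw [sum_sq_ind S w hdisj, Fin.sum_univ_three]
    simp only [hS, hw, Matrix.cons_val_zero, Matrix.cons_val_one, Matrix.cons_val_two,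
      Matrix.head_cons, Matrix.tail_cons, hTcard, hMcard, hN2card]
    norm_num
  have hadj : adjSum G (ind S w) = 144 := by
    rw [adjSum_ind, Fin.sum_univ_three, Fin.sum_univ_three, Fin.sum_univ_three, Fin.sum_univ_three]
    simp only [hS, hw, Matrix.cons_val_zero, Matrix.cons_val_one, Matrix.cons_val_two,
      Matrix.head_cons, Matrix.tail_cons]
    rw [K33_aux_E_zero T T hTT, K33_aux_E_full T M hTM, K33_aux_E_full M T hMT,
      K33_aux_E_zero M M hMM, K33_aux_E_zero M N2 hMN, K33_aux_E_zero N2 M hNM,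
      K33_aux_E_zero N2 N2 hNN, hETN, hENT, hTcard, hMcard]
    norm_num
  have hQ := Q2_nonneg h (ind S w)
  unfold Q2 at hQ
  rw [hsum, hsq, hadj] at hQ
  norm_num at hQ

end Cfsg.Agent.S0429P
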