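import Mathlib
import Cfsg.Agent.Helper27.S0429Defs
import Cfsg.Agent.Helper18.S0429M3SUMcore
import Cfsg.Agent.Helper21.S0429CLSPART
import Cfsg.Prelude.Def_Sporadic_a

/-! Board `s0429pieces` (S0429), row M3SUM. -/

set_option autoImplicit false

namespace Cfsg.Agent.S0429P

open Finset

variable {V : Type*} [Fintype V] [DecidableEq V] {G : SimpleGraph V} [DecidableRel G.Adj]

/-- M3SUM (M): `Σ_{p ∈ cls a b} m3 a z p = 4`. -/
theorem M3SUM (h : G.IsSRGWith 77 16 0 4) {a b z : V} (hab : Far G a b) (hz : Far G a z) :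
    ∑ p ∈ cls G a b, m3 G a z p = 4 :=
  M3SUM_aux_core_h18 h (fun hx => CLSPART h hab hx) hz

end Cfsg.Agent.S0429P
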