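import Mathlib
import Cfsg.Agent.Helper26.S1237Defs

set_option autoImplicit false

/-! S1237 board, piece MINEX. -/

namespace Cfsg.Agent.S1237P

open Cfsg.Agent.S1237P

/-- MINEX: a minimal `ψ`-invariant subgroup on which `τ ≠ 1` acts non-trivially. -/
theorem MINEX {T : Type*} [Group T] [Finite T] (ψ τ : MulAut T) (hτ : τ ≠ 1) :
    ∃ M : Subgroup T, MinData ψ τ M := by
  have hwf : WellFounded ((· < ·) : Subgroup T → Subgroup T → Prop) := wellFounded_lt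
  have hne : ∃ x : T, τ x ≠ x := by
    by_contra h
    push Not at h
    exact hτ (MulEquiv.ext h)
  obtain ⟨x0, hx0⟩ := hne
  obtain ⟨M, ⟨hMinv, hMmov⟩, hmin⟩ :=
    hwf.has_min {M : Subgroup T | (∀ x ∈ M, ψ x ∈ M) ∧ ∃ x ∈ M, τ x ≠ x}
      ⟨⊤, fun x _ => Subgroup.mem_top _, x0, Subgroup.mem_top _, hx0⟩
  refine ⟨M, hMinv, hMmov, ?_⟩
  intro N hNM hNinv x hx
  by_contra hne
  exact hmin N ⟨hNinv, x, hx, hne⟩ hNM

end Cfsg.Agent.S1237P
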