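import Mathlib
import Cfsg.Agent.Helper26.S1237Defs
import Cfsg.Agent.Helper9.S1237CTXF

set_option autoImplicit false

/-! S1237 board, piece TAU. -/

namespace Cfsg.Agent.S1237P

open Cfsg.Agent.S1237P

/-- TAU: for `a ≥ 2` the element `τ = ψ ^ 3 ^ (a - 1)` of order 3 fixes `V` pointwise and lies in
every non-trivial subgroup of `⟨ψ⟩`. -/
theorem TAU {T : Type*} [Group T] {V : Subgroup T} {ψ : MulAut T} (c : Ctx V ψ) (a : ℕ)
    (ha : 2 ≤ a) (hψ : orderOf ψ = 3 ^ a) :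
    ψ ^ 3 ^ (a - 1) ≠ 1 ∧ (ψ ^ 3 ^ (a - 1)) ^ 3 = 1 ∧ (∀ v ∈ V, (ψ ^ 3 ^ (a - 1)) v = v) ∧
      ∀ j : ℕ, ψ ^ j ≠ 1 → ∃ i : ℕ, (ψ ^ j) ^ i = ψ ^ 3 ^ (a - 1) := by
  obtain ⟨e, he⟩ : ∃ e, a = e + 2 := ⟨a - 2, by omega⟩
  have ha1 : a - 1 = e + 1 := by omega
  have hpow : 3 ^ (a - 1) * 3 = 3 ^ a := by
    rw [ha1, he, ← pow_succ]
  refine ⟨?_, ?_, ?_, ?_⟩
  · apply pow_ne_one_of_lt_orderOf (by positivity)
    rw [hψ, ← hpow]
    have : 0 < 3 ^ (a - 1) := by positivity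
    omega
  · rw [← pow_mul, hpow, ← hψ]
    exact pow_orderOf_eq_one ψ
  · intro v hv
    by_cases hv1 : v = 1
    · rw [hv1, map_one]
    · rw [CTXF_fix c hv hv1, ha1, pow_succ]
      exact Dvd.intro_left _ rfl
  · intro j hj
    have hnd : ¬ 3 ^ a ∣ j := by
      intro hd
      apply hj
      rw [← hψ] at hd
      exact orderOf_dvd_iff_pow_eq_one.1 hd
    obtain ⟨f, hfa, hf⟩ := (Nat.dvd_prime_pow Nat.prime_three).1 (Nat.gcd_dvd_right j (3 ^ a))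
    have hfa' : f < a := by
      rcases Nat.lt_or_ge f a with h | h
      · exact h
      · exfalso
        have hfe : f = a := le_antisymm hfa h
        apply hnd
        rw [hfe] at hf
        rw [← hf]
        exact Nat.gcd_dvd_left j (3 ^ a)
    have hlt : Nat.gcd j (3 ^ a) < 3 ^ a := by
      rw [hf]
      exact Nat.pow_lt_pow_right (by norm_num) hfa'
    obtain ⟨m, -, hm⟩ := Nat.exists_mul_mod_eq_gcd hlt
    refine ⟨m * 3 ^ (a - 1 - f), ?_⟩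
    rw [← pow_mul, pow_eq_pow_iff_modEq, hψ]
    have h1 : j * m ≡ 3 ^ f [MOD 3 ^ a] := by
      rw [← hf]
      show j * m % 3 ^ a = Nat.gcd j (3 ^ a) % 3 ^ a
      rw [hm, Nat.mod_eq_of_lt hlt]
    have h2 : j * m * 3 ^ (a - 1 - f) ≡ 3 ^ f * 3 ^ (a - 1 - f) [MOD 3 ^ a] :=
      Nat.ModEq.mul_right _ h1
    have h3 : 3 ^ f * 3 ^ (a - 1 - f) = 3 ^ (a - 1) := by
      rw [← pow_add]
      congr 1
      omega
    rw [h3, mul_assoc] at h2
    exact h2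

end Cfsg.Agent.S1237P
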