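import Cfsg.Agent.Helper22.S1589Basic
import Cfsg.Agent.Helper14.S1589SYLQ
import Cfsg.Agent.Helper11.S1589RSET
import Cfsg.Agent.Helper9.S1589SIX
import Cfsg.Agent.Helper27.S1589LB

/-! S1589 project (driver helper22), piece P3R: a subgroup of `M24` of order 138240 (index 1771) is
transitive, contains `fixG o` for an octad `o`, and each of its point stabilisers `K_x` (`x ∈ o`)
stabilises a triad `R ⊆ o \ {x}` and is transitive on the 20 remaining points. -/

set_option autoImplicit false
set_option linter.all false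

namespace Cfsg.Agent.S1589P

open Cfsg Cfsg.Agent.Helper27 Cfsg.Agent.Helper17.M23Idx
open scoped Pointwise

variable {K : Subgroup (Equiv.Perm GolayPt)}

namespace P3R

theorem card_orb_stab (hM : K ≤ M24) (hcard : Nat.card K = 138240) (x : GolayPt) :
    (orbF K x).card = 24 ∧ Nat.card (fixH K {x}) = 5760 := by
  have h1 := card_eq_orbF_mul K x
  rw [hcard] at h1
  have h2 := card_fixH_dvd hM x
  have h3 : Nat.card (fixH K {x}) ∣ 138240 := ⟨(orbF K x).card, by rw [h1, mul_comm]⟩
  have h4 : Nat.card (fixH K {x}) ∣ Nat.gcd 138240 10200960 := Nat.dvd_gcd h3 h2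
  have h5 : Nat.gcd 138240 10200960 = 5760 := by norm_num
  rw [h5] at h4
  have h6 : Nat.card (fixH K {x}) ≤ 5760 := Nat.le_of_dvd (by norm_num) h4
  have h7 : (orbF K x).card ≤ 24 := by
    rw [← card_univ_golay]
    exact Finset.card_le_card (Finset.subset_univ _)
  have h8 : (orbF K x).card = 24 := by
    by_contra hne
    have h9 : (orbF K x).card ≤ 23 := by omega
    have := Nat.mul_le_mul h9 h6
    omega
  refine ⟨h8, ?_⟩
  rw [h8] at h1
  omega

theorem stab_insert {k : Equiv.Perm GolayPt} {x : GolayPt} {R : Finset GolayPt} (hx : k x = x)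
    (hR : k • R = R) : k • insert x R = insert x R := by
  rw [Finset.smul_finset_insert, hR, Equiv.Perm.smul_def, hx]

end P3R

open P3R

/-- P3R -/
theorem part3_tetrad (hM : K ≤ M24) (hcard : Nat.card K = 138240) :
    Trans K ∧ ∃ o ∈ octads, fixG o ≤ K ∧ ∀ x ∈ o, ∃ R : Finset GolayPt, R ⊆ o.erase x ∧ R.card = 3 ∧
      (∀ k ∈ fixH K {x}, k • R = R) ∧
      (∀ a b : GolayPt, a ∉ insert x R → b ∉ insert x R → ∃ k ∈ fixH K {x}, k a = b) := by
  have hT : Trans K := trans_of_card_orbF (card_orb_stab hM hcard (none : GolayPt)).1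
  refine ⟨hT, ?_⟩
  obtain ⟨o, ho, hQ⟩ := exists_fixG_octad_le hM (by rw [hcard]; norm_num)
  refine ⟨o, ho, hQ, ?_⟩
  intro x hxo
  obtain ⟨R, hRo, hstab, htr, hdvd⟩ := exists_rset hM ho hQ hxo
  rw [(card_orb_stab hM hcard x).2] at hdvd
  have hoc : o.card = 8 := ho.2
  have hc7 : (o.erase x).card = 7 := by rw [Finset.card_erase_of_mem hxo, hoc]
  have hRle : R.card ≤ 7 := hc7 ▸ Finset.card_le_card hRo
  have hxR : x ∉ R := fun h => Finset.notMem_erase x o (hRo h)
  have hcases : R.card = 7 ∨ R.card = 5 ∨ R.card = 3 := by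
    have : ∀ c : ℕ, c ≤ 7 → (23 - c) ∣ 5760 → c = 7 ∨ c = 5 ∨ c = 3 := by decide
    exact this _ hRle hdvd
  rcases hcases with h7 | h5 | h3
  · exfalso
    have hRe : R = o.erase x := Finset.eq_of_subset_of_card_le hRo (by rw [hc7, h7])
    have hins : insert x R = o := by rw [hRe, Finset.insert_erase hxo]
    apply no_octad_block hM hT ho hQ hxo _ (by rw [hcard]; norm_num)
    intro k hk
    have hkx : k x = x := ((mem_fixH_singleton K x k).mp hk).2
    rw [← hins]
    exact stab_insert hkx (hstab k hk)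
  · exfalso
    have hinv : ∀ g ∈ fixH K {x}, ∀ q ∈ R, g q ∈ R := by
      intro g hg q hq
      have := (mem_smul_finset_perm g R q).mpr hq
      rwa [hstab g hg] at this
    obtain ⟨T, hTS, hTc, hTb⟩ := chain_bound K 5 {x} R hinv (by rw [h5])
    have hTR : T = R := Finset.eq_of_subset_of_card_le hTS (by rw [h5, hTc])
    rw [hTR, h5, (card_orb_stab hM hcard x).2] at hTb
    have hle : fixH K (R ∪ {x}) ≤ fixG (R ∪ {x}) := by
      intro g hg
      rw [mem_fixH] at hg
      rw [mem_fixG]
      exact ⟨hM hg.1, hg.2⟩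
    have hsub : R ∪ {x} ⊆ o := by
      intro q hq
      rw [Finset.mem_union, Finset.mem_singleton] at hq
      rcases hq with hq | rfl
      · exact Finset.mem_of_mem_erase (hRo hq)
      · exact hxo
    have h6 : (R ∪ {x}).card = 6 := by
      rw [Finset.card_union_of_disjoint (by simpa using hxR), h5]; rfl
    have h32 := card_fixG_six_le ho hsub h6
    have h4 := Subgroup.card_le_of_le hle
    have hdf : Nat.descFactorial 5 5 = 120 := by decide
    rw [hdf] at hTb
    have : 120 * Nat.card (fixH K (R ∪ {x})) ≤ 120 * 32 := Nat.mul_le_mul_left _ (h4.trans h32)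
    omega
  · exact ⟨R, hRo, h3, hstab, htr⟩

end Cfsg.Agent.S1589P
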