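import Mathlib
import Cfsg.Prelude.Def_TwoFusion
import Cfsg.Agent.Helper29.S2221Defs

/-! S2221 project (driver helper29), piece IND2: a finite 2-group whose centre has order at most two
is directly indecomposable. -/

set_option autoImplicit false

namespace Cfsg.Agent.S2221P

open Equiv

namespace IND2

/-- a nontrivial subgroup `A` of a finite `2`-group `H = A ⊔ B` with `[A, B] = 1` contains a
nontrivial central element of `H` -/
theorem exists_central {H : Type*} [Group H] [Finite H] (hp : IsPGroup 2 H) (A B : Subgroup H)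
    (hA : A ≠ ⊥) (hc : ∀ a ∈ A, ∀ b ∈ B, a * b = b * a) (hs : A ⊔ B = ⊤) :
    ∃ a ∈ A, a ≠ 1 ∧ ∀ g : H, a * g = g * a := by
  have : Fact (Nat.Prime 2) := ⟨Nat.prime_two⟩
  have hnt : Nontrivial ↥A := (Subgroup.nontrivial_iff_ne_bot A).mpr hA
  have hcn : Nontrivial (Subgroup.center ↥A) := (hp.to_subgroup A).center_nontrivial
  obtain ⟨c, hc1⟩ := exists_ne (1 : Subgroup.center ↥A)
  refine ⟨((c : ↥A) : H), (c : ↥A).2, ?_, ?_⟩
  · intro h
    apply hc1
    apply Subtype.ext
    apply Subtype.ext
    exact h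
  · have hle : A ⊔ B ≤ Subgroup.centralizer {((c : ↥A) : H)} := by
      apply sup_le
      · intro a ha
        rw [Subgroup.mem_centralizer_iff]
        intro h hh
        rw [Set.mem_singleton_iff] at hh
        subst hh
        have := Subgroup.mem_center_iff.mp c.2 ⟨a, ha⟩
        have h2 := congrArg (Subtype.val) this
        simpa using h2.symm
      · intro b hb
        rw [Subgroup.mem_centralizer_iff]
        intro h hh
        rw [Set.mem_singleton_iff] at hh
        subst hh
        exact hc _ (c : ↥A).2 b hb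
    intro g
    have hg : g ∈ Subgroup.centralizer {((c : ↥A) : H)} := hle (hs ▸ Subgroup.mem_top g)
    rw [Subgroup.mem_centralizer_iff] at hg
    exact hg _ rfl

end IND2

/-- A2 IND2 (M; `IsPGroup.center_nontrivial`). -/
theorem not_decomp_of_center {H : Type*} [Group H] [Finite H] (hp : IsPGroup 2 H) (z : H)
    (hz : ∀ c : H, (∀ g, c * g = g * c) → c = 1 ∨ c = z) : ¬ Decomp H := by
  rintro ⟨A, B, hA, hB, hc, hi, hs⟩
  obtain ⟨a, haA, ha1, hac⟩ := IND2.exists_central hp A B hA hc hs
  have hc' : ∀ b ∈ B, ∀ a ∈ A, b * a = a * b := fun b hb a ha => (hc a ha b hb).symm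
  obtain ⟨b, hbB, hb1, hbc⟩ := IND2.exists_central hp B A hB hc' (by rw [sup_comm]; exact hs)
  have haz : a = z := (hz a hac).resolve_left ha1
  have hbz : b = z := (hz b hbc).resolve_left hb1
  have hmem : a ∈ A ⊓ B := ⟨haA, by rw [haz, ← hbz]; exact hbB⟩
  rw [hi, Subgroup.mem_bot] at hmem
  exact ha1 hmem

end Cfsg.Agent.S2221P
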