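import Mathlib
import Cfsg.Prelude.Def_TwoFusion
import Cfsg.Agent.Helper29.S2221Defs

/-! S2221 project (driver helper29), piece PIDEC: a product with two nontrivial factors is directly
decomposable. -/

set_option autoImplicit false

namespace Cfsg.Agent.S2221P

open Equiv

section family

variable {ι : Type*} [Fintype ι] [DecidableEq ι] (G : ι → Type*) [∀ i, Group (G i)]

namespace PIDEC

/-- the factor `G i` inside the product -/
def subA (i : ι) : Subgroup ((i : ι) → G i) where
  carrier := {w | ∀ l, l ≠ i → w l = 1}
  one_mem' := fun _ _ => rfl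
  mul_mem' := by
    intro a b ha hb l hl
    rw [Pi.mul_apply, ha l hl, hb l hl, one_mul]
  inv_mem' := by
    intro a ha l hl
    rw [Pi.inv_apply, ha l hl, inv_one]

/-- the product of the other factors -/
def subB (i : ι) : Subgroup ((i : ι) → G i) where
  carrier := {w | w i = 1}
  one_mem' := rfl
  mul_mem' := by
    intro a b ha hb
    show (a * b) i = 1
    rw [Pi.mul_apply, ha, hb, one_mul]
  inv_mem' := by
    intro a ha
    show a⁻¹ i = 1
    rw [Pi.inv_apply, ha, inv_one]

theorem mem_subA (i : ι) (w : (i : ι) → G i) : w ∈ subA G i ↔ ∀ l, l ≠ i → w l = 1 := Iff.rfl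

theorem mem_subB (i : ι) (w : (i : ι) → G i) : w ∈ subB G i ↔ w i = 1 := Iff.rfl

end PIDEC

open PIDEC

/-- A3 PIDEC (M). -/
theorem decomp_pi_of_two (i j : ι) (hij : i ≠ j) (hi : Nontrivial (G i)) (hj : Nontrivial (G j)) :
    Decomp ((i : ι) → G i) := by
  refine ⟨subA G i, subB G i, ?_, ?_, ?_, ?_, ?_⟩
  · obtain ⟨g, hg⟩ := exists_ne (1 : G i)
    intro h
    have hmem : Pi.mulSingle i g ∈ subA G i := by
      intro l hl
      exact Pi.mulSingle_eq_of_ne hl g
    rw [h, Subgroup.mem_bot] at hmem
    apply hg
    have := congrFun hmem i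
    rwa [Pi.mulSingle_eq_same, Pi.one_apply] at this
  · obtain ⟨g, hg⟩ := exists_ne (1 : G j)
    intro h
    have hmem : Pi.mulSingle j g ∈ subB G i := by
      show Pi.mulSingle j g i = 1
      exact Pi.mulSingle_eq_of_ne hij g
    rw [h, Subgroup.mem_bot] at hmem
    apply hg
    have := congrFun hmem j
    rwa [Pi.mulSingle_eq_same, Pi.one_apply] at this
  · intro a ha b hb
    funext l
    rw [Pi.mul_apply, Pi.mul_apply]
    by_cases hl : l = i
    · subst hl
      rw [(mem_subB G l b).mp hb, mul_one, one_mul]
    · rw [(mem_subA G i a).mp ha l hl, mul_one, one_mul]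
  · rw [eq_bot_iff]
    intro w hw
    rw [Subgroup.mem_bot]
    funext l
    by_cases hl : l = i
    · subst hl
      exact hw.2
    · exact hw.1 l hl
  · rw [eq_top_iff]
    intro w _
    have e : w = Pi.mulSingle i (w i) * Function.update w i 1 := by
      funext l
      rw [Pi.mul_apply]
      by_cases hl : l = i
      · subst hl
        rw [Pi.mulSingle_eq_same, Function.update_self, mul_one]
      · rw [Pi.mulSingle_eq_of_ne hl, Function.update_of_ne hl, one_mul]
    rw [e]
    apply Subgroup.mul_mem
    · apply Subgroup.mem_sup_left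
      intro l hl
      exact Pi.mulSingle_eq_of_ne hl _
    · apply Subgroup.mem_sup_right
      show Function.update w i 1 i = 1
      exact Function.update_self _ _ _

end family

end Cfsg.Agent.S2221P
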