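import Mathlib
import Cfsg.Prelude.Def_TwoFusion
import Cfsg.Agent.Helper29.S2221Defs

/-! S2221 project (driver helper29), piece PRODEQ: an internal direct product is isomorphic to the
external one. -/

set_option autoImplicit false

namespace Cfsg.Agent.S2221P

open Equiv

/-- A1 PRODEQ (S–M; `MonoidHom.noncommCoprod`). -/
theorem exists_equiv_prod {H : Type*} [Group H] (A B : Subgroup H)
    (hc : ∀ a ∈ A, ∀ b ∈ B, a * b = b * a) (hi : A ⊓ B = ⊥) (hs : A ⊔ B = ⊤) :
    ∃ e : ↥A × ↥B ≃* H, ∀ (a : ↥A) (b : ↥B), e (a, b) = (a : H) * (b : H) := by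
  have comm : ∀ (a : ↥A) (b : ↥B), Commute (A.subtype a) (B.subtype b) :=
    fun a b => hc a.1 a.2 b.1 b.2
  set f := MonoidHom.noncommCoprod A.subtype B.subtype comm with hf
  have hinj : Function.Injective f := by
    rw [hf, MonoidHom.noncommCoprod_injective]
    refine ⟨A.subtype_injective, B.subtype_injective, ?_⟩
    rw [Subgroup.range_subtype, Subgroup.range_subtype, disjoint_iff, hi]
  have hsurj : Function.Surjective f := by
    rw [← MonoidHom.range_eq_top, hf, MonoidHom.noncommCoprod_range, Subgroup.range_subtype,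
      Subgroup.range_subtype, hs]
  have hbij : Function.Bijective f := ⟨hinj, hsurj⟩
  refine ⟨MulEquiv.ofBijective f hbij, fun a b => ?_⟩
  show f (a, b) = (a : H) * (b : H)
  rw [hf, MonoidHom.noncommCoprod_apply]
  rfl

end Cfsg.Agent.S2221P
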