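import Mathlib
import Cfsg.Agent.Helper5.S2536DefsA

set_option autoImplicit false

/-! S2536 project, Stage 2, piece EXTALL: if all primes `≤ n` lie in `π`, a Hall `π`-subgroup of the
alternating group is the alternating group, and `⊤` extends it. -/

namespace Cfsg.Agent.S2536P

open Equiv Nat

universe u

section Alt

variable {α : Type u} [Fintype α] [DecidableEq α]

/-- EXTALL -/
theorem ext_of_allLE {π : Set ℕ} {M : Subgroup (Perm α)} (hM : AHall π M)
    (hn : 2 ≤ Fintype.card α) (hall : AllLE π (Fintype.card α)) :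
    ∃ M₀ : Subgroup (Perm α), M ≤ M₀ ∧ Nat.card M₀ = 2 * Nat.card M := by
  obtain ⟨i, hi, hiπ⟩ := hM.factorial hn
  have hidvd : i ∣ (Fintype.card α).factorial := ⟨2 * Nat.card M, by rw [hi, mul_comm]⟩
  have hiN : PiNum π i := by
    intro p hp hpi
    have : p ∣ (Fintype.card α).factorial := hpi.trans hidvd
    exact hall p hp ((Nat.Prime.dvd_factorial hp).mp this)
  have hi1 : i = 1 := eq_one_of_piNum_of_piPrime hiN hiπ
  refine ⟨⊤, le_top, ?_⟩
  rw [Subgroup.card_top, Nat.card_eq_fintype_card, Fintype.card_perm, hi, hi1, mul_one]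

end Alt

end Cfsg.Agent.S2536P
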