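import Mathlib
import Cfsg.Agent.Helper5.S2536DefsA

set_option autoImplicit false

/-! S2536 project, Stage 2, piece EXTSYL: if `2` is the only prime of `π` that is `≤ n`, a Hall
`π`-subgroup of the alternating group is a `2`-group, and a Sylow `2`-subgroup of `Perm α` containing
it has twice its order. -/

namespace Cfsg.Agent.S2536P

open Equiv Nat

universe u

section Alt

variable {α : Type u} [Fintype α] [DecidableEq α]

/-- EXTSYL -/
theorem ext_of_not_two {π : Set ℕ} (h2 : 2 ∈ π) {M : Subgroup (Perm α)} (hM : AHall π M)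
    (hn : 2 ≤ Fintype.card α) (h : ¬ Two π (Fintype.card α)) :
    ∃ M₀ : Subgroup (Perm α), M ≤ M₀ ∧ Nat.card M₀ = 2 * Nat.card M := by
  have : Fact (Nat.Prime 2) := ⟨Nat.prime_two⟩
  -- the only prime dividing `|M|` is `2`
  have honly : ∀ {d : ℕ}, d.Prime → d ∣ Nat.card M → d = 2 := by
    intro d hd hdM
    by_contra hne
    apply h
    have hdn : d ≤ Fintype.card α := by
      have := prime_le_of_dvd_card M hd hdM
      rwa [Nat.card_eq_fintype_card] at this
    exact ⟨2, d, Nat.prime_two, hd, fun h' => hne h'.symm, h2, hM.2.1 d hd hdM, hn, hdn⟩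
  have hcard : Nat.card M = 2 ^ (Nat.card M).primeFactorsList.length :=
    Nat.eq_prime_pow_of_unique_prime_dvd Nat.card_pos.ne' honly
  have hP : IsPGroup 2 M := IsPGroup.of_card hcard
  obtain ⟨T, hT⟩ := hP.exists_le_sylow
  -- `|T|` is a `π`-number
  obtain ⟨k, hk⟩ := (IsPGroup.iff_card.mp T.isPGroup')
  have hTπ : PiNum π (Nat.card (T : Subgroup (Perm α))) := by
    intro p hp hpd
    rw [hk] at hpd
    have := (Nat.prime_dvd_prime_iff_eq hp Nat.prime_two).mp (hp.dvd_of_dvd_pow hpd)
    rw [this]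
    exact h2
  have hd1 : Nat.card (T : Subgroup (Perm α)) ∣ 2 * Nat.card M := hM.card_dvd hn hTπ
  have hd2 : Nat.card M ∣ Nat.card (T : Subgroup (Perm α)) := Subgroup.card_dvd_of_le hT
  refine ⟨T, hT, ?_⟩
  obtain ⟨c, hc⟩ := hd2
  have hMpos : 0 < Nat.card M := Nat.card_pos
  have hc2 : c ∣ 2 := by
    rw [hc, mul_comm 2] at hd1
    exact Nat.dvd_of_mul_dvd_mul_left hMpos hd1
  have hc12 : c = 1 ∨ c = 2 := (Nat.dvd_prime Nat.prime_two).mp hc2
  rcases hc12 with rfl | rfl
  · exfalso
    -- then the index of `T` is even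
    obtain ⟨i, hi, -⟩ := hM.factorial hn
    have hidx : (T : Subgroup (Perm α)).index = 2 * i := by
      have h1 : Nat.card (T : Subgroup (Perm α)) * (T : Subgroup (Perm α)).index
          = Nat.card M * (2 * i) := by
        rw [Subgroup.card_mul_index, Nat.card_eq_fintype_card, Fintype.card_perm, hi]
        ring
      rw [hc, mul_one] at h1
      exact Nat.eq_of_mul_eq_mul_left hMpos h1
    exact T.not_dvd_index ⟨i, hidx⟩
  · rw [hc, mul_comm]

end Alt

end Cfsg.Agent.S2536P
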