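import Mathlib
import Cfsg.Agent.Helper29.S2558DDefs

/-! S2558 chapter (D), piece ISODISC (helper25): isometric spaces have the same discriminant. -/

set_option autoImplicit false

namespace Cfsg.Agent.S2558P

open Cfsg.Agent.Helper2.SympInvol Cfsg.Agent.S2482P

universe u

namespace DISC

/-- (D2): basis `b` of `S.V`, `b.map φ` of `S'.V`: equal Gram matrices. -/
theorem sameDisc_of_iso {F : Type u} [Field F] {S S' : SpSpace F} (h : S.Iso S') :
    S.SameDisc S' := by
  obtain ⟨φ, hB, -⟩ := h
  refine ⟨Module.finrank F S.V, Module.finBasis F S.V, (Module.finBasis F S.V).map φ, ?_⟩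
  have hG : LinearMap.BilinForm.toMatrix ((Module.finBasis F S.V).map φ) S'.B =
      LinearMap.BilinForm.toMatrix (Module.finBasis F S.V) S.B := by
    ext i j
    rw [LinearMap.BilinForm.toMatrix_apply, LinearMap.BilinForm.toMatrix_apply,
      Module.Basis.map_apply, Module.Basis.map_apply, hB]
  rw [hG]
  exact ⟨_, rfl⟩

end DISC

end Cfsg.Agent.S2558P
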