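import Mathlib
import Cfsg.Prelude.Def_FusionSystem
import Cfsg.Prelude.Def_KGroupFacts
import Cfsg.Agent.Helper7.S2647.Defs
import Cfsg.Agent.Helper24.S2647NF

/-! # S2647 piece ZS0 (helper25): a non-trivial normal subgroup of `S0 = 2^6 : D8` meets `E0`. -/

set_option autoImplicit false
set_option linter.unusedSectionVars false
set_option linter.unusedVariables false

namespace Cfsg.Agent.S2647P

open Matrix Cfsg.Agent.Helper28.IsoTransport Cfsg.Agent.Helper28.Spin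

variable {F : Type*} [Field F]

namespace ZS0

theorem exists_third : ∀ j k : J, ∃ m : J, m ≠ j ∧ m ≠ k := by decide

theorem mulSingle_mem (j m : J) (hjm : j ≠ m) :
    (Pi.mulSingle j (-1 : ℤˣ) * Pi.mulSingle m (-1 : ℤˣ) : J → ℤˣ) ∈ Ev := by
  rw [mem_Ev]
  simp only [Pi.mul_apply, Finset.prod_mul_distrib]
  rw [Finset.prod_pi_mulSingle', Finset.prod_pi_mulSingle']
  simp

theorem comp_mem (δ : J → ℤˣ) (hδ : δ ∈ Ev) (σ : Equiv.Perm J) :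
    (fun j => δ⁻¹ (σ⁻¹ j)) ∈ Ev := by
  rw [mem_Ev] at hδ ⊢
  rw [Equiv.prod_comp σ⁻¹ (fun j => δ⁻¹ j)]
  simp only [Pi.inv_apply, Finset.prod_inv_distrib, hδ, inv_one]

end ZS0

theorem exists_dg_mem_of_normal (h2 : (2 : F) ≠ 0) (T : Subgroup (Od F)) (hT : T ≤ S0 F)
    (hT1 : T ≠ ⊥) (hn : ∀ s ∈ S0 F, ∀ t ∈ T, s * t * s⁻¹ ∈ T) :
    ∃ ε ∈ Ev, ε ≠ 1 ∧ dg F ε ∈ T := by
  obtain ⟨t, ht, ht1⟩ := (Subgroup.ne_bot_iff_exists_ne_one.1 hT1 : ∃ t : T, t ≠ 1) |>.imp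
    (fun t h => h) |> fun ⟨t, h⟩ => (⟨t.1, t.2, fun h1 => h (Subtype.ext h1)⟩ : ∃ t ∈ T, t ≠ 1)
  obtain ⟨ε, hε, σ, hσ, hte⟩ := (mem_S0_iff t).1 (hT ht)
  by_cases hσ1 : σ = 1
  · refine ⟨ε, hε, ?_, ?_⟩
    · rintro rfl
      apply ht1
      rw [hte, hσ1, map_one, map_one, mul_one]
    · rw [hσ1, map_one, mul_one] at hte
      rwa [← hte]
  · -- a point moved by `σ⁻¹`
    have hmv : ∃ j0 : J, σ⁻¹ j0 ≠ j0 := by
      by_contra hcon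
      simp only [not_exists, not_not] at hcon
      apply hσ1
      have : σ⁻¹ = 1 := Equiv.ext hcon
      rwa [inv_eq_one] at this
    obtain ⟨j0, hj0⟩ := hmv
    obtain ⟨m, hmj, hmk⟩ := ZS0.exists_third j0 (σ⁻¹ j0)
    set δ : J → ℤˣ := Pi.mulSingle j0 (-1 : ℤˣ) * Pi.mulSingle m (-1 : ℤˣ) with hδdef
    have hδ : δ ∈ Ev := ZS0.mulSingle_mem j0 m (Ne.symm hmj)
    have hδS : dg F δ ∈ S0 F := (mem_S0_iff _).2 ⟨δ, hδ, 1, Subgroup.one_mem _, by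
      rw [map_one, mul_one]⟩
    have hc : dg F δ * t * (dg F δ)⁻¹ * t⁻¹ ∈ T := T.mul_mem (hn _ hδS t ht) (T.inv_mem ht)
    have e : dg F δ * t * (dg F δ)⁻¹ * t⁻¹ =
        dg F (δ * ε * (fun j => δ⁻¹ (σ⁻¹ j)) * ε⁻¹) := by
      rw [hte]
      calc dg F δ * (dg F ε * pm F σ) * (dg F δ)⁻¹ * (dg F ε * pm F σ)⁻¹
          = dg F δ * dg F ε * (pm F σ * dg F δ⁻¹ * (pm F σ)⁻¹) * (dg F ε)⁻¹ := by
            rw [map_inv]; group
        _ = dg F δ * dg F ε * dg F (fun j => δ⁻¹ (σ⁻¹ j)) * (dg F ε)⁻¹ := by rw [NF.pm_dg_conj']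
        _ = dg F (δ * ε * (fun j => δ⁻¹ (σ⁻¹ j)) * ε⁻¹) := by simp only [map_mul, map_inv]
    rw [e] at hc
    refine ⟨_, ?_, ?_, hc⟩
    · exact Ev.mul_mem (Ev.mul_mem (Ev.mul_mem hδ hε) (ZS0.comp_mem δ hδ σ)) (Ev.inv_mem hε)
    · intro h1
      have := congrFun h1 j0
      simp only [Pi.mul_apply, Pi.inv_apply, Pi.one_apply] at this
      have hδj : δ j0 = -1 := by
        rw [hδdef, Pi.mul_apply, Pi.mulSingle_eq_same, Pi.mulSingle_eq_of_ne (Ne.symm hmj), mul_one]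
      have hδk : δ (σ⁻¹ j0) = 1 := by
        rw [hδdef, Pi.mul_apply, Pi.mulSingle_eq_of_ne hj0, Pi.mulSingle_eq_of_ne (Ne.symm hmk),
          mul_one]
      rw [hδj, hδk] at this
      have h3 : (-1 : ℤˣ) * ε j0 * (1 : ℤˣ)⁻¹ * (ε j0)⁻¹ = -1 := by
        rw [inv_one, mul_one, mul_inv_cancel_right]
      rw [h3] at this
      exact absurd this (by decide)
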