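import Cfsg.Agent.S2855P.Defs

/-!
S2855 piece EXT: strong `p`-irreducibility of `E` (with `O_p(E) = 1`) read inside the ambient group.
-/

set_option autoImplicit false

namespace Cfsg.Agent.S2855P

open Cfsg
open scoped commutatorElement

section General

variable {G : Type*} [Group G] [Finite G] {p : ℕ} [Fact p.Prime]

/-- piece EXT: strong `p`-irreducibility of `E` (with `O_p(E) = 1`) read inside the ambient group. -/
theorem spi_ext (E : Subgroup G) (hE : IsStronglyPIrreducible p ↥E) (hcore : pCore p ↥E = ⊥)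
    (N : Subgroup G) (hNE : N ≤ E) (hEN : E ≤ Subgroup.normalizer (N : Set G))
    (hc : ¬ ∀ n ∈ N, ∀ e ∈ E, n * e = e * n) : resOf p E ≤ N := by
  have hnorm : (N.subgroupOf E).Normal := by
    refine ⟨fun n hn e => ?_⟩
    rw [Subgroup.mem_subgroupOf] at hn ⊢
    have := (Subgroup.mem_normalizer_iff.mp (hEN e.2) (n : G)).mp hn
    simpa using this
  have hnot : ¬ ⁅N.subgroupOf E, (⊤ : Subgroup ↥E)⁆ ≤ pCore p ↥E := by
    intro hle
    apply hc
    intro n hn e he
    have h1 : ⁅(⟨n, hNE hn⟩ : ↥E), (⟨e, he⟩ : ↥E)⁆ ∈ ⁅N.subgroupOf E, (⊤ : Subgroup ↥E)⁆ :=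
      Subgroup.commutator_mem_commutator (by rw [Subgroup.mem_subgroupOf]; exact hn)
        (Subgroup.mem_top _)
    have h2 := hle h1
    rw [hcore, Subgroup.mem_bot] at h2
    have h3 : (⟨n, hNE hn⟩ : ↥E) * ⟨e, he⟩ = ⟨e, he⟩ * ⟨n, hNE hn⟩ :=
      commutatorElement_eq_one_iff_mul_comm.mp h2
    exact congrArg Subtype.val h3
  have hres := hE.2 _ hnorm hnot
  unfold resOf
  rw [Subgroup.closure_le]
  rintro g ⟨hgE, hgp⟩
  have hmem : (⟨g, hgE⟩ : ↥E) ∈ pResidual p ↥E := by
    unfold pResidual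
    apply Subgroup.subset_closure
    show Nat.Coprime (orderOf (⟨g, hgE⟩ : ↥E)) p
    rw [Subgroup.orderOf_mk]
    exact hgp
  have := hres hmem
  rw [Subgroup.mem_subgroupOf] at this
  exact this

end General

end Cfsg.Agent.S2855P
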