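import Cfsg.Agent.S2855P.Defs

/-!
S2855 piece NPC: a subgroup of `E` containing all `p`-elements of `E` is not central in `E`
when `E` is not `p`-closed.
-/

set_option autoImplicit false

namespace Cfsg.Agent.S2855P

open Cfsg
open scoped commutatorElement

section General

variable {G : Type*} [Group G] [Finite G] {p : ℕ} [Fact p.Prime]

/-- piece NPC: a subgroup of `E` containing all `p`-elements of `E` is not central in `E`
when `E` is not `p`-closed. -/
theorem not_central_of_pElements (E : Subgroup G) (hE : ¬ IsPClosed p ↥E) (C : Subgroup G)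
    (hCE : C ≤ E) (hp : ∀ t ∈ E, (∃ k : ℕ, t ^ (p ^ k) = 1) → t ∈ C) :
    ¬ ∀ c ∈ C, ∀ e ∈ E, c * e = e * c := by
  intro hcen
  apply hE
  intro P
  refine ⟨fun t ht e => ?_⟩
  obtain ⟨k, hk⟩ := P.isPGroup' ⟨t, ht⟩
  have hk' : (t : G) ^ (p ^ k) = 1 := by
    have := congrArg (fun x : (P : Subgroup ↥E) => ((x : ↥E) : G)) hk
    simpa using this
  have htC : (t : G) ∈ C := hp _ t.2 ⟨k, hk'⟩
  have hcomm : (t : G) * (e : G) = (e : G) * (t : G) := hcen _ htC _ e.2
  have : e * t * e⁻¹ = t := by
    apply Subtype.ext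
    simp only [Subgroup.coe_mul, Subgroup.coe_inv]
    rw [← hcomm, mul_inv_cancel_right]
  rw [this]
  exact ht

end General

end Cfsg.Agent.S2855P
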