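import Mathlib
import Cfsg.Agent.Helper25.S2981BDefs
import Cfsg.Agent.Helper20.S2981Glue
import Cfsg.Agent.Helper20.S2981Repl
import Cfsg.Agent.Helper6.S3000EXOFF

/-! S2981, the glue between part (A) (helper20: `result_of_partB`, `exists_hypHat`, `exact_suboffender`) and part (B)
(`PARTB`, board `s2981pieces`): from the statement of `PARTB` in `Hol V`, a family in `Hol V` with the conclusion of S3000
whose join is the image of `J(G)`. -/

set_option autoImplicit false

namespace Cfsg.Agent.S2981P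

open Cfsg Subgroup
open Cfsg.Agent.S2789P Cfsg.Agent.S2999P Cfsg.Agent.S3000P
open scoped commutatorElement

variable {G : Type*} [Group G] [Finite G] {p : ℕ} [Fact p.Prime] {T : Sylow p G} {V M : Subgroup G}

/-- the image of a member of `𝒜(G)` is an exact offender of `Phat V` on `Vhat V` -/
theorem GLUE_aux_off [V.Normal] {That : Sylow p ↥(Phat V)} {Mhat : Subgroup ↥(Phat V)}
    (Hy : Hyp p (Vhat V) (Phat V) That Mhat) (hV : IsElementaryAbelian p V) {A : Subgroup G}
    (hA : A ∈ maxElementaryAbelianSubgroups p G) : Off p (Vhat V) (Phat V) (A.map (piH V)) := by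
  have hle : A.map (piH V) ≤ Phat V := by
    rintro _ ⟨a, -, rfl⟩
    exact ⟨a, rfl⟩
  have hel : IsElementaryAbelian p (A.map (piH V)) := Cfsg.Agent.Helper26.isElementaryAbelian_map _ hA.1
  refine ⟨hle, hel, le_antisymm (F2 Hy _ hle hel) ?_⟩
  have h1 := (bestOffender_map hV hA).1 ⊥ bot_le
  have h2 : Nat.card ↥(Vhat V ⊓ centralizer (((⊥ : Subgroup (Hol V)) : Subgroup (Hol V)) : Set (Hol V))) =
      Nat.card ↥(Vhat V) := by
    have : Vhat V ⊓ centralizer (((⊥ : Subgroup (Hol V)) : Subgroup (Hol V)) : Set (Hol V)) = Vhat V := by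
      apply inf_eq_left.mpr
      intro v _
      rw [mem_centralizer_iff]
      intro y hy
      have : y = 1 := by simpa using hy
      rw [this, one_mul, mul_one]
    rw [this]
  rw [h2, Subgroup.card_bot, one_mul] at h1
  exact h1

/-- conjugation commutes with `piH` -/
theorem GLUE_aux_cjs_map [V.Normal] (g : G) (A : Subgroup G) :
    cjs (piH V g) (A.map (piH V)) = (cjs g A).map (piH V) := by
  unfold cjs
  exact (map_piH_conj V g A).symm

/-- conjugates of members of `𝒜(G)` are members of `𝒜(G)` -/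
theorem GLUE_aux_conj_mem {A : Subgroup G} (hA : A ∈ maxElementaryAbelianSubgroups p G) (g : G) :
    cjs g A ∈ maxElementaryAbelianSubgroups p G :=
  Cfsg.Agent.Helper26.map_mem_maxElementaryAbelianSubgroups (MulAut.conj g) hA

/-- the glue (core; `hPARTB` is the statement of `PARTB` in `Hol V`) -/
theorem GLUE_core [hVn : V.Normal] (S : Setting p T V M)
    (hPARTB : ∀ (That : Sylow p ↥(Phat V)) (Mhat : Subgroup ↥(Phat V)), Hyp p (Vhat V) (Phat V) That Mhat →
      (∃ A : Subgroup (Hol V), A ≤ Phat V ∧ StrictOff p (Vhat V) A) →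
      ∃ (r : ℕ) (E : Fin r → Subgroup (Hol V)), PartBFam p (Vhat V) (Phat V) (TT That) r E) :
    ∃ (r : ℕ) (Eh : Fin r → Subgroup (Hol V)),
      ConclFam p (Vhat V) (Phat V) ((T : Subgroup G).map (piH V)) r Eh ∧
      (⨆ i, Eh i) = (thompsonSubgroup p G).map (piH V) := by
  classical
  obtain ⟨That, Mhat, Hy, hT, -, A, hAP, hAC, hAoff⟩ := exists_hypHat S
  have hoff : ∃ A : Subgroup (Hol V), A ≤ Phat V ∧ StrictOff p (Vhat V) A := EXOFF Hy ⟨A, hAP, hAC, hAoff⟩
  obtain ⟨r, E, hC, -, hB2, hB3⟩ := hPARTB That Mhat Hy hoff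
  refine ⟨r, E, ?_, ?_⟩
  · have hT' : TT That = (T : Subgroup G).map (piH V) := hT
    rw [← hT']
    exact hC
  · apply le_antisymm
    · obtain ⟨A₀, hA₀, hA₀C⟩ := S.exists_offender
      have hOffA := GLUE_aux_off Hy S.hV hA₀
      have hne : A₀.map (piH V) ≠ ⊥ := by
        intro h
        apply hA₀C
        rw [← map_piH_le_centralizer_Vhat, h]
        exact bot_le
      obtain ⟨B₁, hB₁le, hB₁S⟩ := OFFQ_aux_strict_le Hy hOffA hne
      have hB₁P : B₁ ≤ Phat V := hB₁le.trans hOffA.le
      have hB₁off := StrictOff.off Hy hB₁P hB₁S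
      have hcard : Nat.card ↥B₁ * Nat.card ↥(Vhat V ⊓ centralizer ((B₁ : Subgroup (Hol V)) : Set (Hol V))) =
          Nat.card ↥(A₀.map (piH V)) *
            Nat.card ↥(Vhat V ⊓ centralizer ((A₀.map (piH V) : Subgroup (Hol V)) : Set (Hol V))) := by
        have e1 := hB₁off.val
        have e2 := hOffA.val
        unfold fixV at e1 e2
        rw [e1, e2]
      obtain ⟨A', hA', hA'map⟩ := exact_suboffender V S.hV hA₀ hB₁le hcard
      refine (hB3 B₁ hB₁P hB₁S).trans ?_
      apply iSup_le
      rintro ⟨x, hx⟩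
      obtain ⟨g, rfl⟩ := hx
      rw [← hA'map]
      show cjs (piH V g) (A'.map (piH V)) ≤ _
      rw [GLUE_aux_cjs_map]
      apply Subgroup.map_mono
      unfold thompsonSubgroup
      exact le_sSup (GLUE_aux_conj_mem hA' g)
    · unfold thompsonSubgroup
      rw [sSup_eq_iSup, Subgroup.map_iSup]
      apply iSup_le
      intro A'
      rw [Subgroup.map_iSup]
      apply iSup_le
      intro hA'
      exact hB2 _ (GLUE_aux_off Hy S.hV hA')

end Cfsg.Agent.S2981P
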