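import Mathlib
import Cfsg.Agent.Helper25.S2981BDefs
import Cfsg.Agent.Helper28.S2981STRUCT
import Cfsg.Agent.Helper28.S2981PKGT
import Cfsg.Agent.Helper28.S2981GENN
import Cfsg.Agent.Helper28.S2981OFFNTcore
import Cfsg.Agent.Helper21.S2981NCLcore
import Cfsg.Agent.Helper15.S2981ALLQ
import Cfsg.Agent.Helper1.S2981OFFSTEP
import Cfsg.Agent.Helper29.S2981Q2_PARTB2
import Cfsg.Agent.Helper19.S3000BASIC

/-! S2981 part (B), assembly (board `s2981pieces`, row ASM): `PARTBq` (`q > 2`, from the rows PKGT, STRUCT, NNORM, ALLQ,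
OFFSTEP and the cores of OFFNT/OFFN/NCL) and `PARTB` (`EXQ`/`QGE2` + `PARTB2` (helper29) + `PARTBq`). -/

set_option autoImplicit false

namespace Cfsg.Agent.S2981P

open Cfsg.Agent.S2789P Cfsg.Agent.S2999P Cfsg.Agent.S3000P
open scoped commutatorElement

variable {G : Type*} [Group G] [Finite G] {p : ℕ} [Fact p.Prime] {V P : Subgroup G} {T : Sylow p ↥P} {M : Subgroup ↥P} {q : ℕ}

/-- PARTBq: part (B) for `q > 2` -/
theorem PARTBq (Hy : Hyp p V P T M) (hq : MinQ p V P q) (hq2 : 2 < q) :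
    ∃ (r : ℕ) (Ef : Fin r → Subgroup G), PartBFam p V P (TT T) r Ef := by
  obtain ⟨A, E, X⟩ := PkgT.exists Hy hq
  obtain ⟨r, Ef, h1, h2⟩ := STRUCT Hy hq hq2 X
  have hALLQ : ∀ B₁ : Subgroup G, B₁ ≤ TT T → StrictOff p V B₁ → ∃ t ∈ TT T, B₁ = cjs t A :=
    fun _ hBT hB => ALLQ Hy hq hq2 X hBT hB
  refine ⟨r, Ef, h1, ?_, ?_, ?_⟩
  · rw [h2]; exact NNORM Hy X
  · intro B hB
    rw [h2]
    exact OFFN_core Hy X (fun B' hB' hB'T => OFFNT_core Hy X hALLQ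
      (fun t ht B'' hB'' hT'' hle => OFFSTEP Hy hq hq2 (X.conj Hy ht) hB'' hT'' hle) hB' hB'T) hB
  · intro B₁ hBP hB
    rw [h2]
    exact NCL_aux_core Hy hq2 X hBP hB hALLQ

/-- PARTB: part (B) of S2981 -/
theorem PARTB (Hy : Hyp p V P T M) (hoff : ∃ A : Subgroup G, A ≤ P ∧ StrictOff p V A) :
    ∃ (r : ℕ) (E : Fin r → Subgroup G), PartBFam p V P (TT T) r E := by
  obtain ⟨q, hq⟩ := EXQ hoff
  have h2 : 2 ≤ q := QGE2 hq
  rcases eq_or_lt_of_le h2 with h | h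
  · subst h
    exact PARTB2 Hy hq
  · exact PARTBq Hy hq h

end Cfsg.Agent.S2981P
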