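import Mathlib
import Cfsg.Prelude.Def_Transfer

set_option autoImplicit false

/-! S3154 piece BIG: an elementary abelian 2-group of order 16 has three independent elements. -/

namespace Cfsg.Agent.S3154P

open Matrix

/-- BIG: an elementary abelian 2-group of order 16 has three "independent" elements. -/
theorem BIG {L : Type*} [Group L] (A : Subgroup L) (hA : Cfsg.IsElementaryAbelian 2 A)
    (hc : Nat.card A = 16) :
    ∃ x ∈ A, ∃ y ∈ A, ∃ w ∈ A, x ≠ 1 ∧ y ≠ 1 ∧ w ≠ 1 ∧ x * y ≠ 1 ∧ x * w ≠ 1 ∧ y * w ≠ 1 ∧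
      x * (y * w) ≠ 1 := by
  classical
  obtain ⟨-, h2⟩ := hA
  have hfin : Finite A := Nat.finite_of_card_ne_zero (by omega)
  have hft : Fintype A := Fintype.ofFinite A
  have hcard : Fintype.card A = 16 := by rw [← Nat.card_eq_fintype_card, hc]
  have key : ∀ S : Finset A, S.card ≤ 4 → ∃ a : A, a ∉ S := by
    intro S hS
    by_contra h
    push Not at h
    have hu : S = Finset.univ := Finset.eq_univ_iff_forall.mpr h
    rw [hu, Finset.card_univ, hcard] at hS
    omega
  obtain ⟨x, hx⟩ := key {1} (by simp)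
  obtain ⟨y, hy⟩ := key {1, x} (Finset.card_le_two.trans (by norm_num))
  obtain ⟨w, hw⟩ := key {1, x, y, x * y} (Finset.card_le_four.trans le_rfl)
  simp only [Finset.mem_insert, Finset.mem_singleton, not_or] at hx hy hw
  have hsq : ∀ a : A, (a : L) * (a : L) = 1 := fun a => by rw [← pow_two]; exact h2 a a.2
  have hne : ∀ a b : A, a ≠ b → (a : L) ≠ (b : L) := fun a b h h' => h (Subtype.ext h')
  refine ⟨x, x.2, y, y.2, w, w.2, hne x 1 hx, hne y 1 hy.1, hne w 1 hw.1, ?_, ?_, ?_, ?_⟩
  · intro h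
    rw [← hsq y] at h
    exact hne y x hy.2 (mul_right_cancel h).symm
  · intro h
    rw [← hsq w] at h
    exact hne w x hw.2.1 (mul_right_cancel h).symm
  · intro h
    rw [← hsq w] at h
    exact hne w y hw.2.2.1 (mul_right_cancel h).symm
  · intro h
    rw [← mul_assoc, ← hsq w] at h
    have h' : (x : L) * (y : L) = (w : L) := mul_right_cancel h
    exact hne w (x * y) hw.2.2.2 (by rw [Subgroup.coe_mul]; exact h'.symm)

end Cfsg.Agent.S3154P
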