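import Mathlib

set_option autoImplicit false

/-! S3154 piece CENTER: `H ⊓ K` is the centre of `H ⊔ K` when `H`, `K` are abelian and this holds
modulo a kernel contained in both. -/

namespace Cfsg.Agent.S3154P

open Matrix

/-- CENTER -/
theorem CENTER {X L : Type*} [Group X] [Group L] (π : X →* L) (H K : Subgroup X)
    (hkH : π.ker ≤ H) (hkK : π.ker ≤ K) (hHc : IsMulCommutative H) (hKc : IsMulCommutative K)
    (hcent : ∀ t ∈ (H ⊔ K).map π, (∀ s ∈ (H ⊔ K).map π, s * t = t * s) → t ∈ H.map π ⊓ K.map π) :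
    H ⊓ K = (Subgroup.center ↥(H ⊔ K)).map (H ⊔ K).subtype := by
  ext g
  constructor
  · rintro ⟨hgH, hgK⟩
    have hgHK : g ∈ H ⊔ K := Subgroup.mem_sup_left hgH
    refine ⟨⟨g, hgHK⟩, ?_, rfl⟩
    rw [SetLike.mem_coe, Subgroup.mem_center_iff]
    rintro ⟨s, hs⟩
    apply Subtype.ext
    change s * g = g * s
    have hle : H ⊔ K ≤ Subgroup.centralizer ({g} : Set X) := by
      refine sup_le ?_ ?_
      · intro h hh
        rw [Subgroup.mem_centralizer_iff]
        intro c hc
        rw [Set.mem_singleton_iff] at hc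
        subst hc
        have := hHc.is_comm.comm (⟨c, hgH⟩ : H) ⟨h, hh⟩
        exact congrArg Subtype.val this
      · intro k hk
        rw [Subgroup.mem_centralizer_iff]
        intro c hc
        rw [Set.mem_singleton_iff] at hc
        subst hc
        have := hKc.is_comm.comm (⟨c, hgK⟩ : K) ⟨k, hk⟩
        exact congrArg Subtype.val this
    have := hle hs
    rw [Subgroup.mem_centralizer_iff] at this
    exact (this g rfl).symm
  · rintro ⟨⟨g', hg'⟩, hc, rfl⟩
    rw [SetLike.mem_coe, Subgroup.mem_center_iff] at hc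
    have hπ : π g' ∈ H.map π ⊓ K.map π := by
      refine hcent (π g') ⟨g', hg', rfl⟩ ?_
      rintro s ⟨s', hs', rfl⟩
      have := hc ⟨s', hs'⟩
      have h' : s' * g' = g' * s' := congrArg Subtype.val this
      rw [← map_mul, ← map_mul, h']
    obtain ⟨⟨h, hh, hh'⟩, ⟨k, hk, hk'⟩⟩ := hπ
    constructor
    · have hker : g' * h⁻¹ ∈ π.ker := by
        rw [MonoidHom.mem_ker, map_mul, map_inv, hh', mul_inv_cancel]
      have := H.mul_mem (hkH hker) hh
      simpa using this
    · have hker : g' * k⁻¹ ∈ π.ker := by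
        rw [MonoidHom.mem_ker, map_mul, map_inv, hk', mul_inv_cancel]
      have := K.mul_mem (hkK hker) hk
      simpa using this

end Cfsg.Agent.S3154P
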