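import Mathlib
import Cfsg.Prelude.Def_Solvable
import Cfsg.Prelude.Def_TwoFusion

set_option autoImplicit false
set_option linter.unusedSectionVars false
set_option linter.unusedVariables false

/-! S3206 piece S8: `S = ⟨t⟩ × V` with `V` a four-group is elementary abelian of order 8. -/

namespace Cfsg.Agent.S3206P

/-- S8: `S = ⟨t⟩ × V` with `V` a four-group is elementary abelian of order 8. -/
theorem S8 {G : Type*} [Group G] [Finite G] (t : G) (ht : orderOf t = 2) (E : Subgroup G)
    (hE : Cfsg.IsInternalDirectProduct (Subgroup.zpowers t) E (Subgroup.centralizer ({t} : Set G)))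
    (N : Subgroup ↥E) (V : Sylow 2 ↥N) (S : Sylow 2 G)
    (hV4 : Nat.card ↥(V : Subgroup ↥N) = 4) (hV2 : ∀ v ∈ (V : Subgroup ↥N), v ^ 2 = 1)
    (htS : t ∈ (S : Subgroup G))
    (hVS : ∀ v : ↥N, v ∈ (V : Subgroup ↥N) → ((v : ↥E) : G) ∈ (S : Subgroup G))
    (hdec : ∀ s ∈ (S : Subgroup G), ∃ i : ℕ, ∃ v : ↥N, v ∈ (V : Subgroup ↥N) ∧
      s = t ^ i * ((v : ↥E) : G)) :
    Nat.card ↥(S : Subgroup G) = 8 ∧ ∀ x ∈ (S : Subgroup G), x ^ 2 = 1 := by
  classical
  obtain ⟨-, -, hcomm, hinf, -⟩ := hE
  have ht2 : t ^ 2 = 1 := by rw [← ht]; exact pow_orderOf_eq_one t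
  have ht1 : t ≠ 1 := by
    intro h
    rw [h, orderOf_one] at ht
    omega
  -- `t` commutes with the elements of `E`
  have htE : ∀ e : ↥E, t * (e : G) = (e : G) * t :=
    fun e => hcomm t (Subgroup.mem_zpowers t) e e.2
  have htiE : ∀ (i : ℕ) (e : ↥E), t ^ i * (e : G) = (e : G) * t ^ i := by
    intro i e
    exact hcomm (t ^ i) (Subgroup.pow_mem _ (Subgroup.mem_zpowers t) i) e e.2
  refine ⟨?_, ?_⟩
  · -- the bijection `Bool × V → S`
    let f : Bool × ↥(V : Subgroup ↥N) → ↥(S : Subgroup G) := fun p =>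
      ⟨(if p.1 then t else 1) * (((p.2 : ↥N) : ↥E) : G),
        (S : Subgroup G).mul_mem (by split_ifs; exact htS; exact (S : Subgroup G).one_mem)
          (hVS p.2 p.2.2)⟩
    have hpow : ∀ i : ℕ, t ^ i = if i % 2 = 1 then t else 1 := by
      intro i
      have h1 : t ^ i = t ^ (i % 2) := by
        conv_lhs => rw [← Nat.div_add_mod i 2, pow_add, pow_mul, ht2, one_pow, one_mul]
      rw [h1]
      rcases Nat.mod_two_eq_zero_or_one i with h | h <;> simp [h]
    have hinj : Function.Injective f := by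
      rintro ⟨a, v⟩ ⟨b, w⟩ hab
      have hab' : (if a then t else 1) * (((v : ↥N) : ↥E) : G) =
          (if b then t else 1) * (((w : ↥N) : ↥E) : G) := congrArg Subtype.val hab
      -- the quotient lies in `⟨t⟩ ⊓ E`
      have hx : ((if b then t else 1) : G)⁻¹ * (if a then t else 1) =
          (((w : ↥N) : ↥E) : G) * ((((v : ↥N) : ↥E) : G))⁻¹ := by
        have := hab'
        calc ((if b then t else 1) : G)⁻¹ * (if a then t else 1)
            = ((if b then t else 1) : G)⁻¹ * ((if a then t else 1) * (((v : ↥N) : ↥E) : G)) *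
                ((((v : ↥N) : ↥E) : G))⁻¹ := by group
          _ = ((if b then t else 1) : G)⁻¹ * ((if b then t else 1) * (((w : ↥N) : ↥E) : G)) *
                ((((v : ↥N) : ↥E) : G))⁻¹ := by rw [this]
          _ = _ := by group
      have hmemZ : ((if b then t else 1) : G)⁻¹ * (if a then t else 1) ∈ Subgroup.zpowers t := by
        apply Subgroup.mul_mem
        · apply Subgroup.inv_mem
          split_ifs
          · exact Subgroup.mem_zpowers t
          · exact Subgroup.one_mem _
        · split_ifs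
          · exact Subgroup.mem_zpowers t
          · exact Subgroup.one_mem _
      have hmemE : ((if b then t else 1) : G)⁻¹ * (if a then t else 1) ∈ E := by
        rw [hx]
        exact E.mul_mem ((w : ↥N) : ↥E).2 (E.inv_mem ((v : ↥N) : ↥E).2)
      have hone : ((if b then t else 1) : G)⁻¹ * (if a then t else 1) = 1 := by
        have : ((if b then t else 1) : G)⁻¹ * (if a then t else 1) ∈ Subgroup.zpowers t ⊓ E :=
          ⟨hmemZ, hmemE⟩
        rw [hinf, Subgroup.mem_bot] at this
        exact this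
      have hab1 : a = b := by
        cases a <;> cases b <;> simp at hone ⊢
        · exact ht1 hone
        · exact ht1 hone
      have hvw : v = w := by
        rw [hone] at hx
        have h2 : (((w : ↥N) : ↥E) : G) = (((v : ↥N) : ↥E) : G) := by
          have := hx
          calc (((w : ↥N) : ↥E) : G) = ((((w : ↥N) : ↥E) : G) * ((((v : ↥N) : ↥E) : G))⁻¹) *
                (((v : ↥N) : ↥E) : G) := by group
            _ = 1 * (((v : ↥N) : ↥E) : G) := by rw [← this]
            _ = _ := one_mul _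
        exact (Subtype.ext (Subtype.ext (Subtype.ext h2))).symm
      rw [hab1, hvw]
    have hsurj : Function.Surjective f := by
      rintro ⟨s, hs⟩
      obtain ⟨i, v, hv, hsv⟩ := hdec s hs
      refine ⟨(decide (i % 2 = 1), ⟨v, hv⟩), ?_⟩
      apply Subtype.ext
      show (if decide (i % 2 = 1) = true then t else 1) * ((v : ↥E) : G) = s
      rw [hsv, hpow i]
      simp
    have hcard := Nat.card_congr (Equiv.ofBijective f ⟨hinj, hsurj⟩)
    rw [← hcard, Nat.card_prod, hV4]
    simp
  · intro x hx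
    obtain ⟨i, v, hv, hxv⟩ := hdec x hx
    have hv2 : (((v : ↥N) : ↥E) : G) ^ 2 = 1 := by
      have := hV2 v hv
      have h2 : (((v ^ 2 : ↥N) : ↥E) : G) = 1 := by rw [this]; rfl
      simpa using h2
    rw [hxv, pow_two]
    calc t ^ i * ((v : ↥E) : G) * (t ^ i * ((v : ↥E) : G))
        = t ^ i * (((v : ↥E) : G) * t ^ i) * ((v : ↥E) : G) := by group
      _ = t ^ i * (t ^ i * ((v : ↥E) : G)) * ((v : ↥E) : G) := by rw [htiE i (v : ↥E)]
      _ = (t ^ 2) ^ i * (((v : ↥E) : G) ^ 2) := by
          rw [← pow_mul, mul_comm 2 i, pow_mul, pow_two, pow_two]; group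
      _ = 1 := by rw [ht2, one_pow, hv2, one_mul]

end Cfsg.Agent.S3206P
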