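import Mathlib
import Cfsg.Prelude.Def_Solvable
import Cfsg.Prelude.Def_TwoFusion
import Cfsg.Agent.Helper5.S3206SE

set_option autoImplicit false
set_option linter.unusedSectionVars false
set_option linter.unusedVariables false

/-! S3206 piece SEQ: `S = ⟨t⟩ × V`: every element of `S` is `t ^ i * v` with `v ∈ V`. -/

namespace Cfsg.Agent.S3206P

/-- decomposition of an element of `⟨t⟩ ⊔ E` when `⟨t⟩` and `E` commute -/
theorem SEQ.aux_sup {G : Type*} [Group G] (t : G) (E : Subgroup G)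
    (hcomm : ∀ a ∈ Subgroup.zpowers t, ∀ b ∈ E, a * b = b * a) (s : G)
    (hs : s ∈ Subgroup.zpowers t ⊔ E) : ∃ a ∈ Subgroup.zpowers t, ∃ e ∈ E, s = a * e := by
  have hc : ∀ (m : ↥(Subgroup.zpowers t)) (n : ↥E),
      Commute ((Subgroup.zpowers t).subtype m) (E.subtype n) := fun m n => hcomm m m.2 n n.2
  have hr := MonoidHom.noncommCoprod_range (Subgroup.zpowers t).subtype E.subtype hc
  rw [Subgroup.range_subtype, Subgroup.range_subtype] at hr
  rw [← hr] at hs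
  obtain ⟨⟨a, e⟩, hae⟩ := hs
  exact ⟨a, a.2, e, e.2, hae.symm⟩

/-- SEQ: `S = ⟨t⟩ × V`: every element of `S` is `t ^ i * v` with `v ∈ V`. -/
theorem SEQ {G : Type*} [Group G] [Finite G] (t : G) (ht : orderOf t = 2) (E : Subgroup G)
    (hE : Cfsg.IsInternalDirectProduct (Subgroup.zpowers t) E (Subgroup.centralizer ({t} : Set G)))
    (N : Subgroup ↥E) [N.Normal] (hNc : Subgroup.centralizer (N : Set ↥E) = ⊥)
    (hcore : Cfsg.pPrimeCore 2 ↥N = ⊥) (V : Sylow 2 ↥N) (S : Sylow 2 G)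
    (hSab : ∀ x ∈ (S : Subgroup G), ∀ y ∈ (S : Subgroup G), x * y = y * x)
    (htS : t ∈ (S : Subgroup G))
    (hVS : ∀ v : ↥N, v ∈ (V : Subgroup ↥N) → ((v : ↥E) : G) ∈ (S : Subgroup G)) :
    ∀ s ∈ (S : Subgroup G), ∃ i : ℕ, ∃ v : ↥N, v ∈ (V : Subgroup ↥N) ∧ s = t ^ i * ((v : ↥E) : G) := by
  classical
  obtain ⟨-, -, hcomm, hinf, hsup⟩ := hE
  intro s hs
  -- `s` centralises `t`
  have hsC : s ∈ Subgroup.centralizer ({t} : Set G) := by
    rw [Subgroup.mem_centralizer_singleton_iff]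
    exact hSab s hs t htS
  rw [← hsup] at hsC
  obtain ⟨a, ha, e, he, hsae⟩ := SEQ.aux_sup t E hcomm s hsC
  -- `a` is a natural power of `t`
  have hfin : IsOfFinOrder t := isOfFinOrder_of_finite t
  obtain ⟨i, hi⟩ : ∃ i : ℕ, t ^ i = a := by
    have := (hfin.mem_powers_iff_mem_zpowers).mpr ha
    exact (Submonoid.mem_powers_iff a t).mp this
  -- `e ∈ S`
  have haS : a ∈ (S : Subgroup G) := by rw [← hi]; exact Subgroup.pow_mem _ htS i
  have heS : e ∈ (S : Subgroup G) := by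
    have : e = a⁻¹ * s := by rw [hsae]; group
    rw [this]
    exact (S : Subgroup G).mul_mem ((S : Subgroup G).inv_mem haS) hs
  -- `e` has 2-power order
  have he2 : ∃ j : ℕ, orderOf (⟨e, he⟩ : ↥E) = 2 ^ j := by
    obtain ⟨j, hj⟩ := (IsPGroup.iff_orderOf.mp S.isPGroup') (⟨e, heS⟩ : ↥(S : Subgroup G))
    refine ⟨j, ?_⟩
    have h1 : orderOf (⟨e, he⟩ : ↥E) = orderOf e := Subgroup.orderOf_mk e he
    have h2 : orderOf (⟨e, heS⟩ : ↥(S : Subgroup G)) = orderOf e := Subgroup.orderOf_mk e heS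
    rw [h1, ← h2, hj]
  -- `e` commutes with `V`
  have hVab : ∀ x ∈ (V : Subgroup ↥N), ∀ y ∈ (V : Subgroup ↥N), x * y = y * x := by
    intro x hx y hy
    apply Subtype.ext
    apply Subtype.ext
    exact hSab _ (hVS x hx) _ (hVS y hy)
  have hcommV : ∀ v : ↥N, v ∈ (V : Subgroup ↥N) → (⟨e, he⟩ : ↥E) * (v : ↥E) = (v : ↥E) * ⟨e, he⟩ := by
    intro v hv
    apply Subtype.ext
    exact hSab e heS _ (hVS v hv)
  obtain ⟨v, hv, hev⟩ := SE N hcore hNc V hVab ⟨e, he⟩ he2 hcommV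
  refine ⟨i, v, hv, ?_⟩
  rw [hsae, hi]
  congr 1
  exact congrArg Subtype.val hev

end Cfsg.Agent.S3206P
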