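import Mathlib
import Cfsg.Agent.Helper12.S3222Defs

set_option autoImplicit false

/-! S3222 piece DIH: the centraliser of `z` in `M` is dihedral of order 8. -/

namespace Cfsg.Agent.S3222P

/-- `z = [r, a]` lies in every normal subgroup of index 2. -/
theorem DIH_aux_comm_mem {G : Type*} [Group G] (M : Subgroup G) [M.Normal] (hM : M.index = 2)
    (r a : G) : r * a * r⁻¹ * a⁻¹ ∈ M := by
  rw [Subgroup.mul_mem_iff_of_index_two hM, inv_mem_iff]
  constructor
  · intro h
    have := ‹M.Normal›.conj_mem _ h r⁻¹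
    simpa [mul_assoc] using this
  · intro h
    exact ‹M.Normal›.conj_mem _ h r

/-- The centraliser in `M` of an element of `M` is the centraliser in `G` intersected with `M`. -/
theorem DIH_aux_cent {G : Type*} [Group G] (M : Subgroup G) (z : G) (hz : z ∈ M) :
    Subgroup.centralizer ({(⟨z, hz⟩ : ↥M)} : Set ↥M)
      = (Subgroup.centralizer ({z} : Set G) ⊓ M).subgroupOf M := by
  ext x
  rw [Subgroup.mem_subgroupOf, Subgroup.mem_inf, Subgroup.mem_centralizer_iff,
    Subgroup.mem_centralizer_iff]
  constructor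
  · intro h
    refine ⟨?_, x.2⟩
    intro y hy
    rw [Set.mem_singleton_iff] at hy
    subst hy
    have := h ⟨y, hz⟩ rfl
    exact congrArg Subtype.val this
  · rintro ⟨h, -⟩ y hy
    rw [Set.mem_singleton_iff] at hy
    subst hy
    exact Subtype.ext (h z rfl)

theorem DIH {G : Type*} [Group G] [Finite G] (t : G) (T : Sylow 2 G) (z a r : G)
    (L : Local t T) (F : Fus t T z a r) (M : Subgroup G) [M.Normal] (hM : M.index = 2)
    (htM : t ∉ M) :
    ∃ zM : ↥M, orderOf zM = 2 ∧
      Nonempty (↥(Subgroup.centralizer ({zM} : Set ↥M)) ≃* DihedralGroup 4) := by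
  have hzM : z ∈ M := by
    rw [F.hcomm]
    exact DIH_aux_comm_mem M hM r a
  refine ⟨⟨z, hzM⟩, ?_, ?_⟩
  · rw [Subgroup.orderOf_mk]
    exact F.hz
  · set Q : Subgroup G := (T : Subgroup G) ⊓ M with hQ
    have hQT : Q ≤ (T : Subgroup G) := inf_le_left
    have hrel : Q.relIndex (T : Subgroup G) = 2 := by
      rw [hQ, Subgroup.inf_relIndex_left]
      have h1 : M.relIndex (T : Subgroup G) ∣ 2 := by
        have h0 := Subgroup.relIndex_dvd_index_of_normal M (T : Subgroup G)
        rw [hM] at h0
        exact h0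
      have h2 : M.relIndex (T : Subgroup G) ≠ 1 := by
        intro h
        rw [Subgroup.relIndex_eq_one] at h
        exact htM (h L.htT)
      rcases (Nat.dvd_prime Nat.prime_two).1 h1 with h | h
      · exact (h2 h).elim
      · exact h
    have htQ : t ∉ Q := fun h => htM h.2
    obtain ⟨f⟩ := L.dih Q hQT hrel htQ
    have e1 : Subgroup.centralizer ({(⟨z, hzM⟩ : ↥M)} : Set ↥M) = Q.subgroupOf M := by
      rw [DIH_aux_cent M z hzM, F.hCz]
    exact ⟨((MulEquiv.subgroupCongr e1).trans
      (Subgroup.subgroupOfEquivOfLe (inf_le_right : Q ≤ M))).trans f⟩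

end Cfsg.Agent.S3222P
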