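import Mathlib
import Cfsg.Agent.Helper12.S3222Defs

set_option autoImplicit false

/-! S3222 piece LOCB: the fusion package, by transport of computations in `Z₂ × S₄`. -/

namespace Cfsg.Agent.S3222P

/-- `ζ = (1, (02)(13))` -/
abbrev LOCB_aux_zt : Gam := (1, Equiv.swap 0 2 * Equiv.swap 1 3)
/-- `(1, (02))` -/
abbrev LOCB_aux_al : Gam := (1, Equiv.swap 0 2)
/-- `(1, (0123))` -/
abbrev LOCB_aux_rh : Gam := (1, Equiv.swap 0 1 * Equiv.swap 1 2 * Equiv.swap 2 3)
/-- the central involution `τ = (-1, 1)` -/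
abbrev LOCB_aux_ta : Gam := (Multiplicative.ofAdd 1, 1)

/-- the isomorphism `Z₂ → {±1}` -/
def LOCB_aux_u : Multiplicative (ZMod 2) →* ℤˣ where
  toFun ε := if ε = 1 then 1 else -1
  map_one' := by decide
  map_mul' := by decide

/-- first projection, with values in `{±1}` -/
def LOCB_aux_f1 : Gam →* ℤˣ := LOCB_aux_u.comp (MonoidHom.fst _ _)
/-- first projection twisted by the sign -/
def LOCB_aux_f2 : Gam →* ℤˣ := LOCB_aux_f1 * (Equiv.Perm.sign.comp (MonoidHom.snd _ _))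

theorem LOCB_aux_f1_ta : LOCB_aux_f1 LOCB_aux_ta ≠ 1 := by decide
theorem LOCB_aux_f2_ta : LOCB_aux_f2 LOCB_aux_ta ≠ 1 := by decide

set_option maxRecDepth 100000 in
theorem LOCB_aux_g1 : LOCB_aux_zt = LOCB_aux_rh * LOCB_aux_al * LOCB_aux_rh⁻¹ * LOCB_aux_al⁻¹ := by
  decide

set_option maxRecDepth 100000 in
theorem LOCB_aux_g2 : ∀ γ : Gam, γ * (1, Equiv.swap 0 1) = (1, Equiv.swap 0 1) * γ →
    γ * LOCB_aux_rh = LOCB_aux_rh * γ → γ = 1 ∨ γ = LOCB_aux_ta := by decide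

set_option maxRecDepth 100000 in
theorem LOCB_aux_g3 : ∀ γ : Gam, γ * LOCB_aux_zt = LOCB_aux_zt * γ →
    γ * LOCB_aux_rh = LOCB_aux_rh * γ → γ * LOCB_aux_al = LOCB_aux_al * γ →
    γ = 1 ∨ γ = LOCB_aux_ta ∨ γ = LOCB_aux_zt ∨ γ = LOCB_aux_ta * LOCB_aux_zt := by decide

set_option maxRecDepth 100000 in
theorem LOCB_aux_g4 : ∀ γ γ' : Gam, γ * LOCB_aux_zt = LOCB_aux_zt * γ →
    γ' * LOCB_aux_zt = LOCB_aux_zt * γ' →
    γ * γ' * γ⁻¹ * γ'⁻¹ = 1 ∨ γ * γ' * γ⁻¹ * γ'⁻¹ = LOCB_aux_zt := by decide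

set_option maxRecDepth 100000 in
set_option synthInstance.maxHeartbeats 400000 in
set_option synthInstance.maxSize 2000 in
theorem LOCB_aux_g5 : ∀ γ : Gam, γ * LOCB_aux_zt = LOCB_aux_zt * γ → LOCB_aux_f1 γ = 1 →
    γ * γ = 1 → γ ≠ 1 →
    ((∃ δ : Gam, δ * LOCB_aux_zt * δ⁻¹ = γ) ∨ (∃ δ : Gam, δ * LOCB_aux_al * δ⁻¹ = γ)) := by
  decide

set_option maxRecDepth 100000 in
set_option synthInstance.maxHeartbeats 400000 in
set_option synthInstance.maxSize 2000 in
theorem LOCB_aux_g6 : ∀ γ : Gam, γ * LOCB_aux_zt = LOCB_aux_zt * γ → LOCB_aux_f2 γ = 1 →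
    γ * γ = 1 → γ ≠ 1 →
    ((∃ δ : Gam, δ * LOCB_aux_zt * δ⁻¹ = γ) ∨
      (∃ δ : Gam, δ * (LOCB_aux_ta * LOCB_aux_al) * δ⁻¹ = γ)) := by
  decide

set_option maxRecDepth 100000 in
theorem LOCB_aux_g7 :
    (Finset.univ.filter (fun γ : Gam => γ * LOCB_aux_al = LOCB_aux_al * γ)).card = 8 := by
  decide

set_option maxRecDepth 100000 in
theorem LOCB_aux_g8 : ∀ γ : Gam,
    (γ * LOCB_aux_al * γ⁻¹) * LOCB_aux_al = LOCB_aux_al * (γ * LOCB_aux_al * γ⁻¹) →
    (γ * (LOCB_aux_al * LOCB_aux_zt) * γ⁻¹) * LOCB_aux_al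
      = LOCB_aux_al * (γ * (LOCB_aux_al * LOCB_aux_zt) * γ⁻¹) →
    γ * LOCB_aux_zt = LOCB_aux_zt * γ := by decide

set_option maxRecDepth 100000 in
theorem LOCB_aux_g9 : ∀ γ : Gam, γ * LOCB_aux_al = LOCB_aux_al * γ ↔
    (γ = 1 ∨ γ = LOCB_aux_ta ∨ γ = LOCB_aux_al ∨ γ = LOCB_aux_al * LOCB_aux_zt ∨ γ = LOCB_aux_zt ∨
      γ = LOCB_aux_ta * LOCB_aux_al ∨ γ = LOCB_aux_ta * LOCB_aux_al * LOCB_aux_zt ∨
      γ = LOCB_aux_ta * LOCB_aux_zt) := by decide

set_option maxRecDepth 100000 in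
theorem LOCB_aux_g10 : LOCB_aux_zt * LOCB_aux_zt = 1 ∧ LOCB_aux_zt ≠ 1 ∧
    LOCB_aux_al * LOCB_aux_al = 1 ∧ LOCB_aux_al ≠ 1 ∧
    LOCB_aux_al * LOCB_aux_zt = LOCB_aux_zt * LOCB_aux_al ∧
    LOCB_aux_rh * LOCB_aux_zt = LOCB_aux_zt * LOCB_aux_rh ∧
    LOCB_aux_ta * LOCB_aux_zt = LOCB_aux_zt * LOCB_aux_ta := by decide

/-- A subgroup of index 2 of `T` cut out by a character of `Gam` which is non-trivial on `τ`. -/
theorem LOCB_aux_Q {G : Type*} [Group G] (T : Subgroup G) (ι : Gam →* G)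
    (hιinj : Function.Injective ι)
    (hT : T = (Subgroup.centralizer ({LOCB_aux_zt} : Set Gam)).map ι)
    (f : Gam →* ℤˣ) (hf : f LOCB_aux_ta ≠ 1) :
    ∃ Q : Subgroup G, Q ≤ T ∧ Q.relIndex T = 2 ∧ ι LOCB_aux_ta ∉ Q ∧
      ∀ x ∈ Q, ∃ γ, ι γ = x ∧ γ * LOCB_aux_zt = LOCB_aux_zt * γ ∧ f γ = 1 := by
  set Sg : Subgroup Gam := Subgroup.centralizer ({LOCB_aux_zt} : Set Gam) with hSg
  refine ⟨(f.ker ⊓ Sg).map ι, ?_, ?_, ?_, ?_⟩
  · rw [hT]
    exact Subgroup.map_mono inf_le_right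
  · rw [hT, Subgroup.relIndex_map_map_of_injective _ _ hιinj, Subgroup.inf_relIndex_right,
      Subgroup.relIndex_ker]
    have h1 : Nat.card ↥(Sg.map f) ∣ 2 := by
      have h0 := Subgroup.card_subgroup_dvd_card (Sg.map f)
      have hc : Nat.card ℤˣ = 2 := by
        rw [Nat.card_eq_fintype_card, Fintype.card_units_int]
      rw [hc] at h0
      exact h0
    have h2 : Nat.card ↥(Sg.map f) ≠ 1 := by
      intro h
      have hb := Subgroup.eq_bot_of_card_eq _ h
      have hm : f LOCB_aux_ta ∈ Sg.map f := by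
        refine Subgroup.mem_map_of_mem f ?_
        rw [hSg, Subgroup.mem_centralizer_singleton_iff]
        exact LOCB_aux_g10.2.2.2.2.2.2
      rw [hb, Subgroup.mem_bot] at hm
      exact hf hm
    rcases (Nat.dvd_prime Nat.prime_two).1 h1 with h | h
    · exact (h2 h).elim
    · exact h
  · rintro ⟨γ, hγ, hγt⟩
    have := hιinj hγt
    subst this
    exact hf (MonoidHom.mem_ker.1 (Subgroup.mem_inf.1 hγ).1)
  · rintro x ⟨γ, hγ, rfl⟩
    refine ⟨γ, rfl, ?_, MonoidHom.mem_ker.1 (Subgroup.mem_inf.1 hγ).1⟩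
    exact Subgroup.mem_centralizer_singleton_iff.1 (Subgroup.mem_inf.1 hγ).2

/-- Conjugacy transported along `ι`. -/
theorem LOCB_aux_conj {G : Type*} [Group G] (ι : Gam →* G) {γ γ' : Gam}
    (h : ∃ δ : Gam, δ * γ * δ⁻¹ = γ') : IsConj (ι γ) (ι γ') := by
  obtain ⟨δ, rfl⟩ := h
  rw [isConj_iff]
  exact ⟨ι δ, by rw [map_mul, map_mul, map_inv]⟩

theorem LOCB {G : Type*} [Group G] [Finite G]
    (t : G) (ht : orderOf t = 2) (T : Sylow 2 G) (htT : t ∈ (T : Subgroup G))
    (htc : ∀ s ∈ (T : Subgroup G), s * t = t * s)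
    (e : ↥(Subgroup.centralizer ({t} : Set G)) ≃* Gam)
    (hstd : ∀ x : ↥(Subgroup.centralizer ({t} : Set G)), (x : G) ∈ (T : Subgroup G) ↔
        e x * ((1, Equiv.swap 0 2 * Equiv.swap 1 3) : Gam) =
          ((1, Equiv.swap 0 2 * Equiv.swap 1 3) : Gam) * e x)
    (h2 : Subgroup.centralizer ((⁅(T : Subgroup G), (T : Subgroup G)⁆ : Subgroup G) : Set G) =
      (T : Subgroup G)) :
    ∃ z a r : G, Fus t T z a r := by
  have hTC : (T : Subgroup G) ≤ Subgroup.centralizer ({t} : Set G) := fun s hs =>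
    Subgroup.mem_centralizer_singleton_iff.2 (htc s hs)
  set ι : Gam →* G := (Subgroup.centralizer ({t} : Set G)).subtype.comp e.symm.toMonoidHom with hι
  have hιv : ∀ γ, ι γ = ((e.symm γ : ↥(Subgroup.centralizer ({t} : Set G))) : G) := fun _ => rfl
  have hιinj : Function.Injective ι :=
    (Subgroup.subtype_injective _).comp e.symm.injective
  have hιe : ∀ x : ↥(Subgroup.centralizer ({t} : Set G)), ι (e x) = (x : G) := by
    intro x
    rw [hιv, e.symm_apply_apply]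
  have hιT : ∀ γ, ι γ ∈ (T : Subgroup G) ↔ γ * LOCB_aux_zt = LOCB_aux_zt * γ := by
    intro γ
    have := hstd (e.symm γ)
    rw [e.apply_symm_apply] at this
    exact this
  have hTι : ∀ x ∈ (T : Subgroup G), ∃ γ, ι γ = x ∧ γ * LOCB_aux_zt = LOCB_aux_zt * γ := by
    intro x hx
    refine ⟨e ⟨x, hTC hx⟩, hιe _, ?_⟩
    rw [← hιT, hιe]
    exact hx
  have hCι : ∀ x : G, x * t = t * x → ∃ γ, ι γ = x := by
    intro x hx
    exact ⟨e ⟨x, Subgroup.mem_centralizer_singleton_iff.2 hx⟩, hιe _⟩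
  have hιC : ∀ γ, ι γ * t = t * ι γ := fun γ =>
    Subgroup.mem_centralizer_singleton_iff.1 (e.symm γ).2
  -- `t` corresponds to `τ`
  have hιt : ι LOCB_aux_ta = t := by
    obtain ⟨γ, hγ⟩ := hCι t rfl
    have hcen : ∀ δ : Gam, γ * δ = δ * γ := by
      intro δ
      apply hιinj
      rw [map_mul, map_mul, hγ]
      exact (hιC δ).symm
    rcases LOCB_aux_g2 γ (hcen _) (hcen _) with h | h
    · exfalso
      rw [h, map_one] at hγ
      rw [← hγ, orderOf_one] at ht
      omega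
    · rw [← h]
      exact hγ
  have hTeq : (T : Subgroup G) = (Subgroup.centralizer ({LOCB_aux_zt} : Set Gam)).map ι := by
    ext x
    rw [Subgroup.mem_map]
    constructor
    · intro hx
      obtain ⟨γ, h1, h2⟩ := hTι x hx
      exact ⟨γ, Subgroup.mem_centralizer_singleton_iff.2 h2, h1⟩
    · rintro ⟨γ, h1, rfl⟩
      exact (hιT γ).2 (Subgroup.mem_centralizer_singleton_iff.1 h1)
  obtain ⟨g10a, g10b, g10c, g10d, g10e, g10f, g10g⟩ := LOCB_aux_g10
  have hzT : ι LOCB_aux_zt ∈ (T : Subgroup G) := (hιT _).2 rfl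
  have haT : ι LOCB_aux_al ∈ (T : Subgroup G) := (hιT _).2 g10e
  have hrT : ι LOCB_aux_rh ∈ (T : Subgroup G) := (hιT _).2 g10f
  have hcomm : ι LOCB_aux_zt
      = ι LOCB_aux_rh * ι LOCB_aux_al * (ι LOCB_aux_rh)⁻¹ * (ι LOCB_aux_al)⁻¹ := by
    rw [← map_inv, ← map_inv, ← map_mul, ← map_mul, ← map_mul, ← LOCB_aux_g1]
  have hz2 : orderOf (ι LOCB_aux_zt) = 2 := by
    rw [orderOf_injective ι hιinj]
    exact orderOf_eq_prime (by rw [pow_two]; exact g10a) g10b
  have ha2 : orderOf (ι LOCB_aux_al) = 2 := by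
    rw [orderOf_injective ι hιinj]
    exact orderOf_eq_prime (by rw [pow_two]; exact g10c) g10d
  -- involutions
  have hinvol : ∀ γ : Gam, orderOf (ι γ) = 2 → γ * γ = 1 ∧ γ ≠ 1 := by
    intro γ h
    rw [orderOf_injective ι hιinj] at h
    refine ⟨?_, ?_⟩
    · have h3 := pow_orderOf_eq_one γ
      rw [h, pow_two] at h3
      exact h3
    · rintro rfl
      rw [orderOf_one] at h
      omega
  refine ⟨ι LOCB_aux_zt, ι LOCB_aux_al, ι LOCB_aux_rh, ?_⟩
  refine
    { hz := hz2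
      ha := ha2
      hzT := hzT
      haT := haT
      hrT := hrT
      hcomm := hcomm
      hCz := ?_
      hZT := ?_
      hQ1 := ?_
      hQ2 := ?_
      hA := ?_ }
  · -- `C_G(z) = T`
    have hzmem : ι LOCB_aux_zt ∈ (⁅(T : Subgroup G), (T : Subgroup G)⁆ : Subgroup G) := by
      rw [hcomm, ← commutatorElement_def]
      exact Subgroup.commutator_mem_commutator hrT haT
    have hle : (⁅(T : Subgroup G), (T : Subgroup G)⁆ : Subgroup G)
        ≤ Subgroup.zpowers (ι LOCB_aux_zt) := by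
      rw [Subgroup.commutator_le]
      intro g₁ hg₁ g₂ hg₂
      obtain ⟨γ₁, rfl, h1⟩ := hTι g₁ hg₁
      obtain ⟨γ₂, rfl, h2'⟩ := hTι g₂ hg₂
      rw [commutatorElement_def, ← map_inv, ← map_inv, ← map_mul, ← map_mul, ← map_mul]
      rcases LOCB_aux_g4 γ₁ γ₂ h1 h2' with h | h
      · rw [h, map_one]
        exact Subgroup.one_mem _
      · rw [h]
        exact Subgroup.mem_zpowers _
    rw [← h2]
    apply le_antisymm
    · intro g hg
      rw [Subgroup.mem_centralizer_singleton_iff] at hg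
      rw [Subgroup.mem_centralizer_iff]
      intro w hw
      obtain ⟨k, rfl⟩ := Subgroup.mem_zpowers_iff.1 (hle hw)
      have hc : Commute g (ι LOCB_aux_zt) := hg
      exact ((hc.zpow_right k).eq).symm
    · exact Subgroup.centralizer_le (Set.singleton_subset_iff.2 hzmem)
  · -- the centre of `T`
    intro x hx hxc
    obtain ⟨γ, rfl, h1⟩ := hTι x hx
    have hr : γ * LOCB_aux_rh = LOCB_aux_rh * γ := by
      apply hιinj
      rw [map_mul, map_mul]
      exact hxc _ hrT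
    have ha : γ * LOCB_aux_al = LOCB_aux_al * γ := by
      apply hιinj
      rw [map_mul, map_mul]
      exact hxc _ haT
    rcases LOCB_aux_g3 γ h1 hr ha with h | h | h | h
    · left
      rw [h, map_one]
    · right; left
      rw [h, hιt]
    · right; right; left
      rw [h]
    · right; right; right
      rw [h, map_mul, hιt]
  · -- `Q₁`
    obtain ⟨Q, hQT, hQi, hQt, hQ⟩ := LOCB_aux_Q (T : Subgroup G) ι hιinj hTeq LOCB_aux_f1
      LOCB_aux_f1_ta
    refine ⟨Q, hQT, hQi, by rwa [hιt] at hQt, ?_⟩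
    intro x hx hx2
    obtain ⟨γ, rfl, h1, h3⟩ := hQ x hx
    obtain ⟨h4, h5⟩ := hinvol γ hx2
    rcases LOCB_aux_g5 γ h1 h3 h4 h5 with h | h
    · exact Or.inl (LOCB_aux_conj ι h)
    · exact Or.inr (LOCB_aux_conj ι h)
  · -- `Q₂`
    obtain ⟨Q, hQT, hQi, hQt, hQ⟩ := LOCB_aux_Q (T : Subgroup G) ι hιinj hTeq LOCB_aux_f2
      LOCB_aux_f2_ta
    refine ⟨Q, hQT, hQi, by rwa [hιt] at hQt, ?_⟩
    intro x hx hx2
    obtain ⟨γ, rfl, h1, h3⟩ := hQ x hx
    obtain ⟨h4, h5⟩ := hinvol γ hx2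
    rcases LOCB_aux_g6 γ h1 h3 h4 h5 with h | h
    · exact Or.inl (LOCB_aux_conj ι h)
    · right
      have := LOCB_aux_conj ι h
      rwa [map_mul, hιt] at this
  · -- `A`
    set A : Subgroup G := (Subgroup.centralizer ({LOCB_aux_al} : Set Gam)).map ι with hA
    have hmemA : ∀ γ, ι γ ∈ A ↔ γ * LOCB_aux_al = LOCB_aux_al * γ := by
      intro γ
      rw [hA, Subgroup.mem_map]
      constructor
      · rintro ⟨δ, hδ, hδγ⟩
        have := hιinj hδγ
        subst this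
        exact Subgroup.mem_centralizer_singleton_iff.1 hδ
      · intro h
        exact ⟨γ, Subgroup.mem_centralizer_singleton_iff.2 h, rfl⟩
    refine ⟨A, ?_, ?_, ?_⟩
    · intro x
      constructor
      · intro hx
        obtain ⟨γ, hγ, rfl⟩ := Subgroup.mem_map.1 hx
        have := (LOCB_aux_g9 γ).1 (Subgroup.mem_centralizer_singleton_iff.1 hγ)
        rcases this with h | h | h | h | h | h | h | h <;> subst h
        · left; rw [map_one]
        · right; left; exact hιt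
        · right; right; left; rfl
        · right; right; right; left; rw [map_mul]
        · right; right; right; right; left; rfl
        · right; right; right; right; right; left; rw [map_mul, hιt]
        · right; right; right; right; right; right; left; rw [map_mul, map_mul, hιt]
        · right; right; right; right; right; right; right; rw [map_mul, hιt]
      · intro hx
        have key : ∀ γ, γ * LOCB_aux_al = LOCB_aux_al * γ → x = ι γ → x ∈ A := by
          intro γ h1 h2'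
          rw [h2']
          exact (hmemA γ).2 h1
        rcases hx with h | h | h | h | h | h | h | h
        · exact key 1 ((LOCB_aux_g9 _).2 (Or.inl rfl)) (by rw [h, map_one])
        · exact key LOCB_aux_ta ((LOCB_aux_g9 _).2 (Or.inr (Or.inl rfl))) (by rw [h, hιt])
        · exact key LOCB_aux_al ((LOCB_aux_g9 _).2 (Or.inr (Or.inr (Or.inl rfl)))) h
        · exact key (LOCB_aux_al * LOCB_aux_zt)
            ((LOCB_aux_g9 _).2 (Or.inr (Or.inr (Or.inr (Or.inl rfl))))) (by rw [h, map_mul])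
        · exact key LOCB_aux_zt
            ((LOCB_aux_g9 _).2 (Or.inr (Or.inr (Or.inr (Or.inr (Or.inl rfl)))))) h
        · exact key (LOCB_aux_ta * LOCB_aux_al)
            ((LOCB_aux_g9 _).2 (Or.inr (Or.inr (Or.inr (Or.inr (Or.inr (Or.inl rfl)))))))
            (by rw [h, map_mul, hιt])
        · exact key (LOCB_aux_ta * LOCB_aux_al * LOCB_aux_zt)
            ((LOCB_aux_g9 _).2
              (Or.inr (Or.inr (Or.inr (Or.inr (Or.inr (Or.inr (Or.inl rfl))))))))
            (by rw [h, map_mul, map_mul, hιt])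
        · exact key (LOCB_aux_ta * LOCB_aux_zt)
            ((LOCB_aux_g9 _).2
              (Or.inr (Or.inr (Or.inr (Or.inr (Or.inr (Or.inr (Or.inr rfl))))))))
            (by rw [h, map_mul, hιt])
    · rw [hA, Subgroup.card_map_of_injective hιinj]
      have e1 : ↥(Subgroup.centralizer ({LOCB_aux_al} : Set Gam))
          ≃ {γ : Gam // γ * LOCB_aux_al = LOCB_aux_al * γ} :=
        Equiv.subtypeEquivRight (fun γ => Subgroup.mem_centralizer_singleton_iff)
      rw [Nat.card_congr e1, Nat.card_eq_fintype_card, Fintype.card_subtype]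
      exact LOCB_aux_g7
    · intro g hgt hgA
      obtain ⟨γ, rfl⟩ := hCι g hgt
      rw [hιT]
      apply LOCB_aux_g8
      · have h1 : ι LOCB_aux_al ∈ A := (hmemA _).2 rfl
        have := hgA _ h1
        rw [← map_inv, ← map_mul, ← map_mul, hmemA] at this
        exact this
      · have h1 : ι (LOCB_aux_al * LOCB_aux_zt) ∈ A :=
          (hmemA _).2 ((LOCB_aux_g9 _).2 (Or.inr (Or.inr (Or.inr (Or.inl rfl)))))
        have := hgA _ h1
        rw [← map_inv, ← map_mul, ← map_mul, hmemA] at this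
        exact this

end Cfsg.Agent.S3222P
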