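import Mathlib

set_option autoImplicit false

/-! S3501 piece FINT: a factor of a finite power is finite. -/

namespace Cfsg.Agent.S3501P

/-- FINT: a factor of a finite power is finite. -/
theorem FINT {N T : Type*} [Group N] [Finite N] [Group T] (m : ℕ) (hm : 0 < m) (e : N ≃* (Fin m → T)) :
    Finite T := by
  classical
  have hinj : Function.Injective (fun t : T => e.symm (Pi.mulSingle (⟨0, hm⟩ : Fin m) t)) := by
    intro s t hst
    have h1 : Pi.mulSingle (⟨0, hm⟩ : Fin m) s = Pi.mulSingle (⟨0, hm⟩ : Fin m) t :=
      e.symm.injective hst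
    have h2 := congrFun h1 ⟨0, hm⟩
    simpa using h2
  exact Finite.of_injective _ hinj

end Cfsg.Agent.S3501P
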