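import Mathlib
import Cfsg.Agent.Helper29.S3501DER

set_option autoImplicit false

/-! S3501 piece NORMALDER: under "one class", every non-trivial normal subgroup contains every derangement. -/

namespace Cfsg.Agent.S3501P

open MulAction

section
variable {G : Type*} [Group G] [Finite G] {Ω : Type*} [Fintype Ω] [MulAction G Ω] [FaithfulSMul G Ω]

/-- NORMALDER: under "one class", every non-trivial normal subgroup contains every derangement. -/
theorem NORMALDER (hΩ : 2 ≤ Fintype.card Ω) (hprim : IsPreprimitive G Ω)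
    (hone : ∀ x y : G, (∀ ω : Ω, x • ω ≠ ω) → (∀ ω : Ω, y • ω ≠ ω) → IsConj x y)
    (M : Subgroup G) [M.Normal] (hM : M ≠ ⊥) (g : G) (hg : ∀ ω : Ω, g • ω ≠ ω) : g ∈ M := by
  have htr : IsPretransitive M Ω := DER.normal_transitive M hM
  obtain ⟨m0, hm0, hder⟩ := DER.exists_mem (G := G) (Ω := Ω) M hΩ
  obtain ⟨c, hc⟩ := isConj_iff.mp (hone m0 g hder hg)
  rw [← hc]
  exact ‹M.Normal›.conj_mem m0 hm0 c

end

end Cfsg.Agent.S3501P
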