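import Mathlib
import Cfsg.Agent.Helper29.S3501CRIT

set_option autoImplicit false
set_option linter.unusedSectionVars false
set_option linter.unusedVariables false

/-! S3520 piece CDIFF: different centraliser products => not conjugate in `G`. -/

namespace Cfsg.Agent.S3520P

open MulAction

variable {G : Type*} [Group G] [Finite G] {Ω : Type*} [Fintype Ω] [MulAction G Ω]

/-- CDIFF: elements of `N ≅ T^m` whose centraliser orders `∏ |C_T(f i)|` differ are not conjugate in `G`. -/
theorem CDIFF (N : Subgroup G) [N.Normal] {T : Type*} [Group T] {m : ℕ} (e : N ≃* (Fin m → T))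
    (f f' : Fin m → T)
    (h : ∏ i, Nat.card (Subgroup.centralizer ({f i} : Set T)) ≠
      ∏ i, Nat.card (Subgroup.centralizer ({f' i} : Set T))) :
    ¬ IsConj ((e.symm f : N) : G) ((e.symm f' : N) : G) := by
  intro hc
  obtain ⟨g, hg⟩ := isConj_iff.mp hc
  have h1 := Cfsg.Agent.S3501P.CRIT.card_centralizer_eq N (e.symm f) (e.symm f') g hg
  rw [Cfsg.Agent.S3501P.CRIT.card_centralizer_pi N e, Cfsg.Agent.S3501P.CRIT.card_centralizer_pi N e] at h1
  simp only [MulEquiv.apply_symm_apply] at h1
  exact h h1

end Cfsg.Agent.S3520P
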