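import Mathlib
import Cfsg.Agent.Helper29.S3501CRIT
import Cfsg.Agent.Helper25.S3520CDIFF

set_option autoImplicit false
set_option linter.unusedSectionVars false
set_option linter.unusedVariables false

/-! S3520 piece DIAG3: diagonal case, three pairwise non-conjugate derangements. -/

namespace Cfsg.Agent.S3520P

open MulAction

variable {G : Type*} [Group G] [Finite G] {Ω : Type*} [Fintype Ω] [MulAction G Ω]

/-- product of a function supported on two coordinates -/
theorem DIAG3.aux_prod {T : Type*} [Group T] {m : ℕ} (F : T → ℕ) (i j : Fin m) (hij : i ≠ j)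
    (f : Fin m → T) (hf : ∀ l, l ≠ i → l ≠ j → f l = 1) :
    ∏ l, F (f l) = F (f i) * (F (f j) * (F 1) ^ ((Finset.univ.erase i).erase j).card) := by
  classical
  rw [← Finset.mul_prod_erase Finset.univ (fun l => F (f l)) (Finset.mem_univ i)]
  congr 1
  have hj : j ∈ Finset.univ.erase i := Finset.mem_erase.mpr ⟨fun h => hij h.symm, Finset.mem_univ j⟩
  rw [← Finset.mul_prod_erase (Finset.univ.erase i) (fun l => F (f l)) hj]
  congr 1
  rw [← Finset.prod_const]
  apply Finset.prod_congr rfl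
  intro l hl
  rw [Finset.mem_erase, Finset.mem_erase] at hl
  rw [hf l hl.2.1 hl.1]

/-- conjugate elements have centralisers of the same order -/
theorem DIAG3.aux_conj {T : Type*} [Group T] (s u : T) :
    Nat.card (Subgroup.centralizer ({u⁻¹ * s * u} : Set T)) =
      Nat.card (Subgroup.centralizer ({s} : Set T)) := by
  apply Nat.card_congr
  refine
    { toFun := fun z => ⟨u * z.1 * u⁻¹, ?_⟩
      invFun := fun z => ⟨u⁻¹ * z.1 * u, ?_⟩
      left_inv := ?_
      right_inv := ?_ }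
  · have hz := z.2
    rw [Subgroup.mem_centralizer_singleton_iff] at hz ⊢
    have : u * (z.1 * (u⁻¹ * s * u)) * u⁻¹ = u * ((u⁻¹ * s * u) * z.1) * u⁻¹ := by rw [hz]
    calc u * z.1 * u⁻¹ * s = u * (z.1 * (u⁻¹ * s * u)) * u⁻¹ := by group
      _ = u * ((u⁻¹ * s * u) * z.1) * u⁻¹ := this
      _ = s * (u * z.1 * u⁻¹) := by group
  · have hz := z.2
    rw [Subgroup.mem_centralizer_singleton_iff] at hz ⊢
    calc u⁻¹ * z.1 * u * (u⁻¹ * s * u) = u⁻¹ * (z.1 * s) * u := by group
      _ = u⁻¹ * (s * z.1) * u := by rw [hz]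
      _ = u⁻¹ * s * u * (u⁻¹ * z.1 * u) := by group
  · intro z
    apply Subtype.ext
    show u⁻¹ * (u * z.1 * u⁻¹) * u = z.1
    group
  · intro z
    apply Subtype.ext
    show u * (u⁻¹ * z.1 * u) * u⁻¹ = z.1
    group

/-- DIAG3: diagonal case: three pairwise non-conjugate derangements. -/
theorem DIAG3
    (h3 : ∀ x y z : G, (∀ ω : Ω, x • ω ≠ ω) → (∀ ω : Ω, y • ω ≠ ω) → (∀ ω : Ω, z • ω ≠ ω) →
      ¬ IsConj x y → ¬ IsConj x z → ¬ IsConj y z → False)
    (N : Subgroup G) [N.Normal] (htr : IsPretransitive N Ω) (a : Ω)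
    {T : Type} [Group T] [Finite T]
    (hlt : ∀ s : T, s ≠ 1 → Nat.card (Subgroup.centralizer ({s} : Set T)) < Nat.card T)
    (s s' : T) (hs1 : s ≠ 1) (hs'1 : s' ≠ 1)
    (hne : Nat.card (Subgroup.centralizer ({s} : Set T)) ≠ Nat.card (Subgroup.centralizer ({s'} : Set T)))
    {m : ℕ} (hm : 0 < m) (e : N ≃* (Fin m → T)) (k : ℕ) (c : Fin m → Fin m) (hk : 2 ≤ k)
    (hc : ∀ j : Fin m, Nat.card {i : Fin m // c i = j} = k ∨ Nat.card {i : Fin m // c i = j} = 0)
    (hst : ∀ n : N, (n : G) ∈ stabilizer G a ↔ ∀ i j : Fin m, c i = c j → e n i = e n j) : False := by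
  classical
  have := htr
  -- two indices in one fibre
  let i : Fin m := ⟨0, hm⟩
  obtain ⟨j, hji, hcj⟩ : ∃ j : Fin m, j ≠ i ∧ c j = c i := by
    have hcard : 2 ≤ Nat.card {i' : Fin m // c i' = c i} := by
      rcases hc (c i) with h | h
      · omega
      · exfalso
        have hpos : 0 < Nat.card {i' : Fin m // c i' = c i} :=
          Nat.card_pos_iff.mpr ⟨⟨⟨i, rfl⟩⟩, inferInstance⟩
        omega
    rw [Nat.card_eq_fintype_card] at hcard
    obtain ⟨x, y, hxy⟩ := Fintype.one_lt_card_iff.mp (by omega : 1 < Fintype.card {i' : Fin m // c i' = c i})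
    by_cases hx : x.1 = i
    · refine ⟨y.1, ?_, y.2⟩
      intro hy
      exact hxy (Subtype.ext (hx.trans hy.symm))
    · exact ⟨x.1, hx, x.2⟩
  have hij : i ≠ j := fun h => hji h.symm
  -- the counting function
  let F : T → ℕ := fun t => Nat.card (Subgroup.centralizer ({t} : Set T))
  have hFpos : ∀ t, 0 < F t := fun t => Nat.card_pos
  have hF1 : F 1 = Nat.card T := by
    show Nat.card (Subgroup.centralizer ({1} : Set T)) = Nat.card T
    have : Subgroup.centralizer ({1} : Set T) = ⊤ := by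
      ext z
      simp [Subgroup.mem_centralizer_singleton_iff]
    rw [this]
    exact Subgroup.card_top
  set R : ℕ := (F 1) ^ ((Finset.univ.erase i).erase j).card with hR
  have hRpos : 0 < R := pow_pos (hFpos 1) _
  -- the three functions
  let f1 : Fin m → T := Pi.mulSingle i s
  let f2 : Fin m → T := Pi.mulSingle i s'
  let f3 : Fin m → T := Pi.mulSingle i s * Pi.mulSingle j s'
  have f1i : f1 i = s := Pi.mulSingle_eq_same (M := fun _ => T) i s
  have f1j : f1 j = 1 := Pi.mulSingle_eq_of_ne (M := fun _ => T) hji s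
  have f2i : f2 i = s' := Pi.mulSingle_eq_same (M := fun _ => T) i s'
  have f2j : f2 j = 1 := Pi.mulSingle_eq_of_ne (M := fun _ => T) hji s'
  have f3i : f3 i = s := by
    simp only [f3, Pi.mul_apply]
    rw [Pi.mulSingle_eq_same (M := fun _ => T), Pi.mulSingle_eq_of_ne (M := fun _ => T) hij, mul_one]
  have f3j : f3 j = s' := by
    simp only [f3, Pi.mul_apply]
    rw [Pi.mulSingle_eq_same (M := fun _ => T), Pi.mulSingle_eq_of_ne (M := fun _ => T) hji, one_mul]
  have f1o : ∀ l, l ≠ i → l ≠ j → f1 l = 1 := fun l hl _ => Pi.mulSingle_eq_of_ne (M := fun _ => T) hl s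
  have f2o : ∀ l, l ≠ i → l ≠ j → f2 l = 1 := fun l hl _ => Pi.mulSingle_eq_of_ne (M := fun _ => T) hl s'
  have f3o : ∀ l, l ≠ i → l ≠ j → f3 l = 1 := by
    intro l hl hl'
    simp only [f3, Pi.mul_apply]
    rw [Pi.mulSingle_eq_of_ne (M := fun _ => T) hl, Pi.mulSingle_eq_of_ne (M := fun _ => T) hl', mul_one]
  have P1 : ∏ l, F (f1 l) = F s * (F 1 * R) := by
    rw [DIAG3.aux_prod F i j hij f1 f1o, f1i, f1j]
  have P2 : ∏ l, F (f2 l) = F s' * (F 1 * R) := by
    rw [DIAG3.aux_prod F i j hij f2 f2o, f2i, f2j]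
  have P3 : ∏ l, F (f3 l) = F s * (F s' * R) := by
    rw [DIAG3.aux_prod F i j hij f3 f3o, f3i, f3j]
  have hA : F s < F 1 := by rw [hF1]; exact hlt s hs1
  have hB : F s' < F 1 := by rw [hF1]; exact hlt s' hs'1
  have hAB : F s ≠ F s' := hne
  -- derangements
  have hd1 : ∀ ω : Ω, ((e.symm f1 : N) : G) • ω ≠ ω := by
    apply Cfsg.Agent.S3501P.CRIT.diag_of_not_conj N a e c hst (e.symm f1) hcj.symm
    intro g h
    rw [MulEquiv.apply_symm_apply, f1i, f1j]
    intro hEq
    apply hs1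
    have : g⁻¹ * s * g = 1 := by rw [hEq]; group
    have h2 : s = g * (g⁻¹ * s * g) * g⁻¹ := by group
    rw [h2, this]; group
  have hd2 : ∀ ω : Ω, ((e.symm f2 : N) : G) • ω ≠ ω := by
    apply Cfsg.Agent.S3501P.CRIT.diag_of_not_conj N a e c hst (e.symm f2) hcj.symm
    intro g h
    rw [MulEquiv.apply_symm_apply, f2i, f2j]
    intro hEq
    apply hs'1
    have : g⁻¹ * s' * g = 1 := by rw [hEq]; group
    have h2 : s' = g * (g⁻¹ * s' * g) * g⁻¹ := by group
    rw [h2, this]; group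
  have hd3 : ∀ ω : Ω, ((e.symm f3 : N) : G) • ω ≠ ω := by
    apply Cfsg.Agent.S3501P.CRIT.diag_of_not_conj N a e c hst (e.symm f3) hcj.symm
    intro g h
    rw [MulEquiv.apply_symm_apply, f3i, f3j]
    intro hEq
    apply hAB
    -- s' is conjugate to s
    have hs' : s' = (g * h⁻¹)⁻¹ * s * (g * h⁻¹) := by
      have : s' = h * (h⁻¹ * s' * h) * h⁻¹ := by group
      rw [this, ← hEq]; group
    show Nat.card (Subgroup.centralizer ({s} : Set T)) = Nat.card (Subgroup.centralizer ({s'} : Set T))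
    rw [hs']
    exact (DIAG3.aux_conj s (g * h⁻¹)).symm
  -- non-conjugacy
  have hn12 : ¬ IsConj ((e.symm f1 : N) : G) ((e.symm f2 : N) : G) := by
    apply CDIFF N e f1 f2
    show ∏ l, F (f1 l) ≠ ∏ l, F (f2 l)
    rw [P1, P2]
    intro h
    exact hAB (Nat.eq_of_mul_eq_mul_right (Nat.mul_pos (hFpos 1) hRpos) h)
  have hn13 : ¬ IsConj ((e.symm f1 : N) : G) ((e.symm f3 : N) : G) := by
    apply CDIFF N e f1 f3
    show ∏ l, F (f1 l) ≠ ∏ l, F (f3 l)
    rw [P1, P3]
    intro h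
    have h1 := Nat.eq_of_mul_eq_mul_left (hFpos s) h
    have h2 := Nat.eq_of_mul_eq_mul_right hRpos h1
    omega
  have hn23 : ¬ IsConj ((e.symm f2 : N) : G) ((e.symm f3 : N) : G) := by
    apply CDIFF N e f2 f3
    show ∏ l, F (f2 l) ≠ ∏ l, F (f3 l)
    rw [P2, P3]
    intro h
    have h' : F 1 * (F s' * R) = F s * (F s' * R) := by
      calc F 1 * (F s' * R) = F s' * (F 1 * R) := by ring
        _ = F s * (F s' * R) := h
    have h1 := Nat.eq_of_mul_eq_mul_right (Nat.mul_pos (hFpos s') hRpos) h'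
    omega
  exact h3 _ _ _ hd1 hd2 hd3 hn12 hn13 hn23

end Cfsg.Agent.S3520P
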