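import Mathlib
import Cfsg.Agent.Helper16.S3641Defs

set_option autoImplicit false

/-! S3641 piece N3: a `Z18`-group with `d = 8, 16` and an element of order 9 has 136 Sylow
3-subgroups as soon as their number divides 136. -/

namespace Cfsg.Agent.S3641P

/-- If three-point fixers are trivial and `x` of order 9 moves `a`, then the stabiliser of `a` in the
normaliser of `⟨x⟩` embeds in `Aut ⟨x⟩`, of order 6. -/
theorem N3.stab_card_dvd {G Ω : Type*} [Group G] [Finite G] [MulAction G Ω]
    (h3 : ∀ g : G, ∀ a b c : Ω, a ≠ b → a ≠ c → b ≠ c → g • a = a → g • b = b → g • c = c → g = 1)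
    (x : G) (hx : orderOf x = 9) (a : Ω) (h1 : x • a ≠ a) :
    Nat.card ((MulAction.stabilizer G a).subgroupOf
      (Subgroup.normalizer ((Subgroup.zpowers x : Subgroup G) : Set G))) ∣ 6 := by
  classical
  have hcR : Nat.card (Subgroup.zpowers x) = 9 := by rw [Nat.card_zpowers, hx]
  have hAut : Nat.card (MulAut (Subgroup.zpowers x)) = 6 := by
    rw [IsCyclic.card_mulAut, hcR]; decide
  have h2 : x ^ 2 • a ≠ a := by
    intro h
    apply h1
    have hx10 : x = (x ^ 2) ^ 5 := by
      rw [← pow_mul, show 2 * 5 = 9 + 1 from rfl, pow_succ, ← hx, pow_orderOf_eq_one, one_mul]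
    have hmem : x ^ 2 ∈ MulAction.stabilizer G a := h
    have := Subgroup.pow_mem _ hmem 5
    rw [← hx10] at this
    exact this
  have h12 : x • a ≠ x ^ 2 • a := by
    intro h
    rw [pow_two, mul_smul] at h
    exact h1 (smul_left_cancel x h).symm
  let f : ((MulAction.stabilizer G a).subgroupOf
      (Subgroup.normalizer ((Subgroup.zpowers x : Subgroup G) : Set G))) →*
        MulAut (Subgroup.zpowers x) :=
    (Subgroup.zpowers x).normalizerMonoidHom.comp (Subgroup.subtype _)
  have hinj : Function.Injective f := by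
    rw [← MonoidHom.ker_eq_bot_iff, eq_bot_iff]
    intro s hs
    rw [MonoidHom.mem_ker] at hs
    have hs' : (s : Subgroup.normalizer ((Subgroup.zpowers x : Subgroup G) : Set G)) ∈
        (Subgroup.zpowers x).normalizerMonoidHom.ker := hs
    rw [Subgroup.normalizerMonoidHom_ker, Subgroup.mem_subgroupOf,
      Subgroup.mem_centralizer_iff] at hs'
    have hcomm := hs' x (Subgroup.mem_zpowers x)
    have hsa : ((s : Subgroup.normalizer ((Subgroup.zpowers x : Subgroup G) : Set G)) : G) • a
        = a := by
      have := s.2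
      rw [Subgroup.mem_subgroupOf, MulAction.mem_stabilizer_iff] at this
      exact this
    have hsb : ((s : Subgroup.normalizer ((Subgroup.zpowers x : Subgroup G) : Set G)) : G) •
        (x • a) = x • a := by
      rw [← mul_smul, ← hcomm, mul_smul, hsa]
    have hsc : ((s : Subgroup.normalizer ((Subgroup.zpowers x : Subgroup G) : Set G)) : G) •
        (x ^ 2 • a) = x ^ 2 • a := by
      rw [pow_two, mul_smul, ← mul_smul _ x, ← hcomm, mul_smul, hsb]
    have h1' := h3 _ a (x • a) (x ^ 2 • a) (Ne.symm h1) (Ne.symm h2) h12 hsa hsb hsc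
    rw [Subgroup.mem_bot]
    apply Subtype.ext
    apply Subtype.ext
    exact h1'
  have := Subgroup.card_dvd_of_injective f hinj
  rwa [hAut] at this

/-- The closing arithmetic. -/
theorem N3.arith (n m d : ℕ) (hd : d = 8 ∨ d = 16) (hmul : m * n = 306 * d) (hm : m ≤ 36)
    (hdvd : n ∣ 136) (hmod : n ≡ 1 [MOD 3]) : n = 136 := by
  have hn : n ∈ Nat.divisors 136 := by simp [hdvd]
  have hdiv : Nat.divisors 136 = {1, 2, 4, 8, 17, 34, 68, 136} := by decide
  rw [hdiv] at hn
  simp only [Finset.mem_insert, Finset.mem_singleton] at hn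
  unfold Nat.ModEq at hmod
  rcases hd with rfl | rfl <;> rcases hn with rfl | rfl | rfl | rfl | rfl | rfl | rfl | rfl <;> omega

/-- N3: a `Z18`-group with `d = 8` or `16` containing an element of order 9 whose number of Sylow
3-subgroups divides 136 has exactly 136 of them. -/
theorem N3 {Ω : Type*} [Fintype Ω] [DecidableEq Ω] (H : Subgroup (Equiv.Perm Ω)) (d : ℕ)
    (hZ : Z18 H d) (hd : d = 8 ∨ d = 16) (h9 : ∃ x : H, orderOf x = 9)
    (hdvd : Nat.card (Sylow 3 H) ∣ 136) : Nat.card (Sylow 3 H) = 136 := by
  classical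
  obtain ⟨x, hx⟩ := h9
  have : Fact (Nat.Prime 3) := ⟨by norm_num⟩
  have := hZ.htr
  have hΩ : Nat.card Ω = 18 := by rw [Nat.card_eq_fintype_card, hZ.hΩ]
  have hH : Nat.card H = 306 * d := by rw [hZ.hcard]
  have h3 : ∀ g : H, ∀ a b c : Ω, a ≠ b → a ≠ c → b ≠ c → g • a = a → g • b = b → g • c = c →
      g = 1 := by
    intro g a b c hab hac hbc ha hb hc
    apply Subtype.ext
    exact hZ.h3 g.1 g.2 a b c hab hac hbc ha hb hc
  obtain ⟨a⟩ : Nonempty Ω := by
    rw [← Fintype.card_pos_iff, hZ.hΩ]; norm_num
  have hstab_idx : (MulAction.stabilizer H a).index = 18 := by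
    rw [MulAction.index_stabilizer_of_transitive, hΩ]
  have hstab_card : Nat.card (MulAction.stabilizer H a) = 17 * d := by
    have := Subgroup.card_mul_index (MulAction.stabilizer H a)
    rw [hstab_idx, hH] at this
    omega
  have h1 : x • a ≠ a := by
    intro h
    have hmem : x ∈ MulAction.stabilizer H a := h
    have := Subgroup.orderOf_dvd_natCard _ hmem
    rw [hx, hstab_card] at this
    rcases hd with rfl | rfl <;> omega
  have hS6 := N3.stab_card_dvd h3 x hx a h1
  have hS17 : Nat.card ((MulAction.stabilizer H a).subgroupOf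
      (Subgroup.normalizer ((Subgroup.zpowers x : Subgroup H) : Set H))) ∣ 17 * d := by
    rw [← hstab_card, ← Subgroup.inf_subgroupOf_right,
      Nat.card_congr (Subgroup.subgroupOfEquivOfLe inf_le_right).toEquiv]
    exact Subgroup.card_dvd_of_le inf_le_left
  have hS2 : Nat.card ((MulAction.stabilizer H a).subgroupOf
      (Subgroup.normalizer ((Subgroup.zpowers x : Subgroup H) : Set H))) ≤ 2 := by
    have h2 : Nat.card ((MulAction.stabilizer H a).subgroupOf
        (Subgroup.normalizer ((Subgroup.zpowers x : Subgroup H) : Set H))) ∣ 2 := by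
      have := Nat.dvd_gcd hS6 hS17
      rcases hd with rfl | rfl <;> simpa using this
    exact Nat.le_of_dvd (by norm_num) h2
  have hNcard : Nat.card (Subgroup.normalizer ((Subgroup.zpowers x : Subgroup H) : Set H)) ≤ 36 := by
    have h := Subgroup.card_mul_index ((MulAction.stabilizer H a).subgroupOf
      (Subgroup.normalizer ((Subgroup.zpowers x : Subgroup H) : Set H)))
    have hrel : ((MulAction.stabilizer H a).subgroupOf
        (Subgroup.normalizer ((Subgroup.zpowers x : Subgroup H) : Set H))).index ≤ 18 := by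
      rw [← hstab_idx]
      change (MulAction.stabilizer H a).relIndex _ ≤ _
      rw [← Subgroup.relIndex_top_right (MulAction.stabilizer H a)]
      exact Subgroup.relIndex_le_of_le_right le_top
        (by rw [Subgroup.relIndex_top_right, hstab_idx]; norm_num)
    calc Nat.card (Subgroup.normalizer ((Subgroup.zpowers x : Subgroup H) : Set H))
        = _ := h.symm
      _ ≤ 2 * 18 := Nat.mul_le_mul hS2 hrel
  have hcR : Nat.card (Subgroup.zpowers x) = 9 := by rw [Nat.card_zpowers, hx]
  have hpg : IsPGroup 3 (Subgroup.zpowers x) := IsPGroup.of_card (n := 2) (by rw [hcR]; norm_num)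
  have hidx : ¬ 3 ∣ (Subgroup.zpowers x).index := by
    have := Subgroup.card_mul_index (Subgroup.zpowers x)
    rw [hcR, hH] at this
    rcases hd with rfl | rfl <;> omega
  have hn3 : Nat.card (Sylow 3 H) =
      (Subgroup.normalizer ((Subgroup.zpowers x : Subgroup H) : Set H)).index := by
    have hset : ((hpg.toSylow hidx : Sylow 3 H) : Set H) =
        ((Subgroup.zpowers x : Subgroup H) : Set H) :=
      Set.ext fun g => IsPGroup.mem_toSylow hpg hidx
    rw [Sylow.card_eq_index_normalizer (hpg.toSylow hidx), hset]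
  have hmul := Subgroup.card_mul_index
    (Subgroup.normalizer ((Subgroup.zpowers x : Subgroup H) : Set H))
  rw [hH, ← hn3] at hmul
  exact N3.arith _ _ d hd hmul hNcard hdvd (card_sylow_modEq_one 3 H)

end Cfsg.Agent.S3641P
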