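import Mathlib

set_option autoImplicit false

/-! S3641 piece ORD9: `PSL₂(17)` and `PGL₂(17)` contain an element of order 9. -/

namespace Cfsg.Agent.S3641P

/-- The matrix `[[0,-1],[1,3]]` of `SL₂(17)`: its 9th power is `-1`, its cube is not scalar. -/
def ord9A : Matrix.SpecialLinearGroup (Fin 2) (ZMod 17) :=
  ⟨!![0, -1; 1, 3], by rw [Matrix.det_fin_two_of]; decide⟩

theorem ord9A_pow3_val : (ord9A ^ 3).val = !![14, 9; 8, 4] := by
  rw [pow_succ, pow_two]
  simp only [Matrix.SpecialLinearGroup.coe_mul]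
  simp only [ord9A, Matrix.mul_fin_two]
  rw [← Matrix.ext_iff]
  intro i j
  fin_cases i <;> fin_cases j <;> decide

theorem ord9A_pow9_val : (ord9A ^ 9).val = !![-1, 0; 0, -1] := by
  have h : ord9A ^ 9 = ord9A ^ 3 * ord9A ^ 3 * ord9A ^ 3 := by group
  rw [h]
  simp only [Matrix.SpecialLinearGroup.coe_mul, ord9A_pow3_val, Matrix.mul_fin_two]
  rw [← Matrix.ext_iff]
  intro i j
  fin_cases i <;> fin_cases j <;> decide

theorem ord9A_pow3_not_center :
    ord9A ^ 3 ∉ Subgroup.center (Matrix.SpecialLinearGroup (Fin 2) (ZMod 17)) := by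
  intro h
  obtain ⟨r, -, hr⟩ := Matrix.SpecialLinearGroup.mem_center_iff.mp h
  have h01 := congr_fun (congr_fun hr 0) 1
  rw [ord9A_pow3_val] at h01
  simp at h01
  exact absurd h01 (by decide)

theorem ord9A_pow9_center :
    ord9A ^ 9 ∈ Subgroup.center (Matrix.SpecialLinearGroup (Fin 2) (ZMod 17)) := by
  refine Matrix.SpecialLinearGroup.mem_center_iff.mpr ⟨-1, by decide, ?_⟩
  rw [ord9A_pow9_val]
  rw [← Matrix.ext_iff]
  intro i j
  fin_cases i <;> fin_cases j <;> simp

/-- ORD9.psl: `PSL₂(17)` has an element of order 9. -/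
theorem ORD9.psl : ∃ x : Matrix.ProjectiveSpecialLinearGroup (Fin 2) (ZMod 17), orderOf x = 9 := by
  refine ⟨(QuotientGroup.mk ord9A :
    Matrix.SpecialLinearGroup (Fin 2) (ZMod 17) ⧸
      Subgroup.center (Matrix.SpecialLinearGroup (Fin 2) (ZMod 17))), ?_⟩
  have := orderOf_eq_prime_pow (p := 3) (n := 1)
    (x := (QuotientGroup.mk ord9A : Matrix.SpecialLinearGroup (Fin 2) (ZMod 17) ⧸
      Subgroup.center (Matrix.SpecialLinearGroup (Fin 2) (ZMod 17)))) ?_ ?_
  · simpa using this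
  · rw [pow_one, ← QuotientGroup.mk_pow, QuotientGroup.eq_one_iff]
    exact ord9A_pow3_not_center
  · rw [← QuotientGroup.mk_pow, QuotientGroup.eq_one_iff]
    exact ord9A_pow9_center

/-- ORD9.pgl: `PGL₂(17)` has an element of order 9. -/
theorem ORD9.pgl : ∃ x : Matrix.ProjGenLinGroup (Fin 2) (ZMod 17), orderOf x = 9 := by
  refine ⟨Matrix.ProjGenLinGroup.mk (Matrix.SpecialLinearGroup.toGL ord9A), ?_⟩
  have := orderOf_eq_prime_pow (p := 3) (n := 1)
    (x := Matrix.ProjGenLinGroup.mk (Matrix.SpecialLinearGroup.toGL ord9A)) ?_ ?_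
  · simpa using this
  · rw [pow_one, ← map_pow, ← map_pow, Matrix.ProjGenLinGroup.mk_eq_one,
      Matrix.SpecialLinearGroup.toGL_mem_center_iff]
    exact ord9A_pow3_not_center
  · rw [← map_pow, ← map_pow, Matrix.ProjGenLinGroup.mk_eq_one,
      Matrix.SpecialLinearGroup.toGL_mem_center_iff]
    exact ord9A_pow9_center

end Cfsg.Agent.S3641P
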