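import Mathlib
import Cfsg.Agent.Helper29.S3fDefs

/-!
# Internal fixed-point-free conjugation lemmas (for S4305, piece (A))

Everything is *internal*: a group `Γ`, a finite subgroup `H`, an element `g` normalising `H` and
acting on it by conjugation `h ↦ g * h * g⁻¹`.
-/

set_option autoImplicit false

namespace Cfsg.Agent.Helper25.S3fCaseA

open Cfsg.Agent.Helper29.S3f

variable {Γ : Type*} [Group Γ]

/-- Surjectivity of the twist map `x ↦ x⁻¹ * (g x g⁻¹)` for a fixed-point-free conjugation. -/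
theorem twist_surj (H : Subgroup Γ) [Finite H] (g : Γ)
    (hN : ∀ h ∈ H, g * h * g⁻¹ ∈ H) (hfp : ∀ h ∈ H, g * h * g⁻¹ = h → h = 1) :
    ∀ h ∈ H, ∃ x ∈ H, h = x⁻¹ * (g * x * g⁻¹) := by
  have hinj : Function.Injective (fun x : ↥H =>
      (⟨(x : Γ)⁻¹ * (g * x * g⁻¹), H.mul_mem (H.inv_mem x.2) (hN x x.2)⟩ : ↥H)) := by
    intro x y hxy
    have h1 : (x : Γ)⁻¹ * (g * x * g⁻¹) = (y : Γ)⁻¹ * (g * y * g⁻¹) := congrArg Subtype.val hxy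
    have e : g * (y : Γ) * g⁻¹ = (y : Γ) * (x : Γ)⁻¹ * (g * x * g⁻¹) := by
      rw [mul_assoc (y : Γ), h1]; group
    have h2 : g * ((y : Γ) * (x : Γ)⁻¹) * g⁻¹ = (y : Γ) * (x : Γ)⁻¹ := by
      calc g * ((y : Γ) * (x : Γ)⁻¹) * g⁻¹ = (g * y * g⁻¹) * (g * x * g⁻¹)⁻¹ := by group
        _ = (y : Γ) * (x : Γ)⁻¹ := by rw [e]; group
    have h3 := hfp _ (H.mul_mem y.2 (H.inv_mem x.2)) h2
    apply Subtype.ext
    exact (mul_inv_eq_one.mp h3).symm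
  have hsurj := Finite.surjective_of_injective hinj
  intro h hh
  obtain ⟨x, hx⟩ := hsurj ⟨h, hh⟩
  exact ⟨x, x.2, (congrArg Subtype.val hx).symm⟩

/-- A fixed-point-free involution inverts. -/
theorem conj_eq_inv_of_fpf_invol (H : Subgroup Γ) [Finite H] (t : Γ) (ht : t * t = 1)
    (hN : ∀ h ∈ H, t * h * t⁻¹ ∈ H) (hfp : ∀ h ∈ H, t * h * t⁻¹ = h → h = 1) :
    ∀ h ∈ H, t * h * t⁻¹ = h⁻¹ := by
  intro h hh
  obtain ⟨x, _, rfl⟩ := twist_surj H t hN hfp h hh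
  have hti : t⁻¹ = t := inv_eq_of_mul_eq_one_left ht
  have e : t * (t * x * t⁻¹) * t⁻¹ = x := by
    rw [hti]
    calc t * (t * x * t) * t = (t * t) * x * (t * t) := by group
      _ = x := by rw [ht, one_mul, mul_one]
  calc t * (x⁻¹ * (t * x * t⁻¹)) * t⁻¹ = (t * x * t⁻¹)⁻¹ * (t * (t * x * t⁻¹) * t⁻¹) := by group
    _ = (x⁻¹ * (t * x * t⁻¹))⁻¹ := by rw [e]; group

/-- A subgroup inverted by conjugation is abelian. -/
theorem comm_of_conj_eq_inv (H : Subgroup Γ) (t : Γ) (hinv : ∀ h ∈ H, t * h * t⁻¹ = h⁻¹) :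
    ∀ a ∈ H, ∀ b ∈ H, a * b = b * a := by
  intro a ha b hb
  have h1 := hinv (a * b) (H.mul_mem ha hb)
  have h2 : t * (a * b) * t⁻¹ = (t * a * t⁻¹) * (t * b * t⁻¹) := by group
  rw [h2, hinv a ha, hinv b hb, mul_inv_rev] at h1
  -- a⁻¹ * b⁻¹ = b⁻¹ * a⁻¹
  have h3 : (a⁻¹ * b⁻¹)⁻¹ = (b⁻¹ * a⁻¹)⁻¹ := by rw [h1]
  simpa using h3.symm

/-- A fixed-point-free conjugation of order three: `h * f(h) * f²(h) = 1`. -/
theorem fpf3_prod (H : Subgroup Γ) [Finite H] (f : Γ) (hf : f * f * f = 1)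
    (hN : ∀ h ∈ H, f * h * f⁻¹ ∈ H) (hfp : ∀ h ∈ H, f * h * f⁻¹ = h → h = 1) :
    ∀ h ∈ H, h * (f * h * f⁻¹) * (f * (f * h * f⁻¹) * f⁻¹) = 1 := by
  intro h hh
  obtain ⟨x, _, rfl⟩ := twist_surj H f hN hfp h hh
  have e : f * (f * (f * x * f⁻¹) * f⁻¹) * f⁻¹ = x := by
    calc f * (f * (f * x * f⁻¹) * f⁻¹) * f⁻¹ = (f * f * f) * x * (f * f * f)⁻¹ := by group
      _ = x := by rw [hf]; group
  calc x⁻¹ * (f * x * f⁻¹) * (f * (x⁻¹ * (f * x * f⁻¹)) * f⁻¹) *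
        (f * (f * (x⁻¹ * (f * x * f⁻¹)) * f⁻¹) * f⁻¹)
      = x⁻¹ * (f * (f * (f * x * f⁻¹) * f⁻¹) * f⁻¹) := by group
    _ = 1 := by rw [e]; group

/-- A fixed-point-free conjugation of order three: `h` commutes with `f(h)`. -/
theorem fpf3_comm (H : Subgroup Γ) [Finite H] (f : Γ) (hf : f * f * f = 1)
    (hN : ∀ h ∈ H, f * h * f⁻¹ ∈ H) (hfp : ∀ h ∈ H, f * h * f⁻¹ = h → h = 1) :
    ∀ h ∈ H, h * (f * h * f⁻¹) = (f * h * f⁻¹) * h := by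
  intro h hh
  have h1 := fpf3_prod H f hf hN hfp h hh
  have h2 := fpf3_prod H f hf hN hfp h⁻¹ (H.inv_mem hh)
  have ha' : f * h⁻¹ * f⁻¹ = (f * h * f⁻¹)⁻¹ := by group
  rw [ha'] at h2
  obtain ⟨a, ha⟩ : ∃ a, a = f * h * f⁻¹ := ⟨_, rfl⟩
  rw [← ha] at h1 h2 ⊢
  have hb' : f * a⁻¹ * f⁻¹ = (f * a * f⁻¹)⁻¹ := by group
  rw [hb'] at h2
  obtain ⟨b, hb⟩ : ∃ b, b = f * a * f⁻¹ := ⟨_, rfl⟩
  rw [← hb] at h1 h2
  -- h1 : h * a * b = 1, h2 : h⁻¹ * a⁻¹ * b⁻¹ = 1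
  have e1 : b = (h * a)⁻¹ := (inv_eq_of_mul_eq_one_right h1).symm
  have e2 : b = (a * h)⁻¹ := by
    have : (h⁻¹ * a⁻¹ * b⁻¹)⁻¹ = 1 := by rw [h2, inv_one]
    have h3 : b * a * h = 1 := by simpa [mul_assoc] using this
    rw [mul_assoc] at h3
    exact (inv_eq_of_mul_eq_one_left h3).symm
  have := e1.symm.trans e2
  exact inv_injective this

/-- LEMMA L, abstract form. If every `u ∈ X` commutes with `g u g⁻¹`, `D ⊴ X` and `w ∈ X` has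
`g w g⁻¹ ∈ D`, then `[w, X] ≤ D`. -/
theorem comm_mem_of_conj_mem (X D : Subgroup Γ) (g : Γ)
    (hgX : ∀ x ∈ X, g⁻¹ * x * g ∈ X)
    (hDn : ∀ y ∈ X, ∀ d ∈ D, y * d * y⁻¹ ∈ D)
    (hcomm : ∀ u ∈ X, u * (g * u * g⁻¹) = (g * u * g⁻¹) * u)
    {w : Γ} (hw : w ∈ X) (hwD : g * w * g⁻¹ ∈ D) :
    ∀ y ∈ X, w * y * w⁻¹ * y⁻¹ ∈ D := by
  intro y hy
  obtain ⟨x', hx'⟩ : ∃ x', x' = g⁻¹ * y * g := ⟨_, rfl⟩
  have hx'X : x' ∈ X := by rw [hx']; exact hgX y hy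
  have hy' : g * x' * g⁻¹ = y := by rw [hx']; group
  obtain ⟨d, hd⟩ : ∃ d, d = g * w * g⁻¹ := ⟨_, rfl⟩
  rw [← hd] at hwD
  -- `x'` commutes with `y`
  have hxy : x' * y = y * x' := by
    have := hcomm x' hx'X
    rwa [hy'] at this
  -- `x' w` commutes with `y d`
  have hc : x' * w * (y * d) = y * d * (x' * w) := by
    have := hcomm (x' * w) (X.mul_mem hx'X hw)
    have e : g * (x' * w) * g⁻¹ = y * d := by
      rw [← hy', hd]; group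
    rwa [e] at this
  have hxy' : x'⁻¹ * y = y * x'⁻¹ := by
    calc x'⁻¹ * y = x'⁻¹ * (y * x') * x'⁻¹ := by group
      _ = x'⁻¹ * (x' * y) * x'⁻¹ := by rw [hxy]
      _ = y * x'⁻¹ := by group
  have key : w * y = y * x'⁻¹ * d * x' * w * d⁻¹ := by
    calc w * y = x'⁻¹ * (x' * w * (y * d)) * d⁻¹ := by group
      _ = x'⁻¹ * (y * d * (x' * w)) * d⁻¹ := by rw [hc]
      _ = (x'⁻¹ * y) * d * x' * w * d⁻¹ := by group
      _ = y * x'⁻¹ * d * x' * w * d⁻¹ := by rw [hxy']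
  have e2 : w * y * w⁻¹ * y⁻¹ = y * ((x'⁻¹ * d * x'⁻¹⁻¹) * (w * d⁻¹ * w⁻¹)) * y⁻¹ := by
    rw [key]; group
  rw [e2]
  apply hDn y hy
  apply D.mul_mem
  · exact hDn _ (X.inv_mem hx'X) _ hwD
  · exact hDn _ hw _ (D.inv_mem hwD)

/-- In a `p`-group with `p ≥ 5`, every element is a power of its square. -/
theorem exists_sq_pow_eq {s : ℕ} [Fact s.Prime] (hs : 5 ≤ s) (X : Subgroup Γ) (hX : IsPGroup s X)
    {x : Γ} (hx : x ∈ X) : ∃ n : ℕ, (x * x) ^ n = x := by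
  obtain ⟨k, hk⟩ := hX ⟨x, hx⟩
  have hk' : x ^ (s ^ k) = 1 := by
    have := congrArg Subtype.val hk
    simpa using this
  have hsodd : Odd s := by
    apply (Fact.out : s.Prime).odd_of_ne_two
    omega
  have hodd : Odd (s ^ k) := hsodd.pow
  obtain ⟨m, hm⟩ := hodd
  refine ⟨m + 1, ?_⟩
  rw [← pow_two, ← pow_mul]
  have : 2 * (m + 1) = s ^ k + 1 := by omega
  rw [this, pow_succ, hk', one_mul]

theorem eq_one_of_sq_eq_one {s : ℕ} [Fact s.Prime] (hs : 5 ≤ s) (X : Subgroup Γ) (hX : IsPGroup s X)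
    {x : Γ} (hx : x ∈ X) (h2 : x * x = 1) : x = 1 := by
  obtain ⟨n, hn⟩ := exists_sq_pow_eq hs X hX hx
  rw [← hn, h2, one_pow]

end Cfsg.Agent.Helper25.S3fCaseA
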