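import Mathlib
import Cfsg.Agent.Helper29.S3fWt
import Cfsg.Agent.Helper25.S3fGrp

/-!
# S4305, piece (A): the case where `X` is an `s`-group
-/

set_option autoImplicit false

namespace Cfsg.Agent.Helper25.S3fCaseA

open Cfsg.Agent.Helper29.S3f

/-! ### Facts about `S₃` -/

theorem A0_cases_invol : ∀ t a : A0, t * t = 1 → t ≠ 1 →
    a = 1 ∨ a = f0 ∨ a = f0 * f0 ∨ a = t ∨ a = f0 * t ∨ a = f0 * f0 * t := by
  decide

theorem invol_conj_f0 : ∀ t : A0, t * t = 1 → t ≠ 1 → t * f0 * t⁻¹ = f0⁻¹ := by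
  decide

theorem invol_cases : ∀ t t' : A0, t * t = 1 → t ≠ 1 → t' * t' = 1 → t' ≠ 1 →
    t' = t ∨ t' = f0 * t * f0⁻¹ ∨ t' = f0⁻¹ * t * f0⁻¹⁻¹ := by
  decide

theorem ne_one_cases : ∀ a : A0, a ≠ 1 → a = f0 ∨ a = f0 * f0 ∨ a * a = 1 := by
  decide

theorem f0_eq_mul : f0 = (f0 * t0) * t0 := by decide
theorem f0t0_invol : (f0 * t0) * (f0 * t0) = 1 := by decide
theorem f0t0_ne_one : f0 * t0 ≠ 1 := by decide
theorem f0_sq_sq : (f0 * f0) * (f0 * f0) = f0 := by decide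

variable {Γ : Type*} [Group Γ]

theorem conj_all_of_gens (j : A0 →* Γ) (t : A0) (ht : t * t = 1) (ht1 : t ≠ 1) (x : Γ)
    (hf : j f0 * x * (j f0)⁻¹ = x) (htx : j t * x * (j t)⁻¹ = x) :
    ∀ a : A0, j a * x * (j a)⁻¹ = x := by
  have key : ∀ a b : A0, j a * x * (j a)⁻¹ = x → j b * x * (j b)⁻¹ = x →
      j (a * b) * x * (j (a * b))⁻¹ = x := by
    intro a b ha hb
    have e : j (a * b) * x * (j (a * b))⁻¹ = j a * (j b * x * (j b)⁻¹) * (j a)⁻¹ := by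
      rw [map_mul]; group
    rw [e, hb, ha]
  intro a
  rcases A0_cases_invol t a ht ht1 with rfl | rfl | rfl | rfl | rfl | rfl
  · simp
  · exact hf
  · exact key _ _ hf hf
  · exact htx
  · exact key _ _ hf htx
  · exact key _ _ (key _ _ hf hf) htx

variable {K : Type*} [Field K] {M : Type*} [AddCommGroup M] [Module K M]
variable (ρ : Representation K Γ M) (j : A0 →* Γ)

theorem rho_mul_apply (g h : Γ) (m : M) : ρ (g * h) m = ρ g (ρ h m) := by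
  rw [map_mul, Module.End.mul_apply]

theorem fix_all_of_gens (t : A0) (ht : t * t = 1) (ht1 : t ≠ 1) (m : M)
    (hf : ρ (j f0) m = m) (htm : ρ (j t) m = m) : ∀ a : A0, ρ (j a) m = m := by
  have key : ∀ a b : A0, ρ (j a) m = m → ρ (j b) m = m → ρ (j (a * b)) m = m := by
    intro a b ha hb
    rw [map_mul, rho_mul_apply, hb, ha]
  intro a
  rcases A0_cases_invol t a ht ht1 with rfl | rfl | rfl | rfl | rfl | rfl
  · simp
  · exact hf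
  · exact key _ _ hf hf
  · exact htm
  · exact key _ _ hf htm
  · exact key _ _ (key _ _ hf hf) htm

theorem j_invol_inv (t : A0) (ht : t * t = 1) : (j t)⁻¹ = j t := by
  apply inv_eq_of_mul_eq_one_left
  rw [← map_mul, ht, map_one]

/-- `t = -1` on `C_M(f)`. -/
theorem neg_of_fix_f (hfixA : ∀ m : M, (∀ a : A0, ρ (j a) m = m) → m = 0)
    (t : A0) (ht : t * t = 1) (ht1 : t ≠ 1) (v : M) (hv : ρ (j f0) v = v) :
    ρ (j t) v = -v := by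
  have hvi : ρ (j f0)⁻¹ v = v := by
    conv_lhs => rw [← hv]
    exact rho_inv_rho ρ _ v
  have hFT : j f0 * j t = j t * (j f0)⁻¹ := by
    have h1 := invol_conj_f0 t ht ht1
    have h2 : f0 * t = t * f0⁻¹ := by
      have : t * f0⁻¹ * t⁻¹ = f0 := by
        have := congrArg (·⁻¹) h1
        simpa [mul_assoc] using this
      calc f0 * t = (t * f0⁻¹ * t⁻¹) * t := by rw [this]
        _ = t * f0⁻¹ := by group
    rw [← map_inv, ← map_mul, ← map_mul, h2]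
  have hw : v + ρ (j t) v = 0 := by
    apply hfixA
    apply fix_all_of_gens ρ j t ht ht1
    · rw [map_add, ← rho_mul_apply, hFT, rho_mul_apply, hvi, hv]
    · rw [map_add, ← rho_mul_apply, ← map_mul, ht, map_one, map_one, Module.End.one_apply,
        add_comm]
  exact eq_neg_of_add_eq_zero_right hw

theorem rho_pow_fix (g : Γ) (v : M) (h : ρ g v = v) (n : ℕ) : ρ (g ^ n) v = v := by
  induction n with
  | zero => simp
  | succ n ih => rw [pow_succ, rho_mul_apply, h, ih]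

/-- (a-i), module part: if `f` centralises `Z` and `Z` has no nonzero fixed vector, then neither
has `f`. -/
theorem fixF_eq_zero_of_central [Finite Γ] {s : ℕ} [Fact s.Prime] (hs : 5 ≤ s)
    (X Z : Subgroup Γ) (hX : IsPGroup s X) (hZX : Z ≤ X) (hZinv : AInv j Z)
    (hfpf : ∀ x ∈ X, (∀ a : A0, j a * x * (j a)⁻¹ = x) → x = 1)
    (hfixA : ∀ m : M, (∀ a : A0, ρ (j a) m = m) → m = 0)
    (hZF : ∀ z ∈ Z, j f0 * z * (j f0)⁻¹ = z)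
    (hfixZ : ∀ m : M, (∀ b ∈ Z, ρ b m = m) → m = 0) :
    ∀ m : M, ρ (j f0) m = m → m = 0 := by
  intro v hv
  have ht := t0_mul_t0
  have ht1 := t0_ne_one
  -- `t0` inverts `Z`
  have hinvZ : ∀ z ∈ Z, j t0 * z * (j t0)⁻¹ = z⁻¹ := by
    apply conj_eq_inv_of_fpf_invol Z (j t0)
    · rw [← map_mul, ht, map_one]
    · exact hZinv t0
    · intro z hz hzt
      exact hfpf z (hZX hz) (conj_all_of_gens j t0 ht ht1 z (hZF z hz) hzt)
  apply hfixZ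
  intro z hz
  -- `ρ z v` is again fixed by `f`
  have hzv : ρ (j f0) (ρ z v) = ρ z v := by
    have e : j f0 * z = z * j f0 := by
      have := hZF z hz
      calc j f0 * z = (j f0 * z * (j f0)⁻¹) * j f0 := by group
        _ = z * j f0 := by rw [this]
    rw [← rho_mul_apply, e, rho_mul_apply, hv]
  have h1 := neg_of_fix_f ρ j hfixA t0 ht ht1 v hv
  have h2 := neg_of_fix_f ρ j hfixA t0 ht ht1 (ρ z v) hzv
  -- `t z = z⁻¹ t`
  have e : j t0 * z = z⁻¹ * j t0 := by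
    have := hinvZ z hz
    calc j t0 * z = (j t0 * z * (j t0)⁻¹) * j t0 := by group
      _ = z⁻¹ * j t0 := by rw [this]
  have h3 : ρ z v = ρ z⁻¹ v := by
    have : ρ (j t0) (ρ z v) = -(ρ z⁻¹ v) := by
      rw [← rho_mul_apply, e, rho_mul_apply, h1, map_neg]
    rw [h2] at this
    exact neg_injective this
  have h4 : ρ (z * z) v = v := by
    rw [rho_mul_apply, h3]
    exact rho_rho_inv ρ z v
  obtain ⟨n, hn⟩ := exists_sq_pow_eq hs X hX (hZX hz)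
  rw [← hn]
  exact rho_pow_fix ρ _ v h4 n

/-- Case (a-i). -/
theorem caseA_i [Finite Γ] {s : ℕ} [Fact s.Prime] (hs : 5 ≤ s)
    (X Z : Subgroup Γ) [X.Normal] (hX : IsPGroup s X) (hZX : Z ≤ X) (hZinv : AInv j Z)
    (hfpf : ∀ x ∈ X, (∀ a : A0, j a * x * (j a)⁻¹ = x) → x = 1)
    (hfixA : ∀ m : M, (∀ a : A0, ρ (j a) m = m) → m = 0)
    (hZF : ∀ z ∈ Z, j f0 * z * (j f0)⁻¹ = z)
    (hfixZ : ∀ m : M, (∀ b ∈ Z, ρ b m = m) → m = 0)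
    (h8 : (∀ m : M, ρ (j f0) m = m → m = 0) → ∀ x ∈ X, j f0 * x * (j f0)⁻¹ = x) :
    ∀ a ∈ X, ∀ b ∈ X, a * b = b * a := by
  have hF := h8 (fixF_eq_zero_of_central ρ j hs X Z hX hZX hZinv hfpf hfixA hZF hfixZ)
  have ht := t0_mul_t0
  have ht1 := t0_ne_one
  apply comm_of_conj_eq_inv X (j t0)
  apply conj_eq_inv_of_fpf_invol X (j t0)
  · rw [← map_mul, ht, map_one]
  · intro h hh
    exact Subgroup.Normal.conj_mem inferInstance h hh _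
  · intro x hx hxt
    exact hfpf x hx (conj_all_of_gens j t0 ht ht1 x (hF x hx) hxt)

/-! ### The subgroup `[Z, g]` of an abelian normal subgroup -/

/-- `[Z, g] = {z⁻¹ * (g z g⁻¹)}` for an abelian normal subgroup `Z`. -/
def twistSub (Z : Subgroup Γ) [Z.Normal] (hZab : ∀ a ∈ Z, ∀ b ∈ Z, a * b = b * a) (g : Γ) :
    Subgroup Γ where
  carrier := {w | ∃ z ∈ Z, w = z⁻¹ * (g * z * g⁻¹)}
  one_mem' := ⟨1, Z.one_mem, by group⟩
  mul_mem' := by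
    rintro _ _ ⟨z1, hz1, rfl⟩ ⟨z2, hz2, rfl⟩
    refine ⟨z1 * z2, Z.mul_mem hz1 hz2, ?_⟩
    have hg1 : g * z1 * g⁻¹ ∈ Z := Subgroup.Normal.conj_mem inferInstance z1 hz1 g
    have hc := hZab _ hg1 _ (Z.inv_mem hz2)
    calc z1⁻¹ * (g * z1 * g⁻¹) * (z2⁻¹ * (g * z2 * g⁻¹))
        = z1⁻¹ * ((g * z1 * g⁻¹) * z2⁻¹) * (g * z2 * g⁻¹) := by group
      _ = z1⁻¹ * (z2⁻¹ * (g * z1 * g⁻¹)) * (g * z2 * g⁻¹) := by rw [hc]
      _ = (z2⁻¹ * z1⁻¹)⁻¹⁻¹ * (g * z1 * g⁻¹) * (g * z2 * g⁻¹) := by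
          rw [hZab _ (Z.inv_mem hz2) _ (Z.inv_mem hz1)]; group
      _ = (z1 * z2)⁻¹ * (g * (z1 * z2) * g⁻¹) := by group
  inv_mem' := by
    rintro _ ⟨z, hz, rfl⟩
    refine ⟨z⁻¹, Z.inv_mem hz, ?_⟩
    have hg1 : g * z⁻¹ * g⁻¹ ∈ Z := Subgroup.Normal.conj_mem inferInstance _ (Z.inv_mem hz) g
    have hc := hZab _ hg1 _ hz
    calc (z⁻¹ * (g * z * g⁻¹))⁻¹ = (g * z⁻¹ * g⁻¹) * z := by group
      _ = z * (g * z⁻¹ * g⁻¹) := hc
      _ = z⁻¹⁻¹ * (g * z⁻¹ * g⁻¹) := by group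

theorem mem_twistSub (Z : Subgroup Γ) [Z.Normal] (hZab : ∀ a ∈ Z, ∀ b ∈ Z, a * b = b * a) (g : Γ)
    (w : Γ) : w ∈ twistSub Z hZab g ↔ ∃ z ∈ Z, w = z⁻¹ * (g * z * g⁻¹) := Iff.rfl

theorem twistSub_le (Z : Subgroup Γ) [Z.Normal] (hZab : ∀ a ∈ Z, ∀ b ∈ Z, a * b = b * a) (g : Γ) :
    twistSub Z hZab g ≤ Z := by
  rintro _ ⟨z, hz, rfl⟩
  exact Z.mul_mem (Z.inv_mem hz) (Subgroup.Normal.conj_mem inferInstance z hz g)

theorem twistSub_AInv (Z : Subgroup Γ) [Z.Normal] (hZab : ∀ a ∈ Z, ∀ b ∈ Z, a * b = b * a) :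
    AInv j (twistSub Z hZab (j f0)) := by
  apply AInv_of_gens
  · rintro _ ⟨z, hz, rfl⟩
    refine ⟨j f0 * z * (j f0)⁻¹, Subgroup.Normal.conj_mem inferInstance z hz _, ?_⟩
    group
  · rintro _ ⟨z, hz, rfl⟩
    -- `T (z⁻¹ F z F⁻¹) T⁻¹ = (u⁻¹ F u F⁻¹)⁻¹` with `u = F⁻¹ (T z T⁻¹) F`
    have hTF : j t0 * j f0 * (j t0)⁻¹ = (j f0)⁻¹ := by
      rw [← map_inv, ← map_inv, ← map_mul, ← map_mul, t0_conj_f0]
    obtain ⟨w, hw⟩ : ∃ w, w = j t0 * z * (j t0)⁻¹ := ⟨_, rfl⟩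
    have hwZ : w ∈ Z := by rw [hw]; exact Subgroup.Normal.conj_mem inferInstance z hz _
    have huZ : (j f0)⁻¹ * w * (j f0)⁻¹⁻¹ ∈ Z := Subgroup.Normal.conj_mem inferInstance w hwZ _
    have e : j t0 * (z⁻¹ * (j f0 * z * (j f0)⁻¹)) * (j t0)⁻¹ =
        (((j f0)⁻¹ * w * (j f0)⁻¹⁻¹)⁻¹ *
          (j f0 * ((j f0)⁻¹ * w * (j f0)⁻¹⁻¹) * (j f0)⁻¹))⁻¹ := by
      calc j t0 * (z⁻¹ * (j f0 * z * (j f0)⁻¹)) * (j t0)⁻¹
          = (j t0 * z * (j t0)⁻¹)⁻¹ * ((j t0 * j f0 * (j t0)⁻¹) * (j t0 * z * (j t0)⁻¹) *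
              (j t0 * j f0 * (j t0)⁻¹)⁻¹) := by group
        _ = w⁻¹ * ((j f0)⁻¹ * w * (j f0)⁻¹⁻¹) := by rw [hTF, ← hw]
        _ = _ := by group
    rw [e]
    exact (twistSub Z hZab (j f0)).inv_mem ⟨_, huZ, rfl⟩

/-! ### Weights of a central subgroup -/

variable (X Z : Subgroup Γ)

theorem conjChar_eq_self_of_comm [Z.Normal] (g : Γ) (hg : ∀ b ∈ Z, g * b = b * g)
    (χ : ↥Z →* Kˣ) : conjChar g χ = χ := by
  ext b
  rw [conjChar_apply]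
  congr 2
  apply Subtype.ext
  rw [coe_conjNormal_inv, mul_assoc, ← hg b b.2]
  group

/-- If `χ` is `f`-stable, every weight vector of `χ` is fixed by `[Z, f]`. -/
theorem fix_twistSub_of_stable [Z.Normal] (hZab : ∀ a ∈ Z, ∀ b ∈ Z, a * b = b * a)
    {χ : ↥Z →* Kˣ} (hχ : conjChar (j f0) χ = χ) {m : M} (hm : m ∈ wtSpace ρ Z χ) :
    ∀ b ∈ twistSub Z hZab (j f0), ρ b m = m := by
  rintro _ ⟨z, hz, rfl⟩
  obtain ⟨zz, hzz⟩ : ∃ zz : ↥Z, (zz : Γ) = z := ⟨⟨z, hz⟩, rfl⟩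
  obtain ⟨Fz, hFz⟩ : ∃ Fz : ↥Z, (Fz : Γ) = j f0 * z * (j f0)⁻¹ :=
    ⟨⟨_, Subgroup.Normal.conj_mem inferInstance z hz _⟩, rfl⟩
  have e1 : z⁻¹ * (j f0 * z * (j f0)⁻¹) = ((zz⁻¹ * Fz : ↥Z) : Γ) := by
    rw [Subgroup.coe_mul, Subgroup.coe_inv, hzz, hFz]
  have e2 : χ Fz = χ zz := by
    have h1 : conjChar (j f0) χ Fz = χ Fz := by rw [hχ]
    rw [conjChar_apply] at h1
    rw [← h1]
    congr 1
    apply Subtype.ext
    rw [coe_conjNormal_inv, hFz, hzz]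
    group
  rw [e1, hm (zz⁻¹ * Fz), map_mul, map_inv, e2, inv_mul_cancel, Units.val_one, one_smul]

/-- The elements of `X` acting trivially on all weight spaces `V_χ` with `P χ`. -/
def Dfix (P : (↥Z →* Kˣ) → Prop) : Subgroup Γ where
  carrier := {x | x ∈ X ∧ ∀ χ : ↥Z →* Kˣ, P χ → ∀ m ∈ wtSpace ρ Z χ, ρ x m = m}
  one_mem' := ⟨X.one_mem, fun χ _ m _ => by rw [map_one, Module.End.one_apply]⟩
  mul_mem' := by
    rintro a b ⟨ha, ha'⟩ ⟨hb, hb'⟩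
    refine ⟨X.mul_mem ha hb, ?_⟩
    intro χ hχ m hm
    rw [rho_mul_apply, hb' χ hχ m hm, ha' χ hχ m hm]
  inv_mem' := by
    rintro a ⟨ha, ha'⟩
    refine ⟨X.inv_mem ha, ?_⟩
    intro χ hχ m hm
    conv_lhs => rw [← ha' χ hχ m hm]
    exact rho_inv_rho ρ a m

theorem Dfix_le (P : (↥Z →* Kˣ) → Prop) : Dfix ρ X Z P ≤ X := fun _ hx => hx.1

theorem conj_mem_Dfix [X.Normal] [Z.Normal] {P P' : (↥Z →* Kˣ) → Prop} (g : Γ)
    (hP : ∀ χ, P' χ → P (conjChar g⁻¹ χ)) {x : Γ} (hx : x ∈ Dfix ρ X Z P) :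
    g * x * g⁻¹ ∈ Dfix ρ X Z P' := by
  refine ⟨Subgroup.Normal.conj_mem inferInstance x hx.1 g, ?_⟩
  intro χ hχ m hm
  have h1 : ρ g⁻¹ m ∈ wtSpace ρ Z (conjChar g⁻¹ χ) := rho_mem_wtSpace_conjChar ρ Z g⁻¹ hm
  have h2 := hx.2 _ (hP χ hχ) _ h1
  rw [rho_mul_apply, rho_mul_apply, h2]
  exact rho_rho_inv ρ g m

theorem Dfix_normal_in [X.Normal] [Z.Normal] (hZc : ∀ x ∈ X, ∀ b ∈ Z, x * b = b * x)
    (P : (↥Z →* Kˣ) → Prop) :
    ∀ y ∈ X, ∀ d ∈ Dfix ρ X Z P, y * d * y⁻¹ ∈ Dfix ρ X Z P := by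
  intro y hy d hd
  apply conj_mem_Dfix ρ X Z y _ hd
  intro χ hχ
  rw [conjChar_eq_self_of_comm Z y⁻¹ (hZc _ (X.inv_mem hy))]
  exact hχ

theorem conj_mem_Dt [X.Normal] [Z.Normal] (a t : A0) {x : Γ}
    (hx : x ∈ Dfix ρ X Z (fun χ => conjChar (j t) χ = χ)) :
    j a * x * (j a)⁻¹ ∈ Dfix ρ X Z (fun χ => conjChar (j (a * t * a⁻¹)) χ = χ) := by
  apply conj_mem_Dfix ρ X Z (j a) _ hx
  intro χ hχ
  show conjChar (j t) (conjChar (j a)⁻¹ χ) = conjChar (j a)⁻¹ χ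
  have e : j t * (j a)⁻¹ = (j a)⁻¹ * j (a * t * a⁻¹) := by
    rw [map_mul, map_mul, map_inv]; group
  have hχ' : conjChar (j (a * t * a⁻¹)) χ = χ := hχ
  rw [← conjChar_mul, e, conjChar_mul, hχ']

/-- An involution of `A0` stabilising a weight `χ` acts as `-1` on the weight space, provided no
nonzero weight space is `f0`-stable. -/
theorem neg_on_wt [Z.Normal] (hZab : ∀ a ∈ Z, ∀ b ∈ Z, a * b = b * a) (h6 : (6 : K) ≠ 0)
    (hfixA : ∀ m : M, (∀ a : A0, ρ (j a) m = m) → m = 0)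
    (hnoF : ∀ χ : ↥Z →* Kˣ, conjChar (j f0) χ = χ → ∀ m ∈ wtSpace ρ Z χ, m = 0)
    (t : A0) (ht : t * t = 1) (ht1 : t ≠ 1) {χ : ↥Z →* Kˣ} (hχ : conjChar (j t) χ = χ) {m : M}
    (hm : m ∈ wtSpace ρ Z χ) : ρ (j t) m = -m := by
  by_cases hm0 : m = 0
  · rw [hm0, map_zero, neg_zero]
  · have hf : conjChar (j f0) χ ≠ χ := fun h => hm0 (hnoF χ h m hm)
    exact neg_of_stab_invol ρ Z hZab j h6 hfixA t ht (stab_eq_of_not_f0 Z j t ht ht1 hχ hf) hχ hm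

/-- `[X, t] ≤ D_t`. -/
theorem twist_mem_Dt [X.Normal] [Z.Normal] (hZab : ∀ a ∈ Z, ∀ b ∈ Z, a * b = b * a)
    (hZc : ∀ x ∈ X, ∀ b ∈ Z, x * b = b * x) (h6 : (6 : K) ≠ 0)
    (hfixA : ∀ m : M, (∀ a : A0, ρ (j a) m = m) → m = 0)
    (hnoF : ∀ χ : ↥Z →* Kˣ, conjChar (j f0) χ = χ → ∀ m ∈ wtSpace ρ Z χ, m = 0)
    (t : A0) (ht : t * t = 1) (ht1 : t ≠ 1) {x : Γ} (hx : x ∈ X) :
    x⁻¹ * (j t * x * (j t)⁻¹) ∈ Dfix ρ X Z (fun χ => conjChar (j t) χ = χ) := by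
  refine ⟨X.mul_mem (X.inv_mem hx) (Subgroup.Normal.conj_mem inferInstance x hx _), ?_⟩
  intro χ hχ m hm
  have hxm : ρ x m ∈ wtSpace ρ Z χ := by
    have := rho_mem_wtSpace_conjChar ρ Z x hm
    rwa [conjChar_eq_self_of_comm Z x (hZc x hx)] at this
  have h1 := neg_on_wt ρ j Z hZab h6 hfixA hnoF t ht ht1 hχ hm
  have h2 := neg_on_wt ρ j Z hZab h6 hfixA hnoF t ht ht1 hχ hxm
  rw [j_invol_inv j t ht, rho_mul_apply, rho_mul_apply, rho_mul_apply, h1, map_neg, map_neg, h2,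
    neg_neg]
  exact rho_inv_rho ρ x m

/-- `D_1 ∩ D_2 ∩ D_3 = 1`. -/
theorem eq_one_of_mem_all_Dt [X.Normal] [Z.Normal] [IsAlgClosed K] [FiniteDimensional K M]
    (hZab : ∀ a ∈ Z, ∀ b ∈ Z, a * b = b * a)
    (hZc : ∀ x ∈ X, ∀ b ∈ Z, x * b = b * x) (h6 : (6 : K) ≠ 0)
    (hfixA : ∀ m : M, (∀ a : A0, ρ (j a) m = m) → m = 0)
    (hnoF : ∀ χ : ↥Z →* Kˣ, conjChar (j f0) χ = χ → ∀ m ∈ wtSpace ρ Z χ, m = 0)
    (hfaith : ∀ x ∈ X, ρ x = 1 → x = 1)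
    (hfix0 : ∀ B0 : Subgroup Γ, B0 ≤ X → (∀ x ∈ X, ∀ b ∈ B0, x * b * x⁻¹ ∈ B0) → AInv j B0 →
      B0 ≠ ⊥ → ∀ m : M, (∀ b ∈ B0, ρ b m = m) → m = 0)
    {x : Γ} (hxX : x ∈ X)
    (hx : ∀ t : A0, t * t = 1 → t ≠ 1 → x ∈ Dfix ρ X Z (fun χ => conjChar (j t) χ = χ)) :
    x = 1 := by
  have hall : x ∈ Dfix ρ X Z (fun _ => True) := by
    refine ⟨hxX, ?_⟩
    intro χ _ m hm
    by_cases hm0 : m = 0
    · rw [hm0, map_zero]
    · have hne : wtSpace ρ Z χ ≠ ⊥ := by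
        intro h
        rw [h] at hm
        exact hm0 ((Submodule.mem_bot K).mp hm)
      obtain ⟨a, ha1, ha⟩ := exists_stab_ne_one ρ Z hZab j h6 hfixA hne
      rcases ne_one_cases a ha1 with rfl | rfl | haa
      · exact absurd (hnoF χ ha m hm) hm0
      · exfalso
        apply hm0
        apply hnoF χ _ m hm
        have : conjChar (j ((f0 * f0) * (f0 * f0))) χ = χ := by
          rw [map_mul, conjChar_mul, ha, ha]
        rwa [f0_sq_sq] at this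
      · exact (hx a haa ha1).2 χ ha m hm
  by_contra hx1
  have hne : Dfix ρ X Z (fun _ => True) ≠ ⊥ := by
    intro h
    rw [h] at hall
    exact hx1 (Subgroup.mem_bot.mp hall)
  have hM : Nontrivial M := by
    by_contra hM
    rw [not_nontrivial_iff_subsingleton] at hM
    apply hx1
    apply hfaith x hxX
    ext m
    exact Subsingleton.elim _ _
  have htop : (⊤ : Submodule K M) ≠ ⊥ := top_ne_bot
  obtain ⟨χ, m, -, hm0, hm⟩ := exists_weight ρ Z hZab ⊤ htop (fun _ _ _ _ => Submodule.mem_top)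
  apply hm0
  apply hfix0 (Dfix ρ X Z (fun _ => True)) (Dfix_le ρ X Z _) (Dfix_normal_in ρ X Z hZc _) ?_ hne m
  · intro b hb
    exact hb.2 χ trivial m hm
  · intro a d hd
    exact conj_mem_Dfix ρ X Z (j a) (fun _ _ => trivial) hd

/-- `C_X(f) = 1` in case (a-ii). -/
theorem fpf_f_of [Finite Γ] [X.Normal] [Z.Normal] [IsAlgClosed K] [FiniteDimensional K M]
    {s : ℕ} [Fact s.Prime] (hs : 5 ≤ s) (hX : IsPGroup s X)
    (hfpf : ∀ x ∈ X, (∀ a : A0, j a * x * (j a)⁻¹ = x) → x = 1)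
    (hZab : ∀ a ∈ Z, ∀ b ∈ Z, a * b = b * a)
    (hZc : ∀ x ∈ X, ∀ b ∈ Z, x * b = b * x) (h6 : (6 : K) ≠ 0)
    (hfixA : ∀ m : M, (∀ a : A0, ρ (j a) m = m) → m = 0)
    (hnoF : ∀ χ : ↥Z →* Kˣ, conjChar (j f0) χ = χ → ∀ m ∈ wtSpace ρ Z χ, m = 0)
    (hfaith : ∀ x ∈ X, ρ x = 1 → x = 1)
    (hfix0 : ∀ B0 : Subgroup Γ, B0 ≤ X → (∀ x ∈ X, ∀ b ∈ B0, x * b * x⁻¹ ∈ B0) → AInv j B0 →
      B0 ≠ ⊥ → ∀ m : M, (∀ b ∈ B0, ρ b m = m) → m = 0) :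
    ∀ c ∈ X, j f0 * c * (j f0)⁻¹ = c → c = 1 := by
  intro c hcX hcF
  -- the subgroup `C = C_X(f)`
  obtain ⟨C, hC⟩ : ∃ C : Subgroup Γ, C = X ⊓ Subgroup.centralizer {j f0} := ⟨_, rfl⟩
  have memC : ∀ y, y ∈ C ↔ y ∈ X ∧ j f0 * y * (j f0)⁻¹ = y := by
    intro y
    rw [hC, Subgroup.mem_inf, Subgroup.mem_centralizer_iff]
    constructor
    · rintro ⟨h1, h2⟩
      refine ⟨h1, ?_⟩
      rw [h2 _ rfl]; group
    · rintro ⟨h1, h2⟩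
      refine ⟨h1, ?_⟩
      intro h hh
      rw [Set.mem_singleton_iff] at hh
      rw [hh]
      calc j f0 * y = (j f0 * y * (j f0)⁻¹) * j f0 := by group
        _ = y * j f0 := by rw [h2]
  have hcC : c ∈ C := (memC c).mpr ⟨hcX, hcF⟩
  -- every involution inverts `C`
  have hinv : ∀ t : A0, t * t = 1 → t ≠ 1 → ∀ y ∈ C, j t * y * (j t)⁻¹ = y⁻¹ := by
    intro t ht ht1
    have hTF : j t * j f0 * (j t)⁻¹ = (j f0)⁻¹ := by
      rw [← map_inv, ← map_inv, ← map_mul, ← map_mul, invol_conj_f0 t ht ht1]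
    have hTF' : (j t)⁻¹ * j f0 * j t = (j f0)⁻¹ := by
      have := hTF
      rw [j_invol_inv j t ht] at this ⊢
      exact this
    apply conj_eq_inv_of_fpf_invol C (j t)
    · rw [← map_mul, ht, map_one]
    · intro y hy
      obtain ⟨hyX, hyF⟩ := (memC y).mp hy
      refine (memC _).mpr ⟨Subgroup.Normal.conj_mem inferInstance y hyX _, ?_⟩
      have hy' : (j f0)⁻¹ * y * (j f0)⁻¹⁻¹ = y := by
        conv_lhs => rw [← hyF]
        group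
      calc j f0 * (j t * y * (j t)⁻¹) * (j f0)⁻¹
          = j t * (((j t)⁻¹ * j f0 * j t) * y * ((j t)⁻¹ * j f0 * j t)⁻¹) * (j t)⁻¹ := by group
        _ = j t * y * (j t)⁻¹ := by rw [hTF', hy']
    · intro y hy hyt
      obtain ⟨hyX, hyF⟩ := (memC y).mp hy
      exact hfpf y hyX (conj_all_of_gens j t ht ht1 y hyF hyt)
  -- hence `c⁻¹ * c⁻¹ ∈ D_t` for all `t`
  have h2 : c⁻¹ * c⁻¹ = 1 := by
    apply eq_one_of_mem_all_Dt ρ j X Z hZab hZc h6 hfixA hnoF hfaith hfix0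
      (X.mul_mem (X.inv_mem hcX) (X.inv_mem hcX))
    intro t ht ht1
    have := twist_mem_Dt ρ j X Z hZab hZc h6 hfixA hnoF t ht ht1 hcX
    rwa [hinv t ht ht1 c hcC] at this
  have h3 := eq_one_of_sq_eq_one hs X hX (X.inv_mem hcX) h2
  exact inv_eq_one.mp h3

/-- LEMMA L: `x⁻¹ t(x)` is central in `X`. -/
theorem twist_central [Finite Γ] [X.Normal] [Z.Normal] [IsAlgClosed K] [FiniteDimensional K M]
    (hZab : ∀ a ∈ Z, ∀ b ∈ Z, a * b = b * a)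
    (hZc : ∀ x ∈ X, ∀ b ∈ Z, x * b = b * x) (h6 : (6 : K) ≠ 0)
    (hfixA : ∀ m : M, (∀ a : A0, ρ (j a) m = m) → m = 0)
    (hnoF : ∀ χ : ↥Z →* Kˣ, conjChar (j f0) χ = χ → ∀ m ∈ wtSpace ρ Z χ, m = 0)
    (hfaith : ∀ x ∈ X, ρ x = 1 → x = 1)
    (hfix0 : ∀ B0 : Subgroup Γ, B0 ≤ X → (∀ x ∈ X, ∀ b ∈ B0, x * b * x⁻¹ ∈ B0) → AInv j B0 →
      B0 ≠ ⊥ → ∀ m : M, (∀ b ∈ B0, ρ b m = m) → m = 0)
    (hfF : ∀ c ∈ X, j f0 * c * (j f0)⁻¹ = c → c = 1)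
    (t : A0) (ht : t * t = 1) (ht1 : t ≠ 1) {x : Γ} (hx : x ∈ X) :
    ∀ y ∈ X, (x⁻¹ * (j t * x * (j t)⁻¹)) * y = y * (x⁻¹ * (j t * x * (j t)⁻¹)) := by
  intro y hy
  have hwD := twist_mem_Dt ρ j X Z hZab hZc h6 hfixA hnoF t ht ht1 hx
  obtain ⟨w, hw⟩ : ∃ w, w = x⁻¹ * (j t * x * (j t)⁻¹) := ⟨_, rfl⟩
  rw [← hw] at hwD ⊢
  have hwX : w ∈ X := hwD.1
  have hF3 : j f0 * j f0 * j f0 = 1 := by
    rw [← map_mul, ← map_mul, f0_mul_f0_mul_f0, map_one]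
  have hNF : ∀ h ∈ X, j f0 * h * (j f0)⁻¹ ∈ X :=
    fun h hh => Subgroup.Normal.conj_mem inferInstance h hh _
  have hcomm := fpf3_comm X (j f0) hF3 hNF hfF
  have hcomm' : ∀ u ∈ X, u * (j f0⁻¹ * u * (j f0⁻¹)⁻¹) = (j f0⁻¹ * u * (j f0⁻¹)⁻¹) * u := by
    intro u hu
    have hu' : j f0⁻¹ * u * (j f0⁻¹)⁻¹ ∈ X := Subgroup.Normal.conj_mem inferInstance u hu _
    have := hcomm _ hu'
    have e : j f0 * (j f0⁻¹ * u * (j f0⁻¹)⁻¹) * (j f0)⁻¹ = u := by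
      rw [map_inv]; group
    rw [e] at this
    exact this.symm
  have key : w * y * w⁻¹ * y⁻¹ = 1 := by
    apply eq_one_of_mem_all_Dt ρ j X Z hZab hZc h6 hfixA hnoF hfaith hfix0
      (X.mul_mem (X.mul_mem (X.mul_mem hwX hy) (X.inv_mem hwX)) (X.inv_mem hy))
    intro t' ht' ht1'
    rcases invol_cases t t' ht ht1 ht' ht1' with rfl | rfl | rfl
    · have e : w * y * w⁻¹ * y⁻¹ = w * (y * w⁻¹ * y⁻¹) := by group
      rw [e]
      exact Subgroup.mul_mem _ hwD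
        (Dfix_normal_in ρ X Z hZc _ y hy _ (Subgroup.inv_mem _ hwD))
    · exact comm_mem_of_conj_mem X _ (j f0)
        (fun x hx => by
          have := Subgroup.Normal.conj_mem (inferInstance : X.Normal) x hx (j f0)⁻¹
          rwa [inv_inv] at this)
        (Dfix_normal_in ρ X Z hZc _) hcomm hwX (conj_mem_Dt ρ j X Z f0 t hwD) y hy
    · exact comm_mem_of_conj_mem X _ (j f0⁻¹)
        (fun x hx => by
          have := Subgroup.Normal.conj_mem (inferInstance : X.Normal) x hx (j f0⁻¹)⁻¹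
          rwa [inv_inv] at this)
        (Dfix_normal_in ρ X Z hZc _) hcomm' hwX (conj_mem_Dt ρ j X Z f0⁻¹ t hwD) y hy
  calc w * y = (w * y * w⁻¹ * y⁻¹) * (y * w) := by group
    _ = y * w := by rw [key, one_mul]

/-- Case (a-ii). -/
theorem caseA_ii [Finite Γ] [X.Normal] [Z.Normal] [IsAlgClosed K] [FiniteDimensional K M]
    {s : ℕ} [Fact s.Prime] (hs : 5 ≤ s) (hX : IsPGroup s X)
    (hfpf : ∀ x ∈ X, (∀ a : A0, j a * x * (j a)⁻¹ = x) → x = 1)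
    (hZab : ∀ a ∈ Z, ∀ b ∈ Z, a * b = b * a)
    (hZc : ∀ x ∈ X, ∀ b ∈ Z, x * b = b * x) (h6 : (6 : K) ≠ 0)
    (hfixA : ∀ m : M, (∀ a : A0, ρ (j a) m = m) → m = 0)
    (hnoF : ∀ χ : ↥Z →* Kˣ, conjChar (j f0) χ = χ → ∀ m ∈ wtSpace ρ Z χ, m = 0)
    (hfaith : ∀ x ∈ X, ρ x = 1 → x = 1)
    (hfix0 : ∀ B0 : Subgroup Γ, B0 ≤ X → (∀ x ∈ X, ∀ b ∈ B0, x * b * x⁻¹ ∈ B0) → AInv j B0 →
      B0 ≠ ⊥ → ∀ m : M, (∀ b ∈ B0, ρ b m = m) → m = 0) :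
    ∀ a ∈ X, ∀ b ∈ X, a * b = b * a := by
  have hfF := fpf_f_of ρ j X Z hs hX hfpf hZab hZc h6 hfixA hnoF hfaith hfix0
  have hL := twist_central ρ j X Z hZab hZc h6 hfixA hnoF hfaith hfix0 hfF
  have hNF : ∀ h ∈ X, j f0 * h * (j f0)⁻¹ ∈ X :=
    fun h hh => Subgroup.Normal.conj_mem inferInstance h hh _
  intro a ha b hb
  obtain ⟨x, hx, rfl⟩ := twist_surj X (j f0) hNF hfF a ha
  -- `x⁻¹ f(x) = w1 * T1 w2 T1⁻¹`
  obtain ⟨w1, hw1⟩ : ∃ w1, w1 = x⁻¹ * (j (f0 * t0) * x * (j (f0 * t0))⁻¹) := ⟨_, rfl⟩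
  obtain ⟨w2, hw2⟩ : ∃ w2, w2 = x⁻¹ * (j t0 * x * (j t0)⁻¹) := ⟨_, rfl⟩
  have h1 := hL (f0 * t0) f0t0_invol f0t0_ne_one hx
  have h2 := hL t0 t0_mul_t0 t0_ne_one hx
  rw [← hw1] at h1
  rw [← hw2] at h2
  have e : x⁻¹ * (j f0 * x * (j f0)⁻¹) = w1 * (j (f0 * t0) * w2 * (j (f0 * t0))⁻¹) := by
    rw [hw1, hw2]
    conv_lhs => rw [f0_eq_mul, map_mul]
    group
  rw [e]
  -- conjugate of a central element is central
  have hb' : (j (f0 * t0))⁻¹ * b * (j (f0 * t0))⁻¹⁻¹ ∈ X :=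
    Subgroup.Normal.conj_mem inferInstance b hb _
  have h3 := h2 _ hb'
  have h4 : (j (f0 * t0) * w2 * (j (f0 * t0))⁻¹) * b = b * (j (f0 * t0) * w2 * (j (f0 * t0))⁻¹) := by
    calc (j (f0 * t0) * w2 * (j (f0 * t0))⁻¹) * b
        = j (f0 * t0) * (w2 * ((j (f0 * t0))⁻¹ * b * (j (f0 * t0))⁻¹⁻¹)) * (j (f0 * t0))⁻¹ := by
          group
      _ = j (f0 * t0) * (((j (f0 * t0))⁻¹ * b * (j (f0 * t0))⁻¹⁻¹) * w2) * (j (f0 * t0))⁻¹ := by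
          rw [h3]
      _ = b * (j (f0 * t0) * w2 * (j (f0 * t0))⁻¹) := by group
  rw [mul_assoc, h4, ← mul_assoc, h1 b hb, mul_assoc]

end Cfsg.Agent.Helper25.S3fCaseA

namespace Cfsg.Agent.Helper25.S3fCaseA

open Cfsg.Agent.Helper29.S3f

/-- CASE (a) of S4305: `X` an `s`-group. -/
theorem caseA {Γ : Type*} [Group Γ] [Finite Γ] (j : A0 →* Γ) (hj : Function.Injective j)
    (X : Subgroup Γ) [X.Normal] {s : ℕ} [Fact s.Prime] (hs : 5 ≤ s) (hX : IsPGroup s X)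
    (hfpf : ∀ x ∈ X, (∀ a : A0, j a * x * (j a)⁻¹ = x) → x = 1)
    (hdag : ∀ H : Subgroup Γ, H ≤ X → H ≠ X → AInv j H → ∀ a ∈ H, ∀ b ∈ H, a * b = b * a)
    {K : Type*} [Field K] [IsAlgClosed K] {r : ℕ} [Fact r.Prime] [CharP K r] (hr : 5 ≤ r)
    (hrs : r ≠ s)
    {M : Type*} [AddCommGroup M] [Module K M] [FiniteDimensional K M] (ρ : Representation K Γ M)
    (hfaith : ∀ x ∈ X, ρ x = 1 → x = 1)
    (hfixA : ∀ m : M, (∀ a : A0, ρ (j a) m = m) → m = 0)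
    (hfix0 : ∀ B0 : Subgroup Γ, B0 ≤ X → (∀ x ∈ X, ∀ b ∈ B0, x * b * x⁻¹ ∈ B0) → AInv j B0 →
      B0 ≠ ⊥ → ∀ m : M, (∀ b ∈ B0, ρ b m = m) → m = 0)
    (h8 : (∀ m : M, ρ (j f0) m = m → m = 0) → ∀ x ∈ X, j f0 * x * (j f0)⁻¹ = x) :
    ∀ a ∈ X, ∀ b ∈ X, a * b = b * a := by
  classical
  have h6 : (6 : K) ≠ 0 := by
    intro h
    have h' : ((6 : ℕ) : K) = 0 := by exact_mod_cast h
    rw [CharP.cast_eq_zero_iff K r] at h'
    have hle := Nat.le_of_dvd (by norm_num) h'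
    have hrp := (Fact.out : r.Prime)
    interval_cases r
    · omega
    · exact absurd hrp (by decide)
  by_cases hXbot : X = ⊥
  · intro a ha b hb
    rw [hXbot, Subgroup.mem_bot] at ha hb
    rw [ha, hb]
  obtain ⟨Z, hZdef⟩ : ∃ Z : Subgroup Γ, Z = X ⊓ Subgroup.centralizer (X : Set Γ) := ⟨_, rfl⟩
  have hZn : Z.Normal := by rw [hZdef]; infer_instance
  have hZX : Z ≤ X := by rw [hZdef]; exact inf_le_left
  have hZc : ∀ x ∈ X, ∀ b ∈ Z, x * b = b * x := by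
    intro x hx b hb
    rw [hZdef] at hb
    exact (Subgroup.mem_centralizer_iff.mp hb.2) x hx
  have hZab : ∀ a ∈ Z, ∀ b ∈ Z, a * b = b * a := fun a ha b hb => hZc a (hZX ha) b hb
  have hZinv : AInv j Z := fun a h hh => hZn.conj_mem h hh _
  have hZne : Z ≠ ⊥ := by
    have : Nontrivial ↥X := (Subgroup.nontrivial_iff_ne_bot X).mpr hXbot
    have := hX.center_nontrivial
    obtain ⟨z, hz⟩ := exists_ne (1 : Subgroup.center ↥X)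
    intro hbot
    apply hz
    have hzZ : ((z : ↥X) : Γ) ∈ Z := by
      rw [hZdef, Subgroup.mem_inf]
      refine ⟨(z : ↥X).2, ?_⟩
      rw [Subgroup.mem_centralizer_iff]
      intro h hh
      have := (Subgroup.mem_center_iff.mp z.2) ⟨h, hh⟩
      exact congrArg Subtype.val this
    rw [hbot, Subgroup.mem_bot] at hzZ
    apply Subtype.ext
    apply Subtype.ext
    exact hzZ
  have hZnX : ∀ x ∈ X, ∀ b ∈ Z, x * b * x⁻¹ ∈ Z := fun x _ b hb => hZn.conj_mem b hb x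
  have hfixZ : ∀ m : M, (∀ b ∈ Z, ρ b m = m) → m = 0 := hfix0 Z hZX hZnX hZinv hZne
  by_cases hZF : ∀ z ∈ Z, j f0 * z * (j f0)⁻¹ = z
  · exact caseA_i ρ j hs X Z hX hZX hZinv hfpf hfixA hZF hfixZ h8
  · push Not at hZF
    obtain ⟨z0, hz0, hz0F⟩ := hZF
    have hne : twistSub Z hZab (j f0) ≠ ⊥ := by
      intro hbot
      have hmem : z0⁻¹ * (j f0 * z0 * (j f0)⁻¹) ∈ twistSub Z hZab (j f0) := ⟨z0, hz0, rfl⟩
      rw [hbot, Subgroup.mem_bot] at hmem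
      apply hz0F
      have := inv_mul_eq_one.mp hmem
      exact this.symm
    have hTX : twistSub Z hZab (j f0) ≤ X := le_trans (twistSub_le Z hZab _) hZX
    have hTn : ∀ x ∈ X, ∀ b ∈ twistSub Z hZab (j f0), x * b * x⁻¹ ∈ twistSub Z hZab (j f0) := by
      intro x hx b hb
      have : x * b * x⁻¹ = b := by
        rw [hZc x hx b (twistSub_le Z hZab _ hb)]; group
      rw [this]; exact hb
    have hnoF : ∀ χ : ↥Z →* Kˣ, conjChar (j f0) χ = χ → ∀ m ∈ wtSpace ρ Z χ, m = 0 := by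
      intro χ hχ m hm
      exact hfix0 _ hTX hTn (twistSub_AInv j Z hZab) hne m
        (fix_twistSub_of_stable ρ j Z hZab hχ hm)
    exact caseA_ii ρ j X Z hs hX hfpf hZab hZc h6 hfixA hnoF hfaith hfix0

end Cfsg.Agent.Helper25.S3fCaseA
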