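import Mathlib
import Cfsg.Agent.Helper27.S4009Defs
import Cfsg.Agent.Helper21.PolySeq

/-! Board `s4009pieces` (S4009), row CYC2: if `X ≤ Gam b` is generated by `c, d` modulo `Gam (b+1)` then `[X,X]` is
generated by `[c,d]` modulo `Gam (2b+2)`. TWIN of `Cfsg.Agent.Helper6.S4009CYC2` (landed 13 s earlier): names carry `_h25`;
the board module for CYC2 is helper6's. Do not use this file. -/

set_option autoImplicit false

namespace Cfsg.Agent.S4009P

open Subgroup
open scoped commutatorElement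

variable {P : Type*} [Group P]

/-- `⁅g, w⁆ ∈ Gam (n+1)` for `w ∈ Gam n`. -/
theorem CYC2_h25_aux_comm_mem {n : ℕ} {w : P} (hw : w ∈ Gam P n) (g : P) : ⁅g, w⁆ ∈ Gam P (n + 1) := by
  have h1 : ⁅w, g⁆ ∈ Gam P (n + 1) := by
    show ⁅w, g⁆ ∈ ⁅(⊤ : Subgroup P).lowerCentralSeries n, (⊤ : Subgroup P)⁆
    exact Subgroup.commutator_mem_commutator hw (Subgroup.mem_top g)
  have h2 : ⁅g, w⁆ = ⁅w, g⁆⁻¹ := (commutatorElement_inv w g).symm
  rw [h2]
  exact (Gam P (n + 1)).inv_mem h1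

/-- `zpowers w ⊔ Gam (n+1)` is normal for `w ∈ Gam n`. -/
theorem CYC2_h25_aux_normal {n : ℕ} {w : P} (hw : w ∈ Gam P n) : (zpowers w ⊔ Gam P (n + 1)).Normal := by
  set M : Subgroup P := zpowers w ⊔ Gam P (n + 1) with hM
  have hconj : ∀ g : P, M.map (MulAut.conj g).toMonoidHom ≤ M := by
    intro g
    rw [hM, Subgroup.map_sup, MonoidHom.map_zpowers]
    refine sup_le ?_ ?_
    · rw [zpowers_le]
      have h1 : (MulAut.conj g).toMonoidHom w = ⁅g, w⁆ * w := by
        simp [commutatorElement_def]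
      rw [h1]
      exact M.mul_mem ((le_sup_right : Gam P (n + 1) ≤ M) (CYC2_h25_aux_comm_mem hw g))
        ((le_sup_left : zpowers w ≤ M) (mem_zpowers w))
    · rintro _ ⟨q, hq, rfl⟩
      refine (le_sup_right : Gam P (n + 1) ≤ M) ?_
      have := (Gam_normal P (n + 1)).conj_mem q hq g
      simpa using this
  refine ⟨fun m hm g => ?_⟩
  have : (MulAut.conj g).toMonoidHom m ∈ M := hconj g ⟨m, hm, rfl⟩
  simpa using this

/-- CYC2 (M/L): if `X ≤ Gam b` is generated by `c, d` modulo `Gam (b+1)` then `[X,X]` is generated by `[c,d]` modulo `Gam (2b+2)`. -/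
theorem CYC2_h25 {X : Subgroup P} {b : ℕ} (hX : X ≤ Gam P b) {c d : P} (hc : c ∈ X) (hd : d ∈ X)
    (hgen : X ≤ closure {c, d} ⊔ Gam P (b + 1)) : ⁅X, X⁆ ≤ zpowers ⁅c, d⁆ ⊔ Gam P (2 * b + 2) := by
  have hw : ⁅c, d⁆ ∈ Gam P (2 * b + 1) := by
    have h1 := Cfsg.Agent.Helper21.PolySeq.lcs_comm_le (G := P) b b
    have e : b + b + 1 = 2 * b + 1 := by omega
    rw [e] at h1
    exact h1 (Subgroup.commutator_mem_commutator (hX hc) (hX hd))
  set M : Subgroup P := zpowers ⁅c, d⁆ ⊔ Gam P (2 * b + 2) with hM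
  haveI hMn : M.Normal := CYC2_h25_aux_normal hw
  have hQM : Gam P (2 * b + 2) ≤ M := le_sup_right
  -- the relation "commute modulo M"
  have key : ∀ x y : P, ⁅x, y⁆ ∈ M ↔ (QuotientGroup.mk' M x) * (QuotientGroup.mk' M y) =
      (QuotientGroup.mk' M y) * (QuotientGroup.mk' M x) := by
    intro x y
    rw [← commutatorElement_eq_one_iff_mul_comm, ← map_commutatorElement, QuotientGroup.mk'_apply,
      QuotientGroup.eq_one_iff]
  -- for `y ∈ Gam b`, `Gam (b+1)` commutes with `y` modulo `M`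
  have hG : ∀ y ∈ Gam P b, ∀ g ∈ Gam P (b + 1), ⁅g, y⁆ ∈ M := by
    intro y hy g hg
    have h1 := Cfsg.Agent.Helper21.PolySeq.lcs_comm_le (G := P) b (b + 1)
    have e : b + 1 + b + 1 = 2 * b + 2 := by omega
    rw [e] at h1
    exact hQM (h1 (Subgroup.commutator_mem_commutator hg hy))
  -- the "centralizer modulo M" of `y`
  let C : P → Subgroup P := fun y => (Subgroup.centralizer {QuotientGroup.mk' M y}).comap (QuotientGroup.mk' M)
  have hC : ∀ x y : P, x ∈ C y ↔ ⁅x, y⁆ ∈ M := by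
    intro x y
    rw [key]
    show (QuotientGroup.mk' M x) ∈ Subgroup.centralizer {QuotientGroup.mk' M y} ↔ _
    rw [Subgroup.mem_centralizer_iff]
    constructor
    · intro h
      exact (h _ rfl).symm
    · intro h z hz
      rw [Set.mem_singleton_iff.1 hz]
      exact h.symm
  have hsymm : ∀ x y : P, ⁅x, y⁆ ∈ M → ⁅y, x⁆ ∈ M := by
    intro x y h
    rw [← commutatorElement_inv]
    exact M.inv_mem h
  have hself : ∀ x : P, ⁅x, x⁆ ∈ M := by
    intro x
    rw [commutatorElement_self]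
    exact M.one_mem
  have hcd : ⁅c, d⁆ ∈ M := (le_sup_left : zpowers ⁅c, d⁆ ≤ M) (mem_zpowers _)
  -- X ≤ C y as soon as c, d ∈ C y and y ∈ Gam b
  have hXC : ∀ y ∈ Gam P b, ⁅c, y⁆ ∈ M → ⁅d, y⁆ ∈ M → X ≤ C y := by
    intro y hy h1 h2
    refine le_trans hgen (sup_le ?_ ?_)
    · rw [Subgroup.closure_le]
      intro z hz
      rcases hz with rfl | hz
      · exact (hC _ y).2 h1
      · rw [Set.mem_singleton_iff.1 hz]
        exact (hC d y).2 h2
    · intro g hg
      exact (hC g y).2 (hG y hy g hg)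
  have hXc : X ≤ C c := hXC c (hX hc) (hself c) (hsymm _ _ hcd)
  have hXd : X ≤ C d := hXC d (hX hd) hcd (hself d)
  rw [Subgroup.commutator_le]
  intro x hx y hy
  have h1 : ⁅c, y⁆ ∈ M := hsymm _ _ ((hC y c).1 (hXc hy))
  have h2 : ⁅d, y⁆ ∈ M := hsymm _ _ ((hC y d).1 (hXd hy))
  exact (hC x y).1 (hXC y (hX hy) h1 h2 hx)

end Cfsg.Agent.S4009P
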