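import Mathlib
import Cfsg.Agent.Helper27.S4009Defs

/-! Board `s4009pieces` (S4009), row GEN1: generators modulo a normal subgroup, index `p`. -/

set_option autoImplicit false

namespace Cfsg.Agent.S4009P

open Subgroup
open scoped commutatorElement

variable {P : Type*} [Group P]

/-- GEN1 (M): index `p`. -/
theorem GEN1 [Finite P] {p : ℕ} (hp : p.Prime) {N X : Subgroup P} [N.Normal] (h : N.relIndex (X ⊔ N) = p) :
    ∃ c ∈ X, X ≤ zpowers c ⊔ N := by
  have hXN : ¬ X ≤ N := by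
    intro hle
    have h1 : X ⊔ N = N := sup_eq_right.2 hle
    rw [h1, Subgroup.relIndex_self] at h
    exact hp.one_lt.ne h
  obtain ⟨c, hcX, hcN⟩ := SetLike.not_le_iff_exists.1 hXN
  refine ⟨c, hcX, ?_⟩
  set Z : Subgroup P := zpowers c ⊔ N with hZ
  have hNZ : N ≤ Z := le_sup_right
  have hcZ : c ∈ Z := (le_sup_left : zpowers c ≤ Z) (mem_zpowers c)
  have hZX : Z ≤ X ⊔ N := sup_le (le_trans ((zpowers_le).2 hcX) le_sup_left) le_sup_right
  have hmul := Subgroup.relIndex_mul_relIndex N Z (X ⊔ N) hNZ hZX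
  rw [h] at hmul
  have h1 : N.relIndex Z ≠ 1 := by
    intro h1
    exact hcN ((Subgroup.relIndex_eq_one).1 h1 hcZ)
  have h2 : Z.relIndex (X ⊔ N) = 1 := by
    have hdvd : N.relIndex Z ∣ p := ⟨_, hmul.symm⟩
    rcases (Nat.dvd_prime hp).1 hdvd with h3 | h3
    · exact absurd h3 h1
    · rw [h3] at hmul
      have : p * Z.relIndex (X ⊔ N) = p * 1 := by rw [hmul, mul_one]
      exact Nat.eq_of_mul_eq_mul_left hp.pos this
  exact le_trans le_sup_left ((Subgroup.relIndex_eq_one).1 h2)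

end Cfsg.Agent.S4009P
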