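import Mathlib
import Cfsg.Statements.S4079

/-! Row TRV of the board `s4079pieces` (S4079): an automorphism `a` with `a^p = 1` moving an element of
`E` (order `p²`, exponent `p`, commutative) acts on `E` as a transvection. -/

set_option autoImplicit false
open Cfsg

namespace Cfsg.Agent.S4079P

variable {L : Type*} [Group L] [Finite L] {p : ℕ} [Fact p.Prime]

/-- An `a`-invariant subgroup of order divisible by `p` contains a nontrivial fixed point of `a`
(`a^p = 1`). -/
theorem TRV_aux_fix (H : Subgroup L) (a : MulAut L) (ha : a ^ p = 1) (hH : ∀ h ∈ H, a h ∈ H)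
    (hp : p ∣ Nat.card H) : ∃ d ∈ H, d ≠ 1 ∧ a d = d := by
  classical
  have hpp : p.Prime := Fact.out
  have hpow : ∀ k : ℕ, ∀ h ∈ H, (a ^ k) h ∈ H := by
    intro k
    induction k with
    | zero => intro h hh; simpa using hh
    | succ k ih =>
      intro h hh
      rw [pow_succ, MulAut.mul_apply]
      exact ih _ (hH h hh)
  let K : Subgroup (MulAut L) :=
    { carrier := {g | ∀ h, g h ∈ H ↔ h ∈ H}
      one_mem' := by intro h; simp
      mul_mem' := by
        intro g1 g2 h1 h2 h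
        rw [MulAut.mul_apply, h1, h2]
      inv_mem' := by
        intro g hg h
        rw [← hg (g⁻¹ h)]
        simp }
  have haK : a ∈ K := by
    intro h
    constructor
    · intro hah
      have h1 := hpow (p - 1) (a h) hah
      rw [← MulAut.mul_apply, ← pow_succ, Nat.sub_add_cancel hpp.one_le, ha] at h1
      simpa using h1
    · exact hH h
  have hz : Subgroup.zpowers a ≤ K := (Subgroup.zpowers_le).2 haK
  let inst : MulAction ↥(Subgroup.zpowers a) ↥H :=
    { smul := fun g h => ⟨(g : MulAut L) (h : L), (hz g.2 (h : L)).2 h.2⟩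
      one_smul := fun h => Subtype.ext (by
        show ((1 : ↥(Subgroup.zpowers a)) : MulAut L) (h : L) = h
        simp)
      mul_smul := fun g1 g2 h => Subtype.ext (by
        show ((g1 * g2 : ↥(Subgroup.zpowers a)) : MulAut L) (h : L)
          = (g1 : MulAut L) ((g2 : MulAut L) (h : L))
        simp [MulAut.mul_apply]) }
  have hPG : IsPGroup p ↥(Subgroup.zpowers a) := by
    intro g
    refine ⟨1, ?_⟩
    obtain ⟨g, hg⟩ := g
    obtain ⟨n, rfl⟩ := Subgroup.mem_zpowers_iff.1 hg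
    apply Subtype.ext
    simp only [pow_one, Subgroup.coe_pow, Subgroup.coe_one]
    rw [← zpow_natCast, ← zpow_mul, mul_comm, zpow_mul, zpow_natCast, ha, one_zpow]
  have hfix1 : (1 : ↥H) ∈ MulAction.fixedPoints ↥(Subgroup.zpowers a) ↥H := by
    intro g
    apply Subtype.ext
    show (g : MulAut L) ((1 : ↥H) : L) = ((1 : ↥H) : L)
    simp
  obtain ⟨b, hb, hne⟩ := hPG.exists_fixed_point_of_prime_dvd_card_of_fixed_point (α := ↥H) hp hfix1
  refine ⟨(b : L), b.2, ?_, ?_⟩
  · intro h1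
    apply hne
    apply Subtype.ext
    rw [h1]
    rfl
  · have h2 := hb ⟨a, Subgroup.mem_zpowers a⟩
    have h3 := congrArg Subtype.val h2
    exact h3

/-- TRV: an automorphism `a` with `a^p = 1` that moves some element of `E` (order `p²`, exponent `p`, commutative)
acts on `E` as a transvection: `[E,a] ≤ C_E(a)` and `C_E(a)` has order `p`. -/
theorem TRV (E : Subgroup L) (hE : ∀ x, x ∈ E ↔ x ^ p = 1) (hEc : Nat.card E = p ^ 2)
    (hEcomm : ∀ x ∈ E, ∀ y ∈ E, x * y = y * x) (a : MulAut L) (ha : a ^ p = 1)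
    (x : L) (hx : x ∈ E) (hax : a x ≠ x) :
    (∀ e ∈ E, a (e⁻¹ * a e) = e⁻¹ * a e) ∧
      (∀ d ∈ E, d ≠ 1 → a d = d → ∀ f ∈ E, a f = f → f ∈ Subgroup.zpowers d) := by
  classical
  have hpp : p.Prime := Fact.out
  have hEinv : ∀ e ∈ E, a e ∈ E := by
    intro e he
    rw [hE] at he ⊢
    rw [← map_pow, he, map_one]
  -- the hom `δ`
  let δ : ↥E →* ↥E := MonoidHom.mk'
    (fun e => ⟨(e : L)⁻¹ * a (e : L), E.mul_mem (E.inv_mem e.2) (hEinv e e.2)⟩)
    (by
      intro e f
      apply Subtype.ext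
      show ((e * f : ↥E) : L)⁻¹ * a ((e * f : ↥E) : L)
        = ((e : L)⁻¹ * a (e : L)) * ((f : L)⁻¹ * a (f : L))
      have h1 : (f : L)⁻¹ * ((e : L)⁻¹ * a (e : L)) = ((e : L)⁻¹ * a (e : L)) * (f : L)⁻¹ :=
        hEcomm _ (E.inv_mem f.2) _ (E.mul_mem (E.inv_mem e.2) (hEinv e e.2))
      rw [Subgroup.coe_mul, mul_inv_rev, map_mul]
      calc (f : L)⁻¹ * (e : L)⁻¹ * (a (e : L) * a (f : L))
          = ((f : L)⁻¹ * ((e : L)⁻¹ * a (e : L))) * a (f : L) := by group
        _ = (((e : L)⁻¹ * a (e : L)) * (f : L)⁻¹) * a (f : L) := by rw [h1]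
        _ = ((e : L)⁻¹ * a (e : L)) * ((f : L)⁻¹ * a (f : L)) := by group)
  have hδ : ∀ e : ↥E, ((δ e : ↥E) : L) = (e : L)⁻¹ * a (e : L) := fun e => rfl
  have hker : ∀ e : ↥E, e ∈ δ.ker ↔ a (e : L) = (e : L) := by
    intro e
    rw [MonoidHom.mem_ker, Subtype.ext_iff, hδ, Subgroup.coe_one, inv_mul_eq_one]
    exact eq_comm
  -- a nontrivial fixed point
  obtain ⟨d0, hd0E, hd0ne, had0⟩ := TRV_aux_fix E a ha hEinv
    (by rw [hEc]; exact dvd_pow_self p two_ne_zero)
  -- card of the kernel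
  have hcardmul : Nat.card δ.ker * Nat.card δ.range = p ^ 2 := by
    have h1 := Subgroup.card_mul_index δ.ker
    rw [Subgroup.index_ker] at h1
    rw [h1]
    exact hEc
  have hkerdvd : Nat.card δ.ker ∣ p ^ 2 := Dvd.intro _ hcardmul
  obtain ⟨j, hj2, hj⟩ := (Nat.dvd_prime_pow hpp).1 hkerdvd
  have hj0 : j ≠ 0 := by
    intro h0
    rw [h0, pow_zero] at hj
    have hbot : δ.ker = ⊥ := Subgroup.card_eq_one.1 hj
    have h1 : (⟨d0, hd0E⟩ : ↥E) ∈ δ.ker := (hker _).2 had0
    rw [hbot, Subgroup.mem_bot] at h1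
    exact hd0ne (congrArg Subtype.val h1)
  have hj2' : j ≠ 2 := by
    intro h2
    rw [h2] at hj
    have htop : δ.ker = ⊤ := by
      apply (Subgroup.card_eq_iff_eq_top δ.ker).1
      rw [hj]
      exact hEc.symm
    have h1 : (⟨x, hx⟩ : ↥E) ∈ δ.ker := by rw [htop]; trivial
    exact hax ((hker _).1 h1)
  have hj1 : j = 1 := by omega
  rw [hj1, pow_one] at hj
  have hrange : Nat.card δ.range = p := by
    rw [hj] at hcardmul
    have h1 : p * Nat.card δ.range = p * p := by rw [hcardmul]; ring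
    exact Nat.eq_of_mul_eq_mul_left hpp.pos h1
  constructor
  · -- part 1
    let H : Subgroup L := δ.range.map E.subtype
    have hHcard : Nat.card H = p := by
      rw [Subgroup.card_map_of_injective E.subtype_injective]
      exact hrange
    have hHmem : ∀ y : L, y ∈ H ↔ ∃ e ∈ E, y = e⁻¹ * a e := by
      intro y
      constructor
      · rintro ⟨z, ⟨e, rfl⟩, rfl⟩
        exact ⟨(e : L), e.2, rfl⟩
      · rintro ⟨e, he, rfl⟩
        exact ⟨δ ⟨e, he⟩, ⟨⟨e, he⟩, rfl⟩, rfl⟩
    have hHE : H ≤ E := by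
      intro y hy
      obtain ⟨e, he, rfl⟩ := (hHmem y).1 hy
      exact E.mul_mem (E.inv_mem he) (hEinv e he)
    have hHinv : ∀ h ∈ H, a h ∈ H := by
      intro h hh
      obtain ⟨e, he, rfl⟩ := (hHmem h).1 hh
      rw [hHmem]
      refine ⟨a e, hEinv e he, ?_⟩
      rw [map_mul, map_inv]
    obtain ⟨b, hbH, hbne, hab⟩ := TRV_aux_fix H a ha hHinv (by rw [hHcard])
    have hbp : b ^ p = 1 := (hE b).1 (hHE hbH)
    have hbord : orderOf b = p := orderOf_eq_prime hbp hbne
    have hzb : Subgroup.zpowers b = H := by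
      apply Subgroup.eq_of_le_of_card_ge
      · exact (Subgroup.zpowers_le).2 hbH
      · rw [Nat.card_zpowers, hbord, hHcard]
    intro e he
    have h1 : e⁻¹ * a e ∈ Subgroup.zpowers b := by
      rw [hzb, hHmem]
      exact ⟨e, he, rfl⟩
    obtain ⟨n, hn⟩ := Subgroup.mem_zpowers_iff.1 h1
    rw [← hn, map_zpow, hab]
  · -- part 2
    intro d hd hdne had f hf haf
    have hdp : d ^ p = 1 := (hE d).1 hd
    have hdord : orderOf d = p := orderOf_eq_prime hdp hdne
    let d' : ↥E := ⟨d, hd⟩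
    have hd'ord : orderOf d' = p := by
      have : orderOf (d' : L) = orderOf d' := Subgroup.orderOf_coe d'
      rw [← this]
      exact hdord
    have hzd : Subgroup.zpowers d' = δ.ker := by
      apply Subgroup.eq_of_le_of_card_ge
      · exact (Subgroup.zpowers_le).2 ((hker d').2 had)
      · rw [Nat.card_zpowers, hd'ord, hj]
    have h1 : (⟨f, hf⟩ : ↥E) ∈ Subgroup.zpowers d' := by
      rw [hzd]
      exact (hker _).2 haf
    obtain ⟨n, hn⟩ := Subgroup.mem_zpowers_iff.1 h1
    rw [Subgroup.mem_zpowers_iff]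
    refine ⟨n, ?_⟩
    have h2 := congrArg Subtype.val hn
    simpa using h2

end Cfsg.Agent.S4079P
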