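import Mathlib
import Cfsg.Statements.S4079
import Cfsg.Agent.Helper25.S4079TRV
import Cfsg.Agent.Helper21.S4079BIN

/-! Row P3 of the board `s4079pieces` (S4079). -/

set_option autoImplicit false
open Cfsg

namespace Cfsg.Agent.S4079P

variable {L : Type*} [Group L] [Finite L] {p : ℕ} [Fact p.Prime]

/-- P3: if `a` (of order `p`) moves an element of `E` then `p = 3`, and there are `u₁ ∈ M`, `u₂ ∈ E` with
`u₁^p ≠ 1` fixed by `a`, `a u₁ = u₁ u₂`, `a u₂ ≠ u₂`. -/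
theorem P3 (hp : p ≠ 2) (E M : Subgroup L) (hE : ∀ x, x ∈ E ↔ x ^ p = 1) (hEc : Nat.card E = p ^ 2)
    (hEcomm : ∀ x ∈ E, ∀ y ∈ E, x * y = y * x)
    (hM : ∀ g, g ∈ M ↔ g ^ (p ^ 2) = 1)
    (hpow : ∀ g ∈ M, ∀ h ∈ M, (g * h) ^ p = g ^ p * h ^ p) (hcen : ∀ g ∈ M, ∀ e ∈ E, g * e = e * g)
    (hsurj : ∀ e ∈ E, ∃ g ∈ M, g ^ p = e)
    (a : MulAut L) (ha : orderOf a = p) (x : L) (hx : x ^ p = 1) (hax : a x ≠ x) :
    p = 3 ∧ ∃ u₁ u₂ : L, u₁ ∈ M ∧ u₁ ^ p ≠ 1 ∧ a (u₁ ^ p) = u₁ ^ p ∧ u₂ ∈ E ∧ a u₁ = u₁ * u₂ ∧ a u₂ ≠ u₂ := by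
  classical
  have hpp : p.Prime := Fact.out
  have hap : a ^ p = 1 := by rw [← ha]; exact pow_orderOf_eq_one a
  have hxE : x ∈ E := (hE x).2 hx
  obtain ⟨hT1, -⟩ := TRV E hE hEc hEcomm a hap x hxE hax
  have hEinv : ∀ e ∈ E, a e ∈ E := by
    intro e he
    rw [hE] at he ⊢
    rw [← map_pow, he, map_one]
  have hMinv : ∀ g ∈ M, a g ∈ M := by
    intro g hg
    rw [hM] at hg ⊢
    rw [← map_pow, hg, map_one]
  obtain ⟨u, huM, hux⟩ := hsurj x hxE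
  -- u₁
  set u₁ : L := u⁻¹ * a u with hu₁
  have hu₁M : u₁ ∈ M := M.mul_mem (M.inv_mem huM) (hMinv u huM)
  have hu₁p : u₁ ^ p = x⁻¹ * a x := by
    rw [hu₁, hpow _ (M.inv_mem huM) _ (hMinv u huM), inv_pow, ← map_pow, hux]
  have hu₁ne : u₁ ^ p ≠ 1 := by
    rw [hu₁p]
    intro h
    apply hax
    rw [inv_mul_eq_one] at h
    exact h.symm
  have hau₁p : a (u₁ ^ p) = u₁ ^ p := by
    rw [hu₁p]
    exact hT1 x hxE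
  -- u₂
  set u₂ : L := u₁⁻¹ * a u₁ with hu₂
  have hu₂M : u₂ ∈ M := M.mul_mem (M.inv_mem hu₁M) (hMinv u₁ hu₁M)
  have hu₂p : u₂ ^ p = 1 := by
    rw [hu₂, hpow _ (M.inv_mem hu₁M) _ (hMinv u₁ hu₁M), inv_pow, ← map_pow, hau₁p, inv_mul_cancel]
  have hu₂E : u₂ ∈ E := (hE u₂).2 hu₂p
  -- u₃
  set u₃ : L := u₂⁻¹ * a u₂ with hu₃
  have hu₃E : u₃ ∈ E := E.mul_mem (E.inv_mem hu₂E) (hEinv u₂ hu₂E)
  have hau₃ : a u₃ = u₃ := hT1 u₂ hu₂E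
  have hu₃p : u₃ ^ p = 1 := (hE u₃).1 hu₃E
  have h0 : a u = u * u₁ := by rw [hu₁]; group
  have h1 : a u₁ = u₁ * u₂ := by rw [hu₂]; group
  have h2 : a u₂ = u₂ * u₃ := by rw [hu₃]; group
  have c12 : u₁ * u₂ = u₂ * u₁ := hcen u₁ hu₁M u₂ hu₂E
  have c13 : u₁ * u₃ = u₃ * u₁ := hcen u₁ hu₁M u₃ hu₃E
  have c23 : u₂ * u₃ = u₃ * u₂ := hEcomm u₂ hu₂E u₃ hu₃E
  have hbin := BIN a u u₁ u₂ u₃ h0 h1 h2 hau₃ c12 c13 c23 p
  rw [hap, MulAut.one_apply] at hbin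
  -- p ∣ C(p,2)
  have hp2 : 2 < p := lt_of_le_of_ne hpp.two_le (Ne.symm hp)
  have hd2 : p ∣ p.choose 2 := hpp.dvd_choose_self (by norm_num) hp2
  have hu₂c : u₂ ^ (p.choose 2) = 1 := by
    obtain ⟨c, hc⟩ := hd2
    rw [hc, pow_mul, hu₂p, one_pow]
  rw [hu₂c, mul_one] at hbin
  -- so u₁^p * u₃^C(p,3) = 1
  have hkey : u₁ ^ p * u₃ ^ (p.choose 3) = 1 := by
    have h3 : u * (u₁ ^ p * u₃ ^ (p.choose 3)) = u * 1 := by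
      rw [mul_one, ← mul_assoc]
      exact hbin.symm
    exact mul_left_cancel h3
  have hp3 : p = 3 := by
    by_contra hne
    have h3p : 3 < p := lt_of_le_of_ne (by omega) (Ne.symm hne)
    have hd3 : p ∣ p.choose 3 := hpp.dvd_choose_self (by norm_num) h3p
    have hu₃c : u₃ ^ (p.choose 3) = 1 := by
      obtain ⟨c, hc⟩ := hd3
      rw [hc, pow_mul, hu₃p, one_pow]
    rw [hu₃c, mul_one] at hkey
    exact hu₁ne hkey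
  refine ⟨hp3, u₁, u₂, hu₁M, hu₁ne, hau₁p, hu₂E, h1, ?_⟩
  intro hfix
  have hu₃1 : u₃ = 1 := by
    rw [hu₃, hfix, inv_mul_cancel]
  rw [hu₃1, one_pow, mul_one] at hkey
  exact hu₁ne hkey

end Cfsg.Agent.S4079P
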