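import Mathlib
import Cfsg.Agent.Helper27.S4150Defs

/-!
S4150 piece TRANS: `⟨X, Y⟩` is transitive on the union of the supports when `|α| < p + q`.
-/

set_option autoImplicit false

namespace Cfsg.Agent.S4150P

open Equiv Equiv.Perm MulAction

section
variable {α : Type*} [Fintype α] [DecidableEq α]

/-- a point moved by an element of prime order `r` lies on a cycle of length `r` -/
theorem TRANS.card_support_cycleOf {Z : Perm α} {r : ℕ} (hr : r.Prime) (hZ : orderOf Z = r)
    {a : α} (ha : a ∈ Z.support) : (Z.cycleOf a).support.card = r := by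
  have hmem : (Z.cycleOf a).support.card ∈ Z.cycleType := by
    rw [cycleType_def, Multiset.mem_map]
    exact ⟨Z.cycleOf a, by
      rw [Finset.mem_val]
      exact cycleOf_mem_cycleFactorsFinset_iff.mpr ha, rfl⟩
  have h1 : (Z.cycleOf a).support.card ∣ r := hZ ▸ dvd_of_mem_cycleType hmem
  have h2 : 2 ≤ (Z.cycleOf a).support.card := two_le_of_mem_cycleType hmem
  rcases (Nat.dvd_prime hr).mp h1 with h | h
  · omega
  · exact h

/-- moving a point of `supp X` to a point of `supp Y` inside `closure {X, Y}` -/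
theorem TRANS.exists_move {X Y : Perm α} {p q : ℕ} (hp : p.Prime) (hq : q.Prime)
    (hX : orderOf X = p) (hY : orderOf Y = q) (hcard : Fintype.card α < p + q)
    {a b : α} (ha : a ∈ X.support) (hb : b ∈ Y.support) :
    ∃ h ∈ Subgroup.closure ({X, Y} : Set (Perm α)), h a = b := by
  have h1 := TRANS.card_support_cycleOf hp hX ha
  have h2 := TRANS.card_support_cycleOf hq hY hb
  have hne : ((X.cycleOf a).support ∩ (Y.cycleOf b).support).Nonempty := by
    by_contra hemp
    rw [Finset.not_nonempty_iff_eq_empty] at hemp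
    have hdisj : Disjoint (X.cycleOf a).support (Y.cycleOf b).support :=
      Finset.disjoint_iff_inter_eq_empty.mpr hemp
    have := Finset.card_le_univ ((X.cycleOf a).support ∪ (Y.cycleOf b).support)
    rw [Finset.card_union_of_disjoint hdisj, h1, h2] at this
    omega
  obtain ⟨c, hc⟩ := hne
  rw [Finset.mem_inter, mem_support_cycleOf_iff, mem_support_cycleOf_iff] at hc
  obtain ⟨⟨⟨i, hi⟩, _⟩, ⟨⟨j, hj⟩, _⟩⟩ := hc
  have hXm : X ∈ Subgroup.closure ({X, Y} : Set (Perm α)) := Subgroup.subset_closure (by simp)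
  have hYm : Y ∈ Subgroup.closure ({X, Y} : Set (Perm α)) := Subgroup.subset_closure (by simp)
  refine ⟨(Y ^ j)⁻¹ * X ^ i, Subgroup.mul_mem _ (Subgroup.inv_mem _ (Subgroup.zpow_mem _ hYm j))
    (Subgroup.zpow_mem _ hXm i), ?_⟩
  rw [Perm.mul_apply, hi, ← hj]; exact Equiv.symm_apply_apply _ _

/-- `closure {X, Y}` is transitive on `supp X ∪ supp Y` -/
theorem TRANS.exists_mem_closure {X Y : Perm α} {p q : ℕ} (hp : p.Prime) (hq : q.Prime)
    (hX : orderOf X = p) (hY : orderOf Y = q) (hcard : Fintype.card α < p + q)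
    {a b : α} (ha : a ∈ X.support ∪ Y.support) (hb : b ∈ X.support ∪ Y.support) :
    ∃ h ∈ Subgroup.closure ({X, Y} : Set (Perm α)), h a = b := by
  have hXne : X.support.Nonempty := by
    rw [Finset.nonempty_iff_ne_empty, Ne, support_eq_empty_iff]
    rintro rfl
    rw [orderOf_one] at hX
    exact hp.one_lt.ne hX
  have hYne : Y.support.Nonempty := by
    rw [Finset.nonempty_iff_ne_empty, Ne, support_eq_empty_iff]
    rintro rfl
    rw [orderOf_one] at hY
    exact hq.one_lt.ne hY
  obtain ⟨x0, hx0⟩ := hXne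
  obtain ⟨y0, hy0⟩ := hYne
  have hsymm : Subgroup.closure ({Y, X} : Set (Perm α)) = Subgroup.closure ({X, Y} : Set (Perm α)) := by
    rw [Set.pair_comm]
  have hcard' : Fintype.card α < q + p := by omega
  -- every point of the union can be moved to `y0`
  have key : ∀ c ∈ X.support ∪ Y.support,
      ∃ h ∈ Subgroup.closure ({X, Y} : Set (Perm α)), h c = y0 := by
    intro c hc
    rcases Finset.mem_union.mp hc with hc | hc
    · exact TRANS.exists_move hp hq hX hY hcard hc hy0
    · obtain ⟨h1, hh1, e1⟩ := TRANS.exists_move hq hp hY hX hcard' hc hx0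
      obtain ⟨h2, hh2, e2⟩ := TRANS.exists_move hp hq hX hY hcard hx0 hy0
      rw [hsymm] at hh1
      exact ⟨h2 * h1, Subgroup.mul_mem _ hh2 hh1, by rw [Perm.mul_apply, e1, e2]⟩
  obtain ⟨h1, hh1, e1⟩ := key a ha
  obtain ⟨h2, hh2, e2⟩ := key b hb
  exact ⟨h2⁻¹ * h1, Subgroup.mul_mem _ (Subgroup.inv_mem _ hh2) hh1, by
    rw [Perm.mul_apply, e1, ← e2]; exact Equiv.symm_apply_apply _ _⟩

/-- the group generated by `X, Y` fixes the points outside the two supports -/
theorem TRANS.fix_outside (X Y : Perm α) :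
    ∀ g ∈ Subgroup.closure ({X, Y} : Set (Perm α)), ∀ a, a ∉ X.support ∪ Y.support → g a = a := by
  intro g hg
  induction hg using Subgroup.closure_induction with
  | mem x hx =>
    intro a ha
    rw [Finset.mem_union, not_or, notMem_support, notMem_support] at ha
    rcases hx with rfl | hx
    · exact ha.1
    · rw [Set.mem_singleton_iff] at hx
      subst hx
      exact ha.2
  | one => intro a _; rfl
  | mul x y _ _ hx hy =>
    intro a ha
    rw [Perm.mul_apply, hy a ha, hx a ha]
  | inv x _ hx =>
    intro a ha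
    rw [Perm.inv_eq_iff_eq, hx a ha]

/-- TRANS [M-L]: `⟨X, Y⟩` is transitive on the union of the supports when `|α| < p + q`
(`Y` is a `q`-cycle by CYCP; the `⟨X⟩`-orbit of a moved point has `p > |α| - q` points, so it meets
`Y.support`). -/
theorem TRANS.main {p q : ℕ} (hp : p.Prime) (hq : q.Prime) (hpq : p < q) (X Y : Perm α)
    (hX : orderOf X = p) (hY : orderOf Y = q) (hcard : Fintype.card α < p + q) :
    IsPretransitive (restr (Subgroup.closure ({X, Y} : Set (Perm α))) (X.support ∪ Y.support))
      ↥(X.support ∪ Y.support) := by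
  refine ⟨fun a b => ?_⟩
  obtain ⟨h, hh, hab⟩ := TRANS.exists_mem_closure hp hq hX hY hcard a.2 b.2
  have hfix := TRANS.fix_outside X Y h hh
  have hmem : ∀ x, h x ∈ X.support ∪ Y.support ↔ x ∈ X.support ∪ Y.support := by
    intro x
    by_cases hx : x ∈ X.support ∪ Y.support
    · refine iff_of_true ?_ hx
      by_contra hcon
      have h1 := hfix _ hcon
      have h2 : h x = x := h.injective h1
      rw [h2] at hcon
      exact hcon hx
    · rw [hfix x hx]
  have hsupp : ∀ x, h x ≠ x → x ∈ X.support ∪ Y.support := by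
    intro x hx
    by_contra hcon
    exact hx (hfix x hcon)
  have hof : Equiv.Perm.ofSubtype (h.subtypePerm hmem) = h := ofSubtype_subtypePerm hmem hsupp
  refine ⟨⟨h.subtypePerm hmem, ?_⟩, ?_⟩
  · rw [mem_restr, hof]
    exact hh
  · apply Subtype.ext
    show ((h.subtypePerm hmem) a : α) = b
    rw [subtypePerm_apply]
    exact hab

end

end Cfsg.Agent.S4150P
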