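import Mathlib
import Cfsg.Agent.Helper26.S4395Defs

set_option autoImplicit false

namespace Cfsg.Agent.S4395P

open Cfsg Cfsg.Agent.S4394P

/-- auxiliary: the natural-power case of BG0. -/
theorem BG0_aux_nat (p q r : ℕ)
    {F : Type*} [Field F] (ζ : F)
    {X : Type*} [Group X] (P : Subgroup X) (y : X) (lam : X → F)
    (h : NFData p q r ζ P y lam) :
    ∀ n : ℕ, ∀ u ∈ P, y ^ n * u * (y ^ n)⁻¹ ∈ P ∧ lam (y ^ n * u * (y ^ n)⁻¹) = ζ ^ n * lam u := by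
  haveI := h.normal
  intro n
  induction n with
  | zero => intro u hu; simp [hu]
  | succ n ih =>
    intro u hu
    obtain ⟨h1, h2⟩ := ih u hu
    have e : y ^ (n + 1) * u * (y ^ (n + 1))⁻¹ = y * (y ^ n * u * (y ^ n)⁻¹) * y⁻¹ := by
      rw [pow_succ']; group
    rw [e]
    refine ⟨h.normal.conj_mem _ h1 y, ?_⟩
    rw [h.equiv _ h1, h2, pow_succ']; ring

/-- auxiliary: conjugation by `y⁻¹` multiplies `lam` by `ζ⁻¹`. -/
theorem BG0_aux_inv (p q r : ℕ)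
    {F : Type*} [Field F] (ζ : F) (hζ0 : ζ ≠ 0)
    {X : Type*} [Group X] (P : Subgroup X) (y : X) (lam : X → F)
    (h : NFData p q r ζ P y lam) :
    ∀ n : ℕ, ∀ u ∈ P, (y ^ n)⁻¹ * u * y ^ n ∈ P ∧ lam ((y ^ n)⁻¹ * u * y ^ n) = (ζ ^ n)⁻¹ * lam u := by
  haveI := h.normal
  intro n u hu
  have hm : (y ^ n)⁻¹ * u * y ^ n ∈ P := by
    have := h.normal.conj_mem u hu (y ^ n)⁻¹
    simpa using this
  refine ⟨hm, ?_⟩
  obtain ⟨_, h2⟩ := BG0_aux_nat p q r ζ P y lam h n _ hm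
  have e : y ^ n * ((y ^ n)⁻¹ * u * y ^ n) * (y ^ n)⁻¹ = u := by group
  rw [e] at h2
  rw [h2]
  field_simp

/-- BG0 (S/M): equivariance of `lam` for integer powers of `y`. -/
theorem BG0 (p q r : ℕ) [Fact p.Prime] [Fact q.Prime] (hpq : p ≠ q)
    {F : Type*} [Field F] (ζ : F) (hζ : orderOf ζ = q)
    {X : Type*} [Group X] [Finite X] (P : Subgroup X) (y : X) (lam : X → F)
    (h : NFData p q r ζ P y lam) :
    ∀ k : ℤ, ∀ u ∈ P, y ^ k * u * y ^ (-k) ∈ P ∧ lam (y ^ k * u * y ^ (-k)) = ζ ^ k * lam u := by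
  have hζ0 : ζ ≠ 0 := by
    rintro rfl
    have hq : (q : ℕ) ≠ 0 := (Fact.out : q.Prime).ne_zero
    have : orderOf (0 : F) = 0 := by
      rw [orderOf_eq_zero_iff]
      intro hfin
      obtain ⟨n, hn, hn1⟩ := hfin.exists_pow_eq_one
      rw [zero_pow (by omega)] at hn1
      exact zero_ne_one hn1
    omega
  intro k u hu
  rcases Int.eq_nat_or_neg k with ⟨n, rfl | rfl⟩
  · have := BG0_aux_nat p q r ζ P y lam h n u hu
    simpa [zpow_natCast, zpow_neg] using this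
  · have := BG0_aux_inv p q r ζ hζ0 P y lam h n u hu
    simpa [zpow_natCast, zpow_neg] using this

end Cfsg.Agent.S4395P
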