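import Mathlib
import Cfsg.Agent.Helper9.S4415Defs
import Cfsg.Agent.Helper25.S4415E2
import Cfsg.Agent.Helper20.S4409STEP0
import Cfsg.Agent.Helper9.S4409F
import Cfsg.Agent.Helper25.S4409F1

/-! Board `s4415pieces`, row TV5 (`tv_special`): `R` of order `32` with `A ∈ 𝒜(R)` elementary abelian and self-centralising
is special (pure group theory). -/

set_option autoImplicit false

namespace Cfsg.Agent.S4415P

open Subgroup
open Cfsg.Agent.S4409P (Zc Fr Der IsV4 IsQ8 SpecialInt IsAb mem_Zc Zc_le)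
open scoped commutatorElement

variable {S : Type*} [Group S]

/-- `{s ∈ R | [x, s] ∈ Z(R)}` -/
def TV5_aux_cent (R : Subgroup S) (x : S) : Subgroup S where
  carrier := {s | s ∈ R ∧ ⁅x, s⁆ ∈ Zc R}
  one_mem' := ⟨R.one_mem, by rw [commutatorElement_one_right]; exact (Zc R).one_mem⟩
  mul_mem' := by
    rintro s t ⟨hs, hs'⟩ ⟨ht, ht'⟩
    refine ⟨R.mul_mem hs ht, ?_⟩
    have h1 : ⁅x, s * t⁆ = ⁅x, s⁆ * (s * ⁅x, t⁆ * s⁻¹) := by
      simp only [commutatorElement_def]; group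
    have h2 : s * ⁅x, t⁆ * s⁻¹ = ⁅x, t⁆ := by
      have := (mem_Zc.mp ht').2 s hs
      rw [this]; group
    rw [h1, h2]
    exact (Zc R).mul_mem hs' ht'
  inv_mem' := by
    rintro s ⟨hs, hs'⟩
    refine ⟨R.inv_mem hs, ?_⟩
    have h1 : ⁅x, s⁻¹⁆ = s⁻¹ * (⁅x, s⁆)⁻¹ * s := by
      simp only [commutatorElement_def]; group
    have h2 : s⁻¹ * (⁅x, s⁆)⁻¹ * s = (⁅x, s⁆)⁻¹ := by
      have := (mem_Zc.mp ((Zc R).inv_mem hs')).2 s hs
      calc s⁻¹ * (⁅x, s⁆)⁻¹ * s = s⁻¹ * ((⁅x, s⁆)⁻¹ * s) := by group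
        _ = s⁻¹ * (s * (⁅x, s⁆)⁻¹) := by rw [← this]
        _ = (⁅x, s⁆)⁻¹ := by group
    rw [h1, h2]
    exact (Zc R).inv_mem hs'

/-- a generator of a group of order `3` -/
theorem TV5_aux_gen [Finite S] (B : Subgroup S) (hB : Nat.card ↥B = 3) : ∃ b : S, zpowers b = B := by
  haveI : Fact (Nat.Prime 3) := ⟨Nat.prime_three⟩
  haveI : IsCyclic ↥B := isCyclic_of_prime_card hB
  obtain ⟨g, hg⟩ := IsCyclic.exists_generator (α := ↥B)
  refine ⟨(g : S), ?_⟩
  apply le_antisymm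
  · rw [zpowers_le]; exact g.2
  · intro x hx
    obtain ⟨k, hk⟩ := hg ⟨x, hx⟩
    refine ⟨k, ?_⟩
    have := congrArg Subtype.val hk
    simpa using this

theorem TV5_aux_relIndex {H K : Subgroup S} (h : H ≤ K) : Nat.card ↥H * H.relIndex K = Nat.card ↥K := by
  have := Subgroup.relIndex_mul_relIndex (H := (⊥ : Subgroup S)) (K := H) (L := K) bot_le h
  rwa [Subgroup.relIndex_bot_left, Subgroup.relIndex_bot_left] at this

/-- TV5 : (pure group theory) `R` is special. -/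
theorem tv_special [Finite S] (B R A : Subgroup S) (hB : Nat.card ↥B = 3) (hR : YC B R) (h2 : IsPGroup 2 ↥R)
    (hZ : Nat.card ↥(Zc R) = 2) (hA : InA B R A) (hea : ∀ x ∈ A, x * x = 1)
    (hC : R ⊓ centralizer (A : Set S) = A) (h32 : Nat.card ↥R = 32) : SpecialInt R := by
  classical
  obtain ⟨b, hb⟩ := TV5_aux_gen B hB
  have hb3 : b ^ 3 = 1 := by
    have h3 : orderOf b = 3 := by rw [← Nat.card_zpowers, hb, hB]
    rw [← h3]; exact pow_orderOf_eq_one b
  have hbB : b ∈ B := hb ▸ mem_zpowers b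
  have hbR : b ∈ normalizer (R : Set S) := hR.norm hbB
  have hbA : b ∈ normalizer (A : Set S) := hA.norm hbB
  have hconjR : ∀ x, x ∈ R ↔ b * x * b⁻¹ ∈ R := fun x => mem_normalizer_iff.mp hbR x
  have hconjA : ∀ x, x ∈ A ↔ b * x * b⁻¹ ∈ A := fun x => mem_normalizer_iff.mp hbA x
  have hconjR' : ∀ y ∈ R, b⁻¹ * y * b ∈ R := by
    intro y hy
    rw [hconjR]
    have : b * (b⁻¹ * y * b) * b⁻¹ = y := by group
    rwa [this]
  have hconjZ : ∀ x ∈ Zc R, b * x * b⁻¹ ∈ Zc R := by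
    intro x hx
    rw [mem_Zc] at hx ⊢
    refine ⟨(hconjR x).mp hx.1, fun y hy => ?_⟩
    have h1 := hx.2 _ (hconjR' y hy)
    calc y * (b * x * b⁻¹) = b * ((b⁻¹ * y * b) * x) * b⁻¹ := by group
      _ = b * (x * (b⁻¹ * y * b)) * b⁻¹ := by rw [h1]
      _ = b * x * b⁻¹ * y := by group
  have hcube : ∀ x : S, b * (b * (b * x * b⁻¹) * b⁻¹) * b⁻¹ = x := by
    intro x
    have h1 : b * (b * (b * x * b⁻¹) * b⁻¹) * b⁻¹ = (b * b * b) * x * (b * b * b)⁻¹ := by group
    have e : b * b * b = 1 := by rw [← hb3, pow_succ, pow_two]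
    rw [h1, e]; group
  -- the involution of `Z(R)`
  obtain ⟨z, hzZ, hz1, hzall⟩ : ∃ z ∈ Zc R, z ≠ 1 ∧ ∀ x ∈ Zc R, x = 1 ∨ x = z := by
    obtain ⟨⟨z, hz⟩, hz1, hzu⟩ := (Nat.card_eq_two_iff' (1 : ↥(Zc R))).mp hZ
    refine ⟨z, hz, fun h => hz1 (Subtype.ext h), fun x hx => ?_⟩
    by_cases hx1 : x = 1
    · exact Or.inl hx1
    · right
      have := hzu ⟨x, hx⟩ (fun h => hx1 (congrArg Subtype.val h))
      exact congrArg Subtype.val this
  have hzz : z * z = 1 := by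
    rcases hzall _ ((Zc R).mul_mem hzZ hzZ) with h | h
    · exact h
    · exfalso; apply hz1
      calc z = z * z * z⁻¹ := by group
        _ = z * z⁻¹ := by rw [h]
        _ = 1 := by group
  have hexp : ∀ ζ ∈ Zc R, ζ * ζ = 1 := by
    intro ζ hζ
    rcases hzall ζ hζ with h | h
    · rw [h, mul_one]
    · rw [h, hzz]
  have hbz : b * z * b⁻¹ = z := by
    rcases hzall _ (hconjZ z hzZ) with h | h
    · exfalso; apply hz1
      calc z = b⁻¹ * (b * z * b⁻¹) * b := by group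
        _ = 1 := by rw [h]; group
    · exact h
  have hbZ : ∀ ζ ∈ Zc R, b * ζ * b⁻¹ = ζ := by
    intro ζ hζ
    rcases hzall ζ hζ with h | h
    · rw [h]; group
    · rw [h, hbz]
  have hfix : ∀ y z' : S, z' ∈ Zc R → b * y * b⁻¹ = y * z' → z' = 1 := by
    intro y z' hz' hy
    rcases hzall z' hz' with h | h
    · exact h
    · exfalso
      rw [h] at hy
      have h2 : b * (y * z) * b⁻¹ = y := by
        calc b * (y * z) * b⁻¹ = (b * y * b⁻¹) * (b * z * b⁻¹) := by group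
          _ = y * z * z := by rw [hy, hbz]
          _ = y := by rw [mul_assoc, hzz, mul_one]
      have h3 := hcube y
      rw [hy, h2, hy] at h3
      apply hz1
      calc z = y⁻¹ * (y * z) := by group
        _ = y⁻¹ * y := by rw [h3]
        _ = 1 := by group
  -- basic facts on `A`, `Z`, `R`
  have hAR : A ≤ R := hA.le
  have hZA : Zc R ≤ A := hA.zle
  have hZR : ∀ ζ ∈ Zc R, ∀ r ∈ R, r * ζ * r⁻¹ = ζ := by
    intro ζ hζ r hr
    have := (mem_Zc.mp hζ).2 r hr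
    rw [this]; group
  have hZcomm : ∀ ζ ∈ Zc R, ∀ r ∈ R, ζ * r = r * ζ := by
    intro ζ hζ r hr
    exact ((mem_Zc.mp hζ).2 r hr).symm
  have hAc : ∀ a ∈ A, ∀ r ∈ R, ⁅a, r⁆ ∈ Zc R := by
    intro a ha r hr
    exact hA.comm (Subgroup.commutator_mem_commutator ha hr)
  have hAc' : ∀ a ∈ A, ∀ r ∈ R, ⁅r, a⁆ ∈ Zc R := by
    intro a ha r hr
    rw [← commutatorElement_inv]
    exact (Zc R).inv_mem (hAc a ha r hr)
  have hAn : ∀ r ∈ R, ∀ a ∈ A, r * a * r⁻¹ ∈ A := by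
    intro r hr a ha
    have h1 : r * a * r⁻¹ = ⁅r, a⁆ * a := by
      simp only [commutatorElement_def]; group
    rw [h1]
    exact A.mul_mem (hZA (hAc' a ha r hr)) ha
  have hAinv : ∀ a ∈ A, a⁻¹ = a := by
    intro a ha
    have h2 := hea a ha
    calc a⁻¹ = a⁻¹ * (a * a) := by rw [h2, mul_one]
      _ = a := by group
  have hAab : ∀ a ∈ A, ∀ a' ∈ A, a * a' = a' * a := by
    intro a ha a' ha'
    calc a * a' = (a * a')⁻¹ := (hAinv _ (A.mul_mem ha ha')).symm
      _ = a'⁻¹ * a⁻¹ := by group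
      _ = a' * a := by rw [hAinv a ha, hAinv a' ha']
  -- squares and commutators of `R` lie in `A`
  have hsqA : ∀ r ∈ R, r * r ∈ A := by
    intro r hr
    rw [← hC, mem_inf]
    refine ⟨R.mul_mem hr hr, ?_⟩
    rw [mem_centralizer_iff]
    intro a ha
    have e : (r * r) * a * (r * r)⁻¹ = (r * ⁅r, a⁆ * r⁻¹) * ⁅r, a⁆ * a := by
      simp only [commutatorElement_def]; group
    rw [hZR _ (hAc' a ha r hr) r hr, hexp _ (hAc' a ha r hr), one_mul] at e
    calc a * (r * r) = ((r * r) * a * (r * r)⁻¹) * (r * r) := by rw [e]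
      _ = (r * r) * a := by group
  have hkey : ∀ r ∈ R, ∀ s ∈ R, ∀ a ∈ A, (r * s) * a * (r * s)⁻¹ = (s * r) * a * (s * r)⁻¹ := by
    intro r hr s hs a ha
    have e1 : (r * s) * a * (r * s)⁻¹ = (r * ⁅s, a⁆ * r⁻¹) * ⁅r, a⁆ * a := by
      simp only [commutatorElement_def]; group
    have e2 : (s * r) * a * (s * r)⁻¹ = (s * ⁅r, a⁆ * s⁻¹) * ⁅s, a⁆ * a := by
      simp only [commutatorElement_def]; group
    rw [e1, e2, hZR _ (hAc' a ha s hs) r hr, hZR _ (hAc' a ha r hr) s hs,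
      hZcomm _ (hAc' a ha s hs) _ (Zc_le R (hAc' a ha r hr))]
  have hcomR : ∀ r ∈ R, ∀ s ∈ R, ⁅r, s⁆ ∈ R := by
    intro r hr s hs
    rw [commutatorElement_def]
    exact R.mul_mem (R.mul_mem (R.mul_mem hr hs) (R.inv_mem hr)) (R.inv_mem hs)
  have hcomA : ∀ r ∈ R, ∀ s ∈ R, ⁅r, s⁆ ∈ A := by
    intro r hr s hs
    rw [← hC, mem_inf]
    refine ⟨hcomR r hr s hs, ?_⟩
    rw [mem_centralizer_iff]
    intro a ha
    have hk := hkey r⁻¹ (R.inv_mem hr) s⁻¹ (R.inv_mem hs) a ha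
    symm
    calc ⁅r, s⁆ * a = (s⁻¹ * r⁻¹)⁻¹ * ((r⁻¹ * s⁻¹) * a * (r⁻¹ * s⁻¹)⁻¹) * (r⁻¹ * s⁻¹) := by
          simp only [commutatorElement_def]; group
      _ = (s⁻¹ * r⁻¹)⁻¹ * ((s⁻¹ * r⁻¹) * a * (s⁻¹ * r⁻¹)⁻¹) * (r⁻¹ * s⁻¹) := by rw [hk]
      _ = a * ⁅r, s⁆ := by simp only [commutatorElement_def]; group
  -- conjugation by `b` on subgroups generated by `A` and some elements
  have hgen : ∀ (X : Subgroup S) (T : Set S), X = A ⊔ closure T → (∀ t ∈ T, b * t * b⁻¹ ∈ X) →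
      ∀ x ∈ X, b * x * b⁻¹ ∈ X := by
    intro X T hX hT
    have hle : X ≤ X.comap (MulAut.conj b).toMonoidHom := by
      conv_lhs => rw [hX]
      apply sup_le
      · intro x hx
        rw [mem_comap]
        show b * x * b⁻¹ ∈ X
        rw [hX]
        exact (le_sup_left : A ≤ _) ((hconjA x).mp hx)
      · rw [closure_le]
        intro t ht
        exact hT t ht
    intro x hx
    exact hle hx
  have hnorm_of : ∀ X : Subgroup S, (∀ x ∈ X, b * x * b⁻¹ ∈ X) → B ≤ normalizer (X : Set S) := by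
    intro X hX
    rw [← hb, zpowers_le, mem_normalizer_iff]
    intro x
    refine ⟨hX x, fun hx => ?_⟩
    have h1 := hX _ (hX _ hx)
    rwa [hcube] at h1
  have hAltR : A < R := by
    refine lt_of_le_of_ne hAR (fun h => ?_)
    have := hA.card
    rw [h, h32] at this
    omega
  obtain ⟨x, hxR, hxA⟩ := SetLike.exists_of_lt hAltR
  obtain ⟨y, hy⟩ : ∃ y, y = b * x * b⁻¹ := ⟨_, rfl⟩
  obtain ⟨w, hw⟩ : ∃ w, w = b * y * b⁻¹ := ⟨_, rfl⟩
  have hbw : b * w * b⁻¹ = x := by rw [hw, hy]; exact hcube x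
  have hyR : y ∈ R := by rw [hy]; exact (hconjR x).mp hxR
  have hwR : w ∈ R := by rw [hw]; exact (hconjR y).mp hyR
  have hninv : ∀ r ∈ R, ∀ k ∈ A, r⁻¹ * k * r ∈ A := by
    intro r hr k hk
    have := hAn r⁻¹ (R.inv_mem hr) k hk
    rwa [inv_inv] at this
  -- `H₁ = A⟨x⟩` has order `16`
  set H₁ := A ⊔ zpowers x with hH₁
  have hn₁ : ∀ k ∈ A, x⁻¹ * k * x ∈ A := hninv x hxR
  have hsq₁ : x * x ∈ A := hsqA x hxR
  have hxH₁ : x ∈ H₁ := (le_sup_right : zpowers x ≤ _) (mem_zpowers x)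
  have hAH₁ : A < H₁ := lt_of_le_of_ne le_sup_left (fun h => hxA (h ▸ hxH₁))
  have hH₁R : H₁ ≤ R := sup_le hAR (by rw [zpowers_le]; exact hxR)
  have hcardH₁ : Nat.card ↥H₁ = 16 := by
    have c1 : Nat.card ↥H₁ ≤ 2 * Nat.card ↥A := E2_aux_card_ext hn₁ hsq₁
    have c2 := E2_aux_card_lt hAH₁
    have c3 := hA.card
    omega
  have hyH₁ : y ∉ H₁ := by
    intro hyH
    have hH₁b : ∀ u ∈ H₁, b * u * b⁻¹ ∈ H₁ := by
      apply hgen H₁ {x}
      · rw [hH₁, zpowers_eq_closure]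
      · intro t ht
        rw [Set.mem_singleton_iff] at ht
        rw [ht, ← hy]; exact hyH
    have hidx : H₁.relIndex R = 2 := by
      have := TV5_aux_relIndex hH₁R
      rw [hcardH₁, h32] at this
      omega
    exact Cfsg.Agent.S4409P.no_inv_index_two R B hR.norm hR.comm H₁ hH₁R (hnorm_of H₁ hH₁b) hidx
  -- `H₂ = A⟨x⟩⟨y⟩ = R`
  set H₂ := H₁ ⊔ zpowers y with hH₂
  have hn₂ : ∀ k ∈ H₁, y⁻¹ * k * y ∈ H₁ := by
    intro k hk
    have h1 : y⁻¹ * k * y = k * ⁅k⁻¹, y⁻¹⁆ := by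
      simp only [commutatorElement_def]; group
    rw [h1]
    exact H₁.mul_mem hk (hAH₁.le (hcomA _ (R.inv_mem (hH₁R hk)) _ (R.inv_mem hyR)))
  have hsq₂ : y * y ∈ H₁ := hAH₁.le (hsqA y hyR)
  have hyH₂ : y ∈ H₂ := (le_sup_right : zpowers y ≤ _) (mem_zpowers y)
  have hH₁H₂ : H₁ < H₂ := lt_of_le_of_ne le_sup_left (fun h => hyH₁ (h ▸ hyH₂))
  have hH₂R : H₂ ≤ R := sup_le hH₁R (by rw [zpowers_le]; exact hyR)
  have hH₂eq : H₂ = R := by
    apply Subgroup.eq_of_le_of_card_ge hH₂R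
    have c2 := E2_aux_card_lt hH₁H₂
    omega
  -- the decomposition of an element of `R`
  have hdec : ∀ r ∈ R, r ∈ A ∨ x⁻¹ * r ∈ A ∨ y⁻¹ * r ∈ A ∨ x⁻¹ * (y⁻¹ * r) ∈ A := by
    intro r hr
    rw [← hH₂eq] at hr
    rcases E2_aux_mem_ext hn₂ hsq₂ hr with h | h
    · rcases E2_aux_mem_ext hn₁ hsq₁ h with h' | h'
      · exact Or.inl h'
      · exact Or.inr (Or.inl h')
    · rcases E2_aux_mem_ext hn₁ hsq₁ h with h' | h'
      · exact Or.inr (Or.inr (Or.inl h'))
      · exact Or.inr (Or.inr (Or.inr h'))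
  have hxyA : x⁻¹ * y ∉ A := by
    intro h
    apply hyH₁
    have : y = x * (x⁻¹ * y) := by group
    rw [this]
    exact H₁.mul_mem hxH₁ (hAH₁.le h)
  obtain ⟨m', hm'A, hwm⟩ : ∃ m' ∈ A, w = y * (x * m') := by
    rcases hdec w hwR with h | h | h | h
    · exfalso; apply hxA; rw [← hbw]; exact (hconjA w).mp h
    · exfalso
      have h1 := (hconjA _).mp h
      have e : b * (x⁻¹ * w) * b⁻¹ = y⁻¹ * (b * w * b⁻¹) := by rw [hy]; group
      rw [e, hbw] at h1
      apply hxyA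
      have := A.inv_mem h1
      have e2 : (y⁻¹ * x)⁻¹ = x⁻¹ * y := by group
      rwa [e2] at this
    · exfalso
      have h1 := (hconjA _).mp h
      have e : b * (y⁻¹ * w) * b⁻¹ = w⁻¹ * (b * w * b⁻¹) := by rw [hw]; group
      rw [e, hbw] at h1
      apply hxyA
      have := A.inv_mem (A.mul_mem h h1)
      have e2 : (y⁻¹ * w * (w⁻¹ * x))⁻¹ = x⁻¹ * y := by group
      rwa [e2] at this
    · refine ⟨x⁻¹ * (y⁻¹ * w), h, ?_⟩
      group
  -- the commutator `c = [x, y]`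
  obtain ⟨c, hc⟩ : ∃ c, c = ⁅x, y⁆ := ⟨_, rfl⟩
  have hcA : c ∈ A := by rw [hc]; exact hcomA x hxR y hyR
  have hyx : ⁅y, x⁆ = c := by
    rw [← commutatorElement_inv, ← hc]; exact hAinv c hcA
  have hbc0 : b * c * b⁻¹ = ⁅y, w⁆ := by
    rw [hc, hw, hy]; simp only [commutatorElement_def]; group
  have hζ₁ : ⁅m', y⁻¹⁆ ∈ Zc R := hAc m' hm'A _ (R.inv_mem hyR)
  have hζ₂ : ⁅y, c⁆ ∈ Zc R := hAc' c hcA y hyR
  have hbc1 : b * c * b⁻¹ = c * (⁅m', y⁻¹⁆ * ⁅y, c⁆) := by
    have e1 : ⁅y, y * (x * m')⁆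
        = ((y * y * x) * ⁅m', y⁻¹⁆ * (y * y * x)⁻¹) * (⁅y, ⁅y, x⁆⁆ * ⁅y, x⁆) := by
      simp only [commutatorElement_def]; group
    rw [hbc0, hwm, e1, hZR _ hζ₁ _ (R.mul_mem (R.mul_mem hyR hyR) hxR), hyx]
    calc ⁅m', y⁻¹⁆ * (⁅y, c⁆ * c) = (⁅m', y⁻¹⁆ * ⁅y, c⁆) * c := by group
      _ = c * (⁅m', y⁻¹⁆ * ⁅y, c⁆) := hZcomm _ ((Zc R).mul_mem hζ₁ hζ₂) c (hAR hcA)
  have hbcc : b * c * b⁻¹ = c := by
    have := hfix c _ ((Zc R).mul_mem hζ₁ hζ₂) hbc1
    rw [hbc1, this, mul_one]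
  -- `C_A(b) = Z(R)`, so `c ∈ Z(R)`
  have hcZ : c ∈ Zc R := by
    by_contra hcZ
    apply hA.nontriv
    set F := Zc R ⊔ zpowers c with hF
    have hcF : c ∈ F := (le_sup_right : zpowers c ≤ _) (mem_zpowers c)
    have hFA : F ≤ A := sup_le hZA (by rw [zpowers_le]; exact hcA)
    have hZF : Zc R < F := lt_of_le_of_ne le_sup_left (fun h => hcZ (h ▸ hcF))
    have hFb : ∀ f ∈ F, b * f * b⁻¹ = f := by
      have hle : F ≤ centralizer ({b} : Set S) := by
        rw [hF]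
        apply sup_le
        · intro ζ hζ
          rw [mem_centralizer_iff]
          intro u hu
          rw [Set.mem_singleton_iff] at hu
          rw [hu]
          calc b * ζ = (b * ζ * b⁻¹) * b := by group
            _ = ζ * b := by rw [hbZ ζ hζ]
        · rw [zpowers_le, mem_centralizer_iff]
          intro u hu
          rw [Set.mem_singleton_iff] at hu
          rw [hu]
          calc b * c = (b * c * b⁻¹) * b := by group
            _ = c * b := by rw [hbcc]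
      intro f hf
      have := mem_centralizer_iff.mp (hle hf) b (Set.mem_singleton b)
      calc b * f * b⁻¹ = (f * b) * b⁻¹ := by rw [this]
        _ = f := by group
    have hall : ∀ a ∈ A, b * a * b⁻¹ = a := by
      intro a ha
      by_cases haF : a ∈ F
      · exact hFb a haF
      · set F' := F ⊔ zpowers a with hF'
        have haF' : a ∈ F' := (le_sup_right : zpowers a ≤ _) (mem_zpowers a)
        have hFF' : F < F' := lt_of_le_of_ne le_sup_left (fun h => haF (h ▸ haF'))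
        have hF'A : F' ≤ A := sup_le hFA (by rw [zpowers_le]; exact ha)
        have hF'eq : F' = A := by
          apply Subgroup.eq_of_le_of_card_ge hF'A
          have c1 := E2_aux_card_lt hZF
          have c2 := E2_aux_card_lt hFF'
          have c3 := hA.card
          omega
        have hn : ∀ k ∈ F, a⁻¹ * k * a ∈ F := by
          intro k hk
          have : a⁻¹ * k * a = k := by
            have := hAab k (hFA hk) a ha
            calc a⁻¹ * k * a = a⁻¹ * (k * a) := by group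
              _ = a⁻¹ * (a * k) := by rw [this]
              _ = k := by group
          rw [this]; exact hk
        have hsq : a * a ∈ F := by rw [hea a ha]; exact F.one_mem
        have hmem : b * a * b⁻¹ ∈ F' := by rw [hF'eq]; exact (hconjA a).mp ha
        rcases E2_aux_mem_ext hn hsq hmem with h | h
        · exfalso; apply haF
          have h1 := hFb _ h
          have : a = b * a * b⁻¹ := by
            calc a = b⁻¹ * (b * a * b⁻¹) * b := by group
              _ = b⁻¹ * (b * (b * a * b⁻¹) * b⁻¹) * b := by rw [h1]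
              _ = b * a * b⁻¹ := by group
          rw [this]; exact h
        · obtain ⟨f, hf⟩ : ∃ f, f = a⁻¹ * (b * a * b⁻¹) := ⟨_, rfl⟩
          rw [← hf] at h
          have e0 : b * a * b⁻¹ = a * f := by rw [hf]; group
          have e1 : b * (a * f) * b⁻¹ = a := by
            calc b * (a * f) * b⁻¹ = (b * a * b⁻¹) * (b * f * b⁻¹) := by group
              _ = (a * f) * f := by rw [e0, hFb f h]
              _ = a := by rw [mul_assoc, hea f (hFA h), mul_one]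
          have h3 := hcube a
          rw [e0, e1] at h3
          exact h3
    rw [← hb, zpowers_le, mem_centralizer_iff]
    intro a ha
    calc a * b = (b * a * b⁻¹) * b := by rw [hall a ha]
      _ = b * a := by group
  -- `R' ≤ Z(R)`
  have hcentx : R ≤ TV5_aux_cent R x := by
    have : H₂ ≤ TV5_aux_cent R x := by
      rw [hH₂, hH₁]
      apply sup_le (sup_le _ _) _
      · intro a ha; exact ⟨hAR ha, hAc' a ha x hxR⟩
      · rw [zpowers_le]; exact ⟨hxR, by rw [commutatorElement_self]; exact one_mem _⟩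
      · rw [zpowers_le]; exact ⟨hyR, by rw [← hc]; exact hcZ⟩
    rwa [hH₂eq] at this
  have hcenty : R ≤ TV5_aux_cent R y := by
    have : H₂ ≤ TV5_aux_cent R y := by
      rw [hH₂, hH₁]
      apply sup_le (sup_le _ _) _
      · intro a ha; exact ⟨hAR ha, hAc' a ha y hyR⟩
      · rw [zpowers_le]; exact ⟨hxR, by rw [hyx]; exact hcZ⟩
      · rw [zpowers_le]; exact ⟨hyR, by rw [commutatorElement_self]; exact one_mem _⟩
    rwa [hH₂eq] at this
  have hZ2 : R ≤ E2_aux_Z2 R := by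
    have : H₂ ≤ E2_aux_Z2 R := by
      rw [hH₂, hH₁]
      apply sup_le (sup_le _ _) _
      · intro a ha; exact ⟨hAR ha, fun r hr => hAc a ha r hr⟩
      · rw [zpowers_le]; exact ⟨hxR, fun r hr => (hcentx hr).2⟩
      · rw [zpowers_le]; exact ⟨hyR, fun r hr => (hcenty hr).2⟩
    rwa [hH₂eq] at this
  have hder : ∀ r ∈ R, ∀ s ∈ R, ⁅r, s⁆ ∈ Zc R := fun r hr s hs => (hZ2 hr).2 s hs
  have hDerZ : Der R ≤ Zc R := by
    unfold Cfsg.Agent.S4409P.Der
    rw [Subgroup.commutator_le]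
    exact hder
  -- `Z(R) ≤ R'`
  have hZDer : Zc R ≤ Der R := by
    by_contra hnot
    have hzD : z ∉ Der R := by
      intro hzD
      apply hnot
      intro ζ hζ
      rcases hzall ζ hζ with h | h
      · rw [h]; exact one_mem _
      · rw [h]; exact hzD
    have hab : ∀ r ∈ R, ∀ s ∈ R, ⁅r, s⁆ = 1 := by
      intro r hr s hs
      have h1 : ⁅r, s⁆ ∈ Der R := Subgroup.commutator_mem_commutator hr hs
      rcases hzall _ (hDerZ h1) with h | h
      · exact h
      · exfalso; exact hzD (h ▸ h1)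
    have : R ≤ R ⊓ centralizer (A : Set S) := by
      intro r hr
      rw [mem_inf]
      refine ⟨hr, ?_⟩
      rw [mem_centralizer_iff]
      intro a ha
      have := hab a (hAR ha) r hr
      rw [commutatorElement_eq_one_iff_mul_comm] at this
      exact this
    rw [hC] at this
    exact hAltR.not_ge this
  have hDer : Der R = Zc R := le_antisymm hDerZ hZDer
  -- squares are central
  have hsqZ : ∀ r ∈ R, r * r ∈ Zc R := by
    intro r hr
    rw [mem_Zc]
    refine ⟨R.mul_mem hr hr, fun s hs => ?_⟩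
    have e : (r * r) * s = (r * ⁅r, s⁆ * r⁻¹) * ⁅r, s⁆ * (s * (r * r)) := by
      simp only [commutatorElement_def]; group
    rw [hZR _ (hder r hr s hs) r hr, hexp _ (hder r hr s hs), one_mul] at e
    exact e.symm
  have hFrZ : Fr R ≤ Zc R := Cfsg.Agent.S4409P.fr_le_of R (Zc R) h2 (Zc_le R) hDerZ hsqZ
  have hZFr : Zc R ≤ Fr R := hZDer.trans (Cfsg.Agent.S4409P.der_le_fr R h2)
  exact ⟨le_antisymm hFrZ hZFr, hDer⟩

end Cfsg.Agent.S4415P
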