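import Mathlib
import Cfsg.Agent.Helper27.S4700Defs
import Cfsg.Agent.Helper27.S4700K

/-!
S4700 piece ARB1 (helper27's board): the principal block in the case `f = p - 1`
is incompatible with `NotF p n` when every nontrivial character of the block has degree `≥ p`.
-/

set_option autoImplicit false

namespace Cfsg.Agent.Helper25.S4700ARB1

/-- `D ≡ ±1 (mod p)` in natural-number form. -/
theorem cases_of_modEq {p D : ℕ} {δ : ℤ} (hδ : δ = 1 ∨ δ = -1) (hD : 0 < D)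
    (hmod : (D : ℤ) ≡ δ [ZMOD p]) :
    (δ = 1 ∧ ∃ t : ℕ, D = p * t + 1) ∨ (δ = -1 ∧ ∃ t : ℕ, D + 1 = p * t) := by
  have h := hmod.dvd
  rcases hδ with rfl | rfl
  · left
    refine ⟨rfl, ?_⟩
    have h1 : (p : ℤ) ∣ ((D - 1 : ℕ) : ℤ) := by
      rw [Nat.cast_sub hD, Nat.cast_one]
      have : (D : ℤ) - 1 = -(1 - (D : ℤ)) := by ring
      rw [this]; exact (dvd_neg.mpr h)
    obtain ⟨t, ht⟩ := Int.natCast_dvd_natCast.mp h1
    exact ⟨t, by omega⟩
  · right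
    refine ⟨rfl, ?_⟩
    have h1 : (p : ℤ) ∣ ((D + 1 : ℕ) : ℤ) := by
      rw [Nat.cast_add, Nat.cast_one]
      have : (D : ℤ) + 1 = -(-1 - (D : ℤ)) := by ring
      rw [this]; exact (dvd_neg.mpr h)
    obtain ⟨t, ht⟩ := Int.natCast_dvd_natCast.mp h1
    exact ⟨t, ht⟩

end Cfsg.Agent.Helper25.S4700ARB1

namespace Cfsg.Agent.S4700P

open Cfsg Cfsg.Agent.Helper24 Cfsg.Agent.Helper1.W2p Cfsg.Agent.S0996P Cfsg.Agent.S4503P
  Cfsg.Agent.S0999P

universe u

variable {G : Type u} [Group G]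

section B
variable [Finite G]

/-- ARB1 -/
theorem false_of_b0One {p n : ℕ} [Fact p.Prime] {P : Sylow p G} (F : B0One p P) (hF : NotF p n)
    (hn : 1 ≤ n) (hδ : F.δ (trivIrr G) = 1)
    (hd : ∀ χ ∈ F.X, irrDeg χ ∣ (p - 1) * (1 + n * p))
    (hbig : ∀ χ ∈ F.X, χ ≠ trivIrr G → p ≤ irrDeg χ) : False := by
  classical
  have hp : p.Prime := Fact.out
  have hp2 := hp.two_le
  have hdeg1 : irrDeg (trivIrr G) = 1 := by rw [irrDeg_eq_one_iff]; rfl
  -- every nontrivial degree is divisible by 1 + n p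
  have key : ∀ χ ∈ F.X.erase (trivIrr G), (1 + n * p) ∣ irrDeg χ := by
    intro χ hχ
    obtain ⟨hne, hχX⟩ := Finset.mem_erase.mp hχ
    have hge := hbig χ hχX hne
    have hpos : 0 < irrDeg χ := by omega
    rcases Cfsg.Agent.Helper25.S4700ARB1.cases_of_modEq (F.δ_pm χ hχX) hpos (F.deg_X χ hχX) with
      ⟨-, t, ht⟩ | ⟨-, t, ht⟩
    · have hmod : irrDeg χ % p = 1 := by
        rw [ht, Nat.mul_add_mod, Nat.mod_eq_of_lt (by omega)]
      have := arith_K1F hp (dvd_refl (p - 1)) hF (hd χ hχX) hmod (by omega)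
      rw [this]
    · have ht2 : 2 ≤ t := by
        rcases Nat.lt_or_ge t 2 with h | h
        · interval_cases t
          · omega
          · omega
        · exact h
      have := arith_K4F (t := 1) (e := p - 1) (u := t) hp (one_mul _) hF (hd χ hχX)
        (by rw [ht, mul_comm]) ht2
      rw [this.2]
      exact Dvd.intro_left _ rfl
  have hsplit : F.δ (trivIrr G) * (irrDeg (trivIrr G) : ℤ) +
      ∑ χ ∈ F.X.erase (trivIrr G), F.δ χ * (irrDeg χ : ℤ) = ∑ χ ∈ F.X, F.δ χ * (irrDeg χ : ℤ) :=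
    Finset.add_sum_erase F.X (fun χ => F.δ χ * (irrDeg χ : ℤ)) F.triv_mem
  rw [F.rel_one, hδ, hdeg1] at hsplit
  have hdvd : ((1 + n * p : ℕ) : ℤ) ∣ ∑ χ ∈ F.X.erase (trivIrr G), F.δ χ * (irrDeg χ : ℤ) := by
    apply Finset.dvd_sum
    intro χ hχ
    exact Dvd.dvd.mul_left (Int.natCast_dvd_natCast.mpr (key χ hχ)) _
  have hsum : ∑ χ ∈ F.X.erase (trivIrr G), F.δ χ * (irrDeg χ : ℤ) = -1 := by
    have : ((1 : ℕ) : ℤ) = 1 := Nat.cast_one
    rw [this] at hsplit; linarith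
  rw [hsum, dvd_neg] at hdvd
  have h1 : (1 + n * p : ℕ) ∣ 1 := by exact_mod_cast hdvd
  have h2 := Nat.le_of_dvd one_pos h1
  have h3 : 1 * 2 ≤ n * p := Nat.mul_le_mul hn hp2
  omega

end B

end Cfsg.Agent.S4700P
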