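import Mathlib
import Cfsg.Agent.Helper27.S4700Defs
import Cfsg.Agent.Helper27.S4700K
import Cfsg.Agent.Helper25.S4700ARB1

/-!
S4700 piece ARBX (helper27's board): the principal block with at least two exceptional
characters is incompatible with `NotF p n` when every nontrivial character of the
block has degree `≥ p` (definitive stub of helper27, msg 3060).
-/

set_option autoImplicit false

namespace Cfsg.Agent.S4700P

open Cfsg Cfsg.Agent.Helper24 Cfsg.Agent.Helper1.W2p Cfsg.Agent.S0996P Cfsg.Agent.S4503P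
  Cfsg.Agent.S0999P

universe u

variable {G : Type u} [Group G]

section B
variable [Finite G]

/-- ARBX -/
theorem false_of_b0Ext {p n : ℕ} [Fact p.Prime] {P : Sylow p G} (F : B0Ext p P) (hF : NotF p n)
    (hn : 1 ≤ n)
    (hdX : ∀ χ ∈ F.X, irrDeg χ ∣ fN (P : Subgroup G) * (1 + n * p))
    (hdY : ∀ ψ ∈ F.Y, irrDeg ψ ∣ fN (P : Subgroup G) * (1 + n * p))
    (hbig : ∀ χ ∈ F.X, χ ≠ trivIrr G → p ≤ irrDeg χ)
    (hbigY : ∀ ψ ∈ F.Y, p ≤ irrDeg ψ) (ht : 2 ≤ F.Y.card) : False := by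
  classical
  have hp : p.Prime := Fact.out
  have hp2 := hp.two_le
  have hdeg1 : irrDeg (trivIrr G) = 1 := by rw [irrDeg_eq_one_iff]; rfl
  obtain ⟨f, hf⟩ : ∃ f, f = fN (P : Subgroup G) := ⟨_, rfl⟩
  obtain ⟨t, htdef⟩ : ∃ t, t = F.Y.card := ⟨_, rfl⟩
  have hcY : t * f = p - 1 := by rw [htdef, hf]; exact F.card_Y
  have hcX : F.X.card = f := by rw [hf]; exact F.card_X
  rw [← hf] at hdX hdY
  rw [← htdef] at ht
  have hf1 : 1 ≤ f := by
    rcases Nat.eq_zero_or_pos f with h | h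
    · rw [h] at hcY; omega
    · exact h
  have hfd : f ∣ p - 1 := Dvd.intro_left t hcY
  -- nontrivial members of X have sign 1 and degree 1 + n p
  have key : ∀ χ ∈ F.X.erase (trivIrr G), F.δ χ * (irrDeg χ : ℤ) = ((1 + n * p : ℕ) : ℤ) := by
    intro χ hχ
    obtain ⟨hne, hχX⟩ := Finset.mem_erase.mp hχ
    have hge := hbig χ hχX hne
    have hpos : 0 < irrDeg χ := by omega
    rcases Cfsg.Agent.Helper25.S4700ARB1.cases_of_modEq (F.δ_pm χ hχX) hpos (F.deg_X χ hχX) with
      ⟨hδ1, s, hs⟩ | ⟨-, s, hs⟩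
    · have hmod : irrDeg χ % p = 1 := by
        rw [hs, Nat.mul_add_mod, Nat.mod_eq_of_lt (by omega)]
      have := arith_K1F hp hfd hF (hdX χ hχX) hmod (by omega)
      rw [hδ1, this, one_mul]
    · exfalso
      have hs2 : 2 ≤ s := by
        rcases Nat.lt_or_ge s 2 with h | h
        · interval_cases s
          · omega
          · omega
        · exact h
      have := arith_K4F (t := t) (e := f) (u := s) hp hcY hF (hdX χ hχX)
        (by rw [hs, mul_comm]) hs2
      omega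
  have hsplit : F.δ (trivIrr G) * (irrDeg (trivIrr G) : ℤ) +
      ∑ χ ∈ F.X.erase (trivIrr G), F.δ χ * (irrDeg χ : ℤ) = ∑ χ ∈ F.X, F.δ χ * (irrDeg χ : ℤ) :=
    Finset.add_sum_erase F.X (fun χ => F.δ χ * (irrDeg χ : ℤ)) F.triv_mem
  rw [Finset.sum_congr rfl key, Finset.sum_const, Finset.card_erase_of_mem F.triv_mem, hcX,
    F.δ_triv, hdeg1] at hsplit
  -- an exceptional character
  obtain ⟨ψ, hψ⟩ : F.Y.Nonempty := Finset.card_pos.mp (by omega)
  rw [F.rel_one ψ hψ] at hsplit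
  obtain ⟨D, hD⟩ : ∃ D : ℕ, D = 1 + (f - 1) * (1 + n * p) := ⟨_, rfl⟩
  have hDcast : (D : ℤ) = F.ε * (irrDeg ψ : ℤ) := by
    rw [← hsplit, hD]
    push_cast
    simp only [nsmul_eq_mul]
  have hdegψ : irrDeg ψ = D := by
    rcases F.hε with h | h
    · rw [h, one_mul] at hDcast
      exact_mod_cast hDcast.symm
    · rw [h] at hDcast
      have : (D : ℤ) + (irrDeg ψ : ℤ) = 0 := by rw [hDcast]; ring
      omega
  have hcop : Nat.Coprime D (1 + n * p) := by
    rw [hD, Nat.coprime_add_mul_right_left]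
    exact Nat.coprime_one_left _
  have hDff : D ∣ f := by
    have := hdY ψ hψ
    rw [hdegψ] at this
    exact hcop.dvd_of_dvd_mul_right this
  rcases Nat.lt_or_ge f 2 with hf2 | hf2
  · have hf1' : f = 1 := by omega
    have h1 := hbigY ψ hψ
    rw [hdegψ, hD, hf1'] at h1
    simp at h1
    omega
  · have hle : D ≤ f := Nat.le_of_dvd (by omega) hDff
    -- p ≥ 2 f + 1
    have h2f : 2 * f ≤ p - 1 := by
      rw [← hcY]; exact Nat.mul_le_mul_right f ht
    have hnp : p ≤ n * p := Nat.le_mul_of_pos_left p hn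
    obtain ⟨g, rfl⟩ : ∃ g, f = g + 2 := ⟨f - 2, by omega⟩
    have h1 : g + 2 - 1 = g + 1 := by omega
    rw [h1] at hD
    have h3 : (g + 1) * (2 * g + 6) ≤ (g + 1) * (1 + n * p) :=
      Nat.mul_le_mul_left _ (by omega)
    nlinarith

end B

end Cfsg.Agent.S4700P
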