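import Cfsg.Agent.Helper13.S5072Defs
import Cfsg.Agent.Helper25.S5072TID

set_option autoImplicit false
set_option linter.unusedSectionVars false

/-! S5072 piece SL2: two singular lines in duality are the unipotent subgroups of an embedded
`SL₂(F)` (diagonal in the `SL₂ × SL₂` of the hyperbolic 4-space they span). -/

namespace Cfsg.Agent.S5072P

open Matrix Cfsg Cfsg.Agent.Helper28.Sg Cfsg.Agent.Helper28.Spin Cfsg.Agent.Helper28.QPlus
  Cfsg.Agent.Helper28.IsoTransport Cfsg.Agent.Helper25 Cfsg.Agent.Helper2.SL2Emb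

namespace SL2

section generic

variable {ι : Type*} [Fintype ι] [DecidableEq ι] {k : Type*} [Field k]
  (E1 E2 : Matrix ι (Fin 2) k) (R1 R2 : Matrix (Fin 2) ι k)

/-- the matrix `1 + E₁ (g - 1) R₁ + E₂ (g - 1) R₂` -/
def MM (g : Matrix (Fin 2) (Fin 2) k) : Matrix ι ι k :=
  1 + E1 * (g - 1) * R1 + E2 * (g - 1) * R2

theorem MM_one : MM E1 E2 R1 R2 1 = 1 := by simp [MM]

variable {E1 E2 R1 R2}

theorem MM_mul (h11 : R1 * E1 = 1) (h22 : R2 * E2 = 1) (h12 : R1 * E2 = 0) (h21 : R2 * E1 = 0)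
    (g g' : Matrix (Fin 2) (Fin 2) k) :
    MM E1 E2 R1 R2 (g * g') = MM E1 E2 R1 R2 g * MM E1 E2 R1 R2 g' := by
  have k11 : ∀ A B : Matrix (Fin 2) (Fin 2) k, (E1 * A * R1) * (E1 * B * R1) = E1 * (A * B) * R1 := by
    intro A B
    calc (E1 * A * R1) * (E1 * B * R1) = E1 * A * (R1 * E1) * B * R1 := by
          simp only [Matrix.mul_assoc]
      _ = E1 * (A * B) * R1 := by rw [h11, Matrix.mul_one]; simp only [Matrix.mul_assoc]
  have k22 : ∀ A B : Matrix (Fin 2) (Fin 2) k, (E2 * A * R2) * (E2 * B * R2) = E2 * (A * B) * R2 := by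
    intro A B
    calc (E2 * A * R2) * (E2 * B * R2) = E2 * A * (R2 * E2) * B * R2 := by
          simp only [Matrix.mul_assoc]
      _ = E2 * (A * B) * R2 := by rw [h22, Matrix.mul_one]; simp only [Matrix.mul_assoc]
  have k12 : ∀ A B : Matrix (Fin 2) (Fin 2) k, (E1 * A * R1) * (E2 * B * R2) = 0 := by
    intro A B
    calc (E1 * A * R1) * (E2 * B * R2) = E1 * A * (R1 * E2) * B * R2 := by
          simp only [Matrix.mul_assoc]
      _ = 0 := by rw [h12]; simp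
  have k21 : ∀ A B : Matrix (Fin 2) (Fin 2) k, (E2 * A * R2) * (E1 * B * R1) = 0 := by
    intro A B
    calc (E2 * A * R2) * (E1 * B * R1) = E2 * A * (R2 * E1) * B * R1 := by
          simp only [Matrix.mul_assoc]
      _ = 0 := by rw [h21]; simp
  simp only [MM, Matrix.mul_add, Matrix.add_mul, Matrix.mul_one, Matrix.one_mul, k11, k22, k12, k21]
  have : g * g' - 1 = (g - 1) + (g' - 1) + (g - 1) * (g' - 1) := by noncomm_ring
  rw [this, Matrix.mul_add, Matrix.mul_add, Matrix.add_mul, Matrix.add_mul, Matrix.mul_add,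
    Matrix.mul_add, Matrix.add_mul, Matrix.add_mul]
  abel

theorem MM_injective (h11 : R1 * E1 = 1) (h21 : R2 * E1 = 0)
    {g g' : Matrix (Fin 2) (Fin 2) k} (hgg : MM E1 E2 R1 R2 g = MM E1 E2 R1 R2 g') : g = g' := by
  have h3 : ∀ A : Matrix (Fin 2) (Fin 2) k, R1 * MM E1 E2 R1 R2 A * E1 = A := by
    intro A
    have e1 : R1 * (E1 * (A - 1) * R1) * E1 = (R1 * E1) * (A - 1) * (R1 * E1) := by
      simp only [Matrix.mul_assoc]
    have e2 : R1 * (E2 * (A - 1) * R2) * E1 = R1 * E2 * (A - 1) * (R2 * E1) := by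
      simp only [Matrix.mul_assoc]
    simp only [MM, Matrix.mul_add, Matrix.add_mul, Matrix.mul_one, e1, e2, h11, h21,
      Matrix.one_mul, Matrix.mul_zero, add_zero]
    abel
  rw [← h3 g, ← h3 g', hgg]

theorem MM_upper (c : k) :
    MM E1 E2 R1 R2 ((sl2Upper c : Matrix.SpecialLinearGroup (Fin 2) k) : Matrix (Fin 2) (Fin 2) k)
      = 1 + c • vecMulVec (fun i => E1 i 0) (fun j => R1 1 j)
          + c • vecMulVec (fun i => E2 i 0) (fun j => R2 1 j) := by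
  have : ((sl2Upper c : Matrix.SpecialLinearGroup (Fin 2) k) : Matrix (Fin 2) (Fin 2) k) - 1
      = Matrix.single 0 1 c := by
    ext a b
    fin_cases a <;> fin_cases b <;> simp [sl2Upper]
  rw [MM, this, mul_single_mul, mul_single_mul]

theorem MM_lower (c : k) :
    MM E1 E2 R1 R2 ((sl2Lower c : Matrix.SpecialLinearGroup (Fin 2) k) : Matrix (Fin 2) (Fin 2) k)
      = 1 + c • vecMulVec (fun i => E1 i 1) (fun j => R1 0 j)
          + c • vecMulVec (fun i => E2 i 1) (fun j => R2 0 j) := by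
  have : ((sl2Lower c : Matrix.SpecialLinearGroup (Fin 2) k) : Matrix (Fin 2) (Fin 2) k) - 1
      = Matrix.single 1 0 c := by
    ext a b
    fin_cases a <;> fin_cases b <;> simp [sl2Lower]
  rw [MM, this, mul_single_mul, mul_single_mul]

/-- the monoid homomorphism `g ↦ MM g` on `SL₂(k)` -/
def MMhom (h11 : R1 * E1 = 1) (h22 : R2 * E2 = 1) (h12 : R1 * E2 = 0) (h21 : R2 * E1 = 0) :
    Matrix.SpecialLinearGroup (Fin 2) k →* Matrix ι ι k where
  toFun g := MM E1 E2 R1 R2 (g : Matrix (Fin 2) (Fin 2) k)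
  map_one' := by
    show MM E1 E2 R1 R2 ((1 : Matrix.SpecialLinearGroup (Fin 2) k) : Matrix (Fin 2) (Fin 2) k) = 1
    rw [Matrix.SpecialLinearGroup.coe_one, MM_one]
  map_mul' g g' := by
    show MM E1 E2 R1 R2 ((g * g' : Matrix.SpecialLinearGroup (Fin 2) k) :
      Matrix (Fin 2) (Fin 2) k) = _
    rw [Matrix.SpecialLinearGroup.coe_mul, MM_mul h11 h22 h12 h21]

end generic

section specific

variable {F : Type*} [Field F] {m : ℕ}

/-- the `ι × 2` matrix with columns `u`, `w` -/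
def EE (u w : Vm (m + 3) F) : Matrix (Fin (m + 3) ⊕ Fin (m + 3)) (Fin 2) F :=
  Matrix.of fun i j => ![u i, w i] j

/-- the `2 × ι` matrix with rows `a`, `b` -/
def RR (a b : Vm (m + 3) F) : Matrix (Fin 2) (Fin (m + 3) ⊕ Fin (m + 3)) F :=
  Matrix.of fun j i => ![a i, b i] j

theorem RR_mul_EE (a b u w : Vm (m + 3) F) :
    RR a b * EE u w = !![a ⬝ᵥ u, a ⬝ᵥ w; b ⬝ᵥ u, b ⬝ᵥ w] := by
  ext i j
  fin_cases i <;> fin_cases j <;> simp [Matrix.mul_apply, EE, RR, dotProduct]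

theorem vecMulVec_mulVec' (u a x : Vm (m + 3) F) :
    vecMulVec u a *ᵥ x = (a ⬝ᵥ x) • u := by
  ext i
  simp only [Matrix.mulVec, vecMulVec_apply, dotProduct, Pi.smul_apply, smul_eq_mul]
  rw [Finset.sum_mul]
  apply Finset.sum_congr rfl
  intro j _
  ring

end specific

end SL2

open SL2 in
theorem sl2Pair_of_dual {F : Type*} [Field F] {m : ℕ} {p r f₁ f₂ : Vm (m + 3) F} (h : SP p r)
    (hf : SP f₁ f₂)
    (h11 : B (QfPlus (m + 3) F) p f₁ = 1) (h12 : B (QfPlus (m + 3) F) p f₂ = 0)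
    (h21 : B (QfPlus (m + 3) F) r f₁ = 0) (h22 : B (QfPlus (m + 3) F) r f₂ = 1) :
    Cfsg.Agent.Helper2.RootSub.SL2Pair F (TT p r) (TT f₁ f₂) := by
  have h11' : B (QfPlus (m + 3) F) f₁ p = 1 := by rw [B_comm]; exact h11
  have h12' : B (QfPlus (m + 3) F) f₂ p = 0 := by rw [B_comm]; exact h12
  have h21' : B (QfPlus (m + 3) F) f₁ r = 0 := by rw [B_comm]; exact h21
  have h22' : B (QfPlus (m + 3) F) f₂ r = 1 := by rw [B_comm]; exact h22
  have hpr := h.pr; have hrp := h.rp; have hpp := h.pp; have hrr := h.rr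
  have hfpr := hf.pr; have hfrp := hf.rp; have hfpp := hf.pp; have hfrr := hf.rr
  simp only [B] at h11 h12 h21 h22 h11' h12' h21' h22' hpr hrp hpp hrr hfpr hfrp hfpp hfrr
  -- the four matrices
  obtain ⟨E1, hE1⟩ : ∃ E : Matrix (Fin (m + 3) ⊕ Fin (m + 3)) (Fin 2) F, E = EE p f₂ := ⟨_, rfl⟩
  obtain ⟨R1, hR1⟩ : ∃ R : Matrix (Fin 2) (Fin (m + 3) ⊕ Fin (m + 3)) F,
    R = RR (Cfsg.polarVec ⇑(QfPlus (m + 3) F) f₁) (Cfsg.polarVec ⇑(QfPlus (m + 3) F) r) := ⟨_, rfl⟩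
  obtain ⟨E2, hE2⟩ : ∃ E : Matrix (Fin (m + 3) ⊕ Fin (m + 3)) (Fin 2) F, E = EE r (-f₁) := ⟨_, rfl⟩
  obtain ⟨R2, hR2⟩ : ∃ R : Matrix (Fin 2) (Fin (m + 3) ⊕ Fin (m + 3)) F,
    R = RR (Cfsg.polarVec ⇑(QfPlus (m + 3) F) f₂) (-Cfsg.polarVec ⇑(QfPlus (m + 3) F) p) := ⟨_, rfl⟩
  have k11 : R1 * E1 = 1 := by
    rw [hR1, hE1, RR_mul_EE, polarVec_dot, polarVec_dot, polarVec_dot, polarVec_dot, h11', hfpr,
      hrp, h22, Matrix.one_fin_two]
  have k22 : R2 * E2 = 1 := by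
    rw [hR2, hE2, RR_mul_EE, neg_dotProduct, neg_dotProduct, dotProduct_neg, dotProduct_neg,
      polarVec_dot, polarVec_dot, polarVec_dot, polarVec_dot, h22', hfrp, hpr, h11,
      Matrix.one_fin_two]
    simp
  have k12 : R1 * E2 = 0 := by
    rw [hR1, hE2, RR_mul_EE, dotProduct_neg, dotProduct_neg,
      polarVec_dot, polarVec_dot, polarVec_dot, polarVec_dot, h21', hfpp, hrr, h21]
    ext i j
    fin_cases i <;> fin_cases j <;> simp
  have k21 : R2 * E1 = 0 := by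
    rw [hR2, hE1, RR_mul_EE, neg_dotProduct, neg_dotProduct,
      polarVec_dot, polarVec_dot, polarVec_dot, polarVec_dot, h12', hfrr, hpp, h12]
    ext i j
    fin_cases i <;> fin_cases j <;> simp
  -- the homomorphism into `GL`
  obtain ⟨φ, hφ⟩ : ∃ φ : Matrix.SpecialLinearGroup (Fin 2) F →*
      Matrix.GeneralLinearGroup (Fin (m + 3) ⊕ Fin (m + 3)) F,
      ∀ g, ((φ g : Matrix.GeneralLinearGroup (Fin (m + 3) ⊕ Fin (m + 3)) F) :
        Matrix (Fin (m + 3) ⊕ Fin (m + 3)) (Fin (m + 3) ⊕ Fin (m + 3)) F)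
        = MM E1 E2 R1 R2 (g : Matrix (Fin 2) (Fin 2) F) :=
    ⟨(MMhom k11 k22 k12 k21).toHomUnits, fun g => rfl⟩
  have hup : ∀ c : F, φ (sl2Upper c) = ((El h (-c) : GOp m F) :
      Matrix.GeneralLinearGroup (Fin (m + 3) ⊕ Fin (m + 3)) F) := by
    intro c
    apply Units.ext
    rw [hφ, MM_upper]
    apply matrix_ext_mulVec
    intro x
    have e := El_mulVec h (-c) x
    simp only [Cfsg.Agent.Helper28.Sg.mt] at e
    rw [e, Matrix.add_mulVec, Matrix.add_mulVec, Matrix.one_mulVec, Matrix.smul_mulVec,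
      Matrix.smul_mulVec, vecMulVec_mulVec', vecMulVec_mulVec']
    have c1 : (fun i => E1 i 0) = p := by rw [hE1]; rfl
    have c2 : (fun j => R1 1 j) = Cfsg.polarVec ⇑(QfPlus (m + 3) F) r := by rw [hR1]; rfl
    have c3 : (fun i => E2 i 0) = r := by rw [hE2]; rfl
    have c4 : (fun j => R2 1 j) = -Cfsg.polarVec ⇑(QfPlus (m + 3) F) p := by rw [hR2]; rfl
    rw [c1, c2, c3, c4, neg_dotProduct, polarVec_dot, polarVec_dot]
    simp only [B]
    module
  have hlo : ∀ c : F, φ (sl2Lower c) = ((El hf c : GOp m F) :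
      Matrix.GeneralLinearGroup (Fin (m + 3) ⊕ Fin (m + 3)) F) := by
    intro c
    apply Units.ext
    rw [hφ, MM_lower]
    apply matrix_ext_mulVec
    intro x
    have e := El_mulVec hf c x
    simp only [Cfsg.Agent.Helper28.Sg.mt] at e
    rw [e, Matrix.add_mulVec, Matrix.add_mulVec, Matrix.one_mulVec, Matrix.smul_mulVec,
      Matrix.smul_mulVec, vecMulVec_mulVec', vecMulVec_mulVec']
    have c1 : (fun i => E1 i 1) = f₂ := by rw [hE1]; rfl
    have c2 : (fun j => R1 0 j) = Cfsg.polarVec ⇑(QfPlus (m + 3) F) f₁ := by rw [hR1]; rfl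
    have c3 : (fun i => E2 i 1) = -f₁ := by rw [hE2]; rfl
    have c4 : (fun j => R2 0 j) = Cfsg.polarVec ⇑(QfPlus (m + 3) F) f₂ := by rw [hR2]; rfl
    rw [c1, c2, c3, c4, polarVec_dot, polarVec_dot]
    simp only [B]
    module
  have hmem : ∀ g, φ g ∈ Cfsg.isometryGroup F ⇑(QfPlus (m + 3) F) := by
    intro g
    refine sl2_induction (fun g => φ g ∈ Cfsg.isometryGroup F ⇑(QfPlus (m + 3) F)) ?_ ?_ ?_ g
    · intro c; rw [hup]; exact (El h (-c)).2
    · intro c; rw [hlo]; exact (El hf c).2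
    · intro a b ha hb; rw [map_mul]; exact Subgroup.mul_mem _ ha hb
  have hρu : ∀ c : F, φ.codRestrict _ hmem (sl2Upper c) = El h (-c) :=
    fun c => Subtype.ext (hup c)
  have hρl : ∀ c : F, φ.codRestrict _ hmem (sl2Lower c) = El hf c :=
    fun c => Subtype.ext (hlo c)
  refine ⟨φ.codRestrict _ hmem, ?_, ?_, ?_⟩
  · intro a b hab
    apply Subtype.ext
    apply MM_injective k11 k21
    have h1 := congrArg (fun z : GOp m F => ((z : Matrix.GeneralLinearGroup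
      (Fin (m + 3) ⊕ Fin (m + 3)) F) : Matrix (Fin (m + 3) ⊕ Fin (m + 3))
      (Fin (m + 3) ⊕ Fin (m + 3)) F)) hab
    simp only [MonoidHom.codRestrict_apply] at h1
    rw [hφ, hφ] at h1
    exact h1
  · ext g
    rw [Subgroup.mem_map, mem_TT h]
    constructor
    · rintro ⟨x, hx, rfl⟩
      rw [eq_sl2Upper_of_mem hx, hρu]
      exact ⟨_, rfl⟩
    · rintro ⟨c, rfl⟩
      refine ⟨sl2Upper (-c), sl2Upper_mem _, ?_⟩
      rw [hρu, neg_neg]
  · ext g
    rw [Subgroup.mem_map, mem_TT hf]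
    constructor
    · rintro ⟨x, hx, rfl⟩
      rw [eq_sl2Lower_of_mem hx, hρl]
      exact ⟨_, rfl⟩
    · rintro ⟨c, rfl⟩
      exact ⟨sl2Lower c, sl2Lower_mem _, hρl c⟩

end Cfsg.Agent.S5072P
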