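import Mathlib
import Cfsg.Agent.Helper25.S5165.Defs
import Cfsg.Agent.Helper24.S5165LIBA

set_option autoImplicit false
set_option linter.unusedSectionVars false
set_option linter.unusedVariables false

/-! # S5165 piece G0GEN: `g0 O w` is a product of `p`-elements of `N(R0 r O) ∩ A` (shears of the planes). -/

namespace Cfsg.Agent.S5165P

open Equiv

section chapB2

variable {p : ℕ} [Fact p.Prime] {I' : Type} [Fintype I'] [DecidableEq I'] {r' r : ℕ}

namespace G0GEN

/-- the function of the shear `y ↦ y + c x` -/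
def fA (O : Finset I') (c : ZMod p) : X p I' r' → ZMod p
  | Sum.inl (j, x) => if j ∈ O then c * x else 0
  | Sum.inr _ => 0

/-- the shear `(x, y) ↦ (x, y + c x)` of the planes `j ∈ O` -/
def shA (r : ℕ) (O : Finset I') (c : ZMod p) : Perm (X p (X p I' r') r) := base (fA (r' := r') O c)

/-- the underlying function of the shear `(x, y) ↦ (x + c y, y)` -/
def shBfun (O : Finset I') (c : ZMod p) : X p (X p I' r') r → X p (X p I' r') r
  | Sum.inl (Sum.inl (j, x), y) =>
      if j ∈ O then Sum.inl (Sum.inl (j, x + c * y), y) else Sum.inl (Sum.inl (j, x), y)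
  | Sum.inl (Sum.inr k', y) => Sum.inl (Sum.inr k', y)
  | Sum.inr k => Sum.inr k

theorem shBfun_comp (O : Finset I') (c d : ZMod p) (P : X p (X p I' r') r) :
    shBfun O c (shBfun O d P) = shBfun O (c + d) P := by
  rcases P with ⟨i, y⟩ | k
  · rcases i with ⟨j, x⟩ | k'
    · by_cases hj : j ∈ O
      · simp only [shBfun, hj, if_true]
        have e : x + d * y + c * y = x + (c + d) * y := by ring
        rw [e]
      · simp only [shBfun, hj, if_false]
    · rfl
  · rfl

theorem shBfun_zero (O : Finset I') (P : X p (X p I' r') r) : shBfun (p := p) O 0 P = P := by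
  rcases P with ⟨i, y⟩ | k
  · rcases i with ⟨j, x⟩ | k'
    · by_cases hj : j ∈ O
      · simp [shBfun, hj]
      · simp [shBfun, hj]
    · rfl
  · rfl

/-- the shear `(x, y) ↦ (x + c y, y)` of the planes `j ∈ O` -/
def shB (r : ℕ) (O : Finset I') (c : ZMod p) : Perm (X p (X p I' r') r) where
  toFun := shBfun O c
  invFun := shBfun O (-c)
  left_inv P := by rw [shBfun_comp, neg_add_cancel, shBfun_zero]
  right_inv P := by rw [shBfun_comp, add_neg_cancel, shBfun_zero]

theorem shB_apply (O : Finset I') (c : ZMod p) (P : X p (X p I' r') r) :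
    shB r O c P = shBfun O c P := rfl

theorem shB_add (O : Finset I') (c d : ZMod p) :
    shB (r' := r') r O (c + d) = shB r O c * shB r O d := by
  ext P
  rw [Perm.mul_apply, shB_apply, shB_apply, shB_apply, shBfun_comp]

theorem shB_zero (O : Finset I') : shB (p := p) (r' := r') r O 0 = 1 := by
  ext P
  rw [shB_apply, shBfun_zero, Perm.one_apply]

theorem shB_inv (O : Finset I') (c : ZMod p) :
    (shB (r' := r') r O c)⁻¹ = shB r O (-c) := by
  rw [inv_eq_iff_mul_eq_one, ← shB_add, add_neg_cancel, shB_zero]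

theorem shB_pow (O : Finset I') (c : ZMod p) (k : ℕ) :
    shB (r' := r') r O c ^ k = shB r O (k • c) := by
  induction k with
  | zero => rw [pow_zero, zero_smul, shB_zero]
  | succ k ih => rw [pow_succ, ih, ← shB_add, succ_nsmul]

theorem shB_pow_p (O : Finset I') (c : ZMod p) : shB (r' := r') r O c ^ p = 1 := by
  rw [shB_pow]
  have : (p • c : ZMod p) = 0 := by
    rw [nsmul_eq_mul, CharP.cast_eq_zero, zero_mul]
  rw [this, shB_zero]

theorem shA_add (O : Finset I') (c d : ZMod p) :
    shA (r' := r') r O (c + d) = shA r O c * shA r O d := by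
  unfold shA
  rw [← LIBA.base_add]
  congr 1
  funext i
  rcases i with ⟨j, x⟩ | k'
  · by_cases hj : j ∈ O
    · simp only [fA, hj, if_true, Pi.add_apply]
      ring
    · simp only [fA, hj, if_false, Pi.add_apply, add_zero]
  · simp [fA]

theorem shA_inv (O : Finset I') (c : ZMod p) :
    (shA (r' := r') r O c)⁻¹ = shA r O (-c) := by
  unfold shA
  rw [← LIBA.base_neg]
  congr 1
  funext i
  rcases i with ⟨j, x⟩ | k'
  · by_cases hj : j ∈ O
    · simp only [fA, hj, if_true, Pi.neg_apply]
      ring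
    · simp only [fA, hj, if_false, Pi.neg_apply, neg_zero]
  · simp [fA]

theorem shA_pow_p (O : Finset I') (c : ZMod p) : shA (r' := r') r O c ^ p = 1 :=
  LIBA.base_pow_p _

/-- an element with `h ^ p = 1` is a `p`-element -/
theorem isPElt_of_pow_p {G : Type*} [Group G] {h : G} (hh : h ^ p = 1) : IsPElt p h := by
  have h2 : orderOf h ∣ p := orderOf_dvd_of_pow_eq_one hh
  rcases (Nat.dvd_prime (Fact.out : p.Prime)).mp h2 with h3 | h3
  · exact ⟨0, by rw [h3, pow_zero]⟩
  · exact ⟨1, by rw [h3, pow_one]⟩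

/-- an element with `h ^ p = 1`, `p` odd, is even -/
theorem sign_of_pow_p (hp : p ≠ 2) {Y : Type*} [Fintype Y] [DecidableEq Y] {h : Perm Y}
    (hh : h ^ p = 1) : Equiv.Perm.sign h = 1 := by
  have h1 : Equiv.Perm.sign h ^ p = 1 := by rw [← map_pow, hh, map_one]
  rcases Int.units_eq_one_or (Equiv.Perm.sign h) with h2 | h2
  · exact h2
  · exfalso
    rw [h2, ((Fact.out : p.Prime).odd_of_ne_two hp).neg_one_pow] at h1
    exact absurd h1 (by decide)

/-- the two kinds of generators of `R0 r O` -/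
theorem gen1_mem (O : Finset I') (f : X p I' r' → ZMod p)
    (hf : ∀ j ∈ O, ∀ x x' : ZMod p, f (Sum.inl (j, x)) = f (Sum.inl (j, x'))) :
    base f ∈ R0 (r' := r') r O :=
  Subgroup.subset_closure (Or.inl ⟨f, hf, rfl⟩)

theorem gen2_mem (O : Finset I') (f' : I' → ZMod p) (hf' : ∀ j, j ∉ O → f' j = 0) :
    lift (base f') ∈ R0 (p := p) (r' := r') r O :=
  Subgroup.subset_closure (Or.inr ⟨f', hf', rfl⟩)

/-- a family closed under inverses which conjugates the generators into `R0` normalizes `R0` -/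
theorem mem_normalizer_of_gens (O : Finset I') (h : Perm (X p (X p I' r') r))
    (h1 : ∀ g, g ∈ ({g | ∃ f : X p I' r' → ZMod p,
        (∀ j ∈ O, ∀ x x' : ZMod p, f (Sum.inl (j, x)) = f (Sum.inl (j, x'))) ∧ g = base f} ∪
      {g | ∃ f' : I' → ZMod p, (∀ j, j ∉ O → f' j = 0) ∧ g = lift (base f')} :
        Set (Perm (X p (X p I' r') r))) → h * g * h⁻¹ ∈ R0 (r' := r') r O)
    (h2 : ∀ g, g ∈ ({g | ∃ f : X p I' r' → ZMod p,
        (∀ j ∈ O, ∀ x x' : ZMod p, f (Sum.inl (j, x)) = f (Sum.inl (j, x'))) ∧ g = base f} ∪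
      {g | ∃ f' : I' → ZMod p, (∀ j, j ∉ O → f' j = 0) ∧ g = lift (base f')} :
        Set (Perm (X p (X p I' r') r))) → h⁻¹ * g * h⁻¹⁻¹ ∈ R0 (r' := r') r O) :
    h ∈ Subgroup.normalizer ((R0 (r' := r') r O : Subgroup (Perm (X p (X p I' r') r))) :
      Set (Perm (X p (X p I' r') r))) := by
  have key : ∀ k : Perm (X p (X p I' r') r),
      (∀ g, g ∈ ({g | ∃ f : X p I' r' → ZMod p,
        (∀ j ∈ O, ∀ x x' : ZMod p, f (Sum.inl (j, x)) = f (Sum.inl (j, x'))) ∧ g = base f} ∪
      {g | ∃ f' : I' → ZMod p, (∀ j, j ∉ O → f' j = 0) ∧ g = lift (base f')} :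
        Set (Perm (X p (X p I' r') r))) → k * g * k⁻¹ ∈ R0 (r' := r') r O) →
      ∀ x ∈ R0 (r' := r') r O, k * x * k⁻¹ ∈ R0 (r' := r') r O := by
    intro k hk x hx
    unfold R0 at hx
    induction hx using Subgroup.closure_induction with
    | mem x hx => exact hk x hx
    | one => simp
    | mul x y _ _ hx hy =>
      have : k * (x * y) * k⁻¹ = (k * x * k⁻¹) * (k * y * k⁻¹) := by group
      rw [this]
      exact Subgroup.mul_mem _ hx hy
    | inv x _ hx =>
      have : k * x⁻¹ * k⁻¹ = (k * x * k⁻¹)⁻¹ := by group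
      rw [this]
      exact Subgroup.inv_mem _ hx
  rw [Subgroup.mem_normalizer_iff]
  intro x
  constructor
  · exact key h h1 x
  · intro hx
    have := key h⁻¹ h2 _ hx
    have e : h⁻¹ * (h * x * h⁻¹) * h⁻¹⁻¹ = x := by group
    rw [e] at this
    exact this

theorem shA_apply_in (O : Finset I') (c : ZMod p) {j : I'} (hj : j ∈ O) (x y : ZMod p) :
    shA (r' := r') r O c (Sum.inl (Sum.inl (j, x), y)) = Sum.inl (Sum.inl (j, x), y + c * x) := by
  simp [shA, fA, hj]

theorem shA_apply_out (O : Finset I') (c : ZMod p) {j : I'} (hj : j ∉ O) (x y : ZMod p) :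
    shA (r' := r') r O c (Sum.inl (Sum.inl (j, x), y)) = Sum.inl (Sum.inl (j, x), y) := by
  simp [shA, fA, hj]

theorem shA_apply_inr' (O : Finset I') (c : ZMod p) (k' : Fin r') (y : ZMod p) :
    shA (r' := r') r O c (Sum.inl (Sum.inr k', y)) = Sum.inl (Sum.inr k', y) := by
  simp [shA, fA]

theorem shA_apply_inr (O : Finset I') (c : ZMod p) (k : Fin r) :
    shA (r' := r') r O c (Sum.inr k) = Sum.inr k := by
  simp [shA]

theorem shB_apply_in (O : Finset I') (c : ZMod p) {j : I'} (hj : j ∈ O) (x y : ZMod p) :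
    shB (r' := r') r O c (Sum.inl (Sum.inl (j, x), y)) = Sum.inl (Sum.inl (j, x + c * y), y) := by
  simp [shB_apply, shBfun, hj]

theorem shB_apply_out (O : Finset I') (c : ZMod p) {j : I'} (hj : j ∉ O) (x y : ZMod p) :
    shB (r' := r') r O c (Sum.inl (Sum.inl (j, x), y)) = Sum.inl (Sum.inl (j, x), y) := by
  simp [shB_apply, shBfun, hj]

theorem shB_apply_inr' (O : Finset I') (c : ZMod p) (k' : Fin r') (y : ZMod p) :
    shB (r' := r') r O c (Sum.inl (Sum.inr k', y)) = Sum.inl (Sum.inr k', y) := rfl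

theorem shB_apply_inr (O : Finset I') (c : ZMod p) (k : Fin r) :
    shB (r' := r') r O c (Sum.inr k) = Sum.inr k := rfl

/-- `shA` commutes with the generators of the first kind -/
theorem shA_conj_gen1 (O : Finset I') (c : ZMod p) (f : X p I' r' → ZMod p) :
    shA r O c * base f * (shA r O c)⁻¹ = base f := by
  unfold shA
  rw [LIBA.base_comm, mul_inv_cancel_right]

/-- the correction term of `shA` on the generators of the second kind -/
def hA (O : Finset I') (c : ZMod p) (f' : I' → ZMod p) : X p I' r' → ZMod p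
  | Sum.inl (j, _) => if j ∈ O then c * f' j else 0
  | Sum.inr _ => 0

theorem shA_conj_gen2 (O : Finset I') (c : ZMod p) (f' : I' → ZMod p) :
    shA (r' := r') r O c * lift (base f') * (shA r O c)⁻¹ =
      lift (base f') * base (hA O c f') := by
  rw [shA_inv]
  ext P
  rcases P with ⟨i, y⟩ | k
  · rcases i with ⟨j, x⟩ | k'
    · by_cases hj : j ∈ O
      · simp only [Perm.mul_apply, shA_apply_in O _ hj, lift_inl, base_inl, hA, hj, if_true]
        congr 2
        ring
      · simp only [Perm.mul_apply, shA_apply_out O _ hj, lift_inl, base_inl, hA, hj, if_false,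
          add_zero]
    · simp only [Perm.mul_apply, shA_apply_inr', lift_inl, base_inr, base_inl, hA, add_zero]
  · simp only [Perm.mul_apply, shA_apply_inr, lift_inr, base_inr]

/-- the correction term of `shB` on the generators of the first kind -/
def hB (O : Finset I') (c : ZMod p) (f : X p I' r' → ZMod p) : I' → ZMod p :=
  fun j => if j ∈ O then c * f (Sum.inl (j, 0)) else 0

theorem shB_conj_gen1 (O : Finset I') (c : ZMod p) (f : X p I' r' → ZMod p)
    (hf : ∀ j ∈ O, ∀ x x' : ZMod p, f (Sum.inl (j, x)) = f (Sum.inl (j, x'))) :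
    shB (r' := r') r O c * base f * (shB r O c)⁻¹ = lift (base (hB O c f)) * base f := by
  rw [shB_inv]
  ext P
  rcases P with ⟨i, y⟩ | k
  · rcases i with ⟨j, x⟩ | k'
    · by_cases hj : j ∈ O
      · simp only [Perm.mul_apply, shB_apply_in O _ hj, lift_inl, base_inl, hB, hj, if_true]
        rw [hf j hj (x + -c * y) 0, hf j hj x 0]
        have e : x + -c * y + c * (y + f (Sum.inl (j, 0))) = x + c * f (Sum.inl (j, 0)) := by ring
        rw [e]
      · simp only [Perm.mul_apply, shB_apply_out O _ hj, lift_inl, base_inl, hB, hj, if_false,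
          add_zero]
    · simp only [Perm.mul_apply, shB_apply_inr', lift_inl, base_inr, base_inl]
  · simp only [Perm.mul_apply, shB_apply_inr, lift_inr, base_inr]

theorem shB_conj_gen2 (O : Finset I') (c : ZMod p) (f' : I' → ZMod p)
    (hf' : ∀ j, j ∉ O → f' j = 0) :
    shB (r' := r') r O c * lift (base f') * (shB r O c)⁻¹ = lift (base f') := by
  rw [shB_inv]
  ext P
  rcases P with ⟨i, y⟩ | k
  · rcases i with ⟨j, x⟩ | k'
    · by_cases hj : j ∈ O
      · simp only [Perm.mul_apply, shB_apply_in O _ hj, lift_inl, base_inl]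
        have e : x + -c * y + f' j + c * y = x + f' j := by ring
        rw [e]
      · simp only [Perm.mul_apply, shB_apply_out O _ hj, lift_inl, base_inl, hf' j hj, add_zero]
    · simp only [Perm.mul_apply, shB_apply_inr', lift_inl, base_inr]
  · simp only [Perm.mul_apply, shB_apply_inr, lift_inr]

theorem shA_conj_mem (O : Finset I') (c : ZMod p) (g : Perm (X p (X p I' r') r))
    (hg : g ∈ ({g | ∃ f : X p I' r' → ZMod p,
        (∀ j ∈ O, ∀ x x' : ZMod p, f (Sum.inl (j, x)) = f (Sum.inl (j, x'))) ∧ g = base f} ∪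
      {g | ∃ f' : I' → ZMod p, (∀ j, j ∉ O → f' j = 0) ∧ g = lift (base f')} :
        Set (Perm (X p (X p I' r') r)))) :
    shA r O c * g * (shA r O c)⁻¹ ∈ R0 (r' := r') r O := by
  rcases hg with ⟨f, hf, rfl⟩ | ⟨f', hf', rfl⟩
  · rw [shA_conj_gen1]
    exact gen1_mem O f hf
  · rw [shA_conj_gen2]
    refine Subgroup.mul_mem _ (gen2_mem O f' hf') (gen1_mem O _ ?_)
    intro j hj x x'
    simp [hA, hj]

theorem shB_conj_mem (O : Finset I') (c : ZMod p) (g : Perm (X p (X p I' r') r))
    (hg : g ∈ ({g | ∃ f : X p I' r' → ZMod p,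
        (∀ j ∈ O, ∀ x x' : ZMod p, f (Sum.inl (j, x)) = f (Sum.inl (j, x'))) ∧ g = base f} ∪
      {g | ∃ f' : I' → ZMod p, (∀ j, j ∉ O → f' j = 0) ∧ g = lift (base f')} :
        Set (Perm (X p (X p I' r') r)))) :
    shB r O c * g * (shB r O c)⁻¹ ∈ R0 (r' := r') r O := by
  rcases hg with ⟨f, hf, rfl⟩ | ⟨f', hf', rfl⟩
  · rw [shB_conj_gen1 O c f hf]
    refine Subgroup.mul_mem _ (gen2_mem O _ ?_) (gen1_mem O f hf)
    intro j hj
    simp [hB, hj]
  · rw [shB_conj_gen2 O c f' hf']
    exact gen2_mem O f' hf'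

theorem shA_mem (hp : p ≠ 2) (O : Finset I') (c : ZMod p) :
    shA (r' := r') r O c ∈ {h : Perm (X p (X p I' r') r) |
      h ∈ alternatingGroup (X p (X p I' r') r) ∧
      h ∈ Subgroup.normalizer ((R0 (r' := r') r O : Subgroup (Perm (X p (X p I' r') r))) :
        Set (Perm (X p (X p I' r') r))) ∧ IsPElt p h} := by
  refine ⟨?_, ?_, isPElt_of_pow_p (shA_pow_p O c)⟩
  · rw [Equiv.Perm.mem_alternatingGroup]
    exact sign_of_pow_p hp (shA_pow_p O c)
  · apply mem_normalizer_of_gens
    · exact shA_conj_mem O c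
    · rw [shA_inv]
      exact shA_conj_mem O (-c)

theorem shB_mem (hp : p ≠ 2) (O : Finset I') (c : ZMod p) :
    shB (r' := r') r O c ∈ {h : Perm (X p (X p I' r') r) |
      h ∈ alternatingGroup (X p (X p I' r') r) ∧
      h ∈ Subgroup.normalizer ((R0 (r' := r') r O : Subgroup (Perm (X p (X p I' r') r))) :
        Set (Perm (X p (X p I' r') r))) ∧ IsPElt p h} := by
  refine ⟨?_, ?_, isPElt_of_pow_p (shB_pow_p O c)⟩
  · rw [Equiv.Perm.mem_alternatingGroup]
    exact sign_of_pow_p hp (shB_pow_p O c)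
  · apply mem_normalizer_of_gens
    · exact shB_conj_mem O c
    · rw [shB_inv]
      exact shB_conj_mem O (-c)

/-- the `SL₂` identity `diag (t, t⁻¹) = n(t) n(-1)`, `n(t) = x(t) y(-t⁻¹) x(t)`, with `t = w⁻¹` -/
theorem g0_eq (O : Finset I') (w : (ZMod p)ˣ) :
    g0 (r' := r') (r := r) O w =
      shB r O ((w⁻¹ : (ZMod p)ˣ) : ZMod p) * shA r O (-(w : ZMod p)) *
        shB r O ((w⁻¹ : (ZMod p)ˣ) : ZMod p) * (shB r O (-1) * shA r O 1 * shB r O (-1)) := by
  have htw : ((w⁻¹ : (ZMod p)ˣ) : ZMod p) * (w : ZMod p) = 1 := Units.inv_mul w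
  obtain ⟨t, ht⟩ : ∃ t : ZMod p, t = ((w⁻¹ : (ZMod p)ˣ) : ZMod p) := ⟨_, rfl⟩
  rw [← ht] at htw ⊢
  ext P
  rcases P with ⟨i, y⟩ | k
  · rcases i with ⟨j, x⟩ | k'
    · by_cases hj : j ∈ O
      · simp only [g0, Perm.mul_apply, lift_inl, torus_inl, aO, bO, hj, if_true,
          shB_apply_in O _ hj, shA_apply_in O _ hj, ← ht]
        have e1 : x + -1 * y + -1 * (y + 1 * (x + -1 * y)) +
            t * (y + 1 * (x + -1 * y)) +
            t * (y + 1 * (x + -1 * y) + -(w : ZMod p) * (x + -1 * y + -1 * (y + 1 * (x + -1 * y)) +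
              t * (y + 1 * (x + -1 * y)))) = t * x := by
          linear_combination (y - t * x) * htw
        have e2 : y + 1 * (x + -1 * y) + -(w : ZMod p) * (x + -1 * y + -1 * (y + 1 * (x + -1 * y)) +
            t * (y + 1 * (x + -1 * y))) = (w : ZMod p) * y := by
          linear_combination (-x) * htw
        rw [e1, e2]
      · simp only [g0, Perm.mul_apply, lift_inl, torus_inl, aO, bO, hj, if_false,
          shB_apply_out O _ hj, shA_apply_out O _ hj, Units.val_one, one_mul]
    · simp only [g0, Perm.mul_apply, lift_inl, torus_inr, torus_inl, aO, shB_apply_inr',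
        shA_apply_inr', Units.val_one, one_mul]
  · simp only [g0, Perm.mul_apply, lift_inr, torus_inr, shB_apply_inr, shA_apply_inr]

end G0GEN

end chapB2

section chapB2'

variable {p : ℕ} [Fact p.Prime] {I' : Type} [Fintype I'] [DecidableEq I'] {r' r : ℕ}

open G0GEN in
theorem G0GEN.mem_closure (hp : p ≠ 2) (O : Finset I') (w : (ZMod p)ˣ) :
    g0 (r' := r') (r := r) O w ∈
      Subgroup.closure {h : Perm (X p (X p I' r') r) | h ∈ alternatingGroup (X p (X p I' r') r) ∧
        h ∈ Subgroup.normalizer ((R0 (r' := r') r O : Subgroup (Perm (X p (X p I' r') r))) :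
          Set (Perm (X p (X p I' r') r))) ∧ IsPElt p h} := by
  rw [g0_eq]
  have hA : ∀ c : ZMod p, shA (r' := r') r O c ∈ Subgroup.closure
      {h : Perm (X p (X p I' r') r) | h ∈ alternatingGroup (X p (X p I' r') r) ∧
        h ∈ Subgroup.normalizer ((R0 (r' := r') r O : Subgroup (Perm (X p (X p I' r') r))) :
          Set (Perm (X p (X p I' r') r))) ∧ IsPElt p h} :=
    fun c => Subgroup.subset_closure (shA_mem hp O c)
  have hB : ∀ c : ZMod p, shB (r' := r') r O c ∈ Subgroup.closure
      {h : Perm (X p (X p I' r') r) | h ∈ alternatingGroup (X p (X p I' r') r) ∧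
        h ∈ Subgroup.normalizer ((R0 (r' := r') r O : Subgroup (Perm (X p (X p I' r') r))) :
          Set (Perm (X p (X p I' r') r))) ∧ IsPElt p h} :=
    fun c => Subgroup.subset_closure (shB_mem hp O c)
  exact Subgroup.mul_mem _ (Subgroup.mul_mem _ (Subgroup.mul_mem _ (hB _) (hA _)) (hB _))
    (Subgroup.mul_mem _ (Subgroup.mul_mem _ (hB _) (hA _)) (hB _))

end chapB2'

end Cfsg.Agent.S5165P
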