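import Mathlib
import Cfsg.Agent.Helper25.FusionQuotGroup
import Cfsg.Agent.Helper25.FusionIso4

set_option autoImplicit false
set_option linter.unusedSimpArgs false
set_option linter.unusedSectionVars false
set_option linter.unusedVariables false

/-! Transport of group fusion systems along a group isomorphism. -/

namespace Cfsg.Agent.Helper25

open Cfsg Cfsg.FusionSystem

variable {G G' : Type*} [Group G] [Group G']

theorem groupFusion_equiv_isFactorSystem (e : G ≃* G') (S : Subgroup G) :
    (groupFusionSystem S).IsFactorSystem ⊥ (e.toMonoidHom.comp S.subtype)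
      (groupFusionSystem (S.map e.toMonoidHom)) := by
  have hθ : ∀ s : S, (e.toMonoidHom.comp S.subtype) s = e (s : G) := fun s => rfl
  refine ⟨bot_le, ?_, ?_, ?_⟩
  · intro s
    rw [hθ, Subgroup.mem_bot]
    exact map_eq_one_iff e e.injective
  · rw [MonoidHom.range_comp, Subgroup.range_subtype]
  · intro P' φ'
    have hpre : ∀ x, x ∈ preimageAlong (e.toMonoidHom.comp S.subtype) P' ↔ x ∈ S ∧ e x ∈ P' := by
      intro x
      rw [mem_preimageAlong]
      constructor
      · rintro ⟨hx, h⟩
        exact ⟨hx, h⟩
      · rintro ⟨hx, h⟩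
        exact ⟨hx, h⟩
    have hPS : preimageAlong (e.toMonoidHom.comp S.subtype) P' ≤ S := fun x hx => ((hpre x).mp hx).1
    constructor
    · rintro ⟨hP', hφ'S, h, hh⟩
      refine ⟨hP', ?_⟩
      have hval : ∀ x : preimageAlong (e.toMonoidHom.comp S.subtype) P',
          conjHom _ (e.symm h) x ∈ S := by
        intro x
        obtain ⟨hxS, hxP'⟩ := (hpre _).mp x.2
        have h1 := hφ'S ⟨_, hxP'⟩
        rw [hh] at h1
        obtain ⟨s, hs, hse⟩ := h1
        have e1 : conjHom _ (e.symm h) x = s := by
          apply e.injective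
          show e (e.symm h * (x : G) * (e.symm h)⁻¹) = e s
          rw [map_mul, map_mul, map_inv, MulEquiv.apply_symm_apply]
          exact hse.symm
        rw [e1]
        exact hs
      refine ⟨conjHom _ (e.symm h), ⟨hPS, hval, _, fun x => rfl⟩, hPS, hval,
        fun x => ((hpre _).mp x.2).2, ?_⟩
      intro x
      rw [hh]
      show h * e (x : G) * h⁻¹ = e (e.symm h * (x : G) * (e.symm h)⁻¹)
      rw [map_mul, map_mul, map_inv, MulEquiv.apply_symm_apply]
    · rintro ⟨hP', φ, ⟨-, hφS, k, hk⟩, hP, hφ, hP'', hind⟩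
      have key : ∀ y : P', ∃ x : preimageAlong (e.toMonoidHom.comp S.subtype) P',
          (y : G') = e (x : G) := by
        intro y
        obtain ⟨s, hs, hsy⟩ := hP' y.2
        have hsy' : e s = (y : G') := hsy
        refine ⟨⟨s, (hpre _).mpr ⟨hs, ?_⟩⟩, hsy'.symm⟩
        rw [hsy']
        exact y.2
      have hform : ∀ y : P', φ' y = e k * (y : G') * (e k)⁻¹ ∧
          φ' y ∈ S.map e.toMonoidHom := by
        intro y
        obtain ⟨x, hx⟩ := key y
        have h1 := hind x
        have h2 : (⟨(e.toMonoidHom.comp S.subtype) ⟨x, hP x.2⟩, hP'' x⟩ : P') = y := by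
          apply Subtype.ext
          exact hx.symm
        rw [h2] at h1
        refine ⟨?_, ?_⟩
        · rw [h1, hθ]
          show e (φ x) = _
          rw [hk, hx, map_mul, map_mul, map_inv]
        · rw [h1]
          exact ⟨φ x, hφ x, rfl⟩
      exact ⟨hP', fun y => (hform y).2, e k, fun y => (hform y).1⟩

/-- Simplicity of all Sylow fusion systems is invariant under isomorphism. -/
theorem equiv_isSimple [Finite G] (p : ℕ) [Fact p.Prime] (e : G ≃* G')
    (h : ∀ S₀ : Sylow p G, (groupFusionSystem (S₀ : Subgroup G)).IsSimple p) (S : Sylow p G') :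
    (groupFusionSystem (S : Subgroup G')).IsSimple p := by
  have hsurj : Function.Surjective e.toMonoidHom := e.surjective
  obtain ⟨S₀, hS₀⟩ := Sylow.mapSurjective_surjective hsurj p S
  have hcoe : (S : Subgroup G') = (S₀ : Subgroup G).map e.toMonoidHom := by
    rw [← hS₀]
    rfl
  rw [hcoe]
  exact iso_isSimple p S₀.isPGroup' (groupFusion_equiv_isFactorSystem e (S₀ : Subgroup G)) (h S₀)

end Cfsg.Agent.Helper25
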