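import Mathlib
import Cfsg.Agent.Helper25.S5165.Defs
import Cfsg.Agent.Helper25.PSLFusionA

set_option autoImplicit false
set_option linter.unusedSectionVars false
set_option linter.unusedVariables false

/-! # S5165 piece INTERFACE: the simplicity criterion for `↥A`, `A ≤ Ω`, in terms of subgroups of `Ω`. -/

namespace Cfsg.Agent.S5165P

open Equiv

namespace INTERFACE

variable {Ω : Type*} [Group Ω]

/-- pulling a closure back to a subgroup -/
theorem closure_pullback (A : Subgroup Ω) (K₀ : Set Ω) (hK : ∀ x ∈ K₀, x ∈ A) (K : Set A)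
    (hKK : ∀ x (hx : x ∈ K₀), (⟨x, hK x hx⟩ : A) ∈ K) {g : Ω} (hg : g ∈ Subgroup.closure K₀) :
    ∃ hgA : g ∈ A, (⟨g, hgA⟩ : A) ∈ Subgroup.closure K := by
  induction hg using Subgroup.closure_induction with
  | mem x hx => exact ⟨hK x hx, Subgroup.subset_closure (hKK x hx)⟩
  | one => exact ⟨A.one_mem, (Subgroup.closure K).one_mem⟩
  | mul x y _ _ hx hy =>
    obtain ⟨hxA, hx'⟩ := hx
    obtain ⟨hyA, hy'⟩ := hy
    exact ⟨A.mul_mem hxA hyA, (Subgroup.closure K).mul_mem hx' hy'⟩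
  | inv x _ hx =>
    obtain ⟨hxA, hx'⟩ := hx
    exact ⟨A.inv_mem hxA, (Subgroup.closure K).inv_mem hx'⟩

/-- normalizers in `↥A` and in `Ω` (image) -/
theorem mem_normalizer_map (A : Subgroup Ω) (R : Subgroup A) (g : A) :
    g ∈ Subgroup.normalizer (R : Set A) ↔
      (g : Ω) ∈ Subgroup.normalizer ((R.map A.subtype : Subgroup Ω) : Set Ω) := by
  rw [Subgroup.mem_normalizer_iff, Subgroup.mem_normalizer_iff]
  constructor
  · intro h x
    constructor
    · rintro ⟨y, hy, rfl⟩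
      exact ⟨g * y * g⁻¹, (h y).mp hy, by simp⟩
    · rintro ⟨y, hy, hyx⟩
      have hxA : x ∈ A := by
        have h1 : x = (g : Ω)⁻¹ * ((g : Ω) * x * (g : Ω)⁻¹) * (g : Ω) := by group
        rw [h1, ← hyx]
        exact A.mul_mem (A.mul_mem (A.inv_mem g.2) y.2) g.2
      refine ⟨⟨x, hxA⟩, ?_, rfl⟩
      apply (h ⟨x, hxA⟩).mpr
      have : g * ⟨x, hxA⟩ * g⁻¹ = y := by
        apply Subtype.ext
        simp only [Subgroup.coe_mul, Subgroup.coe_inv]
        exact hyx.symm
      rw [this]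
      exact hy
  · intro h y
    constructor
    · intro hy
      obtain ⟨z, hz, hzy⟩ := (h (y : Ω)).mp ⟨y, hy, rfl⟩
      have : g * y * g⁻¹ = z := by
        apply Subtype.ext
        simp only [Subgroup.coe_mul, Subgroup.coe_inv]
        exact hzy.symm
      rw [this]
      exact hz
    · intro hy
      obtain ⟨z, hz, hzy⟩ := (h (y : Ω)).mpr ⟨g * y * g⁻¹, hy, by simp⟩
      have : y = z := Subtype.ext hzy.symm
      rw [this]
      exact hz

theorem map_subgroupOf_eq (A : Subgroup Ω) (R₀ : Subgroup Ω) (h : R₀ ≤ A) :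
    (R₀.subgroupOf A).map A.subtype = R₀ := by
  rw [Subgroup.map_subgroupOf_eq_of_le h]

end INTERFACE

open INTERFACE in
theorem INTERFACE.isSimple {Ω : Type*} [Group Ω] [Finite Ω] (A : Subgroup Ω) (p : ℕ) [Fact p.Prime]
    (S : Sylow p A) (S₀ : Subgroup Ω) (hS : (S : Subgroup A).map A.subtype = S₀) (h1 : S₀ ≠ ⊥)
    (ha : ∀ T : Subgroup Ω, SC A S₀ T → T = ⊥ ∨ T = S₀)
    (hb : ∀ g ∈ A, g ∈ Subgroup.normalizer (S₀ : Set Ω) →
      g ∈ Subgroup.closure {x : Ω | x ∈ A ∧ x ∈ Subgroup.normalizer (S₀ : Set Ω) ∧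
        ∃ R : Subgroup Ω, R ≤ S₀ ∧ Subgroup.centralizer (R : Set Ω) ⊓ A ≤ R ∧
          x ∈ Subgroup.closure {h : Ω | h ∈ A ∧ h ∈ Subgroup.normalizer (R : Set Ω) ∧
            IsPElt p h}}) :
    (Cfsg.groupFusionSystem (S : Subgroup A)).IsSimple p := by
  have hS₀A : S₀ ≤ A := by
    rw [← hS]
    rintro x ⟨y, -, rfl⟩
    exact y.2
  have hmemS : ∀ y : A, y ∈ (S : Subgroup A) ↔ (y : Ω) ∈ S₀ := by
    intro y
    rw [← hS]
    constructor
    · intro hy
      exact ⟨y, hy, rfl⟩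
    · rintro ⟨z, hz, hzy⟩
      have : y = z := Subtype.ext hzy.symm
      rw [this]
      exact hz
  apply Cfsg.Agent.Helper25.groupFusionSystem_isSimple_of_centric_gen p S
  · intro hbot
    apply h1
    rw [← hS, hbot, Subgroup.map_bot]
  · intro T hTS hT
    have hSC : SC A S₀ (T.map A.subtype) := by
      refine ⟨?_, ?_⟩
      · rw [← hS]
        exact Subgroup.map_mono hTS
      · rintro t₀ ⟨t, ht, rfl⟩ g₀ hg₀ hmem
        have h2 := hT t ht ⟨g₀, hg₀⟩ ((hmemS _).mpr (by simpa using hmem))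
        exact ⟨_, h2, by simp⟩
    rcases ha _ hSC with h | h
    · left
      exact (Subgroup.map_eq_bot_iff_of_injective T A.subtype_injective).mp h
    · right
      apply Subgroup.map_injective A.subtype_injective
      rw [h, hS]
  · intro g hg
    have hgN : (g : Ω) ∈ Subgroup.normalizer (S₀ : Set Ω) := by
      rw [← hS]
      exact (mem_normalizer_map A _ g).mp hg
    have h2 := hb g g.2 hgN
    suffices hKK : ∀ x (hx : x ∈ {x : Ω | x ∈ A ∧ x ∈ Subgroup.normalizer (S₀ : Set Ω) ∧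
        ∃ R : Subgroup Ω, R ≤ S₀ ∧ Subgroup.centralizer (R : Set Ω) ⊓ A ≤ R ∧
          x ∈ Subgroup.closure {h : Ω | h ∈ A ∧ h ∈ Subgroup.normalizer (R : Set Ω) ∧
            IsPElt p h}}), (⟨x, hx.1⟩ : A) ∈
        {g : A | g ∈ Subgroup.normalizer (((S : Subgroup A)) : Set A) ∧ ∃ R : Subgroup A,
          (Cfsg.groupFusionSystem (S : Subgroup A)).IsCentric R ∧
          g ∈ Subgroup.closure {h : A | h ∈ Subgroup.normalizer (R : Set A) ∧
            ∃ k : ℕ, orderOf h = p ^ k}} by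
      obtain ⟨hgA, h3⟩ := closure_pullback A _ (fun x hx => hx.1) _ hKK h2
      exact h3
    · rintro x ⟨hxA, hxN, R₀, hR₀, hC, hx⟩
      have hR₀A : R₀ ≤ A := hR₀.trans hS₀A
      refine ⟨?_, R₀.subgroupOf A, ?_, ?_⟩
      · rw [mem_normalizer_map, hS]
        exact hxN
      · apply Cfsg.Agent.Helper25.isCentric_of_pElements p S.isPGroup'
        · intro y hy
          rw [hmemS]
          exact hR₀ (Subgroup.mem_subgroupOf.mp hy)
        · intro y hy _
          rw [Subgroup.mem_subgroupOf]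
          apply hC
          refine ⟨?_, y.2⟩
          show (y : Ω) ∈ Subgroup.centralizer (R₀ : Set Ω)
          rw [Subgroup.mem_centralizer_iff]
          intro r₀ hr₀
          have h4 := (Subgroup.mem_centralizer_iff.mp hy) ⟨r₀, hR₀A hr₀⟩
            (Subgroup.mem_subgroupOf.mpr hr₀)
          exact congrArg Subtype.val h4
      · suffices hLL : ∀ h₀ (hh : h₀ ∈ {h : Ω | h ∈ A ∧
            h ∈ Subgroup.normalizer (R₀ : Set Ω) ∧ IsPElt p h}), (⟨h₀, hh.1⟩ : A) ∈
            {h : A | h ∈ Subgroup.normalizer ((R₀.subgroupOf A : Subgroup A) : Set A) ∧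
              ∃ k : ℕ, orderOf h = p ^ k} by
          obtain ⟨hxA', h5⟩ := closure_pullback A _ (fun x hx => hx.1) _ hLL hx
          exact h5
        rintro h₀ ⟨hh₀A, hh₀N, k, hk⟩
        refine ⟨?_, k, ?_⟩
        · rw [mem_normalizer_map, map_subgroupOf_eq A R₀ hR₀A]
          exact hh₀N
        · rw [← hk]
          exact Subgroup.orderOf_mk h₀ hh₀A

end Cfsg.Agent.S5165P
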