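import Mathlib
import Cfsg.Prelude.Def_Classical
import Cfsg.Agent.Helper26.S5320.Defs
import Cfsg.Agent.Helper18.S5320Q8MEM
import Cfsg.Agent.Helper6.S5320Q8SGN
import Cfsg.Agent.Helper9.S5320Q8SYL

/-! # S5320 piece Q8NORM (helper25): `N_L(Q₈) = Q₈ ⟨y⟩` for `q ≡ ±3 mod 8`. -/

set_option autoImplicit false
set_option linter.unusedSectionVars false
set_option linter.unusedVariables false
set_option linter.unusedSimpArgs false
set_option linter.unusedTactic false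
set_option linter.unreachableTactic false

namespace Cfsg.Agent.S5320P

open Matrix

variable {F : Type*} [Field F]

namespace Q8NORM

theorem qi_val {a b : F} (hab : a ^ 2 + b ^ 2 = -1) : ((qi a b hab : L F) : M2 F) = qiM a b := rfl
theorem qj_val : ((qj : L F) : M2 F) = qjM := rfl
theorem qk_val {a b : F} (hab : a ^ 2 + b ^ 2 = -1) : ((qk a b hab : L F) : M2 F) = qkM a b := rfl
theorem qy_val {a b : F} (hab : a ^ 2 + b ^ 2 = -1) (h2 : (2 : F) ≠ 0) :
    ((qy a b hab h2 : L F) : M2 F) = qyM a b := rfl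

theorem ii {a b : F} (hab : a ^ 2 + b ^ 2 = -1) : qi a b hab * qi a b hab = -1 := by
  apply Subtype.ext
  rw [Matrix.SpecialLinearGroup.coe_mul, Matrix.SpecialLinearGroup.coe_neg,
    Matrix.SpecialLinearGroup.coe_one, qi_val, qiM]
  ext i j
  fin_cases i <;> fin_cases j <;> simp [Matrix.mul_apply, Fin.sum_univ_two] <;>
    first | ring1 | linear_combination hab | linear_combination -hab

theorem jj : (qj : L F) * qj = -1 := by
  apply Subtype.ext
  rw [Matrix.SpecialLinearGroup.coe_mul, Matrix.SpecialLinearGroup.coe_neg,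
    Matrix.SpecialLinearGroup.coe_one, qj_val, qjM]
  ext i j
  fin_cases i <;> fin_cases j <;> simp [Matrix.mul_apply, Fin.sum_univ_two]

theorem ij {a b : F} (hab : a ^ 2 + b ^ 2 = -1) : qi a b hab * qj = qk a b hab := by
  apply Subtype.ext
  rw [Matrix.SpecialLinearGroup.coe_mul, qi_val, qj_val, qk_val, qiM, qjM, qkM]
  ext i j
  fin_cases i <;> fin_cases j <;> simp [Matrix.mul_apply, Fin.sum_univ_two]

theorem ji {a b : F} (hab : a ^ 2 + b ^ 2 = -1) : qj * qi a b hab = -qk a b hab := by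
  apply Subtype.ext
  rw [Matrix.SpecialLinearGroup.coe_mul, Matrix.SpecialLinearGroup.coe_neg, qi_val, qj_val, qk_val,
    qiM, qjM, qkM]
  ext i j
  fin_cases i <;> fin_cases j <;> simp [Matrix.mul_apply, Fin.sum_univ_two]

theorem ik {a b : F} (hab : a ^ 2 + b ^ 2 = -1) : qi a b hab * qk a b hab = -qj := by
  apply Subtype.ext
  rw [Matrix.SpecialLinearGroup.coe_mul, Matrix.SpecialLinearGroup.coe_neg, qi_val, qj_val, qk_val,
    qiM, qjM, qkM]
  ext i j
  fin_cases i <;> fin_cases j <;> simp [Matrix.mul_apply, Fin.sum_univ_two] <;>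
    first | ring1 | linear_combination hab | linear_combination -hab

theorem yi' {a b : F} (hab : a ^ 2 + b ^ 2 = -1) (h2 : (2 : F) ≠ 0) :
    qy a b hab h2 * qi a b hab = (-qk a b hab) * qy a b hab h2 := by
  apply Subtype.ext
  rw [Matrix.SpecialLinearGroup.coe_mul, Matrix.SpecialLinearGroup.coe_mul,
    Matrix.SpecialLinearGroup.coe_neg, qi_val, qk_val, qy_val, qiM, qkM, qyM]
  ext i j
  fin_cases i <;> fin_cases j <;> simp [Matrix.mul_apply, Fin.sum_univ_two] <;>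
    first | ring1 | linear_combination (2⁻¹ : F) * hab | linear_combination (-2⁻¹ : F) * hab

theorem yj' {a b : F} (hab : a ^ 2 + b ^ 2 = -1) (h2 : (2 : F) ≠ 0) :
    qy a b hab h2 * qj = (-qi a b hab) * qy a b hab h2 := by
  apply Subtype.ext
  rw [Matrix.SpecialLinearGroup.coe_mul, Matrix.SpecialLinearGroup.coe_mul,
    Matrix.SpecialLinearGroup.coe_neg, qi_val, qj_val, qy_val, qiM, qjM, qyM]
  ext i j
  fin_cases i <;> fin_cases j <;> simp [Matrix.mul_apply, Fin.sum_univ_two] <;>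
    first | ring1 | linear_combination (2⁻¹ : F) * hab | linear_combination (-2⁻¹ : F) * hab

theorem yi {a b : F} (hab : a ^ 2 + b ^ 2 = -1) (h2 : (2 : F) ≠ 0) :
    qy a b hab h2 * qi a b hab * (qy a b hab h2)⁻¹ = -qk a b hab := by
  rw [yi', mul_inv_cancel_right]

theorem yj {a b : F} (hab : a ^ 2 + b ^ 2 = -1) (h2 : (2 : F) ≠ 0) :
    qy a b hab h2 * qj * (qy a b hab h2)⁻¹ = -qi a b hab := by
  rw [yj', mul_inv_cancel_right]

theorem conj_neg (w x : L F) : w * (-x) * w⁻¹ = -(w * x * w⁻¹) := by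
  rw [mul_neg, neg_mul]

theorem conj_prod (w x y : L F) : w * (x * y) * w⁻¹ = (w * x * w⁻¹) * (w * y * w⁻¹) := by
  group

theorem conj_sq (w x : L F) : (w * w) * x * (w * w)⁻¹ = w * (w * x * w⁻¹) * w⁻¹ := by
  group

theorem conj_neg_one (w : L F) : w * (-1) * w⁻¹ = -1 := by
  rw [mul_neg, neg_mul, mul_one, mul_inv_cancel]

theorem yk {a b : F} (hab : a ^ 2 + b ^ 2 = -1) (h2 : (2 : F) ≠ 0) :
    qy a b hab h2 * qk a b hab * (qy a b hab h2)⁻¹ = qj := by
  rw [← ij hab, conj_prod, yi, yj, neg_mul_neg, ← ij hab, mul_assoc, ji, mul_neg, ik, neg_neg]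

theorem one_ne_neg_one (h2 : (2 : F) ≠ 0) : (1 : L F) ≠ -1 := by
  intro h
  have h' := congrArg (fun m : L F => (m : M2 F) 0 0) h
  simp only [Matrix.SpecialLinearGroup.coe_neg, Matrix.SpecialLinearGroup.coe_one,
    Matrix.neg_apply, Matrix.one_apply_eq] at h'
  exact h2 (by linear_combination h')

theorem qj_ne_qi (h2 : (2 : F) ≠ 0) {a b : F} (hab : a ^ 2 + b ^ 2 = -1) :
    (qj : L F) ≠ qi a b hab := by
  intro h
  have h01 := congrArg (fun m : L F => (m : M2 F) 0 1) h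
  have h10 := congrArg (fun m : L F => (m : M2 F) 1 0) h
  simp [qi_val, qj_val, qiM, qjM] at h01 h10
  exact h2 (by linear_combination h01 - h10)

theorem qj_ne_neg_qi (h2 : (2 : F) ≠ 0) {a b : F} (hab : a ^ 2 + b ^ 2 = -1) :
    (qj : L F) ≠ -qi a b hab := by
  intro h
  have h01 := congrArg (fun m : L F => (m : M2 F) 0 1) h
  have h10 := congrArg (fun m : L F => (m : M2 F) 1 0) h
  simp [qi_val, qj_val, qiM, qjM, Matrix.SpecialLinearGroup.coe_neg] at h01 h10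
  exact h2 (by linear_combination h01 + h10)

theorem conj_inj (w x y : L F) (h : w * x * w⁻¹ = w * y * w⁻¹) : x = y := by
  simpa using h

theorem sq_cases (h2 : (2 : F) ≠ 0) {a b : F} (hab : a ^ 2 + b ^ 2 = -1) (x : L F)
    (hx : x ∈ Q8 a b hab) (hxx : x * x = -1) :
    x = qi a b hab ∨ x = -qi a b hab ∨ x = qj ∨ x = -qj ∨ x = qk a b hab ∨ x = -qk a b hab := by
  rcases (Q8MEM.mem_iff h2 hab x).1 hx with h | h | h | h | h | h | h | h
  · exfalso
    rw [h, mul_one] at hxx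
    exact one_ne_neg_one h2 hxx
  · exfalso
    rw [h, neg_mul_neg, mul_one] at hxx
    exact one_ne_neg_one h2 hxx
  all_goals simp [h]

theorem mem_of_sq_mem [Fintype F] (hodd : Fintype.card F % 2 = 1)
    (h16 : ¬ 16 ∣ Fintype.card F ^ 2 - 1) {a b : F} (hab : a ^ 2 + b ^ 2 = -1) (w : L F)
    (hw : w ∈ Subgroup.normalizer ((Q8 a b hab : Subgroup (L F)) : Set (L F)))
    (h : w * w ∈ Q8 a b hab) : w ∈ Q8 a b hab := by
  obtain ⟨Q, hQ⟩ := Q8SYL.exists_sylow hodd h16 hab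
  have hp : IsPGroup 2 (Q8 a b hab) := hQ ▸ Q.isPGroup'
  obtain ⟨n, hn⟩ := hp ⟨w * w, h⟩
  have hn' : (w * w) ^ (2 ^ n) = 1 := by
    have := congrArg Subtype.val hn
    simpa using this
  have hwn : w ^ (2 ^ (n + 1)) = 1 := by
    rw [pow_succ, pow_mul', pow_two]
    exact hn'
  have hK : IsPGroup 2 (Subgroup.zpowers w) := by
    obtain ⟨m, -, hm⟩ := (Nat.dvd_prime_pow Nat.prime_two).1 (orderOf_dvd_of_pow_eq_one hwn)
    exact IsPGroup.of_card (n := m) (by rw [Nat.card_zpowers, hm])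
  have hsup := IsPGroup.to_sup_of_normal_left' hp hK (Subgroup.zpowers_le.mpr hw)
  have hmax := Q.is_maximal' hsup (by rw [hQ]; exact le_sup_left)
  rw [hQ] at hmax
  rw [← hmax]
  exact (le_sup_right : Subgroup.zpowers w ≤ _) (Subgroup.mem_zpowers w)

theorem core [Fintype F] (hodd : Fintype.card F % 2 = 1)
    (h16 : ¬ 16 ∣ Fintype.card F ^ 2 - 1) (h2 : (2 : F) ≠ 0) {a b : F}
    (hab : a ^ 2 + b ^ 2 = -1) (w : L F)
    (hw : w ∈ Subgroup.normalizer ((Q8 a b hab : Subgroup (L F)) : Set (L F)))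
    (hi : w * qi a b hab * w⁻¹ = qi a b hab ∨ w * qi a b hab * w⁻¹ = -qi a b hab) :
    w ∈ Q8 a b hab := by
  have hjQ : (qj : L F) ∈ Q8 a b hab := Subgroup.subset_closure (by simp)
  have hjm : w * qj * w⁻¹ ∈ Q8 a b hab := (Subgroup.mem_normalizer_iff.mp hw qj).mp hjQ
  have hjs : (w * qj * w⁻¹) * (w * qj * w⁻¹) = -1 := by
    rw [← conj_prod, jj, conj_neg_one]
  rcases sq_cases h2 hab _ hjm hjs with hj | hj | hj | hj | hj | hj
  · exfalso
    rcases hi with hi | hi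
    · exact qj_ne_qi h2 hab (conj_inj w _ _ (hj.trans hi.symm))
    · refine qj_ne_neg_qi h2 hab (conj_inj w _ _ ?_)
      rw [conj_neg, hi, neg_neg, hj]
  · exfalso
    rcases hi with hi | hi
    · refine qj_ne_neg_qi h2 hab (conj_inj w _ _ ?_)
      rw [conj_neg, hi, hj]
    · exact qj_ne_qi h2 hab (conj_inj w _ _ (hj.trans hi.symm))
  · exact Q8SGN.mem h2 hab w hi (Or.inl hj)
  · exact Q8SGN.mem h2 hab w hi (Or.inr hj)
  · apply mem_of_sq_mem hodd h16 hab w hw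
    apply Q8SGN.mem h2 hab
    · left
      rw [conj_sq]
      rcases hi with hi | hi
      · rw [hi, hi]
      · rw [hi, conj_neg, hi, neg_neg]
    · have hk : w * qk a b hab * w⁻¹ = (w * qi a b hab * w⁻¹) * qk a b hab := by
        rw [← ij hab, conj_prod, hj, ij hab]
      rw [conj_sq, hj, hk]
      rcases hi with hi | hi
      · right
        rw [hi, ik]
      · left
        rw [hi, neg_mul, ik, neg_neg]
  · apply mem_of_sq_mem hodd h16 hab w hw
    apply Q8SGN.mem h2 hab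
    · left
      rw [conj_sq]
      rcases hi with hi | hi
      · rw [hi, hi]
      · rw [hi, conj_neg, hi, neg_neg]
    · have hk : w * qk a b hab * w⁻¹ = -((w * qi a b hab * w⁻¹) * qk a b hab) := by
        rw [← ij hab, conj_prod, hj, ij hab, mul_neg]
      rw [conj_sq, hj, conj_neg, hk, neg_neg]
      rcases hi with hi | hi
      · right
        rw [hi, ik]
      · left
        rw [hi, neg_mul, ik, neg_neg]

theorem yinv_i {a b : F} (hab : a ^ 2 + b ^ 2 = -1) (h2 : (2 : F) ≠ 0) :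
    (qy a b hab h2)⁻¹ * qi a b hab * qy a b hab h2 = -qj := by
  have h : qi a b hab = -(qy a b hab h2 * qj * (qy a b hab h2)⁻¹) := by rw [yj, neg_neg]
  conv_lhs => rw [h]
  rw [mul_neg, neg_mul]
  congr 1
  group

theorem yinv_k {a b : F} (hab : a ^ 2 + b ^ 2 = -1) (h2 : (2 : F) ≠ 0) :
    (qy a b hab h2)⁻¹ * qk a b hab * qy a b hab h2 = -qi a b hab := by
  have h : qk a b hab = -(qy a b hab h2 * qi a b hab * (qy a b hab h2)⁻¹) := by rw [yi, neg_neg]
  conv_lhs => rw [h]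
  rw [mul_neg, neg_mul]
  congr 1
  group

theorem yinv_j {a b : F} (hab : a ^ 2 + b ^ 2 = -1) (h2 : (2 : F) ≠ 0) :
    (qy a b hab h2)⁻¹ * qj * qy a b hab h2 = qk a b hab := by
  have h : (qj : L F) = qy a b hab h2 * qk a b hab * (qy a b hab h2)⁻¹ := by rw [yk]
  conv_lhs => rw [h]
  group

theorem mem_i (h2 : (2 : F) ≠ 0) {a b : F} (hab : a ^ 2 + b ^ 2 = -1) :
    qi a b hab ∈ Q8 a b hab := Subgroup.subset_closure (by simp)

theorem mem_j {a b : F} (hab : a ^ 2 + b ^ 2 = -1) :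
    (qj : L F) ∈ Q8 a b hab := Subgroup.subset_closure (by simp)

theorem mem_k {a b : F} (hab : a ^ 2 + b ^ 2 = -1) :
    qk a b hab ∈ Q8 a b hab := by
  rw [← ij hab]
  exact Subgroup.mul_mem _ (Subgroup.subset_closure (by simp)) (Subgroup.subset_closure (by simp))

theorem mem_neg_one {a b : F} (hab : a ^ 2 + b ^ 2 = -1) :
    (-1 : L F) ∈ Q8 a b hab := by
  rw [← jj]
  exact Subgroup.mul_mem _ (mem_j hab) (mem_j hab)

theorem mem_neg {a b : F} (hab : a ^ 2 + b ^ 2 = -1) {x : L F} (hx : x ∈ Q8 a b hab) :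
    -x ∈ Q8 a b hab := by
  have : -x = (-1 : L F) * x := by rw [neg_mul, one_mul]
  rw [this]
  exact Subgroup.mul_mem _ (mem_neg_one hab) hx

end Q8NORM

theorem Q8NORM.qy_mem (h2 : (2 : F) ≠ 0) {a b : F} (hab : a ^ 2 + b ^ 2 = -1) :
    qy a b hab h2 ∈ Subgroup.normalizer ((Q8 a b hab : Subgroup (L F)) : Set (L F)) := by
  have hfin : Finite (Q8 a b hab) :=
    Nat.finite_of_card_ne_zero (by rw [Q8MEM.card h2 hab]; norm_num)
  have hfin' : Finite ((Q8 a b hab : Subgroup (L F)) : Set (L F)) := hfin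
  apply Subgroup.mem_normalizer_fintype
  intro n hn
  have hn' : n ∈ Q8 a b hab := hn
  show qy a b hab h2 * n * (qy a b hab h2)⁻¹ ∈ Q8 a b hab
  rcases (Q8MEM.mem_iff h2 hab n).1 hn' with h | h | h | h | h | h | h | h
  · rw [h, mul_one, mul_inv_cancel]
    exact Subgroup.one_mem _
  · rw [h, Q8NORM.conj_neg_one]
    exact Q8NORM.mem_neg_one hab
  · rw [h, Q8NORM.yi]
    exact Q8NORM.mem_neg hab (Q8NORM.mem_k hab)
  · rw [h, Q8NORM.conj_neg, Q8NORM.yi, neg_neg]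
    exact Q8NORM.mem_k hab
  · rw [h, Q8NORM.yj]
    exact Q8NORM.mem_neg hab (Q8NORM.mem_i h2 hab)
  · rw [h, Q8NORM.conj_neg, Q8NORM.yj, neg_neg]
    exact Q8NORM.mem_i h2 hab
  · rw [h, Q8NORM.yk]
    exact Q8NORM.mem_j hab
  · rw [h, Q8NORM.conj_neg, Q8NORM.yk]
    exact Q8NORM.mem_neg hab (Q8NORM.mem_j hab)

theorem Q8NORM.exists_eq [Fintype F] (hodd : Fintype.card F % 2 = 1)
    (h16 : ¬ 16 ∣ Fintype.card F ^ 2 - 1) (h2 : (2 : F) ≠ 0) {a b : F} (hab : a ^ 2 + b ^ 2 = -1)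
    (u : L F) (hu : u ∈ Subgroup.normalizer ((Q8 a b hab : Subgroup (L F)) : Set (L F))) :
    ∃ c ∈ Q8 a b hab, u = c ∨ u = c * qy a b hab h2 ∨ u = c * qy a b hab h2 * qy a b hab h2 := by
  have hy := Q8NORM.qy_mem h2 hab
  have hui : u⁻¹ ∈ Subgroup.normalizer ((Q8 a b hab : Subgroup (L F)) : Set (L F)) :=
    Subgroup.inv_mem _ hu
  have hxm : u⁻¹ * qi a b hab * u⁻¹⁻¹ ∈ Q8 a b hab :=
    (Subgroup.mem_normalizer_iff.mp hui _).mp (Q8NORM.mem_i h2 hab)
  have hxs : (u⁻¹ * qi a b hab * u⁻¹⁻¹) * (u⁻¹ * qi a b hab * u⁻¹⁻¹) = -1 := by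
    rw [← Q8NORM.conj_prod, Q8NORM.ii, Q8NORM.conj_neg_one]
  have hux : u * (u⁻¹ * qi a b hab * u⁻¹⁻¹) * u⁻¹ = qi a b hab := by group
  rcases Q8NORM.sq_cases h2 hab _ hxm hxs with hx | hx | hx | hx | hx | hx
  · rw [hx] at hux
    exact ⟨u, Q8NORM.core hodd h16 h2 hab u hu (Or.inl hux), Or.inl rfl⟩
  · rw [hx, Q8NORM.conj_neg, neg_eq_iff_eq_neg] at hux
    exact ⟨u, Q8NORM.core hodd h16 h2 hab u hu (Or.inr hux), Or.inl rfl⟩
  · -- u j u⁻¹ = i
    rw [hx] at hux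
    refine ⟨u * (qy a b hab h2)⁻¹, ?_, Or.inr (Or.inl (by group))⟩
    apply Q8NORM.core hodd h16 h2 hab _ (Subgroup.mul_mem _ hu (Subgroup.inv_mem _ hy))
    right
    have : u * (qy a b hab h2)⁻¹ * qi a b hab * (u * (qy a b hab h2)⁻¹)⁻¹ =
        u * ((qy a b hab h2)⁻¹ * qi a b hab * qy a b hab h2) * u⁻¹ := by group
    rw [this, Q8NORM.yinv_i, Q8NORM.conj_neg, hux]
  · rw [hx, Q8NORM.conj_neg, neg_eq_iff_eq_neg] at hux
    refine ⟨u * (qy a b hab h2)⁻¹, ?_, Or.inr (Or.inl (by group))⟩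
    apply Q8NORM.core hodd h16 h2 hab _ (Subgroup.mul_mem _ hu (Subgroup.inv_mem _ hy))
    left
    have : u * (qy a b hab h2)⁻¹ * qi a b hab * (u * (qy a b hab h2)⁻¹)⁻¹ =
        u * ((qy a b hab h2)⁻¹ * qi a b hab * qy a b hab h2) * u⁻¹ := by group
    rw [this, Q8NORM.yinv_i, Q8NORM.conj_neg, hux, neg_neg]
  · -- u k u⁻¹ = i
    rw [hx] at hux
    refine ⟨u * (qy a b hab h2)⁻¹ * (qy a b hab h2)⁻¹, ?_, Or.inr (Or.inr (by group))⟩
    apply Q8NORM.core hodd h16 h2 hab _ (Subgroup.mul_mem _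
      (Subgroup.mul_mem _ hu (Subgroup.inv_mem _ hy)) (Subgroup.inv_mem _ hy))
    right
    have : u * (qy a b hab h2)⁻¹ * (qy a b hab h2)⁻¹ * qi a b hab *
        (u * (qy a b hab h2)⁻¹ * (qy a b hab h2)⁻¹)⁻¹ =
        u * ((qy a b hab h2)⁻¹ * ((qy a b hab h2)⁻¹ * qi a b hab * qy a b hab h2) *
          qy a b hab h2) * u⁻¹ := by simp only [_root_.mul_inv_rev, inv_inv, mul_assoc]
    rw [this, Q8NORM.yinv_i, mul_neg, neg_mul, Q8NORM.yinv_j, Q8NORM.conj_neg, hux]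
  · rw [hx, Q8NORM.conj_neg, neg_eq_iff_eq_neg] at hux
    refine ⟨u * (qy a b hab h2)⁻¹ * (qy a b hab h2)⁻¹, ?_, Or.inr (Or.inr (by group))⟩
    apply Q8NORM.core hodd h16 h2 hab _ (Subgroup.mul_mem _
      (Subgroup.mul_mem _ hu (Subgroup.inv_mem _ hy)) (Subgroup.inv_mem _ hy))
    left
    have : u * (qy a b hab h2)⁻¹ * (qy a b hab h2)⁻¹ * qi a b hab *
        (u * (qy a b hab h2)⁻¹ * (qy a b hab h2)⁻¹)⁻¹ =
        u * ((qy a b hab h2)⁻¹ * ((qy a b hab h2)⁻¹ * qi a b hab * qy a b hab h2) *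
          qy a b hab h2) * u⁻¹ := by simp only [_root_.mul_inv_rev, inv_inv, mul_assoc]
    rw [this, Q8NORM.yinv_i, mul_neg, neg_mul, Q8NORM.yinv_j, Q8NORM.conj_neg, hux, neg_neg]

end Cfsg.Agent.S5320P
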