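import Mathlib

set_option autoImplicit false

/-! # S5320 helper: the centric clause of `QINTERFACE.isSimple` for `Rt = St` is automatic. -/

namespace Cfsg.Agent.S5320P

namespace QINTERFACE

/-- A `p`-element `c` with `[c, St] ≤ Z ≤ St` lies in the Sylow `p`-subgroup `St`. -/
theorem centric_self {Gt : Type*} [Group Gt] (p : ℕ) [Fact p.Prime] (Z : Subgroup Gt)
    (St : Sylow p Gt) (hZS : Z ≤ (St : Subgroup Gt)) (c : Gt) (hc : ∃ m : ℕ, c ^ (p ^ m) = 1)
    (hcomm : ∀ r ∈ (St : Subgroup Gt), c * r * c⁻¹ * r⁻¹ ∈ Z) : c ∈ (St : Subgroup Gt) := by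
  have hconj : ∀ r ∈ (St : Subgroup Gt), c * r * c⁻¹ ∈ (St : Subgroup Gt) := by
    intro r hr
    have h1 : c * r * c⁻¹ = (c * r * c⁻¹ * r⁻¹) * r := by group
    rw [h1]
    exact (St : Subgroup Gt).mul_mem (hZS (hcomm r hr)) hr
  have hconj' : ∀ r ∈ (St : Subgroup Gt), c⁻¹ * r * c ∈ (St : Subgroup Gt) := by
    intro r hr
    -- `c` has finite order, so `c⁻¹` is a power of `c`
    obtain ⟨m, hm⟩ := hc
    have hpos : 0 < p ^ m := pow_pos (Nat.Prime.pos Fact.out) m
    have hinv : c⁻¹ = c ^ (p ^ m - 1) := by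
      have h2 : c ^ (p ^ m - 1) * c = 1 := by
        rw [← pow_succ, Nat.sub_add_cancel hpos, hm]
      exact (eq_inv_of_mul_eq_one_left h2).symm
    have hpow : ∀ n : ℕ, ∀ s ∈ (St : Subgroup Gt),
        c ^ n * s * (c ^ n)⁻¹ ∈ (St : Subgroup Gt) := by
      intro n
      induction n with
      | zero => intro s hs; simpa using hs
      | succ n ih =>
        intro s hs
        have h3 : c ^ (n + 1) * s * (c ^ (n + 1))⁻¹ = c * (c ^ n * s * (c ^ n)⁻¹) * c⁻¹ := by
          rw [pow_succ']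
          group
        rw [h3]
        exact hconj _ (ih s hs)
    have h4 := hpow (p ^ m - 1) r hr
    rw [← hinv, inv_inv] at h4
    exact h4
  have hN : c ∈ Subgroup.normalizer ((St : Subgroup Gt) : Set Gt) := by
    rw [Subgroup.mem_normalizer_iff]
    intro r
    constructor
    · exact hconj r
    · intro h
      have h6 := hconj' _ h
      have h5 : c⁻¹ * (c * r * c⁻¹) * c = r := by group
      rwa [h5] at h6
  have hP : IsPGroup p (Subgroup.zpowers c) := by
    obtain ⟨m, hm⟩ := hc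
    rintro ⟨y, hy⟩
    obtain ⟨k, rfl⟩ := Subgroup.mem_zpowers_iff.mp hy
    refine ⟨m, Subtype.ext ?_⟩
    show (c ^ k) ^ (p ^ m) = 1
    rw [← zpow_natCast, ← zpow_mul, mul_comm, zpow_mul, zpow_natCast, hm, one_zpow]
  have h6 := hP.inf_normalizer_sylow St
  have h7 : c ∈ Subgroup.zpowers c ⊓ Subgroup.normalizer (St : Set Gt) :=
    ⟨Subgroup.mem_zpowers c, hN⟩
  rw [h6] at h7
  exact h7.2

end QINTERFACE

end Cfsg.Agent.S5320P
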