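import Mathlib
import Cfsg.Agent.Helper25.PSLFusionA
import Cfsg.Agent.Helper25.PSLFusionB
import Cfsg.Agent.Helper25.FusionIso4

set_option autoImplicit false
set_option linter.unusedSectionVars false
set_option linter.unusedVariables false

/-! # S5320 piece QINTERFACE: the simplicity criterion for the `p`-fusion system of `Gt ⧸ Z`,
`Z` a central `p`-subgroup, with all hypotheses stated inside `Gt`, for EVERY Sylow `p`-subgroup of
the quotient. -/

namespace Cfsg.Agent.S5320P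

open Cfsg Cfsg.Agent.Helper25

namespace QINTERFACE

variable {Gt : Type*} [Group Gt]

theorem mk_mem_map_iff (Z : Subgroup Gt) [Z.Normal] (H : Subgroup Gt) (hZH : Z ≤ H) (y : Gt) :
    (QuotientGroup.mk' Z y) ∈ H.map (QuotientGroup.mk' Z) ↔ y ∈ H := by
  constructor
  · rintro ⟨s, hs, hsy⟩
    have h1 : s⁻¹ * y ∈ Z := by
      have := (QuotientGroup.eq (s := Z) (a := s) (b := y)).mp hsy
      exact this
    have h2 : y = s * (s⁻¹ * y) := by group
    rw [h2]
    exact H.mul_mem hs (hZH h1)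
  · intro hy
    exact ⟨y, hy, rfl⟩

theorem isPElt_of_mk (p : ℕ) (Z : Subgroup Gt) [Z.Normal] (hZp : IsPGroup p Z) (c : Gt) (m : ℕ)
    (hc : (QuotientGroup.mk' Z c) ^ (p ^ m) = 1) : ∃ m' : ℕ, c ^ (p ^ m') = 1 := by
  have h1 : c ^ (p ^ m) ∈ Z := by
    rw [← map_pow] at hc
    exact (QuotientGroup.eq_one_iff _).mp hc
  obtain ⟨k, hk⟩ := hZp ⟨c ^ (p ^ m), h1⟩
  have hk' : (c ^ (p ^ m)) ^ (p ^ k) = 1 := congrArg Subtype.val hk
  refine ⟨m + k, ?_⟩
  rw [pow_add, pow_mul]
  exact hk'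

end QINTERFACE

open QINTERFACE in
theorem QINTERFACE.isSimple {Gt : Type*} [Group Gt] [Finite Gt] (p : ℕ) [Fact p.Prime]
    (Z : Subgroup Gt) [Z.Normal] (hZc : Z ≤ Subgroup.center Gt) (hZp : IsPGroup p Z)
    (St : Sylow p Gt) (h1 : (St : Subgroup Gt) ≠ Z)
    (ha : ∀ Tt : Subgroup Gt, Z ≤ Tt → Tt ≤ St →
      (∀ t ∈ Tt, ∀ g : Gt, g * t * g⁻¹ ∈ (St : Subgroup Gt) → g * t * g⁻¹ ∈ Tt) →
      Tt = Z ∨ Tt = St)
    (hb : ∀ g ∈ Subgroup.normalizer ((St : Subgroup Gt) : Set Gt),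
      g ∈ Subgroup.closure {x : Gt | x ∈ Subgroup.normalizer ((St : Subgroup Gt) : Set Gt) ∧
        ∃ Rt : Subgroup Gt, Z ≤ Rt ∧ Rt ≤ St ∧
          (∀ c : Gt, (∃ m : ℕ, c ^ (p ^ m) = 1) → (∀ r ∈ Rt, c * r * c⁻¹ * r⁻¹ ∈ Z) → c ∈ Rt) ∧
          x ∈ Subgroup.closure {h : Gt | h ∈ Subgroup.normalizer (Rt : Set Gt) ∧
            ∃ k : ℕ, orderOf h = p ^ k}})
    (S : Sylow p (Gt ⧸ Z)) :
    (Cfsg.groupFusionSystem (S : Subgroup (Gt ⧸ Z))).IsSimple p := by
  classical
  have hπs : Function.Surjective (QuotientGroup.mk' Z) := QuotientGroup.mk'_surjective Z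
  have hZS : Z ≤ (St : Subgroup Gt) := hZp.le_sylow_of_normal St
  -- the image Sylow subgroup
  set S₀ : Sylow p (Gt ⧸ Z) := St.mapSurjective hπs with hS₀def
  have hS₀ : (S₀ : Subgroup (Gt ⧸ Z)) = (St : Subgroup Gt).map (QuotientGroup.mk' Z) :=
    Sylow.coe_mapSurjective hπs St
  have hmem : ∀ y : Gt, (QuotientGroup.mk' Z y) ∈ (S₀ : Subgroup (Gt ⧸ Z)) ↔
      y ∈ (St : Subgroup Gt) := by
    intro y
    rw [hS₀]
    exact mk_mem_map_iff Z _ hZS y
  have hnorm : ∀ x : Gt, (QuotientGroup.mk' Z x) ∈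
      Subgroup.normalizer ((S₀ : Subgroup (Gt ⧸ Z)) : Set (Gt ⧸ Z)) ↔
      x ∈ Subgroup.normalizer ((St : Subgroup Gt) : Set Gt) := by
    intro x
    rw [Subgroup.mem_normalizer_iff, Subgroup.mem_normalizer_iff]
    constructor
    · intro h y
      have h2 := h (QuotientGroup.mk' Z y)
      rw [hmem] at h2
      rw [h2, ← hmem]
      simp only [map_mul, map_inv]
    · intro h ybar
      obtain ⟨y, rfl⟩ := hπs ybar
      rw [hmem, h y, ← hmem]
      simp only [map_mul, map_inv]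
  have hsimple₀ : (Cfsg.groupFusionSystem (S₀ : Subgroup (Gt ⧸ Z))).IsSimple p := by
    apply groupFusionSystem_isSimple_of_centric_gen p S₀
    · -- S₀ ≠ ⊥
      intro hbot
      apply h1
      apply le_antisymm _ hZS
      intro s hs
      have h2 : (QuotientGroup.mk' Z s) ∈ (S₀ : Subgroup (Gt ⧸ Z)) := (hmem s).mpr hs
      rw [hbot, Subgroup.mem_bot] at h2
      exact (QuotientGroup.eq_one_iff _).mp h2
    · -- strongly closed subgroups
      intro T hTS hT
      have hZT : Z ≤ T.comap (QuotientGroup.mk' Z) := by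
        intro z hz
        rw [Subgroup.mem_comap]
        have : (QuotientGroup.mk' Z z) = 1 := (QuotientGroup.eq_one_iff _).mpr hz
        rw [this]
        exact T.one_mem
      have hTtS : T.comap (QuotientGroup.mk' Z) ≤ (St : Subgroup Gt) := by
        intro t ht
        exact (hmem t).mp (hTS ht)
      have hcl : ∀ t ∈ T.comap (QuotientGroup.mk' Z), ∀ g : Gt,
          g * t * g⁻¹ ∈ (St : Subgroup Gt) → g * t * g⁻¹ ∈ T.comap (QuotientGroup.mk' Z) := by
        intro t ht g hg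
        rw [Subgroup.mem_comap]
        have h2 := hT (QuotientGroup.mk' Z t) ht (QuotientGroup.mk' Z g)
          (by
            have := (hmem (g * t * g⁻¹)).mpr hg
            simpa only [map_mul, map_inv] using this)
        simpa only [map_mul, map_inv] using h2
      have hTeq : T = (T.comap (QuotientGroup.mk' Z)).map (QuotientGroup.mk' Z) :=
        (Subgroup.map_comap_eq_self_of_surjective hπs T).symm
      rcases ha _ hZT hTtS hcl with h | h
      · left
        rw [hTeq, h, eq_bot_iff]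
        rintro x ⟨z, hz, rfl⟩
        rw [Subgroup.mem_bot]
        exact (QuotientGroup.eq_one_iff _).mpr hz
      · right
        rw [hTeq, h, hS₀]
    · -- the normaliser condition
      intro gbar hgbar
      obtain ⟨g, rfl⟩ := hπs gbar
      have hg : g ∈ Subgroup.normalizer ((St : Subgroup Gt) : Set Gt) := (hnorm g).mp hgbar
      have h2 := hb g hg
      have h3 : (QuotientGroup.mk' Z g) ∈ (Subgroup.closure {x : Gt |
          x ∈ Subgroup.normalizer ((St : Subgroup Gt) : Set Gt) ∧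
          ∃ Rt : Subgroup Gt, Z ≤ Rt ∧ Rt ≤ St ∧
          (∀ c : Gt, (∃ m : ℕ, c ^ (p ^ m) = 1) → (∀ r ∈ Rt, c * r * c⁻¹ * r⁻¹ ∈ Z) → c ∈ Rt) ∧
          x ∈ Subgroup.closure {h : Gt | h ∈ Subgroup.normalizer (Rt : Set Gt) ∧
            ∃ k : ℕ, orderOf h = p ^ k}}).map (QuotientGroup.mk' Z) := ⟨g, h2, rfl⟩
      rw [MonoidHom.map_closure] at h3
      refine Subgroup.closure_mono ?_ h3
      rintro xbar ⟨x, ⟨hxN, Rt, hZR, hRS, hcen, hxR⟩, rfl⟩
      refine ⟨(hnorm x).mpr hxN, Rt.map (QuotientGroup.mk' Z), ?_, ?_⟩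
      · -- centric
        apply isCentric_of_pElements p S₀.isPGroup'
        · rw [hS₀]
          exact Subgroup.map_mono hRS
        · intro ybar hy hpow
          obtain ⟨c, rfl⟩ := hπs ybar
          obtain ⟨m, hm⟩ := hpow
          have hc1 := isPElt_of_mk p Z hZp c m hm
          have hc2 : ∀ r ∈ Rt, c * r * c⁻¹ * r⁻¹ ∈ Z := by
            intro r hr
            have h5 := Subgroup.mem_centralizer_iff.mp hy (QuotientGroup.mk' Z r) ⟨r, hr, rfl⟩
            apply (QuotientGroup.eq_one_iff _).mp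
            have h6 : ((c * r * c⁻¹ * r⁻¹ : Gt) : Gt ⧸ Z) =
                (QuotientGroup.mk' Z c) * (QuotientGroup.mk' Z r) * (QuotientGroup.mk' Z c)⁻¹ *
                  (QuotientGroup.mk' Z r)⁻¹ := by
              simp only [QuotientGroup.mk'_apply, QuotientGroup.mk_mul, QuotientGroup.mk_inv]
            rw [h6, ← h5]
            group
          exact ⟨c, hcen c hc1 hc2, rfl⟩
      · -- generation by p-elements of the normaliser
        have h4 : (QuotientGroup.mk' Z x) ∈ (Subgroup.closure {h : Gt |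
            h ∈ Subgroup.normalizer (Rt : Set Gt) ∧ ∃ k : ℕ, orderOf h = p ^ k}).map
            (QuotientGroup.mk' Z) := ⟨x, hxR, rfl⟩
        rw [MonoidHom.map_closure] at h4
        refine Subgroup.closure_mono ?_ h4
        rintro hbar ⟨h, ⟨hhN, k, hk⟩, rfl⟩
        refine ⟨?_, ?_⟩
        · exact Subgroup.le_normalizer_map (QuotientGroup.mk' Z) ⟨h, hhN, rfl⟩
        · have hdvd : orderOf (QuotientGroup.mk' Z h) ∣ p ^ k := by
            rw [← hk]
            exact orderOf_map_dvd _ h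
          obtain ⟨j, -, hj⟩ := (Nat.dvd_prime_pow (Fact.out : p.Prime)).mp hdvd
          exact ⟨j, hj⟩
  -- transport to an arbitrary Sylow subgroup
  obtain ⟨g, hg⟩ := MulAction.exists_smul_eq (Gt ⧸ Z) S₀ S
  have hS : (S : Subgroup (Gt ⧸ Z)) = cj (S₀ : Subgroup _) g := by
    rw [← hg]
    rfl
  rw [hS]
  exact iso_isSimple p S₀.isPGroup' (groupFusion_conj_isFactorSystem (S₀ : Subgroup _) g) hsimple₀

end Cfsg.Agent.S5320P
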