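import Mathlib
import Cfsg.Agent.Helper14.S5559Defs
import Cfsg.Agent.Helper25.S5559INV3
import Cfsg.Agent.Helper25.S5559F1
import Cfsg.Agent.S0444

set_option autoImplicit false

/-! S5559 piece CORE2: the `S₃` case. -/

namespace Cfsg.Agent.S5559P

/-- Members of `D` square to one. -/
theorem CORE2.aux_sq {G : Type*} [Group G] {W : Type*} [CommGroup W] (C : Ctx G W) (d : G)
    (hd : d ∈ C.D) : d * d = 1 := by
  obtain ⟨q, -, rfl⟩ := (C.hD d).mp hd
  calc q * C.t * q⁻¹ * (q * C.t * q⁻¹) = q * (C.t * C.t) * q⁻¹ := by group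
    _ = 1 := by rw [C.ht2]; group

theorem CORE2.aux_t_mem {G : Type*} [Group G] {W : Type*} [CommGroup W] (C : Ctx G W) :
    C.t ∈ C.D := (C.hD C.t).mpr ⟨1, C.Q.one_mem, by simp⟩

theorem CORE2.aux_t_ne {G : Type*} [Group G] {W : Type*} [CommGroup W] (C : Ctx G W) :
    C.t ≠ 1 := fun h => C.htQ (h ▸ C.Q.one_mem)

/-- `D` is a set of 3-transpositions in the sense of the Prelude. -/
theorem CORE2.aux_tts {G : Type*} [Group G] {W : Type*} [CommGroup W] (C : Ctx G W) :
    Cfsg.IsThreeTranspositionSet C.D := by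
  refine ⟨fun d hd => ?_, fun d hd e he => Or.inr (C.hprod3 d hd e he)⟩
  have hsq := CORE2.aux_sq C d hd
  have hne : d ≠ 1 := by
    obtain ⟨q, -, rfl⟩ := (C.hD d).mp hd
    intro h
    apply CORE2.aux_t_ne C
    have : C.t = q⁻¹ * (q * C.t * q⁻¹) * q := by group
    rw [this, h]; group
  exact orderOf_eq_prime (p := 2) (by rw [pow_two]; exact hsq) hne

/-! ## CORE2 (M): the `S₃` case; uses F1 and S0444 -/
theorem CORE2 {G : Type*} [Group G] [Finite G] {W : Type*} [CommGroup W] [Finite W]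
    (C : Ctx G W) (g : G) (hg : g ∈ C.Q) (hgz : ∀ q ∈ C.Q, g * q = q * g)
    (hgt : C.t * g * C.t ≠ g) : Nonempty (G ≃* Equiv.Perm (Fin 3)) := by
  have : C.Q.Normal := C.hQn
  have htinv : C.t⁻¹ = C.t := inv_eq_of_mul_eq_one_right C.ht2
  -- `t g t ∈ Q` and is central in `Q`
  have htg : C.t * g * C.t ∈ C.Q := by
    have := C.hQn.conj_mem g hg C.t
    rwa [htinv] at this
  have htgz : ∀ q ∈ C.Q, (C.t * g * C.t) * q = q * (C.t * g * C.t) := by
    intro q hq
    have hq' : C.t * q * C.t ∈ C.Q := by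
      have := C.hQn.conj_mem q hq C.t
      rwa [htinv] at this
    have h := hgz _ hq'
    calc C.t * g * C.t * q = C.t * (g * (C.t * q * C.t)) * C.t := by
          rw [show C.t * (g * (C.t * q * C.t)) * C.t = C.t * g * C.t * q * (C.t * C.t) by group,
            C.ht2, mul_one]
      _ = C.t * ((C.t * q * C.t) * g) * C.t := by rw [h]
      _ = (C.t * C.t) * q * (C.t * g * C.t) := by group
      _ = q * (C.t * g * C.t) := by rw [C.ht2, one_mul]
  -- z
  set z : G := g⁻¹ * (C.t * g * C.t) with hz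
  have hzQ : z ∈ C.Q := C.Q.mul_mem (C.Q.inv_mem hg) htg
  have hz1 : z ≠ 1 := by
    intro h
    apply hgt
    have : C.t * g * C.t = g * z := by rw [hz]; group
    rw [this, h, mul_one]
  have hzz : ∀ q ∈ C.Q, z * q = q * z := by
    intro q hq
    have h1 : g⁻¹ * q = q * g⁻¹ := by
      have := hgz q hq
      calc g⁻¹ * q = g⁻¹ * (q * g) * g⁻¹ := by group
        _ = g⁻¹ * (g * q) * g⁻¹ := by rw [this]
        _ = q * g⁻¹ := by group
    calc z * q = g⁻¹ * ((C.t * g * C.t) * q) := by rw [hz]; group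
      _ = g⁻¹ * (q * (C.t * g * C.t)) := by rw [htgz q hq]
      _ = (g⁻¹ * q) * (C.t * g * C.t) := by group
      _ = (q * g⁻¹) * (C.t * g * C.t) := by rw [h1]
      _ = q * z := by rw [hz]; group
  have hzt : C.t * z * C.t = z⁻¹ := by
    rw [hz]
    calc C.t * (g⁻¹ * (C.t * g * C.t)) * C.t = C.t * g⁻¹ * C.t * g * (C.t * C.t) := by group
      _ = C.t * g⁻¹ * C.t * g := by rw [C.ht2, mul_one]
      _ = (g⁻¹ * (C.t * g * C.t))⁻¹ := by
        simp only [mul_inv_rev, htinv, inv_inv]; group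
  have hz3 : z ^ 3 = 1 := INV3 C z hzQ hzt
  have htD := CORE2.aux_t_mem C
  -- every member of `D` lies in `⟨z, t⟩`
  have hDle : ∀ b ∈ C.D, b ∈ Subgroup.closure ({C.t, z * C.t * z⁻¹} : Set G) := by
    -- first `z` and `t` are in the closure
    have htcl : C.t ∈ Subgroup.closure ({C.t, z * C.t * z⁻¹} : Set G) :=
      Subgroup.subset_closure (by simp)
    have hzcl : z ∈ Subgroup.closure ({C.t, z * C.t * z⁻¹} : Set G) := by
      have h1 : z * C.t * z⁻¹ ∈ Subgroup.closure ({C.t, z * C.t * z⁻¹} : Set G) :=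
        Subgroup.subset_closure (by simp)
      have h2 : z * C.t * z⁻¹ * C.t = z ^ 2 := by
        have : C.t * z⁻¹ * C.t = z := by
          have h := congrArg (fun x => x⁻¹) hzt
          simp only [mul_inv_rev, htinv, inv_inv] at h
          rw [mul_assoc]; exact h
        rw [pow_two]
        calc z * C.t * z⁻¹ * C.t = z * (C.t * z⁻¹ * C.t) := by group
          _ = z * z := by rw [this]
      have h3 : z ^ 2 ∈ Subgroup.closure ({C.t, z * C.t * z⁻¹} : Set G) := by
        rw [← h2]; exact Subgroup.mul_mem _ h1 htcl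
      have h4 : z = (z ^ 2) ^ 2 := by
        rw [← pow_mul, show 2 * 2 = 3 + 1 from rfl, pow_succ, hz3, one_mul]
      have h5 := Subgroup.pow_mem _ h3 2
      rwa [← h4] at h5
    intro b hb
    have hbt : b * C.t ∈ C.Q := C.hprodQ b hb C.t htD
    have hbb := CORE2.aux_sq C b hb
    have hbinv : b⁻¹ = b := inv_eq_of_mul_eq_one_right hbb
    have hinv : C.t * (b * C.t) * C.t = (b * C.t)⁻¹ := by
      rw [mul_inv_rev, htinv, hbinv]
      calc C.t * (b * C.t) * C.t = C.t * b * (C.t * C.t) := by group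
        _ = C.t * b := by rw [C.ht2, mul_one]
    have hmem := F1 C z (b * C.t) hzQ hbt hzt hinv (hzz _ hbt) hz1
    have hbcl : b * C.t ∈ Subgroup.closure ({C.t, z * C.t * z⁻¹} : Set G) :=
      (Subgroup.zpowers_le.mpr hzcl) hmem
    have : b = (b * C.t) * C.t := by rw [mul_assoc, C.ht2, mul_one]
    rw [this]; exact Subgroup.mul_mem _ hbcl htcl
  have htop : Subgroup.closure ({C.t, z * C.t * z⁻¹} : Set G) = ⊤ := by
    rw [eq_top_iff, ← C.hgen, Subgroup.closure_le]
    exact fun b hb => hDle b hb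
  -- S0444
  have heD : z * C.t * z⁻¹ ∈ C.D := (C.hD _).mpr ⟨z, hzQ, rfl⟩
  have hnc : ¬ Commute C.t (z * C.t * z⁻¹) := by
    intro hc
    have hc' : C.t * (z * C.t * z⁻¹) = z * C.t * z⁻¹ * C.t := hc
    have htz : C.t * z⁻¹ * C.t = z := by
      have h := congrArg (fun x => x⁻¹) hzt
      simp only [mul_inv_rev, htinv, inv_inv] at h
      rw [mul_assoc]; exact h
    have hL : C.t * (z * C.t * z⁻¹) = z⁻¹ * z⁻¹ := by
      calc C.t * (z * C.t * z⁻¹) = (C.t * z * C.t) * z⁻¹ := by group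
        _ = z⁻¹ * z⁻¹ := by rw [hzt]
    have hR : z * C.t * z⁻¹ * C.t = z * z := by
      calc z * C.t * z⁻¹ * C.t = z * (C.t * z⁻¹ * C.t) := by group
        _ = z * z := by rw [htz]
    rw [hL, hR] at hc'
    -- z⁻² = z² and z³ = 1 give z = 1
    apply hz1
    have h4 : z ^ 4 = 1 := by
      have e : z ^ 4 = (z * z) * (z * z) := by
        rw [show 4 = 2 + 2 from rfl, pow_add, pow_two]
      rw [e]
      calc (z * z) * (z * z) = (z⁻¹ * z⁻¹) * (z * z) := by rw [hc']
        _ = 1 := by group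
    calc z = z ^ 4 * (z ^ 3)⁻¹ := by group
      _ = 1 := by rw [h4, hz3]; simp
  obtain ⟨e⟩ := Cfsg.Agent.S0444.result (CORE2.aux_tts C) htD heD hnc
  exact ⟨(Subgroup.topEquiv.symm.trans (MulEquiv.subgroupCongr htop.symm)).trans e⟩

end Cfsg.Agent.S5559P
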