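import Mathlib
import Cfsg.Prelude.Def_GeometricClasses
import Cfsg.Agent.Helper7.S5655.Defs
import Cfsg.Agent.Helper28.S5655GDefs

/-! S5655 (k = 1), piece LAM: an element of `F_q` other than `0, 1`. -/

set_option autoImplicit false

namespace Cfsg.Agent.S5655K1

open Matrix
open Cfsg.Agent.S2644 Cfsg.Agent.Helper2.SUGen Cfsg.Agent.Helper28.SimMax Cfsg.Agent.MonoP

variable {K : Type*} [Field K] {q n : ℕ}

local notation "h" => Cfsg.hermForm n K q
local notation "T" => Cfsg.unitaryTransvection n q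

/-- LAM (S): an element of `F_q` other than `0, 1` (`q ≥ 3`).  `g` a generator of `Kˣ` (`IsCyclic`), of order `q² - 1`;
`lam := g * σ g = g ^ (q + 1)` is fixed (`D.invol`), `≠ 0`, and `≠ 1` since `q + 1 < q² - 1`. -/
theorem LAM.exists [Fintype K] (hK : Fintype.card K = q ^ 2) (hq : 3 ≤ q) (D : Frob K q) :
    ∃ lam : K, D.σ lam = lam ∧ lam ≠ 0 ∧ lam ≠ 1 := by
  classical
  obtain ⟨g, hg⟩ := IsCyclic.exists_generator (α := Kˣ)
  have hord : orderOf g = Fintype.card Kˣ := by
    rw [← Nat.card_eq_fintype_card]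
    exact orderOf_eq_card_of_forall_mem_zpowers hg
  have hcard : Fintype.card Kˣ = q ^ 2 - 1 := by rw [Fintype.card_units, hK]
  refine ⟨(g : K) * D.σ (g : K), ?_, ?_, ?_⟩
  · rw [map_mul, D.invol, mul_comm]
  · exact mul_ne_zero g.ne_zero ((map_ne_zero D.σ).2 g.ne_zero)
  · intro h1
    rw [D.pow, ← pow_succ'] at h1
    have h2 : g ^ (q + 1) = 1 := by
      apply Units.ext
      rw [Units.val_pow_eq_pow_val, h1, Units.val_one]
    have h3 := orderOf_dvd_of_pow_eq_one h2
    rw [hord, hcard] at h3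
    have h4 := Nat.le_of_dvd (Nat.succ_pos q) h3
    have h5 : q * 3 ≤ q * q := Nat.mul_le_mul_left q hq
    have h6 : q ^ 2 = q * q := sq q
    omega

end Cfsg.Agent.S5655K1
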