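import Mathlib
import Cfsg.Prelude.Def_GeometricClasses
import Cfsg.Agent.Helper7.S5655.Defs
import Cfsg.Agent.Helper28.S5655GDefs
import Cfsg.Agent.Helper28.S5655QR

/-! S5655 (k = 1), piece RED2: scaling an isotropic pair of coordinates by `lam ∈ F_q^*` with an element of
`SU(W_ab)`. -/

set_option autoImplicit false

namespace Cfsg.Agent.S5655K1

open Matrix
open Cfsg.Agent.S2644 Cfsg.Agent.Helper2.SUGen Cfsg.Agent.Helper28.SimMax Cfsg.Agent.MonoP

variable {K : Type*} [Field K] {q n : ℕ}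

local notation "h" => Cfsg.hermForm n K q
local notation "T" => Cfsg.unitaryTransvection n q

/-- the vector `x • e_a + y • e_b` -/
def RED2.tw (a b : Fin n) (x y : K) : Fin n → K :=
  x • (Pi.single a (1 : K) : Fin n → K) + y • (Pi.single b (1 : K) : Fin n → K)

theorem RED2.tw_a {a b : Fin n} (hab : a ≠ b) (x y : K) : RED2.tw a b x y a = x := by
  unfold RED2.tw
  simp [hab]

theorem RED2.tw_b {a b : Fin n} (hab : a ≠ b) (x y : K) : RED2.tw a b x y b = y := by
  unfold RED2.tw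
  simp [hab.symm]

theorem RED2.tw_other {a b : Fin n} (x y : K) {i : Fin n} (hia : i ≠ a) (hib : i ≠ b) :
    RED2.tw a b x y i = 0 := by
  unfold RED2.tw
  simp [hia, hib]

theorem RED2.h_tw_right (D : Frob K q) (a b : Fin n) (z : Fin n → K) (x y : K) :
    h z (RED2.tw a b x y) = D.σ x * z a + D.σ y * z b := by
  unfold RED2.tw
  rw [h_add_right D, h_smul_right D, h_smul_right D, Cfsg.Agent.S5658P.h_single_right D,
    Cfsg.Agent.S5658P.h_single_right D]

theorem RED2.smul_tw (a b : Fin n) (c x y : K) :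
    c • RED2.tw a b x y = RED2.tw a b (c * x) (c * y) := by
  unfold RED2.tw
  rw [smul_add, smul_smul, smul_smul]

theorem RED2.tw_sub (a b : Fin n) (x y x' y' : K) :
    RED2.tw a b x y - RED2.tw a b x' y' = RED2.tw a b (x - x') (y - y') := by
  unfold RED2.tw
  rw [sub_smul, sub_smul]
  abel

theorem RED2.tw_supp (a b : Fin n) (x y : K) :
    ∀ i, i ∉ ({a, b} : Finset (Fin n)) → RED2.tw a b x y i = 0 := by
  intro i hi
  rw [Finset.mem_insert, Finset.mem_singleton, not_or] at hi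
  exact RED2.tw_other x y hi.1 hi.2

/-- a matrix which is the identity outside the `S × S` block fixes the vectors vanishing on `S` -/
theorem RED2.mulVec_of_suppOn {S : Finset (Fin n)} {A : Matrix (Fin n) (Fin n) K} (hA : SuppOn S A)
    {x : Fin n → K} (hx : ∀ j ∈ S, x j = 0) : A *ᵥ x = x := by
  funext i
  have h1 : ∀ j, A i j * x j = (1 : Matrix (Fin n) (Fin n) K) i j * x j := by
    intro j
    by_cases hj : j ∈ S
    · rw [hx j hj, mul_zero, mul_zero]
    · rw [hA i j (Or.inr hj)]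
  have h2 : (A *ᵥ x) i = ((1 : Matrix (Fin n) (Fin n) K) *ᵥ x) i := by
    show ∑ j, A i j * x j = ∑ j, (1 : Matrix (Fin n) (Fin n) K) i j * x j
    exact Finset.sum_congr rfl (fun j _ => h1 j)
  rw [h2, Matrix.one_mulVec]

/-- RED2 (M; uses QR, SUPPT): scaling an isotropic pair of coordinates by `lam ∈ F_q^*` with an element of `SU(W_ab)`.
`w := v a • e_a + v b • e_b` (isotropic), `w₁ := v a • e_a + (μ * v b) • e_b` (`μ ≠ 1` of norm one),
`h w w₁ = N(v a) * (1 - σ μ) ≠ 0`; `r₁ := QR.move w w₁`, `r₂ := QR.move w₁ (lam • w)`, `A := r₂ * r₁`;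
`det r₁ * det r₂ = (h w₁ w / h w w₁) * (h w w₁ / h w₁ w) = 1`. -/
theorem RED2.exists (D : Frob K q) (hq : q ≠ 0) (a b : Fin n) (hab : a ≠ b) (v : Fin n → K)
    (hva : v a ≠ 0) (hs : v a * D.σ (v a) + v b * D.σ (v b) = 0) (lam : K) (hl : D.σ lam = lam)
    (hl0 : lam ≠ 0) :
    ∃ A : Matrix (Fin n) (Fin n) K, Pres (q := q) A ∧ A.det = 1 ∧ SuppOn {a, b} A ∧
      A *ᵥ v = Function.update (Function.update v a (lam * v a)) b (lam * v b) := by
  obtain ⟨μ, hμ1, hμn⟩ := exists_norm_one_ne D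
  have hσva : D.σ (v a) ≠ 0 := (map_ne_zero D.σ).2 hva
  have hσμ1 : D.σ μ ≠ 1 := by
    intro h1
    apply hμ1
    have := congrArg D.σ h1
    rwa [D.invol, map_one] at this
  set W := RED2.tw a b (v a) (v b) with hWdef
  set W₁ := RED2.tw a b (v a) (μ * v b) with hW₁def
  have hWa : W a = v a := RED2.tw_a hab _ _
  have hWb : W b = v b := RED2.tw_b hab _ _
  have hW₁a : W₁ a = v a := RED2.tw_a hab _ _
  have hW₁b : W₁ b = μ * v b := RED2.tw_b hab _ _
  have hb : v b * D.σ (v b) = -(v a * D.σ (v a)) := by linear_combination hs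
  -- the values of the form
  have hWW : h W W = 0 := by
    rw [hWdef, RED2.h_tw_right D, ← hWdef, hWa, hWb]
    linear_combination hs
  have hW₁W₁ : h W₁ W₁ = 0 := by
    rw [hW₁def, RED2.h_tw_right D, ← hW₁def, hW₁a, hW₁b, map_mul]
    linear_combination hs + (v b * D.σ (v b)) * hμn
  have hWW₁ : h W W₁ = v a * D.σ (v a) * (1 - D.σ μ) := by
    rw [hW₁def, RED2.h_tw_right D, hWa, hWb, map_mul]
    linear_combination (D.σ μ) * hb
  have hWW₁0 : h W W₁ ≠ 0 := by
    rw [hWW₁]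
    exact mul_ne_zero (mul_ne_zero hva hσva) (sub_ne_zero.mpr (Ne.symm hσμ1))
  set t₁ := h W W - h W W₁ with ht₁def
  have ht₁ : t₁ = -(h W W₁) := by rw [ht₁def, hWW, zero_sub]
  have ht₁0 : t₁ ≠ 0 := by rw [ht₁]; exact neg_ne_zero.mpr hWW₁0
  have hσt₁0 : D.σ t₁ ≠ 0 := (map_ne_zero D.σ).2 ht₁0
  have hlamW : h (lam • W) (lam • W) = 0 := by
    rw [h_smul_left, h_smul_right D, hWW, mul_zero, mul_zero]
  have hW₁lW : h W₁ (lam • W) = lam * D.σ (h W W₁) := by
    rw [h_smul_right D, hl, h_conj D]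
  set t₂ := h W₁ W₁ - h W₁ (lam • W) with ht₂def
  have ht₂ : t₂ = lam * D.σ t₁ := by
    rw [ht₂def, hW₁W₁, hW₁lW, ht₁, map_neg]
    ring
  have ht₂0 : t₂ ≠ 0 := by rw [ht₂]; exact mul_ne_zero hl0 hσt₁0
  obtain ⟨hp1, hm1, hd1⟩ := QR.move D W W₁ (by rw [hWW, hW₁W₁]) ht₁0
  obtain ⟨hp2, hm2, hd2⟩ := QR.move D W₁ (lam • W) (by rw [hW₁W₁, hlamW]) ht₂0
  rw [← ht₁def] at hp1 hm1 hd1
  rw [← ht₂def] at hp2 hm2 hd2
  set r₁ := T (W - W₁) (-t₁⁻¹) with hr₁def
  set r₂ := T (W₁ - lam • W) (-t₂⁻¹) with hr₂def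
  have hsupp1 : SuppOn ({a, b} : Finset (Fin n)) r₁ := by
    apply SUPPT.suppOn_T hq
    rw [hWdef, hW₁def, RED2.tw_sub]
    exact RED2.tw_supp a b _ _
  have hsupp2 : SuppOn ({a, b} : Finset (Fin n)) r₂ := by
    apply SUPPT.suppOn_T hq
    rw [hWdef, hW₁def, RED2.smul_tw, RED2.tw_sub]
    exact RED2.tw_supp a b _ _
  have hsupp : SuppOn ({a, b} : Finset (Fin n)) (r₂ * r₁) := SUPPT.suppOn_mul _ hsupp2 hsupp1
  refine ⟨r₂ * r₁, hp2.mul hp1, ?_, hsupp, ?_⟩
  · rw [Matrix.det_mul, hd1, hd2, ht₂, map_mul, hl, D.invol]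
    field_simp
  · have hAW : (r₂ * r₁) *ᵥ W = lam • W := by
      rw [← Matrix.mulVec_mulVec, hm1, hm2]
    have hv' : ∀ j ∈ ({a, b} : Finset (Fin n)), (v - W) j = 0 := by
      intro j hj
      rw [Finset.mem_insert, Finset.mem_singleton] at hj
      rcases hj with rfl | rfl
      · rw [Pi.sub_apply, hWa, sub_self]
      · rw [Pi.sub_apply, hWb, sub_self]
    have hAv' : (r₂ * r₁) *ᵥ (v - W) = v - W := RED2.mulVec_of_suppOn hsupp hv'
    have hv : v = W + (v - W) := by abel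
    rw [hv, Matrix.mulVec_add, hAW, hAv', ← hv]
    funext i
    by_cases hib : i = b
    · subst hib
      rw [Function.update_self, Pi.add_apply, Pi.smul_apply, Pi.sub_apply, hWb, smul_eq_mul]
      ring
    · rw [Function.update_of_ne hib]
      by_cases hia : i = a
      · subst hia
        rw [Function.update_self, Pi.add_apply, Pi.smul_apply, Pi.sub_apply, hWa, smul_eq_mul]
        ring
      · have hWi : W i = 0 := RED2.tw_other _ _ hia hib
        rw [Function.update_of_ne hia, Pi.add_apply, Pi.smul_apply, Pi.sub_apply,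
          hWi, smul_zero, sub_zero, zero_add]

end Cfsg.Agent.S5655K1
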