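import Mathlib
import Cfsg.Agent.Helper7.S5655.Defs3
import Cfsg.Agent.Helper7.S5655.MonoLib
import Cfsg.Agent.Helper17.S5655CT

/-! # S5655 `k = 1`, chapter SEC, piece SECFULL: the section group contains the unitary monomial matrices
supported off `o`. -/

set_option autoImplicit false

namespace Cfsg.Agent.S5655K1

open Matrix
open Cfsg.Agent.S2644 Cfsg.Agent.Helper2.SUGen Cfsg.Agent.Helper28.SimMax Cfsg.Agent.MonoP

variable {K : Type*} [Field K] {q n : ℕ}

local notation "h" => Cfsg.hermForm n K q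
local notation "T" => Cfsg.unitaryTransvection n q

theorem SECFULL.det_ct (D : Frob K q) (B : Matrix (Fin n) (Fin n) K) : (ct D B).det = D.σ B.det := by
  unfold ct
  rw [Matrix.det_transpose, RingHom.map_det]
  rfl

/-- the determinant of an isometry has norm one -/
theorem SECFULL.isU_det (D : Frob K q) {B : Matrix (Fin n) (Fin n) K} (hP : Pres (q := q) B) :
    IsU D B.det := by
  have h1 := congrArg Matrix.det (CT.mul_self D hP).1
  rw [Matrix.det_mul, Matrix.det_one, SECFULL.det_ct] at h1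
  unfold IsU
  rw [mul_comm]
  exact h1

theorem SECFULL.det_d1m (o : Fin n) (ε : K) : (d1m o ε).det = ε := by
  unfold d1m
  rw [Matrix.det_diagonal, Finset.prod_update_of_mem (Finset.mem_univ o)]
  simp

theorem SECFULL.d1m_pres (D : Frob K q) (o : Fin n) {ε : K} (hε : IsU D ε) :
    Pres (q := q) (d1m o ε) := by
  unfold d1m
  apply diagonal_pres D
  intro j
  by_cases hj : j = o
  · rw [hj, Function.update_self]; exact hε
  · rw [Function.update_of_ne hj]; exact IsU.one D

theorem SECFULL.isMono_mul_d1m {B : Matrix (Fin n) (Fin n) K} (hB : IsMono B) (o : Fin n) (ε : K) :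
    IsMono (B * d1m o ε) := by
  obtain ⟨s, hs⟩ := hB
  refine ⟨s, fun i j hij => ?_⟩
  unfold d1m
  rw [Matrix.mul_diagonal, hs i j hij, zero_mul]

/-- SECFULL (M): the section group contains every unitary monomial matrix which is the identity outside
`(univ \ {o})²`. -/
theorem SECFULL.fullOn (D : Frob K q) (M : Subgroup (Matrix.GeneralLinearGroup (Fin n) K))
    (hN : HasN q M) (o : Fin n) (H : Subgroup (Matrix.GeneralLinearGroup (Fin n) K))
    (hH : ∀ g : Matrix.GeneralLinearGroup (Fin n) K, g ∈ H ↔ IsSec D M o (g : Matrix (Fin n) (Fin n) K)) :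
    FullOn q H (Finset.univ.erase o) := by
  intro B hmono hP hsupp
  obtain ⟨hB'B, hBB'⟩ := CT.mul_self D hP
  refine ⟨Cfsg.Agent.S5658P.toGL B (ct D B) hBB' hB'B, (hH _).2 ?_, rfl⟩
  rw [Cfsg.Agent.S5658P.toGL_val]
  have hdU : IsU D B.det := SECFULL.isU_det D hP
  have hd0 : B.det ≠ 0 := IsU.ne_zero D hdU
  refine ⟨hP, ?_, (B.det)⁻¹, IsU.inv D hdU, ?_⟩
  · intro i hi
    rw [hsupp i o (Or.inr (Finset.notMem_erase o Finset.univ)), Matrix.one_apply_ne hi]
  · apply hN _ (SECFULL.isMono_mul_d1m hmono o _) (hP.mul (SECFULL.d1m_pres D o (IsU.inv D hdU)))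
    rw [Matrix.det_mul, SECFULL.det_d1m, mul_inv_cancel₀ hd0]

end Cfsg.Agent.S5655K1
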