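import Mathlib
import Cfsg.Agent.Helper7.S5655.Defs3
import Cfsg.Agent.Helper7.S5655.MonoLib
import Cfsg.Agent.Helper9.S5655SECBLOCK

/-! # S5655 `k = 1`, chapter SEC, piece SECGRP: the section group is a subgroup. -/

set_option autoImplicit false

namespace Cfsg.Agent.S5655K1

open Matrix
open Cfsg.Agent.S2644 Cfsg.Agent.Helper2.SUGen Cfsg.Agent.Helper28.SimMax Cfsg.Agent.MonoP

variable {K : Type*} [Field K] {q n : ℕ}

local notation "h" => Cfsg.hermForm n K q
local notation "T" => Cfsg.unitaryTransvection n q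

theorem SECGRP.d1m_one (o : Fin n) : d1m o (1 : K) = 1 := by
  unfold d1m
  rw [Function.update_eq_self o (fun _ => (1 : K))]
  exact Matrix.diagonal_one

theorem SECGRP.d1m_mul (o : Fin n) (ε ε' : K) : d1m o ε * d1m o ε' = d1m o (ε * ε') := by
  unfold d1m
  rw [Matrix.diagonal_mul_diagonal]
  congr 1
  funext i
  by_cases hi : i = o
  · subst hi
    simp
  · simp [Function.update_of_ne hi]

theorem SECGRP.one_mem (M : Subgroup (Matrix.GeneralLinearGroup (Fin n) K)) :
    (1 : Matrix (Fin n) (Fin n) K) ∈ MS M := ⟨1, M.one_mem, rfl⟩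

theorem SECGRP.isSec_one (D : Frob K q) (M : Subgroup (Matrix.GeneralLinearGroup (Fin n) K)) (o : Fin n) :
    IsSec D M o (1 : Matrix (Fin n) (Fin n) K) := by
  refine ⟨Pres_one, fun i hi => Matrix.one_apply_ne hi, 1, IsU.one D, ?_⟩
  rw [SECGRP.d1m_one, Matrix.one_mul]
  exact SECGRP.one_mem M

theorem SECGRP.isSec_mul (D : Frob K q) (M : Subgroup (Matrix.GeneralLinearGroup (Fin n) K)) (o : Fin n)
    {B₁ B₂ : Matrix (Fin n) (Fin n) K} (h1 : IsSec D M o B₁) (h2 : IsSec D M o B₂) :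
    IsSec D M o (B₁ * B₂) := by
  obtain ⟨hP1, hc1, ε₁, hU1, hM1⟩ := h1
  obtain ⟨hP2, hc2, ε₂, hU2, hM2⟩ := h2
  refine ⟨hP1.mul hP2, ?_, ε₁ * ε₂, IsU.mul D hU1 hU2, ?_⟩
  · intro i hi
    rw [Matrix.mul_apply]
    apply Finset.sum_eq_zero
    intro k _
    by_cases hk : k = o
    · rw [hk, hc1 i hi, zero_mul]
    · rw [hc2 k hk, mul_zero]
  · have hcomm := (SECBLOCK.comm D o B₂ hP2 hc2 ε₁).2
    have e1 : B₁ * B₂ * d1m o (ε₁ * ε₂) = (B₁ * d1m o ε₁) * (B₂ * d1m o ε₂) := by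
      rw [← SECGRP.d1m_mul, Matrix.mul_assoc B₁ (d1m o ε₁), ← Matrix.mul_assoc (d1m o ε₁) B₂, ← hcomm]
      simp only [Matrix.mul_assoc]
    rw [e1]
    exact MS_mul hM1 hM2

theorem SECGRP.isSec_inv (D : Frob K q) (M : Subgroup (Matrix.GeneralLinearGroup (Fin n) K)) (o : Fin n)
    {B B' : Matrix (Fin n) (Fin n) K} (hBB' : B * B' = 1) (hB'B : B' * B = 1) (h1 : IsSec D M o B) :
    IsSec D M o B' := by
  obtain ⟨hP, hc, ε, hU, hM1⟩ := h1
  have hP' : Pres (q := q) B' := by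
    intro x y
    have := hP (B' *ᵥ x) (B' *ᵥ y)
    rw [Matrix.mulVec_mulVec, Matrix.mulVec_mulVec, hBB', Matrix.one_mulVec, Matrix.one_mulVec] at this
    exact this.symm
  -- the column `o` of `B`
  have hBe : B *ᵥ (Pi.single o (1 : K) : Fin n → K) = B o o • (Pi.single o (1 : K) : Fin n → K) := by
    funext i
    rw [Matrix.mulVec_single_one, Pi.smul_apply, Pi.single_apply, smul_eq_mul]
    show B i o = _
    by_cases hi : i = o
    · rw [hi, if_pos rfl, mul_one]
    · rw [if_neg hi, mul_zero, hc i hi]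
  have hB'e : (Pi.single o (1 : K) : Fin n → K) = B o o • (B' *ᵥ (Pi.single o (1 : K) : Fin n → K)) := by
    have := congrArg (fun v => B' *ᵥ v) hBe
    simp only [Matrix.mulVec_mulVec, hB'B, Matrix.one_mulVec, Matrix.mulVec_smul] at this
    exact this
  have hcc : B o o ≠ 0 := by
    intro h0
    rw [h0, zero_smul] at hB'e
    have := congrFun hB'e o
    rw [Pi.single_eq_same, Pi.zero_apply] at this
    exact one_ne_zero this
  have hc' : ∀ i, i ≠ o → B' i o = 0 := by
    intro i hi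
    have := congrFun hB'e i
    rw [Pi.single_apply, if_neg hi, Pi.smul_apply, Matrix.mulVec_single_one, smul_eq_mul] at this
    have h2 : B o o * B' i o = 0 := this.symm
    rcases mul_eq_zero.mp h2 with h3 | h3
    · exact absurd h3 hcc
    · exact h3
  refine ⟨hP', hc', ε⁻¹, IsU.inv D hU, ?_⟩
  have hcomm := (SECBLOCK.comm D o B' hP' hc' ε).2
  have e1 : (B * d1m o ε) * (B' * d1m o ε⁻¹) = 1 := by
    rw [Matrix.mul_assoc B, ← Matrix.mul_assoc (d1m o ε) B', ← hcomm, Matrix.mul_assoc B',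
      SECGRP.d1m_mul, mul_inv_cancel₀ (IsU.ne_zero D hU), SECGRP.d1m_one, Matrix.mul_one, hBB']
  apply Cfsg.Agent.S5658P.MS_of_mul_left hM1
  rw [e1]
  exact SECGRP.one_mem M

/-- SECGRP (M): the section group exists. -/
theorem SECGRP.exists (D : Frob K q) (M : Subgroup (Matrix.GeneralLinearGroup (Fin n) K))
    (hM : M ≤ SUG n K q) (o : Fin n) :
    ∃ H : Subgroup (Matrix.GeneralLinearGroup (Fin n) K), ∀ g : Matrix.GeneralLinearGroup (Fin n) K,
      g ∈ H ↔ IsSec D M o (g : Matrix (Fin n) (Fin n) K) := by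
  refine ⟨{ carrier := {g | IsSec D M o (g : Matrix (Fin n) (Fin n) K)}
            mul_mem' := ?_
            one_mem' := ?_
            inv_mem' := ?_ }, fun g => Iff.rfl⟩
  · intro a b ha hb
    show IsSec D M o ((a * b : Matrix.GeneralLinearGroup (Fin n) K) : Matrix (Fin n) (Fin n) K)
    rw [Units.val_mul]
    exact SECGRP.isSec_mul D M o ha hb
  · show IsSec D M o ((1 : Matrix.GeneralLinearGroup (Fin n) K) : Matrix (Fin n) (Fin n) K)
    rw [Units.val_one]
    exact SECGRP.isSec_one D M o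
  · intro a ha
    show IsSec D M o ((a⁻¹ : Matrix.GeneralLinearGroup (Fin n) K) : Matrix (Fin n) (Fin n) K)
    exact SECGRP.isSec_inv D M o (Cfsg.Agent.S5658P.mul_inv_coe a) (Cfsg.Agent.S5658P.inv_mul_coe a) ha

end Cfsg.Agent.S5655K1
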