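import Mathlib
import Cfsg.Agent.Helper7.S5655.Defs4
import Cfsg.Agent.Helper7.S5655.MonoLib

/-! # S5655 `k = 1`, chapter P2, piece SQ: sums of two squares in the fixed field. -/

set_option autoImplicit false

namespace Cfsg.Agent.S5655K1

open Matrix
open Cfsg.Agent.S2644 Cfsg.Agent.Helper2.SUGen Cfsg.Agent.Helper28.SimMax Cfsg.Agent.MonoP

variable {K : Type*} [Field K] {q n : ℕ}

local notation "h" => Cfsg.hermForm n K q
local notation "T" => Cfsg.unitaryTransvection n q
local notation "h₂" => Cfsg.hermForm 2 K q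
local notation "T₂" => Cfsg.unitaryTransvection 2 q

open Polynomial in
/-- every element of a finite field is a sum of two squares -/
theorem SQ.finiteField (F : Type*) [Field F] [Fintype F] (x : F) : ∃ a b : F, a ^ 2 + b ^ 2 = x := by
  rcases Nat.even_or_odd (Fintype.card F) with hev | hodd
  · have h2 : ringChar F = 2 :=
      FiniteField.even_card_iff_char_two.mpr (Nat.even_iff.mp hev)
    obtain ⟨a, ha⟩ := FiniteField.isSquare_of_char_two h2 x
    exact ⟨a, 0, by rw [ha]; ring⟩
  · let f : F[X] := X ^ 2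
    let g : F[X] := X ^ 2 - C x
    obtain ⟨a, b, hab⟩ : ∃ a b, f.eval a + g.eval b = 0 :=
      FiniteField.exists_root_sum_quadratic (f := f) (g := g) (degree_X_pow 2)
        (degree_X_pow_sub_C (by decide) _) (Nat.odd_iff.mp hodd)
    refine ⟨a, b, ?_⟩
    rw [← sub_eq_zero]
    simpa only [f, g, eval_C, eval_X, eval_pow, eval_sub, ← add_sub_assoc] using hab

/-- SQ (M): every element of the fixed field is a sum of two squares of the fixed field. -/
theorem SQ.exists (D : Frob K q) [Fintype K] (hK : Fintype.card K = q ^ 2) (f : K) (hf : D.σ f = f) :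
    ∃ s₁ s₂ : K, D.σ s₁ = s₁ ∧ D.σ s₂ = s₂ ∧ s₁ ^ 2 + s₂ ^ 2 = f := by
  classical
  let F : Subfield K := RingHom.eqLocusField D.σ (RingHom.id K)
  have hmem : ∀ x : K, x ∈ F ↔ D.σ x = x := fun x => Iff.rfl
  have : Fintype ↥F := Fintype.ofFinite _
  obtain ⟨a, b, hab⟩ := SQ.finiteField ↥F ⟨f, (hmem f).2 hf⟩
  refine ⟨(a : K), (b : K), (hmem _).1 a.2, (hmem _).1 b.2, ?_⟩
  have := congrArg (Subtype.val) hab
  simpa using this

end Cfsg.Agent.S5655K1
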