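import Mathlib
import Cfsg.Agent.Helper7.S5655.Defs4
import Cfsg.Agent.Helper7.S5655.MonoLib

/-! # S5655 `k = 1`, chapter P2, piece U2TORUS: an isotropic eigenvector. -/

set_option autoImplicit false

namespace Cfsg.Agent.S5655K1

open Matrix
open Cfsg.Agent.S2644 Cfsg.Agent.Helper2.SUGen Cfsg.Agent.Helper28.SimMax Cfsg.Agent.MonoP

variable {K : Type*} [Field K] {q n : ℕ}

local notation "h" => Cfsg.hermForm n K q
local notation "T" => Cfsg.unitaryTransvection n q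
local notation "h₂" => Cfsg.hermForm 2 K q
local notation "T₂" => Cfsg.unitaryTransvection 2 q

/-- U2TORUS (M): an isometry `g` with `det g = x²`, `tr g = x (κ + κ⁻¹)`, `κ` in the fixed field, `κ² ≠ 1`, has an isotropic
eigenvector for the eigenvalue `x κ`. -/
theorem U2TORUS.exists (D : Frob K q) (g : Matrix (Fin 2) (Fin 2) K) (hg : Pres (q := q) g) (x κ : K)
    (hx : IsU D x) (hκ : D.σ κ = κ) (hκ0 : κ ≠ 0) (hκ1 : κ ^ 2 ≠ 1) (hdet : g.det = x ^ 2)
    (htr : g.trace = x * (κ + κ⁻¹)) :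
    ∃ p : Fin 2 → K, p ≠ 0 ∧ h₂ p p = 0 ∧ g *ᵥ p = (x * κ) • p := by
  have hdet0 : (g - (x * κ) • (1 : Matrix (Fin 2) (Fin 2) K)).det = 0 := by
    rw [Matrix.det_fin_two] at hdet ⊢
    rw [Matrix.trace_fin_two] at htr
    simp only [Matrix.sub_apply, Matrix.smul_apply, Matrix.one_apply_eq, Matrix.one_apply_ne,
      ne_eq, zero_ne_one, one_ne_zero, not_false_eq_true, smul_eq_mul, mul_one, mul_zero, sub_zero]
    have h1 : κ * κ⁻¹ = 1 := mul_inv_cancel₀ hκ0
    linear_combination hdet - (x * κ) * htr - x ^ 2 * h1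
  obtain ⟨p, hp0, hp⟩ := Matrix.exists_mulVec_eq_zero_iff.mpr hdet0
  have hgp : g *ᵥ p = (x * κ) • p := by
    rw [Matrix.sub_mulVec, Matrix.smul_mulVec, Matrix.one_mulVec] at hp
    exact sub_eq_zero.mp hp
  refine ⟨p, hp0, ?_, hgp⟩
  have h1 := hg p p
  rw [hgp, h_smul_left, h_smul_right D, map_mul, hκ] at h1
  unfold IsU at hx
  have h2 : (κ ^ 2 - 1) * h₂ p p = 0 := by
    linear_combination h1 - (κ ^ 2 * h₂ p p) * hx
  rcases mul_eq_zero.mp h2 with h3 | h3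
  · exact absurd (sub_eq_zero.mp h3) hκ1
  · exact h3

end Cfsg.Agent.S5655K1
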