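import Mathlib
import Cfsg.Agent.Helper7.S5655.Defs2
import Cfsg.Agent.Helper7.S5655.MonoLib
import Cfsg.Agent.Helper17.S5655CT
import Cfsg.Agent.Helper4.S5655MUGEN
import Cfsg.Agent.Helper21.S5655MONOFORM
import Cfsg.Agent.Helper9.S5655MONORANK
import Cfsg.Agent.Helper16.S5655SELECT

/-! # S5655 `k = 1`, piece ZEROA: no zero entry when `(q+1) ∤ n`. -/

set_option autoImplicit false

namespace Cfsg.Agent.S5655K1

open Matrix
open Cfsg.Agent.S2644 Cfsg.Agent.Helper2.SUGen Cfsg.Agent.Helper28.SimMax Cfsg.Agent.MonoP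

variable {K : Type*} [Field K] {q n : ℕ}

local notation "h" => Cfsg.hermForm n K q
local notation "T" => Cfsg.unitaryTransvection n q

theorem ZEROA.isU_pow (D : Frob K q) {c : K} (hc : IsU D c) (m : ℕ) : IsU D (c ^ m) := by
  unfold IsU at *
  rw [map_pow, ← mul_pow, hc, one_pow]

/-- the column `j` of `A` -/
theorem ZEROA.mulVec_single (A : Matrix (Fin n) (Fin n) K) (i j : Fin n) :
    (A *ᵥ (Pi.single j (1 : K) : Fin n → K)) i = A i j := by
  rw [Matrix.mulVec_single_one]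
  rfl

/-- the product of the entries of `diag(e at i₀, c elsewhere)` -/
theorem ZEROA.prod_dz (i₀ : Fin n) (e c : K) :
    ∏ j : Fin n, (if j = i₀ then e else c) = e * c ^ (n - 1) := by
  rw [← Finset.mul_prod_erase Finset.univ _ (Finset.mem_univ i₀), if_pos rfl]
  congr 1
  have h1 : ∀ j ∈ Finset.univ.erase i₀, (if j = i₀ then e else c) = c := by
    intro j hj
    rw [if_neg (Finset.ne_of_mem_erase hj)]
  rw [Finset.prod_congr rfl h1, Finset.prod_const, Finset.card_erase_of_mem (Finset.mem_univ i₀),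
    Finset.card_univ, Fintype.card_fin]

/-- ZEROA (L): no zero entry, case `(q+1) ∤ n`. -/
theorem ZEROA.ne_zero (D : Frob K q) [Fintype K] (hK : Fintype.card K = q ^ 2) (hq : 3 ≤ q) (hn : 13 ≤ n)
    (hdiv : ¬ (q + 1) ∣ n)
    (M : Subgroup (Matrix.GeneralLinearGroup (Fin n) K)) (hM : M ≤ SUG n K q) (hN : HasN q M) (hB : PropB M)
    (hcol : ∀ A ∈ MS M, ¬ IsMono A → ∀ k i₁ i₂ : Fin n, i₁ ≠ i₂ → A i₁ k = 0 → A i₂ k = 0 → False)
    (hrow : ∀ A ∈ MS M, ¬ IsMono A → ∀ k i₁ i₂ : Fin n, i₁ ≠ i₂ → A k i₁ = 0 → A k i₂ = 0 → False)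
    (A : Matrix (Fin n) (Fin n) K) (hA : A ∈ MS M) (hnm : ¬ IsMono A) : ∀ i j, A i j ≠ 0 := by
  classical
  intro i₀ j₀ h0
  obtain ⟨c, hcU, hcgen⟩ := MU.exists_gen D hK
  have hcn : c ^ n ≠ 1 := fun hc1 => hdiv (hcgen n hc1)
  have hc0 : c ≠ 0 := IsU.ne_zero D hcU
  have hcn0 : c ^ n ≠ 0 := pow_ne_zero n hc0
  obtain ⟨e, hedef⟩ : ∃ e : K, e = c * (c ^ n)⁻¹ := ⟨_, rfl⟩
  have hec : e ≠ c := by
    intro hec
    apply hcn
    have h1 : c * (c ^ n)⁻¹ * c ^ n = c * c ^ n := by rw [← hedef, hec]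
    rw [mul_assoc, inv_mul_cancel₀ hcn0, mul_one] at h1
    have h2 : c * 1 = c * c ^ n := by rw [mul_one]; exact h1
    exact (mul_left_cancel₀ hc0 h2).symm
  have heU : IsU D e := by rw [hedef]; exact IsU.mul D hcU (IsU.inv D (ZEROA.isU_pow D hcU n))
  obtain ⟨dz, hdz⟩ : ∃ dz : Fin n → K, dz = fun i => if i = i₀ then e else c := ⟨_, rfl⟩
  have hdz0 : dz i₀ = e := by rw [hdz]; exact if_pos rfl
  have hdzne : ∀ i, i ≠ i₀ → dz i = c := by
    intro i hi
    rw [hdz]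
    exact if_neg hi
  have hdzU : ∀ j, IsU D (dz j) := by
    intro j
    by_cases hj : j = i₀
    · rw [hj, hdz0]; exact heU
    · rw [hdzne j hj]; exact hcU
  have hdet : ∏ j, dz j = 1 := by
    rw [hdz, ZEROA.prod_dz, hedef]
    have h1 : c * c ^ (n - 1) = c ^ n := by
      rw [← pow_succ']
      congr 1
      omega
    rw [mul_assoc, mul_comm ((c ^ n)⁻¹), ← mul_assoc, h1, mul_inv_cancel₀ hcn0]
  obtain ⟨Z, hZdef⟩ : ∃ Z : Matrix (Fin n) (Fin n) K, Z = Matrix.diagonal dz := ⟨_, rfl⟩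
  have hZM : Z ∈ MS M := by rw [hZdef]; exact HasN.diagonal_mem D hN dz hdzU hdet
  have hAp : Pres (q := q) A := Cfsg.Agent.S5658P.pres_of_MS hM hA
  obtain ⟨hA'A, hAA'⟩ := CT.mul_self D hAp
  obtain ⟨A', hA'def⟩ : ∃ A' : Matrix (Fin n) (Fin n) K, A' = ct D A := ⟨_, rfl⟩
  rw [← hA'def] at hA'A hAA'
  obtain ⟨y, hydef⟩ : ∃ y : Matrix (Fin n) (Fin n) K, y = A' * Z * A := ⟨_, rfl⟩
  have hyM : y ∈ MS M := by rw [hydef, hA'def]; exact CT.conj_mem D hM hA hZM
  have hAy : A * y = Z * A := by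
    rw [hydef, ← Matrix.mul_assoc, ← Matrix.mul_assoc, hAA', Matrix.one_mul]
  -- the column `j₀` of `y`
  have hZu : Z *ᵥ (A *ᵥ (Pi.single j₀ (1 : K) : Fin n → K)) =
      c • (A *ᵥ (Pi.single j₀ (1 : K) : Fin n → K)) := by
    funext i
    rw [hZdef, Matrix.mulVec_diagonal, Pi.smul_apply, smul_eq_mul, ZEROA.mulVec_single]
    by_cases hi : i = i₀
    · rw [hi, h0, mul_zero, mul_zero]
    · rw [hdzne i hi]
  have hycol : y *ᵥ (Pi.single j₀ (1 : K) : Fin n → K) = c • (Pi.single j₀ (1 : K) : Fin n → K) := by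
    rw [hydef, ← Matrix.mulVec_mulVec, ← Matrix.mulVec_mulVec, hZu, Matrix.mulVec_smul,
      Matrix.mulVec_mulVec, hA'A, Matrix.one_mulVec]
  have hyCM : ColMono y := by
    refine ⟨j₀, j₀, fun i hi => ?_⟩
    rw [← ZEROA.mulVec_single y i j₀, hycol, Pi.smul_apply, Pi.single_apply, if_neg hi, smul_zero]
  have hymono : IsMono y := hB y hyM hyCM
  obtain ⟨g, hg, hgy⟩ := hyM
  have hyy : ((g⁻¹ : Matrix.GeneralLinearGroup (Fin n) K) : Matrix (Fin n) (Fin n) K) * y = 1 := by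
    rw [← hgy]
    exact Cfsg.Agent.S5658P.inv_mul_coe g
  obtain ⟨s, d, hysd, hd⟩ := MONOFORM.exists y _ hyy hymono
  -- fixed points of `s`
  have hfix : ∀ k, s k = k → k = j₀ := by
    intro k hk
    by_contra hkj
    have h1 : A *ᵥ (y *ᵥ (Pi.single k (1 : K) : Fin n → K)) =
        Z *ᵥ (A *ᵥ (Pi.single k (1 : K) : Fin n → K)) := by
      rw [Matrix.mulVec_mulVec, Matrix.mulVec_mulVec, hAy]
    rw [hysd, mono_mulVec_single, hk, Matrix.mulVec_smul] at h1
    have h2 : ∀ i, d k * A i k = dz i * A i k := by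
      intro i
      have := congrFun h1 i
      rwa [Pi.smul_apply, smul_eq_mul, ZEROA.mulVec_single, hZdef, Matrix.mulVec_diagonal,
        ZEROA.mulVec_single] at this
    by_cases hdk : d k = c
    · have h3 := h2 i₀
      rw [hdk, hdz0] at h3
      have h4 : (c - e) * A i₀ k = 0 := by linear_combination h3
      rcases mul_eq_zero.mp h4 with h5 | h5
      · exact hec (sub_eq_zero.mp h5).symm
      · exact hrow A hA hnm i₀ k j₀ hkj h5 h0
    · have h3 : ∀ i, i ≠ i₀ → A i k = 0 := by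
        intro i hi
        have h4 := h2 i
        rw [hdzne i hi] at h4
        have h5 : (d k - c) * A i k = 0 := by linear_combination h4
        rcases mul_eq_zero.mp h5 with h6 | h6
        · exact absurd (sub_eq_zero.mp h6) hdk
        · exact h6
      have hcard : 1 < (Finset.univ.erase i₀).card := by
        rw [Finset.card_erase_of_mem (Finset.mem_univ i₀), Finset.card_univ, Fintype.card_fin]
        omega
      obtain ⟨i₁, hi₁, i₂, hi₂, h12⟩ := Finset.one_lt_card.mp hcard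
      exact hcol A hA hnm k i₁ i₂ h12 (h3 i₁ (Finset.ne_of_mem_erase hi₁))
        (h3 i₂ (Finset.ne_of_mem_erase hi₂))
  -- selection and the rank lemma
  have hJcard : 3 * 2 ≤ (Finset.univ.erase j₀).card + 2 := by
    rw [Finset.card_erase_of_mem (Finset.mem_univ j₀), Finset.card_univ, Fintype.card_fin]
    omega
  obtain ⟨ks, hksJ, hks⟩ := SELECT.perm s (Finset.univ.erase j₀) 2 hJcard
  have hAy' : A * mono s d = Z * A := by rw [← hysd]; exact hAy
  obtain ⟨a, hadef⟩ : ∃ a : Fin 1 → Fin n → K, a = fun _ => Pi.single i₀ (e - c) := ⟨_, rfl⟩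
  obtain ⟨b, hbdef⟩ : ∃ b : Fin 1 → Fin n → K, b = fun _ => Pi.single i₀ (1 : K) := ⟨_, rfl⟩
  have hZrank : Z - c • (1 : Matrix (Fin n) (Fin n) K) = ∑ l : Fin 1, vecMulVec (a l) (b l) := by
    rw [Fin.sum_univ_one, hadef, hbdef]
    ext i j
    rw [Matrix.sub_apply, Matrix.smul_apply, hZdef, Matrix.diagonal_apply, Matrix.one_apply,
      Matrix.vecMulVec_apply]
    show ((if i = j then dz i else 0) - c • if i = j then (1 : K) else 0) =
      (Pi.single i₀ (e - c) : Fin n → K) i * (Pi.single i₀ (1 : K) : Fin n → K) j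
    rw [Pi.single_apply, Pi.single_apply, smul_eq_mul]
    by_cases hij : i = j
    · subst hij
      by_cases hi : i = i₀
      · rw [hi, hdz0]; simp
      · rw [hdzne i hi]; simp [hi]
    · by_cases hi : i = i₀
      · have hj : ¬ j = i₀ := fun hj => hij (hi.trans hj.symm)
        simp [hij, hj]
      · simp [hij, hi]
  exact MONORANK.main A A' Z hA'A s d hd hAy' c 1 a b hZrank ks
    (fun i => Or.inl (fun hfx => (Finset.ne_of_mem_erase (hksJ i)) (hfix _ hfx))) hks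

end Cfsg.Agent.S5655K1
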