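import Mathlib

set_option autoImplicit false

namespace Cfsg.Agent.S5949P

open Polynomial

namespace GAUSSaux

variable {F : Type*} [Field F] [Fintype F] {V : Type*} [AddCommGroup V] [Module F V] [Finite V]

/-- The fibre of `s ↦ span (range s)` over `W` is the set of linearly independent `m`-tuples
of `W`. -/
noncomputable def fibreEquiv (m : ℕ) (W : Submodule F V) (hW : Module.finrank F ↥W = m) :
    {s : {s : Fin m → V // LinearIndependent F s} //
        Submodule.span F (Set.range (s : Fin m → V)) = W} ≃
      {t : Fin m → ↥W // LinearIndependent F t} where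
  toFun s := ⟨fun i => ⟨(s.1 : Fin m → V) i, by
      have h2 := s.2
      have : (s.1 : Fin m → V) i ∈ Submodule.span F (Set.range (s.1 : Fin m → V)) :=
        Submodule.subset_span ⟨i, rfl⟩
      rwa [h2] at this⟩, by
      have h := s.1.2
      apply LinearIndependent.of_comp W.subtype
      exact h⟩
  invFun t := ⟨⟨fun i => ((t : Fin m → ↥W) i : V), by
      have h := t.2
      exact h.map' W.subtype (Submodule.ker_subtype W)⟩, by
      have h := t.2
      have : Module.Finite F V := Module.Finite.of_finite
      apply Submodule.eq_of_le_of_finrank_eq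
      · rw [Submodule.span_le]
        rintro _ ⟨i, rfl⟩
        exact ((t : Fin m → ↥W) i).2
      · have hli : LinearIndependent F (fun i => ((t : Fin m → ↥W) i : V)) :=
          h.map' W.subtype (Submodule.ker_subtype W)
        rw [finrank_span_eq_card hli, hW, Fintype.card_fin]⟩
  left_inv s := by
    apply Subtype.ext
    apply Subtype.ext
    rfl
  right_inv t := by
    apply Subtype.ext
    rfl

/-- Gauss count in an arbitrary finite vector space. -/
theorem gauss_count_gen (m : ℕ) (hmn : m ≤ Module.finrank F V) :
    Nat.card {W : Submodule F V // Module.finrank F ↥W = m} *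
      ∏ j : Fin m, (Fintype.card F ^ m - Fintype.card F ^ (j : ℕ)) =
    ∏ j : Fin m, (Fintype.card F ^ Module.finrank F V - Fintype.card F ^ (j : ℕ)) := by
  classical
  have h1 : Nat.card {s : Fin m → V // LinearIndependent F s} =
      ∏ j : Fin m, (Fintype.card F ^ Module.finrank F V - Fintype.card F ^ (j : ℕ)) :=
    card_linearIndependent (K := F) (V := V) (k := m) hmn
  rw [← h1]
  let φ : {s : Fin m → V // LinearIndependent F s} →
      {W : Submodule F V // Module.finrank F ↥W = m} :=
    fun s => ⟨Submodule.span F (Set.range (s : Fin m → V)), by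
      rw [finrank_span_eq_card s.2, Fintype.card_fin]⟩
  let _ : Fintype {W : Submodule F V // Module.finrank F ↥W = m} := Fintype.ofFinite _
  have e1 : {s : Fin m → V // LinearIndependent F s} ≃
      Σ W : {W : Submodule F V // Module.finrank F ↥W = m},
        {t : Fin m → ↥(W : Submodule F V) // LinearIndependent F t} :=
    (Equiv.sigmaFiberEquiv φ).symm.trans
      (Equiv.sigmaCongrRight fun W =>
        (Equiv.subtypeEquivRight (fun s => by
          show φ s = W ↔ Submodule.span F (Set.range (s : Fin m → V)) = (W : Submodule F V)
          constructor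
          · intro h; rw [← h]
          · intro h; exact Subtype.ext h)).trans (fibreEquiv m W.1 W.2))
  rw [Nat.card_congr e1, Nat.card_sigma]
  have h2 : ∀ W : {W : Submodule F V // Module.finrank F ↥W = m},
      Nat.card {t : Fin m → ↥(W : Submodule F V) // LinearIndependent F t} =
        ∏ j : Fin m, (Fintype.card F ^ m - Fintype.card F ^ (j : ℕ)) := by
    intro W
    have := card_linearIndependent (K := F) (V := ↥(W : Submodule F V)) (k := m) (by rw [W.2])
    rw [this, W.2]
  rw [Finset.sum_congr rfl (fun W _ => h2 W), Finset.sum_const, Finset.card_univ,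
    Nat.card_eq_fintype_card, smul_eq_mul]

end GAUSSaux

/-- GAUSS -/
theorem gauss_count {F : Type*} [Field F] [Fintype F] (n m : ℕ) (hmn : m ≤ n) :
    Nat.card {W : Submodule F (Fin n → F) // Module.finrank F ↥W = m} *
      ∏ j : Fin m, (Fintype.card F ^ m - Fintype.card F ^ (j : ℕ)) =
    ∏ j : Fin m, (Fintype.card F ^ n - Fintype.card F ^ (j : ℕ)) := by
  have h := GAUSSaux.gauss_count_gen (F := F) (V := Fin n → F) m (by simpa using hmn)
  simpa using h

end Cfsg.Agent.S5949P
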