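import Mathlib
import Cfsg.Prelude.Def_GeometricClasses
import Cfsg.Prelude.Def_ClassicalGeometry
import Cfsg.Agent.Helper28.SpMax

set_option autoImplicit false
open scoped MatrixGroups Kronecker TensorProduct Matrix
open Polynomial

/-! S5980 piece SPDUAL: a symplectic matrix and its inverse have the same polynomial ranks. -/

namespace Cfsg.Agent.S5980P

namespace SPDUAL

variable {F : Type*} [Field F] {n : Type*} [Fintype n] [DecidableEq n]

theorem aeval_transpose (M : Matrix n n F) (P : F[X]) : aeval Mᵀ P = (aeval M P)ᵀ := by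
  rw [aeval_eq_sum_range, aeval_eq_sum_range, Matrix.transpose_sum]
  apply Finset.sum_congr rfl
  intro i _
  rw [Matrix.transpose_smul, Matrix.transpose_pow]

theorem conj_pow {U V : Matrix n n F} (hUV : U * V = 1) (hVU : V * U = 1) (a : Matrix n n F)
    (i : ℕ) : (U * a * V) ^ i = U * a ^ i * V := by
  induction i with
  | zero => rw [pow_zero, pow_zero, Matrix.mul_one, hUV]
  | succ k ih =>
    rw [pow_succ, ih, pow_succ]
    calc U * a ^ k * V * (U * a * V) = U * a ^ k * (V * U) * a * V := by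
          simp only [Matrix.mul_assoc]
      _ = U * (a ^ k * a) * V := by rw [hVU, Matrix.mul_one]; simp only [Matrix.mul_assoc]

theorem aeval_conj {U V : Matrix n n F} (hUV : U * V = 1) (hVU : V * U = 1) (a : Matrix n n F)
    (P : F[X]) : aeval (U * a * V) P = U * aeval a P * V := by
  rw [aeval_eq_sum_range, aeval_eq_sum_range, Finset.mul_sum, Finset.sum_mul]
  apply Finset.sum_congr rfl
  intro i _
  rw [conj_pow hUV hVU, Matrix.mul_smul, Matrix.smul_mul]

theorem finrank_range_aeval (N : Matrix n n F) (P : F[X]) :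
    Module.finrank F (LinearMap.range (aeval (Matrix.toLin' N) P)) = (aeval N P).rank := by
  have h1 : aeval (Matrix.toLin' N) P = Matrix.toLin' (aeval N P) := by
    have := Polynomial.aeval_algHom_apply (Matrix.toLinAlgEquiv' (R := F) (n := n)).toAlgHom N P
    exact this
  rw [h1, Matrix.toLin'_apply']
  rfl

end SPDUAL

open SPDUAL in
/-- SPDUAL: a symplectic matrix and its inverse have the same polynomial ranks -/
theorem sp_dual_rank {F : Type*} [Field F] (d : ℕ) (x : GL (Fin d ⊕ Fin d) F)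
    (hx : x ∈ Cfsg.spGL d F) (P : F[X]) :
    Module.finrank F (LinearMap.range
      (aeval (Matrix.toLin' (x : Matrix (Fin d ⊕ Fin d) (Fin d ⊕ Fin d) F)) P)) =
    Module.finrank F (LinearMap.range
      (aeval (Matrix.toLin' ((x⁻¹ : GL (Fin d ⊕ Fin d) F) :
        Matrix (Fin d ⊕ Fin d) (Fin d ⊕ Fin d) F)) P)) := by
  obtain ⟨A, hA⟩ := Cfsg.Agent.Helper28.SpMax.exists_of_mem_spGL x hx
  have hM : (x : Matrix (Fin d ⊕ Fin d) (Fin d ⊕ Fin d) F) ∈ Matrix.symplecticGroup (Fin d) F := by
    rw [← hA]; exact A.2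
  have hinv : ((x⁻¹ : GL (Fin d ⊕ Fin d) F) : Matrix (Fin d ⊕ Fin d) (Fin d ⊕ Fin d) F)
      = -Matrix.J (Fin d) F * (x : Matrix (Fin d ⊕ Fin d) (Fin d ⊕ Fin d) F)ᵀ * Matrix.J (Fin d) F := by
    rw [Matrix.coe_units_inv, SymplecticGroup.inv_eq_symplectic_inv _ hM]
  have hJ : IsUnit (Matrix.J (Fin d) F).det := Matrix.isUnit_det_J _ _
  have hnJ : IsUnit (-Matrix.J (Fin d) F).det := by
    rw [← Matrix.J_inv]; exact (Matrix.isUnit_nonsing_inv_det_iff).mpr hJ
  have h1 : -Matrix.J (Fin d) F * Matrix.J (Fin d) F = 1 := by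
    rw [Matrix.neg_mul, Matrix.J_squared, neg_neg]
  have h2 : Matrix.J (Fin d) F * -Matrix.J (Fin d) F = 1 := by
    rw [Matrix.mul_neg, Matrix.J_squared, neg_neg]
  rw [finrank_range_aeval, finrank_range_aeval, hinv, aeval_conj h1 h2,
    Matrix.rank_mul_eq_left_of_isUnit_det _ _ hJ, Matrix.rank_mul_eq_right_of_isUnit_det _ _ hnJ,
    aeval_transpose, Matrix.rank_transpose]

end Cfsg.Agent.S5980P
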