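import Mathlib
import Cfsg.Prelude.Def_GeometricClasses
import Cfsg.Prelude.Def_Classical
import Cfsg.Prelude.Def_LieClassical
import Cfsg.Agent.Helper16.S5965INDEX
import Cfsg.Agent.Helper12.PSUCommD

set_option autoImplicit false
open scoped MatrixGroups Matrix

/-! S5982 piece IDXNT: the `r`-parts of `|SL_n(q₀²)|` and `|SU_n(q₀)|` agree when
`q₀ ^ i ≡ -1 (mod r)` with `i = ord_r(q₀²)` odd. -/

namespace Cfsg.Agent.S5982P

namespace IDXNT

variable {r : ℕ} [Fact r.Prime]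

theorem one_ne_neg_one (hr2 : r ≠ 2) : (1 : ZMod r) ≠ -1 := by
  have hr : r.Prime := Fact.out
  intro h
  have h2 : ((2 : ℕ) : ZMod r) = 0 := by
    have : (1 : ZMod r) + 1 = 0 := by nth_rewrite 1 [h]; ring
    push_cast; rw [← this]; ring
  rw [ZMod.natCast_eq_zero_iff] at h2
  exact hr2 ((Nat.prime_dvd_prime_iff_eq hr Nat.prime_two).mp h2)

/-- `x^i = -1` with `i` odd: no odd power of `x` is `1` -/
theorem odd_pow_ne_one (hr2 : r ≠ 2) {x : ZMod r} {i : ℕ} (hx : x ^ i = -1) {j : ℕ} (hj : Odd j) :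
    x ^ j ≠ 1 := by
  intro h
  have h1 : x ^ (i * j) = -1 := by rw [pow_mul, hx, hj.neg_one_pow]
  have h2 : x ^ (i * j) = 1 := by rw [mul_comm, pow_mul, h, one_pow]
  exact one_ne_neg_one hr2 (h2.symm.trans h1)

/-- `i = ord(x²)` odd: no even power of `x` is `-1` -/
theorem even_pow_ne_neg_one (hr2 : r ≠ 2) {x : ZMod r} {i : ℕ} (hi : i = orderOf (x ^ 2))
    (hodd : Odd i) {j : ℕ} (hj : Even j) : x ^ j ≠ -1 := by
  intro h
  obtain ⟨k, rfl⟩ := hj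
  have h1 : (x ^ 2) ^ k = -1 := by rw [← pow_mul, ← h]; congr 1; ring
  have h2 : (x ^ 2) ^ (2 * k) = 1 := by rw [mul_comm, pow_mul, h1]; simp
  have h3 : i ∣ 2 * k := by rw [hi]; exact orderOf_dvd_of_pow_eq_one h2
  have h4 : i ∣ k := by
    rw [mul_comm] at h3
    exact (Nat.coprime_two_right.mpr hodd).dvd_of_dvd_mul_right h3
  have h5 : (x ^ 2) ^ k = 1 := by
    rw [hi] at h4
    exact orderOf_dvd_iff_pow_eq_one.mp h4
  exact one_ne_neg_one hr2 (h5.symm.trans h1)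

theorem not_dvd_sub_one (hr2 : r ≠ 2) {q₀ i : ℕ} (hq : 1 ≤ q₀) (hdvd : r ∣ q₀ ^ i + 1) {j : ℕ}
    (hj : Odd j) : ¬ r ∣ q₀ ^ j - 1 := by
  intro h
  have hx : ((q₀ : ℕ) : ZMod r) ^ i = -1 := by
    have h1 := (ZMod.natCast_eq_zero_iff (q₀ ^ i + 1) r).mpr hdvd
    push_cast at h1
    exact eq_neg_of_add_eq_zero_left h1
  have h1 := (ZMod.natCast_eq_zero_iff (q₀ ^ j - 1) r).mpr h
  rw [Nat.cast_sub (Nat.one_le_pow _ _ hq)] at h1
  push_cast at h1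
  exact odd_pow_ne_one hr2 hx hj (sub_eq_zero.mp h1)

theorem not_dvd_add_one (hr2 : r ≠ 2) {q₀ i : ℕ}
    (hi : i = orderOf (((q₀ ^ 2 : ℕ) : ℕ) : ZMod r)) (hodd : Odd i) {j : ℕ} (hj : Even j) :
    ¬ r ∣ q₀ ^ j + 1 := by
  intro h
  have hi' : i = orderOf (((q₀ : ℕ) : ZMod r) ^ 2) := by rw [hi]; push_cast; rfl
  have h1 := (ZMod.natCast_eq_zero_iff (q₀ ^ j + 1) r).mpr h
  push_cast at h1
  exact even_pow_ne_neg_one hr2 hi' hodd hj (eq_neg_of_add_eq_zero_left h1)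

/-- the term of `|SU_n(q₀)|` -/
def tm (q₀ i : ℕ) : ℕ := if Even (i + 1) then q₀ ^ (i + 2) + 1 else q₀ ^ (i + 2) - 1

theorem val_term (hr2 : r ≠ 2) {q₀ i : ℕ} (hq : 2 ≤ q₀)
    (hi : i = orderOf (((q₀ ^ 2 : ℕ) : ℕ) : ZMod r)) (hodd : Odd i) (hdvd : r ∣ q₀ ^ i + 1)
    (k : ℕ) : padicValNat r ((q₀ ^ 2) ^ (k + 2) - 1) = padicValNat r (tm q₀ k) := by
  have hfac : (q₀ ^ 2) ^ (k + 2) - 1 = (q₀ ^ (k + 2) - 1) * (q₀ ^ (k + 2) + 1) := by
    have h1 : 1 ≤ q₀ ^ (k + 2) := Nat.one_le_pow _ _ (by omega)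
    have h2 : (q₀ ^ 2) ^ (k + 2) = q₀ ^ (k + 2) * q₀ ^ (k + 2) := by ring
    rw [h2]
    obtain ⟨t, ht⟩ : ∃ t, q₀ ^ (k + 2) = t + 1 := ⟨q₀ ^ (k + 2) - 1, by omega⟩
    rw [ht, Nat.add_sub_cancel]
    have : (t + 1) * (t + 1) = t * (t + 1 + 1) + 1 := by ring
    rw [this, Nat.add_sub_cancel]
  have hA : q₀ ^ (k + 2) - 1 ≠ 0 := by
    have : 2 ^ (k + 2) ≤ q₀ ^ (k + 2) := Nat.pow_le_pow_left hq _
    have : 2 ≤ 2 ^ (k + 2) := by
      calc 2 = 2 ^ 1 := by norm_num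
        _ ≤ 2 ^ (k + 2) := Nat.pow_le_pow_right (by norm_num) (by omega)
    omega
  have hB : q₀ ^ (k + 2) + 1 ≠ 0 := by omega
  rw [hfac, padicValNat.mul hA hB]
  unfold tm
  by_cases hk : Even (k + 1)
  · rw [if_pos hk]
    have hj : Odd (k + 2) := by
      have := hk.add_one
      rwa [add_assoc] at this
    rw [padicValNat.eq_zero_of_not_dvd (not_dvd_sub_one hr2 (by omega) hdvd hj), zero_add]
  · rw [if_neg hk]
    have hj : Even (k + 2) := by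
      have h1 : Odd (k + 1) := Nat.not_even_iff_odd.mp hk
      have := h1.add_one
      rwa [add_assoc] at this
    rw [padicValNat.eq_zero_of_not_dvd (not_dvd_add_one hr2 hi hodd hj), add_zero]

theorem tm_ne_zero {q₀ : ℕ} (hq : 2 ≤ q₀) (k : ℕ) : tm q₀ k ≠ 0 := by
  unfold tm
  have : 2 ^ (k + 2) ≤ q₀ ^ (k + 2) := Nat.pow_le_pow_left hq _
  have : 2 ≤ 2 ^ (k + 2) := by
    calc 2 = 2 ^ 1 := by norm_num
      _ ≤ 2 ^ (k + 2) := Nat.pow_le_pow_right (by norm_num) (by omega)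
  split_ifs <;> omega

theorem val_finset_prod {α : Type*} [DecidableEq α] (s : Finset α) (f : α → ℕ)
    (hf : ∀ a ∈ s, f a ≠ 0) :
    padicValNat r (∏ a ∈ s, f a) = ∑ a ∈ s, padicValNat r (f a) := by
  induction s using Finset.induction_on with
  | empty => simp
  | insert a s ha ih =>
    rw [Finset.prod_insert ha, Finset.sum_insert ha,
      padicValNat.mul (hf a (Finset.mem_insert_self a s))
        (Finset.prod_ne_zero_iff.mpr (fun b hb => hf b (Finset.mem_insert_of_mem hb))),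
      ih (fun b hb => hf b (Finset.mem_insert_of_mem hb))]

end IDXNT

open IDXNT in
/-- IDXNT: the `r`-parts of `|SL_n(q₀²)|` and `|SU_n(q₀)|` agree when `q₀ ^ i ≡ -1`, `i` odd -/
theorem val_SL_le_val_SU {F : Type*} [Field F] [Fintype F] {q₀ : ℕ} (hF : Fintype.card F = q₀ ^ 2)
    (n : ℕ) (hn : 2 ≤ n) (r : ℕ) [Fact r.Prime] (hr2 : r ≠ 2) (hrq : ¬ r ∣ q₀) (i : ℕ)
    (hi : i = orderOf (((q₀ ^ 2 : ℕ) : ℕ) : ZMod r)) (hodd : Odd i) (hdvd : r ∣ q₀ ^ i + 1) :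
    padicValNat r (Nat.card (Matrix.SpecialLinearGroup (Fin n) F)) ≤
      padicValNat r (Nat.card (Cfsg.SU n F q₀)) := by
  have hr : r.Prime := Fact.out
  have hq : 2 ≤ q₀ := by
    have h1 : 1 < Fintype.card F := Fintype.one_lt_card
    rw [hF] at h1
    by_contra hlt
    have : q₀ ≤ 1 := by omega
    have : q₀ ^ 2 ≤ 1 ^ 2 := Nat.pow_le_pow_left this 2
    omega
  obtain ⟨n', rfl⟩ : ∃ n', n = n' + 1 := ⟨n - 1, by omega⟩
  have hrF : ¬ r ∣ Fintype.card F := by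
    rw [hF]; intro h; exact hrq (hr.dvd_of_dvd_pow h)
  rw [Cfsg.Agent.S5965P.INDEX.val_card_SL r n' F hrF,
    Cfsg.Agent.Helper12.PSUComm.card_SU_eq hF (n' + 1) hn, Nat.add_sub_cancel]
  have hprod : (∏ i ∈ Finset.range n',
      (if Even (i + 1) then q₀ ^ (i + 2) + 1 else q₀ ^ (i + 2) - 1)) = ∏ i ∈ Finset.range n', tm q₀ i :=
    rfl
  rw [hprod]
  have hP : (∏ i ∈ Finset.range n', tm q₀ i) ≠ 0 :=
    Finset.prod_ne_zero_iff.mpr (fun k _ => tm_ne_zero hq k)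
  have hq0 : q₀ ^ ((n' + 1) * n' / 2) ≠ 0 := pow_ne_zero _ (by omega)
  rw [padicValNat.mul hq0 hP, padicValNat.pow, padicValNat.eq_zero_of_not_dvd hrq, mul_zero,
    zero_add, val_finset_prod _ _ (fun k _ => tm_ne_zero hq k)]
  rw [hF, ← Finset.sum_range (fun i => padicValNat r ((q₀ ^ 2) ^ (n' + 1 - i) - 1)),
    ← Finset.sum_range_reflect]
  apply le_of_eq
  apply Finset.sum_congr rfl
  intro k hk
  rw [Finset.mem_range] at hk
  rw [← val_term hr2 hq hi hodd hdvd]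
  congr 3
  omega

end Cfsg.Agent.S5982P
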