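import Mathlib
import Cfsg.Prelude.Def_GeometricClasses
import Cfsg.Prelude.Def_Classical
import Cfsg.Prelude.Def_LieClassical
import Cfsg.Agent.Helper6.S5992Defs
import Cfsg.Agent.Helper16.S5972ODDN
import Cfsg.Agent.Helper8.S5992DVDC
import Cfsg.Agent.Helper25.S5992ALTTRICK

/-! S5992 piece NTYPEODD (driver helper6): for `i = ord_r(q)` odd, an invariant nondegenerate
subspace without fixed points is of plus type. -/

set_option autoImplicit false
open scoped MatrixGroups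

namespace Cfsg.Agent.S5992P

open Cfsg.Agent.Helper2.SympInvol Cfsg.Agent.Helper2.SympUnits Cfsg.Agent.S5961P Cfsg.Agent.S2614
  Cfsg.Agent.S5955P

/-- NTYPEODD -/
theorem plus_of_fpf_odd {F V : Type*} [Field F] [Fintype F] [AddCommGroup V] [Module F V]
    [FiniteDimensional F V] {p : ℕ} [Fact p.Prime] [CharP F p] (r : ℕ) [Fact r.Prime]
    (hr2 : r ≠ 2) (hrp : r ≠ p) (h2 : (2 : F) ≠ 0) (Q : QuadraticForm F V)
    (y : Module.End F V) (hY : IsYO Q y r)
    (hi : Odd (orderOf ((Fintype.card F : ℕ) : ZMod r))) (M : Submodule F V)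
    (hM : M.map y ≤ M) (hMnd : Nondeg (PB Q) M) (hfix : M ⊓ LinearMap.ker (y - 1) = ⊥) :
    Plus Q M := by
  have hrpr : r.Prime := Fact.out
  have hodd : Odd r := hrpr.odd_of_ne_two hr2
  obtain ⟨halt, hiso, hprops⟩ := altOf_props h2 Q y r hodd hY
  obtain ⟨hnd, -, -⟩ := hprops M hM hfix
  have hdvd := cc_dvd_of_fpf (p := p) r hr2 hrp h2 Q y hY M hM hMnd hfix
  have hcc : cc F r = 2 * orderOf ((Fintype.card F : ℕ) : ZMod r) := by
    rw [cc_def, if_neg (Nat.not_even_iff_odd.mpr hi)]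
  rw [hcc] at hdvd
  obtain ⟨s, hs⟩ := hdvd
  obtain ⟨U, hUM, hUy, hUti, hUdim⟩ := Cfsg.Agent.S5972P.exists_ti_odd_sub (p := p) r hr2 hrp
    (altOf Q y) halt y hiso hY.pow hi M hM (hnd.mpr hMnd) hfix s (le_of_eq hs.symm)
  refine ⟨U, hUM, ?_, ?_⟩
  · have hUfix : U ⊓ LinearMap.ker (y - 1) = ⊥ := by
      rw [eq_bot_iff, ← hfix]
      exact inf_le_inf_right _ hUM
    obtain ⟨-, -, hts⟩ := hprops U hUy hUfix
    apply hts
    intro u hu v hv
    exact hUti u hu v hv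
  · rw [hUdim, hs]
    ring
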