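import Mathlib
import Cfsg.Prelude.Def_GeometricClasses
import Cfsg.Prelude.Def_Classical
import Cfsg.Prelude.Def_LieClassical
import Cfsg.Agent.Helper27.S5989Defs
import Cfsg.Agent.Helper15.S5992SUPND
import Cfsg.Agent.Helper8.S5992DVDC
import Cfsg.Agent.Helper18.S5961ARITH
import Cfsg.Agent.Helper25.S5992NTYPEODD
import Cfsg.Agent.Helper3.S5992NTYPEEVEN

/-! S5989 piece BLOCKNUM (driver helper27): the number of blocks of an isometry of odd prime order
`r ≠ p` of a `2d`-dimensional quadratic space of type `ε`. -/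

set_option autoImplicit false
open scoped MatrixGroups

namespace Cfsg.Agent.S5989P

open Cfsg.Agent.Helper2.SympInvol Cfsg.Agent.Helper2.SympUnits Cfsg.Agent.S5961P
  Cfsg.Agent.S5992P

/-- BLOCKNUM -/
theorem realiz_of_isYO {F V : Type*} [Field F] [Fintype F] [AddCommGroup V] [Module F V]
    [FiniteDimensional F V] {p : ℕ} [Fact p.Prime] [CharP F p] (r : ℕ) [Fact r.Prime]
    (hr2 : r ≠ 2) (hrp : r ≠ p) (h2 : (2 : F) ≠ 0) (Q : QuadraticForm F V)
    (y : Module.End F V) (hY : IsYO Q y r) (hy1 : y ≠ 1) (d : ℕ)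
    (hV : Module.finrank F V = 2 * d) (ε : Bool) (hε : Plus Q ⊤ ↔ ε = true) :
    ∃ b : ℕ, Module.finrank F (LinearMap.range (y - 1)) = cc F r * b ∧
      Module.finrank F (LinearMap.ker (y - 1)) = 2 * d - cc F r * b ∧
      Realiz ε (orderOf ((Fintype.card F : ℕ) : ZMod r)) (cc F r) d b := by
  obtain ⟨hipos, hccpos, -, -, -, -, -, -⟩ := cc_arith (F := F) (p := p) r hr2 hrp
  obtain ⟨hK, hR, hKR, hsum⟩ := fix_nondeg (p := p) r hrp Q y hY
  obtain ⟨-, hdisj, -⟩ := nondeg_sup_orth Q _ _ hK hR hKR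
  have hRy : (LinearMap.range (y - 1)).map y ≤ LinearMap.range (y - 1) := by
    rintro _ ⟨_, ⟨w, rfl⟩, rfl⟩
    refine ⟨y w, ?_⟩
    simp only [LinearMap.sub_apply, Module.End.one_apply, map_sub]
  have hfix : LinearMap.range (y - 1) ⊓ LinearMap.ker (y - 1) = ⊥ := by
    rw [inf_comm]
    exact hdisj.eq_bot
  obtain ⟨b, hb⟩ := cc_dvd_of_fpf (p := p) r hr2 hrp h2 Q y hY _ hRy hR hfix
  rw [hV] at hsum
  refine ⟨b, hb, by omega, ?_, by omega, ?_⟩
  · -- `1 ≤ b`
    by_contra hb0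
    have hb0' : b = 0 := by omega
    rw [hb0', mul_zero] at hb
    have hbot : LinearMap.range (y - 1) = ⊥ := Submodule.finrank_eq_zero.mp hb
    apply hy1
    have h0 : y - 1 = 0 := LinearMap.range_eq_bot.mp hbot
    exact sub_eq_zero.mp h0
  · intro hcb
    have hK0 : Module.finrank F (LinearMap.ker (y - 1)) = 0 := by omega
    have hKbot : LinearMap.ker (y - 1) = ⊥ := Submodule.finrank_eq_zero.mp hK0
    have hTy : (⊤ : Submodule F V).map y ≤ ⊤ := le_top
    have hTfix : (⊤ : Submodule F V) ⊓ LinearMap.ker (y - 1) = ⊥ := by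
      rw [hKbot, inf_bot_eq]
    unfold typeOK
    by_cases hi : Even (orderOf ((Fintype.card F : ℕ) : ZMod r))
    · rw [if_pos hi]
      have h1 := plus_iff_even_of_fpf (p := p) r hr2 hrp h2 Q y hY hi ⊤ hTy hY.nondeg hTfix
      have hcc : cc F r = orderOf ((Fintype.card F : ℕ) : ZMod r) := by
        rw [cc_def, if_pos hi]
      rw [finrank_top, hV, ← hcb, hcc, Nat.mul_div_cancel_left _ hipos] at h1
      rw [← h1, hε]
    · rw [if_neg hi]
      have h1 := plus_of_fpf_odd (p := p) r hr2 hrp h2 Q y hY (Nat.not_even_iff_odd.mp hi) ⊤ hTy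
        hY.nondeg hTfix
      exact hε.mp h1
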