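import Mathlib
import Cfsg.Prelude.Def_GeometricClasses
import Cfsg.Prelude.Def_Classical
import Cfsg.Prelude.Def_LieClassical
import Cfsg.Agent.Helper27.S5989Defs
import Cfsg.Agent.Helper28.Spin6
import Cfsg.Agent.Helper2.QuadOdd
import Cfsg.Agent.Helper29.S5989ORBIT
import Cfsg.Agent.Helper29.S5989STABDVD
import Cfsg.Agent.Helper3.S5989NTCOUNTODD

/-! S5989 piece COUNTODD (driver helper27): `r ∣ #Ω` implies `r ∣ wk ε q d m`. -/

set_option autoImplicit false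
open scoped MatrixGroups

namespace Cfsg.Agent.S5989P

open Cfsg.Agent.Helper2.SympInvol Cfsg.Agent.Helper2.SympUnits Cfsg.Agent.S5961P
  Cfsg.Agent.S5992P Cfsg.Agent.Helper28.Spin

/-- COUNTODD -/
theorem dvd_wk_of_dvd_card {F : Type*} [Field F] [Fintype F] {p : ℕ} [Fact p.Prime] [CharP F p]
    {q : ℕ} (hq : Fintype.card F = q) (hodd : Odd q) {ι : Type} [Fintype ι] [DecidableEq ι]
    (Q : QuadraticForm F (ι → F)) (hQ : (QuadraticMap.polarBilin Q).Nondegenerate) (d m : ℕ)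
    (hι : Fintype.card ι = 2 * d) (ε : Bool)
    (hG : Nat.card ↥(Cfsg.isometryGroup F ⇑Q) = ordO ε q d) (hm : Odd m) (hmd : m < d)
    (W₀ : Submodule F (ι → F)) (hW₀ : Module.finrank F W₀ = m ∧ Nondeg (PB Q) W₀) (r : ℕ)
    [Fact r.Prime] (hr2 : r ≠ 2) (hrp : r ≠ p)
    (hrΩ : r ∣ Nat.card {W : Submodule F (ι → F) // OmSet Q m W₀ W}) :
    r ∣ wk ε q d m := by
  have hrpr : r.Prime := Fact.out
  have hppr : p.Prime := Fact.out
  -- `(2 : F) ≠ 0`
  have h2 : (2 : F) ≠ 0 := by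
    intro h
    have h2' : ((2 : ℕ) : F) = 0 := by exact_mod_cast h
    have hp2 : p ∣ 2 := (CharP.cast_eq_zero_iff F p 2).mp h2'
    have hpq : p ∣ q := by
      rw [← hq]
      obtain ⟨n, hn⟩ := FiniteField.card F p
      rw [hn.2]
      exact dvd_pow_self p n.ne_zero
    have h2q : 2 ∣ q := by
      have : p = 2 := (Nat.prime_dvd_prime_iff_eq hppr Nat.prime_two).mp hp2
      rw [← this]; exact hpq
    obtain ⟨k, hk⟩ := hodd
    omega
  -- `¬ r ∣ q`
  have hrq : ¬ r ∣ q := by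
    intro h
    rw [← hq] at h
    obtain ⟨n, hn⟩ := FiniteField.card F p
    rw [hn.2] at h
    have := hrpr.dvd_of_dvd_pow h
    exact hrp ((Nat.prime_dvd_prime_iff_eq hrpr hppr).mp this)
  have hq2 : 2 ≤ q := by
    rw [← hq]
    exact Fintype.one_lt_card
  -- `l`
  obtain ⟨k, hk⟩ := hm
  have hl : m + (2 * (d - k - 1) + 1) = 2 * d := by omega
  have horb := card_omSet_mul_stab Q hQ m W₀ hW₀
  rw [hG] at horb
  have hstab := card_odd_dvd_stab h2 Q hQ W₀ hW₀.2 (d - k - 1) (by rw [hW₀.1, hι]; exact hl)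
  rw [Cfsg.Agent.Helper2.Quad.card_GO_odd hq hodd (d - k - 1)] at hstab
  exact nt_count_odd hr2 hrq hq2 ε d m (d - k - 1) _ _ ⟨k, hk⟩ hmd hl horb hstab hrΩ
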