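import Mathlib
import Cfsg.Prelude.Def_GeometricClasses
import Cfsg.Prelude.Def_Classical
import Cfsg.Prelude.Def_LieClassical
import Cfsg.Agent.Helper27.S5989Defs
import Cfsg.Agent.Helper8.S5992SPLITW
import Cfsg.Agent.Helper15.S5992SUPND
import Cfsg.Agent.Helper8.S5992DVDC

/-! S5989 piece NECODD (driver helper27): dimension of an invariant nondegenerate subspace. -/

set_option autoImplicit false
open scoped MatrixGroups

namespace Cfsg.Agent.S5989P

open Cfsg.Agent.Helper2.SympInvol Cfsg.Agent.Helper2.SympUnits Cfsg.Agent.S5961P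
  Cfsg.Agent.S5992P

/-- NECODD -/
theorem odd_invariant_arith {F V : Type*} [Field F] [Fintype F] [AddCommGroup V] [Module F V]
    [FiniteDimensional F V] {p : ℕ} [Fact p.Prime] [CharP F p] (r : ℕ) [Fact r.Prime]
    (hr2 : r ≠ 2) (hrp : r ≠ p) (h2 : (2 : F) ≠ 0) (Q : QuadraticForm F V)
    (y : Module.End F V) (hY : IsYO Q y r) (W : Submodule F V) (hWy : W.map y ≤ W)
    (hWnd : Nondeg (PB Q) W) :
    ∃ a' b' : ℕ, Module.finrank F W = a' + cc F r * b' ∧
      a' ≤ Module.finrank F (LinearMap.ker (y - 1)) ∧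
      cc F r * b' ≤ Module.finrank F (LinearMap.range (y - 1)) := by
  obtain ⟨hK, hR, hKR, -⟩ := fix_nondeg (p := p) r hrp Q y hY
  obtain ⟨-, hdisj, -⟩ := nondeg_sup_orth Q _ _ hK hR hKR
  obtain ⟨hWK, hWR, hWo, hsup, hWRy⟩ := inv_split_nd (p := p) r hrp Q y hY W hWy hWnd
  obtain ⟨-, -, hfr⟩ := nondeg_sup_orth Q _ _ hWK hWR hWo
  rw [hsup] at hfr
  have hfix : (W ⊓ LinearMap.range (y - 1)) ⊓ LinearMap.ker (y - 1) = ⊥ := by
    rw [eq_bot_iff]
    intro v hv
    have : v ∈ LinearMap.ker (y - 1) ⊓ LinearMap.range (y - 1) := ⟨hv.2, hv.1.2⟩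
    rw [hdisj.eq_bot] at this
    exact this
  obtain ⟨b', hb'⟩ := cc_dvd_of_fpf (p := p) r hr2 hrp h2 Q y hY _ hWRy hWR hfix
  refine ⟨Module.finrank F ↥(W ⊓ LinearMap.ker (y - 1)), b', ?_, ?_, ?_⟩
  · rw [hfr, hb']
  · exact Submodule.finrank_mono inf_le_right
  · rw [← hb']
    exact Submodule.finrank_mono inf_le_right
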