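import Mathlib
import Cfsg.Prelude.Def_GeometricClasses
import Cfsg.Prelude.Def_Classical
import Cfsg.Prelude.Def_LieClassical
import Cfsg.Agent.Helper27.S5989Defs
import Cfsg.Agent.Helper28.Spin6
import Cfsg.Agent.Helper28.IsoTransport
import Cfsg.Agent.Helper28.NonMax
import Cfsg.Agent.Helper29.S5989LEVIP
import Cfsg.Agent.Helper9.S5989UNIMAT
import Cfsg.Agent.Helper26.S5989UNIDER

/-! S5989 piece UNIMODELP (driver helper27): a unipotent element of order `p` of `Ω⁺_{2d}(q)` fixing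
no nondegenerate subspace of odd dimension `m < d`. -/

set_option autoImplicit false
open scoped MatrixGroups

namespace Cfsg.Agent.S5989P

open Cfsg.Agent.Helper2.SympInvol Cfsg.Agent.Helper2.SympUnits Cfsg.Agent.S5961P
  Cfsg.Agent.S5992P Cfsg.Agent.Helper28.Spin

namespace UNIMODELP

/-- the core: from a unipotent `A ∈ GL_d` with prescribed kernel dimensions -/
theorem core {F : Type*} [Field F] [Fintype F] {p : ℕ} [Fact p.Prime]
    [CharP F p] (h2 : (2 : F) ≠ 0) (d m : ℕ) (hd : 4 ≤ d) (hm : Odd m) (A : GL (Fin d) F)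
    (hAp : A ^ p = 1)
    (hA3 : (Matrix.toLin' (A : Matrix (Fin d) (Fin d) F) - 1) ^ 3 = 0)
    (k₁ k₂ : ℕ)
    (hk₁ : Module.finrank F (LinearMap.ker (Matrix.toLin' (A : Matrix (Fin d) (Fin d) F) - 1))
      = k₁)
    (hk₂ : Module.finrank F (LinearMap.ker ((Matrix.toLin' (A : Matrix (Fin d) (Fin d) F) - 1) ^ 2))
      = k₂)
    (hcase : (2 * k₁ = d ∧ 2 * k₂ = 2 * d) ∨ (2 * k₁ = d + 1 ∧ 2 * k₂ = 2 * d ∧ m % 4 = 3) ∨
      (2 * k₁ + 1 = d ∧ 2 * k₂ + 2 = 2 * d ∧ m % 4 = 1)) :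
    ∃ x : GL (Fin d ⊕ Fin d) F, x ∈ Cfsg.Geo.omegaGL (Cfsg.quadFormPlus d F) ∧ x ^ p = 1 ∧
      x ≠ 1 ∧ ∀ W : Submodule F (Fin d ⊕ Fin d → F), Nondeg (PB (QfPlus d F)) W →
        Module.finrank F W = m →
        ¬ W.map (Matrix.toLin' (x : Matrix (Fin d ⊕ Fin d) (Fin d ⊕ Fin d) F)) ≤ W := by
  have hppr : p.Prime := Fact.out
  have hp2 : p ≠ 2 := by
    intro h
    apply h2
    have : ((2 : ℕ) : F) = 0 := by
      rw [← h]
      exact CharP.cast_eq_zero F p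
    exact_mod_cast this
  have hpodd : Odd p := hppr.odd_of_ne_two hp2
  obtain ⟨x, hxΩ, hxp, hxker⟩ := levi_plus h2 d (by omega) A p hpodd hAp
  have hx1 := hxker 1
  have hx2 := hxker 2
  have hx3 := hxker 3
  rw [pow_one, pow_one, hk₁] at hx1
  rw [hk₂] at hx2
  rw [hA3, LinearMap.ker_zero, finrank_top, Module.finrank_fin_fun] at hx3
  have hV : Module.finrank F (Fin d ⊕ Fin d → F) = 2 * d := by
    rw [Module.finrank_fintype_fun_eq_card, Fintype.card_sum, Fintype.card_fin]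
    ring
  -- `(x - 1)^3 = 0`
  have hx30 : (Matrix.toLin' (x : Matrix (Fin d ⊕ Fin d) (Fin d ⊕ Fin d) F) - 1) ^ 3 = 0 := by
    have htop : LinearMap.ker ((Matrix.toLin' (x : Matrix (Fin d ⊕ Fin d) (Fin d ⊕ Fin d) F) - 1)
        ^ 3) = ⊤ := by
      apply Submodule.eq_top_of_finrank_eq
      rw [hx3, hV]
    exact LinearMap.ker_eq_top.mp htop
  -- isometry
  have hxI : x ∈ Cfsg.isometryGroup F ⇑(QfPlus d F) := by
    have hxΩ' : x ∈ Cfsg.Geo.omegaGL ⇑(QfPlus d F) := hxΩ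
    rw [Cfsg.Agent.Helper28.NM.mem_omegaGL_iff] at hxΩ'
    obtain ⟨h, -, rfl⟩ := hxΩ'
    exact h.2
  have hxQ : ∀ v, QfPlus d F (Matrix.toLin' (x : Matrix (Fin d ⊕ Fin d) (Fin d ⊕ Fin d) F) v) =
      QfPlus d F v := by
    intro v
    rw [Cfsg.Agent.Helper28.IsoTransport.mem_isometryGroup_iff] at hxI
    rw [Matrix.toLin'_apply]
    exact hxI v
  refine ⟨x, hxΩ, hxp, ?_, ?_⟩
  · intro h1
    rw [h1] at hx1
    have : Matrix.toLin' ((1 : GL (Fin d ⊕ Fin d) F) : Matrix (Fin d ⊕ Fin d) (Fin d ⊕ Fin d) F)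
        - 1 = 0 := by
      rw [Units.val_one, Matrix.toLin'_one]
      exact sub_self _
    rw [this, LinearMap.ker_zero, finrank_top, hV] at hx1
    omega
  · intro W hWnd hWm hWx
    refine no_odd_invariant_of_unip h2 (QfPlus d F)
      (nondeg_top_of_nondegenerate _ (QfPlus_nondeg d))
      (Matrix.toLin' (x : Matrix (Fin d ⊕ Fin d) (Fin d ⊕ Fin d) F)) hxQ 3 hx30 d m hV hm ?_
      W hWx hWnd hWm
    rw [hx1, hx2, hx3]
    omega

end UNIMODELP

/-- UNIMODELP -/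
theorem exists_unip_derangement_plus {F : Type*} [Field F] [Fintype F] {p : ℕ} [Fact p.Prime]
    [CharP F p] (h2 : (2 : F) ≠ 0) (d m : ℕ) (hd : 4 ≤ d) (hm : Odd m) (hmd : m < d) :
    ∃ x : GL (Fin d ⊕ Fin d) F, x ∈ Cfsg.Geo.omegaGL (Cfsg.quadFormPlus d F) ∧ x ^ p = 1 ∧
      x ≠ 1 ∧ ∀ W : Submodule F (Fin d ⊕ Fin d → F), Nondeg (PB (QfPlus d F)) W →
        Module.finrank F W = m →
        ¬ W.map (Matrix.toLin' (x : Matrix (Fin d ⊕ Fin d) (Fin d ⊕ Fin d) F)) ≤ W := by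
  have hp2 : p ≠ 2 := by
    intro h
    apply h2
    have : ((2 : ℕ) : F) = 0 := by
      rw [← h]
      exact CharP.cast_eq_zero F p
    exact_mod_cast this
  have hm4 : m % 4 = 1 ∨ m % 4 = 3 := by
    obtain ⟨k, hk⟩ := hm
    omega
  rcases Nat.even_or_odd d with hde | hdo
  · -- `d` even: `(0, d/2, 0)`
    obtain ⟨e, he⟩ := hde
    obtain ⟨A, hAp, hA1, hA2, hA3⟩ := exists_unip_matrix (F := F) (p := p) hp2 0 e 0 d (by omega)
    exact UNIMODELP.core h2 d m hd hm A hAp hA3 _ _ hA1 hA2 (Or.inl (by omega))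
  · obtain ⟨e, he⟩ := hdo
    rcases hm4 with h4 | h4
    · -- `m % 4 = 1`: `(0, (d-3)/2, 1)`
      obtain ⟨A, hAp, hA1, hA2, hA3⟩ := exists_unip_matrix (F := F) (p := p) hp2 0 (e - 1) 1 d
        (by omega)
      exact UNIMODELP.core h2 d m hd hm A hAp hA3 _ _ hA1 hA2 (Or.inr (Or.inr (by omega)))
    · -- `m % 4 = 3`: `(1, (d-1)/2, 0)`
      obtain ⟨A, hAp, hA1, hA2, hA3⟩ := exists_unip_matrix (F := F) (p := p) hp2 1 e 0 d
        (by omega)
      exact UNIMODELP.core h2 d m hd hm A hAp hA3 _ _ hA1 hA2 (Or.inr (Or.inl (by omega)))
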