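import Mathlib
import Cfsg.Prelude.Def_GeometricClasses
import Cfsg.Prelude.Def_Classical
import Cfsg.Prelude.Def_LieClassical
import Cfsg.Agent.Helper6.S5992Defs
import Cfsg.Agent.Helper16.S5972NECAux

/-! S5993 piece TSHALF (driver helper6): a totally singular subspace of a nondegenerate subspace has
at most half its dimension. -/

set_option autoImplicit false
open scoped MatrixGroups

namespace Cfsg.Agent.S5993P

open Cfsg.Agent.Helper2.SympInvol Cfsg.Agent.Helper2.SympUnits Cfsg.Agent.S5961P Cfsg.Agent.S2614
  Cfsg.Agent.S5992P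

/-- a totally singular subspace is totally isotropic for the polar form -/
theorem TSHALF.orth_of_ts {F V : Type*} [Field F] [AddCommGroup V] [Module F V]
    (Q : QuadraticForm F V) (U : Submodule F V) (hU : TS Q U) : Orth (PB Q) U U := by
  intro u hu u' hu'
  rw [PB_apply, QuadraticMap.polar, hU _ (U.add_mem hu hu'), hU u hu, hU u' hu']
  simp

/-- TSHALF -/
theorem ts_le_half_sub {F V : Type*} [Field F] [AddCommGroup V] [Module F V]
    [FiniteDimensional F V] (Q : QuadraticForm F V) (W U : Submodule F V)
    (hW : Nondeg (PB Q) W) (hUW : U ≤ W) (hU : TS Q U) :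
    2 * Module.finrank F U ≤ Module.finrank F W :=
  Cfsg.Agent.S5972P.NECO.ts_le_half (PB Q) W U hW hUW (TSHALF.orth_of_ts Q U hU)
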