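import Mathlib
import Cfsg.Prelude.Def_GeometricClasses
import Cfsg.Prelude.Def_Classical
import Cfsg.Prelude.Def_LieClassical
import Cfsg.Agent.Helper6.S5992Defs
import Cfsg.Agent.Helper7.S5992ORTHSYM
import Cfsg.Agent.Helper25.S5993TSHALF

/-! S5993 piece UNIPLEMMA (driver helper6): an isometry `x` of a `(2d+1)`-dimensional nondegenerate
quadratic space with `dim (range (x-1) ⊓ ker (x-1)) ≥ d` fixes only hyperbolic even-dimensional
nondegenerate subspaces. -/

set_option autoImplicit false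
open scoped MatrixGroups

namespace Cfsg.Agent.S5993P

open Cfsg.Agent.Helper2.SympInvol Cfsg.Agent.Helper2.SympUnits Cfsg.Agent.S5961P Cfsg.Agent.S2614
  Cfsg.Agent.S5992P

/-- UNIPLEMMA -/
theorem plus_of_invariant_of_bigK {F V : Type*} [Field F] [AddCommGroup V] [Module F V]
    [FiniteDimensional F V] (h2 : (2 : F) ≠ 0) (Q : QuadraticForm F V) (hnd : Nondeg (PB Q) ⊤)
    (x : Module.End F V) (hx : ∀ v, Q (x v) = Q v) (d : ℕ)
    (hdim : Module.finrank F V = 2 * d + 1)
    (hK : d ≤ Module.finrank F ↥(LinearMap.range (x - 1) ⊓ LinearMap.ker (x - 1)))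
    (W : Submodule F V) (hW : Nondeg (PB Q) W) (hWx : W.map x ≤ W)
    (hWe : Even (Module.finrank F W)) : Plus Q W := by
  have hisom : ∀ u v, PB Q (x u) (x v) = PB Q u v := PB_isom Q hx
  -- `x` is injective
  have hinj : Function.Injective x := by
    rw [← LinearMap.ker_eq_bot, eq_bot_iff]
    intro v hv
    rw [LinearMap.mem_ker] at hv
    by_contra hv0
    obtain ⟨u, -, hu⟩ := hnd v trivial hv0
    apply hu
    rw [← hisom, hv]
    simp
  -- the complement
  obtain ⟨W', -, hW'nd, hWW', hsup, hdisj, hfr, hinv⟩ := orth_compl_sym Q ⊤ W le_top hnd hW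
  have hW'x : W'.map x ≤ W' := hinv x hx hinj hWx le_top
  rw [finrank_top, hdim] at hfr
  have hWx' : ∀ v ∈ W, x v ∈ W := fun v hv => hWx ⟨v, hv, rfl⟩
  have hW'x' : ∀ v ∈ W', x v ∈ W' := fun v hv => hW'x ⟨v, hv, rfl⟩
  set K : Submodule F V := LinearMap.range (x - 1) ⊓ LinearMap.ker (x - 1) with hKdef
  -- `K` is totally singular
  have hKts : TS Q K := by
    intro u hu
    obtain ⟨⟨w, hw⟩, hu2⟩ := hu
    have hxu : x u = u := by
      have h0 : (x - 1) u = 0 := hu2
      rw [LinearMap.sub_apply, Module.End.one_apply, sub_eq_zero] at h0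
      exact h0
    have hB : PB Q u u = 0 := by
      have h1 : PB Q ((x - 1) w) u = 0 := by
        rw [LinearMap.sub_apply, Module.End.one_apply, map_sub, LinearMap.sub_apply]
        nth_rewrite 1 [← hxu]
        rw [hisom, sub_self]
      rw [hw] at h1
      exact h1
    rw [PB_self] at hB
    rcases mul_eq_zero.mp hB with h | h
    · exact absurd h h2
    · exact h
  -- `K ≤ (K ⊓ W) ⊔ (K ⊓ W')`
  have hsplit : K ≤ (K ⊓ W) ⊔ (K ⊓ W') := by
    intro v hv
    obtain ⟨⟨a₀, ha₀⟩, hv2⟩ := hv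
    have ha₀top : a₀ ∈ W ⊔ W' := by rw [hsup]; trivial
    obtain ⟨a, ha, a', ha', rfl⟩ := Submodule.mem_sup.mp ha₀top
    have hw : (x - 1) a ∈ W := by
      rw [LinearMap.sub_apply, Module.End.one_apply]
      exact W.sub_mem (hWx' a ha) ha
    have hw' : (x - 1) a' ∈ W' := by
      rw [LinearMap.sub_apply, Module.End.one_apply]
      exact W'.sub_mem (hW'x' a' ha') ha'
    have hww : (x - 1) ((x - 1) a) ∈ W := by
      rw [LinearMap.sub_apply, Module.End.one_apply]
      exact W.sub_mem (hWx' _ hw) hw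
    have hww' : (x - 1) ((x - 1) a') ∈ W' := by
      rw [LinearMap.sub_apply, Module.End.one_apply]
      exact W'.sub_mem (hW'x' _ hw') hw'
    have h0 : (x - 1) ((x - 1) a) + (x - 1) ((x - 1) a') = 0 := by
      have h1 : (x - 1) v = 0 := hv2
      rw [← ha₀, map_add, map_add] at h1
      exact h1
    have hz : (x - 1) ((x - 1) a) = 0 := by
      have hmem : (x - 1) ((x - 1) a) ∈ W' := by
        have : (x - 1) ((x - 1) a) = -((x - 1) ((x - 1) a')) := eq_neg_of_add_eq_zero_left h0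
        rw [this]
        exact W'.neg_mem hww'
      have : (x - 1) ((x - 1) a) ∈ W ⊓ W' := ⟨hww, hmem⟩
      rw [hdisj.eq_bot] at this
      exact this
    have hz' : (x - 1) ((x - 1) a') = 0 := by
      rw [hz, zero_add] at h0
      exact h0
    rw [← ha₀, map_add]
    exact Submodule.add_mem_sup ⟨⟨⟨a, rfl⟩, hz⟩, hw⟩ ⟨⟨⟨a', rfl⟩, hz'⟩, hw'⟩
  have h1 : Module.finrank F K ≤ Module.finrank F ↥((K ⊓ W) ⊔ (K ⊓ W')) :=
    Submodule.finrank_mono hsplit
  have h2' : Module.finrank F ↥((K ⊓ W) ⊔ (K ⊓ W')) ≤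
      Module.finrank F ↥(K ⊓ W) + Module.finrank F ↥(K ⊓ W') :=
    Submodule.finrank_add_le_finrank_add_finrank _ _
  have hts1 : TS Q (K ⊓ W) := fun u hu => hKts u hu.1
  have hts2 : TS Q (K ⊓ W') := fun u hu => hKts u hu.1
  have h3 := ts_le_half_sub Q W (K ⊓ W) hW inf_le_right hts1
  have h4 := ts_le_half_sub Q W' (K ⊓ W') hW'nd inf_le_right hts2
  refine ⟨K ⊓ W, inf_le_right, hts1, ?_⟩
  obtain ⟨e, he⟩ := hWe
  omega
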