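import Mathlib
import Cfsg.Prelude.Def_GeometricClasses
import Cfsg.Prelude.Def_Classical
import Cfsg.Prelude.Def_LieClassical
import Cfsg.Agent.Helper20.S6000Defs
import Cfsg.Agent.Helper28.S6001Defs
import Cfsg.Agent.Helper7.S6000D3

/-! S6001 piece D3U (driver helper28): the unitary element `diag(ω, ω, ω, 1)` of order 3 of
`SU_4(p)` with a 9-dimensional commutant (port of helper7's S6000 D3). -/

set_option autoImplicit false
open scoped MatrixGroups Matrix

namespace Cfsg.Agent.S6001P

open Cfsg.Agent.S6000P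

namespace D3U

variable {F : Type*} [Field F] (p : ℕ) [Fact p.Prime] [CharP F p]

/-- the conjugate transpose of a diagonal matrix -/
theorem dag_diagonal (d : Fin 4 → F) :
    dag p (Matrix.diagonal d : M4 F) = Matrix.diagonal (fun i => d i ^ p) := by
  ext i j
  rw [dag_apply, Matrix.diagonal_apply, Matrix.diagonal_apply]
  by_cases h : i = j
  · subst h
    simp
  · rw [if_neg h, if_neg (fun h' => h h'.symm), zero_pow (Fact.out : p.Prime).ne_zero]

end D3U

open D3 in
/-- D3U -/
theorem exists_x3_u {F : Type*} [Field F] [Fintype F] {p : ℕ} [Fact p.Prime] [CharP F p]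
    (ω : F) (hω : ω * ω + ω + 1 = 0) (hωu : ω ^ (p + 1) = 1) (h3 : (3 : F) ≠ 0) :
    ∃ x ∈ Cfsg.GU 4 F p ⊓ Cfsg.Geo.specialLinear (Fin 4) F,
      ((x ^ 3 : GL (Fin 4) F) : M4 F) = 1 ∧ (∀ z : F, (x : M4 F) ≠ z • (1 : M4 F)) ∧
      9 ≤ cdim (x : M4 F) := by
  classical
  have hω3 : ω ^ 3 = 1 := by linear_combination (ω - 1) * hω
  have hω0 : ω ≠ 0 := by
    rintro rfl
    simp at hω3
  have hω1 : ω ≠ 1 := by
    rintro rfl
    apply h3
    linear_combination hω
  let d : Fin 4 → F := ![ω, ω, ω, 1]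
  have hd : ∀ i, d i ≠ 0 := by
    intro i
    fin_cases i <;> simp [d, hω0]
  have hdu : ∀ i, d i ^ p * d i = 1 := by
    intro i
    rw [← pow_succ]
    fin_cases i <;> simp [d, hωu]
  refine ⟨dg d hd, ⟨?_, ?_⟩, ?_, ?_, ?_⟩
  · show dg d hd ∈ Cfsg.GU 4 F p
    rw [mem_GU_iff_dag, dg_val, D3U.dag_diagonal, Matrix.diagonal_mul_diagonal,
      ← Matrix.diagonal_one]
    congr 1
    funext i
    exact hdu i
  · show dg d hd ∈ Cfsg.Geo.specialLinear (Fin 4) F
    rw [mem_specialLinear_iff, dg_val, Matrix.det_diagonal, Fin.prod_univ_four]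
    simp only [d, Matrix.cons_val_zero, Matrix.cons_val_one, Matrix.cons_val]
    linear_combination hω3
  · rw [Units.val_pow_eq_pow_val, dg_val, Matrix.diagonal_pow, ← Matrix.diagonal_one]
    congr 1
    funext i
    fin_cases i <;> simp [d, hω3]
  · intro z hz
    rw [dg_val] at hz
    have h0 := congrFun (congrFun hz 0) 0
    have h3' := congrFun (congrFun hz 3) 3
    simp [d] at h0 h3'
    apply hω1
    rw [h0, ← h3']
  · rw [dg_val]
    let f : Fin 3 × Fin 3 → Fin 4 × Fin 4 := fun ij => (Fin.castSucc ij.1, Fin.castSucc ij.2)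
    have hf : Function.Injective f := by
      intro a b hab
      simp only [f, Prod.mk.injEq] at hab
      exact Prod.ext (Fin.castSucc_injective _ hab.1) (Fin.castSucc_injective _ hab.2)
    have := finrank_commSub_ge (Matrix.diagonal d : M4 F) f hf (by
      intro k
      apply single_mem_commSub
      obtain ⟨i, j⟩ := k
      fin_cases i <;> fin_cases j <;> simp [f, d])
    simpa using this
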