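import Mathlib
import Cfsg.Agent.Helper2.SU.Basic
import Cfsg.Agent.Helper25.SLUnitriB

set_option autoImplicit false
set_option linter.unusedSimpArgs false
set_option linter.unusedSectionVars false
set_option linter.unusedVariables false

/-! The unitary group for the antidiagonal hermitian form: adjoint, the group `WU`, elements
from matrices. -/

namespace Cfsg.Agent.Helper25.SUU

open Matrix
open Cfsg.Agent.Helper2.SUGen (Frob)

variable {n : ℕ} {K : Type*} [Field K] {q : ℕ}

/-- the antidiagonal permutation matrix -/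
def Psi (n : ℕ) (K : Type*) [Field K] : Matrix (Fin n) (Fin n) K :=
  fun i j => if j = i.rev then 1 else 0

theorem Psi_mul (M : Matrix (Fin n) (Fin n) K) (i j : Fin n) :
    (Psi n K * M) i j = M i.rev j := by
  rw [Matrix.mul_apply, Finset.sum_eq_single i.rev]
  · simp [Psi]
  · intro b _ hb
    simp [Psi, hb]
  · intro h
    exact absurd (Finset.mem_univ _) h

theorem mul_Psi (M : Matrix (Fin n) (Fin n) K) (i j : Fin n) :
    (M * Psi n K) i j = M i j.rev := by
  rw [Matrix.mul_apply, Finset.sum_eq_single j.rev]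
  · simp [Psi]
  · intro b _ hb
    have : ¬ j = b.rev := fun h => hb (by rw [h, Fin.rev_rev])
    simp [Psi, this]
  · intro h
    exact absurd (Finset.mem_univ _) h

theorem Psi_mul_Psi : Psi n K * Psi n K = 1 := by
  ext i j
  rw [Psi_mul]
  unfold Psi
  rw [Fin.rev_rev, Matrix.one_apply]
  by_cases h : i = j
  · rw [if_pos h.symm, if_pos h]
  · rw [if_neg (fun e => h e.symm), if_neg h]

variable (D : Frob K q)

/-- conjugate transpose -/
def dag (M : Matrix (Fin n) (Fin n) K) : Matrix (Fin n) (Fin n) K := (M.map D.σ)ᵀ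

theorem dag_apply (M : Matrix (Fin n) (Fin n) K) (i j : Fin n) : dag D M i j = D.σ (M j i) := rfl

theorem dag_mul (M N : Matrix (Fin n) (Fin n) K) : dag D (M * N) = dag D N * dag D M := by
  unfold dag
  rw [Matrix.map_mul, Matrix.transpose_mul]

theorem dag_dag (M : Matrix (Fin n) (Fin n) K) : dag D (dag D M) = M := by
  ext i j
  rw [dag_apply, dag_apply, D.invol]

theorem dag_one : dag D (1 : Matrix (Fin n) (Fin n) K) = 1 := by
  ext i j
  rw [dag_apply, Matrix.one_apply, Matrix.one_apply]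
  by_cases h : i = j
  · rw [if_pos h.symm, if_pos h, map_one]
  · rw [if_neg (fun e => h e.symm), if_neg h, map_zero]

theorem dag_add (M N : Matrix (Fin n) (Fin n) K) : dag D (M + N) = dag D M + dag D N := by
  ext i j
  rw [dag_apply, Matrix.add_apply, Matrix.add_apply, map_add, dag_apply, dag_apply]

theorem dag_Psi : dag D (Psi n K) = Psi n K := by
  ext i j
  rw [dag_apply]
  unfold Psi
  by_cases h : j = i.rev
  · have h' : i = j.rev := by rw [h, Fin.rev_rev]
    rw [if_pos h', if_pos h, map_one]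
  · have h' : ¬ i = j.rev := fun e => h (by rw [e, Fin.rev_rev])
    rw [if_neg h', if_neg h, map_zero]

theorem dag_diagonal (d : Fin n → K) : dag D (Matrix.diagonal d) = Matrix.diagonal (fun i => D.σ (d i)) := by
  ext i j
  rw [dag_apply, Matrix.diagonal_apply, Matrix.diagonal_apply]
  by_cases h : i = j
  · subst h
    rw [if_pos rfl, if_pos rfl]
  · rw [if_neg (fun e => h e.symm), if_neg h, map_zero]

/-- the adjoint for the antidiagonal hermitian form -/
def adj (M : Matrix (Fin n) (Fin n) K) : Matrix (Fin n) (Fin n) K :=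
  fun i j => D.σ (M j.rev i.rev)

theorem adj_apply (M : Matrix (Fin n) (Fin n) K) (i j : Fin n) :
    adj D M i j = D.σ (M j.rev i.rev) := rfl

theorem adj_eq (M : Matrix (Fin n) (Fin n) K) : adj D M = Psi n K * dag D M * Psi n K := by
  ext i j
  rw [mul_Psi, Psi_mul]
  rfl

theorem adj_mul (M N : Matrix (Fin n) (Fin n) K) : adj D (M * N) = adj D N * adj D M := by
  rw [adj_eq, adj_eq, adj_eq, dag_mul]
  have : Psi n K * dag D N * Psi n K * (Psi n K * dag D M * Psi n K) =
      Psi n K * dag D N * (Psi n K * Psi n K) * dag D M * Psi n K := by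
    simp only [Matrix.mul_assoc]
  rw [this, Psi_mul_Psi, Matrix.mul_one]
  simp only [Matrix.mul_assoc]

theorem adj_one : adj D (1 : Matrix (Fin n) (Fin n) K) = 1 := by
  rw [adj_eq, dag_one, Matrix.mul_one, Psi_mul_Psi]

theorem adj_add (M N : Matrix (Fin n) (Fin n) K) : adj D (M + N) = adj D M + adj D N := by
  ext i j
  rw [adj_apply, Matrix.add_apply, Matrix.add_apply, map_add, adj_apply, adj_apply]

theorem adj_neg (M : Matrix (Fin n) (Fin n) K) : adj D (-M) = -adj D M := by
  ext i j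
  rw [adj_apply, Matrix.neg_apply, Matrix.neg_apply, map_neg, adj_apply]

theorem adj_adj (M : Matrix (Fin n) (Fin n) K) : adj D (adj D M) = M := by
  ext i j
  rw [adj_apply, adj_apply, D.invol, Fin.rev_rev, Fin.rev_rev]

theorem adj_single (i j : Fin n) (c : K) :
    adj D (Matrix.single i j c) = Matrix.single j.rev i.rev (D.σ c) := by
  ext a b
  rw [adj_apply, Matrix.single_apply, Matrix.single_apply]
  by_cases h : i = b.rev ∧ j = a.rev
  · have h' : j.rev = a ∧ i.rev = b := ⟨by rw [h.2, Fin.rev_rev], by rw [h.1, Fin.rev_rev]⟩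
    rw [if_pos h, if_pos h']
  · have h' : ¬ (j.rev = a ∧ i.rev = b) := by
      rintro ⟨h1, h2⟩
      exact h ⟨by rw [← h2, Fin.rev_rev], by rw [← h1, Fin.rev_rev]⟩
    rw [if_neg h, if_neg h', map_zero]

variable [Fintype K]

/-- the special unitary group of the antidiagonal hermitian form -/
def WU (n : ℕ) (D : Frob K q) : Subgroup (Matrix.SpecialLinearGroup (Fin n) K) :=
  SLU.subgroupOfMul {g | adj D g.1 * g.1 = 1}
    (by
      show adj D (1 : Matrix.SpecialLinearGroup (Fin n) K).1 * (1 : Matrix.SpecialLinearGroup (Fin n) K).1 = 1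
      rw [Matrix.SpecialLinearGroup.coe_one, adj_one, Matrix.mul_one])
    (by
      intro a b ha hb
      show adj D (a * b).1 * (a * b).1 = 1
      have ha' : adj D a.1 * a.1 = 1 := ha
      have hb' : adj D b.1 * b.1 = 1 := hb
      rw [Matrix.SpecialLinearGroup.coe_mul, adj_mul]
      calc adj D b.1 * adj D a.1 * (a.1 * b.1) = adj D b.1 * (adj D a.1 * a.1) * b.1 := by
            simp only [Matrix.mul_assoc]
        _ = 1 := by rw [ha', Matrix.mul_one, hb'])

theorem mem_WU {g : Matrix.SpecialLinearGroup (Fin n) K} : g ∈ WU n D ↔ adj D g.1 * g.1 = 1 :=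
  SLU.mem_subgroupOfMul

/-- matrices defining elements of `WU` -/
def IsW (M : Matrix (Fin n) (Fin n) K) : Prop := M.det = 1 ∧ adj D M * M = 1

theorem isW_val (g : ↥(WU n D)) : IsW D g.1.1 := ⟨g.1.2, (mem_WU D).1 g.2⟩

theorem isW_one : IsW D (1 : Matrix (Fin n) (Fin n) K) :=
  ⟨Matrix.det_one, by rw [adj_one, Matrix.mul_one]⟩

theorem IsW.mul {M N : Matrix (Fin n) (Fin n) K} (hM : IsW D M) (hN : IsW D N) : IsW D (M * N) := by
  refine ⟨by rw [Matrix.det_mul, hM.1, hN.1, mul_one], ?_⟩
  rw [adj_mul]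
  calc adj D N * adj D M * (M * N) = adj D N * (adj D M * M) * N := by
        simp only [Matrix.mul_assoc]
    _ = 1 := by rw [hM.2, Matrix.mul_one, hN.2]

theorem IsW.mul_adj {M : Matrix (Fin n) (Fin n) K} (hM : IsW D M) : M * adj D M = 1 :=
  mul_eq_one_comm.mp hM.2

theorem IsW.adj {M : Matrix (Fin n) (Fin n) K} (hM : IsW D M) : IsW D (adj D M) := by
  refine ⟨?_, ?_⟩
  · have h1 := congrArg Matrix.det hM.2
    rw [Matrix.det_mul, hM.1, mul_one, Matrix.det_one] at h1
    exact h1
  · rw [adj_adj]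
    exact hM.mul_adj

/-- the element of `WU` with a given matrix (junk value `1` for invalid matrices) -/
noncomputable def ofMat (M : Matrix (Fin n) (Fin n) K) : ↥(WU n D) := by
  classical
  exact if h : IsW D M then ⟨⟨M, h.1⟩, (mem_WU D).2 h.2⟩ else 1

theorem ofMat_val {M : Matrix (Fin n) (Fin n) K} (h : IsW D M) : (ofMat D M).1.1 = M := by
  unfold ofMat
  rw [dif_pos h]

theorem ext_val {g h : ↥(WU n D)} (e : g.1.1 = h.1.1) : g = h :=
  Subtype.ext (Subtype.ext e)

theorem ofMat_self (g : ↥(WU n D)) : ofMat D g.1.1 = g :=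
  ext_val D (ofMat_val D (isW_val D g))

theorem val_mul (g h : ↥(WU n D)) : (g * h).1.1 = g.1.1 * h.1.1 := rfl

theorem val_one : (1 : ↥(WU n D)).1.1 = 1 := rfl

theorem ofMat_mul {M N : Matrix (Fin n) (Fin n) K} (hM : IsW D M) (hN : IsW D N) :
    ofMat D (M * N) = ofMat D M * ofMat D N := by
  apply ext_val
  rw [ofMat_val D (hM.mul D hN), val_mul, ofMat_val D hM, ofMat_val D hN]

theorem ofMat_one : ofMat D (1 : Matrix (Fin n) (Fin n) K) = 1 :=
  ext_val D (ofMat_val D (isW_one D))

theorem val_inv (g : ↥(WU n D)) : (g⁻¹).1.1 = adj D g.1.1 := by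
  have h1 : (g⁻¹).1.1 * g.1.1 = 1 := by
    rw [← val_mul, inv_mul_cancel]
    rfl
  have h2 := (isW_val D g).mul_adj
  calc (g⁻¹).1.1 = (g⁻¹).1.1 * (g.1.1 * adj D g.1.1) := by rw [h2, Matrix.mul_one]
    _ = adj D g.1.1 := by rw [← Matrix.mul_assoc, h1, Matrix.one_mul]

theorem ofMat_inv {M : Matrix (Fin n) (Fin n) K} (hM : IsW D M) :
    (ofMat D M)⁻¹ = ofMat D (adj D M) := by
  apply ext_val
  rw [val_inv, ofMat_val D hM, ofMat_val D (hM.adj D)]

/-- the matrix of a conjugate, from a matrix identity -/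
theorem conj_val {g t : ↥(WU n D)} {M : Matrix (Fin n) (Fin n) K}
    (h : g.1.1 * t.1.1 = M * g.1.1) : (g * t * g⁻¹).1.1 = M := by
  rw [val_mul, val_mul, h, Matrix.mul_assoc, ← val_mul, mul_inv_cancel]
  exact Matrix.mul_one M

theorem val_pow (g : ↥(WU n D)) (k : ℕ) : (g ^ k).1.1 = g.1.1 ^ k := by
  induction k with
  | zero => rfl
  | succ k ih => rw [pow_succ, pow_succ, val_mul, ih]

end Cfsg.Agent.Helper25.SUU
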