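import Mathlib
import Cfsg.Agent.Helper25.SUUa

set_option autoImplicit false
set_option linter.unusedSimpArgs false
set_option linter.unusedSectionVars false
set_option linter.unusedVariables false

/-! Embedding small matrix algebras along index maps; root matrices of the Witt unitary group. -/

namespace Cfsg.Agent.Helper25.SUU

open Matrix
open Cfsg.Agent.Helper2.SUGen (Frob)

variable {n r : ℕ} {K : Type*} [Field K] {q : ℕ}

/-- the inclusion matrix of an index map -/
def Pm (K : Type*) [Field K] (ι : Fin r → Fin n) : Matrix (Fin n) (Fin r) K :=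
  fun x a => if x = ι a then 1 else 0

theorem Pm_t_mul {ι : Fin r → Fin n} (hι : Function.Injective ι) :
    (Pm K ι)ᵀ * Pm K ι = 1 := by
  ext a b
  rw [Matrix.mul_apply, Finset.sum_eq_single (ι a)]
  · simp only [Matrix.transpose_apply, Pm, if_true]
    by_cases h : a = b
    · subst h
      simp
    · have : ι a ≠ ι b := fun e => h (hι e)
      simp [Matrix.one_apply_ne h, this]
  · intro x _ hx
    simp [Pm, hx]
  · intro h
    exact absurd (Finset.mem_univ _) h

/-- the (non-unital) embedding of matrix algebras -/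
def emb (ι : Fin r → Fin n) (N : Matrix (Fin r) (Fin r) K) : Matrix (Fin n) (Fin n) K :=
  Pm K ι * N * (Pm K ι)ᵀ

theorem emb_add (ι : Fin r → Fin n) (M N : Matrix (Fin r) (Fin r) K) :
    emb ι (M + N) = emb ι M + emb ι N := by
  unfold emb
  rw [Matrix.mul_add, Matrix.add_mul]

theorem emb_zero (ι : Fin r → Fin n) : emb ι (0 : Matrix (Fin r) (Fin r) K) = 0 := by
  unfold emb
  rw [Matrix.mul_zero, Matrix.zero_mul]

theorem emb_mul {ι : Fin r → Fin n} (hι : Function.Injective ι) (M N : Matrix (Fin r) (Fin r) K) :
    emb ι (M * N) = emb ι M * emb ι N := by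
  unfold emb
  have : Pm K ι * M * (Pm K ι)ᵀ * (Pm K ι * N * (Pm K ι)ᵀ) =
      Pm K ι * M * ((Pm K ι)ᵀ * Pm K ι) * N * (Pm K ι)ᵀ := by
    simp only [Matrix.mul_assoc]
  rw [this, Pm_t_mul hι, Matrix.mul_one]
  simp only [Matrix.mul_assoc]

theorem emb_single (ι : Fin r → Fin n) (a b : Fin r) (c : K) :
    emb ι (Matrix.single a b c) = Matrix.single (ι a) (ι b) c := by
  ext x y
  unfold emb
  rw [Matrix.mul_apply, Finset.sum_eq_single b]
  · rw [Matrix.mul_single_apply_same, Matrix.single_apply]
    simp only [Pm, Matrix.transpose_apply]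
    by_cases hx : x = ι a <;> by_cases hy : y = ι b <;> simp [hx, hy, eq_comm]
  · intro k _ hk
    rw [Matrix.mul_single_apply_of_ne _ _ _ _ _ hk, zero_mul]
  · intro h
    exact absurd (Finset.mem_univ _) h

/-- the unital embedding -/
def emb1 (ι : Fin r → Fin n) (A : Matrix (Fin r) (Fin r) K) : Matrix (Fin n) (Fin n) K :=
  1 + emb ι (A - 1)

theorem emb1_one_add (ι : Fin r → Fin n) (N : Matrix (Fin r) (Fin r) K) :
    emb1 ι (1 + N) = 1 + emb ι N := by
  unfold emb1
  rw [add_sub_cancel_left]

theorem emb1_one (ι : Fin r → Fin n) : emb1 ι (1 : Matrix (Fin r) (Fin r) K) = 1 := by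
  unfold emb1
  rw [sub_self, emb_zero, add_zero]

theorem emb1_mul {ι : Fin r → Fin n} (hι : Function.Injective ι) (A B : Matrix (Fin r) (Fin r) K) :
    emb1 ι (A * B) = emb1 ι A * emb1 ι B := by
  unfold emb1
  have : A * B - 1 = (A - 1) + (B - 1) + (A - 1) * (B - 1) := by noncomm_ring
  rw [this, emb_add, emb_add, emb_mul hι]
  noncomm_ring

theorem ss_ne {a b c d : Fin n} (h : b ≠ c) (x y : K) :
    Matrix.single a b x * Matrix.single c d y = 0 :=
  Matrix.single_mul_single_of_ne _ _ _ _ h _

variable (D : Frob K q)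

/-- short root matrices -/
def xm (i j : Fin n) (c : K) : Matrix (Fin n) (Fin n) K :=
  1 + (Matrix.single i j c + Matrix.single j.rev i.rev (-(D.σ c)))

/-- long root matrices -/
def ym (i : Fin n) (c : K) : Matrix (Fin n) (Fin n) K := 1 + Matrix.single i i.rev c

/-- root matrices through the middle index -/
def zm (i μ : Fin n) (a b : K) : Matrix (Fin n) (Fin n) K :=
  1 + (Matrix.single i μ a + Matrix.single μ i.rev (-(D.σ a)) + Matrix.single i i.rev b)

theorem emb1_xm {ι : Fin r → Fin n} (hrev : ∀ a, ι a.rev = (ι a).rev) (a b : Fin r) (c : K) :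
    emb1 ι (xm D a b c) = xm D (ι a) (ι b) c := by
  unfold xm
  rw [emb1_one_add, emb_add, emb_single, emb_single, hrev, hrev]

theorem emb1_ym {ι : Fin r → Fin n} (hrev : ∀ a, ι a.rev = (ι a).rev) (a : Fin r) (c : K) :
    emb1 ι (ym a c) = ym (ι a) c := by
  unfold ym
  rw [emb1_one_add, emb_single, hrev]

theorem emb1_zm {ι : Fin r → Fin n} (hrev : ∀ a, ι a.rev = (ι a).rev) (a m : Fin r) (c d : K) :
    emb1 ι (zm D a m c d) = zm D (ι a) (ι m) c d := by
  unfold zm
  rw [emb1_one_add, emb_add, emb_add, emb_single, emb_single, emb_single, hrev]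

theorem sq_zero_aux {a b c d : Fin n} (h1 : b ≠ a) (h2 : b ≠ c) (h3 : d ≠ a) (h4 : d ≠ c)
    (x y x' y' : K) :
    (Matrix.single a b x + Matrix.single c d y) * (Matrix.single a b x' + Matrix.single c d y') = 0 := by
  rw [add_mul, mul_add, mul_add, ss_ne h1, ss_ne h2, ss_ne h3, ss_ne h4]
  simp

variable [Fintype K]

theorem isW_xm {i j : Fin n} (hij : i ≠ j) (hi : i ≠ i.rev) (hj : j ≠ j.rev) (c : K) :
    IsW D (xm D i j c) := by
  have hij' : j.rev ≠ i.rev := fun e => hij (Fin.rev_inj.mp e).symm
  refine ⟨?_, ?_⟩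
  · have e : xm D i j c = Matrix.transvection i j c * Matrix.transvection j.rev i.rev (-(D.σ c)) := by
      unfold xm Matrix.transvection
      have : (1 + Matrix.single i j c) * (1 + Matrix.single j.rev i.rev (-(D.σ c))) =
          1 + (Matrix.single i j c + Matrix.single j.rev i.rev (-(D.σ c))) +
            Matrix.single i j c * Matrix.single j.rev i.rev (-(D.σ c)) := by noncomm_ring
      rw [this, ss_ne hj, add_zero]
    rw [e, Matrix.det_mul, Matrix.det_transvection_of_ne _ _ hij,
      Matrix.det_transvection_of_ne _ _ hij', mul_one]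
  · have hN : adj D (Matrix.single i j c + Matrix.single j.rev i.rev (-(D.σ c))) =
        -(Matrix.single i j c + Matrix.single j.rev i.rev (-(D.σ c))) := by
      rw [adj_add, adj_single, adj_single, Fin.rev_rev, Fin.rev_rev, map_neg, D.invol, neg_add,
        Matrix.single_neg, Matrix.single_neg, neg_neg, add_comm]
    have hNN := sq_zero_aux hij.symm hj hi.symm hij'.symm c (-(D.σ c)) c (-(D.σ c))
    unfold xm
    rw [adj_add, adj_one, hN]
    calc (1 + -(Matrix.single i j c + Matrix.single j.rev i.rev (-(D.σ c)))) *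
          (1 + (Matrix.single i j c + Matrix.single j.rev i.rev (-(D.σ c))))
        = 1 - (Matrix.single i j c + Matrix.single j.rev i.rev (-(D.σ c))) *
          (Matrix.single i j c + Matrix.single j.rev i.rev (-(D.σ c))) := by noncomm_ring
      _ = 1 := by rw [hNN, sub_zero]

theorem isW_ym {i : Fin n} (hi : i ≠ i.rev) {c : K} (hc : D.σ c = -c) : IsW D (ym i c) := by
  refine ⟨?_, ?_⟩
  · exact Matrix.det_transvection_of_ne _ _ hi c
  · unfold ym
    rw [adj_add, adj_one, adj_single, Fin.rev_rev, hc]
    calc (1 + Matrix.single i i.rev (-c)) * (1 + Matrix.single i i.rev c)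
        = 1 + (Matrix.single i i.rev (-c) + Matrix.single i i.rev c) +
          Matrix.single i i.rev (-c) * Matrix.single i i.rev c := by noncomm_ring
      _ = 1 := by
        rw [ss_ne hi.symm, ← Matrix.single_add, neg_add_cancel, Matrix.single_zero, add_zero,
          add_zero]

theorem isW_zm {i μ : Fin n} (hi : i ≠ i.rev) (hμ : μ.rev = μ) {a b : K}
    (hab : b + D.σ b + a * D.σ a = 0) : IsW D (zm D i μ a b) := by
  have h1 : i.rev ≠ μ := by
    intro e
    apply hi
    calc i = i.rev.rev := (Fin.rev_rev i).symm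
      _ = μ.rev := by rw [e]
      _ = μ := hμ
      _ = i.rev := e.symm
  have h2 : μ ≠ i := by
    intro e
    apply hi
    rw [← e, hμ]
  refine ⟨?_, ?_⟩
  · have e : zm D i μ a b = Matrix.transvection i μ a * Matrix.transvection μ i.rev (-(D.σ a)) *
        Matrix.transvection i i.rev (b + a * D.σ a) := by
      unfold zm Matrix.transvection
      have : (1 + Matrix.single i μ a) * (1 + Matrix.single μ i.rev (-(D.σ a))) *
          (1 + Matrix.single i i.rev (b + a * D.σ a)) =
          1 + Matrix.single i μ a + Matrix.single μ i.rev (-(D.σ a)) +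
            Matrix.single i μ a * Matrix.single μ i.rev (-(D.σ a)) +
            Matrix.single i i.rev (b + a * D.σ a) +
            Matrix.single i μ a * Matrix.single i i.rev (b + a * D.σ a) +
            Matrix.single μ i.rev (-(D.σ a)) * Matrix.single i i.rev (b + a * D.σ a) +
            Matrix.single i μ a * (Matrix.single μ i.rev (-(D.σ a)) *
              Matrix.single i i.rev (b + a * D.σ a)) := by noncomm_ring
      rw [this, ss_ne h2, ss_ne hi.symm, Matrix.single_mul_single_same, Matrix.mul_zero]
      have e2 : Matrix.single i i.rev (a * -(D.σ a)) + Matrix.single i i.rev (b + a * D.σ a) =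
          Matrix.single i i.rev b := by
        rw [← Matrix.single_add]
        congr 1
        ring
      rw [add_zero, add_zero, add_zero, add_assoc (1 + Matrix.single i μ a + _), e2]
      simp only [add_assoc]
    rw [e, Matrix.det_mul, Matrix.det_mul, Matrix.det_transvection_of_ne _ _ h2.symm,
      Matrix.det_transvection_of_ne _ _ h1.symm, Matrix.det_transvection_of_ne _ _ hi, mul_one,
      mul_one]
  · unfold zm
    rw [adj_add, adj_one, adj_add, adj_add, adj_single, adj_single, adj_single, Fin.rev_rev, hμ,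
      map_neg, D.invol]
    have key : (Matrix.single μ i.rev (D.σ a) + Matrix.single i μ (-a) + Matrix.single i i.rev (D.σ b)) *
        (Matrix.single i μ a + Matrix.single μ i.rev (-(D.σ a)) + Matrix.single i i.rev b) =
        Matrix.single i i.rev (a * D.σ a) := by
      simp only [add_mul, mul_add, ss_ne hi.symm, ss_ne h1, ss_ne h2, Matrix.single_mul_single_same,
        add_zero, zero_add]
      congr 1
      ring
    calc (1 + (Matrix.single μ i.rev (D.σ a) + Matrix.single i μ (-a) + Matrix.single i i.rev (D.σ b))) *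
          (1 + (Matrix.single i μ a + Matrix.single μ i.rev (-(D.σ a)) + Matrix.single i i.rev b))
        = 1 + ((Matrix.single i μ a + Matrix.single i μ (-a)) +
            (Matrix.single μ i.rev (-(D.σ a)) + Matrix.single μ i.rev (D.σ a)) +
            (Matrix.single i i.rev b + Matrix.single i i.rev (D.σ b))) +
          (Matrix.single μ i.rev (D.σ a) + Matrix.single i μ (-a) + Matrix.single i i.rev (D.σ b)) *
          (Matrix.single i μ a + Matrix.single μ i.rev (-(D.σ a)) + Matrix.single i i.rev b) := by
          noncomm_ring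
      _ = 1 := by
        rw [key, ← Matrix.single_add, ← Matrix.single_add, ← Matrix.single_add, add_neg_cancel,
          neg_add_cancel, Matrix.single_zero, Matrix.single_zero, zero_add, zero_add, add_assoc,
          ← Matrix.single_add, hab, Matrix.single_zero, add_zero]

/-! ### triangularity -/

omit [Fintype K] in
/-- strictly upper triangular -/
def StrictUp (N : Matrix (Fin n) (Fin n) K) : Prop := ∀ i j, j ≤ i → N i j = 0

omit [Fintype K] in
theorem strictUp_single {a b : Fin n} (h : a < b) (c : K) : StrictUp (Matrix.single a b c) := by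
  intro i j hji
  rw [Matrix.single_apply, if_neg]
  rintro ⟨rfl, rfl⟩
  exact absurd h (not_lt.mpr hji)

omit [Fintype K] in
theorem StrictUp.add {M N : Matrix (Fin n) (Fin n) K} (hM : StrictUp M) (hN : StrictUp N) :
    StrictUp (M + N) := by
  intro i j hji
  rw [Matrix.add_apply, hM i j hji, hN i j hji, add_zero]

omit [Fintype K] in
theorem isUT_one_add {N : Matrix (Fin n) (Fin n) K} (hN : StrictUp N) : SLU.IsUT (1 + N) := by
  refine ⟨fun i j hji => ?_, fun i => ?_⟩
  · rw [Matrix.add_apply, hN i j hji.le, Matrix.one_apply_ne (ne_of_gt hji), add_zero]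
  · rw [Matrix.add_apply, hN i i le_rfl, Matrix.one_apply_eq, add_zero]

omit [Fintype K] in
theorem isUT_xm {i j : Fin n} (hij : i < j) (c : K) : SLU.IsUT (xm D i j c) :=
  isUT_one_add ((strictUp_single hij c).add (strictUp_single (Fin.rev_lt_rev.mpr hij) _))

omit [Fintype K] in
theorem isUT_ym {i : Fin n} (hi : i < i.rev) (c : K) : SLU.IsUT (ym i c) :=
  isUT_one_add (strictUp_single hi c)

omit [Fintype K] in
theorem isUT_zm {i μ : Fin n} (hi : i < μ) (hμ : μ.rev = μ) (a b : K) : SLU.IsUT (zm D i μ a b) := by
  have h1 : μ < i.rev := by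
    have := Fin.rev_lt_rev.mpr hi
    rwa [hμ] at this
  exact isUT_one_add (((strictUp_single hi a).add (strictUp_single h1 _)).add
    (strictUp_single (hi.trans h1) b))

omit [Fintype K] in
theorem isUT_xm_transpose {i j : Fin n} (hij : j < i) (c : K) : SLU.IsUT (xm D i j c)ᵀ := by
  unfold xm
  rw [Matrix.transpose_add, Matrix.transpose_one, Matrix.transpose_add, Matrix.transpose_single,
    Matrix.transpose_single]
  exact isUT_one_add ((strictUp_single hij c).add (strictUp_single (Fin.rev_lt_rev.mpr hij) _))

omit [Fintype K] in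
theorem isUT_ym_transpose {i : Fin n} (hi : i.rev < i) (c : K) : SLU.IsUT (ym i c)ᵀ := by
  unfold ym
  rw [Matrix.transpose_add, Matrix.transpose_one, Matrix.transpose_single]
  exact isUT_one_add (strictUp_single hi c)

omit [Fintype K] in
theorem isUT_zm_transpose {i μ : Fin n} (hi : μ < i) (hμ : μ.rev = μ) (a b : K) :
    SLU.IsUT (zm D i μ a b)ᵀ := by
  have h1 : i.rev < μ := by
    have := Fin.rev_lt_rev.mpr hi
    rwa [hμ] at this
  unfold zm
  rw [Matrix.transpose_add, Matrix.transpose_one, Matrix.transpose_add, Matrix.transpose_add,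
    Matrix.transpose_single, Matrix.transpose_single, Matrix.transpose_single]
  exact isUT_one_add (((strictUp_single hi a).add (strictUp_single h1 _)).add
    (strictUp_single (h1.trans hi) b))

omit [Fintype K] in
/-- unipotent triangular matrices have `p`-power order -/
theorem pow_eq_one_of_tri (p : ℕ) [Fact p.Prime] [CharP K p] {M : Matrix (Fin n) (Fin n) K}
    (h : SLU.IsUT M ∨ SLU.IsUT Mᵀ) : M ^ (p ^ n) = 1 := by
  have hm : n ≤ p ^ n := (Nat.lt_pow_self (Fact.out : p.Prime).one_lt).le
  rcases h with h | h
  · exact SLU.pow_eq_one_of_isUT p h hm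
  · have := SLU.pow_eq_one_of_isUT p h hm
    rw [← Matrix.transpose_pow] at this
    have h2 := congrArg Matrix.transpose this
    rwa [Matrix.transpose_transpose, Matrix.transpose_one] at h2

end Cfsg.Agent.Helper25.SUU
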