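import Mathlib
import Cfsg.Agent.Helper25.SUUb
import Cfsg.Agent.Helper25.SpUC

set_option autoImplicit false
set_option linter.unusedSimpArgs false
set_option linter.unusedSectionVars false
set_option linter.unusedVariables false

/-! The unitriangular subgroup of the Witt unitary group is a Sylow `p`-subgroup with the upper
triangular subgroup as normalizer. -/

namespace Cfsg.Agent.Helper25.SUU

open Matrix
open Cfsg.Agent.Helper2.SUGen (Frob)

variable {n : ℕ} {K : Type*} [Field K] [Fintype K] {q : ℕ} (D : Frob K q)

/-- the unitriangular subgroup -/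
def uniW (n : ℕ) {K : Type*} [Field K] [Fintype K] {q : ℕ} (D : Frob K q) : Subgroup ↥(WU n D) := (SLU.unitri n K).subgroupOf (WU n D)

/-- the upper triangular subgroup -/
def borW (n : ℕ) {K : Type*} [Field K] [Fintype K] {q : ℕ} (D : Frob K q) : Subgroup ↥(WU n D) := (SLU.upTri n K).subgroupOf (WU n D)

theorem mem_uniW {g : ↥(WU n D)} : g ∈ uniW n D ↔ SLU.IsUT g.1.1 := Iff.rfl

theorem mem_borW {g : ↥(WU n D)} : g ∈ borW n D ↔ SLU.IsUp g.1.1 := Iff.rfl

theorem uniW_le_borW : uniW n D ≤ borW n D := fun _ hg => hg.1

theorem ofMat_mem_uniW {M : Matrix (Fin n) (Fin n) K} (hM : IsW D M) (hU : SLU.IsUT M) :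
    ofMat D M ∈ uniW n D := by
  rw [mem_uniW, ofMat_val D hM]
  exact hU

theorem isPGroup_uniW (p : ℕ) [Fact p.Prime] [CharP K p] : IsPGroup p (uniW n D) := by
  intro g
  refine ⟨n, ?_⟩
  apply Subtype.ext
  apply ext_val
  show ((g : ↥(WU n D)) ^ (p ^ n)).1.1 = 1
  rw [val_pow]
  exact pow_eq_one_of_tri p (Or.inl g.2)

theorem borW_le_normalizer :
    borW n D ≤ Subgroup.normalizer (uniW n D : Set ↥(WU n D)) := by
  intro g hg
  rw [Subgroup.mem_normalizer_iff]
  intro u
  exact Subgroup.mem_normalizer_iff.mp (SLU.upTri_le_normalizer hg) u.1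

theorem normalizer_uniW_le :
    Subgroup.normalizer (uniW n D : Set ↥(WU n D)) ≤ borW n D := by
  obtain ⟨c, hc0, hc⟩ := Cfsg.Agent.Helper2.SUGen.exists_skew D
  obtain ⟨b₀, hb₀⟩ := Cfsg.Agent.Helper2.SUGen.exists_trace D (-1) (by rw [map_neg, map_one])
  have hb₀' : b₀ + D.σ b₀ + 1 * D.σ 1 = 0 := by rw [hb₀, map_one]; ring
  intro g hg
  rw [mem_borW]
  have hconj : ∀ t ∈ uniW n D, ∃ u' ∈ uniW n D, t * g = g * u' := by
    intro t ht
    refine ⟨g⁻¹ * t * g, ?_, by group⟩
    apply (Subgroup.mem_normalizer_iff.mp hg (g⁻¹ * t * g)).mpr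
    have e : g * (g⁻¹ * t * g) * g⁻¹ = t := by group
    rw [e]
    exact ht
  have key : ∀ m : ℕ, ∀ j : Fin n, j.val = m → ∀ a, j < a → g.1.1 a j = 0 := by
    intro m
    induction m using Nat.strong_induction_on with
    | _ m ih =>
      intro j hjm
      have IH : ∀ b : Fin n, b < j → ∀ a, b < a → g.1.1 a b = 0 := by
        intro b hb a hba
        exact ih b.val (by rw [← hjm]; exact Fin.lt_def.mp hb) b rfl a hba
      have col : ∀ t ∈ uniW n D, (t.1.1 * g.1.1) j j = g.1.1 j j := by
        intro t ht
        obtain ⟨u', hu'', e⟩ := hconj t ht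
        have hu' : SLU.IsUT u'.1.1 := hu''
        have e' : t.1.1 * g.1.1 = g.1.1 * u'.1.1 := by
          rw [← val_mul, ← val_mul, e]
        rw [e', Matrix.mul_apply, Finset.sum_eq_single j]
        · rw [hu'.2 j, mul_one]
        · intro l _ hl
          rcases lt_or_gt_of_ne hl with h | h
          · rw [IH l h j h, zero_mul]
          · rw [hu'.1 l j h, mul_zero]
        · intro h
          exact absurd (Finset.mem_univ _) h
      have hA : j < j.rev → g.1.1 j.rev j = 0 := by
        intro hj
        have hW := isW_ym D (ne_of_lt hj) hc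
        have h1 := col _ (ofMat_mem_uniW D hW (isUT_ym hj c))
        rw [ofMat_val D hW, ym, Matrix.add_mul, Matrix.one_mul, Matrix.add_apply,
          Matrix.single_mul_apply_same] at h1
        have h2 : c * g.1.1 j.rev j = 0 := by
          have := h1
          linear_combination this
        rcases mul_eq_zero.mp h2 with h | h
        · exact absurd h hc0
        · exact h
      intro a hja
      by_cases h1 : a = j.rev
      · rw [h1]
        apply hA
        rw [← h1]
        exact hja
      by_cases h2 : j.rev = j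
      · -- j is the middle index
        have ha : a.rev < j := by
          have := Fin.rev_lt_rev.mpr hja
          rwa [h2] at this
        have hne : a.rev ≠ a.rev.rev := by
          rw [Fin.rev_rev]
          exact ne_of_lt (ha.trans hja)
        have hW := isW_zm D hne h2 hb₀'
        have h3 := col _ (ofMat_mem_uniW D hW (isUT_zm D ha h2 1 b₀))
        rw [ofMat_val D hW, zm, Matrix.add_mul, Matrix.one_mul, Matrix.add_apply, Matrix.add_mul,
          Matrix.add_mul, Matrix.add_apply, Matrix.add_apply, Fin.rev_rev,
          Matrix.single_mul_apply_of_ne _ _ _ _ _ (ne_of_gt ha),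
          Matrix.single_mul_apply_of_ne _ _ _ _ _ (ne_of_gt ha),
          Matrix.single_mul_apply_same, map_one] at h3
        linear_combination -h3
      by_cases h3 : a.rev = a
      · -- a is the middle index
        have hj : j < j.rev := by
          have := Fin.rev_lt_rev.mpr hja
          rw [h3] at this
          exact hja.trans this
        have hW := isW_zm D (ne_of_lt hj) h3 hb₀'
        have h4 := col _ (ofMat_mem_uniW D hW (isUT_zm D hja h3 1 b₀))
        rw [ofMat_val D hW, zm, Matrix.add_mul, Matrix.one_mul, Matrix.add_apply, Matrix.add_mul,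
          Matrix.add_mul, Matrix.add_apply, Matrix.add_apply,
          Matrix.single_mul_apply_of_ne _ _ _ _ _ (ne_of_lt hja),
          Matrix.single_mul_apply_same, Matrix.single_mul_apply_same, hA hj] at h4
        linear_combination h4
      · have hW := isW_xm D (ne_of_lt hja) (fun e => h2 e.symm) (fun e => h3 e.symm) 1
        have h4 := col _ (ofMat_mem_uniW D hW (isUT_xm D hja 1))
        have hne : j ≠ a.rev := by
          intro e
          apply h1
          rw [e, Fin.rev_rev]
        rw [ofMat_val D hW, xm, Matrix.add_mul, Matrix.one_mul, Matrix.add_apply, Matrix.add_mul,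
          Matrix.add_apply, Matrix.single_mul_apply_of_ne _ _ _ _ _ hne,
          Matrix.single_mul_apply_same] at h4
        linear_combination h4
  intro i j hji
  exact key j.val j rfl i hji

theorem exists_sylow_uniW (p : ℕ) [Fact p.Prime] [CharP K p] :
    ∃ P : Sylow p ↥(WU n D), (P : Subgroup ↥(WU n D)) = uniW n D := by
  apply SpU.exists_sylow_of_normalizer p (uniW n D) (isPGroup_uniW D p)
  intro x hx k hk
  have hxb : x.1 ∈ SLU.upTri n K := normalizer_uniW_le D hx
  have h1 : x.1 ^ (p ^ k) = 1 := by
    have := congrArg Subtype.val hk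
    rwa [Subgroup.coe_pow] at this
  exact SLU.mem_unitri_of_pow p hxb h1

end Cfsg.Agent.Helper25.SUU
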