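import Mathlib
import Cfsg.Agent.Helper25.SUUc
import Cfsg.Agent.Helper25.SLUnitriC

set_option autoImplicit false
set_option linter.unusedSimpArgs false
set_option linter.unusedSectionVars false
set_option linter.unusedVariables false

/-! Radical subgroups of the Witt unitary group, their parabolic normalizers, and matrices
commuting with root elements. -/

namespace Cfsg.Agent.Helper25.SUU

open Matrix
open Cfsg.Agent.Helper2.SUGen (Frob)

variable {n : ℕ} {K : Type*} [Field K] {q : ℕ}

/-- positions of the `k`-th radical -/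
def InS (k : ℕ) (i j : Fin n) : Prop :=
  (i.val < k ∧ k ≤ j.val) ∨ (i.val < n - k ∧ n - k ≤ j.val)

/-- zero positions of the `k`-th parabolic -/
def ZR (k : ℕ) (i j : Fin n) : Prop :=
  (j.val < k ∧ k ≤ i.val) ∨ (j.val < n - k ∧ n - k ≤ i.val)

/-- supported on the radical positions -/
def SuppS (k : ℕ) (A : Matrix (Fin n) (Fin n) K) : Prop := ∀ i j, ¬ InS k i j → A i j = 0

/-- block upper triangular shape -/
def PShape (k : ℕ) (M : Matrix (Fin n) (Fin n) K) : Prop := ∀ i j, ZR k i j → M i j = 0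

theorem SuppS.mul {k : ℕ} (h2k : 2 * k ≤ n) {A B : Matrix (Fin n) (Fin n) K}
    (hA : SuppS k A) (hB : SuppS k B) : SuppS k (A * B) := by
  intro i j hij
  rw [Matrix.mul_apply]
  apply Finset.sum_eq_zero
  intro l _
  by_cases h1 : InS k i l
  · by_cases h2 : InS k l j
    · exfalso
      apply hij
      unfold InS at *
      omega
    · rw [hB l j h2, mul_zero]
  · rw [hA i l h1, zero_mul]

theorem SuppS.add {k : ℕ} {A B : Matrix (Fin n) (Fin n) K}
    (hA : SuppS k A) (hB : SuppS k B) : SuppS k (A + B) := by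
  intro i j hij
  rw [Matrix.add_apply, hA i j hij, hB i j hij, add_zero]

theorem suppS_zero {k : ℕ} : SuppS k (0 : Matrix (Fin n) (Fin n) K) := fun _ _ _ => rfl

theorem suppS_single {k : ℕ} {a b : Fin n} (h : InS k a b) (c : K) :
    SuppS k (Matrix.single a b c) := by
  intro i j hij
  rw [Matrix.single_apply, if_neg]
  rintro ⟨rfl, rfl⟩
  exact hij h

theorem pshape_one {k : ℕ} : PShape k (1 : Matrix (Fin n) (Fin n) K) := by
  intro i j hij
  apply Matrix.one_apply_ne
  intro e
  subst e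
  unfold ZR at hij
  omega

theorem PShape.add {k : ℕ} {A B : Matrix (Fin n) (Fin n) K}
    (hA : PShape k A) (hB : PShape k B) : PShape k (A + B) := by
  intro i j hij
  rw [Matrix.add_apply, hA i j hij, hB i j hij, add_zero]

theorem pshape_single {k : ℕ} {a b : Fin n} (h : ¬ ZR k a b) (c : K) :
    PShape k (Matrix.single a b c) := by
  intro i j hij
  rw [Matrix.single_apply, if_neg]
  rintro ⟨rfl, rfl⟩
  exact h hij

theorem PShape.mul {k : ℕ} {A B : Matrix (Fin n) (Fin n) K}
    (hA : PShape k A) (hB : PShape k B) : PShape k (A * B) := by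
  intro i j hij
  rw [Matrix.mul_apply]
  apply Finset.sum_eq_zero
  intro l _
  by_cases h1 : ZR k i l
  · rw [hA i l h1, zero_mul]
  · by_cases h2 : ZR k l j
    · rw [hB l j h2, mul_zero]
    · exfalso
      unfold ZR at *
      omega

theorem SuppS.conj {k : ℕ} {G A H : Matrix (Fin n) (Fin n) K}
    (hG : PShape k G) (hA : SuppS k A) (hH : PShape k H) : SuppS k (G * A * H) := by
  intro i j hij
  rw [Matrix.mul_apply]
  apply Finset.sum_eq_zero
  intro b _
  rw [Matrix.mul_apply, Finset.sum_mul]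
  apply Finset.sum_eq_zero
  intro a _
  by_cases h1 : ZR k i a
  · rw [hG i a h1, zero_mul, zero_mul]
  · by_cases h2 : InS k a b
    · by_cases h3 : ZR k b j
      · rw [hH b j h3, mul_zero]
      · exfalso
        apply hij
        unfold ZR InS at *
        omega
    · rw [hA a b h2, mul_zero, zero_mul]

theorem SuppS.isUT {k : ℕ} {M : Matrix (Fin n) (Fin n) K} (h : SuppS k (M - 1)) : SLU.IsUT M := by
  refine ⟨fun i j hji => ?_, fun i => ?_⟩
  · have h1 : ¬ InS k i j := by
      have := Fin.lt_def.mp hji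
      unfold InS
      omega
    have := h i j h1
    rw [Matrix.sub_apply, Matrix.one_apply_ne (ne_of_gt hji), sub_zero] at this
    exact this
  · have h1 : ¬ InS k i i := by
      unfold InS
      omega
    have := h i i h1
    rw [Matrix.sub_apply, Matrix.one_apply_eq, sub_eq_zero] at this
    exact this

variable [Fintype K] (D : Frob K q)

/-- the `k`-th radical subgroup -/
def radW (n : ℕ) {K : Type*} [Field K] [Fintype K] {q : ℕ} (D : Frob K q) (k : ℕ) (h2k : 2 * k ≤ n) :
    Subgroup ↥(WU n D) :=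
  SLU.subgroupOfMul {g | SuppS k (g.1.1 - 1)}
    (by
      show SuppS k ((1 : ↥(WU n D)).1.1 - 1)
      rw [val_one, sub_self]
      exact suppS_zero)
    (by
      intro a b ha hb
      show SuppS k ((a * b).1.1 - 1)
      have ha' : SuppS k (a.1.1 - 1) := ha
      have hb' : SuppS k (b.1.1 - 1) := hb
      have e : (a * b).1.1 - 1 = (a.1.1 - 1) + (b.1.1 - 1) + (a.1.1 - 1) * (b.1.1 - 1) := by
        rw [val_mul]
        noncomm_ring
      rw [e]
      exact (ha'.add hb').add (ha'.mul h2k hb'))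

/-- the `k`-th parabolic subgroup -/
def parW (n : ℕ) {K : Type*} [Field K] [Fintype K] {q : ℕ} (D : Frob K q) (k : ℕ) :
    Subgroup ↥(WU n D) :=
  SLU.subgroupOfMul {g | PShape k g.1.1}
    (by
      show PShape k (1 : ↥(WU n D)).1.1
      rw [val_one]
      exact pshape_one)
    (by
      intro a b ha hb
      show PShape k (a * b).1.1
      rw [val_mul]
      exact PShape.mul ha hb)

theorem mem_radW {k : ℕ} {h2k : 2 * k ≤ n} {g : ↥(WU n D)} :
    g ∈ radW n D k h2k ↔ SuppS k (g.1.1 - 1) := SLU.mem_subgroupOfMul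

theorem mem_parW {k : ℕ} {g : ↥(WU n D)} : g ∈ parW n D k ↔ PShape k g.1.1 :=
  SLU.mem_subgroupOfMul

theorem radW_le_uniW {k : ℕ} (h2k : 2 * k ≤ n) : radW n D k h2k ≤ uniW n D := by
  intro g hg
  rw [mem_uniW]
  exact ((mem_radW D).mp hg).isUT

theorem parW_le_normalizer_radW {k : ℕ} (h2k : 2 * k ≤ n) :
    parW n D k ≤ Subgroup.normalizer (radW n D k h2k : Set ↥(WU n D)) := by
  have key : ∀ g ∈ parW n D k, ∀ r ∈ radW n D k h2k, g * r * g⁻¹ ∈ radW n D k h2k := by
    intro g hg r hr
    rw [mem_radW]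
    have hgi : g⁻¹ ∈ parW n D k := inv_mem hg
    have e : (g * r * g⁻¹).1.1 - 1 = g.1.1 * (r.1.1 - 1) * (g⁻¹).1.1 := by
      have h1 : g.1.1 * (g⁻¹).1.1 = 1 := by
        rw [← val_mul, mul_inv_cancel]
        rfl
      rw [val_mul, val_mul, Matrix.mul_sub, Matrix.sub_mul, Matrix.mul_one, h1]
    rw [e]
    exact SuppS.conj ((mem_parW D).mp hg) ((mem_radW D).mp hr) ((mem_parW D).mp hgi)
  intro g hg
  rw [Subgroup.mem_normalizer_iff]
  intro u
  constructor
  · exact key g hg u
  · intro hu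
    have := key g⁻¹ (inv_mem hg) _ hu
    have e : g⁻¹ * (g * u * g⁻¹) * g⁻¹⁻¹ = u := by group
    rwa [e] at this

/-! ### commuting with root matrices -/

omit [Fintype K] in
theorem single_eq_smul (a b : Fin n) (c : K) :
    Matrix.single a b c = c • Matrix.single a b (1 : K) := by
  rw [Matrix.smul_single, smul_eq_mul, mul_one]

omit [Fintype K] in
theorem comm_single_x {M : Matrix (Fin n) (Fin n) K} {i j : Fin n} {ζ : K} (hζ : D.σ ζ ≠ ζ)
    (h1 : M * xm D i j 1 = xm D i j 1 * M) (h2 : M * xm D i j ζ = xm D i j ζ * M) :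
    M * Matrix.single i j 1 = Matrix.single i j 1 * M := by
  unfold xm at h1 h2
  rw [Matrix.mul_add, Matrix.add_mul, Matrix.mul_one, Matrix.one_mul] at h1 h2
  have h1' := add_left_cancel h1
  have h2' := add_left_cancel h2
  rw [map_one, single_eq_smul j.rev i.rev (-1)] at h1'
  rw [single_eq_smul i j ζ, single_eq_smul j.rev i.rev (-(D.σ ζ))] at h2'
  have hX : (ζ - D.σ ζ) • (M * Matrix.single i j 1 - Matrix.single i j 1 * M) = 0 := by
    have e : (ζ - D.σ ζ) • (M * Matrix.single i j (1 : K) - Matrix.single i j 1 * M) =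
        (M * (ζ • Matrix.single i j (1 : K) + (-(D.σ ζ)) • Matrix.single j.rev i.rev (1 : K)) -
          (ζ • Matrix.single i j (1 : K) + (-(D.σ ζ)) • Matrix.single j.rev i.rev (1 : K)) * M) -
        (D.σ ζ) • (M * (Matrix.single i j (1 : K) + (-1 : K) • Matrix.single j.rev i.rev (1 : K)) -
          (Matrix.single i j (1 : K) + (-1 : K) • Matrix.single j.rev i.rev (1 : K)) * M) := by
      simp only [Matrix.mul_add, Matrix.add_mul, Matrix.mul_smul, Matrix.smul_mul]
      module
    rw [e, h2', h1', sub_self, sub_self, smul_zero, sub_zero]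
  rcases smul_eq_zero.mp hX with h | h
  · exact absurd (sub_eq_zero.mp h).symm hζ
  · exact sub_eq_zero.mp h

omit [Fintype K] in
theorem comm_single_y {M : Matrix (Fin n) (Fin n) K} {i : Fin n} {c : K} (hc : c ≠ 0)
    (h : M * ym i c = ym i c * M) :
    M * Matrix.single i i.rev 1 = Matrix.single i i.rev 1 * M := by
  unfold ym at h
  rw [Matrix.mul_add, Matrix.add_mul, Matrix.mul_one, Matrix.one_mul] at h
  have h' := add_left_cancel h
  rw [single_eq_smul i i.rev c, Matrix.mul_smul, Matrix.smul_mul] at h'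
  exact smul_right_injective _ hc h'

omit [Fintype K] in
theorem comm_single_z {M : Matrix (Fin n) (Fin n) K} {i μ : Fin n} {ζ b₁ b₂ : K}
    (hζ : D.σ ζ ≠ ζ) (hy : M * Matrix.single i i.rev 1 = Matrix.single i i.rev 1 * M)
    (h1 : M * zm D i μ 1 b₁ = zm D i μ 1 b₁ * M) (h2 : M * zm D i μ ζ b₂ = zm D i μ ζ b₂ * M) :
    M * Matrix.single i μ 1 = Matrix.single i μ 1 * M := by
  unfold zm at h1 h2
  rw [Matrix.mul_add, Matrix.add_mul, Matrix.mul_one, Matrix.one_mul] at h1 h2
  have h1' := add_left_cancel h1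
  have h2' := add_left_cancel h2
  rw [map_one, single_eq_smul μ i.rev (-1), single_eq_smul i i.rev b₁] at h1'
  rw [single_eq_smul i μ ζ, single_eq_smul μ i.rev (-(D.σ ζ)), single_eq_smul i i.rev b₂] at h2'
  have hX : (ζ - D.σ ζ) • (M * Matrix.single i μ 1 - Matrix.single i μ 1 * M) = 0 := by
    have e : (ζ - D.σ ζ) • (M * Matrix.single i μ (1 : K) - Matrix.single i μ 1 * M) =
        (M * (ζ • Matrix.single i μ (1 : K) + (-(D.σ ζ)) • Matrix.single μ i.rev (1 : K) +
            b₂ • Matrix.single i i.rev (1 : K)) -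
          (ζ • Matrix.single i μ (1 : K) + (-(D.σ ζ)) • Matrix.single μ i.rev (1 : K) +
            b₂ • Matrix.single i i.rev (1 : K)) * M) -
        (D.σ ζ) • (M * (Matrix.single i μ (1 : K) + (-1 : K) • Matrix.single μ i.rev (1 : K) +
            b₁ • Matrix.single i i.rev (1 : K)) -
          (Matrix.single i μ (1 : K) + (-1 : K) • Matrix.single μ i.rev (1 : K) +
            b₁ • Matrix.single i i.rev (1 : K)) * M) -
        (b₂ - D.σ ζ * b₁) • (M * Matrix.single i i.rev (1 : K) - Matrix.single i i.rev 1 * M) := by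
      simp only [Matrix.mul_add, Matrix.add_mul, Matrix.mul_smul, Matrix.smul_mul]
      module
    rw [e, h2', h1', hy, sub_self, sub_self, sub_self, smul_zero, smul_zero, sub_zero, sub_zero]
  rcases smul_eq_zero.mp hX with h | h
  · exact absurd (sub_eq_zero.mp h).symm hζ
  · exact sub_eq_zero.mp h

omit [Fintype K] in
theorem exists_not_fixed : ∃ ζ : K, D.σ ζ ≠ ζ := by
  by_contra h
  push Not at h
  exact D.ne_id (RingHom.ext h)

/-- an element centralizing enough root elements commutes with an elementary matrix -/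
theorem comm_E_of_centralizer {R : Subgroup ↥(WU n D)} {y : ↥(WU n D)}
    (hy : ∀ r ∈ R, r * y = y * r) {i j : Fin n} (hij : i ≠ j) (hi : i ≠ i.rev)
    (hx : j ≠ i.rev → j.rev ≠ j → ∀ c, ofMat D (xm D i j c) ∈ R)
    (hyy : ∀ c, D.σ c = -c → ofMat D (ym i c) ∈ R)
    (hz : j.rev = j → ∀ a b, b + D.σ b + a * D.σ a = 0 → ofMat D (zm D i j a b) ∈ R) :
    y.1.1 * Matrix.single i j 1 = Matrix.single i j 1 * y.1.1 := by
  obtain ⟨ζ, hζ⟩ := exists_not_fixed D
  obtain ⟨c, hc0, hc⟩ := Cfsg.Agent.Helper2.SUGen.exists_skew D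
  have comm : ∀ {N : Matrix (Fin n) (Fin n) K}, IsW D N → ofMat D N ∈ R → y.1.1 * N = N * y.1.1 := by
    intro N hN hR
    have := hy _ hR
    have h2 := congrArg (fun g : ↥(WU n D) => g.1.1) this
    simp only [val_mul, ofMat_val D hN] at h2
    exact h2.symm
  have hY : y.1.1 * Matrix.single i i.rev 1 = Matrix.single i i.rev 1 * y.1.1 :=
    comm_single_y hc0 (comm (isW_ym D hi hc) (hyy c hc))
  by_cases h1 : j = i.rev
  · rw [h1]
    exact hY
  by_cases h2 : j.rev = j
  · obtain ⟨b₁, hb₁⟩ := Cfsg.Agent.Helper2.SUGen.exists_trace D (-(1 * D.σ 1)) (by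
      rw [map_neg, map_mul, D.invol, mul_comm])
    obtain ⟨b₂, hb₂⟩ := Cfsg.Agent.Helper2.SUGen.exists_trace D (-(ζ * D.σ ζ)) (by
      rw [map_neg, map_mul, D.invol, mul_comm])
    have hb₁' : b₁ + D.σ b₁ + 1 * D.σ 1 = 0 := by rw [hb₁]; ring
    have hb₂' : b₂ + D.σ b₂ + ζ * D.σ ζ = 0 := by rw [hb₂]; ring
    exact comm_single_z D hζ hY (comm (isW_zm D hi h2 hb₁') (hz h2 _ _ hb₁'))
      (comm (isW_zm D hi h2 hb₂') (hz h2 _ _ hb₂'))
  · have hj : j ≠ j.rev := fun e => h2 e.symm
    exact comm_single_x D hζ (comm (isW_xm D hij hi hj 1) (hx h1 h2 1))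
      (comm (isW_xm D hij hi hj ζ) (hx h1 h2 ζ))

end Cfsg.Agent.Helper25.SUU
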