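import Mathlib
import Cfsg.Agent.Helper25.SUUd

set_option autoImplicit false
set_option linter.unusedSimpArgs false
set_option linter.unusedSectionVars false
set_option linter.unusedVariables false

/-! Centralizers of the radicals and of `U` in the Witt unitary group. -/

namespace Cfsg.Agent.Helper25.SUU

open Matrix
open Cfsg.Agent.Helper2.SUGen (Frob)

variable {n : ℕ} {K : Type*} [Field K] [Fintype K] {q : ℕ} (D : Frob K q)

theorem val_pow_SL (y : ↥(WU n D)) (m : ℕ) : (y ^ m).1 = y.1 ^ m := Subgroup.coe_pow _ _ _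

/-- the first radical contains the `p`-elements of its centralizer -/
theorem mem_radW_one_of_centralizer (p : ℕ) [Fact p.Prime] [CharP K p] (hn : 2 ≤ n)
    {i0 : Fin n} (h0 : i0.val = 0) {y : ↥(WU n D)}
    (hy : ∀ r ∈ radW n D 1 (by omega), r * y = y * r) {m : ℕ} (hp : y ^ (p ^ m) = 1) :
    y ∈ radW n D 1 (by omega) := by
  have hr0 : i0.rev.val = n - 1 := by rw [Fin.val_rev, h0]
  have hi0 : i0 ≠ i0.rev := by
    intro e
    have := congrArg Fin.val e
    omega
  have hE : ∀ j, j ≠ i0 → y.1.1 * Matrix.single i0 j 1 = Matrix.single i0 j 1 * y.1.1 := by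
    intro j hj
    have hj0 : j.val ≠ 0 := fun e => hj (Fin.ext (by omega))
    have hjr : j.rev.val = n - (j.val + 1) := Fin.val_rev j
    have hjl := j.isLt
    apply comm_E_of_centralizer D hy (Ne.symm hj) hi0
    · intro h1 h2 c
      rw [mem_radW, ofMat_val D (isW_xm D (Ne.symm hj) hi0 (fun e => h2 e.symm) c), xm,
        add_sub_cancel_left]
      refine (suppS_single (Or.inl ⟨by omega, by omega⟩) c).add
        (suppS_single (Or.inr ⟨by omega, by omega⟩) _)
    · intro c hc
      rw [mem_radW, ofMat_val D (isW_ym D hi0 hc), ym, add_sub_cancel_left]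
      exact suppS_single (Or.inl ⟨by omega, by omega⟩) c
    · intro h2 a b hab
      rw [mem_radW, ofMat_val D (isW_zm D hi0 h2 hab), zm, add_sub_cancel_left]
      refine ((suppS_single (Or.inl ⟨by omega, by omega⟩) a).add
        (suppS_single (Or.inr ⟨by omega, by omega⟩) _)).add
        (suppS_single (Or.inl ⟨by omega, by omega⟩) b)
  have hrow : ∀ a, a ≠ i0 → ∀ b, b ≠ a → y.1.1 a b = 0 := fun a ha b hb =>
    (SLU.entries_of_comm (hE a ha)).2.1 b hb
  have hup : y.1 ∈ SLU.upTri n K := by
    intro a b hba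
    apply hrow a _ b (ne_of_lt hba)
    intro e
    have := Fin.lt_def.mp hba
    rw [e] at this
    omega
  have hut : SLU.IsUT y.1.1 := SLU.mem_unitri_of_pow p hup (by rw [← val_pow_SL, hp]; rfl)
  rw [mem_radW]
  intro a b hab
  rw [Matrix.sub_apply]
  by_cases hba : b = a
  · rw [hba, hut.2 a, Matrix.one_apply_eq, sub_self]
  · rw [Matrix.one_apply_ne (Ne.symm hba), sub_zero]
    by_cases ha : a = i0
    · exfalso
      apply hab
      left
      have hb0 : b.val ≠ 0 := fun e => hba (Fin.ext (by rw [e, ha, h0]))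
      rw [ha, h0]
      omega
    · exact hrow a ha b hba

/-- the second radical contains the `p`-elements of its centralizer -/
theorem mem_radW_two_of_centralizer (p : ℕ) [Fact p.Prime] [CharP K p] (hn : 4 ≤ n)
    {i0 i1 : Fin n} (h0 : i0.val = 0) (h1 : i1.val = 1) {y : ↥(WU n D)}
    (hy : ∀ r ∈ radW n D 2 (by omega), r * y = y * r) {m : ℕ} (hp : y ^ (p ^ m) = 1) :
    y ∈ radW n D 2 (by omega) := by
  have hr0 : i0.rev.val = n - 1 := by rw [Fin.val_rev, h0]
  have hr1 : i1.rev.val = n - 2 := by rw [Fin.val_rev, h1]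
  have hi0 : i0 ≠ i0.rev := by
    intro e
    have := congrArg Fin.val e
    omega
  have hi1 : i1 ≠ i1.rev := by
    intro e
    have := congrArg Fin.val e
    omega
  have hE0 : ∀ j : Fin n, 2 ≤ j.val →
      y.1.1 * Matrix.single i0 j 1 = Matrix.single i0 j 1 * y.1.1 := by
    intro j hj
    have hjr : j.rev.val = n - (j.val + 1) := Fin.val_rev j
    have hjl := j.isLt
    have hne : i0 ≠ j := fun e => by rw [← e, h0] at hj; omega
    apply comm_E_of_centralizer D hy hne hi0
    · intro h1' h2 c
      rw [mem_radW, ofMat_val D (isW_xm D hne hi0 (fun e => h2 e.symm) c), xm,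
        add_sub_cancel_left]
      refine (suppS_single (Or.inl ⟨by omega, by omega⟩) c).add
        (suppS_single (Or.inr ⟨by omega, by omega⟩) _)
    · intro c hc
      rw [mem_radW, ofMat_val D (isW_ym D hi0 hc), ym, add_sub_cancel_left]
      exact suppS_single (Or.inl ⟨by omega, by omega⟩) c
    · intro h2 a b hab
      have hmid : 2 * j.val + 1 = n := by
        have := congrArg Fin.val h2
        omega
      rw [mem_radW, ofMat_val D (isW_zm D hi0 h2 hab), zm, add_sub_cancel_left]
      refine ((suppS_single (Or.inl ⟨by omega, by omega⟩) a).add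
        (suppS_single (Or.inr ⟨by omega, by omega⟩) _)).add
        (suppS_single (Or.inl ⟨by omega, by omega⟩) b)
  have hE1 : ∀ j : Fin n, 2 ≤ j.val →
      y.1.1 * Matrix.single i1 j 1 = Matrix.single i1 j 1 * y.1.1 := by
    intro j hj
    have hjr : j.rev.val = n - (j.val + 1) := Fin.val_rev j
    have hjl := j.isLt
    have hne : i1 ≠ j := fun e => by rw [← e, h1] at hj; omega
    apply comm_E_of_centralizer D hy hne hi1
    · intro h1' h2 c
      rw [mem_radW, ofMat_val D (isW_xm D hne hi1 (fun e => h2 e.symm) c), xm,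
        add_sub_cancel_left]
      refine (suppS_single (Or.inl ⟨by omega, by omega⟩) c).add
        (suppS_single (Or.inr ⟨by omega, by omega⟩) _)
    · intro c hc
      rw [mem_radW, ofMat_val D (isW_ym D hi1 hc), ym, add_sub_cancel_left]
      exact suppS_single (Or.inl ⟨by omega, by omega⟩) c
    · intro h2 a b hab
      have hmid : 2 * j.val + 1 = n := by
        have := congrArg Fin.val h2
        omega
      rw [mem_radW, ofMat_val D (isW_zm D hi1 h2 hab), zm, add_sub_cancel_left]
      refine ((suppS_single (Or.inl ⟨by omega, by omega⟩) a).add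
        (suppS_single (Or.inr ⟨by omega, by omega⟩) _)).add
        (suppS_single (Or.inl ⟨by omega, by omega⟩) b)
  obtain ⟨j2, hj2⟩ : ∃ j2 : Fin n, j2.val = 2 := ⟨⟨2, by omega⟩, rfl⟩
  have hrow : ∀ a : Fin n, 2 ≤ a.val → ∀ b, b ≠ a → y.1.1 a b = 0 := fun a ha b hb =>
    (SLU.entries_of_comm (hE0 a ha)).2.1 b hb
  have hcol0 : ∀ a, a ≠ i0 → y.1.1 a i0 = 0 := fun a ha =>
    (SLU.entries_of_comm (hE0 j2 (by omega))).1 a ha
  have hcol1 : ∀ a, a ≠ i1 → y.1.1 a i1 = 0 := fun a ha =>
    (SLU.entries_of_comm (hE1 j2 (by omega))).1 a ha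
  have hup : y.1 ∈ SLU.upTri n K := by
    intro a b hba
    have hlt := Fin.lt_def.mp hba
    by_cases ha : 2 ≤ a.val
    · exact hrow a ha b (ne_of_lt hba)
    · have hb : b = i0 := Fin.ext (by omega)
      rw [hb]
      apply hcol0
      intro e
      rw [e, h0] at hlt
      omega
  have hut : SLU.IsUT y.1.1 := SLU.mem_unitri_of_pow p hup (by rw [← val_pow_SL, hp]; rfl)
  rw [mem_radW]
  intro a b hab
  rw [Matrix.sub_apply]
  by_cases hba : b = a
  · rw [hba, hut.2 a, Matrix.one_apply_eq, sub_self]
  · rw [Matrix.one_apply_ne (Ne.symm hba), sub_zero]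
    by_cases ha : 2 ≤ a.val
    · exact hrow a ha b hba
    · have hb : b.val < 2 := by
        by_contra hb
        apply hab
        left
        omega
      by_cases hb0 : b.val = 0
      · have : b = i0 := Fin.ext (by omega)
        rw [this]
        apply hcol0
        intro e
        exact hba (by rw [this, e])
      · have : b = i1 := Fin.ext (by omega)
        rw [this]
        apply hcol1
        intro e
        exact hba (by rw [this, e])

/-- elementary matrices commuting with the centre of `U` -/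
theorem rows_of_central_uniW (hn : 2 ≤ n) {i0 : Fin n} (h0 : i0.val = 0) {w : ↥(WU n D)}
    (hc : ∀ u ∈ uniW n D, u * w = w * u) : ∀ a, a ≠ i0 → ∀ b, b ≠ a → w.1.1 a b = 0 := by
  have hr0 : i0.rev.val = n - 1 := by rw [Fin.val_rev, h0]
  have hi0 : i0 < i0.rev := Fin.lt_def.mpr (by omega)
  intro a ha b hb
  have ha0 : i0 < a := Fin.lt_def.mpr (by
    have : a.val ≠ 0 := fun e => ha (Fin.ext (by omega))
    omega)
  have hE : w.1.1 * Matrix.single i0 a 1 = Matrix.single i0 a 1 * w.1.1 := by
    apply comm_E_of_centralizer D hc (Ne.symm ha) (ne_of_lt hi0)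
    · intro h1 h2 c
      exact ofMat_mem_uniW D (isW_xm D (Ne.symm ha) (ne_of_lt hi0) (fun e => h2 e.symm) c)
        (isUT_xm D ha0 c)
    · intro c hc'
      exact ofMat_mem_uniW D (isW_ym D (ne_of_lt hi0) hc') (isUT_ym hi0 c)
    · intro h2 x y hxy
      exact ofMat_mem_uniW D (isW_zm D (ne_of_lt hi0) h2 hxy) (isUT_zm D ha0 h2 x y)
  exact (SLU.entries_of_comm hE).2.1 b hb

theorem skew_of_isW_ym {i : Fin n} (hi : i ≠ i.rev) {c : K} (h : IsW D (ym i c)) : D.σ c = -c := by
  have h2 := h.2
  unfold ym at h2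
  rw [adj_add, adj_one, adj_single, Fin.rev_rev] at h2
  have e : (1 + Matrix.single i i.rev (D.σ c)) * (1 + Matrix.single i i.rev c) =
      1 + Matrix.single i i.rev (D.σ c + c) := by
    have : (1 + Matrix.single i i.rev (D.σ c)) * (1 + Matrix.single i i.rev c) =
        1 + (Matrix.single i i.rev (D.σ c) + Matrix.single i i.rev c) +
          Matrix.single i i.rev (D.σ c) * Matrix.single i i.rev c := by noncomm_ring
    rw [this, ss_ne hi.symm, add_zero, ← Matrix.single_add]
  rw [e] at h2
  have h3 := congrFun (congrFun h2 i) i.rev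
  rw [Matrix.add_apply, Matrix.one_apply_ne hi, Matrix.single_apply_same, zero_add] at h3
  linear_combination h3

/-- the centre of `U` consists of long root elements -/
theorem center_uniW_form (hn : 2 ≤ n) {i0 : Fin n} (h0 : i0.val = 0) {z : ↥(WU n D)}
    (hz : z ∈ uniW n D) (hc : ∀ u ∈ uniW n D, u * z = z * u) :
    ∃ c : K, D.σ c = -c ∧ z = ofMat D (ym i0 c) := by
  have hr0 : i0.rev.val = n - 1 := by rw [Fin.val_rev, h0]
  have hi0 : i0 ≠ i0.rev := by
    intro e
    have := congrArg Fin.val e
    omega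
  have hut : SLU.IsUT z.1.1 := hz
  have hrow := rows_of_central_uniW D hn h0 hc
  have hc' : ∀ u ∈ uniW n D, u * z⁻¹ = z⁻¹ * u := by
    intro u hu
    have := hc u hu
    calc u * z⁻¹ = z⁻¹ * (z * u) * z⁻¹ := by group
      _ = z⁻¹ * (u * z) * z⁻¹ := by rw [this]
      _ = z⁻¹ * u := by group
  have hrow' := rows_of_central_uniW D hn h0 hc'
  have e : z.1.1 = ym i0 (z.1.1 i0 i0.rev) := by
    ext a b
    unfold ym
    rw [Matrix.add_apply, Matrix.single_apply]
    by_cases ha : a = i0
    · subst ha
      by_cases hb : b = a.rev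
      · subst hb
        rw [if_pos ⟨rfl, rfl⟩, Matrix.one_apply_ne hi0, zero_add]
      · rw [if_neg (fun h => hb h.2.symm), add_zero]
        by_cases hb0 : b = a
        · rw [hb0, hut.2 a, Matrix.one_apply_eq]
        · rw [Matrix.one_apply_ne (Ne.symm hb0)]
          have h1 : (z⁻¹).1.1 b.rev a.rev = 0 := by
            apply hrow'
            · intro e1
              apply hb
              rw [← e1, Fin.rev_rev]
            · intro e1
              exact hb0 (Fin.rev_inj.mp e1).symm
          rw [val_inv, adj_apply, Fin.rev_rev, Fin.rev_rev] at h1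
          have := congrArg D.σ h1
          rwa [D.invol, map_zero] at this
    · rw [if_neg (fun h => ha h.1.symm), add_zero]
      by_cases hb : b = a
      · rw [hb, hut.2 a, Matrix.one_apply_eq]
      · rw [Matrix.one_apply_ne (Ne.symm hb)]
        exact hrow a ha b hb
  have hW : IsW D (ym i0 (z.1.1 i0 i0.rev)) := by
    rw [← e]
    exact isW_val D z
  refine ⟨z.1.1 i0 i0.rev, skew_of_isW_ym D hi0 hW, ?_⟩
  apply ext_val
  rw [ofMat_val D hW]
  exact e

/-- a central unitriangular element is trivial -/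
theorem eq_one_of_central_uniW (hn : 2 ≤ n) {z : ↥(WU n D)} (hz : z ∈ uniW n D)
    (hc : ∀ g : ↥(WU n D), g * z = z * g) : z = 1 := by
  obtain ⟨i0, h0⟩ : ∃ i0 : Fin n, i0.val = 0 := ⟨⟨0, by omega⟩, rfl⟩
  have hr0 : i0.rev.val = n - 1 := by rw [Fin.val_rev, h0]
  have hi0 : i0 ≠ i0.rev := by
    intro e
    have := congrArg Fin.val e
    omega
  have hut : SLU.IsUT z.1.1 := hz
  have hc' : ∀ r ∈ (⊤ : Subgroup ↥(WU n D)), r * z = z * r := fun r _ => hc r
  have hrow : ∀ a b : Fin n, b ≠ a → z.1.1 a b = 0 := by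
    intro a b hb
    by_cases ha : a.rev = a
    · have hne : i0 ≠ a := by
        intro e
        apply hi0
        rw [e, ha]
      have hE := comm_E_of_centralizer D hc' hne hi0 (fun _ _ _ => Subgroup.mem_top _)
        (fun _ _ => Subgroup.mem_top _) (fun _ _ _ _ => Subgroup.mem_top _)
      exact (SLU.entries_of_comm hE).2.1 b hb
    · have hne : a.rev ≠ a.rev.rev := by
        rw [Fin.rev_rev]
        exact ha
      have hE := comm_E_of_centralizer D hc' (j := a.rev.rev) hne hne
        (fun _ _ _ => Subgroup.mem_top _)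
        (fun _ _ => Subgroup.mem_top _) (fun _ _ _ _ => Subgroup.mem_top _)
      rw [Fin.rev_rev] at hE
      exact (SLU.entries_of_comm hE).2.1 b hb
  apply ext_val
  ext a b
  rw [val_one]
  by_cases hb : b = a
  · rw [hb, hut.2 a, Matrix.one_apply_eq]
  · rw [Matrix.one_apply_ne (Ne.symm hb)]
    exact hrow a b hb

end Cfsg.Agent.Helper25.SUU
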