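import Mathlib
import Cfsg.Agent.Helper25.SUUb

set_option autoImplicit false
set_option linter.unusedSimpArgs false
set_option linter.unusedSectionVars false
set_option linter.unusedVariables false
set_option linter.unusedTactic false
set_option linter.unreachableTactic false

/-! Identities between root matrices in the small unitary groups of degree at most five. -/

namespace Cfsg.Agent.Helper25.SUU

open Matrix
open Cfsg.Agent.Helper2.SUGen (Frob)

variable {K : Type*} [Field K] {q : ℕ} (D : Frob K q)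

theorem rev2_0 : (0 : Fin 2).rev = 1 := by decide
theorem rev2_1 : (1 : Fin 2).rev = 0 := by decide
theorem rev3_0 : (0 : Fin 3).rev = 2 := by decide
theorem rev3_1 : (1 : Fin 3).rev = 1 := by decide
theorem rev3_2 : (2 : Fin 3).rev = 0 := by decide
theorem rev4_0 : (0 : Fin 4).rev = 3 := by decide
theorem rev4_1 : (1 : Fin 4).rev = 2 := by decide
theorem rev4_2 : (2 : Fin 4).rev = 1 := by decide
theorem rev4_3 : (3 : Fin 4).rev = 0 := by decide
theorem rev5_0 : (0 : Fin 5).rev = 4 := by decide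
theorem rev5_1 : (1 : Fin 5).rev = 3 := by decide
theorem rev5_2 : (2 : Fin 5).rev = 2 := by decide
theorem rev5_3 : (3 : Fin 5).rev = 1 := by decide
theorem rev5_4 : (4 : Fin 5).rev = 0 := by decide

theorem I1a {c : K} (hc : D.σ c = -c) (r : K) :
    xm D (1 : Fin 4) 0 r * ym (0 : Fin 4) c =
      (ym (0 : Fin 4) c * ym (1 : Fin 4) (c * (r * D.σ r)) * xm D (0 : Fin 4) 2 (c * D.σ r)) *
        xm D (1 : Fin 4) 0 r := by
  unfold xm ym
  simp only [rev4_0, rev4_1, rev4_2, rev4_3]
  ext a b
  fin_cases a <;> fin_cases b <;>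
    simp [Matrix.mul_apply, Fin.sum_univ_four, Matrix.add_apply, Matrix.one_apply,
      Matrix.single_apply, hc, D.invol] <;> ring

theorem I2a {s : K} (hs : D.σ s = -s) (e : K) :
    ym (2 : Fin 4) s * xm D (0 : Fin 4) 2 e =
      (xm D (0 : Fin 4) 2 e * xm D (0 : Fin 4) 1 (-(e * s)) * ym (0 : Fin 4) (e * D.σ e * s)) *
        ym (2 : Fin 4) s := by
  unfold xm ym
  simp only [rev4_0, rev4_1, rev4_2, rev4_3]
  ext a b
  fin_cases a <;> fin_cases b <;>
    simp [Matrix.mul_apply, Fin.sum_univ_four, Matrix.add_apply, Matrix.one_apply,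
      Matrix.single_apply, hs, D.invol] <;> ring

theorem I3a {α β : K} (hαβ : β + D.σ β + α * D.σ α = 0) (e : K) :
    zm D (3 : Fin 5) 2 α β * xm D (0 : Fin 5) 3 e =
      (xm D (0 : Fin 5) 3 e * zm D (0 : Fin 5) 2 (-(e * α)) (e * D.σ e * β) *
        xm D (0 : Fin 5) 1 (e * D.σ β)) * zm D (3 : Fin 5) 2 α β := by
  have hb : D.σ β = -β - α * D.σ α := by linear_combination hαβ
  unfold xm zm
  simp only [rev5_0, rev5_1, rev5_2, rev5_3, rev5_4]
  ext a b
  fin_cases a <;> fin_cases b <;>
    simp [Matrix.mul_apply, Fin.sum_univ_five, Matrix.add_apply, Matrix.one_apply,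
      Matrix.single_apply, D.invol, hb] <;> ring

theorem I4a {a b : K} (hab : b + D.σ b + a * D.σ a = 0) (r : K) :
    xm D (1 : Fin 5) 0 r * zm D (0 : Fin 5) 2 a b =
      (zm D (0 : Fin 5) 2 a b * zm D (1 : Fin 5) 2 (r * a) (r * D.σ r * b) *
        xm D (0 : Fin 5) 3 (-(D.σ (b * r)))) * xm D (1 : Fin 5) 0 r := by
  have hb : D.σ b = -b - a * D.σ a := by linear_combination hab
  unfold xm zm
  simp only [rev5_0, rev5_1, rev5_2, rev5_3, rev5_4]
  ext x y
  fin_cases x <;> fin_cases y <;>
    simp [Matrix.mul_apply, Fin.sum_univ_five, Matrix.add_apply, Matrix.one_apply,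
      Matrix.single_apply, D.invol, hb] <;> ring

end Cfsg.Agent.Helper25.SUU
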