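import Mathlib
import Cfsg.Agent.Helper25.SUUf

set_option autoImplicit false
set_option linter.unusedSimpArgs false
set_option linter.unusedSectionVars false
set_option linter.unusedVariables false
set_option linter.unusedTactic false
set_option linter.unreachableTactic false

/-! Torus elements of the small unitary groups as products of root matrices. -/

namespace Cfsg.Agent.Helper25.SUU

open Matrix
open Cfsg.Agent.Helper2.SUGen (Frob)

variable {K : Type*} [Field K] {q : ℕ} (D : Frob K q)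

theorem hel4 {t : K} (ht : t ≠ 0) :
    xm D (0 : Fin 4) 1 t * xm D (1 : Fin 4) 0 (-t⁻¹) * xm D (0 : Fin 4) 1 t *
      (xm D (0 : Fin 4) 1 (-1) * xm D (1 : Fin 4) 0 1 * xm D (0 : Fin 4) 1 (-1)) =
    1 + (Matrix.single 0 0 (t - 1) + Matrix.single 1 1 (t⁻¹ - 1) +
      Matrix.single 2 2 (D.σ t - 1) + Matrix.single 3 3 ((D.σ t)⁻¹ - 1)) := by
  have hst : D.σ t ≠ 0 := Cfsg.Agent.Helper2.SUGen.σ_ne_zero D ht
  unfold xm
  simp only [rev4_0, rev4_1, rev4_2, rev4_3]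
  ext a b
  fin_cases a <;> fin_cases b <;>
    simp [Matrix.mul_apply, Fin.sum_univ_four, Matrix.add_apply, Matrix.one_apply,
      Matrix.single_apply, map_neg, map_inv₀, map_one, ht, hst] <;> ring

theorem mid2 {s₀ s₁ : K} (h0 : s₀ ≠ 0) (h1 : s₁ ≠ 0) :
    ym (0 : Fin 2) s₁ * ym (1 : Fin 2) (-s₁⁻¹) * ym (0 : Fin 2) s₁ *
      (ym (0 : Fin 2) (-s₀) * ym (1 : Fin 2) s₀⁻¹ * ym (0 : Fin 2) (-s₀)) =
    1 + (Matrix.single 0 0 (s₁ / s₀ - 1) + Matrix.single 1 1 (s₀ / s₁ - 1)) := by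
  unfold ym
  simp only [rev2_0, rev2_1]
  ext a b
  fin_cases a <;> fin_cases b <;>
    simp [Matrix.mul_apply, Fin.sum_univ_two, Matrix.add_apply, Matrix.one_apply,
      Matrix.single_apply, h0, h1] <;> field_simp <;> ring

theorem n3_alg (e γ g' δ : K) (hδ : δ ≠ 0) (he : e ≠ 0) (h : δ + e + γ * g' = 0) :
    ((1 + (Matrix.single 0 1 (-γ / e) + Matrix.single 1 2 (g' / δ) +
        Matrix.single 0 2 (1 / e))) *
      (1 + (Matrix.single 2 1 γ + Matrix.single 1 0 (-g') + Matrix.single 2 0 δ)) *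
      (1 + (Matrix.single 0 1 (-γ / δ) + Matrix.single 1 2 (g' / e) +
        Matrix.single 0 2 (1 / e))) : Matrix (Fin 3) (Fin 3) K) =
    Matrix.single 0 2 (1 / e) + Matrix.single 1 1 (-e / δ) + Matrix.single 2 0 δ := by
  ext a b
  fin_cases a <;> fin_cases b <;>
    simp [Matrix.mul_apply, Fin.sum_univ_three, Matrix.add_apply, Matrix.one_apply,
      Matrix.single_apply] <;> field_simp <;>
    first | ring1 | linear_combination h | linear_combination (-γ) * h | linear_combination g' * h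

theorem n3 {γ δ : K} (hδ : δ ≠ 0) (h : δ + D.σ δ + γ * D.σ γ = 0) :
    zm D (0 : Fin 3) 1 (-γ / D.σ δ) (1 / D.σ δ) * zm D (2 : Fin 3) 1 γ δ *
      zm D (0 : Fin 3) 1 (-γ / δ) (1 / D.σ δ) =
    (Matrix.single 0 2 (1 / D.σ δ) + Matrix.single 1 1 (-(D.σ δ) / δ) +
      Matrix.single 2 0 δ : Matrix (Fin 3) (Fin 3) K) := by
  have hsδ : D.σ δ ≠ 0 := Cfsg.Agent.Helper2.SUGen.σ_ne_zero D hδ
  have e1 : -(D.σ (-γ / D.σ δ)) = D.σ γ / δ := by
    rw [map_div₀, map_neg, D.invol]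
    ring
  have e2 : -(D.σ (-γ / δ)) = D.σ γ / D.σ δ := by
    rw [map_div₀, map_neg]
    ring
  unfold zm
  simp only [rev3_0, rev3_1, rev3_2]
  rw [e1, e2]
  exact n3_alg (D.σ δ) γ (D.σ γ) δ hδ hsδ h

theorem m3_alg (e₀ e δ₀ δ : K) (he₀ : e₀ ≠ 0) (he : e ≠ 0) (hδ₀ : δ₀ ≠ 0) (hδ : δ ≠ 0) :
    ((1 + (Matrix.single 0 0 (e₀ / e - 1) + Matrix.single 1 1 (δ₀ / δ / (e₀ / e) - 1) +
        Matrix.single 2 2 ((δ₀ / δ)⁻¹ - 1))) *
      (Matrix.single 0 2 (1 / e₀) + Matrix.single 1 1 (-e₀ / δ₀) +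
        Matrix.single 2 0 δ₀) : Matrix (Fin 3) (Fin 3) K) =
    Matrix.single 0 2 (1 / e) + Matrix.single 1 1 (-e / δ) + Matrix.single 2 0 δ := by
  ext a b
  fin_cases a <;> fin_cases b <;>
    simp [Matrix.mul_apply, Fin.sum_univ_three, Matrix.add_apply, Matrix.one_apply,
      Matrix.single_apply] <;> field_simp <;> ring

end Cfsg.Agent.Helper25.SUU
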