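import Mathlib
import Cfsg.Agent.Helper25.SUUg

set_option autoImplicit false
set_option linter.unusedSimpArgs false
set_option linter.unusedSectionVars false
set_option linter.unusedVariables false
set_option linter.unusedTactic false
set_option linter.unreachableTactic false

/-! The identities of the small unitary groups inside the Witt unitary group of any degree. -/

namespace Cfsg.Agent.Helper25.SUU

open Matrix
open Cfsg.Agent.Helper2.SUGen (Frob)

variable {n : ℕ} {K : Type*} [Field K] {q : ℕ} (D : Frob K q)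

theorem emb4_inj {i k : Fin n} (h1 : i ≠ k) (h2 : i ≠ k.rev) (h3 : i ≠ i.rev) (h4 : k ≠ k.rev) :
    Function.Injective ![i, k, k.rev, i.rev] := by
  have h5 : k ≠ i.rev := fun e => h2 (by rw [e, Fin.rev_rev])
  have h6 : k.rev ≠ i.rev := fun e => h1 (Fin.rev_inj.mp e).symm
  intro a b hab
  fin_cases a <;> fin_cases b <;> first | rfl | (exfalso; simp at hab; first | exact h1 hab | exact h1 hab.symm | exact h2 hab | exact h2 hab.symm | exact h3 hab | exact h3 hab.symm | exact h4 hab | exact h4 hab.symm | exact h5 hab | exact h5 hab.symm | exact h6 hab | exact h6 hab.symm)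

theorem emb4_rev (i k : Fin n) (a : Fin 4) :
    ![i, k, k.rev, i.rev] a.rev = (![i, k, k.rev, i.rev] a).rev := by
  fin_cases a <;> simp [Fin.rev_rev]

theorem emb2_inj {a : Fin n} (h : a ≠ a.rev) : Function.Injective ![a, a.rev] := by
  intro x y hxy
  fin_cases x <;> fin_cases y <;> first | rfl | (exfalso; simp at hxy; first | exact h hxy | exact h hxy.symm)

theorem emb2_rev (a : Fin n) (x : Fin 2) : ![a, a.rev] x.rev = (![a, a.rev] x).rev := by
  fin_cases x <;> simp [Fin.rev_rev]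

theorem ne_mid {a μ : Fin n} (h : a ≠ a.rev) (hμ : μ.rev = μ) : a ≠ μ ∧ a.rev ≠ μ := by
  constructor
  · intro e
    apply h
    rw [e, hμ]
  · intro e
    apply h
    calc a = a.rev.rev := (Fin.rev_rev a).symm
      _ = μ.rev := by rw [e]
      _ = μ := hμ
      _ = a.rev := e.symm

theorem emb3_inj {a μ : Fin n} (h : a ≠ a.rev) (hμ : μ.rev = μ) :
    Function.Injective ![a, μ, a.rev] := by
  obtain ⟨h1, h2⟩ := ne_mid h hμ
  intro x y hxy
  fin_cases x <;> fin_cases y <;> first | rfl | (exfalso; simp at hxy; first | exact h hxy | exact h hxy.symm | exact h1 hxy | exact h1 hxy.symm | exact h2 hxy | exact h2 hxy.symm)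

theorem emb3_rev (a : Fin n) {μ : Fin n} (hμ : μ.rev = μ) (x : Fin 3) :
    ![a, μ, a.rev] x.rev = (![a, μ, a.rev] x).rev := by
  fin_cases x <;> simp [Fin.rev_rev, hμ]

theorem emb5_inj {i k μ : Fin n} (h1 : i ≠ k) (h2 : i ≠ k.rev) (h3 : i ≠ i.rev) (h4 : k ≠ k.rev)
    (hμ : μ.rev = μ) : Function.Injective ![i, k, μ, k.rev, i.rev] := by
  have h5 : k ≠ i.rev := fun e => h2 (by rw [e, Fin.rev_rev])
  have h6 : k.rev ≠ i.rev := fun e => h1 (Fin.rev_inj.mp e).symm
  obtain ⟨h7, h8⟩ := ne_mid h3 hμ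
  obtain ⟨h9, h10⟩ := ne_mid h4 hμ
  intro a b hab
  fin_cases a <;> fin_cases b <;> first | rfl | (exfalso; simp at hab; first | exact h1 hab | exact h1 hab.symm | exact h2 hab | exact h2 hab.symm | exact h3 hab | exact h3 hab.symm | exact h4 hab | exact h4 hab.symm | exact h5 hab | exact h5 hab.symm | exact h6 hab | exact h6 hab.symm | exact h7 hab | exact h7 hab.symm | exact h8 hab | exact h8 hab.symm | exact h9 hab | exact h9 hab.symm | exact h10 hab | exact h10 hab.symm)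

theorem emb5_rev (i k : Fin n) {μ : Fin n} (hμ : μ.rev = μ) (a : Fin 5) :
    ![i, k, μ, k.rev, i.rev] a.rev = (![i, k, μ, k.rev, i.rev] a).rev := by
  fin_cases a <;> simp [Fin.rev_rev, hμ]

theorem I1n {i k : Fin n} (h1 : i ≠ k) (h2 : i ≠ k.rev) (h3 : i ≠ i.rev) (h4 : k ≠ k.rev)
    {c : K} (hc : D.σ c = -c) (r : K) :
    xm D k i r * ym i c =
      (ym i c * ym k (c * (r * D.σ r)) * xm D i k.rev (c * D.σ r)) * xm D k i r := by
  have hι := emb4_inj h1 h2 h3 h4
  have hrev := emb4_rev i k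
  have := congrArg (emb1 ![i, k, k.rev, i.rev]) (I1a D hc r)
  simp only [emb1_mul hι, emb1_xm D hrev, emb1_ym hrev] at this
  simpa using this

theorem I2n {i k : Fin n} (h1 : i ≠ k) (h2 : i ≠ k.rev) (h3 : i ≠ i.rev) (h4 : k ≠ k.rev)
    {s : K} (hs : D.σ s = -s) (e : K) :
    ym k.rev s * xm D i k.rev e =
      (xm D i k.rev e * xm D i k (-(e * s)) * ym i (e * D.σ e * s)) * ym k.rev s := by
  have hι := emb4_inj h1 h2 h3 h4
  have hrev := emb4_rev i k
  have := congrArg (emb1 ![i, k, k.rev, i.rev]) (I2a D hs e)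
  simp only [emb1_mul hι, emb1_xm D hrev, emb1_ym hrev] at this
  simpa using this

theorem I3n {i k μ : Fin n} (h1 : i ≠ k) (h2 : i ≠ k.rev) (h3 : i ≠ i.rev) (h4 : k ≠ k.rev)
    (hμ : μ.rev = μ) {α β : K} (hαβ : β + D.σ β + α * D.σ α = 0) (e : K) :
    zm D k.rev μ α β * xm D i k.rev e =
      (xm D i k.rev e * zm D i μ (-(e * α)) (e * D.σ e * β) * xm D i k (e * D.σ β)) *
        zm D k.rev μ α β := by
  have hι := emb5_inj h1 h2 h3 h4 hμ
  have hrev := emb5_rev i k hμ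
  have := congrArg (emb1 ![i, k, μ, k.rev, i.rev]) (I3a D hαβ e)
  simp only [emb1_mul hι, emb1_xm D hrev, emb1_zm D hrev] at this
  simpa using this

theorem I4n {i k μ : Fin n} (h1 : i ≠ k) (h2 : i ≠ k.rev) (h3 : i ≠ i.rev) (h4 : k ≠ k.rev)
    (hμ : μ.rev = μ) {a b : K} (hab : b + D.σ b + a * D.σ a = 0) (r : K) :
    xm D k i r * zm D i μ a b =
      (zm D i μ a b * zm D k μ (r * a) (r * D.σ r * b) * xm D i k.rev (-(D.σ (b * r)))) *
        xm D k i r := by
  have hι := emb5_inj h1 h2 h3 h4 hμ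
  have hrev := emb5_rev i k hμ
  have := congrArg (emb1 ![i, k, μ, k.rev, i.rev]) (I4a D hab r)
  simp only [emb1_mul hι, emb1_xm D hrev, emb1_zm D hrev] at this
  simpa using this

theorem heln {i j : Fin n} (h1 : i ≠ j) (h2 : i ≠ j.rev) (h3 : i ≠ i.rev) (h4 : j ≠ j.rev)
    {t : K} (ht : t ≠ 0) :
    xm D i j t * xm D j i (-t⁻¹) * xm D i j t * (xm D i j (-1) * xm D j i 1 * xm D i j (-1)) =
      1 + (Matrix.single i i (t - 1) + Matrix.single j j (t⁻¹ - 1) +
        Matrix.single j.rev j.rev (D.σ t - 1) + Matrix.single i.rev i.rev ((D.σ t)⁻¹ - 1)) := by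
  have hι := emb4_inj h1 h2 h3 h4
  have hrev := emb4_rev i j
  have := congrArg (emb1 ![i, j, j.rev, i.rev]) (hel4 D ht)
  simp only [emb1_mul hι, emb1_xm D hrev, emb1_one_add, emb_add, emb_single] at this
  simpa using this

theorem mid2n {a : Fin n} (h : a ≠ a.rev) {s₀ s₁ : K} (h0 : s₀ ≠ 0) (h1 : s₁ ≠ 0) :
    ym a s₁ * ym a.rev (-s₁⁻¹) * ym a s₁ * (ym a (-s₀) * ym a.rev s₀⁻¹ * ym a (-s₀)) =
      1 + (Matrix.single a a (s₁ / s₀ - 1) + Matrix.single a.rev a.rev (s₀ / s₁ - 1)) := by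
  have hι := emb2_inj h
  have hrev := emb2_rev a
  have := congrArg (emb1 ![a, a.rev]) (mid2 h0 h1)
  simp only [emb1_mul hι, emb1_ym hrev, emb1_one_add, emb_add, emb_single] at this
  simpa using this

/-- the monomial matrices of the unitary group of degree three -/
def N3m (e δ : K) : Matrix (Fin 3) (Fin 3) K :=
  Matrix.single 0 2 (1 / e) + Matrix.single 1 1 (-e / δ) + Matrix.single 2 0 δ

theorem n3n {a μ : Fin n} (h : a ≠ a.rev) (hμ : μ.rev = μ) {γ δ : K} (hδ : δ ≠ 0)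
    (hγδ : δ + D.σ δ + γ * D.σ γ = 0) :
    zm D a μ (-γ / D.σ δ) (1 / D.σ δ) * zm D a.rev μ γ δ * zm D a μ (-γ / δ) (1 / D.σ δ) =
      emb1 ![a, μ, a.rev] (N3m (D.σ δ) δ) := by
  have hι := emb3_inj h hμ
  have hrev := emb3_rev a hμ
  have := congrArg (emb1 ![a, μ, a.rev]) (n3 D hδ hγδ)
  simp only [emb1_mul hι, emb1_zm D hrev] at this
  simpa [N3m] using this

theorem m3n {a μ : Fin n} (h : a ≠ a.rev) (hμ : μ.rev = μ) {e₀ e δ₀ δ : K}
    (he₀ : e₀ ≠ 0) (he : e ≠ 0) (hδ₀ : δ₀ ≠ 0) (hδ : δ ≠ 0) :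
    (1 + (Matrix.single a a (e₀ / e - 1) + Matrix.single μ μ (δ₀ / δ / (e₀ / e) - 1) +
        Matrix.single a.rev a.rev ((δ₀ / δ)⁻¹ - 1))) * emb1 ![a, μ, a.rev] (N3m e₀ δ₀) =
      emb1 ![a, μ, a.rev] (N3m e δ) := by
  have hι := emb3_inj h hμ
  have := congrArg (emb1 ![a, μ, a.rev]) (m3_alg e₀ e δ₀ δ he₀ he hδ₀ hδ)
  rw [emb1_mul hι, emb1_one_add, emb_add, emb_add, emb_single, emb_single, emb_single] at this
  simpa [N3m] using this

end Cfsg.Agent.Helper25.SUU
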