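import Mathlib
import Cfsg.Agent.Helper25.SUUh
import Cfsg.Agent.Helper25.SUUe

set_option autoImplicit false
set_option linter.unusedSimpArgs false
set_option linter.unusedSectionVars false
set_option linter.unusedVariables false
set_option linter.unusedTactic false
set_option linter.unreachableTactic false

/-! Torus elements of the Witt unitary group as products of `p`-elements normalizing radicals. -/

namespace Cfsg.Agent.Helper25.SUU

open Matrix
open Cfsg.Agent.Helper2.SUGen (Frob)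

variable {n : ℕ} {K : Type*} [Field K] [Fintype K] {q : ℕ} (D : Frob K q)

theorem exists_orderOf_pow {G : Type*} [Group G] (p : ℕ) [Fact p.Prime] {x : G} {m : ℕ}
    (h : x ^ (p ^ m) = 1) : ∃ k : ℕ, orderOf x = p ^ k := by
  obtain ⟨k, -, hk⟩ := (Nat.dvd_prime_pow (Fact.out : p.Prime)).mp (orderOf_dvd_of_pow_eq_one h)
  exact ⟨k, hk⟩

/-- the `p`-elements of a normalizer -/
def pSet (p : ℕ) (R : Subgroup ↥(WU n D)) : Set ↥(WU n D) :=
  {h | h ∈ Subgroup.normalizer (R : Set ↥(WU n D)) ∧ ∃ k : ℕ, orderOf h = p ^ k}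

omit [Fintype K] in
theorem tri_xm {i j : Fin n} (hij : i ≠ j) (c : K) :
    SLU.IsUT (xm D i j c) ∨ SLU.IsUT (xm D i j c)ᵀ := by
  rcases lt_or_gt_of_ne hij with h | h
  · exact Or.inl (isUT_xm D h c)
  · exact Or.inr (isUT_xm_transpose D h c)

omit [Fintype K] in
theorem tri_ym {i : Fin n} (hi : i ≠ i.rev) (c : K) :
    SLU.IsUT (ym i c) ∨ SLU.IsUT (ym i c)ᵀ := by
  rcases lt_or_gt_of_ne hi with h | h
  · exact Or.inl (isUT_ym h c)
  · exact Or.inr (isUT_ym_transpose h c)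

omit [Fintype K] in
theorem tri_zm {i μ : Fin n} (hi : i ≠ μ) (hμ : μ.rev = μ) (a b : K) :
    SLU.IsUT (zm D i μ a b) ∨ SLU.IsUT (zm D i μ a b)ᵀ := by
  rcases lt_or_gt_of_ne hi with h | h
  · exact Or.inl (isUT_zm D h hμ a b)
  · exact Or.inr (isUT_zm_transpose D h hμ a b)

omit [Fintype K] in
theorem pshape_xm {k : ℕ} {i j : Fin n} (h1 : ¬ ZR k i j) (h2 : ¬ ZR k j.rev i.rev) (c : K) :
    PShape k (xm D i j c) :=
  pshape_one.add ((pshape_single h1 c).add (pshape_single h2 _))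

omit [Fintype K] in
theorem pshape_ym {k : ℕ} {i : Fin n} (h1 : ¬ ZR k i i.rev) (c : K) : PShape k (ym i c) :=
  pshape_one.add (pshape_single h1 c)

omit [Fintype K] in
theorem pshape_zm {k : ℕ} {i μ : Fin n} (h1 : ¬ ZR k i μ) (h2 : ¬ ZR k μ i.rev)
    (h3 : ¬ ZR k i i.rev) (a b : K) : PShape k (zm D i μ a b) :=
  pshape_one.add (((pshape_single h1 a).add (pshape_single h2 _)).add (pshape_single h3 b))

/-- diagonal matrices -/
def IsDiagM (M : Matrix (Fin n) (Fin n) K) : Prop := ∀ a b, a ≠ b → M a b = 0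

omit [Fintype K] in
theorem isDiagM_one : IsDiagM (1 : Matrix (Fin n) (Fin n) K) := fun _ _ h => Matrix.one_apply_ne h

omit [Fintype K] in
theorem isDiagM_single (x : Fin n) (c : K) : IsDiagM (Matrix.single x x c) := by
  intro a b hab
  rw [Matrix.single_apply, if_neg]
  rintro ⟨rfl, rfl⟩
  exact hab rfl

omit [Fintype K] in
theorem IsDiagM.add {M N : Matrix (Fin n) (Fin n) K} (hM : IsDiagM M) (hN : IsDiagM N) :
    IsDiagM (M + N) := by
  intro a b hab
  rw [Matrix.add_apply, hM a b hab, hN a b hab, add_zero]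

omit [Fintype K] in
theorem IsDiagM.mul_apply {M : Matrix (Fin n) (Fin n) K} (hM : IsDiagM M)
    (G : Matrix (Fin n) (Fin n) K) (a b : Fin n) : (M * G) a b = M a a * G a b := by
  rw [Matrix.mul_apply, Finset.sum_eq_single a]
  · intro l _ hl
    rw [hM a l (Ne.symm hl), zero_mul]
  · intro h
    exact absurd (Finset.mem_univ _) h

omit [Fintype K] in
theorem IsDiagM.isUp {M : Matrix (Fin n) (Fin n) K} (hM : IsDiagM M) : SLU.IsUp M :=
  fun i j hji => hM i j (ne_of_gt hji)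

variable (p : ℕ) [Fact p.Prime] [CharP K p]

theorem ofMat_pow_eq_one {M : Matrix (Fin n) (Fin n) K} (hW : IsW D M)
    (htri : SLU.IsUT M ∨ SLU.IsUT Mᵀ) : (ofMat D M) ^ (p ^ n) = 1 := by
  apply ext_val
  rw [val_pow, ofMat_val D hW]
  exact pow_eq_one_of_tri p htri

theorem root_mem_pSet {k : ℕ} (h2k : 2 * k ≤ n) {M : Matrix (Fin n) (Fin n) K} (hW : IsW D M)
    (htri : SLU.IsUT M ∨ SLU.IsUT Mᵀ) (hP : PShape k M) :
    ofMat D M ∈ Subgroup.closure (pSet D p (radW n D k h2k)) :=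
  Subgroup.subset_closure
    ⟨parW_le_normalizer_radW D h2k ((mem_parW D).mpr (by rw [ofMat_val D hW]; exact hP)),
      exists_orderOf_pow p (ofMat_pow_eq_one D p hW htri)⟩

/-- the generating set for the normalizer of `U` -/
def goodSet (p : ℕ) (h1 : 2 * 1 ≤ n) (h2 : 2 * 2 ≤ n) : Set ↥(WU n D) :=
  {g | g ∈ borW n D ∧ ∃ R : Subgroup ↥(WU n D),
    (R = uniW n D ∨ R = radW n D 1 h1 ∨ R = radW n D 2 h2) ∧ g ∈ Subgroup.closure (pSet D p R)}

theorem uniW_le_closure_goodSet (h1 : 2 * 1 ≤ n) (h2 : 2 * 2 ≤ n) :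
    uniW n D ≤ Subgroup.closure (goodSet D p h1 h2) := by
  intro u hu
  apply Subgroup.subset_closure
  refine ⟨uniW_le_borW D hu, uniW n D, Or.inl rfl, Subgroup.subset_closure
    ⟨Subgroup.le_normalizer hu, ?_⟩⟩
  apply exists_orderOf_pow p (m := n)
  apply ext_val
  rw [val_pow]
  exact pow_eq_one_of_tri p (Or.inl hu)

theorem upper_diag_rel {g : ↥(WU n D)} (hg : g ∈ borW n D) (a : Fin n) :
    D.σ (g.1.1 a.rev a.rev) * g.1.1 a a = 1 := by
  have hup : SLU.IsUp g.1.1 := hg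
  have h1 := congrFun (congrFun (isW_val D g).2 a) a
  rw [Matrix.one_apply_eq, Matrix.mul_apply, Finset.sum_eq_single a] at h1
  · exact h1
  · intro l _ hl
    rcases lt_or_gt_of_ne hl with h | h
    · rw [adj_apply, hup l.rev a.rev (Fin.rev_lt_rev.mpr h), map_zero, zero_mul]
    · rw [hup l a h, mul_zero]
  · intro h
    exact absurd (Finset.mem_univ _) h

/-- comparison with a diagonal element of the generated subgroup -/
theorem finish_diag (h1 : 2 * 1 ≤ n) (h2 : 2 * 2 ≤ n) {h g : ↥(WU n D)}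
    (hh : h ∈ Subgroup.closure (goodSet D p h1 h2)) (hd : IsDiagM h.1.1) (hg : g ∈ borW n D)
    (heq : ∀ a, h.1.1 a a = g.1.1 a a) : g ∈ Subgroup.closure (goodSet D p h1 h2) := by
  have hhb : h ∈ borW n D := hd.isUp
  have hx : h⁻¹ * g ∈ uniW n D := by
    have hxb : h⁻¹ * g ∈ borW n D := mul_mem (inv_mem hhb) hg
    refine ⟨hxb, fun a => ?_⟩
    have e : h.1.1 * (h⁻¹ * g).1.1 = g.1.1 := by
      rw [← val_mul, mul_inv_cancel_left]
    have e2 := congrFun (congrFun e a) a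
    rw [hd.mul_apply, ← heq a] at e2
    have hne : h.1.1 a a ≠ 0 := by
      intro h0
      have := upper_diag_rel D hhb a
      rw [h0, mul_zero] at this
      exact zero_ne_one this
    have : h.1.1 a a * (h⁻¹ * g).1.1 a a = h.1.1 a a * 1 := by rw [e2, mul_one]
    exact mul_left_cancel₀ hne this
  have e : g = h * (h⁻¹ * g) := by group
  rw [e]
  exact mul_mem hh (uniW_le_closure_goodSet D p h1 h2 hx)

/-- the torus element of a short root -/
noncomputable def helE (i j : Fin n) (t : K) : ↥(WU n D) :=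
  ofMat D (xm D i j t) * ofMat D (xm D j i (-t⁻¹)) * ofMat D (xm D i j t) *
    (ofMat D (xm D i j (-1)) * ofMat D (xm D j i 1) * ofMat D (xm D i j (-1)))

/-- its matrix -/
def Dg4 (i j : Fin n) (t : K) : Matrix (Fin n) (Fin n) K :=
  1 + (Matrix.single i i (t - 1) + Matrix.single j j (t⁻¹ - 1) +
    Matrix.single j.rev j.rev (D.σ t - 1) + Matrix.single i.rev i.rev ((D.σ t)⁻¹ - 1))

theorem helE_val {i j : Fin n} (h1 : i ≠ j) (h2 : i ≠ j.rev) (h3 : i ≠ i.rev) (h4 : j ≠ j.rev)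
    {t : K} (ht : t ≠ 0) : (helE D i j t).1.1 = Dg4 D i j t := by
  unfold helE Dg4
  simp only [val_mul, fun c => ofMat_val D (isW_xm D h1 h3 h4 c),
    fun c => ofMat_val D (isW_xm D h1.symm h4 h3 c)]
  exact heln D h1 h2 h3 h4 ht

theorem helE_mem {k : ℕ} (h2k : 2 * k ≤ n) {i j : Fin n} (h1 : i ≠ j) (h3 : i ≠ i.rev)
    (h4 : j ≠ j.rev) (hP : ∀ c, PShape k (xm D i j c)) (hP' : ∀ c, PShape k (xm D j i c)) (t : K) :
    helE D i j t ∈ Subgroup.closure (pSet D p (radW n D k h2k)) := by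
  have a1 : ∀ c, ofMat D (xm D i j c) ∈ Subgroup.closure (pSet D p (radW n D k h2k)) := fun c =>
    root_mem_pSet D p h2k (isW_xm D h1 h3 h4 c) (tri_xm D h1 c) (hP c)
  have a2 : ∀ c, ofMat D (xm D j i c) ∈ Subgroup.closure (pSet D p (radW n D k h2k)) := fun c =>
    root_mem_pSet D p h2k (isW_xm D h1.symm h4 h3 c) (tri_xm D h1.symm c) (hP' c)
  exact mul_mem (mul_mem (mul_mem (a1 _) (a2 _)) (a1 _)) (mul_mem (mul_mem (a1 _) (a2 _)) (a1 _))

omit [Fintype K] in
theorem isDiagM_Dg4 (i j : Fin n) (t : K) : IsDiagM (Dg4 D i j t) :=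
  isDiagM_one.add ((((isDiagM_single _ _).add (isDiagM_single _ _)).add (isDiagM_single _ _)).add
    (isDiagM_single _ _))

omit [Fintype K] in
theorem Dg4_apply_self {i j : Fin n} (h1 : i ≠ j) (h2 : i ≠ j.rev) (h3 : i ≠ i.rev) (t : K) :
    Dg4 D i j t i i = t := by
  unfold Dg4
  simp [Matrix.add_apply, Matrix.single_apply, h1, h2, h3, h1.symm, h2.symm, h3.symm]

omit [Fintype K] in
theorem Dg4_apply_other {i j a : Fin n} (h1 : a ≠ i) (h2 : a ≠ j) (h3 : a ≠ j.rev)
    (h4 : a ≠ i.rev) (t : K) : Dg4 D i j t a a = 1 := by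
  unfold Dg4
  simp [Matrix.add_apply, Matrix.single_apply, h1, h2, h3, h4, h1.symm, h2.symm, h3.symm, h4.symm]

end Cfsg.Agent.Helper25.SUU
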