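import Mathlib
import Cfsg.Agent.Helper25.SUUi

set_option autoImplicit false
set_option linter.unusedSimpArgs false
set_option linter.unusedSectionVars false
set_option linter.unusedVariables false
set_option linter.unusedTactic false
set_option linter.unreachableTactic false

/-! The normalizer of `U` in the Witt unitary group is generated by `p`-elements normalizing
centric radicals. -/

namespace Cfsg.Agent.Helper25.SUU

open Matrix
open Cfsg.Agent.Helper2.SUGen (Frob)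

variable {n : ℕ} {K : Type*} [Field K] [Fintype K] {q : ℕ} (D : Frob K q)

omit [Fintype K] in
theorem diag_eq_of_prod {f f' : Fin n → K} (hf : ∏ a, f a = 1) (hf' : ∏ a, f' a = 1) (μ : Fin n)
    (h : ∀ a, a ≠ μ → f a = f' a) : f μ = f' μ := by
  rw [← Finset.mul_prod_erase Finset.univ f (Finset.mem_univ μ)] at hf
  rw [← Finset.mul_prod_erase Finset.univ f' (Finset.mem_univ μ)] at hf'
  have e : ∏ x ∈ Finset.univ.erase μ, f x = ∏ x ∈ Finset.univ.erase μ, f' x :=
    Finset.prod_congr rfl (fun a ha => h a (Finset.ne_of_mem_erase ha))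
  rw [e] at hf
  have hne : ∏ x ∈ Finset.univ.erase μ, f' x ≠ 0 := by
    intro h0
    rw [h0, mul_zero] at hf'
    exact zero_ne_one hf'
  exact mul_right_cancel₀ hne (hf.trans hf'.symm)

theorem prod_diag_borW {g : ↥(WU n D)} (hg : g ∈ borW n D) : ∏ a, g.1.1 a a = 1 := by
  have hup : SLU.IsUp g.1.1 := hg
  rw [← Matrix.det_of_isUpperTriangular (M := g.1.1) (fun i j h => hup i j h)]
  exact g.1.2

theorem diag_one_rev {g : ↥(WU n D)} (hg : g ∈ borW n D) {a : Fin n}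
    (h : g.1.1 a.rev a.rev = 1) : g.1.1 a a = 1 := by
  have := upper_diag_rel D hg a
  rwa [h, map_one, one_mul] at this

omit [Fintype K] in
theorem skew_inv {s : K} (hs : D.σ s = -s) : D.σ s⁻¹ = -s⁻¹ := by
  rw [map_inv₀, hs, inv_neg]

omit [Fintype K] in
theorem skew_neg {s : K} (hs : D.σ s = -s) : D.σ (-s) = -(-s) := by
  rw [map_neg, hs]

variable (p : ℕ) [Fact p.Prime] [CharP K p]

theorem base_even (h1 : 2 * 1 ≤ n) (h2 : 2 * 2 ≤ n) {m : ℕ} (hm : n = 2 * m)
    {g : ↥(WU n D)} (hg : g ∈ borW n D) (hone : ∀ a : Fin n, a.val < m - 1 → g.1.1 a a = 1) :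
    g ∈ Subgroup.closure (goodSet D p h1 h2) := by
  obtain ⟨a₀, ha₀⟩ : ∃ a₀ : Fin n, a₀.val = m - 1 := ⟨⟨m - 1, by omega⟩, rfl⟩
  have hr : a₀.rev.val = m := by rw [Fin.val_rev]; omega
  have hne : a₀ ≠ a₀.rev := by
    intro e
    have := congrArg Fin.val e
    omega
  have hne' : a₀.rev ≠ a₀.rev.rev := by rw [Fin.rev_rev]; exact hne.symm
  have hone' : ∀ a, a ≠ a₀ → a ≠ a₀.rev → g.1.1 a a = 1 := by
    intro a h1' h2'
    have hav : a.val ≠ m - 1 := fun e => h1' (Fin.ext (by omega))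
    have hav' : a.val ≠ m := fun e => h2' (Fin.ext (by omega))
    by_cases hlt : a.val < m - 1
    · exact hone a hlt
    · apply diag_one_rev D hg
      apply hone
      rw [Fin.val_rev]
      have := a.isLt
      omega
  have hdet := prod_diag_borW D hg
  rw [Finset.prod_eq_mul a₀ a₀.rev hne (fun c _ hc => hone' c hc.1 hc.2)
    (fun h => absurd (Finset.mem_univ _) h) (fun h => absurd (Finset.mem_univ _) h)] at hdet
  have hrel := upper_diag_rel D hg a₀
  obtain ⟨τ, hτ⟩ : ∃ τ : K, τ = g.1.1 a₀ a₀ := ⟨_, rfl⟩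
  rw [← hτ] at hdet hrel
  have hτ0 : τ ≠ 0 := by
    intro h0
    rw [h0, zero_mul] at hdet
    exact zero_ne_one hdet
  have hinv : g.1.1 a₀.rev a₀.rev = τ⁻¹ := eq_inv_of_mul_eq_one_right hdet
  have hfix : D.σ τ = τ := by
    rw [hinv, map_inv₀] at hrel
    have hs : D.σ τ ≠ 0 := Cfsg.Agent.Helper2.SUGen.σ_ne_zero D hτ0
    field_simp at hrel
    exact hrel.symm
  obtain ⟨s₀, hs₀, hsk₀⟩ := Cfsg.Agent.Helper2.SUGen.exists_skew D
  have hs₁ : τ * s₀ ≠ 0 := mul_ne_zero hτ0 hs₀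
  have hsk₁ : D.σ (τ * s₀) = -(τ * s₀) := by rw [map_mul, hfix, hsk₀]; ring
  have w1 := isW_ym D hne hsk₁
  have w2 := isW_ym D hne' (skew_neg D (skew_inv D hsk₁))
  have w3 := isW_ym D hne (skew_neg D hsk₀)
  have w4 := isW_ym D hne' (skew_inv D hsk₀)
  obtain ⟨h, hh⟩ : ∃ h : ↥(WU n D), h = ofMat D (ym a₀ (τ * s₀)) *
      ofMat D (ym a₀.rev (-(τ * s₀)⁻¹)) * ofMat D (ym a₀ (τ * s₀)) *
      (ofMat D (ym a₀ (-s₀)) * ofMat D (ym a₀.rev s₀⁻¹) * ofMat D (ym a₀ (-s₀))) := ⟨_, rfl⟩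
  have hval : h.1.1 = 1 + (Matrix.single a₀ a₀ (τ * s₀ / s₀ - 1) +
      Matrix.single a₀.rev a₀.rev (s₀ / (τ * s₀) - 1)) := by
    rw [hh]
    simp only [val_mul, ofMat_val D w1, ofMat_val D w2, ofMat_val D w3, ofMat_val D w4]
    exact mid2n hne hs₀ hs₁
  have hZ1 : ¬ ZR 1 a₀ a₀.rev := by
    unfold ZR
    omega
  have hZ2 : ¬ ZR 1 a₀.rev a₀.rev.rev := by
    rw [Fin.rev_rev]
    unfold ZR
    omega
  have hmem : h ∈ Subgroup.closure (pSet D p (radW n D 1 h1)) := by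
    rw [hh]
    have b1 : ∀ {c : K}, IsW D (ym a₀ c) →
        ofMat D (ym a₀ c) ∈ Subgroup.closure (pSet D p (radW n D 1 h1)) := fun {c} hw =>
      root_mem_pSet D p h1 hw (tri_ym hne c) (pshape_ym hZ1 c)
    have b2 : ∀ {c : K}, IsW D (ym a₀.rev c) →
        ofMat D (ym a₀.rev c) ∈ Subgroup.closure (pSet D p (radW n D 1 h1)) := fun {c} hw =>
      root_mem_pSet D p h1 hw (tri_ym hne' c) (pshape_ym hZ2 c)
    exact mul_mem (mul_mem (mul_mem (b1 w1) (b2 w2)) (b1 w1)) (mul_mem (mul_mem (b1 w3) (b2 w4)) (b1 w3))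
  have hd : IsDiagM h.1.1 := by
    rw [hval]
    exact isDiagM_one.add ((isDiagM_single _ _).add (isDiagM_single _ _))
  have hgood : h ∈ Subgroup.closure (goodSet D p h1 h2) :=
    Subgroup.subset_closure ⟨hd.isUp, radW n D 1 h1, Or.inr (Or.inl rfl), hmem⟩
  apply finish_diag D p h1 h2 hgood hd hg
  intro a
  rw [hval]
  by_cases e1 : a = a₀
  · rw [e1, ← hτ]
    simp [Matrix.add_apply, Matrix.single_apply, hne, hne.symm]
    field_simp
  · by_cases e2 : a = a₀.rev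
    · rw [e2, hinv]
      simp [Matrix.add_apply, Matrix.single_apply, hne, hne.symm]
      field_simp
    · rw [hone' a e1 e2]
      simp [Matrix.add_apply, Matrix.single_apply, e1, e2, Ne.symm e1, Ne.symm e2]

end Cfsg.Agent.Helper25.SUU
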