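import Mathlib
import Cfsg.Agent.Helper25.SUUj

set_option autoImplicit false
set_option linter.unusedSimpArgs false
set_option linter.unusedSectionVars false
set_option linter.unusedVariables false
set_option linter.unusedTactic false
set_option linter.unreachableTactic false

/-! The odd-dimensional base case and the generation of the normalizer of `U`. -/

namespace Cfsg.Agent.Helper25.SUU

open Matrix
open Cfsg.Agent.Helper2.SUGen (Frob)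

variable {n : ℕ} {K : Type*} [Field K] [Fintype K] {q : ℕ} (D : Frob K q)

omit [Fintype K] in
theorem zrel1 {γ δ : K} (hδ : δ ≠ 0) (h : δ + D.σ δ + γ * D.σ γ = 0) :
    1 / D.σ δ + D.σ (1 / D.σ δ) + (-γ / D.σ δ) * D.σ (-γ / D.σ δ) = 0 := by
  have hs : D.σ δ ≠ 0 := Cfsg.Agent.Helper2.SUGen.σ_ne_zero D hδ
  simp only [map_div₀, map_neg, map_one, D.invol]
  field_simp
  linear_combination h

omit [Fintype K] in
theorem zrel2 {γ δ : K} (hδ : δ ≠ 0) (h : δ + D.σ δ + γ * D.σ γ = 0) :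
    1 / D.σ δ + D.σ (1 / D.σ δ) + (-γ / δ) * D.σ (-γ / δ) = 0 := by
  have hs : D.σ δ ≠ 0 := Cfsg.Agent.Helper2.SUGen.σ_ne_zero D hδ
  simp only [map_div₀, map_neg, map_one, D.invol]
  field_simp
  linear_combination h

variable (p : ℕ) [Fact p.Prime] [CharP K p]

theorem base_odd (h1 : 2 * 1 ≤ n) (h2 : 2 * 2 ≤ n) {m : ℕ} (hm : n = 2 * m + 1) (hm2 : 2 ≤ m)
    {g : ↥(WU n D)} (hg : g ∈ borW n D) (hone : ∀ a : Fin n, a.val < m - 1 → g.1.1 a a = 1) :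
    g ∈ Subgroup.closure (goodSet D p h1 h2) := by
  obtain ⟨a₀, ha₀⟩ : ∃ a₀ : Fin n, a₀.val = m - 1 := ⟨⟨m - 1, by omega⟩, rfl⟩
  obtain ⟨μ, hμv⟩ : ∃ μ : Fin n, μ.val = m := ⟨⟨m, by omega⟩, rfl⟩
  have hμ : μ.rev = μ := Fin.ext (by rw [Fin.val_rev]; omega)
  have hr : a₀.rev.val = m + 1 := by rw [Fin.val_rev]; omega
  have hne : a₀ ≠ a₀.rev := by
    intro e
    have := congrArg Fin.val e
    omega
  have hne' : a₀.rev ≠ a₀.rev.rev := by rw [Fin.rev_rev]; exact hne.symm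
  have hrr : a₀.rev.rev.val = m - 1 := by rw [Fin.rev_rev]; exact ha₀
  obtain ⟨hnμ, hnμ'⟩ := ne_mid hne hμ
  have hone' : ∀ a, a ≠ a₀ → a ≠ μ → a ≠ a₀.rev → g.1.1 a a = 1 := by
    intro a h1' h2' h3'
    have hav : a.val ≠ m - 1 := fun e => h1' (Fin.ext (by omega))
    have hav' : a.val ≠ m := fun e => h2' (Fin.ext (by omega))
    have hav'' : a.val ≠ m + 1 := fun e => h3' (Fin.ext (by omega))
    by_cases hlt : a.val < m - 1
    · exact hone a hlt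
    · apply diag_one_rev D hg
      apply hone
      rw [Fin.val_rev]
      have := a.isLt
      omega
  have hrel := upper_diag_rel D hg a₀
  obtain ⟨τ, hτ⟩ : ∃ τ : K, τ = g.1.1 a₀ a₀ := ⟨_, rfl⟩
  rw [← hτ] at hrel
  have hτ0 : τ ≠ 0 := by
    intro h0
    rw [h0, mul_zero] at hrel
    exact zero_ne_one hrel
  have hsτ : D.σ τ ≠ 0 := Cfsg.Agent.Helper2.SUGen.σ_ne_zero D hτ0
  have hinv : g.1.1 a₀.rev a₀.rev = (D.σ τ)⁻¹ := by
    apply eq_inv_of_mul_eq_one_left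
    have := congrArg D.σ hrel
    rwa [map_mul, D.invol, map_one] at this
  obtain ⟨δ₀, hδ₀, hsk₀⟩ := Cfsg.Agent.Helper2.SUGen.exists_skew D
  have hsδ₀ : D.σ δ₀ ≠ 0 := Cfsg.Agent.Helper2.SUGen.σ_ne_zero D hδ₀
  obtain ⟨δ, hδdef⟩ : ∃ δ : K, δ = δ₀ / D.σ τ := ⟨_, rfl⟩
  have hδ : δ ≠ 0 := by rw [hδdef]; exact div_ne_zero hδ₀ hsτ
  have hσδ : D.σ δ = D.σ δ₀ / τ := by rw [hδdef, map_div₀, D.invol]
  have hsδ : D.σ δ ≠ 0 := Cfsg.Agent.Helper2.SUGen.σ_ne_zero D hδ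
  obtain ⟨γ, hγ⟩ : ∃ γ : K, δ + D.σ δ + γ * D.σ γ = 0 := by
    by_cases hc0 : δ + D.σ δ = 0
    · exact ⟨0, by rw [hc0, map_zero, mul_zero, add_zero]⟩
    · obtain ⟨γ, hγ⟩ := Cfsg.Agent.Helper2.SUGen.exists_norm D (-(δ + D.σ δ)) (neg_ne_zero.mpr hc0)
        (by rw [map_neg, map_add, D.invol, add_comm])
      exact ⟨γ, by rw [hγ]; ring⟩
  have hγ₀ : δ₀ + D.σ δ₀ + (0 : K) * D.σ 0 = 0 := by rw [hsk₀]; ring
  have wA1 := isW_zm D hne hμ (zrel1 D hδ hγ)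
  have wA2 := isW_zm D hne' hμ hγ
  have wA3 := isW_zm D hne hμ (zrel2 D hδ hγ)
  have wB1 := isW_zm D hne hμ (zrel1 D hδ₀ hγ₀)
  have wB2 := isW_zm D hne' hμ hγ₀
  have wB3 := isW_zm D hne hμ (zrel2 D hδ₀ hγ₀)
  obtain ⟨nA, hnA⟩ : ∃ nA : ↥(WU n D), nA = ofMat D (zm D a₀ μ (-γ / D.σ δ) (1 / D.σ δ)) *
      ofMat D (zm D a₀.rev μ γ δ) * ofMat D (zm D a₀ μ (-γ / δ) (1 / D.σ δ)) := ⟨_, rfl⟩
  obtain ⟨nB, hnB⟩ : ∃ nB : ↥(WU n D), nB = ofMat D (zm D a₀ μ (-0 / D.σ δ₀) (1 / D.σ δ₀)) *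
      ofMat D (zm D a₀.rev μ 0 δ₀) * ofMat D (zm D a₀ μ (-0 / δ₀) (1 / D.σ δ₀)) := ⟨_, rfl⟩
  have hvA : nA.1.1 = emb1 ![a₀, μ, a₀.rev] (N3m (D.σ δ) δ) := by
    rw [hnA]
    simp only [val_mul, ofMat_val D wA1, ofMat_val D wA2, ofMat_val D wA3]
    exact n3n D hne hμ hδ hγ
  have hvB : nB.1.1 = emb1 ![a₀, μ, a₀.rev] (N3m (D.σ δ₀) δ₀) := by
    rw [hnB]
    simp only [val_mul, ofMat_val D wB1, ofMat_val D wB2, ofMat_val D wB3]
    exact n3n D hne hμ hδ₀ hγ₀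
  have hZ1 : ¬ ZR 1 a₀ μ := by unfold ZR; omega
  have hZ2 : ¬ ZR 1 μ a₀.rev := by unfold ZR; omega
  have hZ3 : ¬ ZR 1 a₀ a₀.rev := by unfold ZR; omega
  have hZ4 : ¬ ZR 1 a₀.rev μ := by unfold ZR; omega
  have hZ5 : ¬ ZR 1 μ a₀.rev.rev := by unfold ZR; omega
  have hZ6 : ¬ ZR 1 a₀.rev a₀.rev.rev := by unfold ZR; omega
  have b1 : ∀ {a b : K}, IsW D (zm D a₀ μ a b) →
      ofMat D (zm D a₀ μ a b) ∈ Subgroup.closure (pSet D p (radW n D 1 h1)) := fun {a b} hw =>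
    root_mem_pSet D p h1 hw (tri_zm D hnμ hμ a b) (pshape_zm D hZ1 hZ2 hZ3 a b)
  have b2 : ∀ {a b : K}, IsW D (zm D a₀.rev μ a b) →
      ofMat D (zm D a₀.rev μ a b) ∈ Subgroup.closure (pSet D p (radW n D 1 h1)) := fun {a b} hw =>
    root_mem_pSet D p h1 hw (tri_zm D hnμ' hμ a b) (pshape_zm D hZ4 hZ5 hZ6 a b)
  have hmA : nA ∈ Subgroup.closure (pSet D p (radW n D 1 h1)) := by
    rw [hnA]
    exact mul_mem (mul_mem (b1 wA1) (b2 wA2)) (b1 wA3)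
  have hmB : nB ∈ Subgroup.closure (pSet D p (radW n D 1 h1)) := by
    rw [hnB]
    exact mul_mem (mul_mem (b1 wB1) (b2 wB2)) (b1 wB3)
  have hm3 := m3n (K := K) hne hμ hsδ₀ hsδ hδ₀ hδ
  have hval : (nA * nB⁻¹).1.1 = 1 + (Matrix.single a₀ a₀ (D.σ δ₀ / D.σ δ - 1) +
      Matrix.single μ μ (δ₀ / δ / (D.σ δ₀ / D.σ δ) - 1) +
      Matrix.single a₀.rev a₀.rev ((δ₀ / δ)⁻¹ - 1)) := by
    have e : nB.1.1 * (nB⁻¹).1.1 = 1 := by
      rw [← val_mul, mul_inv_cancel]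
      rfl
    rw [val_mul, hvA, ← hm3, ← hvB, Matrix.mul_assoc, e, Matrix.mul_one]
  have hd : IsDiagM (nA * nB⁻¹).1.1 := by
    rw [hval]
    exact isDiagM_one.add (((isDiagM_single _ _).add (isDiagM_single _ _)).add (isDiagM_single _ _))
  have hgood : nA * nB⁻¹ ∈ Subgroup.closure (goodSet D p h1 h2) :=
    Subgroup.subset_closure ⟨hd.isUp, radW n D 1 h1, Or.inr (Or.inl rfl),
      mul_mem hmA (inv_mem hmB)⟩
  have hhb : nA * nB⁻¹ ∈ borW n D := hd.isUp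
  apply finish_diag D p h1 h2 hgood hd hg
  have key : ∀ a, a ≠ μ → (nA * nB⁻¹).1.1 a a = g.1.1 a a := by
    intro a haμ
    rw [hval]
    by_cases e1 : a = a₀
    · rw [e1, ← hτ, hσδ]
      simp [Matrix.add_apply, Matrix.single_apply, hne, hne.symm, hnμ, hnμ.symm]
      field_simp
    · by_cases e2 : a = a₀.rev
      · rw [e2, hinv, hδdef]
        simp [Matrix.add_apply, Matrix.single_apply, hne, hne.symm, hnμ', hnμ'.symm]
        field_simp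
      · rw [hone' a e1 haμ e2]
        simp [Matrix.add_apply, Matrix.single_apply, e1, e2, haμ, Ne.symm e1, Ne.symm e2,
          Ne.symm haμ]
  intro a
  by_cases haμ : a = μ
  · rw [haμ]
    exact diag_eq_of_prod (f := fun a => (nA * nB⁻¹).1.1 a a) (f' := fun a => g.1.1 a a)
      (prod_diag_borW D hhb) (prod_diag_borW D hg) μ key
  · exact key a haμ

end Cfsg.Agent.Helper25.SUU
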