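import Mathlib
import Cfsg.Agent.Helper25.SUUk

set_option autoImplicit false
set_option linter.unusedSimpArgs false
set_option linter.unusedSectionVars false
set_option linter.unusedVariables false
set_option linter.unusedTactic false
set_option linter.unreachableTactic false

/-! The upper triangular subgroup of the Witt unitary group is generated by the good set. -/

namespace Cfsg.Agent.Helper25.SUU

open Matrix
open Cfsg.Agent.Helper2.SUGen (Frob)

variable {n : ℕ} {K : Type*} [Field K] [Fintype K] {q : ℕ} (D : Frob K q)
variable (p : ℕ) [Fact p.Prime] [CharP K p]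

theorem borW_le_closure_goodSet (hn : 4 ≤ n) (h1 : 2 * 1 ≤ n) (h2 : 2 * 2 ≤ n) :
    borW n D ≤ Subgroup.closure (goodSet D p h1 h2) := by
  have key : ∀ d r : ℕ, r + d = n / 2 - 1 → ∀ g ∈ borW n D,
      (∀ a : Fin n, a.val < r → g.1.1 a a = 1) → g ∈ Subgroup.closure (goodSet D p h1 h2) := by
    intro d
    induction d with
    | zero =>
      intro r hr g hg hone
      rcases Nat.even_or_odd' n with ⟨m, hm | hm⟩
      · have hrm : r = m - 1 := by omega
        rw [hrm] at hone
        exact base_even D p h1 h2 hm hg hone
      · have hrm : r = m - 1 := by omega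
        rw [hrm] at hone
        exact base_odd D p h1 h2 hm (by omega) hg hone
    | succ d ih =>
      intro r hr g hg hone
      obtain ⟨i, hi⟩ : ∃ i : Fin n, i.val = r := ⟨⟨r, by omega⟩, rfl⟩
      obtain ⟨j, hj⟩ : ∃ j : Fin n, j.val = r + 1 := ⟨⟨r + 1, by omega⟩, rfl⟩
      have hir : i.rev.val = n - (r + 1) := by rw [Fin.val_rev, hi]
      have hjr : j.rev.val = n - (r + 2) := by rw [Fin.val_rev, hj]
      have h1' : i ≠ j := fun e => by have := congrArg Fin.val e; omega
      have h2' : i ≠ j.rev := fun e => by have := congrArg Fin.val e; omega
      have h3' : i ≠ i.rev := fun e => by have := congrArg Fin.val e; omega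
      have h4' : j ≠ j.rev := fun e => by have := congrArg Fin.val e; omega
      have hrel := upper_diag_rel D hg i
      obtain ⟨t, ht⟩ : ∃ t : K, t = g.1.1 i i := ⟨_, rfl⟩
      rw [← ht] at hrel
      have ht0 : t ≠ 0 := by
        intro h0
        rw [h0, mul_zero] at hrel
        exact zero_ne_one hrel
      have hti : t⁻¹ ≠ 0 := inv_ne_zero ht0
      have hval := helE_val D h1' h2' h3' h4' hti
      have hd : IsDiagM (helE D i j t⁻¹).1.1 := by
        rw [hval]
        exact isDiagM_Dg4 D i j _
      have hhmem : helE D i j t⁻¹ ∈ Subgroup.closure (goodSet D p h1 h2) := by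
        apply Subgroup.subset_closure
        by_cases hr0 : r = 0
        · refine ⟨hd.isUp, radW n D 2 h2, Or.inr (Or.inr rfl), ?_⟩
          apply helE_mem D p h2 h1' h3' h4'
          · intro c
            apply pshape_xm
            · unfold ZR; omega
            · unfold ZR; omega
          · intro c
            apply pshape_xm
            · unfold ZR; omega
            · unfold ZR; omega
        · refine ⟨hd.isUp, radW n D 1 h1, Or.inr (Or.inl rfl), ?_⟩
          apply helE_mem D p h1 h1' h3' h4'
          · intro c
            apply pshape_xm
            · unfold ZR; omega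
            · unfold ZR; omega
          · intro c
            apply pshape_xm
            · unfold ZR; omega
            · unfold ZR; omega
      have hg' : helE D i j t⁻¹ * g ∈ borW n D := mul_mem hd.isUp hg
      have hone' : ∀ a : Fin n, a.val < r + 1 → (helE D i j t⁻¹ * g).1.1 a a = 1 := by
        intro a ha
        rw [val_mul, hd.mul_apply, hval]
        by_cases hai : a = i
        · rw [hai, Dg4_apply_self D h1' h2' h3', ← ht, inv_mul_cancel₀ ht0]
        · have har : a.val < r := by
            have : a.val ≠ r := fun e => hai (Fin.ext (by omega))
            omega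
          rw [Dg4_apply_other D hai (fun e => by have := congrArg Fin.val e; omega)
            (fun e => by have := congrArg Fin.val e; omega)
            (fun e => by have := congrArg Fin.val e; omega), one_mul]
          exact hone a har
      have := ih (r + 1) (by omega) _ hg' hone'
      have e : g = (helE D i j t⁻¹)⁻¹ * (helE D i j t⁻¹ * g) := by group
      rw [e]
      exact mul_mem (inv_mem hhmem) this
  intro g hg
  exact key (n / 2 - 1) 0 (by omega) g hg (fun a ha => absurd ha (Nat.not_lt_zero _))

end Cfsg.Agent.Helper25.SUU
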