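import Mathlib
import Cfsg.Agent.Helper25.SUUh
import Cfsg.Agent.Helper25.SUUe

set_option autoImplicit false
set_option linter.unusedSimpArgs false
set_option linter.unusedSectionVars false
set_option linter.unusedVariables false
set_option linter.unusedTactic false
set_option linter.unreachableTactic false

/-! Subgroups of `U` closed under fusion in the Witt unitary group: root elements. -/

namespace Cfsg.Agent.Helper25.SUU

open Matrix
open Cfsg.Agent.Helper2.SUGen (Frob)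

variable {n : ℕ} {K : Type*} [Field K] {q : ℕ} (D : Frob K q)

theorem xm_mul {i j : Fin n} (hij : i ≠ j) (hi : i ≠ i.rev) (hj : j ≠ j.rev) (e e' : K) :
    xm D i j e * xm D i j e' = xm D i j (e + e') := by
  have hij' : j.rev ≠ i.rev := fun h => hij (Fin.rev_inj.mp h).symm
  have hNN := sq_zero_aux hij.symm hj hi.symm hij'.symm e (-(D.σ e)) e' (-(D.σ e'))
  unfold xm
  calc (1 + (Matrix.single i j e + Matrix.single j.rev i.rev (-(D.σ e)))) *
        (1 + (Matrix.single i j e' + Matrix.single j.rev i.rev (-(D.σ e'))))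
      = 1 + ((Matrix.single i j e + Matrix.single i j e') +
          (Matrix.single j.rev i.rev (-(D.σ e)) + Matrix.single j.rev i.rev (-(D.σ e')))) +
        (Matrix.single i j e + Matrix.single j.rev i.rev (-(D.σ e))) *
          (Matrix.single i j e' + Matrix.single j.rev i.rev (-(D.σ e'))) := by noncomm_ring
    _ = 1 + (Matrix.single i j (e + e') + Matrix.single j.rev i.rev (-(D.σ (e + e')))) := by
      rw [hNN, add_zero, ← Matrix.single_add, ← Matrix.single_add, map_add, neg_add]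

theorem xm_zero (i j : Fin n) : xm D i j 0 = 1 := by
  unfold xm
  rw [map_zero, neg_zero, Matrix.single_zero, Matrix.single_zero, add_zero, add_zero]

theorem ym_mul {i : Fin n} (hi : i ≠ i.rev) (c c' : K) : ym i c * ym i c' = ym i (c + c') := by
  unfold ym
  calc (1 + Matrix.single i i.rev c) * (1 + Matrix.single i i.rev c')
      = 1 + (Matrix.single i i.rev c + Matrix.single i i.rev c') +
        Matrix.single i i.rev c * Matrix.single i i.rev c' := by noncomm_ring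
    _ = 1 + Matrix.single i i.rev (c + c') := by
      rw [ss_ne hi.symm, add_zero, ← Matrix.single_add]

theorem ym_zero (i : Fin n) : ym i (0 : K) = 1 := by
  unfold ym
  rw [Matrix.single_zero, add_zero]

variable [Fintype K]

theorem ofMat_xm_mul {i j : Fin n} (hij : i ≠ j) (hi : i ≠ i.rev) (hj : j ≠ j.rev) (e e' : K) :
    ofMat D (xm D i j e) * ofMat D (xm D i j e') = ofMat D (xm D i j (e + e')) := by
  rw [← ofMat_mul D (isW_xm D hij hi hj e) (isW_xm D hij hi hj e'), xm_mul D hij hi hj]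

theorem ofMat_xm_inv {i j : Fin n} (hij : i ≠ j) (hi : i ≠ i.rev) (hj : j ≠ j.rev) (e : K) :
    (ofMat D (xm D i j e))⁻¹ = ofMat D (xm D i j (-e)) := by
  apply inv_eq_of_mul_eq_one_right
  rw [ofMat_xm_mul D hij hi hj, add_neg_cancel, xm_zero, ofMat_one]

theorem ofMat_ym_mul {i : Fin n} (hi : i ≠ i.rev) {c c' : K} (hc : D.σ c = -c) (hc' : D.σ c' = -c') :
    ofMat D (ym i c) * ofMat D (ym i c') = ofMat D (ym i (c + c')) := by
  rw [← ofMat_mul D (isW_ym D hi hc) (isW_ym D hi hc'), ym_mul hi]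

theorem ofMat_ym_inv {i : Fin n} (hi : i ≠ i.rev) {c : K} (hc : D.σ c = -c) :
    (ofMat D (ym i c))⁻¹ = ofMat D (ym i (-c)) := by
  apply inv_eq_of_mul_eq_one_right
  rw [ofMat_ym_mul D hi hc (by rw [map_neg, hc]), add_neg_cancel, ym_zero, ofMat_one]

/-- a subgroup of `U` closed under fusion -/
structure Closed (T : Subgroup ↥(WU n D)) : Prop where
  le : T ≤ uniW n D
  cl : ∀ t ∈ T, ∀ g : ↥(WU n D), g * t * g⁻¹ ∈ uniW n D → g * t * g⁻¹ ∈ T

variable {T : Subgroup ↥(WU n D)}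

theorem Closed.L1 (hT : Closed D T) {i k : Fin n} (h1 : i ≠ k) (h2 : i ≠ k.rev) (hik : i < k.rev)
    (hi : i < i.rev) (hk : k < k.rev) {c₀ : K} (hc₀ : c₀ ≠ 0) (hsk : D.σ c₀ = -c₀)
    (hY : ofMat D (ym i c₀) ∈ T) :
    (∀ e, ofMat D (xm D i k.rev e) ∈ T) ∧ (∀ s, D.σ s = -s → ofMat D (ym k s) ∈ T) := by
  have h3 : i ≠ i.rev := ne_of_lt hi
  have h4 : k ≠ k.rev := ne_of_lt hk
  have h4' : k.rev ≠ k.rev.rev := by rw [Fin.rev_rev]; exact h4.symm
  have hskN : ∀ r : K, D.σ (c₀ * (r * D.σ r)) = -(c₀ * (r * D.σ r)) := by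
    intro r
    rw [map_mul, map_mul, D.invol, hsk]
    ring
  -- the products `A r`
  have hA : ∀ r : K, ofMat D (ym k (c₀ * (r * D.σ r))) * ofMat D (xm D i k.rev (c₀ * D.σ r)) ∈ T := by
    intro r
    have wX := isW_xm D h1.symm h4 h3 r
    have wY := isW_ym D h3 hsk
    have wYk := isW_ym D h4 (hskN r)
    have wX' := isW_xm D h2 h3 h4' (c₀ * D.σ r)
    have hconj : ofMat D (xm D k i r) * ofMat D (ym i c₀) * (ofMat D (xm D k i r))⁻¹ =
        ofMat D (ym i c₀) * ofMat D (ym k (c₀ * (r * D.σ r))) *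
          ofMat D (xm D i k.rev (c₀ * D.σ r)) := by
      apply ext_val
      rw [conj_val D (M := ym i c₀ * ym k (c₀ * (r * D.σ r)) * xm D i k.rev (c₀ * D.σ r))]
      · rw [val_mul, val_mul, ofMat_val D wY, ofMat_val D wYk, ofMat_val D wX']
      · rw [ofMat_val D wX, ofMat_val D wY]
        exact I1n D h1 h2 h3 h4 hsk r
    have hU : ofMat D (ym i c₀) * ofMat D (ym k (c₀ * (r * D.σ r))) *
        ofMat D (xm D i k.rev (c₀ * D.σ r)) ∈ uniW n D :=
      mul_mem (mul_mem (ofMat_mem_uniW D wY (isUT_ym hi _)) (ofMat_mem_uniW D wYk (isUT_ym hk _)))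
        (ofMat_mem_uniW D wX' (isUT_xm D hik _))
    have hmem := hT.cl _ hY (ofMat D (xm D k i r)) (by rw [hconj]; exact hU)
    rw [hconj] at hmem
    have e : ofMat D (ym k (c₀ * (r * D.σ r))) * ofMat D (xm D i k.rev (c₀ * D.σ r)) =
        (ofMat D (ym i c₀))⁻¹ * (ofMat D (ym i c₀) * ofMat D (ym k (c₀ * (r * D.σ r))) *
          ofMat D (xm D i k.rev (c₀ * D.σ r))) := by group
    rw [e]
    exact mul_mem (inv_mem hY) hmem
  obtain ⟨ζ, hζ1, hζ⟩ := Cfsg.Agent.Helper2.SUGen.exists_norm_one_ne D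
  have hσζ : 1 - D.σ ζ ≠ 0 := by
    intro h
    apply hζ1
    have h5 : D.σ ζ = 1 := by linear_combination -h
    have := congrArg D.σ h5
    rwa [D.invol, map_one] at this
  have hX : ∀ e, ofMat D (xm D i k.rev e) ∈ T := by
    intro e
    obtain ⟨r, hr⟩ : ∃ r : K, r = D.σ (e / (c₀ * (1 - D.σ ζ))) := ⟨_, rfl⟩
    have hσr : D.σ r = e / (c₀ * (1 - D.σ ζ)) := by rw [hr, D.invol]
    have hN : c₀ * (ζ * r * D.σ (ζ * r)) = c₀ * (r * D.σ r) := by
      rw [map_mul]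
      linear_combination (c₀ * r * D.σ r) * hζ
    have h5 := mul_mem (inv_mem (hA (ζ * r))) (hA r)
    rw [hN] at h5
    have e1 : (ofMat D (ym k (c₀ * (r * D.σ r))) * ofMat D (xm D i k.rev (c₀ * D.σ (ζ * r))))⁻¹ *
        (ofMat D (ym k (c₀ * (r * D.σ r))) * ofMat D (xm D i k.rev (c₀ * D.σ r))) =
        (ofMat D (xm D i k.rev (c₀ * D.σ (ζ * r))))⁻¹ * ofMat D (xm D i k.rev (c₀ * D.σ r)) := by
      group
    rw [e1, ofMat_xm_inv D h2 h3 h4', ofMat_xm_mul D h2 h3 h4'] at h5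
    have e2 : -(c₀ * D.σ (ζ * r)) + c₀ * D.σ r = e := by
      rw [map_mul, hσr]
      field_simp
      ring
    rwa [e2] at h5
  refine ⟨hX, ?_⟩
  intro s hs
  by_cases hs0 : s = 0
  · rw [hs0, ym_zero, ofMat_one]
    exact one_mem _
  · have hfix : D.σ (s / c₀) = s / c₀ := by
      rw [map_div₀, hs, hsk, neg_div_neg_eq]
    obtain ⟨r, hr⟩ := Cfsg.Agent.Helper2.SUGen.exists_norm D (s / c₀) (div_ne_zero hs0 hc₀) hfix
    have h5 := mul_mem (hA r) (inv_mem (hX (c₀ * D.σ r)))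
    have e1 : ofMat D (ym k (c₀ * (r * D.σ r))) * ofMat D (xm D i k.rev (c₀ * D.σ r)) *
        (ofMat D (xm D i k.rev (c₀ * D.σ r)))⁻¹ = ofMat D (ym k (c₀ * (r * D.σ r))) := by group
    rw [e1, hr] at h5
    have e2 : c₀ * (s / c₀) = s := by field_simp
    rwa [e2] at h5

theorem Closed.L2 (hT : Closed D T) {i k : Fin n} (h1 : i ≠ k) (h2 : i ≠ k.rev) (hik : i < k)
    (hik' : i < k.rev) (hi : i < i.rev) (h4 : k ≠ k.rev)
    (hX' : ∀ e, ofMat D (xm D i k.rev e) ∈ T) (hYi : ∀ s, D.σ s = -s → ofMat D (ym i s) ∈ T) :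
    ∀ e, ofMat D (xm D i k e) ∈ T := by
  have h3 : i ≠ i.rev := ne_of_lt hi
  have h4' : k.rev ≠ k.rev.rev := by rw [Fin.rev_rev]; exact h4.symm
  obtain ⟨s₀, hs₀, hsk₀⟩ := Cfsg.Agent.Helper2.SUGen.exists_skew D
  intro e
  obtain ⟨e', he'⟩ : ∃ e' : K, e' = -e / s₀ := ⟨_, rfl⟩
  have hee : -(e' * s₀) = e := by rw [he']; field_simp
  have hskY : D.σ (e' * D.σ e' * s₀) = -(e' * D.σ e' * s₀) := by
    rw [map_mul, map_mul, D.invol, hsk₀]
    ring
  have wYl := isW_ym D h4' hsk₀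
  have wX' := isW_xm D h2 h3 h4' e'
  have wX := isW_xm D h1 h3 h4 (-(e' * s₀))
  have wY := isW_ym D h3 hskY
  have hconj : ofMat D (ym k.rev s₀) * ofMat D (xm D i k.rev e') * (ofMat D (ym k.rev s₀))⁻¹ =
      ofMat D (xm D i k.rev e') * ofMat D (xm D i k (-(e' * s₀))) *
        ofMat D (ym i (e' * D.σ e' * s₀)) := by
    apply ext_val
    rw [conj_val D (M := xm D i k.rev e' * xm D i k (-(e' * s₀)) * ym i (e' * D.σ e' * s₀))]
    · rw [val_mul, val_mul, ofMat_val D wX', ofMat_val D wX, ofMat_val D wY]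
    · rw [ofMat_val D wYl, ofMat_val D wX']
      exact I2n D h1 h2 h3 h4 hsk₀ e'
  have hU : ofMat D (xm D i k.rev e') * ofMat D (xm D i k (-(e' * s₀))) *
      ofMat D (ym i (e' * D.σ e' * s₀)) ∈ uniW n D :=
    mul_mem (mul_mem (ofMat_mem_uniW D wX' (isUT_xm D hik' _)) (ofMat_mem_uniW D wX (isUT_xm D hik _)))
      (ofMat_mem_uniW D wY (isUT_ym hi _))
  have hmem := hT.cl _ (hX' e') (ofMat D (ym k.rev s₀)) (by rw [hconj]; exact hU)
  rw [hconj] at hmem
  have e1 : ofMat D (xm D i k (-(e' * s₀))) = (ofMat D (xm D i k.rev e'))⁻¹ *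
      (ofMat D (xm D i k.rev e') * ofMat D (xm D i k (-(e' * s₀))) *
        ofMat D (ym i (e' * D.σ e' * s₀))) * (ofMat D (ym i (e' * D.σ e' * s₀)))⁻¹ := by group
  rw [← hee, e1]
  exact mul_mem (mul_mem (inv_mem (hX' e')) hmem) (inv_mem (hYi _ hskY))

theorem Closed.L3 (hT : Closed D T) {i k μ : Fin n} (h1 : i ≠ k) (h2 : i ≠ k.rev) (hik : i < k)
    (hkμ : k < μ) (hμ : μ.rev = μ)
    (hX' : ∀ e, ofMat D (xm D i k.rev e) ∈ T) (hX : ∀ e, ofMat D (xm D i k e) ∈ T) :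
    ∀ a b, b + D.σ b + a * D.σ a = 0 → ofMat D (zm D i μ a b) ∈ T := by
  have hiμ : i < μ := hik.trans hkμ
  have hμk' : μ < k.rev := by
    have := Fin.rev_lt_rev.mpr hkμ
    rwa [hμ] at this
  have hμi' : μ < i.rev := by
    have := Fin.rev_lt_rev.mpr hiμ
    rwa [hμ] at this
  have hi : i < i.rev := hiμ.trans hμi'
  have hk : k < k.rev := hkμ.trans hμk'
  have h3 : i ≠ i.rev := ne_of_lt hi
  have h4 : k ≠ k.rev := ne_of_lt hk
  have h4' : k.rev ≠ k.rev.rev := by rw [Fin.rev_rev]; exact h4.symm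
  have hik' : i < k.rev := hiμ.trans hμk'
  intro a b hab
  have hαβ : b + D.σ b + (-a) * D.σ (-a) = 0 := by
    rw [map_neg]
    linear_combination hab
  have wZl := isW_zm D h4' hμ hαβ
  have wX' := isW_xm D h2 h3 h4' 1
  have wZ := isW_zm D h3 hμ hab
  have wX := isW_xm D h1 h3 h4 (D.σ b)
  have hI := I3n D h1 h2 h3 h4 hμ hαβ 1
  have e1 : -(1 * -a) = a := by ring
  have e2 : 1 * D.σ 1 * b = b := by rw [map_one]; ring
  have e3 : 1 * D.σ b = D.σ b := one_mul _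
  rw [e1, e2, e3] at hI
  have hconj : ofMat D (zm D k.rev μ (-a) b) * ofMat D (xm D i k.rev 1) *
      (ofMat D (zm D k.rev μ (-a) b))⁻¹ =
      ofMat D (xm D i k.rev 1) * ofMat D (zm D i μ a b) * ofMat D (xm D i k (D.σ b)) := by
    apply ext_val
    rw [conj_val D (M := xm D i k.rev 1 * zm D i μ a b * xm D i k (D.σ b))]
    · rw [val_mul, val_mul, ofMat_val D wX', ofMat_val D wZ, ofMat_val D wX]
    · rw [ofMat_val D wZl, ofMat_val D wX']
      exact hI
  have hU : ofMat D (xm D i k.rev 1) * ofMat D (zm D i μ a b) * ofMat D (xm D i k (D.σ b)) ∈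
      uniW n D :=
    mul_mem (mul_mem (ofMat_mem_uniW D wX' (isUT_xm D hik' _))
      (ofMat_mem_uniW D wZ (isUT_zm D hiμ hμ _ _))) (ofMat_mem_uniW D wX (isUT_xm D hik _))
  have hmem := hT.cl _ (hX' 1) (ofMat D (zm D k.rev μ (-a) b)) (by rw [hconj]; exact hU)
  rw [hconj] at hmem
  have e4 : ofMat D (zm D i μ a b) = (ofMat D (xm D i k.rev 1))⁻¹ *
      (ofMat D (xm D i k.rev 1) * ofMat D (zm D i μ a b) * ofMat D (xm D i k (D.σ b))) *
      (ofMat D (xm D i k (D.σ b)))⁻¹ := by group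
  rw [e4]
  exact mul_mem (mul_mem (inv_mem (hX' 1)) hmem) (inv_mem (hX _))

theorem Closed.L4 (hT : Closed D T) {i k μ : Fin n} (h1 : i ≠ k) (hiμ : i < μ)
    (hkμ : k < μ) (hμ : μ.rev = μ)
    (hZ : ∀ a b, b + D.σ b + a * D.σ a = 0 → ofMat D (zm D i μ a b) ∈ T)
    (hX' : ∀ e, ofMat D (xm D i k.rev e) ∈ T) :
    ∀ a b, b + D.σ b + a * D.σ a = 0 → ofMat D (zm D k μ a b) ∈ T := by
  have hμk' : μ < k.rev := by
    have := Fin.rev_lt_rev.mpr hkμ
    rwa [hμ] at this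
  have hμi' : μ < i.rev := by
    have := Fin.rev_lt_rev.mpr hiμ
    rwa [hμ] at this
  have hi : i < i.rev := hiμ.trans hμi'
  have hk : k < k.rev := hkμ.trans hμk'
  have h3 : i ≠ i.rev := ne_of_lt hi
  have h4 : k ≠ k.rev := ne_of_lt hk
  have h4' : k.rev ≠ k.rev.rev := by rw [Fin.rev_rev]; exact h4.symm
  have hik' : i < k.rev := hiμ.trans hμk'
  have h2 : i ≠ k.rev := ne_of_lt hik'
  intro a b hab
  have wXl := isW_xm D h1.symm h4 h3 1
  have wZi := isW_zm D h3 hμ hab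
  have wZk := isW_zm D h4 hμ hab
  have wX' := isW_xm D h2 h3 h4' (-(D.σ b))
  have hI := I4n D h1 h2 h3 h4 hμ hab 1
  have e1 : (1 : K) * a = a := one_mul _
  have e2 : 1 * D.σ 1 * b = b := by rw [map_one]; ring
  have e3 : b * 1 = b := mul_one _
  rw [e1, e2, e3] at hI
  have hconj : ofMat D (xm D k i 1) * ofMat D (zm D i μ a b) * (ofMat D (xm D k i 1))⁻¹ =
      ofMat D (zm D i μ a b) * ofMat D (zm D k μ a b) * ofMat D (xm D i k.rev (-(D.σ b))) := by
    apply ext_val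
    rw [conj_val D (M := zm D i μ a b * zm D k μ a b * xm D i k.rev (-(D.σ b)))]
    · rw [val_mul, val_mul, ofMat_val D wZi, ofMat_val D wZk, ofMat_val D wX']
    · rw [ofMat_val D wXl, ofMat_val D wZi]
      exact hI
  have hU : ofMat D (zm D i μ a b) * ofMat D (zm D k μ a b) *
      ofMat D (xm D i k.rev (-(D.σ b))) ∈ uniW n D :=
    mul_mem (mul_mem (ofMat_mem_uniW D wZi (isUT_zm D hiμ hμ _ _))
      (ofMat_mem_uniW D wZk (isUT_zm D hkμ hμ _ _))) (ofMat_mem_uniW D wX' (isUT_xm D hik' _))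
  have hmem := hT.cl _ (hZ a b hab) (ofMat D (xm D k i 1)) (by rw [hconj]; exact hU)
  rw [hconj] at hmem
  have e4 : ofMat D (zm D k μ a b) = (ofMat D (zm D i μ a b))⁻¹ *
      (ofMat D (zm D i μ a b) * ofMat D (zm D k μ a b) * ofMat D (xm D i k.rev (-(D.σ b)))) *
      (ofMat D (xm D i k.rev (-(D.σ b))))⁻¹ := by group
  rw [e4]
  exact mul_mem (mul_mem (inv_mem (hZ a b hab)) hmem) (inv_mem (hX' _))

end Cfsg.Agent.Helper25.SUU
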