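import Mathlib
import Cfsg.Agent.Helper25.SUUm
import Cfsg.Agent.Helper25.SUUj

set_option autoImplicit false
set_option linter.unusedSimpArgs false
set_option linter.unusedSectionVars false
set_option linter.unusedVariables false
set_option linter.unusedTactic false
set_option linter.unreachableTactic false

/-! The unitriangular subgroup of the Witt unitary group is generated by root elements. -/

namespace Cfsg.Agent.Helper25.SUU

open Matrix
open Cfsg.Agent.Helper2.SUGen (Frob)

variable {n : ℕ} {K : Type*} [Field K] [Fintype K] {q : ℕ} (D : Frob K q)

/-- the upper root elements -/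
def rootSet (n : ℕ) {K : Type*} [Field K] [Fintype K] {q : ℕ} (D : Frob K q) : Set ↥(WU n D) :=
  {g | (∃ (i j : Fin n) (c : K), i < j ∧ j < i.rev ∧ j ≠ j.rev ∧ g = ofMat D (xm D i j c)) ∨
    (∃ (i : Fin n) (c : K), i < i.rev ∧ D.σ c = -c ∧ g = ofMat D (ym i c)) ∨
    (∃ (i μ : Fin n) (a b : K), i < μ ∧ μ.rev = μ ∧ b + D.σ b + a * D.σ a = 0 ∧
      g = ofMat D (zm D i μ a b))}

omit [Fintype K] in
theorem mul_single_apply' (U : Matrix (Fin n) (Fin n) K) (a b : Fin n) (x : K) (k l : Fin n) :
    (U * Matrix.single a b x) k l = if l = b then U k a * x else 0 := by
  by_cases h : l = b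
  · rw [if_pos h, h, Matrix.mul_single_apply_same]
  · rw [if_neg h, Matrix.mul_single_apply_of_ne _ _ _ _ _ h]

theorem skew_entry {u : ↥(WU n D)} (hu : u ∈ uniW n D) {i : Fin n} (hi : i < i.rev)
    (h : ∀ l, i < l → l < i.rev → u.1.1 i l = 0) : D.σ (u.1.1 i i.rev) = -(u.1.1 i i.rev) := by
  have hut : SLU.IsUT u.1.1 := hu
  have h1 := congrFun (congrFun (isW_val D u).mul_adj i) i.rev
  rw [Matrix.one_apply_ne (ne_of_lt hi), Matrix.mul_apply,
    Finset.sum_eq_add i i.rev (ne_of_lt hi)] at h1
  · rw [adj_apply, adj_apply, Fin.rev_rev, hut.2 i, map_one, one_mul, mul_one] at h1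
    linear_combination h1
  · intro l _ hl
    rcases lt_or_gt_of_ne hl.1 with h2 | h2
    · rw [hut.1 i l h2, zero_mul]
    · rcases lt_or_gt_of_ne hl.2 with h3 | h3
      · rw [h l h2 h3, zero_mul]
      · have h4 : l.rev < i := by
          have := Fin.rev_lt_rev.mpr h3
          rwa [Fin.rev_rev] at this
        rw [adj_apply, Fin.rev_rev, hut.1 i l.rev h4, map_zero, mul_zero]
  · intro h
    exact absurd (Finset.mem_univ _) h
  · intro h
    exact absurd (Finset.mem_univ _) h

theorem eq_one_of_essential_zero {u : ↥(WU n D)} (hu : u ∈ uniW n D)
    (h : ∀ i j : Fin n, i < j → j ≤ i.rev → u.1.1 i j = 0) : u = 1 := by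
  have hut : SLU.IsUT u.1.1 := hu
  have key : ∀ m : ℕ, ∀ i : Fin n, i.val = m → ∀ j, i < j → u.1.1 i j = 0 := by
    intro m
    induction m using Nat.strong_induction_on with
    | _ m ih =>
      intro i him j hij
      by_cases hj : j ≤ i.rev
      · exact h i j hij hj
      · push Not at hj
        have hs : j.rev < i := by
          have := Fin.rev_lt_rev.mpr hj
          rwa [Fin.rev_rev] at this
        have hrow : ∀ l, l ≠ j.rev → u.1.1 j.rev l = 0 := by
          intro l hl
          rcases lt_or_gt_of_ne hl with h2 | h2
          · exact hut.1 j.rev l h2
          · exact ih j.rev.val (by rw [← him]; exact Fin.lt_def.mp hs) j.rev rfl l h2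
        have h1 := congrFun (congrFun (isW_val D u).mul_adj i) j
        rw [Matrix.one_apply_ne (ne_of_lt hij), Matrix.mul_apply, Finset.sum_eq_single j] at h1
        · rw [adj_apply, hut.2 j.rev, map_one, mul_one] at h1
          exact h1
        · intro l _ hl
          have : l.rev ≠ j.rev := fun e => hl (Fin.rev_inj.mp e)
          rw [adj_apply, hrow l.rev this, map_zero, mul_zero]
        · intro h
          exact absurd (Finset.mem_univ _) h
  apply ext_val
  ext a b
  rw [val_one]
  rcases lt_trichotomy a b with h1 | h1 | h1
  · rw [key a.val a rfl b h1, Matrix.one_apply_ne (ne_of_lt h1)]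
  · rw [h1, hut.2 b, Matrix.one_apply_eq]
  · rw [hut.1 a b h1, Matrix.one_apply_ne (ne_of_gt h1)]

theorem uniW_le_closure_rootSet : uniW n D ≤ Subgroup.closure (rootSet n D) := by
  have hmono : ∀ a b : ℕ, a < b → n * a + n ≤ n * b := fun a b h => by
    calc n * a + n = n * (a + 1) := by ring
      _ ≤ n * b := Nat.mul_le_mul_left n h
  have key : ∀ d r : ℕ, r + d = n * n → ∀ u ∈ uniW n D,
      (∀ i j : Fin n, i < j → j ≤ i.rev → n * i.val + j.val < r → u.1.1 i j = 0) →
      u ∈ Subgroup.closure (rootSet n D) := by
    intro d
    induction d with
    | zero =>
      intro r hr u hu h0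
      have : u = 1 := by
        apply eq_one_of_essential_zero D hu
        intro i j hij hj
        apply h0 i j hij hj
        have h1 := hmono _ _ i.isLt
        have h2 := j.isLt
        omega
      rw [this]
      exact one_mem _
    | succ d ih =>
      intro r hr u hu hP
      have hut : SLU.IsUT u.1.1 := hu
      by_cases hex : ∃ i j : Fin n, i < j ∧ j ≤ i.rev ∧ n * i.val + j.val = r
      · obtain ⟨i, j, hij, hji, hrank⟩ := hex
        have hijv := Fin.lt_def.mp hij
        have hjiv := Fin.le_def.mp hji
        have hirv : i.rev.val = n - (i.val + 1) := Fin.val_rev i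
        have hjrv : j.rev.val = n - (j.val + 1) := Fin.val_rev j
        have hil := i.isLt
        have hjl := j.isLt
        have hi : i < i.rev := lt_of_lt_of_le hij hji
        -- the common finishing step
        have finish : ∀ X : ↥(WU n D), X ∈ rootSet n D → X ∈ uniW n D →
            (∀ k l : Fin n, k < l → l ≤ k.rev → n * k.val + l.val < r + 1 →
              (u.1.1 * X.1.1) k l = 0) → u ∈ Subgroup.closure (rootSet n D) := by
          intro X hXr hXu hXP
          have h1 := ih (r + 1) (by omega) (u * X) (mul_mem hu hXu) (by
            intro k l hkl hlk hlt
            rw [val_mul]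
            exact hXP k l hkl hlk hlt)
          have e : u = u * X * X⁻¹ := by group
          rw [e]
          exact mul_mem h1 (inv_mem (Subgroup.subset_closure hXr))
        -- zero entries above row `i`
        have hrowk : ∀ k l : Fin n, k.val < i.val → k < l → l ≤ k.rev → u.1.1 k l = 0 := by
          intro k l hk hkl hlk
          apply hP k l hkl hlk
          have := hmono _ _ hk
          have := l.isLt
          omega
        have hrowi : ∀ l : Fin n, i < l → l.val < j.val → u.1.1 i l = 0 := by
          intro l hil' hlj
          apply hP i l hil' (Fin.le_def.mpr (by omega))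
          omega
        have hcase : ∀ k l : Fin n, n * k.val + l.val < r + 1 →
            k.val < i.val ∨ (k = i ∧ l.val ≤ j.val) := by
          intro k l hlt
          rcases lt_trichotomy k.val i.val with h1 | h1 | h1
          · exact Or.inl h1
          · right
            refine ⟨Fin.ext h1, ?_⟩
            rw [h1] at hlt
            omega
          · exfalso
            have := hmono _ _ h1
            omega
        by_cases hj1 : j = i.rev
        · -- long root
          have hcskew : D.σ (u.1.1 i i.rev) = -(u.1.1 i i.rev) := by
            apply skew_entry D hu hi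
            intro l h1 h2
            apply hrowi l h1
            rw [hj1]
            exact Fin.lt_def.mp h2
          have hW := isW_ym D (ne_of_lt hi) (skew_neg D hcskew)
          apply finish (ofMat D (ym i (-(u.1.1 i i.rev))))
          · right
            left
            exact ⟨i, _, hi, skew_neg D hcskew, rfl⟩
          · exact ofMat_mem_uniW D hW (isUT_ym hi _)
          · intro k l hkl hlk hlt
            rw [ofMat_val D hW, ym, Matrix.mul_add, Matrix.mul_one, Matrix.add_apply,
              mul_single_apply']
            rcases hcase k l hlt with h1 | ⟨h1, h2⟩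
            · have hki : k < i := Fin.lt_def.mpr h1
              rw [hrowk k l h1 hkl hlk, hrowk k i h1 hki (Fin.le_def.mpr (by
                have := Fin.val_rev k
                omega))]
              simp
            · subst h1
              by_cases hl : l = k.rev
              · rw [if_pos hl, hl, hut.2 k]
                ring
              · rw [if_neg hl, add_zero]
                apply hrowi l hkl
                rw [hj1]
                have : l.val ≠ k.rev.val := fun e => hl (Fin.ext e)
                rw [hj1] at h2
                omega
        by_cases hj2 : j.rev = j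
        · -- middle root
          have hjlt : j < i.rev := lt_of_le_of_ne hji hj1
          obtain ⟨b', hb'⟩ := Cfsg.Agent.Helper2.SUGen.exists_trace D
            (-(-(u.1.1 i j) * D.σ (-(u.1.1 i j)))) (by
              rw [map_neg, map_mul, D.invol, mul_comm])
          have hrel : b' + D.σ b' + -(u.1.1 i j) * D.σ (-(u.1.1 i j)) = 0 := by
            rw [hb']
            ring
          have hW := isW_zm D (ne_of_lt hi) hj2 hrel
          apply finish (ofMat D (zm D i j (-(u.1.1 i j)) b'))
          · right
            right
            exact ⟨i, j, _, _, hij, hj2, hrel, rfl⟩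
          · exact ofMat_mem_uniW D hW (isUT_zm D hij hj2 _ _)
          · intro k l hkl hlk hlt
            rw [ofMat_val D hW, zm, Matrix.mul_add, Matrix.mul_one, Matrix.add_apply,
              Matrix.mul_add, Matrix.mul_add, Matrix.add_apply, Matrix.add_apply,
              mul_single_apply', mul_single_apply', mul_single_apply']
            rcases hcase k l hlt with h1 | ⟨h1, h2⟩
            · have hki : k < i := Fin.lt_def.mpr h1
              have hkrv := Fin.val_rev k
              rw [hrowk k l h1 hkl hlk, hrowk k i h1 hki (Fin.le_def.mpr (by omega)),
                hrowk k j h1 (hki.trans hij) (Fin.le_def.mpr (by omega))]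
              simp
            · subst h1
              have hl2 : l ≠ k.rev := by
                intro e
                rw [e] at h2
                have := Fin.lt_def.mp hjlt
                omega
              by_cases hl : l = j
              · rw [if_pos hl, if_neg hl2, if_neg hl2, hl, hut.2 k]
                ring
              · rw [if_neg hl, if_neg hl2, if_neg hl2, add_zero, add_zero, add_zero]
                apply hrowi l hkl
                have : l.val ≠ j.val := fun e => hl (Fin.ext e)
                omega
        · -- short root
          have hjlt : j < i.rev := lt_of_le_of_ne hji hj1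
          have hjltv := Fin.lt_def.mp hjlt
          have hj3 : j ≠ j.rev := fun e => hj2 e.symm
          have hW := isW_xm D (ne_of_lt hij) (ne_of_lt hi) hj3 (-(u.1.1 i j))
          apply finish (ofMat D (xm D i j (-(u.1.1 i j))))
          · left
            exact ⟨i, j, _, hij, hjlt, hj3, rfl⟩
          · exact ofMat_mem_uniW D hW (isUT_xm D hij _)
          · intro k l hkl hlk hlt
            rw [ofMat_val D hW, xm, Matrix.mul_add, Matrix.mul_one, Matrix.add_apply,
              Matrix.mul_add, Matrix.add_apply, mul_single_apply', mul_single_apply']
            rcases hcase k l hlt with h1 | ⟨h1, h2⟩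
            · have hki : k < i := Fin.lt_def.mpr h1
              have hkrv := Fin.val_rev k
              rw [hrowk k l h1 hkl hlk, hrowk k i h1 hki (Fin.le_def.mpr (by omega)),
                hrowk k j.rev h1 (Fin.lt_def.mpr (by omega)) (Fin.le_def.mpr (by omega))]
              simp
            · subst h1
              have hl2 : l ≠ k.rev := by
                intro e
                rw [e] at h2
                omega
              by_cases hl : l = j
              · rw [if_pos hl, if_neg hl2, hl, hut.2 k]
                ring
              · rw [if_neg hl, if_neg hl2, add_zero, add_zero]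
                apply hrowi l hkl
                have : l.val ≠ j.val := fun e => hl (Fin.ext e)
                omega
      · apply ih (r + 1) (by omega) u hu
        intro i j hij hji hlt
        apply hP i j hij hji
        have : n * i.val + j.val ≠ r := fun e => hex ⟨i, j, hij, hji, e⟩
        omega
  intro u hu
  exact key (n * n) 0 (by omega) u hu (fun i j _ _ h => absurd h (Nat.not_lt_zero _))

end Cfsg.Agent.Helper25.SUU
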