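import Mathlib
import Cfsg.Agent.Helper25.SUUn
import Cfsg.Agent.Helper25.SUUl
import Cfsg.Agent.Helper25.PSLFusionA
import Cfsg.Agent.Helper25.PSLFusionB
import Cfsg.Agent.Helper25.FusionIso4

set_option autoImplicit false
set_option linter.unusedSimpArgs false
set_option linter.unusedSectionVars false
set_option linter.unusedVariables false
set_option linter.unusedTactic false
set_option linter.unreachableTactic false

/-! The `p`-fusion system of the Witt unitary group is simple. -/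

namespace Cfsg.Agent.Helper25.SUU

open Matrix Cfsg Cfsg.FusionSystem
open Cfsg.Agent.Helper2.SUGen (Frob)

variable {n : ℕ} {K : Type*} [Field K] [Fintype K] {q : ℕ} (D : Frob K q)
variable {T : Subgroup ↥(WU n D)}

theorem Closed.rootSet_subset (p : ℕ) [Fact p.Prime] [CharP K p] (hT : Closed D T) (hTne : T ≠ ⊥)
    (hn : 4 ≤ n) : rootSet n D ⊆ T := by
  obtain ⟨i0, h0⟩ : ∃ i0 : Fin n, i0.val = 0 := ⟨⟨0, by omega⟩, rfl⟩
  obtain ⟨i1, h1⟩ : ∃ i1 : Fin n, i1.val = 1 := ⟨⟨1, by omega⟩, rfl⟩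
  have hr0 : i0.rev.val = n - 1 := by rw [Fin.val_rev, h0]
  have hr1 : i1.rev.val = n - 2 := by rw [Fin.val_rev, h1]
  have hi0 : i0 < i0.rev := Fin.lt_def.mpr (by omega)
  have hi1 : i1 < i1.rev := Fin.lt_def.mpr (by omega)
  -- a central element
  have hnorm : (T.subgroupOf (uniW n D)).Normal := by
    constructor
    intro t ht u
    rw [Subgroup.mem_subgroupOf] at ht ⊢
    exact hT.cl _ ht u.1 (mul_mem (mul_mem u.2 (hT.le ht)) (inv_mem u.2))
  have hT' : T.subgroupOf (uniW n D) ≠ ⊥ := by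
    intro h
    apply hTne
    rw [eq_bot_iff]
    intro t ht
    have : (⟨t, hT.le ht⟩ : uniW n D) ∈ T.subgroupOf (uniW n D) := Subgroup.mem_subgroupOf.mpr ht
    rw [h, Subgroup.mem_bot] at this
    rw [Subgroup.mem_bot]
    exact congrArg Subtype.val this
  obtain ⟨z, hzT, hz1, hzc⟩ := SLU.exists_central_of_normal (isPGroup_uniW D p) _ hT'
  obtain ⟨c₀, hsk, hz⟩ := center_uniW_form D (by omega) h0 z.2 (fun u hu => by
    have := Subgroup.mem_center_iff.mp hzc ⟨u, hu⟩
    exact congrArg Subtype.val this)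
  have hc₀ : c₀ ≠ 0 := by
    intro h
    apply hz1
    apply Subtype.ext
    rw [hz, h, ym_zero, ofMat_one]
    rfl
  have hY0 : ofMat D (ym i0 c₀) ∈ T := by
    rw [← hz]
    exact Subgroup.mem_subgroupOf.mp hzT
  -- index facts
  have top_facts : ∀ i k : Fin n, i < i.rev → k < k.rev → i ≠ k → i ≠ k.rev ∧ i < k.rev := by
    intro i k hi hk hik
    have h1' := Fin.lt_def.mp hi
    have h2' := Fin.lt_def.mp hk
    have h3' := Fin.val_rev i
    have h4' := Fin.val_rev k
    have hlt : i.val < k.rev.val := by omega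
    exact ⟨fun e => by rw [e] at hlt; exact lt_irrefl _ hlt, Fin.lt_def.mpr hlt⟩
  have h01 : i0 ≠ i1 := fun e => by have := congrArg Fin.val e; omega
  -- long root elements
  have hB := hT.L1 D h01 (top_facts i0 i1 hi0 hi1 h01).1 (top_facts i0 i1 hi0 hi1 h01).2 hi0 hi1
    hc₀ hsk hY0
  have hC := hT.L1 D h01.symm (top_facts i1 i0 hi1 hi0 h01.symm).1
    (top_facts i1 i0 hi1 hi0 h01.symm).2 hi1 hi0 hc₀ hsk (hB.2 c₀ hsk)
  have hYall : ∀ i : Fin n, i < i.rev → ∀ s, D.σ s = -s → ofMat D (ym i s) ∈ T := by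
    intro i hi
    by_cases hi0' : i = i0
    · rw [hi0']
      exact hC.2
    · exact (hT.L1 D (Ne.symm hi0') (top_facts i0 i hi0 hi (Ne.symm hi0')).1
        (top_facts i0 i hi0 hi (Ne.symm hi0')).2 hi0 hi hc₀ hsk hY0).2
  have hX'all : ∀ i k : Fin n, i < i.rev → k < k.rev → i ≠ k →
      ∀ e, ofMat D (xm D i k.rev e) ∈ T := by
    intro i k hi hk hik
    exact (hT.L1 D hik (top_facts i k hi hk hik).1 (top_facts i k hi hk hik).2 hi hk hc₀ hsk
      (hYall i hi c₀ hsk)).1
  have hXall : ∀ i k : Fin n, i < k → k < k.rev → ∀ e, ofMat D (xm D i k e) ∈ T := by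
    intro i k hik hk
    have hi : i < i.rev := by
      have := Fin.rev_lt_rev.mpr hik
      exact hik.trans (hk.trans this)
    have hne := ne_of_lt hik
    exact hT.L2 D hne (top_facts i k hi hk hne).1 hik (top_facts i k hi hk hne).2 hi (ne_of_lt hk)
      (hX'all i k hi hk hne) (hYall i hi)
  have hZall : ∀ i μ : Fin n, i < μ → μ.rev = μ →
      ∀ a b, b + D.σ b + a * D.σ a = 0 → ofMat D (zm D i μ a b) ∈ T := by
    intro i μ hiμ hμ
    have hμv : 2 * μ.val + 1 = n := by
      have := congrArg Fin.val hμ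
      rw [Fin.val_rev] at this
      have := μ.isLt
      omega
    have h1μ : i1 < μ := Fin.lt_def.mpr (by omega)
    have h0μ : i0 < μ := Fin.lt_def.mpr (by omega)
    have h01lt : i0 < i1 := Fin.lt_def.mpr (by omega)
    have hZ0 := hT.L3 D h01 (top_facts i0 i1 hi0 hi1 h01).1 h01lt h1μ hμ
      (hX'all i0 i1 hi0 hi1 h01) (hXall i0 i1 h01lt hi1)
    by_cases hi0' : i = i0
    · rw [hi0']
      exact hZ0
    · have hi : i < i.rev := by
        have := Fin.rev_lt_rev.mpr hiμ
        rw [hμ] at this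
        exact hiμ.trans this
      exact hT.L4 D (Ne.symm hi0') h0μ hiμ hμ hZ0 (hX'all i0 i hi0 hi (Ne.symm hi0'))
  -- all root elements
  rintro g (⟨i, j, c, hij, hji, hjj, rfl⟩ | ⟨i, c, hi, hc, rfl⟩ | ⟨i, μ, a, b, hiμ, hμ, hab, rfl⟩)
  · have hi : i < i.rev := hij.trans hji
    rcases lt_or_gt_of_ne hjj with h | h
    · exact hXall i j hij h c
    · have hk : j.rev < j.rev.rev := by rw [Fin.rev_rev]; exact h
      have hne : i ≠ j.rev := by
        intro e
        rw [e, Fin.rev_rev] at hji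
        exact lt_irrefl _ hji
      have := hX'all i j.rev hi hk hne c
      rwa [Fin.rev_rev] at this
  · exact hYall i hi c hc
  · exact hZall i μ hiμ hμ a b hab

theorem Closed.eq_uniW (p : ℕ) [Fact p.Prime] [CharP K p] (hT : Closed D T) (hTne : T ≠ ⊥)
    (hn : 4 ≤ n) : T = uniW n D := by
  apply le_antisymm hT.le
  refine (uniW_le_closure_rootSet D).trans ?_
  rw [Subgroup.closure_le]
  exact hT.rootSet_subset D p hTne hn

theorem wu_isSimple_uni (p : ℕ) [Fact p.Prime] [CharP K p] (hn : 4 ≤ n)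
    (P : Sylow p ↥(WU n D)) (hP : (P : Subgroup ↥(WU n D)) = uniW n D) :
    (groupFusionSystem (P : Subgroup ↥(WU n D))).IsSimple p := by
  obtain ⟨i0, h0⟩ : ∃ i0 : Fin n, i0.val = 0 := ⟨⟨0, by omega⟩, rfl⟩
  obtain ⟨i1, h1⟩ : ∃ i1 : Fin n, i1.val = 1 := ⟨⟨1, by omega⟩, rfl⟩
  have hr0 : i0.rev.val = n - 1 := by rw [Fin.val_rev, h0]
  have hi0 : i0 < i0.rev := Fin.lt_def.mpr (by omega)
  have h21 : 2 * 1 ≤ n := by omega
  have h22 : 2 * 2 ≤ n := by omega
  apply groupFusionSystem_isSimple_of_centric_gen p P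
  · rw [hP]
    intro h
    obtain ⟨c, hc0, hc⟩ := Cfsg.Agent.Helper2.SUGen.exists_skew D
    have hW := isW_ym D (ne_of_lt hi0) hc
    have hmem : ofMat D (ym i0 c) ∈ uniW n D := ofMat_mem_uniW D hW (isUT_ym hi0 c)
    rw [h, Subgroup.mem_bot] at hmem
    have h2 := congrArg (fun g : ↥(WU n D) => g.1.1 i0 i0.rev) hmem
    simp only [ofMat_val D hW, val_one] at h2
    rw [ym, Matrix.add_apply, Matrix.one_apply_ne (ne_of_lt hi0), Matrix.single_apply_same,
      zero_add] at h2
    exact hc0 h2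
  · intro T hTS hcl
    by_cases hT : T = ⊥
    · exact Or.inl hT
    · right
      rw [hP] at hTS hcl ⊢
      exact Closed.eq_uniW D p ⟨hTS, hcl⟩ hT hn
  · rw [hP]
    intro g hg
    have hb := borW_le_closure_goodSet D p hn h21 h22 (normalizer_uniW_le D hg)
    refine Subgroup.closure_mono ?_ hb
    rintro x ⟨hxb, R, hR, hxR⟩
    refine ⟨borW_le_normalizer D hxb, R, ?_, hxR⟩
    rcases hR with rfl | rfl | rfl
    · exact isCentric_self
    · exact isCentric_of_pElements p (isPGroup_uniW D p) (radW_le_uniW D h21)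
        (fun y hy ⟨k, hk⟩ => mem_radW_one_of_centralizer D p (by omega) h0
          (fun r hr => Subgroup.mem_centralizer_iff.mp hy r hr) hk)
    · exact isCentric_of_pElements p (isPGroup_uniW D p) (radW_le_uniW D h22)
        (fun y hy ⟨k, hk⟩ => mem_radW_two_of_centralizer D p hn h0 h1
          (fun r hr => Subgroup.mem_centralizer_iff.mp hy r hr) hk)

/-- The `p`-fusion system of the Witt unitary group is simple on every Sylow `p`-subgroup. -/
theorem wu_isSimple (p : ℕ) [Fact p.Prime] [CharP K p] (hn : 4 ≤ n) (S : Sylow p ↥(WU n D)) :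
    (groupFusionSystem (S : Subgroup ↥(WU n D))).IsSimple p := by
  obtain ⟨P, hP⟩ := exists_sylow_uniW (n := n) D p
  have h1 := wu_isSimple_uni D p hn P hP
  obtain ⟨g, hg⟩ := MulAction.exists_smul_eq ↥(WU n D) P S
  have hS : (S : Subgroup ↥(WU n D)) = cj (P : Subgroup _) g := by
    rw [← hg]
    rfl
  rw [hS]
  exact iso_isSimple p P.isPGroup' (groupFusion_conj_isFactorSystem (P : Subgroup _) g) h1

end Cfsg.Agent.Helper25.SUU
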