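import Mathlib
import Cfsg.Agent.Helper25.SpUH

set_option autoImplicit false
set_option linter.unusedSimpArgs false
set_option linter.unusedSectionVars false
set_option linter.unusedVariables false

/-! The unipotent radical `Q` of the stabilizer of the first basis vector in `Sp_{2m}(K)`. -/

namespace Cfsg.Agent.Helper25.SpU

open Matrix

variable {m : ℕ} {K : Type*} [Field K]

/-- shape of the radical of the line stabilizer -/
def IsQ (i0 : Fin m) (M : Matrix (Fin m ⊕ Fin m) (Fin m ⊕ Fin m) K) : Prop :=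
  (∀ r s, r ≠ Sum.inl i0 → s ≠ Sum.inr i0 →
    M r s = (1 : Matrix (Fin m ⊕ Fin m) (Fin m ⊕ Fin m) K) r s) ∧
  M (Sum.inl i0) (Sum.inl i0) = 1 ∧ M (Sum.inr i0) (Sum.inr i0) = 1

/-- matrices fixing the two distinguished basis vectors and preserving their complement -/
def FixQ (i0 : Fin m) (M : Matrix (Fin m ⊕ Fin m) (Fin m ⊕ Fin m) K) : Prop :=
  (∀ s, M (Sum.inl i0) s = (1 : Matrix (Fin m ⊕ Fin m) (Fin m ⊕ Fin m) K) (Sum.inl i0) s) ∧
  (∀ s, M (Sum.inr i0) s = (1 : Matrix (Fin m ⊕ Fin m) (Fin m ⊕ Fin m) K) (Sum.inr i0) s) ∧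
  (∀ r, M r (Sum.inl i0) = (1 : Matrix (Fin m ⊕ Fin m) (Fin m ⊕ Fin m) K) r (Sum.inl i0)) ∧
  (∀ r, M r (Sum.inr i0) = (1 : Matrix (Fin m ⊕ Fin m) (Fin m ⊕ Fin m) K) r (Sum.inr i0))

theorem isQ_one (i0 : Fin m) : IsQ i0 (1 : Matrix (Fin m ⊕ Fin m) (Fin m ⊕ Fin m) K) :=
  ⟨fun _ _ _ _ => rfl, Matrix.one_apply_eq _, Matrix.one_apply_eq _⟩

/-- key computation: right multiplication by a matrix whose row `f` is trivial -/
theorem IsQ.mul_right_apply {i0 : Fin m} {M N : Matrix (Fin m ⊕ Fin m) (Fin m ⊕ Fin m) K}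
    (hM : IsQ i0 M)
    (hN : ∀ s, s ≠ Sum.inr i0 → N (Sum.inr i0) s = 0)
    {k s : Fin m ⊕ Fin m} (hk : k ≠ Sum.inl i0) (hs : s ≠ Sum.inr i0) :
    (M * N) k s = if k = Sum.inr i0 then 0 else N k s := by
  rw [Matrix.mul_apply]
  by_cases hkf : k = Sum.inr i0
  · rw [if_pos hkf]
    apply Finset.sum_eq_zero
    intro l _
    by_cases hl : l = Sum.inr i0
    · rw [hl, hN s hs, mul_zero]
    · rw [hM.1 k l hk hl, Matrix.one_apply_ne (by rw [hkf]; exact fun h => hl h.symm), zero_mul]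
  · rw [if_neg hkf, Finset.sum_eq_single k]
    · rw [hM.1 k k hk hkf, Matrix.one_apply_eq, one_mul]
    · intro l _ hlk
      by_cases hl : l = Sum.inr i0
      · rw [hl, hN s hs, mul_zero]
      · rw [hM.1 k l hk hl, Matrix.one_apply_ne (fun h => hlk h.symm), zero_mul]
    · intro h
      exact absurd (Finset.mem_univ k) h

theorem IsQ.mul {i0 : Fin m} {M N : Matrix (Fin m ⊕ Fin m) (Fin m ⊕ Fin m) K}
    (hM : IsQ i0 M) (hN : IsQ i0 N) : IsQ i0 (M * N) := by
  have hNf : ∀ s, s ≠ Sum.inr i0 → N (Sum.inr i0) s = 0 := by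
    intro s hs
    rw [hN.1 _ s (by simp) hs, Matrix.one_apply_ne (fun h => hs h.symm)]
  refine ⟨?_, ?_, ?_⟩
  · intro r s hr hs
    rw [hM.mul_right_apply hNf hr hs]
    by_cases hrf : r = Sum.inr i0
    · rw [if_pos hrf, hrf, Matrix.one_apply_ne (fun h => hs h.symm)]
    · rw [if_neg hrf, hN.1 r s hr hs]
  · rw [Matrix.mul_apply, Finset.sum_eq_single (Sum.inl i0)]
    · rw [hM.2.1, hN.2.1, one_mul]
    · intro k _ hk
      rw [hN.1 k _ hk (by simp), Matrix.one_apply_ne hk, mul_zero]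
    · intro h
      exact absurd (Finset.mem_univ _) h
  · rw [Matrix.mul_apply, Finset.sum_eq_single (Sum.inr i0)]
    · rw [hM.2.2, hN.2.2, one_mul]
    · intro k _ hk
      rw [hM.1 _ k (by simp) hk, Matrix.one_apply_ne (fun h => hk h.symm), zero_mul]
    · intro h
      exact absurd (Finset.mem_univ _) h

/-- conjugation by matrices fixing the distinguished vectors preserves the shape -/
theorem isQ_conj {i0 : Fin m} {h M h' : Matrix (Fin m ⊕ Fin m) (Fin m ⊕ Fin m) K}
    (hh : FixQ i0 h) (hh' : FixQ i0 h') (hinv : h * h' = 1) (hM : IsQ i0 M) :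
    IsQ i0 (h * M * h') := by
  have hNf : ∀ s, s ≠ Sum.inr i0 → h' (Sum.inr i0) s = 0 := by
    intro s hs
    rw [hh'.2.1 s, Matrix.one_apply_ne (fun h => hs h.symm)]
  refine ⟨?_, ?_, ?_⟩
  · intro r s hr hs
    rw [mul_assoc, Matrix.mul_apply]
    have : ∀ k, h r k * (M * h') k s = h r k * h' k s := by
      intro k
      by_cases hk : k = Sum.inl i0
      · rw [hk, hh.2.2.1 r, Matrix.one_apply_ne hr, zero_mul, zero_mul]
      · rw [hM.mul_right_apply hNf hk hs]
        by_cases hkf : k = Sum.inr i0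
        · rw [if_pos hkf, hkf, hNf s hs]
        · rw [if_neg hkf]
    simp_rw [this]
    rw [← Matrix.mul_apply, hinv]
  · rw [Matrix.mul_apply, Finset.sum_eq_single (Sum.inl i0)]
    · rw [hh'.2.2.1, Matrix.one_apply_eq, mul_one, Matrix.mul_apply,
        Finset.sum_eq_single (Sum.inl i0)]
      · rw [hh.1, Matrix.one_apply_eq, one_mul, hM.2.1]
      · intro k _ hk
        rw [hh.1, Matrix.one_apply_ne (fun h => hk h.symm), zero_mul]
      · intro h
        exact absurd (Finset.mem_univ _) h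
    · intro k _ hk
      rw [hh'.2.2.1, Matrix.one_apply_ne hk, mul_zero]
    · intro h
      exact absurd (Finset.mem_univ _) h
  · rw [Matrix.mul_apply, Finset.sum_eq_single (Sum.inr i0)]
    · rw [hh'.2.2.2, Matrix.one_apply_eq, mul_one, Matrix.mul_apply,
        Finset.sum_eq_single (Sum.inr i0)]
      · rw [hh.2.1, Matrix.one_apply_eq, one_mul, hM.2.2]
      · intro k _ hk
        rw [hh.2.1, Matrix.one_apply_ne (fun h => hk h.symm), zero_mul]
      · intro h
        exact absurd (Finset.mem_univ _) h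
    · intro k _ hk
      rw [hh'.2.2.2, Matrix.one_apply_ne hk, mul_zero]
    · intro h
      exact absurd (Finset.mem_univ _) h

theorem isQ_uS {i0 : Fin m} {S : Matrix (Fin m) (Fin m) K}
    (hS : ∀ r s, r ≠ i0 → s ≠ i0 → S r s = 0) : IsQ i0 (uS S) := by
  refine ⟨?_, by simp [uS], by simp [uS]⟩
  rintro (r | r) (s | s) hr hs
  · simp [uS, Matrix.one_apply]
  · have hr' : r ≠ i0 := fun h => hr (by rw [h])
    have hs' : s ≠ i0 := fun h => hs (by rw [h])
    simp [uS, hS r s hr' hs']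
  · simp [uS]
  · simp [uS, Matrix.one_apply]

theorem isQ_lev {i0 : Fin m} {A D : Matrix (Fin m) (Fin m) K}
    (hA : ∀ r s, r ≠ i0 → A r s = (1 : Matrix (Fin m) (Fin m) K) r s)
    (hD : ∀ r s, s ≠ i0 → D r s = (1 : Matrix (Fin m) (Fin m) K) r s)
    (hA0 : A i0 i0 = 1) (hD0 : D i0 i0 = 1) : IsQ i0 (lev A D) := by
  refine ⟨?_, by simp [lev, hA0], by simp [lev, hD0]⟩
  rintro (r | r) (s | s) hr hs
  · have hr' : r ≠ i0 := fun h => hr (by rw [h])
    simp [lev, hA r s hr', Matrix.one_apply]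
  · simp [lev]
  · simp [lev]
  · have hs' : s ≠ i0 := fun h => hs (by rw [h])
    simp [lev, hD r s hs', Matrix.one_apply]

theorem fixQ_uS {i0 l : Fin m} (hl : l ≠ i0) (a : K) : FixQ i0 (uS (single l l a)) := by
  have hl' : ¬ (i0 = l) := fun h => hl h.symm
  refine ⟨?_, ?_, ?_, ?_⟩
  · rintro (s | s)
    · simp [uS, Matrix.one_apply]
    · simp [uS, single_apply, hl, hl']
  · rintro (s | s)
    · simp [uS]
    · simp [uS, Matrix.one_apply]
  · rintro (r | r)
    · simp [uS, Matrix.one_apply]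
    · simp [uS]
  · rintro (r | r)
    · simp [uS, single_apply, hl, hl']
    · simp [uS, Matrix.one_apply]

theorem fixQ_lS {i0 l : Fin m} (hl : l ≠ i0) (a : K) : FixQ i0 (lS (single l l a)) := by
  have hl' : ¬ (i0 = l) := fun h => hl h.symm
  refine ⟨?_, ?_, ?_, ?_⟩
  · rintro (s | s)
    · simp [lS, Matrix.one_apply]
    · simp [lS]
  · rintro (s | s)
    · simp [lS, single_apply, hl, hl']
    · simp [lS, Matrix.one_apply]
  · rintro (r | r)
    · simp [lS, Matrix.one_apply]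
    · simp [lS, single_apply, hl, hl']
  · rintro (r | r)
    · simp [lS]
    · simp [lS, Matrix.one_apply]

variable [Fintype K]

/-- radical of the stabilizer of the first basis vector -/
def radQ (m : ℕ) (K : Type*) [Field K] [Fintype K] (i0 : Fin m) :
    Subgroup (symplecticGroup (Fin m) K) :=
  SLU.subgroupOfMul {g | IsQ i0 g.1} (isQ_one i0) (fun _ _ ha hb => IsQ.mul ha hb)

theorem mem_radQ {i0 : Fin m} {g : symplecticGroup (Fin m) K} : g ∈ radQ m K i0 ↔ IsQ i0 g.1 :=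
  Iff.rfl

theorem radQ_le_uni {i0 : Fin m} (h0 : ∀ i, i0 ≤ i) : radQ m K i0 ≤ uni m K := by
  intro g hg
  refine ⟨?_, ?_, ?_⟩
  · intro i j
    rw [hg.1 _ _ (by simp) (by simp), Matrix.one_apply_ne (by simp)]
  · intro i j hji
    have hi : i ≠ i0 := fun h => absurd (h0 j) (not_le.mpr (by rw [← h]; exact hji))
    show g.1 (Sum.inl i) (Sum.inl j) = 0
    rw [hg.1 _ _ (fun h => hi (Sum.inl_injective h)) (by simp),
      Matrix.one_apply_ne (fun h => (ne_of_gt hji) (Sum.inl_injective h))]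
  · intro i
    show g.1 (Sum.inl i) (Sum.inl i) = 1
    by_cases hi : i = i0
    · rw [hi]; exact hg.2.1
    · rw [hg.1 _ _ (fun h => hi (Sum.inl_injective h)) (by simp), Matrix.one_apply_eq]

/-- the long root subgroups for the other coordinates normalize `Q` -/
theorem conj_mem_radQ {i0 : Fin m} {x : symplecticGroup (Fin m) K} (hx : FixQ i0 x.1)
    (hx' : FixQ i0 (x⁻¹).1) {r : symplecticGroup (Fin m) K} (hr : r ∈ radQ m K i0) :
    x * r * x⁻¹ ∈ radQ m K i0 := by
  show IsQ i0 (x.1 * r.1 * (x⁻¹).1)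
  apply isQ_conj hx hx' _ hr
  have := congrArg Subtype.val (mul_inv_cancel x)
  exact this

theorem mem_normalizer_radQ {i0 : Fin m} {x : symplecticGroup (Fin m) K} (hx : FixQ i0 x.1)
    (hx' : FixQ i0 (x⁻¹).1) :
    x ∈ Subgroup.normalizer (radQ m K i0 : Set (symplecticGroup (Fin m) K)) := by
  rw [Subgroup.mem_normalizer_iff]
  intro u
  constructor
  · exact conj_mem_radQ hx hx'
  · intro hu
    have := conj_mem_radQ (x := x⁻¹) hx' (by rw [inv_inv]; exact hx) hu
    have e : x⁻¹ * (x * u * x⁻¹) * x⁻¹⁻¹ = u := by group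
    rwa [e] at this

theorem uSg_mem_normalizer_radQ {i0 l : Fin m} (hl : l ≠ i0) (a : K) :
    uSg (single l l a) ∈ Subgroup.normalizer (radQ m K i0 : Set (symplecticGroup (Fin m) K)) := by
  apply mem_normalizer_radQ
  · rw [uSg_val (sym1 l a)]
    exact fixQ_uS hl a
  · rw [uSg_inv (sym1 l a), single_neg, uSg_val (sym1 l (-a))]
    exact fixQ_uS hl (-a)

theorem lSg_mem_normalizer_radQ {i0 l : Fin m} (hl : l ≠ i0) (a : K) :
    lSg (single l l a) ∈ Subgroup.normalizer (radQ m K i0 : Set (symplecticGroup (Fin m) K)) := by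
  apply mem_normalizer_radQ
  · rw [lSg_val (sym1 l a)]
    exact fixQ_lS hl a
  · rw [lSg_inv (sym1 l a), single_neg, lSg_val (sym1 l (-a))]
    exact fixQ_lS hl (-a)

end Cfsg.Agent.Helper25.SpU
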