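import Mathlib
import Cfsg.Agent.Helper25.SpUI

set_option autoImplicit false
set_option linter.unusedSimpArgs false
set_option linter.unusedSectionVars false
set_option linter.unusedVariables false

/-! Centralizer of the radical `Q` in `Sp_{2m}(K)`. -/

namespace Cfsg.Agent.Helper25.SpU

open Matrix

variable {m : ℕ} {K : Type*} [Field K]

theorem uS_single (a b : Fin m) (c : K) :
    uS (single a b c) = 1 + single (Sum.inl a) (Sum.inr b) c := by
  ext (r | r) (s | s)
  · simp [uS, single_apply, Matrix.one_apply]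
  · simp [uS, single_apply, Matrix.one_apply]
  · simp [uS, single_apply, Matrix.one_apply]
  · simp [uS, single_apply, Matrix.one_apply]

theorem lS_single (a b : Fin m) (c : K) :
    lS (single a b c) = 1 + single (Sum.inr a) (Sum.inl b) c := by
  ext (r | r) (s | s)
  · simp [lS, single_apply, Matrix.one_apply]
  · simp [lS, single_apply, Matrix.one_apply]
  · simp [lS, single_apply, Matrix.one_apply]
  · simp [lS, single_apply, Matrix.one_apply]

theorem uS_single2 (a b a' b' : Fin m) (c c' : K) :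
    uS (single a b c + single a' b' c') =
      1 + (single (Sum.inl a) (Sum.inr b) c + single (Sum.inl a') (Sum.inr b') c') := by
  ext (r | r) (s | s)
  · simp [uS, single_apply, Matrix.one_apply]
  · simp [uS, single_apply, Matrix.one_apply]
  · simp [uS, single_apply, Matrix.one_apply]
  · simp [uS, single_apply, Matrix.one_apply]

theorem lev_single (a b : Fin m) (c : K) :
    lev (1 + single a b c) (1 - single b a c) =
      1 + (single (Sum.inl a) (Sum.inl b) c - single (Sum.inr b) (Sum.inr a) c) := by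
  ext (r | r) (s | s)
  · simp [lev, single_apply, Matrix.one_apply]
  · simp [lev, single_apply, Matrix.one_apply]
  · simp [lev, single_apply, Matrix.one_apply]
  · simp [lev, single_apply, Matrix.one_apply, sub_eq_add_neg]

theorem comm_of_add_one {g N : Matrix (Fin m ⊕ Fin m) (Fin m ⊕ Fin m) K}
    (h : g * (1 + N) = (1 + N) * g) : g * N = N * g := by
  rw [mul_add, add_mul, mul_one, one_mul] at h
  exact add_left_cancel h

variable [Fintype K]

theorem uSg_long_mem_radQ (i0 : Fin m) (a : K) : uSg (single i0 i0 a) ∈ radQ m K i0 := by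
  rw [mem_radQ, uSg_val (sym1 i0 a)]
  apply isQ_uS
  intro r s hr hs
  rw [single_apply, if_neg]
  rintro ⟨h, -⟩
  exact hr h.symm

theorem uSg_short_mem_radQ {i0 j : Fin m} (hj : j ≠ i0) (a : K) :
    uSg (single i0 j a + single j i0 a) ∈ radQ m K i0 := by
  rw [mem_radQ, uSg_val (sym2 i0 j a)]
  apply isQ_uS
  intro r s hr hs
  rw [Matrix.add_apply, single_apply, single_apply, if_neg, if_neg, add_zero]
  · rintro ⟨-, h⟩
    exact hs h.symm
  · rintro ⟨h, -⟩
    exact hr h.symm

theorem levT_mem_radQ {i0 j : Fin m} (hj : j ≠ i0) (a : K) : levT i0 j a ∈ radQ m K i0 := by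
  rw [mem_radQ, levT_val hj.symm]
  apply isQ_lev
  · intro r s hr
    rw [Matrix.add_apply, single_apply, if_neg, add_zero]
    rintro ⟨h, -⟩
    exact hr h.symm
  · intro r s hs
    rw [Matrix.sub_apply, single_apply, if_neg, sub_zero]
    rintro ⟨-, h⟩
    exact hs h.symm
  · rw [Matrix.add_apply, Matrix.one_apply_eq, single_apply, if_neg, add_zero]
    rintro ⟨-, h⟩
    exact hj h
  · rw [Matrix.sub_apply, Matrix.one_apply_eq, single_apply, if_neg, sub_zero]
    rintro ⟨h, -⟩
    exact hj h

/-- `p`-elements of the centralizer of `Q` lie in `Q`. -/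
theorem mem_radQ_of_centralizer (p : ℕ) [Fact p.Prime] [CharP K p] {i0 : Fin m}
    {g : symplecticGroup (Fin m) K}
    (h1 : g * uSg (single i0 i0 1) = uSg (single i0 i0 1) * g)
    (h2 : ∀ j, j ≠ i0 → g * levT i0 j 1 = levT i0 j 1 * g)
    (h3 : ∀ j, j ≠ i0 → g * uSg (single i0 j 1 + single j i0 1) =
      uSg (single i0 j 1 + single j i0 1) * g)
    {k : ℕ} (hk : g ^ (p ^ k) = 1) : g ∈ radQ m K i0 := by
  have c1 : g.1 * single (Sum.inl i0) (Sum.inr i0) (1 : K) =
      single (Sum.inl i0) (Sum.inr i0) (1 : K) * g.1 := by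
    apply comm_of_add_one
    rw [← uS_single, ← uSg_val (sym1 i0 1)]
    exact congrArg Subtype.val h1
  have hc1 : Commute (single (Sum.inl i0) (Sum.inr i0) (1 : K)) g.1 := c1.symm
  have ha : ∀ r, r ≠ Sum.inl i0 → g.1 r (Sum.inl i0) = 0 := fun r hr =>
    col_eq_zero_of_commute_single hc1 hr
  have hb : g.1 (Sum.inl i0) (Sum.inl i0) = g.1 (Sum.inr i0) (Sum.inr i0) :=
    diag_eq_of_commute_single hc1
  have c2 : ∀ j, j ≠ i0 → ∀ r, r ≠ Sum.inl i0 →
      g.1 r (Sum.inr j) = if r = Sum.inr j then g.1 (Sum.inr i0) (Sum.inr i0) else 0 := by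
    intro j hj r hr
    have e : g.1 * (single (Sum.inl i0) (Sum.inl j) (1 : K) - single (Sum.inr j) (Sum.inr i0) 1) =
        (single (Sum.inl i0) (Sum.inl j) (1 : K) - single (Sum.inr j) (Sum.inr i0) 1) * g.1 := by
      apply comm_of_add_one
      rw [← lev_single, ← levT_val hj.symm]
      exact congrArg Subtype.val (h2 j hj)
    have e1 := congrFun (congrFun e r) (Sum.inr i0)
    rw [Matrix.mul_sub, Matrix.sub_mul, Matrix.sub_apply, Matrix.sub_apply,
      mul_single_apply_of_ne _ _ _ _ _ (by simp), mul_single_apply_same,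
      single_mul_apply_of_ne _ _ _ _ _ hr, mul_one, zero_sub, zero_sub, neg_inj] at e1
    rw [e1]
    by_cases hrj : r = Sum.inr j
    · rw [if_pos hrj, hrj, single_mul_apply_same, one_mul]
    · rw [if_neg hrj, single_mul_apply_of_ne _ _ _ _ _ hrj]
  have c3 : ∀ j, j ≠ i0 → ∀ r, r ≠ Sum.inl i0 →
      g.1 r (Sum.inl j) = if r = Sum.inl j then g.1 (Sum.inr i0) (Sum.inr i0) else 0 := by
    intro j hj r hr
    have e : g.1 * (single (Sum.inl i0) (Sum.inr j) (1 : K) + single (Sum.inl j) (Sum.inr i0) 1) =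
        (single (Sum.inl i0) (Sum.inr j) (1 : K) + single (Sum.inl j) (Sum.inr i0) 1) * g.1 := by
      apply comm_of_add_one
      rw [← uS_single2, ← uSg_val (sym2 i0 j 1)]
      exact congrArg Subtype.val (h3 j hj)
    have e1 := congrFun (congrFun e r) (Sum.inr i0)
    have hne : (Sum.inr i0 : Fin m ⊕ Fin m) ≠ Sum.inr j := fun h => hj (Sum.inr_injective h).symm
    rw [Matrix.mul_add, Matrix.add_mul, Matrix.add_apply, Matrix.add_apply,
      mul_single_apply_of_ne _ _ _ _ _ hne, mul_single_apply_same,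
      single_mul_apply_of_ne _ _ _ _ _ hr, mul_one, zero_add, zero_add] at e1
    rw [e1]
    by_cases hrj : r = Sum.inl j
    · rw [if_pos hrj, hrj, single_mul_apply_same, one_mul]
    · rw [if_neg hrj, single_mul_apply_of_ne _ _ _ _ _ hrj]
  -- the eigenvalue
  have hcol : ∀ n : ℕ, (g.1 ^ n) (Sum.inl i0) (Sum.inl i0) = g.1 (Sum.inl i0) (Sum.inl i0) ^ n := by
    intro n
    induction n with
    | zero => rw [pow_zero, pow_zero, Matrix.one_apply_eq]
    | succ n ih =>
      rw [pow_succ, Matrix.mul_apply, Finset.sum_eq_single (Sum.inl i0), ih, pow_succ]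
      · intro r _ hr
        rw [ha r hr, mul_zero]
      · intro h
        exact absurd (Finset.mem_univ _) h
  have hlam : g.1 (Sum.inl i0) (Sum.inl i0) = 1 := by
    have h4 : g.1 ^ (p ^ k) = 1 := by
      have := congrArg Subtype.val hk
      rw [SubmonoidClass.coe_pow] at this
      exact this
    have h5 := hcol (p ^ k)
    rw [h4, Matrix.one_apply_eq] at h5
    exact SLU.eq_one_of_pow_eq_one p h5.symm
  have hlam' : g.1 (Sum.inr i0) (Sum.inr i0) = 1 := by rw [← hb, hlam]
  refine ⟨?_, hlam, hlam'⟩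
  intro r s hr hs
  rcases s with s | s
  · by_cases hs0 : s = i0
    · rw [hs0, ha r hr, Matrix.one_apply_ne hr]
    · rw [c3 s hs0 r hr, hlam', Matrix.one_apply]
  · have hs0 : s ≠ i0 := fun h => hs (by rw [h])
    rw [c2 s hs0 r hr, hlam', Matrix.one_apply]

end Cfsg.Agent.Helper25.SpU
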