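import Mathlib
import Cfsg.Agent.Helper25.SpUJ
import Cfsg.Agent.Helper25.SLUnitriD
import Cfsg.Agent.Helper2.Transvec

set_option autoImplicit false
set_option linter.unusedSimpArgs false
set_option linter.unusedSectionVars false
set_option linter.unusedVariables false

/-! Generation of the Borel subgroup of `Sp_{2m}(K)` by `U` and torus elements coming from
`O^{p'}(N(R))` for the Siegel radical and the radical `Q`. -/

namespace Cfsg.Agent.Helper25.SpU

open Matrix

theorem exists_orderOf_of_pow_eq_one {G : Type*} [Group G] (p : ℕ) [Fact p.Prime] {x : G}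
    (h : x ^ p = 1) : ∃ k : ℕ, orderOf x = p ^ k := by
  rcases (Nat.dvd_prime (Fact.out : p.Prime)).mp (orderOf_dvd_of_pow_eq_one h) with h2 | h2
  · exact ⟨0, by rw [h2, pow_zero]⟩
  · exact ⟨1, by rw [h2, pow_one]⟩

variable {m : ℕ} {K : Type*} [Field K]

theorem lS_pow (C : Matrix (Fin m) (Fin m) K) (k : ℕ) : lS C ^ k = lS (k • C) := by
  induction k with
  | zero => rw [pow_zero, zero_smul, lS_zero]
  | succ k ih => rw [pow_succ, ih, lS_mul, succ_nsmul]

theorem torus_aux (l : Fin m) {a : K} (ha : a ≠ 0) :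
    (1 + single l l (a - 1))ᵀ * (1 + single l l (a⁻¹ - 1)) = 1 := by
  rw [transpose_add, transpose_one, transpose_single]
  simp only [Matrix.mul_add, Matrix.add_mul, one_mul, mul_one, single_mul_single_same]
  rw [add_assoc, ← single_add, ← single_add]
  have : a - 1 + (a⁻¹ - 1 + (a - 1) * (a⁻¹ - 1)) = 0 := by
    field_simp
    ring
  rw [this, single_zero, add_zero]

/-- torus element for the long root at `l` -/
noncomputable def hl (l : Fin m) (a : K) : symplecticGroup (Fin m) K :=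
  levg (1 + single l l (a - 1)) (1 + single l l (a⁻¹ - 1))

theorem hl_val (l : Fin m) {a : K} (ha : a ≠ 0) :
    (hl l a).1 = lev (1 + single l l (a - 1)) (1 + single l l (a⁻¹ - 1)) :=
  levg_val (torus_aux l ha)

theorem hl_eq_prod (l : Fin m) {a : K} (ha : a ≠ 0) :
    hl l a = uSg (single l l a) * lSg (single l l (-a⁻¹)) * uSg (single l l a) *
      (uSg (single l l (-1)) * lSg (single l l 1) * uSg (single l l (-1))) := by
  apply Subtype.ext
  show (hl l a).1 = (uSg (single l l a)).1 * (lSg (single l l (-a⁻¹))).1 * (uSg (single l l a)).1 *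
      ((uSg (single l l (-1))).1 * (lSg (single l l 1)).1 * (uSg (single l l (-1))).1)
  rw [hl_val l ha, uSg_val (sym1 l a), lSg_val (sym1 l _), uSg_val (sym1 l (-1)),
    lSg_val (sym1 l 1), uS_single, uS_single, lS_single, lS_single]
  have hs : ∀ (x y : Fin m ⊕ Fin m) (c : K), single x y c = c • single x y (1 : K) := by
    intro x y c
    rw [Matrix.smul_single, smul_eq_mul, mul_one]
  have hne : (Sum.inl l : Fin m ⊕ Fin m) ≠ Sum.inr l := by simp
  rw [hs _ _ a, hs _ _ (-a⁻¹), hs _ _ (-1 : K)]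
  have hee : single (Sum.inl l : Fin m ⊕ Fin m) (Sum.inr l : Fin m ⊕ Fin m) (1 : K) *
      single (Sum.inl l : Fin m ⊕ Fin m) (Sum.inr l : Fin m ⊕ Fin m) (1 : K) = 0 := by
    simp [hne, hne.symm]
  have hff : single (Sum.inr l : Fin m ⊕ Fin m) (Sum.inl l : Fin m ⊕ Fin m) (1 : K) *
      single (Sum.inr l : Fin m ⊕ Fin m) (Sum.inl l : Fin m ⊕ Fin m) (1 : K) = 0 := by
    simp [hne, hne.symm]
  have hef : single (Sum.inl l) (Sum.inr l) (1 : K) * single (Sum.inr l) (Sum.inl l) (1 : K) =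
      single (Sum.inl l) (Sum.inl l) 1 := by
    rw [single_mul_single_same, mul_one]
  have hfe : single (Sum.inr l) (Sum.inl l) (1 : K) * single (Sum.inl l) (Sum.inr l) (1 : K) =
      single (Sum.inr l) (Sum.inr l) 1 := by
    rw [single_mul_single_same, mul_one]
  have hefe : single (Sum.inl l) (Sum.inr l) (1 : K) *
      (single (Sum.inr l) (Sum.inl l) (1 : K) * single (Sum.inl l) (Sum.inr l) (1 : K)) =
      single (Sum.inl l) (Sum.inr l) 1 := by
    rw [hfe, single_mul_single_same, mul_one]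
  have hfef : single (Sum.inr l) (Sum.inl l) (1 : K) *
      (single (Sum.inl l) (Sum.inr l) (1 : K) * single (Sum.inr l) (Sum.inl l) (1 : K)) =
      single (Sum.inr l) (Sum.inl l) 1 := by
    rw [hef, single_mul_single_same, mul_one]
  rw [Cfsg.Agent.Helper2.diag_elt_eq _ _ hee hff hefe hfef a ha, hef, hfe]
  ext (r | r) (s | s)
  · simp [lev, single_apply, Matrix.one_apply]
  · simp [lev, single_apply, Matrix.one_apply]
  · simp [lev, single_apply, Matrix.one_apply]
  · simp [lev, single_apply, Matrix.one_apply]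

theorem isUp_one_add_single (l : Fin m) (x : K) : SLU.IsUp (1 + single l l x) := by
  intro i j hji
  rw [Matrix.add_apply, Matrix.one_apply_ne (ne_of_gt hji), single_apply, if_neg, add_zero]
  rintro ⟨h1, h2⟩
  exact (ne_of_gt hji) (h1.symm.trans h2)

theorem det_one_add_single (l : Fin m) (x : K) : (1 + single l l x).det = 1 + x := by
  have hup : (1 + single l l x).IsUpperTriangular := fun i j hji =>
    isUp_one_add_single l x i j hji
  rw [Matrix.det_of_isUpperTriangular hup, Finset.prod_eq_single l]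
  · rw [Matrix.add_apply, Matrix.one_apply_eq, single_apply_same]
  · intro i _ hi
    rw [Matrix.add_apply, Matrix.one_apply_eq, single_apply, if_neg, add_zero]
    rintro ⟨h1, -⟩
    exact hi h1.symm
  · intro h
    exact absurd (Finset.mem_univ l) h

variable [Fintype K] (p : ℕ) [Fact p.Prime] [CharP K p]

theorem uSg_pow_p {S : Matrix (Fin m) (Fin m) K} (hS : Sᵀ = S) : uSg S ^ p = 1 := by
  apply Subtype.ext
  rw [SubmonoidClass.coe_pow, uSg_val hS, uS_pow]
  have : p • S = 0 := by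
    ext i j
    rw [Matrix.smul_apply, nsmul_eq_mul, CharP.cast_eq_zero K p, zero_mul]
    rfl
  rw [this, uS_zero]
  rfl

theorem lSg_pow_p {C : Matrix (Fin m) (Fin m) K} (hC : Cᵀ = C) : lSg C ^ p = 1 := by
  apply Subtype.ext
  rw [SubmonoidClass.coe_pow, lSg_val hC, lS_pow]
  have : p • C = 0 := by
    ext i j
    rw [Matrix.smul_apply, nsmul_eq_mul, CharP.cast_eq_zero K p, zero_mul]
    rfl
  rw [this, lS_zero]
  rfl

/-- the set of `p`-elements of a normalizer -/
def pSet (p : ℕ) (R : Subgroup (symplecticGroup (Fin m) K)) : Set (symplecticGroup (Fin m) K) :=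
  {h | h ∈ Subgroup.normalizer (R : Set (symplecticGroup (Fin m) K)) ∧ ∃ k : ℕ, orderOf h = p ^ k}

theorem hl_mem_closure {i0 l : Fin m} (hl0 : l ≠ i0) {a : K} (ha : a ≠ 0) :
    hl l a ∈ Subgroup.closure (pSet p (radQ m K i0)) := by
  have h1 : ∀ x : K, uSg (single l l x) ∈ Subgroup.closure (pSet p (radQ m K i0)) := fun x =>
    Subgroup.subset_closure ⟨uSg_mem_normalizer_radQ hl0 x,
      exists_orderOf_of_pow_eq_one p (uSg_pow_p p (sym1 l x))⟩
  have h2 : ∀ x : K, lSg (single l l x) ∈ Subgroup.closure (pSet p (radQ m K i0)) := fun x =>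
    Subgroup.subset_closure ⟨lSg_mem_normalizer_radQ hl0 x,
      exists_orderOf_of_pow_eq_one p (lSg_pow_p p (sym1 l x))⟩
  rw [hl_eq_prod l ha]
  exact mul_mem (mul_mem (mul_mem (h1 _) (h2 _)) (h1 _)) (mul_mem (mul_mem (h1 _) (h2 _)) (h1 _))

theorem hl_mem_borel (l : Fin m) {a : K} (ha : a ≠ 0) : hl l a ∈ borel m K := by
  rw [mem_borel, hl_val l ha]
  refine ⟨isPar_lev _ _, ?_⟩
  rw [lev_block]
  exact isUp_one_add_single l _

theorem Lam_mem_closure (hm : 2 ≤ m) (A : Matrix.SpecialLinearGroup (Fin m) K) :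
    Lam A ∈ Subgroup.closure (pSet p (radS m K)) := by
  have : Nontrivial (Fin m) := Fin.nontrivial_iff_two_le.mpr hm
  refine Cfsg.Agent.Helper2.SL_transvection_induction
    (fun A => Lam A ∈ Subgroup.closure (pSet p (radS m K))) ?_ ?_ A
  · intro i j h c
    apply Subgroup.subset_closure
    refine ⟨parS_le_normalizer_radS (Lam_mem_parS _), ?_⟩
    apply exists_orderOf_of_pow_eq_one p
    rw [← map_pow, SLU.transvection_pow, nsmul_eq_mul, CharP.cast_eq_zero, zero_mul,
      Matrix.SpecialLinearGroup.transvection_coeff_zero, map_one]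
  · intro A B hA hB
    show Lam (A * B) ∈ _
    rw [map_mul]
    exact mul_mem hA hB

/-- the generating set for the automizer of `U` -/
def goodSet (p : ℕ) (m : ℕ) (K : Type*) [Field K] [Fintype K] (i0 : Fin m) :
    Set (symplecticGroup (Fin m) K) :=
  {g | g ∈ borel m K ∧ ∃ R : Subgroup (symplecticGroup (Fin m) K),
    (R = uni m K ∨ R = radS m K ∨ R = radQ m K i0) ∧ g ∈ Subgroup.closure (pSet p R)}

theorem borel_le_closure_goodSet (hm : 2 ≤ m) {i0 l : Fin m} (hl0 : l ≠ i0) :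
    borel m K ≤ Subgroup.closure (goodSet p m K i0) := by
  intro g hg
  obtain ⟨-, hAD, -⟩ := par_blocks g.2 hg.1
  have hdet : g.1.toBlocks₁₁.det ≠ 0 := by
    intro h
    have := congrArg Matrix.det hAD
    rw [det_mul, det_transpose, h, zero_mul, det_one] at this
    exact zero_ne_one this
  obtain ⟨δ, hδ⟩ : ∃ δ : K, δ = g.1.toBlocks₁₁.det := ⟨_, rfl⟩
  have hδ0 : δ ≠ 0 := by rw [hδ]; exact hdet
  have hδi : δ⁻¹ ≠ 0 := inv_ne_zero hδ0
  have hb1 : hl l δ⁻¹ ∈ borel m K := hl_mem_borel l hδi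
  have hg1 : hl l δ⁻¹ * g ∈ borel m K := mul_mem hb1 hg
  have hblock : (hl l δ⁻¹ * g).1.toBlocks₁₁ = (1 + single l l (δ⁻¹ - 1)) * g.1.toBlocks₁₁ := by
    show ((hl l δ⁻¹).1 * g.1).toBlocks₁₁ = _
    rw [IsPar.block_mul _ hg.1, hl_val l hδi, lev_block]
  have hdet1 : ((hl l δ⁻¹ * g).1.toBlocks₁₁).det = 1 := by
    rw [hblock, det_mul, det_one_add_single, ← hδ, add_sub_cancel, inv_mul_cancel₀ hδ0]
  obtain ⟨A, hA⟩ : ∃ A : Matrix.SpecialLinearGroup (Fin m) K,
      A = ⟨(hl l δ⁻¹ * g).1.toBlocks₁₁, hdet1⟩ := ⟨_, rfl⟩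
  have hA1 : A.1 = (hl l δ⁻¹ * g).1.toBlocks₁₁ := by rw [hA]
  have hLb : Lam A ∈ borel m K := by
    rw [mem_borel, Lam_val]
    refine ⟨isPar_lev _ _, ?_⟩
    rw [lev_block, hA1]
    exact hg1.2
  have h2 : (Lam A)⁻¹ * (hl l δ⁻¹ * g) ∈ radS m K := by
    refine ⟨IsPar.mul (inv_mem (Lam_mem_parS A)) hg1.1, ?_⟩
    show (((Lam A)⁻¹).1 * (hl l δ⁻¹ * g).1).toBlocks₁₁ = 1
    rw [IsPar.block_mul _ hg1.1, ← map_inv, Lam_val, lev_block, ← hA1,
      ← Matrix.SpecialLinearGroup.coe_mul, inv_mul_cancel, Matrix.SpecialLinearGroup.coe_one]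
  have e : g = (hl l δ⁻¹)⁻¹ * (Lam A * ((Lam A)⁻¹ * (hl l δ⁻¹ * g))) := by group
  rw [e]
  apply mul_mem
  · apply inv_mem
    apply Subgroup.subset_closure
    exact ⟨hb1, radQ m K i0, Or.inr (Or.inr rfl), hl_mem_closure p hl0 hδi⟩
  apply mul_mem
  · apply Subgroup.subset_closure
    exact ⟨hLb, radS m K, Or.inr (Or.inl rfl), Lam_mem_closure p hm A⟩
  · apply Subgroup.subset_closure
    have hu : (Lam A)⁻¹ * (hl l δ⁻¹ * g) ∈ uni m K := radS_le_uni h2
    refine ⟨uni_le_borel hu, uni m K, Or.inl rfl, Subgroup.subset_closure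
      ⟨Subgroup.le_normalizer hu, ?_⟩⟩
    obtain ⟨k, hk⟩ := (IsPGroup.iff_orderOf.mp (isPGroup_uni (m := m) (K := K) p)) ⟨_, hu⟩
    exact ⟨k, by rw [← hk, Subgroup.orderOf_mk]⟩

end Cfsg.Agent.Helper25.SpU
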