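import Mathlib
import Cfsg.Agent.Helper25.SpUK
import Cfsg.Agent.Helper25.PSLFusionA
import Cfsg.Agent.Helper25.PSLFusionB
import Cfsg.Agent.Helper25.FusionIso4
import Cfsg.Agent.Helper25.FusionQuotGroup
import Cfsg.Agent.Helper2.SpCenter

set_option autoImplicit false
set_option linter.unusedSimpArgs false
set_option linter.unusedSectionVars false
set_option linter.unusedVariables false

/-! The `p`-fusion system of `Sp_{2m}(K)` and `PSp_{2m}(K)` (`m ≥ 2`, `char K = p`,
`(m, |K|) ≠ (2, 2)`) is simple. -/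

namespace Cfsg.Agent.Helper25

open Cfsg Cfsg.FusionSystem Matrix SpU

/-- Simplicity passes to quotients by normal subgroups without `p`-elements. -/
theorem quotient_isSimple {G : Type*} [Group G] [Finite G] (p : ℕ) [Fact p.Prime]
    (N : Subgroup G) [N.Normal] (hN : ∀ z ∈ N, ∀ k : ℕ, z ^ (p ^ k) = 1 → z = 1)
    (h : ∀ S₀ : Sylow p G, (groupFusionSystem (S₀ : Subgroup G)).IsSimple p)
    (S : Sylow p (G ⧸ N)) : (groupFusionSystem (S : Subgroup (G ⧸ N))).IsSimple p := by
  have hsurj : Function.Surjective (QuotientGroup.mk' N) := QuotientGroup.mk'_surjective _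
  obtain ⟨S₀, hS₀⟩ := Sylow.mapSurjective_surjective hsurj p S
  have hcoe : (S : Subgroup (G ⧸ N)) = (S₀ : Subgroup G).map (QuotientGroup.mk' N) := by
    rw [← hS₀]
    rfl
  have hfac := groupFusion_isFactorSystem p S₀ N
  have hbot : (S₀ : Subgroup G) ⊓ N = ⊥ := by
    rw [eq_bot_iff]
    rintro z ⟨hzS, hzZ⟩
    obtain ⟨k, hk⟩ := S₀.isPGroup' ⟨z, hzS⟩
    have hk' : z ^ (p ^ k) = 1 := congrArg Subtype.val hk
    rw [Subgroup.mem_bot]
    exact hN z hzZ k hk'
  rw [hbot] at hfac
  rw [hcoe]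
  exact iso_isSimple p S₀.isPGroup' hfac (h S₀)

variable {m : ℕ} {K : Type*} [Field K] [Fintype K]

theorem sp_isSimple_uni (p : ℕ) [Fact p.Prime] [CharP K p] (hm : 2 ≤ m)
    (hex : m = 2 → 3 ≤ Fintype.card K)
    (P : Sylow p (symplecticGroup (Fin m) K)) (hP : (P : Subgroup _) = uni m K) :
    (groupFusionSystem (P : Subgroup (symplecticGroup (Fin m) K))).IsSimple p := by
  obtain ⟨i0, i1, h0, h1, h01⟩ : ∃ i0 i1 : Fin m, (∀ i, i0 ≤ i) ∧ (∀ i, i0 < i → i1 ≤ i) ∧
      i0 < i1 := by
    refine ⟨⟨0, by omega⟩, ⟨1, by omega⟩, fun i => ?_, fun i hi => ?_, ?_⟩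
    · exact Fin.le_def.mpr (Nat.zero_le _)
    · have := Fin.lt_def.mp hi
      apply Fin.le_def.mpr
      show 1 ≤ i.val
      simp only at this
      omega
    · apply Fin.lt_def.mpr
      show 0 < 1
      omega
  have hmq : (∃ i2 : Fin m, i1 < i2) ∨ 3 ≤ Fintype.card K := by
    by_cases h2 : m = 2
    · exact Or.inr (hex h2)
    · left
      have h3 : 3 ≤ m := by omega
      obtain ⟨i2, hi2⟩ : ∃ i2 : Fin m, i2.val = i1.val + 1 := by
        have : i1.val + 1 < m := by
          have : i1.val ≤ 1 := by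
            have := h1 ⟨1, by omega⟩ (by
              apply Fin.lt_def.mpr
              have := h0 ⟨0, by omega⟩
              have h4 : i0.val = 0 := Nat.le_zero.mp (Fin.le_def.mp this)
              show i0.val < 1
              omega)
            exact Fin.le_def.mp this
          omega
        exact ⟨⟨i1.val + 1, this⟩, rfl⟩
      exact ⟨i2, Fin.lt_def.mpr (by rw [hi2]; omega)⟩
  have hne : i1 ≠ i0 := ne_of_gt h01
  apply groupFusionSystem_isSimple_of_centric_gen p P
  · rw [hP]
    intro h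
    have h1 : uSg (single i0 i0 (1 : K)) ∈ uni m K := radS_le_uni (uSg_mem_radS (sym1 i0 1))
    rw [h, Subgroup.mem_bot] at h1
    have h2 : (uSg (single i0 i0 (1 : K))).1 (Sum.inl i0) (Sum.inr i0) =
        (1 : Matrix (Fin m ⊕ Fin m) (Fin m ⊕ Fin m) K) (Sum.inl i0) (Sum.inr i0) := by
      rw [h1]
      rfl
    rw [uSg_val (sym1 i0 1), Matrix.one_apply_ne (by simp)] at h2
    simp [uS] at h2
  · intro T hTS hcl
    by_cases hT : T = ⊥
    · exact Or.inl hT
    · right
      rw [hP] at hTS hcl ⊢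
      exact Closed.eq_uni_of_ne_bot p ⟨hTS, hcl⟩ hT h0 h1 h01 hmq
  · rw [hP]
    intro g hg
    have h1 := borel_le_closure_goodSet p hm hne (normalizer_uni_le hg)
    refine Subgroup.closure_mono ?_ h1
    rintro x ⟨hxb, R, hR, hxR⟩
    refine ⟨borel_le_normalizer hxb, R, ?_, hxR⟩
    rcases hR with rfl | rfl | rfl
    · exact isCentric_self
    · exact isCentric_of_pElements p (isPGroup_uni p) radS_le_uni
        (fun y hy ⟨k, hk⟩ => mem_radS_of_centralizer p
          (fun S hS => (Subgroup.mem_centralizer_iff.mp hy _ (uSg_mem_radS hS)).symm) hk)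
    · exact isCentric_of_pElements p (isPGroup_uni p) (radQ_le_uni h0)
        (fun y hy ⟨k, hk⟩ => mem_radQ_of_centralizer p
          (Subgroup.mem_centralizer_iff.mp hy _ (uSg_long_mem_radQ i0 1)).symm
          (fun j hj => (Subgroup.mem_centralizer_iff.mp hy _ (levT_mem_radQ hj 1)).symm)
          (fun j hj => (Subgroup.mem_centralizer_iff.mp hy _ (uSg_short_mem_radQ hj 1)).symm) hk)

/-- The `p`-fusion system of `Sp_{2m}(K)` is simple on every Sylow `p`-subgroup. -/
theorem sp_isSimple (p : ℕ) [Fact p.Prime] [CharP K p] (hm : 2 ≤ m)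
    (hex : m = 2 → 3 ≤ Fintype.card K) (S : Sylow p (symplecticGroup (Fin m) K)) :
    (groupFusionSystem (S : Subgroup (symplecticGroup (Fin m) K))).IsSimple p := by
  obtain ⟨P, hP⟩ := exists_sylow_uni (m := m) (K := K) p
  have h1 := sp_isSimple_uni p hm hex P hP
  obtain ⟨g, hg⟩ := MulAction.exists_smul_eq (symplecticGroup (Fin m) K) P S
  have hS : (S : Subgroup (symplecticGroup (Fin m) K)) = cj (P : Subgroup _) g := by
    rw [← hg]
    rfl
  rw [hS]
  exact iso_isSimple p P.isPGroup' (groupFusion_conj_isFactorSystem (P : Subgroup _) g) h1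

/-- The `p`-fusion system of `PSp_{2m}(K)` is simple on every Sylow `p`-subgroup. -/
theorem psp_isSimple (p : ℕ) [Fact p.Prime] [CharP K p] (hm : 2 ≤ m)
    (hex : m = 2 → 3 ≤ Fintype.card K) (S : Sylow p (Cfsg.PSp m K)) :
    (groupFusionSystem (S : Subgroup (Cfsg.PSp m K))).IsSimple p := by
  have : Nonempty (Fin m) := ⟨⟨0, by omega⟩⟩
  apply quotient_isSimple p (Subgroup.center (symplecticGroup (Fin m) K)) _
    (fun S₀ => sp_isSimple p hm hex S₀) S
  intro z hz k hk
  obtain ⟨c, -, hc⟩ := (Cfsg.Agent.Helper2.Sp.mem_center_iff z).mp hz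
  have h1 : z.1 ^ (p ^ k) = 1 := by
    have := congrArg Subtype.val hk
    rw [SubmonoidClass.coe_pow] at this
    exact this
  have h2 : c ^ (p ^ k) = 1 := by
    rw [hc, smul_pow, one_pow] at h1
    have := congrFun (congrFun h1 (Sum.inl ⟨0, by omega⟩)) (Sum.inl ⟨0, by omega⟩)
    rw [Matrix.smul_apply, Matrix.one_apply_eq, smul_eq_mul, mul_one] at this
    exact this
  have h3 : c = 1 := SLU.eq_one_of_pow_eq_one p h2
  apply Subtype.ext
  rw [hc, h3, one_smul]
  rfl

end Cfsg.Agent.Helper25
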