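import Mathlib
import Cfsg.Agent.Helper25.SUUo
import Cfsg.Agent.Helper25.SUUp
import Cfsg.Agent.Helper25.SpUL
import Cfsg.Agent.Helper28.GU
import Cfsg.Agent.Helper28.Herm
import Cfsg.Agent.S0837

set_option autoImplicit false
set_option linter.unusedSimpArgs false
set_option linter.unusedSectionVars false
set_option linter.unusedVariables false
set_option linter.unusedTactic false
set_option linter.unreachableTactic false

/-! Base change between the standard hermitian form and the antidiagonal one; the `p`-fusion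
system of `PSU_n(q)` is simple. -/

namespace Cfsg.Agent.Helper25.SUU

open Matrix Cfsg Cfsg.FusionSystem
open Cfsg.Agent.Helper2.SUGen (Frob)

variable {n : ℕ} {K : Type*} [Field K] {q : ℕ}

theorem dd_apply (x y : Fin n → K) (i j : Fin n) :
    (Matrix.diagonal x * Matrix.diagonal y) i j = if i = j then x i * y i else 0 := by
  rw [Matrix.diagonal_mul_diagonal, Matrix.diagonal_apply]

theorem ddP_apply (x y : Fin n → K) (i j : Fin n) :
    (Matrix.diagonal x * (Matrix.diagonal y * Psi n K)) i j =
      if i = j.rev then x i * y i else 0 := by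
  rw [← Matrix.mul_assoc, mul_Psi, Matrix.diagonal_mul_diagonal, Matrix.diagonal_apply]

theorem Pdd_apply (x y : Fin n → K) (i j : Fin n) :
    (Psi n K * Matrix.diagonal x * Matrix.diagonal y) i j =
      if i.rev = j then x i.rev * y i.rev else 0 := by
  rw [Matrix.mul_assoc, Psi_mul, Matrix.diagonal_mul_diagonal, Matrix.diagonal_apply]

theorem PddP_apply (x y : Fin n → K) (i j : Fin n) :
    (Psi n K * Matrix.diagonal x * (Matrix.diagonal y * Psi n K)) i j =
      if i.rev = j.rev then x i.rev * y i.rev else 0 := by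
  rw [← Matrix.mul_assoc, mul_Psi, Matrix.mul_assoc, Psi_mul, Matrix.diagonal_mul_diagonal,
    Matrix.diagonal_apply]

/-- diagonal part of the base change -/
def d1 (a s : K) (i : Fin n) : K := if i.rev < i then s * a else 1

/-- antidiagonal part of the base change -/
def d2 (a s : K) (i : Fin n) : K := if i.rev < i then a else if i < i.rev then 1 + s else 0

/-- the base change matrix -/
def Cm (n : ℕ) {K : Type*} [Field K] (a s : K) : Matrix (Fin n) (Fin n) K :=
  Matrix.diagonal (d1 a s) + Matrix.diagonal (d2 a s) * Psi n K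

variable (D : Frob K q)

theorem dag_Cm_mul (a s : K) (ha : a * D.σ a = -1) (hs : s + D.σ s = -1) :
    dag D (Cm n a s) * Cm n a s = Psi n K := by
  have e1 : dag D (Cm n a s) = Matrix.diagonal (fun i => D.σ (d1 a s i)) +
      Psi n K * Matrix.diagonal (fun i => D.σ (d2 a s i)) := by
    unfold Cm
    rw [dag_add, dag_mul, dag_Psi, dag_diagonal, dag_diagonal]
  rw [e1]
  ext i j
  unfold Cm
  simp only [Matrix.add_mul, Matrix.mul_add, Matrix.add_apply]
  rw [dd_apply, ddP_apply, Pdd_apply, PddP_apply]
  unfold Psi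
  rcases lt_trichotomy i i.rev with h | h | h
  · have hn' : ¬ i.rev < i := lt_asymm h
    have hne : ¬ i = i.rev := ne_of_lt h
    have hne' : ¬ i.rev = i := fun e => hne e.symm
    have hr : i.rev.rev < i.rev := by rw [Fin.rev_rev]; exact h
    have v1 : d1 a s i = 1 := if_neg hn'
    have v2 : d2 a s i = 1 + s := by unfold d2; rw [if_neg hn', if_pos h]
    have v3 : d1 a s i.rev = s * a := if_pos hr
    have v4 : d2 a s i.rev = a := if_pos hr
    rw [v1, v2, v3, v4, map_one]
    by_cases hj : j = i
    · rw [hj]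
      simp only [eq_self_iff_true, if_true, hne, hne', if_false]
      linear_combination ha
    · by_cases hj' : j = i.rev
      · rw [hj']
        simp only [Fin.rev_rev, eq_self_iff_true, if_true, hne, hne', if_false]
        linear_combination s * ha
      · have c1 : ¬ i = j := fun e => hj e.symm
        have c2 : ¬ i = j.rev := fun e => hj' (by rw [e, Fin.rev_rev])
        have c3 : ¬ i.rev = j := fun e => hj' e.symm
        have c4 : ¬ i.rev = j.rev := fun e => hj (Fin.rev_injective e).symm
        simp only [c1, c2, c3, c4, hj', if_false, add_zero]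
  · have v1 : d1 a s i = 1 := by
      unfold d1
      rw [← h, if_neg (lt_irrefl i)]
    have v2 : d2 a s i = 0 := by
      unfold d2
      rw [← h, if_neg (lt_irrefl i), if_neg (lt_irrefl i)]
    simp only [← h]
    rw [v1, v2, map_one, map_zero]
    by_cases hj : j = i
    · rw [hj]
      simp only [← h]
      simp
    · have c1 : ¬ i = j := fun e => hj e.symm
      have c2 : ¬ i = j.rev := fun e => hj (by rw [h, e, Fin.rev_rev])
      simp only [c1, c2, hj, if_false, add_zero]
  · have hn' : ¬ i < i.rev := lt_asymm h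
    have hne : ¬ i = i.rev := ne_of_gt h
    have hne' : ¬ i.rev = i := fun e => hne e.symm
    have hr : ¬ i.rev.rev < i.rev := by rw [Fin.rev_rev]; exact hn'
    have hr' : i.rev < i.rev.rev := by rw [Fin.rev_rev]; exact h
    have v1 : d1 a s i = s * a := if_pos h
    have v2 : d2 a s i = a := if_pos h
    have v3 : d1 a s i.rev = 1 := if_neg hr
    have v4 : d2 a s i.rev = 1 + s := by unfold d2; rw [if_neg hr, if_pos hr']
    rw [v1, v2, v3, v4, map_mul, map_add, map_one]
    by_cases hj : j = i
    · rw [hj]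
      simp only [eq_self_iff_true, if_true, hne, hne', if_false]
      linear_combination (D.σ s * s) * ha + hs
    · by_cases hj' : j = i.rev
      · rw [hj']
        simp only [Fin.rev_rev, eq_self_iff_true, if_true, hne, hne', if_false]
        linear_combination D.σ s * ha
      · have c1 : ¬ i = j := fun e => hj e.symm
        have c2 : ¬ i = j.rev := fun e => hj' (by rw [e, Fin.rev_rev])
        have c3 : ¬ i.rev = j := fun e => hj' e.symm
        have c4 : ¬ i.rev = j.rev := fun e => hj (Fin.rev_injective e).symm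
        simp only [c1, c2, c3, c4, hj', if_false, add_zero]

theorem mem_SU_iff (g : Matrix.SpecialLinearGroup (Fin n) K) :
    g ∈ Cfsg.SU n K q ↔ dag D g.1 * g.1 = 1 := by
  have h1 : g ∈ Cfsg.SU n K q ↔ ∀ u v, Cfsg.hermForm n K q (g.1 *ᵥ u) (g.1 *ᵥ v) =
      Cfsg.hermForm n K q u v := Iff.rfl
  rw [h1, Cfsg.Agent.Helper28.GUlib.preserves_iff D.σ D.pow]
  have e : dag D g.1 * g.1 = (g.1ᵀ * g.1.map D.σ)ᵀ := by
    rw [Matrix.transpose_mul, Matrix.transpose_transpose]
    rfl
  rw [e]
  constructor
  · intro h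
    rw [h, Matrix.transpose_one]
  · intro h
    have := congrArg Matrix.transpose h
    rw [Matrix.transpose_transpose, Matrix.transpose_one] at this
    exact this

section bc

variable {C : Matrix (Fin n) (Fin n) K} (hC : dag D C * C = Psi n K)
include hC

theorem bc_DC : Psi n K * dag D C * C = 1 := by
  rw [Matrix.mul_assoc, hC, Psi_mul_Psi]

theorem bc_CD : C * (Psi n K * dag D C) = 1 := mul_eq_one_comm.mp (bc_DC D hC)

theorem bc_left (M : Matrix (Fin n) (Fin n) K) :
    C * (Psi n K * dag D C * M * C) * (Psi n K * dag D C) = M := by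
  calc C * (Psi n K * dag D C * M * C) * (Psi n K * dag D C)
      = (C * (Psi n K * dag D C)) * M * (C * (Psi n K * dag D C)) := by
        simp only [Matrix.mul_assoc]
    _ = M := by rw [bc_CD D hC, Matrix.one_mul, Matrix.mul_one]

theorem bc_right (N : Matrix (Fin n) (Fin n) K) :
    Psi n K * dag D C * (C * N * (Psi n K * dag D C)) * C = N := by
  calc Psi n K * dag D C * (C * N * (Psi n K * dag D C)) * C
      = (Psi n K * dag D C * C) * N * (Psi n K * dag D C * C) := by
        simp only [Matrix.mul_assoc]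
    _ = N := by rw [bc_DC D hC, Matrix.one_mul, Matrix.mul_one]

theorem bc_mul (M M' : Matrix (Fin n) (Fin n) K) :
    Psi n K * dag D C * (M * M') * C =
      (Psi n K * dag D C * M * C) * (Psi n K * dag D C * M' * C) := by
  symm
  calc (Psi n K * dag D C * M * C) * (Psi n K * dag D C * M' * C)
      = Psi n K * dag D C * M * (C * (Psi n K * dag D C)) * M' * C := by
        simp only [Matrix.mul_assoc]
    _ = Psi n K * dag D C * (M * M') * C := by
        rw [bc_CD D hC, Matrix.mul_one]
        simp only [Matrix.mul_assoc]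

theorem isW_of_SU {M : Matrix (Fin n) (Fin n) K} (hdet : M.det = 1) (hM : dag D M * M = 1) :
    IsW D (Psi n K * dag D C * M * C) := by
  have hDC := bc_DC D hC
  have hCD := bc_CD D hC
  refine ⟨?_, ?_⟩
  · rw [Matrix.det_mul, Matrix.det_mul, hdet, mul_one, ← Matrix.det_mul, hDC, Matrix.det_one]
  · rw [adj_eq]
    have e : dag D (Psi n K * dag D C * M * C) = dag D C * (dag D M * (C * Psi n K)) := by
      rw [dag_mul, dag_mul, dag_mul, dag_dag, dag_Psi]
    rw [e]
    calc Psi n K * (dag D C * (dag D M * (C * Psi n K))) * Psi n K * (Psi n K * dag D C * M * C)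
        = Psi n K * dag D C * dag D M * (C * (Psi n K * Psi n K) * (Psi n K * dag D C)) * M * C := by
          simp only [Matrix.mul_assoc]
      _ = Psi n K * dag D C * dag D M * M * C := by
          rw [Psi_mul_Psi, Matrix.mul_one, hCD, Matrix.mul_one]
      _ = Psi n K * dag D C * (dag D M * M) * C := by simp only [Matrix.mul_assoc]
      _ = 1 := by rw [hM, Matrix.mul_one, hDC]

theorem SU_of_isW {N : Matrix (Fin n) (Fin n) K} (hN : IsW D N) :
    (C * N * (Psi n K * dag D C)).det = 1 ∧
      dag D (C * N * (Psi n K * dag D C)) * (C * N * (Psi n K * dag D C)) = 1 := by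
  have hDC := bc_DC D hC
  have hCD := bc_CD D hC
  refine ⟨?_, ?_⟩
  · rw [Matrix.det_mul, Matrix.det_mul, hN.1, mul_one, ← Matrix.det_mul, hCD, Matrix.det_one]
  · have hN' := hN.2
    rw [adj_eq] at hN'
    have e : dag D (C * N * (Psi n K * dag D C)) = C * Psi n K * (dag D N * dag D C) := by
      rw [dag_mul, dag_mul, dag_mul, dag_dag, dag_Psi]
    rw [e]
    calc C * Psi n K * (dag D N * dag D C) * (C * N * (Psi n K * dag D C))
        = C * Psi n K * dag D N * (dag D C * C) * N * (Psi n K * dag D C) := by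
          simp only [Matrix.mul_assoc]
      _ = C * (Psi n K * dag D N * Psi n K * N) * (Psi n K * dag D C) := by
          rw [hC]
          simp only [Matrix.mul_assoc]
      _ = 1 := by rw [hN', Matrix.mul_one, hCD]

end bc

variable [Fintype K]

/-- the isomorphism between the standard special unitary group and the Witt model -/
noncomputable def bcEquiv {C : Matrix (Fin n) (Fin n) K} (hC : dag D C * C = Psi n K) :
    ↥(Cfsg.SU n K q) ≃* ↥(WU n D) where
  toFun g := ofMat D (Psi n K * dag D C * g.1.1 * C)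
  invFun w := ⟨⟨C * w.1.1 * (Psi n K * dag D C), (SU_of_isW D hC (isW_val D w)).1⟩,
    (mem_SU_iff D _).2 (SU_of_isW D hC (isW_val D w)).2⟩
  left_inv g := by
    apply Subtype.ext
    apply Subtype.ext
    show C * (ofMat D (Psi n K * dag D C * g.1.1 * C)).1.1 * (Psi n K * dag D C) = g.1.1
    rw [ofMat_val D (isW_of_SU D hC g.1.2 ((mem_SU_iff D g.1).1 g.2))]
    exact bc_left D hC g.1.1
  right_inv w := by
    apply ext_val
    have hw := SU_of_isW D hC (isW_val D w)
    show (ofMat D (Psi n K * dag D C * (C * w.1.1 * (Psi n K * dag D C)) * C)).1.1 = w.1.1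
    rw [ofMat_val D (isW_of_SU D hC hw.1 hw.2)]
    exact bc_right D hC w.1.1
  map_mul' g h := by
    apply ext_val
    rw [val_mul, ofMat_val D (isW_of_SU D hC g.1.2 ((mem_SU_iff D g.1).1 g.2)),
      ofMat_val D (isW_of_SU D hC h.1.2 ((mem_SU_iff D h.1).1 h.2)),
      ofMat_val D (isW_of_SU D hC (g * h).1.2 ((mem_SU_iff D (g * h).1).1 (g * h).2))]
    exact bc_mul D hC g.1.1 h.1.1

include D in
theorem psu_isSimple_aux (p : ℕ) [Fact p.Prime] [CharP K p] (hn : 4 ≤ n)
    (S : Sylow p (Cfsg.PSU n K q)) :
    (groupFusionSystem (S : Subgroup (Cfsg.PSU n K q))).IsSimple p := by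
  obtain ⟨a, ha⟩ := Cfsg.Agent.Helper2.SUGen.exists_norm D (-1) (neg_ne_zero.mpr one_ne_zero)
    (by rw [map_neg, map_one])
  obtain ⟨s, hs⟩ := Cfsg.Agent.Helper2.SUGen.exists_trace D (-1) (by rw [map_neg, map_one])
  have hC := dag_Cm_mul (n := n) D a s ha hs
  have hSU : ∀ S₀ : Sylow p ↥(Cfsg.SU n K q),
      (groupFusionSystem (S₀ : Subgroup ↥(Cfsg.SU n K q))).IsSimple p :=
    Cfsg.Agent.Helper25.equiv_isSimple p (bcEquiv D hC).symm (wu_isSimple D p hn)
  apply Cfsg.Agent.Helper25.quotient_isSimple p (Subgroup.center ↥(Cfsg.SU n K q)) _ hSU S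
  intro z hz k hk
  have hcen : ∀ g : ↥(WU n D), g * bcEquiv D hC z = bcEquiv D hC z * g := by
    intro g
    have h1 := Subgroup.mem_center_iff.mp hz ((bcEquiv D hC).symm g)
    have h2 := congrArg (bcEquiv D hC) h1
    rw [map_mul, map_mul, MulEquiv.apply_symm_apply] at h2
    exact h2
  have hpow : (bcEquiv D hC z) ^ (p ^ k) = 1 := by rw [← map_pow, hk, map_one]
  have hnorm : bcEquiv D hC z ∈ Subgroup.normalizer (uniW n D : Set ↥(WU n D)) := by
    rw [Subgroup.mem_normalizer_iff]
    intro u
    have : bcEquiv D hC z * u * (bcEquiv D hC z)⁻¹ = u := by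
      rw [← hcen u, mul_inv_cancel_right]
    rw [this]
  have hb := normalizer_uniW_le D hnorm
  have h3 : (bcEquiv D hC z).1 ^ (p ^ k) = 1 := by
    rw [← val_pow_SL, hpow]
    rfl
  have hu : bcEquiv D hC z ∈ uniW n D := SLU.mem_unitri_of_pow p hb h3
  have h1 := eq_one_of_central_uniW D (by omega) hu hcen
  exact (bcEquiv D hC).injective (h1.trans (map_one _).symm)

/-- The `p`-fusion system of `PSU_n(q)`, `n ≥ 4`, is simple. -/
theorem psu_isSimple (p : ℕ) [Fact p.Prime] [CharP K p] (hK : Fintype.card K = q ^ 2)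
    (hn : 4 ≤ n) (S : Sylow p (Cfsg.PSU n K q)) :
    (groupFusionSystem (S : Subgroup (Cfsg.PSU n K q))).IsSimple p := by
  obtain ⟨σ, hσ, hσ2⟩ := Cfsg.Agent.Helper28.exists_frob hK
  have hσid := Cfsg.Agent.S0837.frob_ne_id hK σ hσ
  exact psu_isSimple_aux ⟨σ, hσ, hσ2, hσid⟩ p hn S

end Cfsg.Agent.Helper25.SUU
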