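import Mathlib
import Cfsg.Agent.Helper4.SUnModel
import Cfsg.Agent.Helper16.SUnSPOW
import Cfsg.Agent.Helper16.SUnUPVEC

/-!
# S2282 piece P7 (UUVEC): the regular unipotent `UU = X1 * Up` on the vectors of the model
-/

set_option autoImplicit false

namespace Cfsg.Agent.Helper25.SUn

open Matrix Cfsg.Agent.Helper4.SUn Cfsg.Agent.Helper16.SUn

variable {K : Type*} [Field K] (σ : K →+* K) (k : ℕ)

theorem eps_apply (i j : Fin (2 * k + 5)) : (ε k i : Fin (2 * k + 5) → K) j = if j = i then 1 else 0 := by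
  unfold ε
  rw [Pi.single_apply]


/-- local copy of P6 `X1_mulVec` -/
theorem uu_X1_mulVec (a : K) (v : Fin (2 * k + 5) → K) :
    X1 σ k a *ᵥ v = v + (a * v (i1 k)) • ε k (i0 k) + (σ a * v (iL k)) • ε k (iB k) := by
  unfold X1 ε
  rw [Matrix.add_mulVec, Matrix.add_mulVec, Matrix.one_mulVec, Matrix.single_mulVec_eq,
    Matrix.single_mulVec_eq]

theorem uu_SS_comm_GS (ν : K) :
    Commute (SS k : Matrix (Fin (2 * k + 5)) (Fin (2 * k + 5)) K) (GS k ν) := by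
  unfold GS
  refine Commute.sum_right _ _ _ ?_
  intro t _
  exact Commute.smul_right (Commute.pow_right (Commute.refl _) t) _

theorem uu_SS_top_mul_GS_pow (ν : K) (m : ℕ) :
    (SS k : Matrix (Fin (2 * k + 5)) (Fin (2 * k + 5)) K) ^ (2 * k + 2) * GS k ν ^ m =
      (SS k : Matrix (Fin (2 * k + 5)) (Fin (2 * k + 5)) K) ^ (2 * k + 2) := by
  have h1 : (SS k : Matrix (Fin (2 * k + 5)) (Fin (2 * k + 5)) K) ^ (2 * k + 2) * GS k ν =
      (SS k : Matrix (Fin (2 * k + 5)) (Fin (2 * k + 5)) K) ^ (2 * k + 2) := by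
    nth_rewrite 1 [p4_GS_rec k ν]
    rw [mul_add, mul_one, mul_smul_comm, ← mul_assoc, ← pow_succ,
      SS_pow_eq_zero k (2 * k + 2 + 1) (by omega), zero_mul, smul_zero, add_zero]
  induction m with
  | zero => rw [pow_zero, mul_one]
  | succ m ih => rw [pow_succ' (GS k ν) m, ← mul_assoc, h1, ih]

/-- local copy of P3 `Up_sub_one_pow_top` -/
theorem uu_Up_sub_one_pow_top {μ : K} (hμ : μ + σ μ = 1) :
    (Up σ k μ - 1) ^ (2 * k + 2) = Matrix.single (i1 k) (iB k) 1 := by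
  have h1 : Up σ k μ - 1 = SS k * GS k (σ μ) := by
    rw [p4_Up_eq, hμ, one_smul, add_sub_cancel_left]
  rw [h1, (uu_SS_comm_GS k (σ μ)).mul_pow, uu_SS_top_mul_GS_pow, SS_pow_top]

/-- `UU w = Up w + (a (Up w)₁) ε₀ + (σ a w_L) ε_B` -/
theorem UU_mulVec (μ a : K) (w : Fin (2 * k + 5) → K) :
    UU σ k μ a *ᵥ w = Up σ k μ *ᵥ w + (a * (Up σ k μ *ᵥ w) (i1 k)) • ε k (i0 k)
      + (σ a * w (iL k)) • ε k (iB k) := by
  unfold UU
  rw [← Matrix.mulVec_mulVec, uu_X1_mulVec,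
    Cfsg.Agent.Helper16.SUn.Up_mulVec_iL]

theorem UU_eps_i0 (μ a : K) : UU σ k μ a *ᵥ ε k (i0 k) = ε k (i0 k) := by
  rw [UU_mulVec, Cfsg.Agent.Helper16.SUn.Up_eps_i0]
  have h1 : (ε k (i0 k) : Fin (2 * k + 5) → K) (i1 k) = 0 := by
    rw [eps_apply, if_neg]
    intro h
    have := congrArg Fin.val h
    simp at this
  have h2 : (ε k (i0 k) : Fin (2 * k + 5) → K) (iL k) = 0 := by
    rw [eps_apply, if_neg]
    intro h
    have := congrArg Fin.val h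
    simp at this
  rw [h1, h2]
  simp

theorem UU_eps_i1 (μ a : K) : UU σ k μ a *ᵥ ε k (i1 k) = ε k (i1 k) + a • ε k (i0 k) := by
  rw [UU_mulVec, Cfsg.Agent.Helper16.SUn.Up_eps_i1]
  have h1 : (ε k (i1 k) : Fin (2 * k + 5) → K) (i1 k) = 1 := by
    rw [eps_apply, if_pos rfl]
  have h2 : (ε k (i1 k) : Fin (2 * k + 5) → K) (iL k) = 0 := by
    rw [eps_apply, if_neg]
    intro h
    have := congrArg Fin.val h
    simp at this
  rw [h1, h2]
  simp

/-- `(UU - 1) w = (Up - 1) w + c ε₀` when `w_L = 0` -/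
theorem UU_sub_one_mulVec (μ a : K) (w : Fin (2 * k + 5) → K) (hw : w (iL k) = 0) :
    (UU σ k μ a - 1) *ᵥ w = (Up σ k μ - 1) *ᵥ w + (a * (Up σ k μ *ᵥ w) (i1 k)) • ε k (i0 k) := by
  rw [Matrix.sub_mulVec, Matrix.sub_mulVec, Matrix.one_mulVec, UU_mulVec, hw]
  simp only [mul_zero, zero_smul, add_zero]
  abel

theorem Up_sub_one_mulVec_iL (μ : K) (w : Fin (2 * k + 5) → K) :
    ((Up σ k μ - 1) *ᵥ w) (iL k) = 0 := by
  rw [Matrix.sub_mulVec, Matrix.one_mulVec, Pi.sub_apply, Cfsg.Agent.Helper16.SUn.Up_mulVec_iL,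
    sub_self]

theorem Up_sub_one_mulVec_i0 (μ : K) (w : Fin (2 * k + 5) → K) :
    ((Up σ k μ - 1) *ᵥ w) (i0 k) = 0 := by
  rw [Matrix.sub_mulVec, Matrix.one_mulVec, Pi.sub_apply, Cfsg.Agent.Helper16.SUn.Up_mulVec_i0,
    sub_self]

theorem UU_sub_one_eps_i0 (μ a : K) : (UU σ k μ a - 1) *ᵥ ε k (i0 k) = 0 := by
  rw [Matrix.sub_mulVec, Matrix.one_mulVec, UU_eps_i0, sub_self]

/-- powers of `UU - 1` against powers of `Up - 1` -/
theorem UU_sub_one_pow_mulVec (μ a : K) (v : Fin (2 * k + 5) → K) (hv : v (iL k) = 0) (m : ℕ) :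
    (∃ ζ : K, ((UU σ k μ a - 1) ^ m) *ᵥ v = ((Up σ k μ - 1) ^ m) *ᵥ v + ζ • ε k (i0 k)) ∧
      (((Up σ k μ - 1) ^ m) *ᵥ v) (iL k) = 0 := by
  induction m with
  | zero =>
    refine ⟨⟨0, ?_⟩, ?_⟩
    · simp
    · simpa using hv
  | succ m ih =>
    obtain ⟨⟨ζ, hζ⟩, hL⟩ := ih
    refine ⟨?_, ?_⟩
    · refine ⟨a * (Up σ k μ *ᵥ (((Up σ k μ - 1) ^ m) *ᵥ v)) (i1 k), ?_⟩
      rw [pow_succ', ← Matrix.mulVec_mulVec, hζ, Matrix.mulVec_add, Matrix.mulVec_smul,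
        UU_sub_one_eps_i0, smul_zero, add_zero, UU_sub_one_mulVec σ k μ a _ hL,
        pow_succ' (Up σ k μ - 1), ← Matrix.mulVec_mulVec]
    · rw [pow_succ', ← Matrix.mulVec_mulVec]
      exact Up_sub_one_mulVec_iL σ k μ _

theorem UU_reg {μ : K} (hμ : μ + σ μ = 1) (a : K) (v : Fin (2 * k + 5) → K) (hv : v (iL k) = 0) :
    ∃ ζ : K, ((UU σ k μ a - 1) ^ (2 * k + 2)) *ᵥ v = v (iB k) • ε k (i1 k) + ζ • ε k (i0 k) := by
  obtain ⟨⟨ζ, hζ⟩, _⟩ := UU_sub_one_pow_mulVec σ k μ a v hv (2 * k + 2)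
  refine ⟨ζ, ?_⟩
  rw [hζ, uu_Up_sub_one_pow_top σ k hμ, Matrix.single_mulVec_eq, one_mul]
  rfl

theorem UU_ker {μ : K} (hμ : μ + σ μ = 1) (a : K) (v : Fin (2 * k + 5) → K) (hv : v (iL k) = 0)
    (hker : ∃ ζ : K, (UU σ k μ a - 1) *ᵥ v = ζ • ε k (i0 k)) :
    ∃ x ζ' : K, v = x • ε k (i1 k) + ζ' • ε k (i0 k) := by
  obtain ⟨ζ, hζ⟩ := hker
  rw [UU_sub_one_mulVec σ k μ a v hv] at hζ
  set c : K := a * (Up σ k μ *ᵥ v) (i1 k) with hc
  have hN : (Up σ k μ - 1) *ᵥ v = (ζ - c) • ε k (i0 k) := by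
    rw [sub_smul, ← hζ]; abel
  have h0 : ζ - c = 0 := by
    have := congrFun hN (i0 k)
    rw [Up_sub_one_mulVec_i0, Pi.smul_apply, eps_apply, if_pos rfl, smul_eq_mul, mul_one] at this
    exact this.symm
  rw [h0, zero_smul] at hN
  have hmid := Cfsg.Agent.Helper16.SUn.Up_sub_one_ker σ k hμ v hN
  refine ⟨v (i1 k), v (i0 k), ?_⟩
  funext j
  simp only [Pi.add_apply, Pi.smul_apply, eps_apply, smul_eq_mul, mul_ite, mul_one, mul_zero]
  by_cases hj0 : j = i0 k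
  · subst hj0
    have : i0 k ≠ i1 k := by
      intro h
      have := congrArg Fin.val h
      simp at this
    rw [if_neg this, if_pos rfl, zero_add]
  · by_cases hj1 : j = i1 k
    · subst hj1
      rw [if_pos rfl, if_neg hj0, add_zero]
    · rw [if_neg hj1, if_neg hj0, add_zero]
      have hjv0 : (j : ℕ) ≠ 0 := fun h => hj0 (Fin.ext (by simpa using h))
      have hjv1 : (j : ℕ) ≠ 1 := fun h => hj1 (Fin.ext (by simpa using h))
      by_cases hjL : (j : ℕ) ≤ 2 * k + 3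
      · exact hmid j (by omega) hjL
      · have : j = iL k := Fin.ext (by have := j.2; simp; omega)
        rw [this, hv]

theorem UU_seed {μ : K} (hμ : μ + σ μ = 1) (a β : K) :
    UU σ k μ a *ᵥ wg σ k μ β = wg σ k μ β - β • ε k (iM k) := by
  have hUp : Up σ k μ *ᵥ wg σ k μ β = -β • (ε k (iM1 k) + μ • ε k (iM k)) := by
    unfold wg
    rw [Matrix.mulVec_smul, Cfsg.Agent.Helper16.SUn.Up_seed σ k hμ]
  have hne : ∀ i j : Fin (2 * k + 5), (j : ℕ) ≠ (i : ℕ) →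
      (ε k i : Fin (2 * k + 5) → K) j = 0 := by
    intro i j hij
    rw [eps_apply, if_neg]
    intro h
    exact hij (congrArg Fin.val h)
  have h1 : (Up σ k μ *ᵥ wg σ k μ β) (i1 k) = 0 := by
    rw [hUp]
    simp only [Pi.smul_apply, Pi.add_apply, smul_eq_mul]
    rw [hne (iM1 k) (i1 k) (by simp), hne (iM k) (i1 k) (by simp)]
    ring
  have hL : wg σ k μ β (iL k) = 0 := by
    unfold wg
    simp only [Pi.smul_apply, Pi.sub_apply, smul_eq_mul]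
    rw [hne (iM1 k) (iL k) (by simp; omega), hne (iM k) (iL k) (by simp; omega)]
    ring
  rw [UU_mulVec, h1, hL, hUp]
  unfold wg
  have hμ' : μ = 1 - σ μ := by rw [← hμ]; ring
  have e : μ • (ε k (iM k) : Fin (2 * k + 5) → K) = (1 - σ μ) • ε k (iM k) := by rw [← hμ']
  simp only [mul_zero, zero_smul, add_zero]
  rw [e]
  module

end Cfsg.Agent.Helper25.SUn
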