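import Mathlib
import Cfsg.Agent.Helper15.M11f

set_option autoImplicit false
set_option linter.unusedSectionVars false
set_option linter.unusedVariables false
set_option linter.style.haveILetI false
set_option maxHeartbeats 1000000

/-!
Simple groups of order 7920: a transitive action on `11` points has permutation character
`1 + χ` with `χ` of degree `10`, and every nonidentity element fixes at most three points.
-/

namespace Cfsg.Agent.Helper25.Sharp4Idx11

open Cfsg Subgroup Cfsg.Agent.Helper15.O7920 Cfsg.Agent.Helper24 Cfsg.Agent.Helper15.BrP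
  Cfsg.Agent.Helper15.M11U

universe u v

variable {G : Type u} [Group G] [Finite G] [IsSimpleGroup G]

/-- The permutation character of a transitive action on `11` points is `1 + χ` with `χ` one of
the three characters of degree `10`. -/
theorem exists_deg10 {X : Type v} [MulAction G X] [Finite X] [MulAction.IsPretransitive G X]
    (hX : Nat.card X = 11) [Fintype G] [Fintype (IrrCharacter G)] (hcard : Nat.card G = 7920)
    {P : Sylow 11 G} {Q : Sylow 5 G} (E : MData P Q) :
    ∃ χ : IrrCharacter G, (χ = E.χ1 ∨ χ = E.χ2 ∨ χ = E.χ3) ∧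
      ∀ g : G, (Nat.card (MulAction.fixedBy X g) : ℂ) = 1 + (χ : G → ℂ) g := by
  classical
  haveI : Nonempty X := by
    have : 0 < Nat.card X := by rw [hX]; norm_num
    exact (Nat.card_pos_iff.mp this).1
  have hπ : IsCharacter G (fun g : G => (Nat.card (MulAction.fixedBy X g) : ℂ)) :=
    isCharacter_permChar X
  obtain ⟨n, hn⟩ := IsCharacter.exists_nat_coeff hπ
  have hval : ∀ g : G, (Nat.card (MulAction.fixedBy X g) : ℂ) =
      (n (trivIrr G) : ℂ) * (trivIrr G : G → ℂ) g + (n E.χa : ℂ) * (E.χa : G → ℂ) g +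
      (n E.χ1 : ℂ) * (E.χ1 : G → ℂ) g + (n E.χ2 : ℂ) * (E.χ2 : G → ℂ) g +
      (n E.χ3 : ℂ) * (E.χ3 : G → ℂ) g + (n E.θ₁ : ℂ) * (E.θ₁ : G → ℂ) g +
      (n E.θ₂ : ℂ) * (E.θ₂ : G → ℂ) g + (n E.χ11 : ℂ) * (E.χ11 : G → ℂ) g +
      (n E.χ44 : ℂ) * (E.χ44 : G → ℂ) g + (n E.ψ₀ : ℂ) * (E.ψ₀ : G → ℂ) g := by
    intro g
    have := congrFun hn g
    simp only [Finset.sum_apply, Pi.smul_apply, smul_eq_mul] at this
    rw [this, E.hsU]
  -- the trivial character has multiplicity one
  have h0 : n (trivIrr G) = 1 := by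
    have h1 : classInner (fun g : G => (Nat.card (MulAction.fixedBy X g) : ℂ))
        (trivIrr G : G → ℂ) = n (trivIrr G) := by
      rw [hn]; exact classInner_sum_irr _ _
    have h2 : classInner (fun g : G => (Nat.card (MulAction.fixedBy X g) : ℂ))
        (trivIrr G : G → ℂ) = 1 := by
      unfold classInner
      simp only [trivIrr_apply, map_one, mul_one]
      rw [sum_card_fixedBy_complex]
      have hone : Nat.card (MulAction.orbitRel.Quotient G X) = 1 := by
        rw [Nat.card_eq_one_iff_unique]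
        exact ⟨(MulAction.pretransitive_iff_subsingleton_quotient G X).mp inferInstance,
          (nonempty_quotient_iff _).mpr inferInstance⟩
      rw [hone]
      have hG : (Nat.card G : ℂ) ≠ 0 := by
        have : Nat.card G ≠ 0 := Nat.card_pos.ne'
        exact_mod_cast this
      field_simp
      simp
    rw [h1] at h2
    exact_mod_cast h2
  -- value at the identity
  have e1 := hval 1
  have hfix1 : MulAction.fixedBy X (1 : G) = Set.univ := by
    ext x; simp
  rw [hfix1, Nat.card_coe_set_eq, Set.ncard_univ, hX, trivIrr_apply,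
    irrDeg_spec, irrDeg_spec, irrDeg_spec, irrDeg_spec, irrDeg_spec, irrDeg_spec, irrDeg_spec,
    irrDeg_spec, irrDeg_spec, E.hda, E.hd1, E.hd2, E.hd3, E.hdθ₁, E.hdθ₂, E.hd11, E.hd44,
    E.hd55] at e1
  have e1' : (11 : ℤ) = n (trivIrr G) + n E.χa * 45 + n E.χ1 * 10 + n E.χ2 * 10 +
      n E.χ3 * 10 + n E.θ₁ * 16 + n E.θ₂ * 16 + n E.χ11 * 11 + n E.χ44 * 44 + n E.ψ₀ * 55 := by
    have : ((11 : ℤ) : ℂ) = ((n (trivIrr G) + n E.χa * 45 + n E.χ1 * 10 + n E.χ2 * 10 +
      n E.χ3 * 10 + n E.θ₁ * 16 + n E.θ₂ * 16 + n E.χ11 * 11 + n E.χ44 * 44 +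
      n E.ψ₀ * 55 : ℤ) : ℂ) := by
      push_cast
      push_cast at e1
      linear_combination e1
    exact_mod_cast this
  have ka : n E.χa = 0 := by omega
  have kθ₁ : n E.θ₁ = 0 := by omega
  have kθ₂ : n E.θ₂ = 0 := by omega
  have k11 : n E.χ11 = 0 := by omega
  have k44 : n E.χ44 = 0 := by omega
  have k55 : n E.ψ₀ = 0 := by omega
  have k123 : n E.χ1 + n E.χ2 + n E.χ3 = 1 := by omega
  have hval' : ∀ g : G, (Nat.card (MulAction.fixedBy X g) : ℂ) =
      1 + (n E.χ1 : ℂ) * (E.χ1 : G → ℂ) g + (n E.χ2 : ℂ) * (E.χ2 : G → ℂ) g +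
      (n E.χ3 : ℂ) * (E.χ3 : G → ℂ) g := by
    intro g
    rw [hval g, h0, ka, kθ₁, kθ₂, k11, k44, k55, trivIrr_apply]
    push_cast
    ring
  have hcases : (n E.χ1 = 1 ∧ n E.χ2 = 0 ∧ n E.χ3 = 0) ∨ (n E.χ1 = 0 ∧ n E.χ2 = 1 ∧ n E.χ3 = 0) ∨
      (n E.χ1 = 0 ∧ n E.χ2 = 0 ∧ n E.χ3 = 1) := by omega
  rcases hcases with ⟨a1, a2, a3⟩ | ⟨a1, a2, a3⟩ | ⟨a1, a2, a3⟩
  · refine ⟨E.χ1, Or.inl rfl, fun g => ?_⟩
    rw [hval' g, a1, a2, a3]; push_cast; ring
  · refine ⟨E.χ2, Or.inr (Or.inl rfl), fun g => ?_⟩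
    rw [hval' g, a1, a2, a3]; push_cast; ring
  · refine ⟨E.χ3, Or.inr (Or.inr rfl), fun g => ?_⟩
    rw [hval' g, a1, a2, a3]; push_cast; ring

theorem prime_dvd_7920 {p : ℕ} (hp : p.Prime) (h : p ∣ 7920) :
    p = 2 ∨ p = 3 ∨ p = 5 ∨ p = 11 := by
  have h1 : (7920 : ℕ) = 2 ^ 4 * 3 ^ 2 * 5 * 11 := by norm_num
  rw [h1] at h
  rcases (Nat.Prime.dvd_mul hp).mp h with h | h
  · rcases (Nat.Prime.dvd_mul hp).mp h with h | h
    · rcases (Nat.Prime.dvd_mul hp).mp h with h | h
      · left; exact (Nat.prime_dvd_prime_iff_eq hp Nat.prime_two).mp (hp.dvd_of_dvd_pow h)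
      · right; left
        exact (Nat.prime_dvd_prime_iff_eq hp Nat.prime_three).mp (hp.dvd_of_dvd_pow h)
    · right; right; left; exact (Nat.prime_dvd_prime_iff_eq hp Nat.prime_five).mp h
  · right; right; right; exact (Nat.prime_dvd_prime_iff_eq hp (by norm_num)).mp h

/-- An element of prime order fixes at most three points. -/
theorem card_fixedBy_prime_le {X : Type v} [MulAction G X] [Finite X]
    [MulAction.IsPretransitive G X] (hX : Nat.card X = 11) (hcard : Nat.card G = 7920)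
    (h : G) (p : ℕ) (hp : p = 2 ∨ p = 3 ∨ p = 5 ∨ p = 11) (hh : orderOf h = p) :
    Nat.card (MulAction.fixedBy X h) ≤ 3 := by
  classical
  haveI : Fintype G := Fintype.ofFinite G
  haveI : Fintype (IrrCharacter G) := Fintype.ofFinite _
  have hnat : ∀ (m : ℕ) (k : ℤ), (m : ℂ) = 1 + (k : ℂ) → (m : ℤ) = 1 + k := by
    intro m k hmk
    have : ((m : ℤ) : ℂ) = ((1 + k : ℤ) : ℂ) := by push_cast; exact hmk
    exact_mod_cast this
  rcases hp with rfl | rfl | rfl | rfl
  · -- involutions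
    obtain ⟨P⟩ : Nonempty (Sylow 11 G) := inferInstance
    obtain ⟨Q⟩ : Nonempty (Sylow 5 G) := inferInstance
    obtain ⟨E⟩ := exists_mdata hcard P Q
    obtain ⟨χ, hχ, hfix⟩ := exists_deg10 hX hcard E
    obtain ⟨-, -, -, -, -, -, hc⟩ := inv_vals_full hcard E h hh
    have h2 : (χ : G → ℂ) h = ((2 : ℤ) : ℂ) ∨ (χ : G → ℂ) h = ((-2 : ℤ) : ℂ) := by
      rcases hχ with rfl | rfl | rfl <;>
        rcases hc with ⟨e1, e2, e3⟩ | ⟨e1, e2, e3⟩ | ⟨e1, e2, e3⟩ <;> simp [e1, e2, e3]
    have := hfix h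
    rcases h2 with h2 | h2
    · rw [h2] at this
      have := hnat _ _ this
      omega
    · rw [h2] at this
      have := hnat _ _ this
      omega
  · -- order three
    obtain ⟨P⟩ : Nonempty (Sylow 11 G) := inferInstance
    obtain ⟨Q⟩ : Nonempty (Sylow 5 G) := inferInstance
    obtain ⟨E⟩ := exists_mdata hcard P Q
    obtain ⟨χ, hχ, hfix⟩ := exists_deg10 hX hcard E
    obtain ⟨-, e1, e2, e3, -⟩ := three_vals hcard E h hh
    have h2 : (χ : G → ℂ) h = ((1 : ℤ) : ℂ) := by
      rcases hχ with rfl | rfl | rfl <;> simp [e1, e2, e3]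
    have := hfix h
    rw [h2] at this
    have := hnat _ _ this
    omega
  · -- order five
    obtain ⟨P⟩ : Nonempty (Sylow 11 G) := inferInstance
    have hpg : IsPGroup 5 (zpowers h) := by
      apply IsPGroup.of_card (n := 1)
      rw [Nat.card_zpowers, hh]; norm_num
    obtain ⟨Q, hQ⟩ := hpg.exists_le_sylow
    obtain ⟨E⟩ := exists_mdata hcard P Q
    obtain ⟨χ, hχ, hfix⟩ := exists_deg10 hX hcard E
    have hh1 : h ≠ 1 := by intro h1; rw [h1, orderOf_one] at hh; omega
    obtain ⟨-, -, -, -, -, e1, e2, e3, -⟩ := vals5 hcard E h (hQ (mem_zpowers h)) hh1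
    have h2 : (χ : G → ℂ) h = ((0 : ℤ) : ℂ) := by
      rcases hχ with rfl | rfl | rfl <;> simp [e1, e2, e3]
    have := hfix h
    rw [h2] at this
    have := hnat _ _ this
    omega
  · -- order eleven
    obtain ⟨Q⟩ : Nonempty (Sylow 5 G) := inferInstance
    have hpg : IsPGroup 11 (zpowers h) := by
      apply IsPGroup.of_card (n := 1)
      rw [Nat.card_zpowers, hh]; norm_num
    obtain ⟨P, hP⟩ := hpg.exists_le_sylow
    obtain ⟨E⟩ := exists_mdata hcard P Q
    obtain ⟨χ, hχ, hfix⟩ := exists_deg10 hX hcard E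
    have hh1 : h ≠ 1 := by intro h1; rw [h1, orderOf_one] at hh; omega
    obtain ⟨hXv, -⟩ := vals11 hcard E h (hP (mem_zpowers h)) hh1
    have h2 : (χ : G → ℂ) h = ((-1 : ℤ) : ℂ) := by
      rcases hχ with rfl | rfl | rfl
      · rw [hXv _ E.hm1, E.hs1]
      · rw [hXv _ E.hm2, E.hs2]
      · rw [hXv _ E.hm3, E.hs3]
    have := hfix h
    rw [h2] at this
    have := hnat _ _ this
    omega

/-- Every nonidentity element fixes at most three points. -/
theorem card_fixedBy_le {X : Type v} [MulAction G X] [Finite X]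
    [MulAction.IsPretransitive G X] (hX : Nat.card X = 11) (hcard : Nat.card G = 7920)
    (g : G) (hg : g ≠ 1) : Nat.card (MulAction.fixedBy X g) ≤ 3 := by
  have ho1 : orderOf g ≠ 1 := by rwa [Ne, orderOf_eq_one_iff]
  obtain ⟨p, hp, hpd⟩ := Nat.exists_prime_and_dvd ho1
  have hod : orderOf g ∣ 7920 := by rw [← hcard]; exact orderOf_dvd_natCard g
  have hp4 := prime_dvd_7920 hp (hpd.trans hod)
  have ho0 : orderOf g ≠ 0 := (orderOf_pos g).ne'
  have hh : orderOf (g ^ (orderOf g / p)) = p := orderOf_pow_orderOf_div ho0 hpd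
  have hle := card_fixedBy_prime_le hX hcard (g ^ (orderOf g / p)) p hp4 hh
  have hsub : MulAction.fixedBy X g ⊆ MulAction.fixedBy X (g ^ (orderOf g / p)) := by
    intro x hx
    rw [MulAction.mem_fixedBy] at hx ⊢
    have : ∀ k : ℕ, g ^ k • x = x := by
      intro k
      induction k with
      | zero => simp
      | succ k ih => rw [pow_succ, mul_smul, hx, ih]
    exact this _
  exact (Nat.card_mono (Set.toFinite _) hsub).trans hle

end Cfsg.Agent.Helper25.Sharp4Idx11
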