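import Mathlib
import Cfsg.Agent.Helper25.Sharp4Idx11a

set_option autoImplicit false
set_option linter.unusedSectionVars false
set_option linter.unusedVariables false
set_option linter.style.haveILetI false
set_option maxHeartbeats 1000000

/-!
Simple groups of order 7920 with a subgroup of index `11` are sharply `4`-transitive permutation
groups of degree `11`.
-/

namespace Cfsg.Agent.Helper25.Sharp4Idx11

open Cfsg Subgroup

universe u v

/-- A group of order `7920` acting on `11` points such that nonidentity elements fix at most three
points is isomorphic to a sharply `4`-transitive subgroup of `Perm (Fin 11)`. -/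
theorem sharp4_of_fix_le {G : Type u} [Group G] [Finite G] {X : Type v} [MulAction G X]
    [Finite X] (hX : Nat.card X = 11) (hcard : Nat.card G = 7920)
    (hfix : ∀ g : G, g ≠ 1 → Nat.card (MulAction.fixedBy X g) ≤ 3) :
    ∃ K : Subgroup (Equiv.Perm (Fin 11)), Nonempty (G ≃* K) ∧
      MulAction.IsMultiplyPretransitive K (Fin 11) 4 ∧
      ∀ x : Fin 4 ↪ Fin 11, MulAction.stabilizer K x = ⊥ := by
  classical
  haveI : Fintype X := Fintype.ofFinite X
  haveI : Fintype G := Fintype.ofFinite G
  -- four fixed points force the identity
  have hfree : ∀ (g : G) (x : Fin 4 ↪ X), (∀ j, g • x j = x j) → g = 1 := by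
    intro g x hx
    by_contra hg
    have h3 := hfix g hg
    have h4 : Nat.card (Fin 4) ≤ Nat.card (MulAction.fixedBy X g) :=
      Nat.card_le_card_of_injective (fun j => (⟨x j, hx j⟩ : MulAction.fixedBy X g))
        (fun a b hab => x.injective (congrArg Subtype.val hab))
    rw [Nat.card_fin] at h4
    omega
  -- the action on injective quadruples is regular
  have hcardE : Fintype.card (Fin 4 ↪ X) = 7920 := by
    rw [Fintype.card_embedding_eq, Fintype.card_fin, ← Nat.card_eq_fintype_card, hX]
    rfl
  have htrans : ∀ x y : Fin 4 ↪ X, ∃ g : G, ∀ j, g • x j = y j := by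
    intro x y
    have hinj : Function.Injective (fun g : G => g • x) := by
      intro a b hab
      have h1 : ∀ j, (b⁻¹ * a) • x j = x j := by
        intro j
        have := DFunLike.congr_fun hab j
        simp only [Function.Embedding.smul_apply] at this
        rw [mul_smul, this, inv_smul_smul]
      have := hfree _ x h1
      exact (inv_mul_eq_one.mp this).symm
    have hbij : Function.Bijective (fun g : G => g • x) := by
      rw [Fintype.bijective_iff_injective_and_card]
      refine ⟨hinj, ?_⟩
      rw [hcardE, ← Nat.card_eq_fintype_card, hcard]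
    obtain ⟨g, hg⟩ := hbij.2 y
    refine ⟨g, fun j => ?_⟩
    have := DFunLike.congr_fun hg j
    simpa only [Function.Embedding.smul_apply] using this
  -- transport to `Fin 11`
  have e : X ≃ Fin 11 := Fintype.equivFinOfCardEq (by rw [← Nat.card_eq_fintype_card, hX])
  let ψ : G →* Equiv.Perm (Fin 11) :=
    (e.permCongrHom : Equiv.Perm X →* Equiv.Perm (Fin 11)).comp (MulAction.toPermHom G X)
  have hψ : ∀ (g : G) (i : Fin 11), ψ g i = e (g • e.symm i) := by
    intro g i
    rfl
  have hψinj : Function.Injective ψ := by
    rw [injective_iff_map_eq_one]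
    intro g hg
    let x : Fin 4 ↪ X := (Fin.castLEEmb (by norm_num : 4 ≤ 11)).trans e.symm.toEmbedding
    apply hfree g x
    intro j
    have := DFunLike.congr_fun hg (e (x j))
    rw [hψ, Equiv.symm_apply_apply, Equiv.Perm.one_apply] at this
    exact e.injective this
  refine ⟨ψ.range, ⟨MonoidHom.ofInjective hψinj⟩, ?_, ?_⟩
  · rw [MulAction.isMultiplyPretransitive_iff]
    intro x y
    obtain ⟨g, hg⟩ := htrans (x.trans e.symm.toEmbedding) (y.trans e.symm.toEmbedding)
    refine ⟨⟨ψ g, g, rfl⟩, ?_⟩
    ext j
    have := hg j
    simp only [Function.Embedding.trans_apply, Equiv.coe_toEmbedding] at this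
    rw [Function.Embedding.smul_apply]
    change ((ψ g) (x j) : ℕ) = _
    rw [hψ, this, Equiv.apply_symm_apply]
  · intro x
    rw [eq_bot_iff]
    rintro ⟨k, g, rfl⟩ hk
    rw [MulAction.mem_stabilizer_iff] at hk
    have hg1 : g = 1 := by
      apply hfree g (x.trans e.symm.toEmbedding)
      intro j
      have := DFunLike.congr_fun hk j
      change (ψ g) (x j) = x j at this
      rw [hψ] at this
      simp only [Function.Embedding.trans_apply, Equiv.coe_toEmbedding]
      apply e.injective
      rw [this, Equiv.apply_symm_apply]
    rw [Subgroup.mem_bot]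
    ext1
    simp [hg1]

/-- A simple group of order `7920` with a subgroup of index `11` is (isomorphic to) a sharply
`4`-transitive permutation group of degree `11`. -/
theorem sharp4_of_index11 {G : Type u} [Group G] [Finite G] [IsSimpleGroup G]
    (hcard : Nat.card G = 7920) (H : Subgroup G) (hH : H.index = 11) :
    ∃ K : Subgroup (Equiv.Perm (Fin 11)), Nonempty (G ≃* K) ∧
      MulAction.IsMultiplyPretransitive K (Fin 11) 4 ∧
      ∀ x : Fin 4 ↪ Fin 11, MulAction.stabilizer K x = ⊥ := by
  have hX : Nat.card (G ⧸ H) = 11 := hH
  haveI : Finite (G ⧸ H) := Nat.finite_of_card_ne_zero (by rw [hX]; norm_num)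
  exact sharp4_of_fix_le hX hcard (fun g hg => card_fixedBy_le hX hcard g hg)

end Cfsg.Agent.Helper25.Sharp4Idx11
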