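import Mathlib
import Cfsg.Agent.Helper1.FrobGroup
import Cfsg.Agent.Helper14.SolvSup

set_option autoImplicit false
set_option linter.style.haveILetI false

/-!
A solvable subgroup `A` of a finite group that is central in every solvable subgroup
containing it is central (minimal counterexample: `C_G(A)` is the unique maximal subgroup
over `A`, `G / Z(G)` is a Frobenius group with complement `C_G(A) / Z(G)`, and the preimage of
(Frobenius kernel) * `A` is solvable by Thompson's theorem).
-/

namespace Cfsg.Agent.Helper25.SolvCentral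

open Subgroup Pointwise Cfsg

universe u

/-- `A` is central in every solvable subgroup containing it. -/
def CentHyp {G : Type u} [Group G] (A : Subgroup G) : Prop :=
  ∀ S : Subgroup G, A ≤ S → Group.IsSolvable S → ∀ a ∈ A, ∀ s ∈ S, a * s = s * a

variable {G : Type u} [Group G]

theorem centHyp_subgroupOf {A : Subgroup G} (h : CentHyp A) (H : Subgroup G) (hAH : A ≤ H) :
    CentHyp (A.subgroupOf H) := by
  intro S hAS hS a ha s hs
  have hS' : Group.IsSolvable (S.map H.subtype) := by
    have e : S ≃* S.map H.subtype := S.equivMapOfInjective _ H.subtype_injective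
    exact Group.isSolvable_of_surjective (f := e.toMonoidHom) e.surjective
  have hAS' : A ≤ S.map H.subtype := by
    intro x hx
    exact ⟨⟨x, hAH hx⟩, hAS (mem_subgroupOf.mpr hx), rfl⟩
  have := h _ hAS' hS' (a : G) (mem_subgroupOf.mp ha) (s : G) ⟨s, hs, rfl⟩
  exact Subtype.ext (by simpa using this)

theorem card_lt_of_ne_top [Finite G] {H : Subgroup G} (hH : H ≠ ⊤) : Nat.card H < Nat.card G := by
  have h1 := H.card_mul_index
  have h2 : H.index ≠ 1 := fun h => hH (index_eq_one.mp h)
  have h3 : H.index ≠ 0 := index_ne_zero_of_finite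
  have h4 : 2 ≤ H.index := by omega
  have h5 : 0 < Nat.card H := Nat.card_pos
  nlinarith

theorem isSolvable_comap_center [Finite G] (T : Subgroup (G ⧸ center G)) (hT : Group.IsSolvable T) :
    Group.IsSolvable (T.comap (QuotientGroup.mk' (center G))) := by
  have hπ1 : ∀ y : G, QuotientGroup.mk' (center G) y = 1 ↔ y ∈ center G := fun y => by
    rw [QuotientGroup.mk'_apply, QuotientGroup.eq_one_iff]
  have hZS : center G ≤ T.comap (QuotientGroup.mk' (center G)) := by
    intro z hz
    rw [mem_comap, (hπ1 z).mpr hz]
    exact T.one_mem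
  haveI : Group.IsSolvable (center G) :=
    Group.isSolvable_of_comm (fun a b => Subtype.ext ((mem_center_iff.mp a.2 b).symm))
  refine Group.isSolvable_of_ker_le_range (inclusion hZS)
    ((QuotientGroup.mk' (center G)).subgroupComap T) ?_
  intro x hx
  rw [MonoidHom.mem_ker] at hx
  have h1 : QuotientGroup.mk' (center G) (x : G) = 1 := congrArg Subtype.val hx
  have h2 : (x : G) ∈ center G := (hπ1 _).mp h1
  exact ⟨⟨x, h2⟩, Subtype.ext rfl⟩

theorem aux : ∀ n : ℕ, ∀ (G : Type u) [Group G] [Finite G], Nat.card G = n →
    ∀ A : Subgroup G, Group.IsSolvable A → CentHyp A → A ≤ center G := by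
  intro n
  induction n using Nat.strong_induction_on with
  | _ n ih =>
  intro G _ _ hn A hAsol hyp
  have hAab : ∀ a ∈ A, ∀ b ∈ A, a * b = b * a := fun a ha b hb => hyp A le_rfl hAsol a ha b hb
  set M : Subgroup G := centralizer (A : Set G) with hM
  have hMmem : ∀ g : G, g ∈ M ↔ ∀ a ∈ A, a * g = g * a := fun g => by
    rw [hM, mem_centralizer_iff]; rfl
  have hAM : A ≤ M := fun a ha => (hMmem a).mpr (fun b hb => hAab b hb a ha)
  -- Step A: every proper subgroup containing `A` centralizes `A`
  have stepA : ∀ H : Subgroup G, H ≠ ⊤ → A ≤ H → H ≤ M := by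
    intro H hH hAH
    have hlt : Nat.card H < n := hn ▸ card_lt_of_ne_top hH
    have hsol : Group.IsSolvable (A.subgroupOf H) := by
      have e : A.subgroupOf H ≃* A := subgroupOfEquivOfLe hAH
      exact Group.isSolvable_of_surjective (f := e.symm.toMonoidHom) e.symm.surjective
    have hc := ih (Nat.card H) hlt H rfl (A.subgroupOf H) hsol (centHyp_subgroupOf hyp H hAH)
    intro h hh
    rw [hMmem]
    intro a ha
    have h1 : (⟨a, hAH ha⟩ : H) ∈ center H := hc (mem_subgroupOf.mpr ha)
    have := (mem_center_iff.mp h1) ⟨h, hh⟩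
    exact (congrArg Subtype.val this).symm
  by_cases hMtop : M = ⊤
  · intro a ha
    rw [mem_center_iff]
    intro g
    have : g ∈ M := hMtop ▸ mem_top g
    exact ((hMmem g).mp this a ha).symm
  exfalso
  -- `G` is not solvable
  have hGns : ¬ Group.IsSolvable G := by
    intro hs
    apply hMtop
    rw [eq_top_iff]
    intro g _
    rw [hMmem]
    intro a ha
    have hs' : Group.IsSolvable (⊤ : Subgroup G) :=
      Group.isSolvable_of_surjective (f := (topEquiv (G := G)).symm.toMonoidHom) (topEquiv (G := G)).symm.surjective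
    exact hyp ⊤ le_top hs' a ha g (mem_top g)
  obtain ⟨g0, hg0⟩ : ∃ g : G, g ∉ M := by
    by_contra hcon
    push Not at hcon
    exact hMtop (eq_top_iff.mpr (fun g _ => hcon g))
  obtain ⟨a0, ha0, hne0⟩ : ∃ a ∈ A, a * g0 ≠ g0 * a := by
    by_contra hcon
    push Not at hcon
    exact hg0 ((hMmem g0).mpr hcon)
  by_cases hMn : M.Normal
  · -- Case 1: `M` normal
    set N : Subgroup G := normalClosure (A : Set G) with hN
    have hNM : N ≤ M := normalClosure_le_normal hAM
    have hAN : A ≤ N := le_normalClosure
    have hNab : ∀ x ∈ N, ∀ y ∈ N, x * y = y * x := by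
      have hNcent : N ≤ centralizer (N : Set G) := by
        rw [hN, normalClosure, centralizer_closure]
        intro x hx
        rw [mem_centralizer_iff]
        intro c hc
        -- c is a conjugate of some a ∈ A
        obtain ⟨a, ha, hconj⟩ := Group.mem_conjugatesOfSet_iff.mp hc
        obtain ⟨g, rfl⟩ := isConj_iff.mp hconj
        have h1 : g⁻¹ * x * g ∈ normalClosure (A : Set G) := by
          have := (normalClosure_normal (s := (A : Set G))).conj_mem x hx g⁻¹
          simpa using this
        have h2 := (hMmem _).mp (hNM h1) a ha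
        calc g * a * g⁻¹ * x = g * (a * (g⁻¹ * x * g)) * g⁻¹ := by group
          _ = g * ((g⁻¹ * x * g) * a) * g⁻¹ := by rw [h2]
          _ = x * (g * a * g⁻¹) := by group
      intro x hx y hy
      have := (mem_centralizer_iff.mp (hNcent hy)) x hx
      exact this
    haveI : Group.IsSolvable N :=
      Group.isSolvable_of_comm (fun a b => Subtype.ext (hNab a a.2 b b.2))
    have hzn : zpowers g0 ≤ normalizer (N : Set G) := by
      have : normalizer (N : Set G) = ⊤ := normalizer_eq_top_iff.mpr normalClosure_normal
      rw [this]; exact le_top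
    have hLsol : Group.IsSolvable ↥(N ⊔ zpowers g0) :=
      Cfsg.Agent.Helper14.isSolvable_sup_of_comm_of_le_normalizer N (zpowers g0)
        (by
          intro a ha b hb
          obtain ⟨i, rfl⟩ := mem_zpowers_iff.mp ha
          obtain ⟨j, rfl⟩ := mem_zpowers_iff.mp hb
          exact (Commute.zpow_zpow_self g0 i j).eq) hzn
    have hAL : A ≤ N ⊔ zpowers g0 := hAN.trans le_sup_left
    by_cases hLtop : N ⊔ zpowers g0 = ⊤
    · apply hGns
      rw [hLtop] at hLsol
      exact Group.isSolvable_of_surjective (f := (topEquiv (G := G)).toMonoidHom) (topEquiv (G := G)).surjective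
    · have := stepA _ hLtop hAL
      exact hg0 (this (le_sup_right (a := N) (mem_zpowers g0)))
  · -- Case 2: `M` not normal
    have hNM : normalizer (M : Set G) ≤ M := by
      apply stepA
      · intro h
        exact hMn (normalizer_eq_top_iff.mp h)
      · exact hAM.trans le_normalizer
    -- key: for `g ∉ M`, `M ⊓ gMg⁻¹ ≤ Z(G)`
    have key : ∀ g : G, g ∉ M → ∀ z : G, z ∈ M → g⁻¹ * z * g ∈ M → z ∈ center G := by
      intro g hg z hzM hzg
      -- some conjugate `g a g⁻¹` is not in `M`
      have hex : ∃ a ∈ A, g * a * g⁻¹ ∉ M := by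
        by_contra hcon
        push Not at hcon
        -- then `A ≤ g M g⁻¹`
        have hAconj : A ≤ MulAut.conj g • M := by
          intro a ha
          rw [mem_pointwise_smul_iff_inv_smul_mem, MulAut.smul_def, MulAut.conj_inv_apply, hMmem]
          intro b hb
          have h1 := (hMmem _).mp (hcon b hb) a ha
          calc b * (g⁻¹ * a * g) = g⁻¹ * ((g * b * g⁻¹) * a) * g := by group
            _ = g⁻¹ * (a * (g * b * g⁻¹)) * g := by rw [h1]
            _ = g⁻¹ * a * g * b := by group
        have hcard : Nat.card ↥(MulAut.conj g • M) = Nat.card M :=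
          Nat.card_congr (Subgroup.equivSMul (MulAut.conj g) M).toEquiv.symm
        have hne : MulAut.conj g • M ≠ ⊤ := by
          intro h
          have h1 : Nat.card M = Nat.card G := by rw [← hcard, h, card_top]
          exact hMtop (eq_top_of_card_eq M h1)
        have hle : MulAut.conj g • M ≤ M := stepA _ hne hAconj
        have heq : MulAut.conj g • M = M := eq_of_le_of_card_ge hle (by rw [hcard])
        have hgn : g ∈ normalizer (M : Set G) := by
          rw [mem_normalizer_iff]
          intro h
          constructor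
          · intro hh
            rw [← heq]
            exact smul_mem_pointwise_smul h (MulAut.conj g) M hh
          · intro hh
            rw [← heq, mem_pointwise_smul_iff_inv_smul_mem, MulAut.smul_def, MulAut.conj_inv_apply] at hh
            have e : g⁻¹ * (g * h * g⁻¹) * g = h := by group
            rwa [e] at hh
        exact hg (hNM hgn)
      obtain ⟨a1, ha1, ha1M⟩ := hex
      set L : Subgroup G := A ⊔ MulAut.conj g • A with hL
      have hLtop : L = ⊤ := by
        by_contra hne
        have hLM := stepA L hne le_sup_left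
        apply ha1M
        apply hLM
        apply le_sup_right (a := A)
        exact smul_mem_pointwise_smul a1 (MulAut.conj g) A ha1
      have hcz : L ≤ centralizer ({z} : Set G) := by
        apply sup_le
        · intro a ha
          rw [mem_centralizer_singleton_iff]
          exact ((hMmem z).mp hzM a ha)
        · intro c hc
          rw [mem_pointwise_smul_iff_inv_smul_mem, MulAut.smul_def, MulAut.conj_inv_apply] at hc
          rw [mem_centralizer_singleton_iff]
          have h1 := (hMmem _).mp hzg _ hc
          -- h1 : (g⁻¹ c g) * (g⁻¹ z g) = (g⁻¹ z g) * (g⁻¹ c g)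
          calc c * z = g * ((g⁻¹ * c * g) * (g⁻¹ * z * g)) * g⁻¹ := by group
            _ = g * ((g⁻¹ * z * g) * (g⁻¹ * c * g)) * g⁻¹ := by rw [h1]
            _ = z * c := by group
      rw [mem_center_iff]
      intro x
      have hx : x ∈ centralizer ({z} : Set G) := hcz (hLtop ▸ mem_top x)
      rw [mem_centralizer_singleton_iff] at hx
      exact hx
    -- the Frobenius quotient
    set Z : Subgroup G := center G with hZ
    have hZM : Z ≤ M := by
      intro z hz
      rw [hMmem]
      intro a ha
      exact ((mem_center_iff.mp hz) a)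
    set π := QuotientGroup.mk' Z with hπ
    have hπ1 : ∀ x : G, π x = 1 ↔ x ∈ Z := fun x => by
      rw [hπ, QuotientGroup.mk'_apply, QuotientGroup.eq_one_iff]
    have hπs : Function.Surjective π := QuotientGroup.mk'_surjective Z
    set Hq : Subgroup (G ⧸ Z) := M.map π with hHq
    have hmem : ∀ x : G, π x ∈ Hq ↔ x ∈ M := by
      intro x
      constructor
      · rintro ⟨m, hm, hmx⟩
        have h1 : π (m⁻¹ * x) = 1 := by rw [map_mul, map_inv, hmx, inv_mul_cancel]
        have h2 : m⁻¹ * x ∈ M := hZM ((hπ1 _).mp h1)
        have : x = m * (m⁻¹ * x) := by group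
        rw [this]; exact M.mul_mem hm h2
      · intro hx; exact ⟨x, hx, rfl⟩
    have ha0Z : a0 ∉ Z := by
      intro h
      exact hne0 (((mem_center_iff.mp h) g0).symm)
    have hF : IsFrobeniusComplement Hq := by
      refine ⟨?_, ?_, ?_⟩
      · intro e
        have h1 : π a0 ∈ Hq := (hmem a0).mpr (hAM ha0)
        rw [e, mem_bot, hπ1] at h1
        exact ha0Z h1
      · intro e
        apply hMtop
        rw [eq_top_iff]
        intro x _
        rw [← hmem x, e]
        exact mem_top _
      · intro q hq
        obtain ⟨g, rfl⟩ := hπs q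
        have hgM : g ∉ M := fun h => hq ((hmem g).mpr h)
        rw [eq_bot_iff]
        intro x hx
        obtain ⟨hx1, hx2⟩ := mem_inf.mp hx
        obtain ⟨m, rfl⟩ := hπs x
        have hmM : m ∈ M := (hmem m).mp hx1
        rw [mem_pointwise_smul_iff_inv_smul_mem, MulAut.smul_def, MulAut.conj_inv_apply] at hx2
        have hx3 : π (g⁻¹ * m * g) ∈ Hq := by
          simpa [map_mul, map_inv] using hx2
        have hmg : g⁻¹ * m * g ∈ M := (hmem _).mp hx3
        have := key g hgM m hmM hmg
        rw [mem_bot, hπ1]
        exact this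
    haveI : Finite (G ⧸ Z) := inferInstance
    obtain ⟨K, hK, hKn, hKc⟩ := Cfsg.Agent.S0035.result Hq hF
    have hKnil : Group.IsNilpotent K := Cfsg.Agent.Helper1.FrobGroup.nilpotent hF hK
    have hKne : K ≠ ⊥ := Cfsg.Agent.Helper1.FrobGroup.kernel_ne_bot hF hK
    set Abar : Subgroup (G ⧸ Z) := A.map π with hAbar
    have hAbar_ab : ∀ a ∈ Abar, ∀ b ∈ Abar, a * b = b * a := by
      rintro _ ⟨a, ha, rfl⟩ _ ⟨b, hb, rfl⟩
      rw [← map_mul, ← map_mul, hAab a ha b hb]
    haveI : Group.IsSolvable K := inferInstance
    have hTsol : Group.IsSolvable ↥(K ⊔ Abar) :=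
      Cfsg.Agent.Helper14.isSolvable_sup_of_comm_of_le_normalizer K Abar hAbar_ab
        (by
          have : normalizer (K : Set (G ⧸ Z)) = ⊤ := normalizer_eq_top_iff.mpr hKn
          rw [this]; exact le_top)
    set S : Subgroup G := (K ⊔ Abar).comap π with hS
    have hSsol : Group.IsSolvable S := isSolvable_comap_center (K ⊔ Abar) hTsol
    have hAS : A ≤ S := by
      intro a ha
      rw [hS, mem_comap]
      exact le_sup_right (a := K) (mem_map_of_mem π ha)
    obtain ⟨kq, hkq, hkq1⟩ : ∃ k ∈ K, k ≠ 1 := by
      by_contra hcon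
      push Not at hcon
      exact hKne (eq_bot_iff.mpr (fun x hx => mem_bot.mpr (hcon x hx)))
    obtain ⟨k, rfl⟩ := hπs kq
    have hkS : k ∈ S := by
      rw [hS, mem_comap]
      exact le_sup_left (b := Abar) hkq
    have hcomm := hyp S hAS hSsol a0 ha0 k hkS
    have hcomm' : π a0 * π k = π k * π a0 := by rw [← map_mul, ← map_mul, hcomm]
    have ha0K : π a0 ∉ K := by
      intro h
      have := Cfsg.Agent.Helper1.FrobGroup.disjoint hK h ((hmem a0).mpr (hAM ha0))
      exact ha0Z ((hπ1 a0).mp this)
    haveI := hKn
    exact hkq1 (Cfsg.Agent.Helper1.FrobGroup.kernel_fpf hF hK ha0K hkq hcomm')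

theorem main {G : Type u} [Group G] [Finite G] (A : Subgroup G) (hA : Group.IsSolvable A)
    (hc : ∀ S : Subgroup G, A ≤ S → Group.IsSolvable S → ∀ a ∈ A, ∀ s ∈ S, a * s = s * a) :
    A ≤ center G :=
  aux (Nat.card G) G rfl A hA hc

end Cfsg.Agent.Helper25.SolvCentral
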