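import Mathlib

set_option autoImplicit false
set_option linter.unusedSectionVars false
set_option linter.unusedVariables false

/-! Steinberg's relations (A), (B') of rank one in an arbitrary group, over a field `F`. -/

namespace Cfsg.Agent.Helper25.St2

/-- Steinberg data: two "root subgroups" `x`, `y` parametrized by `F` with relation (B'). -/
structure St (F : Type*) [Field F] (Y : Type*) [Group Y] where
  x : F → Y
  y : F → Y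
  x_add : ∀ s t, x (s + t) = x s * x t
  y_add : ∀ s t, y (s + t) = y s * y t
  rel : ∀ t, t ≠ 0 → ∀ u,
    (x t * y (-t⁻¹) * x t) * x u * (x t * y (-t⁻¹) * x t)⁻¹ = y (-(t⁻¹) ^ 2 * u)

variable {F : Type*} [Field F] {Y : Type*} [Group Y] (S : St F Y)

namespace St

def w (t : F) : Y := S.x t * S.y (-t⁻¹) * S.x t

def h (t : F) : Y := S.w t * (S.w 1)⁻¹

lemma x_zero : S.x 0 = 1 := by
  have := S.x_add 0 0
  rw [add_zero] at this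
  exact (mul_eq_left.mp this.symm)

lemma y_zero : S.y 0 = 1 := by
  have := S.y_add 0 0
  rw [add_zero] at this
  exact (mul_eq_left.mp this.symm)

lemma x_neg (t : F) : S.x (-t) = (S.x t)⁻¹ := by
  have := S.x_add t (-t)
  rw [add_neg_cancel, S.x_zero] at this
  exact eq_inv_of_mul_eq_one_right this.symm

lemma y_neg (t : F) : S.y (-t) = (S.y t)⁻¹ := by
  have := S.y_add t (-t)
  rw [add_neg_cancel, S.y_zero] at this
  exact eq_inv_of_mul_eq_one_right this.symm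

lemma x_sub (s t : F) : S.x (s - t) = S.x s * (S.x t)⁻¹ := by
  rw [sub_eq_add_neg, S.x_add, S.x_neg]

lemma x_comm (s t : F) : S.x s * S.x t = S.x t * S.x s := by
  rw [← S.x_add, ← S.x_add, add_comm]

lemma y_comm (s t : F) : S.y s * S.y t = S.y t * S.y s := by
  rw [← S.y_add, ← S.y_add, add_comm]

lemma w_neg (t : F) : S.w (-t) = (S.w t)⁻¹ := by
  unfold w
  rw [inv_neg, neg_neg, S.x_neg, mul_inv_rev, mul_inv_rev, S.y_neg, inv_inv, mul_assoc]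

lemma relx {t : F} (ht : t ≠ 0) (u : F) :
    S.w t * S.x u * (S.w t)⁻¹ = S.y (-(t⁻¹) ^ 2 * u) := S.rel t ht u

lemma rely {t : F} (ht : t ≠ 0) (u : F) :
    S.w t * S.y u * (S.w t)⁻¹ = S.x (-t ^ 2 * u) := by
  have h1 := S.relx (neg_ne_zero.mpr ht) (-t ^ 2 * u)
  rw [S.w_neg, inv_inv] at h1
  have e : -((-t)⁻¹) ^ 2 * (-t ^ 2 * u) = u := by
    field_simp
  rw [e] at h1
  rw [← h1]; group

lemma w_braid {t : F} (ht : t ≠ 0) : S.w t = S.y (-t⁻¹) * S.x t * S.y (-t⁻¹) := by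
  have e1 := S.relx ht t
  have e2 := S.rely ht (-t⁻¹)
  have f1 : -(t⁻¹) ^ 2 * t = -t⁻¹ := by field_simp
  have f2 : -t ^ 2 * (-t⁻¹) = t := by field_simp
  rw [f1] at e1
  rw [f2] at e2
  calc S.w t = S.w t * (S.x t * S.y (-t⁻¹) * S.x t) * (S.w t)⁻¹ := by
        change S.w t = S.w t * S.w t * (S.w t)⁻¹
        group
    _ = (S.w t * S.x t * (S.w t)⁻¹) * (S.w t * S.y (-t⁻¹) * (S.w t)⁻¹) *
          (S.w t * S.x t * (S.w t)⁻¹) := by group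
    _ = S.y (-t⁻¹) * S.x t * S.y (-t⁻¹) := by rw [e1, e2]

lemma w_conj {t u : F} (ht : t ≠ 0) (hu : u ≠ 0) :
    S.w t * S.w u * (S.w t)⁻¹ = S.w (t ^ 2 * u⁻¹) := by
  have hv : t ^ 2 * u⁻¹ ≠ 0 := mul_ne_zero (pow_ne_zero 2 ht) (inv_ne_zero hu)
  have e1 := S.relx ht u
  have e2 := S.rely ht (-u⁻¹)
  have f1 : -(t⁻¹) ^ 2 * u = -(t ^ 2 * u⁻¹)⁻¹ := by field_simp
  have f2 : -t ^ 2 * (-u⁻¹) = t ^ 2 * u⁻¹ := by ring
  rw [f1] at e1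
  rw [f2] at e2
  calc S.w t * S.w u * (S.w t)⁻¹
      = S.w t * (S.x u * S.y (-u⁻¹) * S.x u) * (S.w t)⁻¹ := rfl
    _ = (S.w t * S.x u * (S.w t)⁻¹) * (S.w t * S.y (-u⁻¹) * (S.w t)⁻¹) *
          (S.w t * S.x u * (S.w t)⁻¹) := by group
    _ = S.y (-(t ^ 2 * u⁻¹)⁻¹) * S.x (t ^ 2 * u⁻¹) * S.y (-(t ^ 2 * u⁻¹)⁻¹) := by rw [e1, e2]
    _ = S.w (t ^ 2 * u⁻¹) := (S.w_braid hv).symm

lemma h_one : S.h 1 = 1 := by
  unfold h; group

lemma w_eq_h (t : F) : S.w t = S.h t * S.w 1 := by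
  unfold h; group

lemma h_x {t : F} (ht : t ≠ 0) (u : F) : S.h t * S.x u * (S.h t)⁻¹ = S.x (t ^ 2 * u) := by
  have e1 := S.relx (neg_ne_zero.mpr one_ne_zero) u
  rw [S.w_neg, inv_inv] at e1
  have f1 : -((-1 : F)⁻¹) ^ 2 * u = -u := by
    rw [inv_neg, inv_one]; ring
  rw [f1] at e1
  have e2 := S.rely ht (-u)
  have f2 : -t ^ 2 * (-u) = t ^ 2 * u := by ring
  rw [f2] at e2
  calc S.h t * S.x u * (S.h t)⁻¹
      = S.w t * ((S.w 1)⁻¹ * S.x u * S.w 1) * (S.w t)⁻¹ := by unfold h; group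
    _ = S.x (t ^ 2 * u) := by rw [e1, e2]

lemma h_y {t : F} (ht : t ≠ 0) (u : F) : S.h t * S.y u * (S.h t)⁻¹ = S.y ((t⁻¹) ^ 2 * u) := by
  have e1 := S.rely (neg_ne_zero.mpr one_ne_zero) u
  rw [S.w_neg, inv_inv] at e1
  have f1 : -(-1 : F) ^ 2 * u = -u := by ring
  rw [f1] at e1
  have e2 := S.relx ht (-u)
  have f2 : -(t⁻¹) ^ 2 * (-u) = (t⁻¹) ^ 2 * u := by ring
  rw [f2] at e2
  calc S.h t * S.y u * (S.h t)⁻¹
      = S.w t * ((S.w 1)⁻¹ * S.y u * S.w 1) * (S.w t)⁻¹ := by unfold h; group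
    _ = S.y ((t⁻¹) ^ 2 * u) := by rw [e1, e2]

lemma h_w {t u : F} (ht : t ≠ 0) (hu : u ≠ 0) :
    S.h t * S.w u * (S.h t)⁻¹ = S.w (t ^ 2 * u) := by
  have e1 := S.h_x ht u
  have e2 := S.h_y ht (-u⁻¹)
  have f2 : (t⁻¹) ^ 2 * (-u⁻¹) = -(t ^ 2 * u)⁻¹ := by field_simp
  rw [f2] at e2
  calc S.h t * S.w u * (S.h t)⁻¹
      = S.h t * (S.x u * S.y (-u⁻¹) * S.x u) * (S.h t)⁻¹ := rfl
    _ = (S.h t * S.x u * (S.h t)⁻¹) * (S.h t * S.y (-u⁻¹) * (S.h t)⁻¹) *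
          (S.h t * S.x u * (S.h t)⁻¹) := by group
    _ = S.w (t ^ 2 * u) := by rw [e1, e2]; rfl

lemma h_h {t u : F} (ht : t ≠ 0) (hu : u ≠ 0) :
    S.h t * S.h u * (S.h t)⁻¹ = S.h (t ^ 2 * u) * (S.h (t ^ 2))⁻¹ := by
  have e1 := S.h_w ht hu
  have e2 := S.h_w ht (one_ne_zero)
  rw [mul_one] at e2
  calc S.h t * S.h u * (S.h t)⁻¹
      = (S.h t * S.w u * (S.h t)⁻¹) * (S.h t * S.w 1 * (S.h t)⁻¹)⁻¹ := by
        conv_lhs => rw [show S.h u = S.w u * (S.w 1)⁻¹ from rfl]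
        group
    _ = S.w (t ^ 2 * u) * (S.w (t ^ 2))⁻¹ := by rw [e1, e2]
    _ = S.h (t ^ 2 * u) * (S.h (t ^ 2))⁻¹ := by unfold h; group

/-- `x r = y r⁻¹ · w r · y r⁻¹` -/
lemma x_eq {r : F} (hr : r ≠ 0) : S.x r = S.y r⁻¹ * S.w r * S.y r⁻¹ := by
  rw [S.w_braid hr, S.y_neg]; group

/-- `y s = x s⁻¹ · w (-s⁻¹) · x s⁻¹` -/
lemma y_eq {s : F} (hs : s ≠ 0) : S.y s = S.x s⁻¹ * S.w (-s⁻¹) * S.x s⁻¹ := by
  have : S.w (-s⁻¹) = S.x (-s⁻¹) * S.y s * S.x (-s⁻¹) := by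
    unfold w
    rw [inv_neg, inv_inv, neg_neg]
  rw [this, S.x_neg]; group

end St

end Cfsg.Agent.Helper25.St2
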