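import Cfsg.Agent.Helper25.St2A

set_option autoImplicit false
set_option linter.unusedSectionVars false
set_option linter.unusedVariables false

/-! The relation (C) `h(tu) = h(t)h(u)` follows from (A), (B') over a prime field. -/

namespace Cfsg.Agent.Helper25.St2

variable {F : Type*} [Field F] {Y : Type*} [Group Y] (S : St F Y)

namespace St

/-- elements commuting with all root elements -/
def CZ : Subgroup Y := Subgroup.centralizer (Set.range S.x ∪ Set.range S.y)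

lemma mem_CZ {z : Y} :
    z ∈ S.CZ ↔ (∀ v, S.x v * z = z * S.x v) ∧ (∀ v, S.y v * z = z * S.y v) := by
  unfold CZ
  rw [Subgroup.mem_centralizer_iff]
  constructor
  · intro h
    exact ⟨fun v => h _ (Or.inl ⟨v, rfl⟩), fun v => h _ (Or.inr ⟨v, rfl⟩)⟩
  · rintro ⟨h1, h2⟩ g (⟨v, rfl⟩ | ⟨v, rfl⟩)
    · exact h1 v
    · exact h2 v

lemma CZ_comm_w {z : Y} (hz : z ∈ S.CZ) (t : F) : Commute (S.w t) z := by
  obtain ⟨h1, h2⟩ := S.mem_CZ.1 hz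
  have cx : ∀ v, Commute (S.x v) z := h1
  have cy : ∀ v, Commute (S.y v) z := h2
  exact ((cx t).mul_left (cy _)).mul_left (cx t)

lemma CZ_comm_h {z : Y} (hz : z ∈ S.CZ) (t : F) : Commute (S.h t) z :=
  (S.CZ_comm_w hz t).mul_left (S.CZ_comm_w hz 1).inv_left

def ActX (g : Y) (α : F) : Prop := ∀ v, g * S.x v * g⁻¹ = S.x (α * v)
def ActY (g : Y) (α : F) : Prop := ∀ v, g * S.y v * g⁻¹ = S.y (α * v)

lemma actX_mul {g g' : Y} {α α' : F} (h : S.ActX g α) (h' : S.ActX g' α') :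
    S.ActX (g * g') (α * α') := by
  intro v
  calc g * g' * S.x v * (g * g')⁻¹ = g * (g' * S.x v * g'⁻¹) * g⁻¹ := by group
    _ = S.x (α * α' * v) := by rw [h' v, h (α' * v), mul_assoc]

lemma actY_mul {g g' : Y} {α α' : F} (h : S.ActY g α) (h' : S.ActY g' α') :
    S.ActY (g * g') (α * α') := by
  intro v
  calc g * g' * S.y v * (g * g')⁻¹ = g * (g' * S.y v * g'⁻¹) * g⁻¹ := by group
    _ = S.y (α * α' * v) := by rw [h' v, h (α' * v), mul_assoc]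

lemma actX_inv {g : Y} {α : F} (hα : α ≠ 0) (h : S.ActX g α) : S.ActX g⁻¹ α⁻¹ := by
  intro v
  have := h (α⁻¹ * v)
  rw [mul_inv_cancel_left₀ hα] at this
  rw [← this]; group

lemma actY_inv {g : Y} {α : F} (hα : α ≠ 0) (h : S.ActY g α) : S.ActY g⁻¹ α⁻¹ := by
  intro v
  have := h (α⁻¹ * v)
  rw [mul_inv_cancel_left₀ hα] at this
  rw [← this]; group

lemma mem_CZ_of_act {g : Y} (h1 : S.ActX g 1) (h2 : S.ActY g 1) : g ∈ S.CZ := by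
  rw [S.mem_CZ]
  constructor
  · intro v
    have := h1 v
    rw [one_mul] at this
    calc S.x v * g = (g * S.x v * g⁻¹) * g := by rw [this]
      _ = g * S.x v := by group
  · intro v
    have := h2 v
    rw [one_mul] at this
    calc S.y v * g = (g * S.y v * g⁻¹) * g := by rw [this]
      _ = g * S.y v := by group

/-- the Steinberg cocycle -/
def f (t u : F) : Y := S.h t * S.h u * (S.h (t * u))⁻¹

lemma f_mem_CZ {t u : F} (ht : t ≠ 0) (hu : u ≠ 0) : S.f t u ∈ S.CZ := by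
  have htu : t * u ≠ 0 := mul_ne_zero ht hu
  apply S.mem_CZ_of_act
  · have := S.actX_mul (S.actX_mul (fun v => S.h_x ht v) (fun v => S.h_x hu v))
      (S.actX_inv (pow_ne_zero 2 htu) (fun v => S.h_x htu v))
    have e : t ^ 2 * u ^ 2 * ((t * u) ^ 2)⁻¹ = 1 := by field_simp
    rw [e] at this
    exact this
  · have := S.actY_mul (S.actY_mul (fun v => S.h_y ht v) (fun v => S.h_y hu v))
      (S.actY_inv (pow_ne_zero 2 (inv_ne_zero htu)) (fun v => S.h_y htu v))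
    have e : (t⁻¹) ^ 2 * (u⁻¹) ^ 2 * (((t * u)⁻¹) ^ 2)⁻¹ = 1 := by field_simp
    rw [e] at this
    exact this

lemma h_mul_eq (t u : F) : S.h (t * u) = (S.f t u)⁻¹ * S.h t * S.h u := by
  unfold f; group

/-- Gauss decomposition computed in two ways -/
lemma gauss {r s : F} (hr : r ≠ 0) (hs : s ≠ 0) (h1 : 1 + r * s ≠ 0) :
    S.w (r + s⁻¹) * S.w (-s⁻¹) = S.w r * S.w (-(r⁻¹ + s)⁻¹) := by
  have hq : r + s⁻¹ ≠ 0 := by
    have : r + s⁻¹ = (1 + r * s) / s := by field_simp; ring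
    rw [this]; exact div_ne_zero h1 hs
  have hm : r⁻¹ + s ≠ 0 := by
    have : r⁻¹ + s = (1 + r * s) / r := by field_simp
    rw [this]; exact div_ne_zero h1 hr
  have hsi : s⁻¹ ≠ 0 := inv_ne_zero hs
  -- first path
  have P1 : S.x r * S.y s = S.y (r + s⁻¹)⁻¹ * (S.w (r + s⁻¹) * S.w (-s⁻¹)) *
      S.x (-(s⁻¹) ^ 2 * (r + s⁻¹)⁻¹ + s⁻¹) := by
    have e1 := S.rely hsi (r + s⁻¹)⁻¹
    calc S.x r * S.y s = S.x r * (S.x s⁻¹ * S.w (-s⁻¹) * S.x s⁻¹) := by rw [← S.y_eq hs]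
      _ = S.x (r + s⁻¹) * S.w (-s⁻¹) * S.x s⁻¹ := by rw [S.x_add]; group
      _ = (S.y (r + s⁻¹)⁻¹ * S.w (r + s⁻¹) * S.y (r + s⁻¹)⁻¹) * S.w (-s⁻¹) * S.x s⁻¹ := by
          rw [← S.x_eq hq]
      _ = S.y (r + s⁻¹)⁻¹ * (S.w (r + s⁻¹) * S.w (-s⁻¹)) *
            ((S.w s⁻¹) * S.y (r + s⁻¹)⁻¹ * (S.w s⁻¹)⁻¹) * S.x s⁻¹ := by
          rw [S.w_neg]; group
      _ = S.y (r + s⁻¹)⁻¹ * (S.w (r + s⁻¹) * S.w (-s⁻¹)) *
            S.x (-(s⁻¹) ^ 2 * (r + s⁻¹)⁻¹ + s⁻¹) := by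
          rw [e1, S.x_add]; group
  have P2 : S.x r * S.y s = S.y (r⁻¹ + -(r⁻¹) ^ 2 * (r⁻¹ + s)⁻¹) *
      (S.w r * S.w (-(r⁻¹ + s)⁻¹)) * S.x (r⁻¹ + s)⁻¹ := by
    have e1 := S.relx hr (r⁻¹ + s)⁻¹
    calc S.x r * S.y s = (S.y r⁻¹ * S.w r * S.y r⁻¹) * S.y s := by rw [← S.x_eq hr]
      _ = S.y r⁻¹ * S.w r * S.y (r⁻¹ + s) := by rw [S.y_add]; group
      _ = S.y r⁻¹ * S.w r * (S.x (r⁻¹ + s)⁻¹ * S.w (-(r⁻¹ + s)⁻¹) * S.x (r⁻¹ + s)⁻¹) := by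
          rw [← S.y_eq hm]
      _ = S.y r⁻¹ * (S.w r * S.x (r⁻¹ + s)⁻¹ * (S.w r)⁻¹) *
            (S.w r * S.w (-(r⁻¹ + s)⁻¹)) * S.x (r⁻¹ + s)⁻¹ := by group
      _ = S.y (r⁻¹ + -(r⁻¹) ^ 2 * (r⁻¹ + s)⁻¹) *
            (S.w r * S.w (-(r⁻¹ + s)⁻¹)) * S.x (r⁻¹ + s)⁻¹ := by
          rw [e1, S.y_add]
  have h1' : r * s + 1 ≠ 0 := by rwa [add_comm]
  have a1 : (r⁻¹ + s)⁻¹ = r / (r * s + 1) := by
    rw [show r⁻¹ + s = (r * s + 1) / r by field_simp; ring, inv_div]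
  have a2 : (r + s⁻¹)⁻¹ = s / (r * s + 1) := by
    rw [show r + s⁻¹ = (r * s + 1) / s by field_simp, inv_div]
  have h3 : 1 + s * r ≠ 0 := by rw [mul_comm]; exact h1
  have h4 : s * r + 1 ≠ 0 := by rw [mul_comm]; exact h1'
  have f1 : r⁻¹ + -(r⁻¹) ^ 2 * (r⁻¹ + s)⁻¹ = (r + s⁻¹)⁻¹ := by
    rw [a1, a2]; field_simp; ring
  have f2 : -(s⁻¹) ^ 2 * (r + s⁻¹)⁻¹ + s⁻¹ = (r⁻¹ + s)⁻¹ := by
    rw [a1, a2]; field_simp; ring
  rw [f1] at P2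
  rw [f2] at P1
  have := P1.symm.trans P2
  exact mul_left_cancel (mul_right_cancel this)

lemma w_mul_w_neg (a b : F) : S.w a * S.w (-b) = S.h a * (S.h b)⁻¹ := by
  rw [S.w_neg]; unfold h; group

lemma gauss_h {r s : F} (hr : r ≠ 0) (hs : s ≠ 0) (h1 : 1 + r * s ≠ 0) :
    S.h (r + s⁻¹) * (S.h s⁻¹)⁻¹ = S.h r * (S.h (r⁻¹ + s)⁻¹)⁻¹ := by
  rw [← S.w_mul_w_neg, ← S.w_mul_w_neg]
  exact S.gauss hr hs h1

/-- Steinberg's relation `f(t,u) = f(t,(1-t⁻¹)u)` -/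
lemma f_shift {t u : F} (ht : t ≠ 0) (ht1 : t ≠ 1) (hu : u ≠ 0) :
    S.f t u = S.f t ((1 - t⁻¹) * u) := by
  have ht1' : t - 1 ≠ 0 := sub_ne_zero.mpr ht1
  have hr : (t - 1) * u ≠ 0 := mul_ne_zero ht1' hu
  have hs : u⁻¹ ≠ 0 := inv_ne_zero hu
  have h1 : 1 + (t - 1) * u * u⁻¹ ≠ 0 := by
    rw [mul_assoc, mul_inv_cancel₀ hu, mul_one]
    simpa using ht
  have g := S.gauss_h hr hs h1
  have e1 : (t - 1) * u + (u⁻¹)⁻¹ = t * u := by rw [inv_inv]; ring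
  have e2 : (((t - 1) * u)⁻¹ + u⁻¹)⁻¹ = (1 - t⁻¹) * u := by
    have e0 : ((t - 1) * u)⁻¹ + u⁻¹ = t / ((t - 1) * u) := by
      field_simp; ring
    rw [e0, inv_div]
    field_simp
  have e3 : (t - 1) * u = t * ((1 - t⁻¹) * u) := by field_simp
  rw [e1, e2, inv_inv, e3] at g
  calc S.f t u = S.h t * (S.h (t * u) * (S.h u)⁻¹)⁻¹ := by unfold f; group
    _ = S.h t * (S.h (t * ((1 - t⁻¹) * u)) * (S.h ((1 - t⁻¹) * u))⁻¹)⁻¹ := by rw [g]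
    _ = S.f t ((1 - t⁻¹) * u) := by unfold f; group

end St

end Cfsg.Agent.Helper25.St2
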