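import Cfsg.Agent.Helper25.St2B

set_option autoImplicit false
set_option linter.unusedSectionVars false
set_option linter.unusedVariables false

/-! Relation (C) over the prime field `ZMod p`. -/

namespace Cfsg.Agent.Helper25.St2

variable {p : ℕ} [Fact p.Prime] {Y : Type*} [Group Y] (S : St (ZMod p) Y)

namespace St

lemma exists_gen : ∃ g : (ZMod p)ˣ, ∀ v : (ZMod p)ˣ, ∃ m : ℕ, g ^ m = v := by
  obtain ⟨g, hg⟩ := IsCyclic.exists_monoid_generator (α := (ZMod p)ˣ)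
  exact ⟨g, fun v => (Submonoid.mem_powers_iff _ _).mp (hg v)⟩

lemma h_pow_gen (g : (ZMod p)ˣ) (m : ℕ) :
    ∃ z ∈ S.CZ, S.h ((g ^ m : (ZMod p)ˣ) : ZMod p) = z * (S.h (g : ZMod p)) ^ m := by
  induction m with
  | zero => exact ⟨1, S.CZ.one_mem, by simp [S.h_one]⟩
  | succ m ih =>
    obtain ⟨z, hz, he⟩ := ih
    have hne1 : ((g ^ m : (ZMod p)ˣ) : ZMod p) ≠ 0 := Units.ne_zero _
    have hne2 : (g : ZMod p) ≠ 0 := Units.ne_zero _
    refine ⟨(S.f ((g ^ m : (ZMod p)ˣ) : ZMod p) (g : ZMod p))⁻¹ * z,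
      S.CZ.mul_mem (S.CZ.inv_mem (S.f_mem_CZ hne1 hne2)) hz, ?_⟩
    rw [pow_succ, Units.val_mul, S.h_mul_eq, he, pow_succ]
    group

lemma h_comm {t u : ZMod p} (ht : t ≠ 0) (hu : u ≠ 0) : S.h t * S.h u = S.h u * S.h t := by
  obtain ⟨g, hg⟩ := exists_gen (p := p)
  have key : ∀ v : ZMod p, v ≠ 0 → Commute (S.h v) (S.h (g : ZMod p)) := by
    intro v hv
    obtain ⟨m, hm⟩ := hg (Units.mk0 v hv)
    obtain ⟨z, hz, he⟩ := S.h_pow_gen g m
    rw [hm, Units.val_mk0] at he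
    rw [he]
    exact ((S.CZ_comm_h hz _).symm).mul_left (Commute.pow_left (Commute.refl _) m)
  obtain ⟨m, hm⟩ := hg (Units.mk0 u hu)
  obtain ⟨z, hz, he⟩ := S.h_pow_gen g m
  rw [hm, Units.val_mk0] at he
  have : Commute (S.h t) (S.h u) := by
    rw [he]
    exact (S.CZ_comm_h hz t).mul_right ((key t ht).pow_right m)
  exact this

lemma h_sq_mul {t u : ZMod p} (ht : t ≠ 0) (hu : u ≠ 0) :
    S.h (t ^ 2 * u) = S.h (t ^ 2) * S.h u := by
  have e := S.h_h ht hu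
  have c := S.h_comm ht hu
  have e2 : S.h t * S.h u * (S.h t)⁻¹ = S.h u := by rw [c]; group
  rw [e2] at e
  have h2 : t ^ 2 ≠ 0 := pow_ne_zero 2 ht
  rw [S.h_comm h2 hu]
  calc S.h (t ^ 2 * u) = (S.h (t ^ 2 * u) * (S.h (t ^ 2))⁻¹) * S.h (t ^ 2) := by group
    _ = S.h u * S.h (t ^ 2) := by rw [← e]

lemma f_sq_left {t u : ZMod p} (ht : t ≠ 0) (hu : u ≠ 0) : S.f (t ^ 2) u = 1 := by
  unfold f
  rw [S.h_sq_mul ht hu]; group

lemma f_sq_right {t u : ZMod p} (ht : t ≠ 0) (hu : u ≠ 0) : S.f u (t ^ 2) = 1 := by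
  unfold f
  rw [mul_comm u, S.h_sq_mul ht hu, S.h_comm hu (pow_ne_zero 2 ht)]; group

lemma f_of_isSquare_left {t u : ZMod p} (ht : t ≠ 0) (hu : u ≠ 0) (hsq : IsSquare t) :
    S.f t u = 1 := by
  obtain ⟨r, rfl⟩ := hsq
  have hr : r ≠ 0 := by
    rintro rfl; simp at ht
  rw [← sq]; exact S.f_sq_left hr hu

lemma f_of_isSquare_right {t u : ZMod p} (ht : t ≠ 0) (hu : u ≠ 0) (hsq : IsSquare u) :
    S.f t u = 1 := by
  obtain ⟨r, rfl⟩ := hsq
  have hr : r ≠ 0 := by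
    rintro rfl; simp at hu
  rw [← sq]; exact S.f_sq_right hr ht

/-- the product of two nonsquares is a square -/
lemma isSquare_mul_of_not {a b : ZMod p} (ha : a ≠ 0) (hb : b ≠ 0) (hna : ¬ IsSquare a)
    (hnb : ¬ IsSquare b) : IsSquare (a * b) := by
  rw [ZMod.euler_criterion p (mul_ne_zero ha hb), mul_pow]
  have h1 : a ^ (p / 2) = -1 := by
    rcases ZMod.pow_div_two_eq_neg_one_or_one p ha with h | h
    · exact absurd ((ZMod.euler_criterion p ha).2 h) hna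
    · exact h
  have h2 : b ^ (p / 2) = -1 := by
    rcases ZMod.pow_div_two_eq_neg_one_or_one p hb with h | h
    · exact absurd ((ZMod.euler_criterion p hb).2 h) hnb
    · exact h
  rw [h1, h2]; ring

/-- `1` is a sum of two nonsquares as soon as a nonsquare exists -/
lemma exists_nonsquare_pair {g₀ : ZMod p} (hg0 : g₀ ≠ 0) (hg : ¬ IsSquare g₀) :
    ∃ n₁ n₂ : ZMod p, n₁ ≠ 0 ∧ n₂ ≠ 0 ∧ ¬ IsSquare n₁ ∧ ¬ IsSquare n₂ ∧ n₁ + n₂ = 1 := by
  obtain ⟨a, b, hab⟩ := ZMod.sq_add_sq p g₀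
  have ha : a ≠ 0 := by
    rintro rfl
    apply hg
    rw [← hab]; simp [sq]
  have hb : b ≠ 0 := by
    rintro rfl
    apply hg
    rw [← hab]; simp [sq]
  have hns : ∀ c : ZMod p, c ≠ 0 → ¬ IsSquare (c ^ 2 / g₀) := by
    intro c hc ⟨d, hd⟩
    have hd0 : d ≠ 0 := by
      rintro rfl
      rw [mul_zero, div_eq_zero_iff] at hd
      rcases hd with h | h
      · exact hc (pow_eq_zero_iff (two_ne_zero) |>.mp h)
      · exact hg0 h
    apply hg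
    have h3 : c ^ 2 = d * d * g₀ := by rw [← hd]; field_simp
    refine ⟨c / d, ?_⟩
    rw [div_mul_div_comm, eq_div_iff (mul_ne_zero hd0 hd0)]
    have h4 : c * c = d * d * g₀ := by rw [← sq]; exact h3
    rw [h4]; ring
  refine ⟨a ^ 2 / g₀, b ^ 2 / g₀, div_ne_zero (pow_ne_zero 2 ha) hg0,
    div_ne_zero (pow_ne_zero 2 hb) hg0, hns a ha, hns b hb, ?_⟩
  rw [← add_div, hab, div_self hg0]

/-- sliding a square across the cocycle -/
lemma f_slide {t s u : ZMod p} (ht : t ≠ 0) (hs : s ≠ 0) (hu : u ≠ 0) :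
    S.f (t * s ^ 2) u = S.f t (s ^ 2 * u) := by
  have hs2 : s ^ 2 ≠ 0 := pow_ne_zero 2 hs
  have e1 : S.h (t * s ^ 2) = S.h t * S.h (s ^ 2) := by
    rw [mul_comm t, S.h_sq_mul hs ht, S.h_comm hs2 ht]
  have e2 : S.h (s ^ 2 * u) = S.h (s ^ 2) * S.h u := S.h_sq_mul hs hu
  unfold f
  rw [e1, e2, mul_assoc t]
  group

theorem f_eq_one {t u : ZMod p} (ht : t ≠ 0) (hu : u ≠ 0) : S.f t u = 1 := by
  by_cases hst : IsSquare t
  · exact S.f_of_isSquare_left ht hu hst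
  by_cases hsu : IsSquare u
  · exact S.f_of_isSquare_right ht hu hsu
  obtain ⟨n₁, n₂, h1, h2, hn1, hn2, hsum⟩ := exists_nonsquare_pair ht hst
  -- t₀ = n₁⁻¹
  have ht0 : n₁⁻¹ ≠ 0 := inv_ne_zero h1
  have ht01 : n₁⁻¹ ≠ 1 := by
    intro h
    have : n₁ = 1 := by rw [← inv_inv n₁, h, inv_one]
    rw [this] at hsum
    apply h2
    have := add_left_cancel (a := (1 : ZMod p)) (b := n₂) (c := 0) (by rw [hsum, add_zero])
    exact this
  have hn0 : ¬ IsSquare n₁⁻¹ := by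
    rintro ⟨d, hd⟩
    apply hn1
    refine ⟨d⁻¹, ?_⟩
    rw [← mul_inv, ← hd, inv_inv]
  -- t * n₁ is a square
  obtain ⟨s, hs⟩ := isSquare_mul_of_not ht h1 hst hn1
  have hs0 : s ≠ 0 := by
    rintro rfl
    rw [mul_zero] at hs
    exact (mul_ne_zero ht h1) hs
  have htt : t = n₁⁻¹ * s ^ 2 := by
    rw [sq, ← hs]; field_simp
  rw [htt, S.f_slide ht0 hs0 hu]
  have hu' : s ^ 2 * u ≠ 0 := mul_ne_zero (pow_ne_zero 2 hs0) hu
  have hnu' : ¬ IsSquare (s ^ 2 * u) := by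
    rintro ⟨d, hd⟩
    apply hsu
    refine ⟨d / s, ?_⟩
    rw [div_mul_div_comm, ← hd, sq]; field_simp
  rw [S.f_shift ht0 ht01 hu']
  have e : (1 - (n₁⁻¹)⁻¹) = n₂ := by
    rw [inv_inv, ← hsum]; ring
  rw [e]
  exact S.f_of_isSquare_right ht0 (mul_ne_zero h2 hu') (isSquare_mul_of_not h2 hu' hn2 hnu')

/-- relation (C) -/
theorem h_mul {t u : ZMod p} (ht : t ≠ 0) (hu : u ≠ 0) : S.h (t * u) = S.h t * S.h u := by
  rw [S.h_mul_eq, S.f_eq_one ht hu]; group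

end St

end Cfsg.Agent.Helper25.St2
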