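import Cfsg.Agent.Helper25.St2C
import Cfsg.Agent.Helper25.SL2RankOne

set_option autoImplicit false
set_option linter.unusedSectionVars false
set_option linter.unusedVariables false

/-! The homomorphism `SL₂(ZMod p) → Y` attached to Steinberg data. -/

namespace Cfsg.Agent.Helper25.St2

open Cfsg.Agent.Helper25

variable {p : ℕ} [Fact p.Prime] {Y : Type*} [Group Y] (S : St (ZMod p) Y)

local notation "SL2p" => Matrix.SpecialLinearGroup (Fin 2) (ZMod p)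

namespace St

lemma h_inv {u : ZMod p} (hu : u ≠ 0) : S.h u⁻¹ = (S.h u)⁻¹ := by
  have := S.h_mul hu (inv_ne_zero hu)
  rw [mul_inv_cancel₀ hu, S.h_one] at this
  exact eq_inv_of_mul_eq_one_right this.symm

lemma w1_conj_h {u : ZMod p} (hu : u ≠ 0) : S.w 1 * S.h u * (S.w 1)⁻¹ = (S.h u)⁻¹ := by
  have e := S.w_conj (one_ne_zero) hu
  rw [one_pow, one_mul] at e
  calc S.w 1 * S.h u * (S.w 1)⁻¹ = (S.w 1 * S.w u * (S.w 1)⁻¹) * (S.w 1)⁻¹ := by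
        unfold h; group
    _ = S.w u⁻¹ * (S.w 1)⁻¹ := by rw [e]
    _ = S.h u⁻¹ := rfl
    _ = (S.h u)⁻¹ := S.h_inv hu

lemma h_neg_one : S.h (-1) = (S.w 1)⁻¹ * (S.w 1)⁻¹ := by
  unfold h; rw [S.w_neg]

lemma w1_pow_four : S.w 1 * S.w 1 * S.w 1 * S.w 1 = 1 := by
  have h1 : (-1 : ZMod p) ≠ 0 := neg_ne_zero.2 one_ne_zero
  have := S.h_mul h1 h1
  rw [neg_mul_neg, one_mul, S.h_one, S.h_neg_one] at this
  have h2 : S.w 1 * S.w 1 * S.w 1 * S.w 1 *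
      ((S.w 1)⁻¹ * (S.w 1)⁻¹ * ((S.w 1)⁻¹ * (S.w 1)⁻¹)) = 1 := by simp [mul_assoc]
  rw [← this, mul_one] at h2
  exact h2

lemma w_mul_w_mul_w1 {t u : ZMod p} (ht : t ≠ 0) (hu : u ≠ 0) :
    S.w t * S.w u * S.w 1 = S.w (-t / u) := by
  have e1 := S.w1_conj_h hu
  have e4 := S.w1_pow_four
  have h1 : (-1 : ZMod p) ≠ 0 := neg_ne_zero.2 one_ne_zero
  have e5 : S.h (-t / u) = S.h t * (S.h u)⁻¹ * ((S.w 1)⁻¹ * (S.w 1)⁻¹) := by
    rw [show -t / u = t * u⁻¹ * (-1) by field_simp,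
      S.h_mul (mul_ne_zero ht (inv_ne_zero hu)) h1, S.h_mul ht (inv_ne_zero hu), S.h_inv hu,
      S.h_neg_one]
  calc S.w t * S.w u * S.w 1
      = S.h t * (S.w 1 * S.h u * (S.w 1)⁻¹) * (S.w 1 * S.w 1 * S.w 1 * S.w 1) * (S.w 1)⁻¹ := by
        rw [S.w_eq_h t, S.w_eq_h u]; group
    _ = S.h t * (S.h u)⁻¹ * (S.w 1)⁻¹ := by rw [e1, e4, mul_one]
    _ = S.w (-t / u) := by rw [S.w_eq_h (-t / u), e5]; group

lemma h_eq_inv_w {s : ZMod p} (hs : s ≠ 0) : S.h s = (S.w s)⁻¹ * S.w 1 := by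
  have e1 := S.w1_conj_h hs
  symm
  calc (S.w s)⁻¹ * S.w 1 = (S.w 1)⁻¹ * (S.h s)⁻¹ * S.w 1 := by rw [S.w_eq_h s]; group
    _ = (S.w 1)⁻¹ * (S.w 1 * S.h s * (S.w 1)⁻¹) * S.w 1 := by rw [e1]
    _ = S.h s := by group

/-- the map on Bruhat normal forms -/
def psi (g : SL2p) : Y :=
  if g 1 0 = 0 then S.x (g 0 0 * g 0 1) * S.h (g 0 0)
  else S.x (g 0 0 / g 1 0) * S.w (-(g 1 0)⁻¹) * S.x (g 1 1 / g 1 0)

/-- the Weyl element -/
def W1 : SL2p := ⟨!![0, 1; -1, 0], by simp [Matrix.det_fin_two]⟩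

@[simp] lemma W1_00 : (W1 : SL2p) 0 0 = 0 := rfl
@[simp] lemma W1_01 : (W1 : SL2p) 0 1 = 1 := rfl
@[simp] lemma W1_10 : (W1 : SL2p) 1 0 = -1 := rfl
@[simp] lemma W1_11 : (W1 : SL2p) 1 1 = 0 := rfl

lemma psi_one : S.psi 1 = 1 := by
  unfold psi
  simp [S.x_zero, S.h_one]

lemma psi_upper (t : ZMod p) : S.psi (sl2Upper t) = S.x t := by
  unfold psi
  simp [S.h_one]

lemma psi_W1 : S.psi W1 = S.w 1 := by
  unfold psi
  simp [S.x_zero]

lemma psi_mul_upper (g : SL2p) (t : ZMod p) : S.psi (g * sl2Upper t) = S.psi g * S.x t := by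
  have e00 : (g * sl2Upper t) 0 0 = g 0 0 := by rw [sl2_mul_apply]; simp
  have e01 : (g * sl2Upper t) 0 1 = g 0 0 * t + g 0 1 := by rw [sl2_mul_apply]; simp
  have e10 : (g * sl2Upper t) 1 0 = g 1 0 := by rw [sl2_mul_apply]; simp
  have e11 : (g * sl2Upper t) 1 1 = g 1 0 * t + g 1 1 := by rw [sl2_mul_apply]; simp
  have hd := sl2_det g
  unfold psi
  rw [e00, e01, e10, e11]
  by_cases hc : g 1 0 = 0
  · rw [if_pos hc, if_pos hc]
    have ha : g 0 0 ≠ 0 := by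
      intro h; rw [hc, h] at hd; simp at hd
    have hx := S.h_x ha t
    calc S.x (g 0 0 * (g 0 0 * t + g 0 1)) * S.h (g 0 0)
        = S.x (g 0 0 * g 0 1) * S.x ((g 0 0) ^ 2 * t) * S.h (g 0 0) := by
          rw [← S.x_add]; congr 2; ring
      _ = S.x (g 0 0 * g 0 1) * (S.h (g 0 0) * S.x t * (S.h (g 0 0))⁻¹) * S.h (g 0 0) := by
          rw [hx]
      _ = S.x (g 0 0 * g 0 1) * S.h (g 0 0) * S.x t := by group
  · rw [if_neg hc, if_neg hc]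
    rw [show (g 1 0 * t + g 1 1) / g 1 0 = g 1 1 / g 1 0 + t by field_simp; ring, S.x_add]
    group

lemma psi_mul_W1 (g : SL2p) : S.psi (g * W1) = S.psi g * S.w 1 := by
  have e00 : (g * W1 : SL2p) 0 0 = -g 0 1 := by rw [sl2_mul_apply]; simp
  have e01 : (g * W1 : SL2p) 0 1 = g 0 0 := by rw [sl2_mul_apply]; simp
  have e10 : (g * W1 : SL2p) 1 0 = -g 1 1 := by rw [sl2_mul_apply]; simp
  have e11 : (g * W1 : SL2p) 1 1 = g 1 0 := by rw [sl2_mul_apply]; simp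
  have hd := sl2_det g
  unfold psi
  rw [e00, e01, e10, e11]
  by_cases hc : g 1 0 = 0
  · have hdd : g 1 1 ≠ 0 := by
      intro h; rw [hc, h] at hd; simp at hd
    have ha : g 0 0 ≠ 0 := by
      intro h; rw [hc, h] at hd; simp at hd
    have had : g 0 0 * g 1 1 = 1 := by rw [hc] at hd; simpa using hd
    rw [if_pos hc, if_neg (neg_ne_zero.mpr hdd), hc]
    have f1 : -g 0 1 / -g 1 1 = g 0 0 * g 0 1 := by
      field_simp
      linear_combination (-(g 0 1)) * had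
    have f2 : -(-g 1 1)⁻¹ = g 0 0 := by
      rw [inv_neg, neg_neg]
      exact (eq_inv_of_mul_eq_one_left had).symm
    rw [f1, f2, zero_div, S.x_zero, mul_one, S.w_eq_h (g 0 0)]
    group
  · by_cases hdd : g 1 1 = 0
    · have hbc : g 0 1 * g 1 0 = -1 := by rw [hdd] at hd; linear_combination (-1 : ZMod p) * hd
      have hb : -g 0 1 = (g 1 0)⁻¹ := by
        field_simp
        linear_combination (-1 : ZMod p) * hbc
      rw [if_pos (by rw [hdd, neg_zero]), if_neg hc, hdd, zero_div, S.x_zero, mul_one, hb]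
      have hci : (g 1 0)⁻¹ ≠ 0 := inv_ne_zero hc
      rw [S.h_eq_inv_w hci, S.w_neg, mul_comm (g 1 0)⁻¹, div_eq_mul_inv]
      group
    · rw [if_neg (neg_ne_zero.mpr hdd), if_neg hc]
      have hs : g 1 1 / g 1 0 ≠ 0 := div_ne_zero hdd hc
      have hci : -(g 1 0)⁻¹ ≠ 0 := neg_ne_zero.mpr (inv_ne_zero hc)
      -- x(s) w(1) = y(s⁻¹) w(s) w(1) x(-s⁻¹)
      have k1 : S.x (g 1 1 / g 1 0) * S.w 1 =
          S.y (g 1 1 / g 1 0)⁻¹ * S.w (g 1 1 / g 1 0) * S.w 1 * S.x (-(g 1 1 / g 1 0)⁻¹) := by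
        have r1 := S.rely (neg_ne_zero.mpr (one_ne_zero (α := ZMod p))) (g 1 1 / g 1 0)⁻¹
        rw [S.w_neg, inv_inv] at r1
        have : -(-1 : ZMod p) ^ 2 * (g 1 1 / g 1 0)⁻¹ = -(g 1 1 / g 1 0)⁻¹ := by ring
        rw [this] at r1
        rw [← r1]
        conv_lhs => rw [S.x_eq hs]
        group
      have k2 := S.rely hci (g 1 1 / g 1 0)⁻¹
      have k3 := S.w_mul_w_mul_w1 hci hs
      have f3 : -(-(g 1 0)⁻¹) / (g 1 1 / g 1 0) = (g 1 1)⁻¹ := by field_simp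
      rw [f3] at k3
      have f4 : g 0 0 / g 1 0 + -(-(g 1 0)⁻¹) ^ 2 * (g 1 1 / g 1 0)⁻¹ = -g 0 1 / -g 1 1 := by
        field_simp
        linear_combination hd
      have f5 : -(g 1 1 / g 1 0)⁻¹ = g 1 0 / -g 1 1 := by field_simp
      have f6 : -(-g 1 1)⁻¹ = (g 1 1)⁻¹ := by rw [inv_neg, neg_neg]
      rw [← f4, ← f5, f6, ← k3, S.x_add, ← k2]
      calc S.x (g 0 0 / g 1 0) *
            (S.w (-(g 1 0)⁻¹) * S.y (g 1 1 / g 1 0)⁻¹ * (S.w (-(g 1 0)⁻¹))⁻¹) *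
            (S.w (-(g 1 0)⁻¹) * S.w (g 1 1 / g 1 0) * S.w 1) * S.x (-(g 1 1 / g 1 0)⁻¹)
          = S.x (g 0 0 / g 1 0) * S.w (-(g 1 0)⁻¹) *
            (S.y (g 1 1 / g 1 0)⁻¹ * S.w (g 1 1 / g 1 0) * S.w 1 * S.x (-(g 1 1 / g 1 0)⁻¹)) := by
            group
        _ = S.x (g 0 0 / g 1 0) * S.w (-(g 1 0)⁻¹) * S.x (g 1 1 / g 1 0) * S.w 1 := by
            rw [← k1]; group

end St

end Cfsg.Agent.Helper25.St2
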