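import Mathlib
import Cfsg.Agent.Helper25.StabChain

set_option autoImplicit false

namespace Cfsg.Agent.Helper25

variable {P : Type*} [Group P]

namespace StabilizesChain

variable {N : ℕ → Subgroup P} {α β : MulAut P}

/-- Version of `map_mem` with an invariant bottom term. -/
theorem map_mem' (hN : Monotone N) (h : StabilizesChain N α) (h0 : ∀ x ∈ N 0, α x ∈ N 0) :
    ∀ i, ∀ x ∈ N i, α x ∈ N i := by
  intro i x hx
  cases i with
  | zero => exact h0 x hx
  | succ i =>
    have h1 := h i x hx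
    have h2 := (N (i + 1)).mul_mem (hN (Nat.le_succ i) h1) hx
    rwa [inv_mul_cancel_right] at h2

theorem mul' (hN : Monotone N) (hα : StabilizesChain N α)
    (hβ : StabilizesChain N β) (hβ0 : ∀ x ∈ N 0, β x ∈ N 0) : StabilizesChain N (α * β) := by
  intro i x hx
  have hβx : β x ∈ N (i + 1) := hβ.map_mem' hN hβ0 _ x hx
  have h1 := hα i (β x) hβx
  have h2 := hβ i x hx
  have h3 := (N i).mul_mem h1 h2
  have e : α (β x) * (β x)⁻¹ * (β x * x⁻¹) = (α * β) x * x⁻¹ := by
    rw [MulAut.mul_apply]; group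
  rwa [e] at h3

theorem pow' (hN : Monotone N) (hα : StabilizesChain N α) (hα0 : ∀ x ∈ N 0, α x ∈ N 0) (k : ℕ) :
    StabilizesChain N (α ^ k) ∧ ∀ x ∈ N 0, (α ^ k) x ∈ N 0 := by
  induction k with
  | zero =>
    rw [pow_zero]
    exact ⟨one N, fun x hx => hx⟩
  | succ k ih =>
    rw [pow_succ]
    refine ⟨ih.1.mul' hN hα hα0, fun x hx => ?_⟩
    rw [MulAut.mul_apply]
    exact ih.2 _ (hα0 x hx)

end StabilizesChain

/-- The weak stabilizer of a chain (the bottom term is only required to be invariant), for a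
finite group. -/
def weakChainStabilizer [Finite P] (N : ℕ → Subgroup P) (hN : Monotone N) : Subgroup (MulAut P) where
  carrier := {α | StabilizesChain N α ∧ ∀ x ∈ N 0, α x ∈ N 0}
  one_mem' := ⟨StabilizesChain.one N, fun x hx => hx⟩
  mul_mem' := by
    rintro α β ⟨hα, hα0⟩ ⟨hβ, hβ0⟩
    exact ⟨hα.mul' hN hβ hβ0, fun x hx => hα0 _ (hβ0 x hx)⟩
  inv_mem' := by
    rintro α ⟨hα, hα0⟩
    have hpos : 0 < orderOf α := orderOf_pos α
    have e : α⁻¹ = α ^ (orderOf α - 1) := by
      apply inv_eq_of_mul_eq_one_right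
      rw [← pow_succ', Nat.sub_add_cancel hpos, pow_orderOf_eq_one]
    rw [e]
    exact StabilizesChain.pow' hN hα hα0 _

theorem mem_weakChainStabilizer [Finite P] (N : ℕ → Subgroup P) (hN : Monotone N) (α : MulAut P) :
    α ∈ weakChainStabilizer N hN ↔ StabilizesChain N α ∧ ∀ x ∈ N 0, α x ∈ N 0 := Iff.rfl

/-- An element of the weak stabilizer a `p`-power of which fixes the bottom term pointwise has
`p`-power order. -/
theorem exists_pow_eq_one_of_weak [Finite P] {p : ℕ} [Fact p.Prime] (hP : IsPGroup p P)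
    (N : ℕ → Subgroup P) (hN : Monotone N) {m : ℕ} (hm : N m = ⊤) {α : MulAut P}
    (hα : StabilizesChain N α) (hα0 : ∀ x ∈ N 0, α x ∈ N 0) {a : ℕ}
    (hfix : ∀ x ∈ N 0, (α ^ (p ^ a)) x = x) : ∃ k : ℕ, α ^ (p ^ k) = 1 := by
  -- the shifted chain starting from `⊥`
  let N' : ℕ → Subgroup P := fun i => match i with
    | 0 => ⊥
    | (i + 1) => N i
  have hN'0 : N' 0 = ⊥ := rfl
  have hN'mono : Monotone N' := by
    apply monotone_nat_of_le_succ
    intro i
    cases i with
    | zero => exact bot_le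
    | succ i => exact hN (Nat.le_succ i)
  have hN'top : N' (m + 1) = ⊤ := hm
  have hβ : StabilizesChain N' (α ^ (p ^ a)) := by
    intro i x hx
    cases i with
    | zero =>
      show (α ^ (p ^ a)) x * x⁻¹ ∈ (⊥ : Subgroup P)
      rw [Subgroup.mem_bot, hfix x hx, mul_inv_cancel]
    | succ i =>
      exact (StabilizesChain.pow' hN hα hα0 (p ^ a)).1 i x hx
  obtain ⟨b, hb⟩ := StabilizesChain.pow_eq_one (N := N') (m := m + 1) hP hN'0 hN'mono hN'top hβ
  refine ⟨a + b, ?_⟩
  rw [pow_add, pow_mul]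
  exact hb

end Cfsg.Agent.Helper25
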