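import Cfsg.Agent.Helper27.Syl21Basic

/-!
# S4346: a minimal counterexample to "no group has exactly 22 Sylow 3-subgroups"

Part A: the conjugation action on the 22 Sylow subgroups is faithful, a subgroup containing all
Sylow 3-subgroups is everything, homomorphisms to abelian `3'`-groups are trivial.
-/

set_option autoImplicit false
open Subgroup MulAction MonoidHom
open Cfsg.Agent.Helper27.Syl21

namespace Cfsg.Agent.Helper25.Syl22

universe u v

variable {G : Type u} [Group G] [Finite G]

/-- The induction hypothesis: no smaller group (in the same universe) has 22 Sylow 3-subgroups. -/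
def MinCE (G : Type u) [Group G] [Finite G] : Prop :=
  Nat.card (Sylow 3 G) = 22 ∧
  ∀ (H : Type u) [Group H] [Finite H], Nat.card H < Nat.card G → Nat.card (Sylow 3 H) ≠ 22

theorem faithful (hG : MinCE G) (g : G) (hg : ∀ Q : Sylow 3 G, g • Q = Q) : g = 1 := by
  let K : Subgroup G := (MulAction.toPermHom G (Sylow 3 G)).ker
  have hK : ∀ P : Sylow 3 G, K ≤ normalizer (P : Set G) := by
    intro P k hk
    rw [← Sylow.smul_eq_iff_mem_normalizer]
    have : MulAction.toPermHom G (Sylow 3 G) k = 1 := hk
    have := congrArg (fun f : Equiv.Perm (Sylow 3 G) => f P) this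
    simpa using this
  have hcard := card_sylow_quotient_of_le_normalizer K hK
  rw [hG.1] at hcard
  have hgK : g ∈ K := by
    show MulAction.toPermHom G (Sylow 3 G) g = 1
    apply Equiv.ext
    intro Q
    exact hg Q
  by_contra hne
  have hlt : Nat.card (G ⧸ K) < Nat.card G := by
    have h1 := Subgroup.card_mul_index K
    rw [Subgroup.index_eq_card] at h1
    have hK1 : 1 < Nat.card K := by
      rw [Finite.one_lt_card_iff_nontrivial]
      exact ⟨⟨⟨g, hgK⟩, 1, fun h => hne (congrArg Subtype.val h)⟩⟩
    have hpos : 0 < Nat.card (G ⧸ K) := Nat.card_pos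
    nlinarith
  exact hG.2 (G ⧸ K) hlt hcard

/-- A subgroup containing all Sylow 3-subgroups is the whole group. -/
theorem eq_top_of_forall_le (hG : MinCE G) (M : Subgroup G)
    (hle : ∀ P : Sylow 3 G, (P : Subgroup G) ≤ M) : M = ⊤ := by
  have hcard := card_sylow_subgroup_of_forall_le M hle
  rw [hG.1] at hcard
  by_contra hne'
  have hlt : Nat.card M < Nat.card G := by
    have h1 := Subgroup.card_mul_index M
    have h2 : M.index ≠ 1 := fun h => hne' (Subgroup.index_eq_one.mp h)
    have h3 : M.index ≠ 0 := Subgroup.index_ne_zero_of_finite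
    have h4 : 0 < Nat.card M := Nat.card_pos
    have h5 : 2 ≤ M.index := by omega
    nlinarith
  exact hG.2 M hlt hcard

theorem hom_trivial (hG : MinCE G) {A : Type v} [CommGroup A] [Finite A]
    (hA : (Nat.card A).Coprime 3) (ψ : G →* A) (g : G) : ψ g = 1 := by
  have hle : ∀ P : Sylow 3 G, (P : Subgroup G) ≤ ψ.ker := by
    intro P x hx
    rw [MonoidHom.mem_ker]
    obtain ⟨k, hk⟩ := (P.2 ⟨x, hx⟩)
    have hk' : x ^ 3 ^ k = 1 := by simpa using congrArg Subtype.val hk
    have h1 : orderOf (ψ x) ∣ 3 ^ k := by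
      apply orderOf_dvd_of_pow_eq_one
      rw [← map_pow, hk', map_one]
    have h2 : orderOf (ψ x) ∣ Nat.card A := orderOf_dvd_natCard _
    have h3 : orderOf (ψ x) = 1 := by
      have h4 : (Nat.card A).Coprime (3 ^ k) := Nat.Coprime.pow_right k hA
      exact Nat.eq_one_of_dvd_coprimes h4 h2 h1
    exact orderOf_eq_one_iff.mp h3
  have htop := eq_top_of_forall_le hG ψ.ker hle
  have : g ∈ ψ.ker := htop ▸ Subgroup.mem_top g
  exact this

theorem exists_ne_sylow (h22 : Nat.card (Sylow 3 G) = 22) (P : Sylow 3 G) :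
    ∃ Q : Sylow 3 G, P ≠ Q := by
  by_contra h
  have h' : ∀ Q : Sylow 3 G, P = Q := fun Q => by
    by_contra hh
    exact h ⟨Q, hh⟩
  have : Subsingleton (Sylow 3 G) := ⟨fun a b => (h' a).symm.trans (h' b)⟩
  have h1 : Nat.card (Sylow 3 G) ≤ 1 := Finite.card_le_one_iff_subsingleton.mpr this
  omega

theorem card_sylow_eq (S T : Sylow 3 G) : Nat.card (S : Subgroup G) = Nat.card (T : Subgroup G) := by
  rw [Sylow.card_eq_multiplicity, Sylow.card_eq_multiplicity]

end Cfsg.Agent.Helper25.Syl22
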