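import Cfsg.Agent.Helper25.Syl22A

/-!
# S4346, part B: adjacency of Sylow 3-subgroups and lines

Two distinct Sylow 3-subgroups `S`, `T` (out of 22) are *adjacent* if `S ⊓ T` has index 3 in `S`.
The *line* of a subgroup `D` is the set of Sylow 3-subgroups containing `D`.
-/

set_option autoImplicit false
set_option linter.unusedSectionVars false
set_option linter.style.haveILetI false
open Subgroup MulAction MonoidHom
open scoped Pointwise

namespace Cfsg.Agent.Helper25.Syl22

universe u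

variable {G : Type u} [Group G] [Finite G]

/-- orbit–stabilizer for a Sylow subgroup `P` acting on a Sylow subgroup `Q`. -/
theorem card_orbit_mul_card_inf (P Q : Sylow 3 G) :
    Nat.card (orbit (P : Subgroup G) Q) * Nat.card ((P : Subgroup G) ⊓ Q : Subgroup G)
      = Nat.card (P : Subgroup G) := by
  have hstab : stabilizer (P : Subgroup G) Q = ((P : Subgroup G) ⊓ Q).subgroupOf P := by
    ext ⟨x, hx⟩
    rw [mem_stabilizer_iff, mem_subgroupOf]
    show x • Q = Q ↔ x ∈ (P : Subgroup G) ⊓ Q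
    rw [Sylow.smul_eq_iff_mem_normalizer, ← P.2.inf_normalizer_sylow Q, mem_inf]
    exact ⟨fun h => ⟨hx, h⟩, fun h => h.2⟩
  have h1 : Nat.card (orbit (P : Subgroup G) Q) * Nat.card (stabilizer (P : Subgroup G) Q)
      = Nat.card (P : Subgroup G) := by
    rw [← Nat.card_prod]
    exact (Nat.card_congr (orbitProdStabilizerEquivGroup (P : Subgroup G) Q))
  have h2 : Nat.card (stabilizer (P : Subgroup G) Q)
      = Nat.card ((P : Subgroup G) ⊓ Q : Subgroup G) := by
    rw [hstab]
    exact Nat.card_congr (Subgroup.subgroupOfEquivOfLe inf_le_left).toEquiv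
  rw [h2] at h1
  exact h1

/-- With 22 Sylow 3-subgroups, two distinct ones meet in a subgroup of index 3 or 9. -/
theorem card_eq_three_or_nine (h22 : Nat.card (Sylow 3 G) = 22) (P Q : Sylow 3 G) (hPQ : P ≠ Q) :
    Nat.card (P : Subgroup G) = 3 * Nat.card ((P : Subgroup G) ⊓ Q : Subgroup G) ∨
    Nat.card (P : Subgroup G) = 9 * Nat.card ((P : Subgroup G) ⊓ Q : Subgroup G) := by
  have h1 := card_orbit_mul_card_inf P Q
  obtain ⟨k, hk⟩ := P.2.exists_card_eq
  have hdvd : Nat.card (orbit (P : Subgroup G) Q) ∣ 3 ^ k := by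
    rw [← hk]; exact Dvd.intro _ h1
  obtain ⟨j, hj, hj'⟩ := (Nat.dvd_prime_pow (by norm_num : Nat.Prime 3)).mp hdvd
  have hle : Nat.card (orbit (P : Subgroup G) Q) ≤ 22 := by
    rw [← h22]
    exact Nat.card_le_card_of_injective _ Subtype.val_injective
  have hne1 : Nat.card (orbit (P : Subgroup G) Q) ≠ 1 := by
    intro h
    rw [h, one_mul] at h1
    have hle' : (P : Subgroup G) ≤ (P : Subgroup G) ⊓ Q := by
      have := Subgroup.eq_of_le_of_card_ge (inf_le_left : (P : Subgroup G) ⊓ Q ≤ P)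
        (le_of_eq h1.symm)
      rw [this]
    have hPQ' : (P : Subgroup G) ≤ Q := hle'.trans inf_le_right
    exact hPQ (Sylow.ext (P.3 Q.2 hPQ')).symm
  rw [hj'] at h1 hle hne1
  rcases j with _ | _ | _ | j
  · simp at hne1
  · left; rw [← h1]; norm_num
  · right; rw [← h1]; norm_num
  · exfalso
    have : 3 ^ 3 ≤ 3 ^ (j + 1 + 1 + 1) := Nat.pow_le_pow_right (by norm_num) (by omega)
    omega

/-- Two Sylow 3-subgroups are adjacent if they are distinct and meet in a subgroup of index 3. -/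
def adj (S T : Sylow 3 G) : Prop :=
  S ≠ T ∧ Nat.card (S : Subgroup G) = 3 * Nat.card ((S : Subgroup G) ⊓ T : Subgroup G)

omit [Finite G] in
theorem adj_ne {S T : Sylow 3 G} (h : adj S T) : S ≠ T := h.1

theorem adj_symm {S T : Sylow 3 G} (h : adj S T) : adj T S := by
  refine ⟨h.1.symm, ?_⟩
  rw [card_sylow_eq T S, inf_comm]
  exact h.2

omit [Finite G] in
theorem not_adj_self (S : Sylow 3 G) : ¬ adj S S := fun h => h.1 rfl

theorem card_eq_nine_of_not_adj (h22 : Nat.card (Sylow 3 G) = 22) {P Q : Sylow 3 G} (hPQ : P ≠ Q)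
    (h : ¬ adj P Q) :
    Nat.card (P : Subgroup G) = 9 * Nat.card ((P : Subgroup G) ⊓ Q : Subgroup G) := by
  rcases card_eq_three_or_nine h22 P Q hPQ with h1 | h1
  · exact absurd ⟨hPQ, h1⟩ h
  · exact h1

/-- A subgroup of index 3 in `S` contained in `S ⊓ T`, `S ≠ T`, equals `S ⊓ T`. -/
theorem inf_eq_of_le (h22 : Nat.card (Sylow 3 G) = 22) {S T : Sylow 3 G} (hST : S ≠ T)
    {D : Subgroup G} (hD : D ≤ (S : Subgroup G) ⊓ T) (hcard : Nat.card (S : Subgroup G) = 3 * Nat.card D) :
    (S : Subgroup G) ⊓ T = D := by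
  symm
  apply Subgroup.eq_of_le_of_card_ge hD
  have hpos : 0 < Nat.card ((S : Subgroup G) ⊓ T : Subgroup G) := Nat.card_pos
  rcases card_eq_three_or_nine h22 S T hST with h1 | h1 <;> omega

/-- If `D` has index 3 in `S` and `D ≤ T` with `S ≠ T` then `S`, `T` are adjacent. -/
theorem adj_of_le (h22 : Nat.card (Sylow 3 G) = 22) {S T : Sylow 3 G} (hST : S ≠ T)
    {D : Subgroup G} (hDS : D ≤ (S : Subgroup G)) (hDT : D ≤ (T : Subgroup G))
    (hcard : Nat.card (S : Subgroup G) = 3 * Nat.card D) :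
    adj S T ∧ (S : Subgroup G) ⊓ T = D := by
  have h := inf_eq_of_le h22 hST (le_inf hDS hDT) hcard
  exact ⟨⟨hST, by rw [h]; exact hcard⟩, h⟩

/-- The intersection of two adjacent Sylow subgroups is normalised by each of them. -/
theorem inf_le_smul_of_adj {S T : Sylow 3 G} (h : adj S T) {x : G} (hx : x ∈ (S : Subgroup G))
    {R : Sylow 3 G} (hR : (S : Subgroup G) ⊓ T ≤ R) :
    (S : Subgroup G) ⊓ T ≤ ((x • R : Sylow 3 G) : Subgroup G) := by
  set H : Subgroup (S : Subgroup G) := ((S : Subgroup G) ⊓ T).subgroupOf S with hH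
  have hHcard : Nat.card H = Nat.card ((S : Subgroup G) ⊓ T : Subgroup G) :=
    Nat.card_congr (Subgroup.subgroupOfEquivOfLe inf_le_left).toEquiv
  have hidx : H.index = 3 := by
    have h1 := Subgroup.card_mul_index H
    rw [hHcard, h.2] at h1
    have hpos : 0 < Nat.card ((S : Subgroup G) ⊓ T : Subgroup G) := Nat.card_pos
    have : Nat.card ((S : Subgroup G) ⊓ T : Subgroup G) * H.index
        = Nat.card ((S : Subgroup G) ⊓ T : Subgroup G) * 3 := by rw [h1]; ring
    exact Nat.eq_of_mul_eq_mul_left hpos this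
  have hmin : (Nat.card (S : Subgroup G)).minFac = 3 := by
    obtain ⟨k, hk⟩ := S.2.exists_card_eq
    have hk0 : k ≠ 0 := by
      rintro rfl
      rw [pow_zero] at hk
      have hpos : 0 < Nat.card ((S : Subgroup G) ⊓ T : Subgroup G) := Nat.card_pos
      have := h.2
      omega
    rw [hk]
    exact Nat.Prime.pow_minFac (by norm_num) hk0
  have hnormal : H.Normal := Subgroup.normal_of_index_eq_minFac_card (by rw [hidx, hmin])
  intro d hd
  have hdS : d ∈ (S : Subgroup G) := hd.1
  have h1 : (⟨x, hx⟩ : (S : Subgroup G))⁻¹ * ⟨d, hdS⟩ * (⟨x, hx⟩ : (S : Subgroup G))⁻¹⁻¹ ∈ H :=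
    hnormal.conj_mem ⟨d, hdS⟩ (by rw [hH, mem_subgroupOf]; exact hd) _
  rw [hH, mem_subgroupOf] at h1
  have h2 : x⁻¹ * d * x ∈ (S : Subgroup G) ⊓ T := by
    simpa using h1
  rw [Sylow.coe_subgroup_smul, mem_pointwise_smul_iff_inv_smul_mem]
  have h3 : (MulAut.conj x)⁻¹ • d = x⁻¹ * d * x := by
    rw [MulAut.smul_def, MulAut.conj_inv_apply]
  rw [h3]
  exact hR h2

open Classical in
/-- the line through a subgroup: all Sylow 3-subgroups containing it -/
noncomputable def line (D : Subgroup G) : Finset (Sylow 3 G) :=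
  letI : Fintype (Sylow 3 G) := Fintype.ofFinite _
  Finset.univ.filter (fun Q => D ≤ (Q : Subgroup G))

theorem mem_line (D : Subgroup G) (Q : Sylow 3 G) : Q ∈ line D ↔ D ≤ (Q : Subgroup G) := by
  classical
  unfold line
  simp

theorem card_line_mod (h22 : Nat.card (Sylow 3 G) = 22) (D : Subgroup G) (hD : IsPGroup 3 D) :
    (line D).card % 3 = 1 := by
  classical
  have h1 := hD.card_modEq_card_fixedPoints (Sylow 3 G)
  rw [h22] at h1
  have h2 : fixedPoints D (Sylow 3 G) = {Q : Sylow 3 G | D ≤ Q} := by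
    ext Q
    exact hD.sylow_mem_fixedPoints_iff
  rw [h2] at h1
  have h3 : Nat.card {Q : Sylow 3 G | D ≤ Q} = (line D).card :=
    Nat.subtype_card (line D) (fun Q => mem_line D Q)
  rw [h3] at h1
  exact h1.symm

theorem card_line_le (h22 : Nat.card (Sylow 3 G) = 22) (D : Subgroup G) : (line D).card ≤ 22 := by
  letI : Fintype (Sylow 3 G) := Fintype.ofFinite _
  calc (line D).card ≤ Fintype.card (Sylow 3 G) := Finset.card_le_univ _
    _ = 22 := by rw [← Nat.card_eq_fintype_card, h22]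

/-- conjugation moves lines to lines -/
theorem mem_line_smul (D : Subgroup G) (g : G) (Q : Sylow 3 G) :
    g • Q ∈ line (MulAut.conj g • D) ↔ Q ∈ line D := by
  rw [mem_line, mem_line, Sylow.coe_subgroup_smul, pointwise_smul_le_pointwise_smul_iff]

theorem card_line_smul (D : Subgroup G) (g : G) :
    (line (MulAut.conj g • D)).card = (line D).card := by
  symm
  refine Finset.card_bij (fun Q _ => g • Q) ?_ ?_ ?_
  · intro Q hQ
    exact (mem_line_smul D g Q).mpr hQ
  · intro Q _ Q' _ h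
    exact (MulAction.injective g) h
  · intro Q hQ
    refine ⟨g⁻¹ • Q, ?_, ?_⟩
    · rw [← mem_line_smul D g, smul_inv_smul]; exact hQ
    · rw [smul_inv_smul]

omit [Finite G] in
theorem smul_inf_coe (g : G) (S T : Sylow 3 G) :
    (((g • S : Sylow 3 G) : Subgroup G) ⊓ ((g • T : Sylow 3 G) : Subgroup G))
      = MulAut.conj g • ((S : Subgroup G) ⊓ T) := by
  rw [Sylow.coe_subgroup_smul, Sylow.coe_subgroup_smul, Subgroup.smul_inf]

omit [Finite G] in
theorem card_conj_smul (g : G) (D : Subgroup G) :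
    Nat.card (MulAut.conj g • D : Subgroup G) = Nat.card D := by
  exact Nat.card_congr (Subgroup.equivSMul (MulAut.conj g) D).toEquiv.symm

theorem adj_smul_iff (g : G) (S T : Sylow 3 G) : adj (g • S) (g • T) ↔ adj S T := by
  unfold adj
  rw [smul_inf_coe, card_conj_smul, Sylow.coe_subgroup_smul, card_conj_smul]
  constructor
  · rintro ⟨h1, h2⟩
    exact ⟨fun h => h1 (by rw [h]), h2⟩
  · rintro ⟨h1, h2⟩
    exact ⟨fun h => h1 ((MulAction.injective g) h), h2⟩

end Cfsg.Agent.Helper25.Syl22
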