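import Cfsg.Agent.Helper25.Syl22B

/-!
# S4346, part C: counting neighbours by the size of the line through them
-/

set_option autoImplicit false
set_option linter.unusedSectionVars false
set_option linter.style.haveILetI false
open Subgroup MulAction MonoidHom
open scoped Pointwise

namespace Cfsg.Agent.Helper25.Syl22

universe u

/-- If all fibres of `f` on `A` have `k` elements then `k` divides the cardinality of `A`. -/
theorem dvd_card_of_fibers {α β : Type*} [DecidableEq β] (A : Finset α) (f : α → β) (k : ℕ)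
    (h : ∀ a ∈ A, (A.filter (fun b => f b = f a)).card = k) : k ∣ A.card := by
  rw [Finset.card_eq_sum_card_image f A]
  apply Finset.dvd_sum
  intro b hb
  obtain ⟨a, ha, rfl⟩ := Finset.mem_image.mp hb
  rw [h a ha]

variable {G : Type u} [Group G] [Finite G]

open Classical in
/-- neighbours `T` of `P` such that the line through `P` and `T` has `s` points -/
noncomputable def nbr (s : ℕ) (P : Sylow 3 G) : Finset (Sylow 3 G) :=
  letI : Fintype (Sylow 3 G) := Fintype.ofFinite _
  Finset.univ.filter (fun T => adj P T ∧ (line ((P : Subgroup G) ⊓ T)).card = s)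

open Classical in
/-- all neighbours of `P` -/
noncomputable def nbrs (P : Sylow 3 G) : Finset (Sylow 3 G) :=
  letI : Fintype (Sylow 3 G) := Fintype.ofFinite _
  Finset.univ.filter (fun T => adj P T)

open Classical in
/-- the Sylow subgroups different from `P` and not adjacent to it -/
noncomputable def far (P : Sylow 3 G) : Finset (Sylow 3 G) :=
  letI : Fintype (Sylow 3 G) := Fintype.ofFinite _
  Finset.univ.filter (fun T => T ≠ P ∧ ¬ adj P T)

theorem mem_nbr {s : ℕ} {P T : Sylow 3 G} :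
    T ∈ nbr s P ↔ adj P T ∧ (line ((P : Subgroup G) ⊓ T)).card = s := by
  classical
  unfold nbr
  simp

theorem mem_nbrs {P T : Sylow 3 G} : T ∈ nbrs P ↔ adj P T := by
  classical
  unfold nbrs
  simp

theorem mem_far {P T : Sylow 3 G} : T ∈ far P ↔ T ≠ P ∧ ¬ adj P T := by
  classical
  unfold far
  simp

theorem card_nbr_smul (g : G) (s : ℕ) (P : Sylow 3 G) :
    (nbr s (g • P)).card = (nbr s P).card := by
  symm
  refine Finset.card_bij (fun T _ => g • T) ?_ ?_ ?_
  · intro T hT
    rw [mem_nbr] at hT ⊢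
    refine ⟨(adj_smul_iff g P T).mpr hT.1, ?_⟩
    rw [smul_inf_coe, card_line_smul]
    exact hT.2
  · intro T _ T' _ h
    exact (MulAction.injective g) h
  · intro T hT
    refine ⟨g⁻¹ • T, ?_, smul_inv_smul g T⟩
    rw [mem_nbr] at hT ⊢
    have h1 : adj (g • P) (g • (g⁻¹ • T)) := by rw [smul_inv_smul]; exact hT.1
    refine ⟨(adj_smul_iff g P _).mp h1, ?_⟩
    have h2 := hT.2
    rw [← smul_inv_smul g T, smul_inf_coe, card_line_smul] at h2
    exact h2

theorem card_nbr_eq (s : ℕ) (P Q : Sylow 3 G) : (nbr s Q).card = (nbr s P).card := by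
  obtain ⟨g, rfl⟩ := MulAction.exists_smul_eq G P Q
  exact card_nbr_smul g s P

theorem card_nbrs_smul (g : G) (P : Sylow 3 G) : (nbrs (g • P)).card = (nbrs P).card := by
  symm
  refine Finset.card_bij (fun T _ => g • T) ?_ ?_ ?_
  · intro T hT
    rw [mem_nbrs] at hT ⊢
    exact (adj_smul_iff g P T).mpr hT
  · intro T _ T' _ h
    exact (MulAction.injective g) h
  · intro T hT
    refine ⟨g⁻¹ • T, ?_, smul_inv_smul g T⟩
    rw [mem_nbrs] at hT ⊢
    have h1 : adj (g • P) (g • (g⁻¹ • T)) := by rw [smul_inv_smul]; exact hT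
    exact (adj_smul_iff g P _).mp h1

theorem card_nbrs_eq (P Q : Sylow 3 G) : (nbrs Q).card = (nbrs P).card := by
  obtain ⟨g, rfl⟩ := MulAction.exists_smul_eq G P Q
  exact card_nbrs_smul g P

theorem nbr_subset_nbrs (s : ℕ) (P : Sylow 3 G) : nbr s P ⊆ nbrs P := by
  intro T hT
  rw [mem_nbr] at hT
  rw [mem_nbrs]
  exact hT.1

/-- the neighbours are sorted by the size of the line -/
theorem card_nbrs_eq_sum (h22 : Nat.card (Sylow 3 G) = 22) (P : Sylow 3 G) :
    (nbrs P).card = ∑ s ∈ Finset.range 23, (nbr s P).card := by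
  classical
  have h1 := Finset.card_eq_sum_card_fiberwise
    (f := fun T : Sylow 3 G => (line ((P : Subgroup G) ⊓ T)).card) (s := nbrs P)
    (t := Finset.range 23) (by
      intro T _
      simp only [Finset.coe_range, Set.mem_Iio]
      have := card_line_le h22 ((P : Subgroup G) ⊓ T)
      omega)
  rw [h1]
  refine Finset.sum_congr rfl (fun s _ => ?_)
  congr 1
  ext T
  rw [Finset.mem_filter, mem_nbrs, mem_nbr]

theorem two_le_card_line {S T : Sylow 3 G} (hST : S ≠ T) {D : Subgroup G}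
    (hS : D ≤ (S : Subgroup G)) (hT : D ≤ (T : Subgroup G)) : 2 ≤ (line D).card := by
  classical
  have : ({S, T} : Finset (Sylow 3 G)) ⊆ line D := by
    intro x hx
    rw [Finset.mem_insert, Finset.mem_singleton] at hx
    rw [mem_line]
    rcases hx with rfl | rfl
    · exact hS
    · exact hT
  have h3 := Finset.card_le_card this
  rwa [Finset.card_pair hST] at h3

theorem nbr_eq_empty (h22 : Nat.card (Sylow 3 G) = 22) (s : ℕ) (hs : s % 3 ≠ 1 ∨ s = 1)
    (P : Sylow 3 G) : (nbr s P).card = 0 := by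
  rw [Finset.card_eq_zero, Finset.eq_empty_iff_forall_notMem]
  intro T hT
  rw [mem_nbr] at hT
  have h1 := card_line_mod h22 ((P : Subgroup G) ⊓ T) (P.2.to_le inf_le_left)
  have h2 := two_le_card_line hT.1.1 (inf_le_left : (P : Subgroup G) ⊓ T ≤ P) inf_le_right
  rw [hT.2] at h1 h2
  omega

/-- `s - 1` divides the number of neighbours on lines of size `s` -/
theorem pred_dvd_card_nbr (h22 : Nat.card (Sylow 3 G) = 22) (s : ℕ) (P : Sylow 3 G) :
    (s - 1) ∣ (nbr s P).card := by
  classical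
  apply dvd_card_of_fibers (nbr s P) (fun T : Sylow 3 G => (P : Subgroup G) ⊓ T)
  intro T hT
  rw [mem_nbr] at hT
  have h1 : (nbr s P).filter (fun T' : Sylow 3 G => (P : Subgroup G) ⊓ T' = (P : Subgroup G) ⊓ T)
      = (line ((P : Subgroup G) ⊓ T)).erase P := by
    ext T'
    rw [Finset.mem_filter, Finset.mem_erase, mem_nbr, mem_line]
    constructor
    · rintro ⟨⟨h2, _⟩, h3⟩
      exact ⟨h2.1.symm, h3 ▸ inf_le_right⟩
    · rintro ⟨h2, h3⟩
      obtain ⟨h4, h5⟩ := adj_of_le h22 (Ne.symm h2) inf_le_left h3 hT.1.2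
      exact ⟨⟨h4, by rw [h5]; exact hT.2⟩, h5⟩
  rw [h1, Finset.card_erase_of_mem ((mem_line _ _).mpr inf_le_left), hT.2]

/-- `s (s - 1)` divides `22` times the number of neighbours on lines of size `s` -/
theorem mul_pred_dvd_card_nbr (h22 : Nat.card (Sylow 3 G) = 22) (s : ℕ) (P : Sylow 3 G) :
    (s * s - s) ∣ 22 * (nbr s P).card := by
  classical
  letI : Fintype (Sylow 3 G) := Fintype.ofFinite _
  set A : Finset (Σ _ : Sylow 3 G, Sylow 3 G) :=
    (Finset.univ : Finset (Sylow 3 G)).sigma (fun S => nbr s S) with hA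
  have hAcard : A.card = 22 * (nbr s P).card := by
    rw [hA, Finset.card_sigma]
    rw [Finset.sum_congr rfl (fun S _ => card_nbr_eq s P S), Finset.sum_const, smul_eq_mul,
      Finset.card_univ, ← Nat.card_eq_fintype_card, h22]
  rw [← hAcard]
  apply dvd_card_of_fibers A (fun q => (q.1 : Subgroup G) ⊓ q.2)
  rintro ⟨S, T⟩ hq
  rw [hA, Finset.mem_sigma, mem_nbr] at hq
  obtain ⟨_, hadj, hcard⟩ := hq
  simp only
  rw [← hcard, ← Finset.offDiag_card]
  refine Finset.card_nbij' (fun q => (q.1, q.2)) (fun p => ⟨p.1, p.2⟩) ?_ ?_ ?_ ?_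
  · rintro ⟨S', T'⟩ hq'
    rw [Finset.mem_coe, Finset.mem_filter, hA, Finset.mem_sigma, mem_nbr] at hq'
    obtain ⟨⟨_, hadj', _⟩, heq⟩ := hq'
    simp only at heq
    rw [Finset.mem_coe, Finset.mem_offDiag, mem_line, mem_line]
    simp only
    exact ⟨heq ▸ inf_le_left, heq ▸ inf_le_right, hadj'.1⟩
  · rintro ⟨S', T'⟩ hp
    rw [Finset.mem_coe, Finset.mem_offDiag, mem_line, mem_line] at hp
    simp only at hp
    obtain ⟨h1, h2, h3⟩ := hp
    have hc : Nat.card (S' : Subgroup G) = 3 * Nat.card ((S : Subgroup G) ⊓ T : Subgroup G) := by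
      rw [card_sylow_eq S' S]; exact hadj.2
    obtain ⟨h4, h5⟩ := adj_of_le h22 h3 h1 h2 hc
    rw [Finset.mem_coe, Finset.mem_filter, hA, Finset.mem_sigma, mem_nbr]
    simp only
    exact ⟨⟨Finset.mem_univ _, h4, by rw [h5]; exact hcard⟩, h5⟩
  · rintro ⟨S', T'⟩ _
    rfl
  · rintro ⟨S', T'⟩ _
    rfl

theorem card_nbrs_add_card_far (h22 : Nat.card (Sylow 3 G) = 22) (P : Sylow 3 G) :
    (nbrs P).card + (far P).card = 21 := by
  classical
  letI : Fintype (Sylow 3 G) := Fintype.ofFinite _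
  have h1 : ((Finset.univ : Finset (Sylow 3 G)).erase P).card = 21 := by
    rw [Finset.card_erase_of_mem (Finset.mem_univ _), Finset.card_univ,
      ← Nat.card_eq_fintype_card, h22]
  have h2 := Finset.card_filter_add_card_filter_not
    (s := (Finset.univ : Finset (Sylow 3 G)).erase P) (fun T => adj P T)
  have h3 : ((Finset.univ : Finset (Sylow 3 G)).erase P).filter (fun T => adj P T) = nbrs P := by
    ext T
    rw [Finset.mem_filter, Finset.mem_erase, mem_nbrs]
    exact ⟨fun h => h.2, fun h => ⟨⟨h.1.symm, Finset.mem_univ _⟩, h⟩⟩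
  have h4 : ((Finset.univ : Finset (Sylow 3 G)).erase P).filter (fun T => ¬ adj P T) = far P := by
    ext T
    rw [Finset.mem_filter, Finset.mem_erase, mem_far]
    exact ⟨fun h => ⟨h.1.1, h.2⟩, fun h => ⟨⟨h.1, Finset.mem_univ _⟩, h.2⟩⟩
  rw [h3, h4, h1] at h2
  exact h2

theorem nine_dvd_card_far (h22 : Nat.card (Sylow 3 G) = 22) (P : Sylow 3 G) :
    9 ∣ (far P).card := by
  classical
  apply dvd_card_of_fibers (far P) (fun T => (orbit (P : Subgroup G) T : Set (Sylow 3 G)))
  intro T hT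
  rw [mem_far] at hT
  have h1 := card_orbit_mul_card_inf P T
  have h2 := card_eq_nine_of_not_adj h22 (Ne.symm hT.1) hT.2
  have hpos : 0 < Nat.card ((P : Subgroup G) ⊓ T : Subgroup G) := Nat.card_pos
  have h3 : Nat.card (orbit (P : Subgroup G) T) = 9 := by
    have : Nat.card (orbit (P : Subgroup G) T) * Nat.card ((P : Subgroup G) ⊓ T : Subgroup G)
        = 9 * Nat.card ((P : Subgroup G) ⊓ T : Subgroup G) := by rw [h1, h2]
    exact Nat.eq_of_mul_eq_mul_right hpos this
  rw [← h3]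
  symm
  refine Nat.subtype_card _ ?_
  intro T'
  rw [Finset.mem_filter, mem_far, MulAction.orbit_eq_iff]
  constructor
  · rintro ⟨_, h⟩
    exact h
  · intro h
    refine ⟨?_, h⟩
    obtain ⟨⟨x, hx⟩, rfl⟩ := h
    have hxP : x • P = P := Sylow.smul_eq_iff_mem_normalizer.mpr (le_normalizer hx)
    show x • T ≠ P ∧ ¬ adj P (x • T)
    constructor
    · intro h5
      apply hT.1
      rw [← hxP] at h5
      exact (MulAction.injective x) h5
    · intro h5
      apply hT.2
      rw [← hxP] at h5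
      exact (adj_smul_iff x P T).mp h5

theorem config_aux7 (c : ℕ) (h1 : 6 ∣ c) (h2 : 42 ∣ 22 * c) (h3 : c ≤ 21) : c = 0 := by omega
theorem config_aux10 (c : ℕ) (h1 : 9 ∣ c) (h2 : 90 ∣ 22 * c) (h3 : c ≤ 21) : c = 0 := by omega
theorem config_aux13 (c : ℕ) (h1 : 12 ∣ c) (h2 : 156 ∣ 22 * c) (h3 : c ≤ 21) : c = 0 := by omega
theorem config_aux16 (c : ℕ) (h1 : 15 ∣ c) (h2 : 240 ∣ 22 * c) (h3 : c ≤ 21) : c = 0 := by omega
theorem config_aux19 (c : ℕ) (h1 : 18 ∣ c) (h2 : 342 ∣ 22 * c) (h3 : c ≤ 21) : c = 0 := by omega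
theorem config_aux_final (c4 c22 d f : ℕ) (h : d = c4 + c22) (hf : d + f = 21) (h9 : 9 ∣ f)
    (h3 : 3 ∣ c4) (h12 : 12 ∣ 22 * c4) (h21 : 21 ∣ c22) :
    c22 = 21 ∨ (c4 = 12 ∧ d = 12) := by omega

/-- The possible configurations. -/
theorem config (h22 : Nat.card (Sylow 3 G) = 22) (P : Sylow 3 G) :
    (nbr 22 P).card = 21 ∨ ((nbr 4 P).card = 12 ∧ (nbrs P).card = 12) := by
  have hsum := card_nbrs_eq_sum h22 P
  have hfar := card_nbrs_add_card_far h22 P
  have h9 := nine_dvd_card_far h22 P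
  have hb : ∀ s, (nbr s P).card ≤ 21 := fun s =>
    (Finset.card_le_card (nbr_subset_nbrs s P)).trans (by omega)
  simp only [Finset.sum_range_succ, Finset.sum_range_zero, zero_add] at hsum
  have z := fun s hs => nbr_eq_empty h22 s hs P
  rw [z 0 (by norm_num), z 1 (by norm_num), z 2 (by norm_num), z 3 (by norm_num),
    z 5 (by norm_num), z 6 (by norm_num), z 8 (by norm_num), z 9 (by norm_num),
    z 11 (by norm_num), z 12 (by norm_num), z 14 (by norm_num), z 15 (by norm_num),
    z 17 (by norm_num), z 18 (by norm_num), z 20 (by norm_num), z 21 (by norm_num)] at hsum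
  have c7 := config_aux7 _ (pred_dvd_card_nbr h22 7 P) (mul_pred_dvd_card_nbr h22 7 P) (hb 7)
  have c10 := config_aux10 _ (pred_dvd_card_nbr h22 10 P) (mul_pred_dvd_card_nbr h22 10 P) (hb 10)
  have c13 := config_aux13 _ (pred_dvd_card_nbr h22 13 P) (mul_pred_dvd_card_nbr h22 13 P) (hb 13)
  have c16 := config_aux16 _ (pred_dvd_card_nbr h22 16 P) (mul_pred_dvd_card_nbr h22 16 P) (hb 16)
  have c19 := config_aux19 _ (pred_dvd_card_nbr h22 19 P) (mul_pred_dvd_card_nbr h22 19 P) (hb 19)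
  rw [c7, c10, c13, c16, c19] at hsum
  exact config_aux_final _ _ _ _ (by simpa using hsum) hfar h9 (pred_dvd_card_nbr h22 4 P)
    (mul_pred_dvd_card_nbr h22 4 P) (pred_dvd_card_nbr h22 22 P)

end Cfsg.Agent.Helper25.Syl22
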