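import Cfsg.Agent.Helper25.Syl22C

/-!
# S4346, part D: in a minimal counterexample the Sylow 3-subgroups have order 3
-/

set_option autoImplicit false
set_option linter.unusedSectionVars false
set_option linter.style.haveILetI false
open Subgroup MulAction MonoidHom
open scoped Pointwise

namespace Cfsg.Agent.Helper25.Syl22

universe u

variable {G : Type u} [Group G] [Finite G]

/-- Three pairwise adjacent Sylow subgroups lie on a common line. -/
theorem le_of_adj_triangle (h22 : Nat.card (Sylow 3 G) = 22) {P Q a : Sylow 3 G}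
    (hPQ : adj P Q) (hPa : adj P a) (hQa : adj Q a) : (P : Subgroup G) ⊓ Q ≤ a := by
  by_contra hnot
  obtain ⟨d, hd, hda⟩ := SetLike.not_le_iff_exists.mp hnot
  have hdP : d ∈ (P : Subgroup G) := hd.1
  have hdQ : d ∈ (Q : Subgroup G) := hd.2
  have hne : d • a ≠ a := by
    intro h
    have h1 : d ∈ normalizer (a : Set G) := Sylow.smul_eq_iff_mem_normalizer.mp h
    have h2 : d ∈ (P : Subgroup G) ⊓ normalizer (a : Set G) := ⟨hdP, h1⟩
    rw [P.2.inf_normalizer_sylow a] at h2
    exact hda h2.2
  have h1 : (Q : Subgroup G) ⊓ a ≤ ((d • a : Sylow 3 G) : Subgroup G) :=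
    inf_le_smul_of_adj hQa hdQ inf_le_right
  have h2 : (P : Subgroup G) ⊓ a ≤ ((d • a : Sylow 3 G) : Subgroup G) :=
    inf_le_smul_of_adj hPa hdP inf_le_right
  have hca : Nat.card (a : Subgroup G) = 3 * Nat.card ((Q : Subgroup G) ⊓ a : Subgroup G) := by
    rw [card_sylow_eq a Q]; exact hQa.2
  have hca' : Nat.card (a : Subgroup G) = 3 * Nat.card ((P : Subgroup G) ⊓ a : Subgroup G) := by
    rw [card_sylow_eq a P]; exact hPa.2
  have e1 := inf_eq_of_le h22 (Ne.symm hne) (le_inf inf_le_right h1) hca
  have e2 := inf_eq_of_le h22 (Ne.symm hne) (le_inf inf_le_right h2) hca'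
  have e3 : (Q : Subgroup G) ⊓ a = (P : Subgroup G) ⊓ a := e1.symm.trans e2
  have h3 : (P : Subgroup G) ⊓ a ≤ (P : Subgroup G) ⊓ Q :=
    le_inf inf_le_left (e3 ▸ inf_le_left)
  have e4 := inf_eq_of_le h22 hPQ.1 h3 hPa.2
  exact hnot (e4 ▸ inf_le_right)

/-- The second configuration is impossible. -/
theorem config_two_false (h22 : Nat.card (Sylow 3 G) = 22)
    (h4 : ∀ S : Sylow 3 G, (nbr 4 S).card = 12) (h12 : ∀ S : Sylow 3 G, (nbrs S).card = 12) :
    False := by
  classical
  letI : Fintype (Sylow 3 G) := Fintype.ofFinite _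
  -- all lines have four points
  have hline : ∀ S T : Sylow 3 G, adj S T → (line ((S : Subgroup G) ⊓ T)).card = 4 := by
    intro S T hST
    have h1 : nbr 4 S = nbrs S :=
      Finset.eq_of_subset_of_card_le (nbr_subset_nbrs 4 S) (by rw [h4, h12])
    have h2 : T ∈ nbr 4 S := by rw [h1, mem_nbrs]; exact hST
    exact (mem_nbr.mp h2).2
  have hfar : ∀ S : Sylow 3 G, (far S).card = 9 := by
    intro S
    have := card_nbrs_add_card_far h22 S
    rw [h12] at this
    omega
  -- common neighbours of adjacent points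
  have hcommon : ∀ P Q : Sylow 3 G, adj P Q → (nbrs Q ∩ nbrs P).card ≤ 2 := by
    intro P Q hPQ
    have hsub : nbrs Q ∩ nbrs P ⊆ ((line ((P : Subgroup G) ⊓ Q)).erase P).erase Q := by
      intro a ha
      rw [Finset.mem_inter, mem_nbrs, mem_nbrs] at ha
      rw [Finset.mem_erase, Finset.mem_erase, mem_line]
      exact ⟨ha.1.1.symm, ha.2.1.symm, le_of_adj_triangle h22 hPQ ha.2 ha.1⟩
    have h1 := Finset.card_le_card hsub
    have hP : P ∈ line ((P : Subgroup G) ⊓ Q) := (mem_line _ _).mpr inf_le_left
    have hQ : Q ∈ (line ((P : Subgroup G) ⊓ Q)).erase P :=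
      Finset.mem_erase.mpr ⟨hPQ.1.symm, (mem_line _ _).mpr inf_le_right⟩
    rw [Finset.card_erase_of_mem hQ, Finset.card_erase_of_mem hP, hline P Q hPQ] at h1
    exact h1
  -- every far point of `P` is adjacent to every neighbour of `P`
  have hfaradj : ∀ P Q R : Sylow 3 G, adj P Q → R ∈ far P → adj Q R := by
    intro P Q R hPQ hR
    have hcov : nbrs Q ⊆ insert P ((nbrs Q ∩ nbrs P) ∪ (nbrs Q ∩ far P)) := by
      intro T hT
      rw [Finset.mem_insert, Finset.mem_union, Finset.mem_inter, Finset.mem_inter, mem_nbrs,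
        mem_far]
      by_cases hTP : T = P
      · left; exact hTP
      · right
        by_cases hadj : adj P T
        · left; exact ⟨mem_nbrs.mp hT, mem_nbrs.mpr hadj⟩
        · right; exact ⟨mem_nbrs.mp hT, hTP, hadj⟩
    have h1 := Finset.card_le_card hcov
    have h2 := Finset.card_insert_le P ((nbrs Q ∩ nbrs P) ∪ (nbrs Q ∩ far P))
    have h3 := Finset.card_union_le (nbrs Q ∩ nbrs P) (nbrs Q ∩ far P)
    have h5 := hcommon P Q hPQ
    rw [h12] at h1
    have h6 : (far P).card ≤ (nbrs Q ∩ far P).card := by rw [hfar]; omega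
    have h7 : nbrs Q ∩ far P = far P :=
      Finset.eq_of_subset_of_card_le Finset.inter_subset_right h6
    have h8 : R ∈ nbrs Q ∩ far P := by rw [h7]; exact hR
    exact mem_nbrs.mp (Finset.mem_inter.mp h8).1
  -- far points are twins
  have htwin : ∀ P R : Sylow 3 G, R ∈ far P → nbrs R = nbrs P := by
    intro P R hR
    symm
    apply Finset.eq_of_subset_of_card_le
    · intro Q hQ
      rw [mem_nbrs] at hQ ⊢
      exact adj_symm (hfaradj P Q R hQ hR)
    · rw [h12, h12]
  -- classes of twins have 10 elements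
  have hdvd : 10 ∣ (Finset.univ : Finset (Sylow 3 G)).card := by
    apply dvd_card_of_fibers Finset.univ (fun S : Sylow 3 G => nbrs S)
    intro P _
    have h1 : (Finset.univ : Finset (Sylow 3 G)).filter (fun S : Sylow 3 G => nbrs S = nbrs P)
        = insert P (far P) := by
      ext S
      rw [Finset.mem_filter, Finset.mem_insert]
      constructor
      · rintro ⟨_, h⟩
        by_cases hSP : S = P
        · left; exact hSP
        · right
          rw [mem_far]
          refine ⟨hSP, fun hadj => ?_⟩
          have : S ∈ nbrs S := by rw [h, mem_nbrs]; exact hadj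
          exact not_adj_self S (mem_nbrs.mp this)
      · rintro (rfl | h)
        · exact ⟨Finset.mem_univ _, rfl⟩
        · exact ⟨Finset.mem_univ _, htwin P S h⟩
    rw [h1, Finset.card_insert_of_notMem (by rw [mem_far]; exact fun h => h.1 rfl), hfar]
  rw [Finset.card_univ, ← Nat.card_eq_fintype_card, h22] at hdvd
  omega

/-- In a minimal counterexample the Sylow 3-subgroups have order 3. -/
theorem card_sylow_three (hG : MinCE G) (P : Sylow 3 G) : Nat.card (P : Subgroup G) = 3 := by
  classical
  letI : Fintype (Sylow 3 G) := Fintype.ofFinite _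
  rcases config hG.1 P with h | ⟨h4, h12⟩
  · have hne : (nbr 22 P).Nonempty := by
      rw [← Finset.card_pos, h]; norm_num
    obtain ⟨T, hT⟩ := hne
    rw [mem_nbr] at hT
    obtain ⟨hadj, hcard⟩ := hT
    have huniv : line ((P : Subgroup G) ⊓ T) = Finset.univ := by
      apply Finset.eq_univ_of_card
      rw [hcard, ← Nat.card_eq_fintype_card, hG.1]
    have hbot : (P : Subgroup G) ⊓ T = ⊥ := by
      rw [eq_bot_iff]
      intro d hd
      rw [Subgroup.mem_bot]
      apply faithful hG
      intro R
      rw [Sylow.smul_eq_iff_mem_normalizer]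
      have hR : R ∈ line ((P : Subgroup G) ⊓ T) := by rw [huniv]; exact Finset.mem_univ _
      exact le_normalizer ((mem_line _ _).mp hR hd)
    have := hadj.2
    rw [hbot] at this
    simpa using this
  · exfalso
    exact config_two_false hG.1 (fun S => (card_nbr_eq 4 P S).trans h4)
      (fun S => (card_nbrs_eq P S).trans h12)

end Cfsg.Agent.Helper25.Syl22
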