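import Cfsg.Agent.Helper25.Syl22D

/-!
# S4346, part E: fixed-point counts in a minimal counterexample, and `N(P) ≠ C(P)`
-/

set_option autoImplicit false
set_option linter.unusedSectionVars false
set_option linter.style.haveILetI false
open Subgroup MulAction MonoidHom

namespace Cfsg.Agent.Helper25.Syl22

universe u

variable {G : Type u} [Group G] [Finite G]

/-- number of Sylow 3-subgroups fixed by `t` -/
noncomputable def fixN (t : G) : ℕ := Nat.card (fixedBy (Sylow 3 G) t)

theorem fixN_conj (k t : G) : fixN (k⁻¹ * t * k) = fixN t := by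
  unfold fixN
  refine Nat.card_congr ((MulAction.toPerm k).subtypeEquiv ?_)
  intro Q
  simp only [mem_fixedBy, MulAction.toPerm_apply]
  rw [mul_smul, mul_smul, inv_smul_eq_iff]

theorem fixN_le (h22 : Nat.card (Sylow 3 G) = 22) (t : G) : fixN t ≤ 22 := by
  rw [← h22]
  exact Nat.card_le_card_of_injective _ Subtype.val_injective

theorem eq_one_of_fixN (hG : MinCE G) (t : G) (h : fixN t = 22) : t = 1 := by
  apply faithful hG
  intro Q
  by_contra hQ
  have h1 : Nat.card {x : Sylow 3 G // t • x = x} < Nat.card (Sylow 3 G) :=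
    Finite.card_subtype_lt hQ
  rw [hG.1] at h1
  have h2 : fixN t = Nat.card {x : Sylow 3 G // t • x = x} := rfl
  omega

theorem fixedPoints_zpowers_eq (t : G) :
    fixedPoints (zpowers t) (Sylow 3 G) = fixedBy (Sylow 3 G) t := by
  ext Q
  rw [mem_fixedPoints, mem_fixedBy]
  constructor
  · intro h
    exact h ⟨t, mem_zpowers t⟩
  · intro h
    rintro ⟨x, hx⟩
    have h1 : t ∈ stabilizer G Q := h
    have h2 : x ∈ stabilizer G Q := (zpowers_le.mpr h1) hx
    exact h2

/-- an element of `r`-power order fixes `22 mod r` Sylow subgroups -/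
theorem fixN_modEq (h22 : Nat.card (Sylow 3 G) = 22) (t : G) (r j : ℕ) [Fact r.Prime]
    (ht : orderOf t = r ^ j) : fixN t ≡ 22 [MOD r] := by
  have hp : IsPGroup r (zpowers t) := by
    apply IsPGroup.of_card (n := j)
    rw [Nat.card_zpowers, ht]
  have h1 := hp.card_modEq_card_fixedPoints (Sylow 3 G)
  rw [h22, fixedPoints_zpowers_eq] at h1
  exact h1.symm

/-- an element centralising `P` fixes `1 mod 3` Sylow subgroups -/
theorem fixN_mod_three (P : Sylow 3 G) (t : G) (htC : t ∈ centralizer (P : Set G)) :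
    fixN t % 3 = 1 := by
  have htN : t ∈ normalizer (P : Set G) := (centralizer_le_normalizer (P : Set G)) htC
  have h := Helper27.Syl21.card_invariant_set_modEq_one P (fixedBy (Sylow 3 G) t)
    (by rw [mem_fixedBy, Sylow.smul_eq_iff_mem_normalizer]; exact htN)
    (by
      intro g hg ω hω
      rw [mem_fixedBy] at hω ⊢
      rw [smul_smul, ← (mem_centralizer_iff.mp htC g hg), mul_smul, hω])
  exact h

/-- involutions fix `2 mod 4` Sylow subgroups -/
theorem fixN_mod_four (hG : MinCE G) (t : G) (ht : t ^ 2 = 1) : fixN t % 4 = 2 := by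
  classical
  letI : Fintype (Sylow 3 G) := Fintype.ofFinite _
  set π : Equiv.Perm (Sylow 3 G) := MulAction.toPermHom G (Sylow 3 G) t with hπ
  have h2 : π ^ 2 = 1 := by rw [hπ, ← map_pow, ht, map_one]
  have hsign : Equiv.Perm.sign π = 1 := by
    have hA : (Nat.card ℤˣ).Coprime 3 := by
      rw [Nat.card_eq_fintype_card]; decide
    exact hom_trivial hG hA (Equiv.Perm.sign.comp (MulAction.toPermHom G (Sylow 3 G))) t
  have h4 := Helper27.Syl21.card_support_of_sq_eq_one π h2 hsign
  have h3 : fixN t = (π.supportᶜ).card := by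
    unfold fixN
    refine Nat.subtype_card _ ?_
    intro Q
    rw [Finset.mem_compl, Equiv.Perm.mem_support, not_not]
    rfl
  rw [h3, Finset.card_compl, ← Nat.card_eq_fintype_card, hG.1]
  have h5 : π.support.card ≤ 22 := by
    calc π.support.card ≤ Fintype.card (Sylow 3 G) := Finset.card_le_univ _
      _ = 22 := by rw [← Nat.card_eq_fintype_card, hG.1]
  omega

theorem units_three_sq (n : ℕ) (hn : n = 3) (a : (ZMod n)ˣ) : a ^ 2 = 1 := by
  subst hn
  revert a
  decide

theorem units_three_card (n : ℕ) (hn : n = 3) [Finite (ZMod n)ˣ] : Nat.card (ZMod n)ˣ = 2 := by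
  subst hn
  rw [Nat.card_eq_fintype_card]
  decide

/-- The action of the normaliser on a Sylow subgroup of order 3. -/
noncomputable def autHom (P : Sylow 3 G) (hP : Nat.card (P : Subgroup G) = 3) :
    ↥(normalizer (P : Set G)) →* (ZMod (Nat.card (P : Subgroup G)))ˣ :=
  haveI : IsCyclic (P : Subgroup G) := isCyclic_of_prime_card hP
  (IsCyclic.mulAutMulEquiv (P : Subgroup G)).toMonoidHom.comp (P : Subgroup G).normalizerMonoidHom

theorem autHom_eq_one_iff (P : Sylow 3 G) (hP : Nat.card (P : Subgroup G) = 3)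
    (x : ↥(normalizer (P : Set G))) :
    autHom P hP x = 1 ↔ (x : G) ∈ centralizer (P : Set G) := by
  haveI : IsCyclic (P : Subgroup G) := isCyclic_of_prime_card hP
  unfold autHom
  constructor
  · intro hx
    have h5 : (P : Subgroup G).normalizerMonoidHom x = 1 := by
      apply (IsCyclic.mulAutMulEquiv (P : Subgroup G)).injective
      rw [map_one]
      exact hx
    have h6 : x ∈ (P : Subgroup G).normalizerMonoidHom.ker := h5
    rw [normalizerMonoidHom_ker, mem_subgroupOf] at h6
    exact h6
  · intro hx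
    have h6 : x ∈ (P : Subgroup G).normalizerMonoidHom.ker := by
      rw [normalizerMonoidHom_ker, mem_subgroupOf]
      exact hx
    have h5 : (P : Subgroup G).normalizerMonoidHom x = 1 := h6
    show (IsCyclic.mulAutMulEquiv (P : Subgroup G)) ((P : Subgroup G).normalizerMonoidHom x) = 1
    rw [h5, map_one]

/-- an element of odd order normalising `P` centralises it -/
theorem mem_centralizer_of_odd (P : Sylow 3 G) (hP : Nat.card (P : Subgroup G) = 3) (t : G)
    (htN : t ∈ normalizer (P : Set G)) (hodd : Odd (orderOf t)) :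
    t ∈ centralizer (P : Set G) := by
  rw [← autHom_eq_one_iff P hP ⟨t, htN⟩]
  have h1 : (autHom P hP ⟨t, htN⟩) ^ 2 = 1 := units_three_sq _ hP _
  have h2 : (autHom P hP ⟨t, htN⟩) ^ orderOf t = 1 := by
    rw [← map_pow]
    have : (⟨t, htN⟩ : normalizer (P : Set G)) ^ orderOf t = 1 := by
      apply Subtype.ext
      show t ^ orderOf t = 1
      exact pow_orderOf_eq_one t
    rw [this, map_one]
  have h3 : orderOf (autHom P hP ⟨t, htN⟩) ∣ 2 := orderOf_dvd_of_pow_eq_one h1
  have h4 : orderOf (autHom P hP ⟨t, htN⟩) ∣ orderOf t := orderOf_dvd_of_pow_eq_one h2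
  have h5 : Nat.Coprime 2 (orderOf t) := (Nat.coprime_comm.mp hodd.coprime_two_right)
  have h6 : orderOf (autHom P hP ⟨t, htN⟩) = 1 := Nat.eq_one_of_dvd_coprimes h5 h3 h4
  exact orderOf_eq_one_iff.mp h6

/-- an element of odd order fixing a Sylow subgroup fixes `1 mod 3` of them -/
theorem fixN_mod_three_of_odd (hG : MinCE G) (t : G) (hodd : Odd (orderOf t))
    (hfix : 0 < fixN t) : fixN t % 3 = 1 := by
  have : Nonempty (fixedBy (Sylow 3 G) t) := by
    by_contra h
    rw [not_nonempty_iff] at h
    have : fixN t = 0 := by unfold fixN; exact Nat.card_of_isEmpty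
    omega
  obtain ⟨⟨P, hP⟩⟩ := this
  rw [mem_fixedBy, Sylow.smul_eq_iff_mem_normalizer] at hP
  exact fixN_mod_three P t (mem_centralizer_of_odd P (card_sylow_three hG P) t hP hodd)

end Cfsg.Agent.Helper25.Syl22
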