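import Cfsg.Agent.Helper25.Syl22E

/-!
# S4346, part F: the normaliser of a Sylow 3-subgroup does not centralise it
-/

set_option autoImplicit false
set_option linter.unusedSectionVars false
set_option linter.style.haveILetI false
open Subgroup MulAction MonoidHom

namespace Cfsg.Agent.Helper25.Syl22

universe u

variable {G : Type u} [Group G] [Finite G]

instance fact11 : Fact (Nat.Prime 11) := ⟨by norm_num⟩

/-- A Sylow 11-subgroup normalised by `P` fixes `P`. -/
theorem sylow11_le_normalizer (hG : MinCE G) (P : Sylow 3 G) (R : Sylow 11 G)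
    (hPR : ∀ g ∈ (P : Subgroup G), g • R = R) :
    (R : Subgroup G) ≤ normalizer (P : Set G) := by
  let X : Set (Sylow 3 G) := orbit (R : Subgroup G) P
  have hPX : P ∈ X := mem_orbit_self P
  have hX : ∀ g ∈ (P : Subgroup G), ∀ ω ∈ X, g • ω ∈ X := by
    rintro g hg ω ⟨⟨r, hr⟩, rfl⟩
    have hgr : g * r * g⁻¹ ∈ (R : Subgroup G) := by
      have h1 : g • R = R := hPR g hg
      have h2 : g * r * g⁻¹ ∈ ((g • R : Sylow 11 G) : Subgroup G) := by
        rw [Sylow.coe_subgroup_smul]
        exact ⟨r, hr, rfl⟩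
      rwa [h1] at h2
    refine ⟨⟨g * r * g⁻¹, hgr⟩, ?_⟩
    show (g * r * g⁻¹) • P = g • (r • P)
    have hgP : g⁻¹ • P = P := by
      rw [Sylow.smul_eq_iff_mem_normalizer]
      exact le_normalizer (inv_mem hg)
    rw [mul_smul, mul_smul, hgP]
  have hmod := Helper27.Syl21.card_invariant_set_modEq_one P X hPX hX
  have h1 : Nat.card X * Nat.card (stabilizer (R : Subgroup G) P) = Nat.card (R : Subgroup G) := by
    rw [← Nat.card_prod]
    exact (Nat.card_congr (orbitProdStabilizerEquivGroup (R : Subgroup G) P))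
  obtain ⟨k, hk⟩ := R.2.exists_card_eq
  have hdvd : Nat.card X ∣ 11 ^ k := by
    rw [← hk]; exact Dvd.intro _ h1
  obtain ⟨j, hj, hj'⟩ := (Nat.dvd_prime_pow (by norm_num : Nat.Prime 11)).mp hdvd
  have hle : Nat.card X ≤ 22 := by
    rw [← hG.1]
    exact Nat.card_le_card_of_injective _ Subtype.val_injective
  have hX1 : Nat.card X = 1 := by
    rw [hj'] at hle hmod ⊢
    rcases j with _ | _ | j
    · rfl
    · exfalso; revert hmod; decide
    · exfalso
      have : 11 ^ 2 ≤ 11 ^ (j + 1 + 1) := Nat.pow_le_pow_right (by norm_num) (by omega)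
      omega
  intro r hr
  rw [← Sylow.smul_eq_iff_mem_normalizer]
  have hsub : Subsingleton X := (Nat.card_eq_one_iff_unique.mp hX1).1
  have : (⟨r • P, ⟨⟨r, hr⟩, rfl⟩⟩ : X) = ⟨P, hPX⟩ := Subsingleton.elim _ _
  exact congrArg Subtype.val this

theorem card_normalizer_mul (hG : MinCE G) (P : Sylow 3 G) :
    Nat.card (normalizer (P : Set G)) * 22 = Nat.card G := by
  rw [← hG.1, P.card_eq_index_normalizer]
  exact Subgroup.card_mul_index _

/-- Counting: a Sylow 11-subgroup cannot lie in the normaliser of `P` (index 22). -/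
theorem not_sylow11_le_normalizer (hG : MinCE G) (P : Sylow 3 G) (R : Sylow 11 G) :
    ¬ (R : Subgroup G) ≤ normalizer (P : Set G) := by
  intro hle
  have h1 := card_normalizer_mul hG P
  have h2 : Nat.card (R : Subgroup G) ∣ Nat.card (normalizer (P : Set G)) :=
    Subgroup.card_dvd_of_le hle
  rw [Sylow.card_eq_multiplicity] at h2
  have h3 : 11 ^ ((Nat.card G).factorization 11 + 1) ∣ Nat.card G := by
    have h5 : 11 ^ ((Nat.card G).factorization 11 + 1) ∣ Nat.card (normalizer (P : Set G)) * 22 := by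
      rw [pow_succ]
      exact Nat.mul_dvd_mul h2 (by norm_num)
    rwa [h1] at h5
  have h4 := (Nat.Prime.pow_dvd_iff_le_factorization (by norm_num : Nat.Prime 11)
    (Nat.card_pos.ne' : Nat.card G ≠ 0)).mp h3
  omega

theorem not_normalizer_le_centralizer (hG : MinCE G) (P : Sylow 3 G) :
    ¬ (normalizer (P : Set G) ≤ centralizer (P : Set G)) := by
  intro hNC
  have hP3 := card_sylow_three hG P
  set τ := transferSylow P hNC with hτ
  set L : Subgroup G := τ.ker with hL
  have hcompl : IsComplement' L P := ker_transferSylow_isComplement' P hNC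
  have hcard : Nat.card L * 3 = Nat.card G := by
    rw [← hP3]; exact hcompl.card_mul_card
  have hmemL : ∀ g : G, (orderOf g).Coprime 3 → g ∈ L := by
    intro g hg
    rw [hL, MonoidHom.mem_ker]
    have h1 : orderOf (τ g) ∣ orderOf g := orderOf_map_dvd τ g
    have h2 : orderOf (τ g) ∣ 3 := by
      have := orderOf_dvd_natCard (τ g)
      rwa [hP3] at this
    have h3 : orderOf (τ g) = 1 := Nat.eq_one_of_dvd_coprimes hg h1 h2
    exact orderOf_eq_one_iff.mp h3
  let R : Sylow 11 G := default
  have hRL : (R : Subgroup G) ≤ L := by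
    intro r hr
    apply hmemL
    obtain ⟨k, hk⟩ := (R.2 ⟨r, hr⟩)
    have hk' : r ^ 11 ^ k = 1 := by simpa using congrArg Subtype.val hk
    have : orderOf r ∣ 11 ^ k := orderOf_dvd_of_pow_eq_one hk'
    exact Nat.Coprime.coprime_dvd_left this (Nat.Coprime.pow_left k (by norm_num))
  have hfrat : normalizer (R : Set G) ⊔ L = ⊤ := Sylow.normalizer_sup_eq_top' R hRL
  have h3N : 3 ∣ Nat.card (normalizer (R : Set G)) := by
    by_contra h
    have hle : normalizer (R : Set G) ≤ L := by
      intro g hg
      apply hmemL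
      have h1 : orderOf g ∣ Nat.card (normalizer (R : Set G)) := by
        have := orderOf_dvd_natCard (⟨g, hg⟩ : normalizer (R : Set G))
        rwa [Subgroup.orderOf_mk] at this
      have h2 : (Nat.card (normalizer (R : Set G))).Coprime 3 :=
        ((Nat.Prime.coprime_iff_not_dvd (by norm_num : Nat.Prime 3)).mpr h).symm
      exact Nat.Coprime.coprime_dvd_left h1 h2
    rw [sup_eq_right.mpr hle] at hfrat
    rw [hfrat, Subgroup.card_top] at hcard
    have : 0 < Nat.card G := Nat.card_pos
    omega
  obtain ⟨⟨x, hxN⟩, hx⟩ := exists_prime_orderOf_dvd_card' 3 h3N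
  rw [Subgroup.orderOf_mk] at hx
  have hzp : IsPGroup 3 (zpowers x) := by
    apply IsPGroup.of_card (n := 1)
    rw [Nat.card_zpowers, hx, pow_one]
  obtain ⟨P', hP'⟩ := hzp.exists_le_sylow
  have hP'eq : zpowers x = (P' : Subgroup G) := by
    apply Subgroup.eq_of_le_of_card_ge hP'
    rw [card_sylow_three hG P', Nat.card_zpowers, hx]
  obtain ⟨g, hg⟩ := exists_smul_eq G P' P
  have hPR : ∀ y ∈ (P : Subgroup G), y • (g • R) = g • R := by
    intro y hy
    rw [← hg] at hy
    have hy' : g⁻¹ * y * g ∈ (P' : Subgroup G) := by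
      rw [Sylow.coe_subgroup_smul] at hy
      obtain ⟨z, hz, rfl⟩ := hy
      have : g⁻¹ * (MulAut.conj g) z * g = z := by
        rw [MulAut.conj_apply]; group
      rw [MulDistribMulAction.toMonoidEnd_apply, MulDistribMulAction.toMonoidHom_apply]
      show g⁻¹ * (MulAut.conj g) z * g ∈ (P' : Subgroup G)
      rw [this]; exact hz
    have h1 : g⁻¹ * y * g ∈ normalizer (R : Set G) := by
      rw [← hP'eq] at hy'
      exact (zpowers_le.mpr hxN) hy'
    rw [← Sylow.smul_eq_iff_mem_normalizer, mul_smul, mul_smul, inv_smul_eq_iff] at h1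
    exact h1
  exact not_sylow11_le_normalizer hG P (g • R) (sylow11_le_normalizer hG P (g • R) hPR)

/-- some element of the normaliser inverts `P` -/
theorem exists_not_mem_centralizer (hG : MinCE G) (P : Sylow 3 G) :
    ∃ u ∈ normalizer (P : Set G), u ∉ centralizer (P : Set G) := by
  have := not_normalizer_le_centralizer hG P
  rw [SetLike.not_le_iff_exists] at this
  exact this

/-- `|N(P)| = 2 |C(P)|` -/
theorem card_normalizer_eq (hG : MinCE G) (P : Sylow 3 G) :
    Nat.card (normalizer (P : Set G)) = 2 * Nat.card (centralizer (P : Set G)) := by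
  have hP3 := card_sylow_three hG P
  set ϕ := autHom P hP3 with hϕ
  have hker : ϕ.ker = (centralizer (P : Set G)).subgroupOf (normalizer (P : Set G)) := by
    ext x
    rw [MonoidHom.mem_ker, autHom_eq_one_iff, mem_subgroupOf]
  have h1 := Subgroup.card_mul_index ϕ.ker
  rw [Subgroup.index_ker, hker] at h1
  have h2 : Nat.card ((centralizer (P : Set G)).subgroupOf (normalizer (P : Set G)))
      = Nat.card (centralizer (P : Set G)) :=
    Nat.card_congr (Subgroup.subgroupOfEquivOfLe (centralizer_le_normalizer (P : Set G))).toEquiv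
  rw [h2] at h1
  -- the range has order 2
  haveI : NeZero (Nat.card (P : Subgroup G)) := ⟨by rw [hP3]; norm_num⟩
  have h3 : Nat.card ϕ.range ∣ 2 := by
    have := Subgroup.card_subgroup_dvd_card ϕ.range
    rwa [units_three_card _ hP3] at this
  have h4 : Nat.card ϕ.range ≠ 1 := by
    intro h
    obtain ⟨u, huN, huC⟩ := exists_not_mem_centralizer hG P
    apply huC
    rw [← autHom_eq_one_iff P hP3 ⟨u, huN⟩]
    have hsub : Subsingleton ϕ.range := (Nat.card_eq_one_iff_unique.mp h).1
    have : (⟨ϕ ⟨u, huN⟩, ⟨_, rfl⟩⟩ : ϕ.range) = 1 := Subsingleton.elim _ _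
    exact congrArg Subtype.val this
  have h5 : Nat.card ϕ.range = 2 := by
    rcases (Nat.dvd_prime Nat.prime_two).mp h3 with h | h
    · exact absurd h h4
    · exact h
  rw [h5] at h1
  omega

end Cfsg.Agent.Helper25.Syl22
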