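import Cfsg.Agent.Helper25.Syl22F

/-!
# S4346, part G: a minimal counterexample has no element of order 5
-/

set_option autoImplicit false
set_option linter.unusedSectionVars false
set_option linter.style.haveILetI false
open Subgroup MulAction MonoidHom

namespace Cfsg.Agent.Helper25.Syl22

universe u

variable {G : Type u} [Group G] [Finite G]

/-- A `P`-stable set of Sylow `p`-subgroups not containing `P` has cardinality `≡ 0` mod `p`. -/
theorem card_invariant_set_modEq_zero {p : ℕ} [Fact p.Prime] (P : Sylow p G)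
    (X : Set (Sylow p G)) (hPX : P ∉ X)
    (hX : ∀ g ∈ (P : Subgroup G), ∀ ω ∈ X, g • ω ∈ X) :
    Nat.card X ≡ 0 [MOD p] := by
  let S : SubMulAction (P : Subgroup G) (Sylow p G) :=
    { carrier := X
      smul_mem' := fun g ω hω => hX g.1 g.2 ω hω }
  have h1 : Nat.card S ≡ Nat.card (fixedPoints (P : Subgroup G) S) [MOD p] :=
    P.2.card_modEq_card_fixedPoints S
  have h2 : Nat.card (fixedPoints (P : Subgroup G) S) = 0 := by
    haveI : IsEmpty (fixedPoints (P : Subgroup G) S) := by
      refine ⟨?_⟩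
      rintro ⟨⟨c, hc⟩, hfix⟩
      have : c ∈ fixedPoints (P : Subgroup G) (Sylow p G) := by
        intro g
        have := hfix g
        exact congrArg Subtype.val this
      have hle := (P.2.sylow_mem_fixedPoints_iff).mp this
      have hcP : c = P := Sylow.ext (P.3 c.2 hle)
      exact hPX (hcP ▸ hc)
    exact Nat.card_of_isEmpty
  rw [h2] at h1
  exact h1

/-- If `z` of prime power order commutes with `w`, then `z` acts on the fixed points of `w`. -/
theorem card_fixedBy_modEq_card_inter (w z : G) (hcomm : z * w = w * z) (r j : ℕ) [Fact r.Prime]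
    (hz : orderOf z = r ^ j) :
    fixN w ≡ Nat.card ↥(fixedBy (Sylow 3 G) w ∩ fixedBy (Sylow 3 G) z) [MOD r] := by
  have hp : IsPGroup r (zpowers z) := by
    apply IsPGroup.of_card (n := j)
    rw [Nat.card_zpowers, hz]
  have hcomm' : ∀ x ∈ zpowers z, x * w = w * x := by
    intro x hx
    have : x ∈ centralizer ({w} : Set G) :=
      (zpowers_le.mpr (mem_centralizer_singleton_iff.mpr hcomm)) hx
    exact mem_centralizer_singleton_iff.mp this
  let S : SubMulAction (zpowers z) (Sylow 3 G) :=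
    { carrier := fixedBy (Sylow 3 G) w
      smul_mem' := by
        rintro ⟨x, hx⟩ Q hQ
        rw [mem_fixedBy] at hQ
        show w • (x • Q) = x • Q
        rw [smul_smul, ← hcomm' x hx, mul_smul, hQ] }
  have h1 : Nat.card S ≡ Nat.card (fixedPoints (zpowers z) S) [MOD r] :=
    hp.card_modEq_card_fixedPoints S
  have h2 : Nat.card (fixedPoints (zpowers z) S)
      = Nat.card ↥(fixedBy (Sylow 3 G) w ∩ fixedBy (Sylow 3 G) z) := by
    refine Nat.card_congr
      { toFun := fun q => ⟨q.1.1, q.1.2, ?_⟩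
        invFun := fun q => ⟨⟨q.1, q.2.1⟩, ?_⟩
        left_inv := fun q => rfl
        right_inv := fun q => rfl }
    · have := q.2 ⟨z, mem_zpowers z⟩
      exact congrArg Subtype.val this
    · rintro ⟨x, hx⟩
      apply Subtype.ext
      show x • q.1 = q.1
      have h3 : z ∈ stabilizer G q.1 := q.2.2
      exact (zpowers_le.mpr h3) hx
  rw [h2] at h1
  exact h1

instance fact7 : Fact (Nat.Prime 7) := ⟨by norm_num⟩
instance fact5 : Fact (Nat.Prime 5) := ⟨by norm_num⟩

theorem fixN_order_five (hG : MinCE G) (w : G) (hw : orderOf w = 5) : fixN w = 7 := by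
  have h1 : fixN w ≡ 22 [MOD 5] := fixN_modEq hG.1 w 5 1 (by rw [hw, pow_one])
  have h1' : fixN w % 5 = 2 := h1
  have h2 : fixN w % 3 = 1 :=
    fixN_mod_three_of_odd hG w (by rw [hw]; decide) (by omega)
  have h3 := fixN_le hG.1 w
  have h4 : fixN w ≠ 22 := by
    intro h
    have := eq_one_of_fixN hG w h
    rw [this, orderOf_one] at hw
    omega
  omega

theorem fixN_order_seven (hG : MinCE G) (z : G) (hz : orderOf z = 7) : fixN z = 1 := by
  have h1 : fixN z ≡ 22 [MOD 7] := fixN_modEq hG.1 z 7 1 (by rw [hz, pow_one])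
  have h1' : fixN z % 7 = 1 := h1
  have h2 : fixN z % 3 = 1 :=
    fixN_mod_three_of_odd hG z (by rw [hz]; decide) (by omega)
  have h3 := fixN_le hG.1 z
  have h4 : fixN z ≠ 22 := by
    intro h
    have := eq_one_of_fixN hG z h
    rw [this, orderOf_one] at hz
    omega
  omega

/-- No element of order 7 commutes with an element of order 5. -/
theorem not_commute_seven_five (hG : MinCE G) (w z : G) (hw : orderOf w = 5) (hz : orderOf z = 7)
    (hcomm : z * w = w * z) : False := by
  have hfw := fixN_order_five hG w hw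
  have hfz := fixN_order_seven hG z hz
  have h1 := card_fixedBy_modEq_card_inter w z hcomm 7 1 (by rw [hz, pow_one])
  rw [hfw] at h1
  -- the unique fixed point of `z`
  have hsub : Subsingleton (fixedBy (Sylow 3 G) z) := (Nat.card_eq_one_iff_unique.mp hfz).1
  have hne : Nonempty (fixedBy (Sylow 3 G) z) := (Nat.card_eq_one_iff_unique.mp hfz).2
  obtain ⟨⟨P, hP⟩⟩ := hne
  have hwP : w • P ∈ fixedBy (Sylow 3 G) z := by
    rw [mem_fixedBy] at hP ⊢
    rw [smul_smul, hcomm, mul_smul, hP]
  have hwP' : w • P = P := by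
    have : (⟨w • P, hwP⟩ : fixedBy (Sylow 3 G) z) = ⟨P, hP⟩ := Subsingleton.elim _ _
    exact congrArg Subtype.val this
  have h2 : Nat.card ↥(fixedBy (Sylow 3 G) w ∩ fixedBy (Sylow 3 G) z) = 1 := by
    rw [Nat.card_eq_one_iff_unique]
    refine ⟨⟨?_⟩, ⟨⟨P, hwP', hP⟩⟩⟩
    rintro ⟨a, ha⟩ ⟨b, hb⟩
    have : (⟨a, ha.2⟩ : fixedBy (Sylow 3 G) z) = ⟨b, hb.2⟩ := Subsingleton.elim _ _
    have h3 : a = b := congrArg Subtype.val this
    exact Subtype.ext h3
  rw [h2] at h1
  exact absurd h1 (by decide)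

/-- A minimal counterexample has no element of order 5. -/
theorem no_order_five (hG : MinCE G) (w : G) (hw : orderOf w = 5) : False := by
  have hfw := fixN_order_five hG w hw
  set M : Subgroup G := centralizer ({w} : Set G) with hM
  -- fixed Sylow subgroups lie in `M`
  have hle : ∀ Q : Sylow 3 G, w • Q = Q → (Q : Subgroup G) ≤ M := by
    intro Q hQ x hx
    rw [Sylow.smul_eq_iff_mem_normalizer] at hQ
    have hC := mem_centralizer_of_odd Q (card_sylow_three hG Q) w hQ (by rw [hw]; decide)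
    rw [hM, mem_centralizer_singleton_iff]
    exact (mem_centralizer_iff.mp hC x hx)
  have hMfix : ∀ m ∈ M, ∀ Q : Sylow 3 G, w • Q = Q → w • (m • Q) = m • Q := by
    intro m hm Q hQ
    rw [hM, mem_centralizer_singleton_iff] at hm
    rw [smul_smul, ← hm, mul_smul, hQ]
  -- a fixed point
  have hne : Nonempty (fixedBy (Sylow 3 G) w) := by
    by_contra h
    rw [not_nonempty_iff] at h
    have : fixN w = 0 := by unfold fixN; exact Nat.card_of_isEmpty
    omega
  obtain ⟨⟨P₀, hP₀⟩⟩ := hne
  rw [mem_fixedBy] at hP₀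
  set θ : Set (Sylow 3 G) := orbit M P₀ with hθ
  have hθsub : θ ⊆ fixedBy (Sylow 3 G) w := by
    rintro _ ⟨⟨m, hm⟩, rfl⟩
    exact hMfix m hm P₀ hP₀
  have hθinv : ∀ Q : Sylow 3 G, w • Q = Q → ∀ g ∈ (Q : Subgroup G), ∀ ω ∈ θ, g • ω ∈ θ := by
    rintro Q hQ g hg _ ⟨⟨m, hm⟩, rfl⟩
    refine ⟨⟨g * m, mul_mem (hle Q hQ hg) hm⟩, ?_⟩
    show (g * m) • P₀ = g • (m • P₀)
    rw [mul_smul]
  have hmod1 := Helper27.Syl21.card_invariant_set_modEq_one P₀ θ (mem_orbit_self P₀)
    (hθinv P₀ hP₀)
  have hall : fixedBy (Sylow 3 G) w ⊆ θ := by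
    intro Q hQ
    by_contra hQθ
    have hmod0 := card_invariant_set_modEq_zero Q θ hQθ (hθinv Q hQ)
    have := hmod1.symm.trans hmod0
    exact absurd this (by decide)
  have hθeq : θ = fixedBy (Sylow 3 G) w := Set.Subset.antisymm hθsub hall
  have hcardθ : Nat.card θ = 7 := by rw [hθeq]; exact hfw
  have h7 : 7 ∣ Nat.card M := by
    have h1 : Nat.card θ * Nat.card (stabilizer M P₀) = Nat.card M := by
      rw [← Nat.card_prod]
      exact (Nat.card_congr (orbitProdStabilizerEquivGroup M P₀))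
    rw [hcardθ] at h1
    exact Dvd.intro _ h1
  obtain ⟨⟨z, hzM⟩, hz⟩ := exists_prime_orderOf_dvd_card' 7 h7
  rw [Subgroup.orderOf_mk] at hz
  rw [hM, mem_centralizer_singleton_iff] at hzM
  exact not_commute_seven_five hG w z hw hz hzM

theorem five_not_dvd_card (hG : MinCE G) : ¬ 5 ∣ Nat.card G := by
  intro h
  obtain ⟨w, hw⟩ := exists_prime_orderOf_dvd_card' 5 h
  exact no_order_five hG w hw

end Cfsg.Agent.Helper25.Syl22
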