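import Cfsg.Agent.Helper25.Syl22G

/-!
# S4346, part H: the Sylow 11-subgroups of a minimal counterexample
-/

set_option autoImplicit false
set_option linter.unusedSectionVars false
set_option linter.style.haveILetI false
open Subgroup MulAction MonoidHom

namespace Cfsg.Agent.Helper25.Syl22

universe u

variable {G : Type u} [Group G] [Finite G]

theorem units_card_prime (n p : ℕ) (hn : n = p) (hp : p.Prime) [Finite (ZMod n)ˣ] :
    Nat.card (ZMod n)ˣ = p - 1 := by
  subst hn
  haveI := Fact.mk hp
  rw [Nat.card_eq_fintype_card, ZMod.card_units_eq_totient, Nat.totient_prime hp]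

/-- `N(H)/C(H)` embeds in `Aut H` for `H` of prime order. -/
theorem exists_card_normalizer_eq (H : Subgroup G) (p : ℕ) (hp : p.Prime) (hH : Nat.card H = p) :
    ∃ d, d ∣ p - 1 ∧
      Nat.card (normalizer (H : Set G)) = d * Nat.card (centralizer (H : Set G)) := by
  haveI := Fact.mk hp
  haveI : IsCyclic H := isCyclic_of_prime_card hH
  haveI : NeZero (Nat.card H) := ⟨by rw [hH]; exact hp.ne_zero⟩
  set ϕ : ↥(normalizer (H : Set G)) →* (ZMod (Nat.card H))ˣ :=
    (IsCyclic.mulAutMulEquiv H).toMonoidHom.comp H.normalizerMonoidHom with hϕ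
  have hker : ϕ.ker = (centralizer (H : Set G)).subgroupOf (normalizer (H : Set G)) := by
    rw [← normalizerMonoidHom_ker]
    ext x
    rw [MonoidHom.mem_ker, MonoidHom.mem_ker]
    constructor
    · intro hx
      apply (IsCyclic.mulAutMulEquiv H).injective
      rw [map_one]
      exact hx
    · intro hx
      show (IsCyclic.mulAutMulEquiv H) (H.normalizerMonoidHom x) = 1
      rw [hx, map_one]
  have h1 := Subgroup.card_mul_index ϕ.ker
  rw [Subgroup.index_ker, hker] at h1
  have h2 : Nat.card ((centralizer (H : Set G)).subgroupOf (normalizer (H : Set G)))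
      = Nat.card (centralizer (H : Set G)) :=
    Nat.card_congr (Subgroup.subgroupOfEquivOfLe (centralizer_le_normalizer (H : Set G))).toEquiv
  rw [h2] at h1
  refine ⟨Nat.card ϕ.range, ?_, ?_⟩
  · have := Subgroup.card_subgroup_dvd_card ϕ.range
    rwa [units_card_prime _ p hH hp] at this
  · rw [← h1, mul_comm]

theorem fixN_order_eleven (hG : MinCE G) (y : G) (hy : orderOf y = 11) : fixN y = 0 := by
  have h1 : fixN y ≡ 22 [MOD 11] := fixN_modEq hG.1 y 11 1 (by rw [hy, pow_one])
  have h1' : fixN y % 11 = 0 := h1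
  by_contra h0
  have h2 : fixN y % 3 = 1 :=
    fixN_mod_three_of_odd hG y (by rw [hy]; decide) (by omega)
  have h3 := fixN_le hG.1 y
  have h4 : fixN y ≠ 22 := by
    intro h
    have := eq_one_of_fixN hG y h
    rw [this, orderOf_one] at hy
    omega
  omega

theorem eleven_not_dvd_card_normalizer (hG : MinCE G) (P : Sylow 3 G) :
    ¬ 11 ∣ Nat.card (normalizer (P : Set G)) := by
  intro h
  obtain ⟨⟨y, hyN⟩, hy⟩ := exists_prime_orderOf_dvd_card' 11 h
  rw [Subgroup.orderOf_mk] at hy
  have h0 := fixN_order_eleven hG y hy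
  have : IsEmpty (fixedBy (Sylow 3 G) y) := by
    by_contra hne
    rw [not_isEmpty_iff] at hne
    have : 0 < fixN y := by unfold fixN; exact Nat.card_pos
    omega
  exact this.false ⟨P, by rw [mem_fixedBy, Sylow.smul_eq_iff_mem_normalizer]; exact hyN⟩

theorem card_sylow_eleven (hG : MinCE G) (Y : Sylow 11 G) : Nat.card (Y : Subgroup G) = 11 := by
  let P : Sylow 3 G := default
  have h1 := card_normalizer_mul hG P
  have h2 := eleven_not_dvd_card_normalizer hG P
  have h3 : 11 ∣ Nat.card G := by rw [← h1]; exact Dvd.dvd.mul_left (by norm_num : 11 ∣ 22) _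
  have h4 : 11 ∣ Nat.card (Y : Subgroup G) := Y.dvd_card_of_dvd_card h3
  obtain ⟨k, hk⟩ := Y.2.exists_card_eq
  have h5 : Nat.card (Y : Subgroup G) ∣ Nat.card G := Subgroup.card_subgroup_dvd_card _
  rw [hk] at h4 h5 ⊢
  rcases k with _ | _ | k
  · norm_num at h4
  · norm_num
  · exfalso
    have h6 : 11 ^ 2 ∣ Nat.card G := (pow_dvd_pow 11 (by omega)).trans h5
    rw [← h1] at h6
    apply h2
    norm_num at h6
    omega

theorem exists_generator_sylow_eleven (hG : MinCE G) (Y : Sylow 11 G) :
    ∃ y : G, orderOf y = 11 ∧ (Y : Subgroup G) = zpowers y := by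
  have hY := card_sylow_eleven hG Y
  obtain ⟨⟨y, hyY⟩, hy⟩ := exists_prime_orderOf_dvd_card' (G := (Y : Subgroup G)) 11 (by rw [hY])
  rw [Subgroup.orderOf_mk] at hy
  refine ⟨y, hy, ?_⟩
  symm
  apply Subgroup.eq_of_le_of_card_ge (zpowers_le.mpr hyY)
  rw [Nat.card_zpowers, hy, hY]

theorem card_centralizer_sylow_eleven (hG : MinCE G) (Y : Sylow 11 G) :
    Nat.card (centralizer (Y : Set G)) = 11 := by
  obtain ⟨y, hy, hYy⟩ := exists_generator_sylow_eleven hG Y
  have hyY : y ∈ (Y : Subgroup G) := by rw [hYy]; exact mem_zpowers y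
  have hfy := fixN_order_eleven hG y hy
  set C : Subgroup G := centralizer (Y : Set G) with hC
  have hYC : (Y : Subgroup G) ≤ C := by
    intro a ha
    rw [hC, mem_centralizer_iff]
    intro b hb
    have hb' : b ∈ (Y : Subgroup G) := hb
    rw [hYy, mem_zpowers_iff] at hb'
    rw [hYy, mem_zpowers_iff] at ha
    obtain ⟨m, rfl⟩ := ha
    obtain ⟨n, rfl⟩ := hb'
    exact ((Commute.refl y).zpow_zpow n m).eq
  -- every prime divisor of `|C|` is 11
  have hprime : ∀ {r : ℕ}, r.Prime → r ∣ Nat.card C → r = 11 := by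
    intro r hr hrC
    haveI := Fact.mk hr
    obtain ⟨⟨c, hcC⟩, hc⟩ := exists_prime_orderOf_dvd_card' r hrC
    rw [Subgroup.orderOf_mk] at hc
    have hcomm : y * c = c * y := by
      rw [hC, mem_centralizer_iff] at hcC
      exact hcC y hyY
    have h1 := card_fixedBy_modEq_card_inter c y hcomm 11 1 (by rw [hy, pow_one])
    have h2 : Nat.card ↥(fixedBy (Sylow 3 G) c ∩ fixedBy (Sylow 3 G) y) = 0 := by
      haveI : IsEmpty ↥(fixedBy (Sylow 3 G) c ∩ fixedBy (Sylow 3 G) y) := by
        refine ⟨?_⟩
        rintro ⟨Q, _, hQ⟩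
        have : 0 < fixN y := by
          unfold fixN
          haveI : Nonempty (fixedBy (Sylow 3 G) y) := ⟨⟨Q, hQ⟩⟩
          exact Nat.card_pos
        omega
      exact Nat.card_of_isEmpty
    rw [h2] at h1
    have h1' : fixN c % 11 = 0 := h1
    have h3 := fixN_le hG.1 c
    have h4 : fixN c ≠ 22 := by
      intro h
      have := eq_one_of_fixN hG c h
      rw [this, orderOf_one] at hc
      exact hr.one_lt.ne hc
    have h5 : fixN c ≡ 22 [MOD r] := fixN_modEq hG.1 c r 1 (by rw [hc, pow_one])
    have h6 : r ∣ 22 := by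
      have h7 : fixN c = 0 ∨ fixN c = 11 := by omega
      rcases h7 with h7 | h7
      · rw [h7] at h5
        exact (Nat.modEq_zero_iff_dvd).mp h5.symm
      · rw [h7] at h5
        have := (Nat.modEq_iff_dvd' (by norm_num : 11 ≤ 22)).mp h5
        exact this.trans (by norm_num)
    have h8 : r = 2 ∨ r = 11 := by
      have : r ∣ 2 * 11 := h6
      rcases (Nat.Prime.dvd_mul hr).mp this with h | h
      · left; exact (Nat.prime_dvd_prime_iff_eq hr Nat.prime_two).mp h
      · right; exact (Nat.prime_dvd_prime_iff_eq hr (by norm_num)).mp h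
    rcases h8 with h8 | h8
    · exfalso
      have hc2 : c ^ 2 = 1 := by rw [← h8, ← hc]; exact pow_orderOf_eq_one c
      have := fixN_mod_four hG c hc2
      omega
    · exact h8
  have hpow := Nat.eq_prime_pow_of_unique_prime_dvd (Nat.card_pos.ne' : Nat.card C ≠ 0) hprime
  have hCp : IsPGroup 11 C := IsPGroup.of_card hpow
  obtain ⟨Y', hY'⟩ := hCp.exists_le_sylow
  have h1 : Nat.card C ≤ 11 := by
    rw [← card_sylow_eleven hG Y']
    exact Subgroup.card_le_of_le hY'
  have h2 : 11 ≤ Nat.card C := by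
    rw [← card_sylow_eleven hG Y]
    exact Subgroup.card_le_of_le hYC
  omega

theorem not_normalizer_le_centralizer_eleven (hG : MinCE G) (Y : Sylow 11 G) :
    ¬ (normalizer (Y : Set G) ≤ centralizer (Y : Set G)) := by
  intro hNC
  have hY := card_sylow_eleven hG Y
  set τ := transferSylow Y hNC with hτ
  set L : Subgroup G := τ.ker with hL
  have hcompl : IsComplement' L Y := ker_transferSylow_isComplement' Y hNC
  have hcard : Nat.card L * 11 = Nat.card G := by
    rw [← hY]; exact hcompl.card_mul_card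
  have hle : ∀ P : Sylow 3 G, (P : Subgroup G) ≤ L := by
    intro P x hx
    rw [hL, MonoidHom.mem_ker]
    obtain ⟨k, hk⟩ := (P.2 ⟨x, hx⟩)
    have hk' : x ^ 3 ^ k = 1 := by simpa using congrArg Subtype.val hk
    have h1 : orderOf (τ x) ∣ 3 ^ k := by
      apply orderOf_dvd_of_pow_eq_one
      rw [← map_pow, hk', map_one]
    have h2 : orderOf (τ x) ∣ 11 := by
      have := orderOf_dvd_natCard (τ x)
      rwa [hY] at this
    have h3 : orderOf (τ x) = 1 := by
      have h4 : Nat.Coprime 11 (3 ^ k) := Nat.Coprime.pow_right k (by norm_num)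
      exact Nat.eq_one_of_dvd_coprimes h4 h2 h1
    exact orderOf_eq_one_iff.mp h3
  have htop := eq_top_of_forall_le hG L hle
  rw [htop, Subgroup.card_top] at hcard
  have : 0 < Nat.card G := Nat.card_pos
  omega

theorem card_normalizer_sylow_eleven (hG : MinCE G) (Y : Sylow 11 G) :
    Nat.card (normalizer (Y : Set G)) = 22 := by
  obtain ⟨d, hd, hN'⟩ := exists_card_normalizer_eq (Y : Subgroup G) 11 (by norm_num)
    (card_sylow_eleven hG Y)
  have hN : Nat.card (normalizer (Y : Set G)) = d * Nat.card (centralizer (Y : Set G)) := hN'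
  have hd1 : d ≠ 1 := by
    intro h
    apply not_normalizer_le_centralizer_eleven hG Y
    rw [h, one_mul] at hN
    have := Subgroup.eq_of_le_of_card_ge (centralizer_le_normalizer (Y : Set G))
      (le_of_eq hN)
    rw [this]
  rw [card_centralizer_sylow_eleven hG Y] at hN
  have hd5 : ¬ 5 ∣ d := by
    intro h
    apply five_not_dvd_card hG
    have h1 : d ∣ Nat.card (normalizer (Y : Set G)) := by
      rw [hN]; exact Dvd.intro _ rfl
    exact h.trans (h1.trans (Subgroup.card_subgroup_dvd_card _))
  have hd' : d ∣ 10 := hd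
  have hdle : d ≤ 10 := Nat.le_of_dvd (by norm_num) hd'
  have hd2 : d = 2 := by
    interval_cases d <;> simp_all
  rw [hN, hd2]

/-- The number of Sylow 11-subgroups is the order of `N(P)`, and is `1 mod 11`. -/
theorem card_sylow11_eq (hG : MinCE G) (P : Sylow 3 G) :
    Nat.card (Sylow 11 G) = Nat.card (normalizer (P : Set G)) := by
  let Y : Sylow 11 G := default
  have h1 := card_normalizer_mul hG P
  have h2 := Subgroup.card_mul_index (normalizer (Y : Set G))
  rw [card_normalizer_sylow_eleven hG Y, ← Y.card_eq_index_normalizer] at h2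
  omega

theorem card_normalizer_mod (hG : MinCE G) (P : Sylow 3 G) :
    Nat.card (normalizer (P : Set G)) % 11 = 1 := by
  rw [← card_sylow11_eq hG P]
  exact card_sylow_modEq_one 11 G

end Cfsg.Agent.Helper25.Syl22
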