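import Cfsg.Agent.Helper25.Syl22H

/-!
# S4346, part I: the centraliser of a Sylow 3-subgroup has order 6
-/

set_option autoImplicit false
set_option linter.unusedSectionVars false
set_option linter.style.haveILetI false
open Subgroup MulAction MonoidHom

namespace Cfsg.Agent.Helper25.Syl22

universe u

/-- If the centraliser of `g` contains an odd permutation, its even part has index 2. -/
theorem card_centralizer_inf_alternating {α : Type*} [Fintype α] [DecidableEq α]
    (g : Equiv.Perm α) (h : ¬ centralizer ({g} : Set (Equiv.Perm α)) ≤ alternatingGroup α) :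
    2 * Nat.card ↥(centralizer ({g} : Set (Equiv.Perm α)) ⊓ alternatingGroup α)
      = Nat.card (centralizer ({g} : Set (Equiv.Perm α))) := by
  set Z : Subgroup (Equiv.Perm α) := centralizer ({g} : Set (Equiv.Perm α)) with hZ
  set ψ : Z →* ℤˣ := Equiv.Perm.sign.comp Z.subtype with hψ
  have hker : ψ.ker = (Z ⊓ alternatingGroup α).subgroupOf Z := by
    ext x
    rw [MonoidHom.mem_ker, mem_subgroupOf, mem_inf, Equiv.Perm.mem_alternatingGroup]
    exact ⟨fun hx => ⟨x.2, hx⟩, fun hx => hx.2⟩
  have h1 := Subgroup.card_mul_index ψ.ker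
  rw [Subgroup.index_ker, hker] at h1
  have h2 : Nat.card ((Z ⊓ alternatingGroup α).subgroupOf Z) = Nat.card ↥(Z ⊓ alternatingGroup α) :=
    Nat.card_congr (Subgroup.subgroupOfEquivOfLe inf_le_left).toEquiv
  rw [h2] at h1
  have h3 : Nat.card ψ.range = 2 := by
    have hdvd : Nat.card ψ.range ∣ 2 := by
      have hc : Nat.card ℤˣ = 2 := by rw [Nat.card_eq_fintype_card]; rfl
      have := Subgroup.card_subgroup_dvd_card ψ.range
      rwa [hc] at this
    have hne : Nat.card ψ.range ≠ 1 := by
      intro hone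
      apply h
      intro τ hτ
      rw [Equiv.Perm.mem_alternatingGroup]
      have hsub : Subsingleton ψ.range := (Nat.card_eq_one_iff_unique.mp hone).1
      have : (⟨ψ ⟨τ, hτ⟩, ⟨_, rfl⟩⟩ : ψ.range) = 1 := Subsingleton.elim _ _
      exact congrArg Subtype.val this
    rcases (Nat.dvd_prime Nat.prime_two).mp hdvd with h' | h'
    · exact absurd h' hne
    · exact h'
  rw [h3] at h1
  omega

variable {G : Type u} [Group G] [Finite G]

theorem exists_generator_sylow_three (hG : MinCE G) (P : Sylow 3 G) :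
    ∃ x : G, orderOf x = 3 ∧ (P : Subgroup G) = zpowers x := by
  have hP := card_sylow_three hG P
  obtain ⟨⟨x, hxP⟩, hx⟩ := exists_prime_orderOf_dvd_card' (G := (P : Subgroup G)) 3 (by rw [hP])
  rw [Subgroup.orderOf_mk] at hx
  refine ⟨x, hx, ?_⟩
  symm
  apply Subgroup.eq_of_le_of_card_ge (zpowers_le.mpr hxP)
  rw [Nat.card_zpowers, hx, hP]

/-- a generator of `P` fixes only `P` -/
theorem fixN_generator (hG : MinCE G) (P : Sylow 3 G) (x : G)
    (hPx : (P : Subgroup G) = zpowers x) : fixN x = 1 := by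
  unfold fixN
  rw [Nat.card_eq_one_iff_unique]
  have hxP : x ∈ (P : Subgroup G) := by rw [hPx]; exact mem_zpowers x
  have key : ∀ Q : Sylow 3 G, x • Q = Q → Q = P := by
    intro Q hQ
    rw [Sylow.smul_eq_iff_mem_normalizer] at hQ
    have h1 : (P : Subgroup G) ≤ normalizer (Q : Set G) := by
      rw [hPx]; exact zpowers_le.mpr hQ
    have h2 := P.2.inf_normalizer_sylow Q
    rw [inf_eq_left.mpr h1] at h2
    have h3 : (P : Subgroup G) ≤ Q := inf_eq_left.mp h2.symm
    exact (Sylow.ext (P.3 Q.2 h3))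
  refine ⟨⟨?_⟩, ⟨⟨P, ?_⟩⟩⟩
  · rintro ⟨a, ha⟩ ⟨b, hb⟩
    have e1 := key a ha
    have e2 := key b hb
    subst e1
    subst e2
    rfl
  · rw [mem_fixedBy, Sylow.smul_eq_iff_mem_normalizer]
    exact le_normalizer hxP

theorem card_centralizer_dvd (hG : MinCE G) (P : Sylow 3 G) :
    Nat.card (centralizer (P : Set G)) ∣ 2187 * 2520 := by
  classical
  letI : Fintype (Sylow 3 G) := Fintype.ofFinite _
  obtain ⟨x, hx, hPx⟩ := exists_generator_sylow_three hG P
  have hxP : x ∈ (P : Subgroup G) := by rw [hPx]; exact mem_zpowers x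
  set σ : G →* Equiv.Perm (Sylow 3 G) := MulAction.toPermHom G (Sylow 3 G) with hσ
  have hinj : Function.Injective σ := by
    rw [injective_iff_map_eq_one]
    intro g hg
    apply faithful hG
    intro Q
    show (σ g) Q = (1 : Equiv.Perm (Sylow 3 G)) Q
    rw [hg]
  set π : Equiv.Perm (Sylow 3 G) := σ x with hπ
  have hord : orderOf π = 3 := by rw [hπ, orderOf_injective σ hinj, hx]
  -- the cycle type of `π`
  have hsupp : π.support.card = 21 := by
    have h3 : fixN x = (π.supportᶜ).card := by
      unfold fixN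
      refine Nat.subtype_card _ ?_
      intro Q
      rw [Finset.mem_compl, Equiv.Perm.mem_support, not_not]
      rfl
    rw [fixN_generator hG P x hPx, Finset.card_compl, ← Nat.card_eq_fintype_card, hG.1] at h3
    have h5 : π.support.card ≤ 22 := by
      calc π.support.card ≤ Fintype.card (Sylow 3 G) := Finset.card_le_univ _
        _ = 22 := by rw [← Nat.card_eq_fintype_card, hG.1]
    omega
  have hct : π.cycleType = Multiset.replicate 7 3 := by
    obtain ⟨n, hn⟩ := Equiv.Perm.cycleType_prime_order (σ := π) (by rw [hord]; norm_num)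
    rw [hord] at hn
    have h1 := Equiv.Perm.sum_cycleType π
    rw [hn, hsupp, Multiset.sum_replicate, smul_eq_mul] at h1
    have : n + 1 = 7 := by omega
    rw [hn, this]
  -- the order of the centraliser
  have hZ : Nat.card (centralizer ({π} : Set (Equiv.Perm (Sylow 3 G)))) = 2187 * 5040 := by
    rw [Equiv.Perm.nat_card_centralizer, hct, ← Nat.card_eq_fintype_card, hG.1]
    simp [Multiset.toFinset_replicate, Multiset.count_replicate_self]
    decide
  have hnot : ¬ centralizer ({π} : Set (Equiv.Perm (Sylow 3 G))) ≤ alternatingGroup (Sylow 3 G) := by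
    intro h
    have := Equiv.Perm.count_le_one_of_centralizer_le_alternating h 3
    rw [hct, Multiset.count_replicate_self] at this
    omega
  have hA := card_centralizer_inf_alternating π hnot
  rw [hZ] at hA
  have hA' : Nat.card ↥(centralizer ({π} : Set (Equiv.Perm (Sylow 3 G))) ⊓
      alternatingGroup (Sylow 3 G)) = 2187 * 2520 := by omega
  -- the centraliser of `P` embeds
  have hmap : (centralizer (P : Set G)).map σ ≤
      centralizer ({π} : Set (Equiv.Perm (Sylow 3 G))) ⊓ alternatingGroup (Sylow 3 G) := by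
    rintro _ ⟨c, hc, rfl⟩
    rw [mem_inf, mem_centralizer_singleton_iff, Equiv.Perm.mem_alternatingGroup]
    constructor
    · rw [hπ, ← map_mul, ← map_mul]
      congr 1
      exact (mem_centralizer_iff.mp hc x hxP).symm
    · have hA : (Nat.card ℤˣ).Coprime 3 := by
        rw [Nat.card_eq_fintype_card]; decide
      exact hom_trivial hG hA (Equiv.Perm.sign.comp σ) c
  have h1 := Subgroup.card_dvd_of_le hmap
  rw [Subgroup.card_map_of_injective hinj, hA'] at h1
  exact h1

theorem card_centralizer_eq (hG : MinCE G) (P : Sylow 3 G) :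
    Nat.card (centralizer (P : Set G)) = 6 := by
  have h1 := card_centralizer_dvd hG P
  have h2 := card_normalizer_eq hG P
  have h3 := card_normalizer_mod hG P
  have hP := card_sylow_three hG P
  -- `3 ∣ |C|`
  have hPC : (P : Subgroup G) ≤ centralizer (P : Set G) := by
    obtain ⟨x, hx, hPx⟩ := exists_generator_sylow_three hG P
    intro a ha
    rw [mem_centralizer_iff]
    intro b hb
    have hb' : b ∈ (P : Subgroup G) := hb
    rw [hPx, mem_zpowers_iff] at hb' ha
    obtain ⟨m, rfl⟩ := ha
    obtain ⟨n, rfl⟩ := hb'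
    exact ((Commute.refl x).zpow_zpow n m).eq
  have h4 : 3 ∣ Nat.card (centralizer (P : Set G)) := by
    have := Subgroup.card_dvd_of_le hPC
    rwa [hP] at this
  -- `9 ∤ |C|`
  have h5 : ¬ 9 ∣ Nat.card (centralizer (P : Set G)) := by
    intro h9
    have h9G : 3 ^ 2 ∣ Nat.card G := h9.trans (Subgroup.card_subgroup_dvd_card _)
    have := (Nat.Prime.pow_dvd_iff_le_factorization (by norm_num : Nat.Prime 3)
      (Nat.card_pos.ne' : Nat.card G ≠ 0)).mp h9G
    have hc := P.card_eq_multiplicity
    rw [hP] at hc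
    have : 3 ^ 2 ≤ 3 ^ (Nat.card G).factorization 3 := Nat.pow_le_pow_right (by norm_num) this
    omega
  -- `5 ∤ |C|`
  have h6 : ¬ 5 ∣ Nat.card (centralizer (P : Set G)) := fun h =>
    five_not_dvd_card hG (h.trans (Subgroup.card_subgroup_dvd_card _))
  obtain ⟨k, hk⟩ := h4
  rw [hk] at h1 h2 h5 h6
  have hk3 : ¬ 3 ∣ k := fun h => h5 (by obtain ⟨j, rfl⟩ := h; exact ⟨j, by ring⟩)
  have hk5 : ¬ 5 ∣ k := fun h => h6 (h.trans (Dvd.intro_left _ rfl))
  have h7 : k ∣ 3 ^ 8 * (5 * 56) := by
    have : 3 * k ∣ 3 * (3 ^ 8 * (5 * 56)) := by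
      have e : 3 * (3 ^ 8 * (5 * 56)) = 2187 * 2520 := by norm_num
      rw [e]; exact h1
    exact Nat.dvd_of_mul_dvd_mul_left (by norm_num) this
  have h8 : k ∣ 5 * 56 :=
    Nat.Coprime.dvd_of_dvd_mul_left
      (Nat.Coprime.pow_right 8 ((Nat.Prime.coprime_iff_not_dvd (by norm_num)).mpr hk3).symm) h7
  have h9 : k ∣ 56 :=
    Nat.Coprime.dvd_of_dvd_mul_left
      ((Nat.Prime.coprime_iff_not_dvd (by norm_num)).mpr hk5).symm h8
  have hle : k ≤ 56 := Nat.le_of_dvd (by norm_num) h9
  rw [h2] at h3
  have hk2 : k = 2 := by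
    interval_cases k <;> omega
  rw [hk, hk2]

theorem card_normalizer_eq_twelve (hG : MinCE G) (P : Sylow 3 G) :
    Nat.card (normalizer (P : Set G)) = 12 := by
  rw [card_normalizer_eq hG P, card_centralizer_eq hG P]

theorem card_sylow11_eq_twelve (hG : MinCE G) : Nat.card (Sylow 11 G) = 12 := by
  rw [card_sylow11_eq hG default, card_normalizer_eq_twelve hG]

end Cfsg.Agent.Helper25.Syl22
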