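import Cfsg.Agent.Helper25.Syl22I

/-!
# S4346, part J: the final contradiction, and the theorem

In a minimal counterexample there are 12 Sylow 11-subgroups, and an involution normalising one
of them acts on these 12 points as an odd permutation.
-/

set_option autoImplicit false
set_option linter.unusedSectionVars false
set_option linter.style.haveILetI false
open Subgroup MulAction MonoidHom

namespace Cfsg.Agent.Helper25.Syl22

universe u

variable {G : Type u} [Group G] [Finite G]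

/-- a nontrivial element of a Sylow 11-subgroup `Y` normalises no other Sylow 11-subgroup -/
theorem eq_one_of_smul_eq (hG : MinCE G) (Y Y₁ : Sylow 11 G) (h : Y₁ ≠ Y) (a : G)
    (ha : a ∈ (Y : Subgroup G)) (hfix : a • Y₁ = Y₁) : a = 1 := by
  by_contra hne
  have hY := card_sylow_eleven hG Y
  have h1 : orderOf a ∣ 11 := by
    have := orderOf_dvd_natCard (⟨a, ha⟩ : (Y : Subgroup G))
    rwa [Subgroup.orderOf_mk, hY] at this
  have h2 : orderOf a = 11 := by
    rcases (Nat.dvd_prime (by norm_num : Nat.Prime 11)).mp h1 with h' | h'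
    · exact absurd (orderOf_eq_one_iff.mp h') hne
    · exact h'
  have h3 : zpowers a = (Y : Subgroup G) := by
    apply Subgroup.eq_of_le_of_card_ge (zpowers_le.mpr ha)
    rw [Nat.card_zpowers, h2, hY]
  rw [Sylow.smul_eq_iff_mem_normalizer] at hfix
  have h4 : (Y : Subgroup G) ≤ normalizer (Y₁ : Set G) := by
    rw [← h3]; exact zpowers_le.mpr hfix
  have h5 := Y.2.inf_normalizer_sylow Y₁
  rw [inf_eq_left.mpr h4] at h5
  have h6 : (Y : Subgroup G) ≤ Y₁ := inf_eq_left.mp h5.symm
  exact h (Sylow.ext (Y.3 Y₁.2 h6))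

/-- `Y` is transitive on the other 11 Sylow 11-subgroups -/
theorem exists_smul_eq_of_ne (hG : MinCE G) (Y Y₁ Y₂ : Sylow 11 G) (h1 : Y₁ ≠ Y) (h2 : Y₂ ≠ Y) :
    ∃ a ∈ (Y : Subgroup G), a • Y₁ = Y₂ := by
  classical
  letI : Fintype (Sylow 11 G) := Fintype.ofFinite _
  letI : Fintype ↥(Y : Subgroup G) := Fintype.ofFinite _
  set f : ↥(Y : Subgroup G) → Sylow 11 G := fun a => (a : G) • Y₁ with hf
  have hinj : Function.Injective f := by
    rintro ⟨a, ha⟩ ⟨b, hb⟩ hab
    have hab' : a • Y₁ = b • Y₁ := hab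
    have h3 : (b⁻¹ * a) • Y₁ = Y₁ := by rw [mul_smul, hab', inv_smul_smul]
    have h4 := eq_one_of_smul_eq hG Y Y₁ h1 (b⁻¹ * a) (mul_mem (inv_mem hb) ha) h3
    apply Subtype.ext
    show a = b
    have : a = b * (b⁻¹ * a) := by group
    rw [this, h4, mul_one]
  have hsub : Finset.univ.image f ⊆ (Finset.univ : Finset (Sylow 11 G)).erase Y := by
    intro Q hQ
    rw [Finset.mem_image] at hQ
    obtain ⟨⟨a, ha⟩, _, rfl⟩ := hQ
    rw [Finset.mem_erase]
    refine ⟨?_, Finset.mem_univ _⟩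
    intro h
    apply h1
    have h3 : a • Y₁ = Y := h
    have h4 : a⁻¹ • Y = Y := by
      rw [Sylow.smul_eq_iff_mem_normalizer]
      exact le_normalizer (inv_mem ha)
    rw [← h4, ← h3, inv_smul_smul]
  have hcard : ((Finset.univ : Finset (Sylow 11 G)).erase Y).card ≤ (Finset.univ.image f).card := by
    rw [Finset.card_image_of_injective _ hinj, Finset.card_erase_of_mem (Finset.mem_univ _),
      Finset.card_univ, Finset.card_univ, ← Nat.card_eq_fintype_card, ← Nat.card_eq_fintype_card,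
      card_sylow11_eq_twelve hG, card_sylow_eleven hG Y]
  have heq := Finset.eq_of_subset_of_card_le hsub hcard
  have hmem : Y₂ ∈ Finset.univ.image f := by
    rw [heq, Finset.mem_erase]
    exact ⟨h2, Finset.mem_univ _⟩
  rw [Finset.mem_image] at hmem
  obtain ⟨⟨a, ha⟩, _, haY⟩ := hmem
  exact ⟨a, ha, haY⟩

/-- an involution normalising `Y` fixes at most one other Sylow 11-subgroup -/
theorem two_fixed_false (hG : MinCE G) (Y : Sylow 11 G) (s : G)
    (hsN : s ∈ normalizer (Y : Set G)) (hs : orderOf s = 2) (Y₁ Y₂ : Sylow 11 G)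
    (h1 : Y₁ ≠ Y) (h2 : Y₂ ≠ Y) (h12 : Y₁ ≠ Y₂) (hf1 : s • Y₁ = Y₁) (hf2 : s • Y₂ = Y₂) :
    False := by
  obtain ⟨a, ha, haY⟩ := exists_smul_eq_of_ne hG Y Y₁ Y₂ h1 h2
  have ha1 : a ≠ 1 := by
    rintro rfl
    rw [one_smul] at haY
    exact h12 haY
  -- `s a s⁻¹ ∈ Y`
  have hconj : s * a * s⁻¹ ∈ (Y : Subgroup G) := by
    have h3 : s * a * s⁻¹ ∈ ((s • Y : Sylow 11 G) : Subgroup G) := by
      rw [Sylow.coe_subgroup_smul]
      exact ⟨a, ha, rfl⟩
    rwa [Sylow.smul_eq_iff_mem_normalizer.mpr hsN] at h3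
  -- `a⁻¹ (s a s⁻¹)` fixes `Y₁`
  have hfix : (a⁻¹ * (s * a * s⁻¹)) • Y₁ = Y₁ := by
    have h3 : s⁻¹ • Y₁ = Y₁ := by rw [inv_smul_eq_iff, hf1]
    rw [mul_smul, mul_smul, mul_smul, h3, haY, hf2, ← haY, inv_smul_smul]
  have h4 := eq_one_of_smul_eq hG Y Y₁ h1 _ (mul_mem (inv_mem ha) hconj) hfix
  have hcomm : s * a = a * s := by
    have h5 : s * a * s⁻¹ = a := by
      have : s * a * s⁻¹ = a * (a⁻¹ * (s * a * s⁻¹)) := by group
      rw [this, h4, mul_one]
    calc s * a = s * a * s⁻¹ * s := by group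
      _ = a * s := by rw [h5]
  -- `Y` is generated by `a`
  have hY := card_sylow_eleven hG Y
  have h6 : orderOf a = 11 := by
    have h1' : orderOf a ∣ 11 := by
      have := orderOf_dvd_natCard (⟨a, ha⟩ : (Y : Subgroup G))
      rwa [Subgroup.orderOf_mk, hY] at this
    rcases (Nat.dvd_prime (by norm_num : Nat.Prime 11)).mp h1' with h' | h'
    · exact absurd (orderOf_eq_one_iff.mp h') ha1
    · exact h'
  have h7 : zpowers a = (Y : Subgroup G) := by
    apply Subgroup.eq_of_le_of_card_ge (zpowers_le.mpr ha)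
    rw [Nat.card_zpowers, h6, hY]
  -- so `s` centralises `Y`
  have hsC : s ∈ centralizer (Y : Set G) := by
    rw [mem_centralizer_iff]
    intro b hb
    have hb' : b ∈ (Y : Subgroup G) := hb
    rw [← h7, mem_zpowers_iff] at hb'
    obtain ⟨n, rfl⟩ := hb'
    have : Commute s a := hcomm
    exact (this.zpow_right n).eq.symm
  have h8 : orderOf s ∣ 11 := by
    have := orderOf_dvd_natCard (⟨s, hsC⟩ : centralizer (Y : Set G))
    rwa [Subgroup.orderOf_mk, card_centralizer_sylow_eleven hG Y] at this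
  rw [hs] at h8
  norm_num at h8

theorem minCE_false (hG : MinCE G) : False := by
  classical
  letI : Fintype (Sylow 11 G) := Fintype.ofFinite _
  let Y : Sylow 11 G := default
  have hN := card_normalizer_sylow_eleven hG Y
  obtain ⟨⟨s, hsN⟩, hs⟩ :=
    exists_prime_orderOf_dvd_card' (G := normalizer (Y : Set G)) 2 (by rw [hN]; norm_num)
  rw [Subgroup.orderOf_mk] at hs
  have hs2 : s ^ 2 = 1 := by rw [← hs]; exact pow_orderOf_eq_one s
  set π : Equiv.Perm (Sylow 11 G) := MulAction.toPermHom G (Sylow 11 G) s with hπ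
  have h2 : π ^ 2 = 1 := by rw [hπ, ← map_pow, hs2, map_one]
  have hsign : Equiv.Perm.sign π = 1 := by
    have hA : (Nat.card ℤˣ).Coprime 3 := by
      rw [Nat.card_eq_fintype_card]; decide
    exact hom_trivial hG hA (Equiv.Perm.sign.comp (MulAction.toPermHom G (Sylow 11 G))) s
  have h4 := Helper27.Syl21.card_support_of_sq_eq_one π h2 hsign
  have hfixmem : ∀ Q : Sylow 11 G, Q ∈ π.supportᶜ ↔ s • Q = Q := by
    intro Q
    rw [Finset.mem_compl, Equiv.Perm.mem_support, not_not]
    rfl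
  have hYfix : Y ∈ π.supportᶜ := by
    rw [hfixmem, Sylow.smul_eq_iff_mem_normalizer]; exact hsN
  -- at most two fixed points
  have hle : (π.supportᶜ).card ≤ 2 := by
    by_contra hgt
    have h3 : 1 < ((π.supportᶜ).erase Y).card := by
      rw [Finset.card_erase_of_mem hYfix]; omega
    rw [Finset.one_lt_card] at h3
    obtain ⟨Y₁, hY₁, Y₂, hY₂, h12⟩ := h3
    rw [Finset.mem_erase, hfixmem] at hY₁ hY₂
    exact two_fixed_false hG Y s hsN hs Y₁ Y₂ hY₁.1 hY₂.1 h12 hY₁.2 hY₂.2
  have hpos : 1 ≤ (π.supportᶜ).card := Finset.card_pos.mpr ⟨Y, hYfix⟩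
  have hcompl := Finset.card_compl π.support
  rw [← Nat.card_eq_fintype_card, card_sylow11_eq_twelve hG] at hcompl
  have hsupple : π.support.card ≤ 12 := by
    calc π.support.card ≤ Fintype.card (Sylow 11 G) := Finset.card_le_univ _
      _ = 12 := by rw [← Nat.card_eq_fintype_card, card_sylow11_eq_twelve hG]
  omega

/-- **No finite group has exactly 22 Sylow 3-subgroups.** -/
theorem card_sylow3_ne_22 : ∀ (n : ℕ) (G : Type u) [Group G] [Finite G], Nat.card G = n →
    Nat.card (Sylow 3 G) ≠ 22 := by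
  intro n
  induction n using Nat.strong_induction_on with
  | _ n ih =>
    intro G _ _ hn h22
    exact minCE_false ⟨h22, fun H _ _ hlt => ih (Nat.card H) (hn ▸ hlt) H rfl⟩

end Cfsg.Agent.Helper25.Syl22
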