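import Mathlib
import Cfsg.Agent.Lead.Coprime2

set_option autoImplicit false
set_option linter.style.haveILetI false

/-! S3797 (Thompson): basic lemmas for the assembly. -/

namespace Cfsg.Agent.Helper25.Th

open Subgroup

section basic

variable {X : Type*} [Group X]

/-- A nontrivial element killed by a power of two has a power which is an involution. -/
theorem exists_invol_pow {x : X} {k : ℕ} (hk : x ^ 2 ^ k = 1) (hx : x ≠ 1) :
    ∃ j : ℕ, x ^ 2 ^ j ≠ 1 ∧ (x ^ 2 ^ j) ^ 2 = 1 := by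
  induction k with
  | zero => exact absurd (by simpa using hk) hx
  | succ k ih =>
    by_cases h : x ^ 2 ^ k = 1
    · exact ih h
    · exact ⟨k, h, by rw [← pow_mul, ← pow_succ]; exact hk⟩

/-- `Ω₁(Z(T))` for a subgroup `T`, as a subgroup of the ambient group. -/
def omegaZ (T : Subgroup X) : Subgroup X where
  carrier := {a | a ∈ T ∧ (∀ s ∈ T, a * s = s * a) ∧ a ^ 2 = 1}
  one_mem' := ⟨T.one_mem, fun s _ => by rw [one_mul, mul_one], one_pow 2⟩
  mul_mem' := by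
    rintro a b ⟨ha, hac, ha2⟩ ⟨hb, hbc, hb2⟩
    refine ⟨T.mul_mem ha hb, ?_, ?_⟩
    · intro s hs
      rw [mul_assoc, hbc s hs, ← mul_assoc, hac s hs, mul_assoc]
    · have hab : a * b = b * a := hac b hb
      calc (a * b) ^ 2 = a * (b * a) * b := by rw [pow_two]; group
        _ = a * (a * b) * b := by rw [hab]
        _ = a ^ 2 * b ^ 2 := by rw [pow_two, pow_two]; group
        _ = 1 := by rw [ha2, hb2, one_mul]
  inv_mem' := by
    rintro a ⟨ha, hac, ha2⟩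
    refine ⟨T.inv_mem ha, ?_, ?_⟩
    · intro s hs
      have := hac s hs
      calc a⁻¹ * s = a⁻¹ * (s * a) * a⁻¹ := by group
        _ = a⁻¹ * (a * s) * a⁻¹ := by rw [this]
        _ = s * a⁻¹ := by group
    · rw [inv_pow, ha2, inv_one]

theorem mem_omegaZ {T : Subgroup X} {a : X} :
    a ∈ omegaZ T ↔ a ∈ T ∧ (∀ s ∈ T, a * s = s * a) ∧ a ^ 2 = 1 := Iff.rfl

theorem omegaZ_le (T : Subgroup X) : omegaZ T ≤ T := fun _ h => h.1

theorem omegaZ_conj_mem {T : Subgroup X} {w : X}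
    (hw : ∀ s ∈ T, w * s * w⁻¹ ∈ T) (hw' : ∀ s ∈ T, w⁻¹ * s * w ∈ T)
    {a : X} (ha : a ∈ omegaZ T) : w * a * w⁻¹ ∈ omegaZ T := by
  obtain ⟨haT, hac, ha2⟩ := ha
  refine ⟨hw a haT, ?_, ?_⟩
  · intro s hs
    have h1 := hac _ (hw' s hs)
    calc w * a * w⁻¹ * s = w * (a * (w⁻¹ * s * w)) * w⁻¹ := by group
      _ = w * ((w⁻¹ * s * w) * a) * w⁻¹ := by rw [h1]
      _ = s * (w * a * w⁻¹) := by group
  · calc (w * a * w⁻¹) ^ 2 = w * a ^ 2 * w⁻¹ := by rw [pow_two, pow_two]; group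
      _ = 1 := by rw [ha2]; group

theorem omegaZ_ne_bot [Finite X] {T : Subgroup X} (hT : IsPGroup 2 T) (hne : T ≠ ⊥) :
    ∃ a ∈ omegaZ T, a ≠ 1 := by
  haveI : Fact (Nat.Prime 2) := ⟨Nat.prime_two⟩
  haveI : Nontrivial T := (Subgroup.nontrivial_iff_ne_bot T).mpr hne
  haveI := hT.center_nontrivial
  obtain ⟨z, hz⟩ := exists_ne (1 : Subgroup.center T)
  obtain ⟨k, hk⟩ := hT (z : T)
  have hz1 : ((z : T) : X) ≠ 1 := by
    intro h
    apply hz
    ext
    exact h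
  have hk' : ((z : T) : X) ^ 2 ^ k = 1 := by
    have := congrArg (fun t : T => (t : X)) hk
    simpa using this
  obtain ⟨j, hj1, hj2⟩ := exists_invol_pow hk' hz1
  refine ⟨((z : T) : X) ^ 2 ^ j, ⟨?_, ?_, hj2⟩, hj1⟩
  · exact T.pow_mem (z : T).2 _
  · intro s hs
    have hzc : (z : T) ∈ Subgroup.center T := z.2
    have h1 : (⟨s, hs⟩ : T) * (z : T) = (z : T) * ⟨s, hs⟩ := (Subgroup.mem_center_iff.mp hzc) ⟨s, hs⟩
    have h2 : s * ((z : T) : X) = ((z : T) : X) * s := congrArg (fun t : T => (t : X)) h1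
    have h3 : Commute ((z : T) : X) s := h2.symm
    exact (h3.pow_left _).eq

end basic

end Cfsg.Agent.Helper25.Th
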