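import Mathlib
import Cfsg.Agent.Helper25.ThCoreA
import Cfsg.Agent.Helper25.ThDefs

set_option autoImplicit false
set_option linter.style.haveILetI false

/-! S3797 (Thompson): the contradiction from `S > Q`. -/

namespace Cfsg.Agent.Helper25.Th

open Subgroup

variable {H : Type*} [Group H]

/-- Fixed points of `y ^ i` on `S / Q` lift (coprime action). -/
theorem fpf_quotient [Finite H] (Q : Subgroup H) [Q.Normal] (S : Sylow 2 H) (hQS : Q ≤ S)
    (y : H) (hyN : y ∈ normalizer ((S : Subgroup H) : Set H)) (hyodd : Odd (orderOf y)) (i : ℕ)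
    (hfix : ∀ s ∈ (S : Subgroup H), y ^ i * s = s * y ^ i → s = 1)
    (s : H) (hs : s ∈ (S : Subgroup H))
    (hcomm : (QuotientGroup.mk' Q (y ^ i)) * QuotientGroup.mk' Q s =
      QuotientGroup.mk' Q s * QuotientGroup.mk' Q (y ^ i)) : s ∈ Q := by
  haveI : Fact (Nat.Prime 2) := ⟨Nat.prime_two⟩
  set g := y ^ i with hg
  have hgN : g ∈ normalizer ((S : Subgroup H) : Set H) := pow_mem hyN i
  have hAK : zpowers g ≤ normalizer ((S : Subgroup H) : Set H) := by
    rw [zpowers_le]; exact hgN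
  have hodd_g : Odd (orderOf g) := by
    have : orderOf g ∣ orderOf y := orderOf_pow_dvd i
    exact Odd.of_dvd_nat hyodd this
  have hcop : (Nat.card (zpowers g)).Coprime (Nat.card (S : Subgroup H)) := by
    rw [Nat.card_zpowers]
    obtain ⟨k, hk⟩ := (IsPGroup.iff_card.mp S.isPGroup')
    rw [hk]
    exact Nat.Coprime.pow_right _ (Nat.coprime_two_right.mpr hodd_g)
  have hsolv : Group.IsSolvable (zpowers g) ∨ Group.IsSolvable (S : Subgroup H) := by
    left
    infer_instance
  have hNK : Q ≤ (S : Subgroup H) := hQS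
  have hNn : (S : Subgroup H) ≤ normalizer (Q : Set H) := by
    rw [normalizer_eq_top]; exact le_top
  have hNA : zpowers g ≤ normalizer (Q : Set H) := by
    rw [normalizer_eq_top]; exact le_top
  have hfix' : ∀ a ∈ zpowers g, a * s * a⁻¹ * s⁻¹ ∈ Q := by
    intro a ha
    obtain ⟨z, rfl⟩ := mem_zpowers_iff.mp ha
    rw [← QuotientGroup.ker_mk' Q, MonoidHom.mem_ker]
    have hc : Commute (QuotientGroup.mk' Q g) (QuotientGroup.mk' Q s) := hcomm
    have hc' : Commute ((QuotientGroup.mk' Q g) ^ z) (QuotientGroup.mk' Q s) := hc.zpow_left z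
    simp only [map_mul, map_inv, map_zpow]
    rw [hc'.eq]; group
  obtain ⟨c, hc, hcQ⟩ := Cfsg.Agent.Lead.coprime_fixed_points_quotient (zpowers g) (S : Subgroup H)
    hAK hcop hsolv Q hNK hNn hNA s hs hfix'
  have hcS : c ∈ (S : Subgroup H) := hc.1
  have hcc : g * c = c * g := by
    have h2 : c ∈ centralizer ((zpowers g : Subgroup H) : Set H) := hc.2
    rw [mem_centralizer_iff] at h2
    exact h2 g (mem_zpowers g)
  have hc1 : c = 1 := hfix c hcS hcc
  rw [hc1, mul_one] at hcQ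
  exact (Subgroup.inv_mem_iff Q).mp hcQ

end Cfsg.Agent.Helper25.Th

namespace Cfsg.Agent.Helper25.Th

open Subgroup

variable {H : Type*} [Group H]

/-- conjugation by an element normalizing `T` preserves the subgroup generated by the
`r`-elements of `T`. -/
theorem conj_mem_rclosure (T : Subgroup H) (r : ℕ) {g : H}
    (hg : ∀ x ∈ T, g * x * g⁻¹ ∈ T) {x : H}
    (hx : x ∈ closure {t : H | t ∈ T ∧ ∃ j : ℕ, t ^ (r ^ j) = 1}) :
    g * x * g⁻¹ ∈ closure {t : H | t ∈ T ∧ ∃ j : ℕ, t ^ (r ^ j) = 1} := by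
  induction hx using closure_induction with
  | mem t ht =>
    apply Subgroup.subset_closure
    refine ⟨hg t ht.1, ?_⟩
    obtain ⟨j, hj⟩ := ht.2
    refine ⟨j, ?_⟩
    rw [conj_pow, hj]; group
  | one => simp
  | mul a b _ _ iha ihb =>
    have : g * (a * b) * g⁻¹ = (g * a * g⁻¹) * (g * b * g⁻¹) := by group
    rw [this]; exact mul_mem iha ihb
  | inv a _ iha =>
    have : g * a⁻¹ * g⁻¹ = (g * a * g⁻¹)⁻¹ := by group
    rw [this]; exact inv_mem iha

theorem rclosure_le (T : Subgroup H) (r : ℕ) :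
    closure {t : H | t ∈ T ∧ ∃ j : ℕ, t ^ (r ^ j) = 1} ≤ T := by
  rw [closure_le]; intro t ht; exact ht.1

theorem rclosure_gen (T : Subgroup H) (r : ℕ) :
    closure {t : H | t ∈ T ∧ ∃ j : ℕ, t ^ (r ^ j) = 1} =
      closure {g : H | g ∈ closure {t : H | t ∈ T ∧ ∃ j : ℕ, t ^ (r ^ j) = 1} ∧
        ∃ j : ℕ, g ^ (r ^ j) = 1} := by
  apply le_antisymm
  · rw [closure_le]
    intro t ht
    exact Subgroup.subset_closure ⟨Subgroup.subset_closure ht, ht.2⟩
  · rw [closure_le]
    intro t ht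
    exact ht.1

end Cfsg.Agent.Helper25.Th
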