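import Mathlib
import Cfsg.Agent.Helper25.ThCoreB
import Cfsg.Agent.Helper20.ThEIG
import Cfsg.Agent.Helper13.ThUPPER
import Cfsg.Agent.Helper16.ThFaith
import Cfsg.Agent.Helper9.ThMINR
import Cfsg.Agent.Helper12.ThSECTION

set_option autoImplicit false
set_option linter.style.haveILetI false
set_option maxHeartbeats 1600000

/-! S3797 (Thompson): the contradiction from `S > Q` (assembly of the pieces). -/

namespace Cfsg.Agent.Helper25.Th

open Subgroup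

variable {H : Type*} [Group H]

theorem core_contra [Finite H] (hsol : Group.IsSolvable H) (Q V : Subgroup H)
    [hQn : Q.Normal] [hVn : V.Normal]
    (hQ2 : IsPGroup 2 Q) (hCQ : centralizer (Q : Set H) ≤ Q)
    (O : Subgroup (H ⧸ Q)) [hOn : O.Normal] (hOodd : Odd (Nat.card O))
    (hCO : centralizer (O : Set (H ⧸ Q)) ≤ O)
    (n : ℕ) (hcard : Nat.card V = 2 ^ n)
    (hVQ : V ≤ Q) (hVZ : ∀ v ∈ V, ∀ q ∈ Q, v * q = q * v) (hV2 : ∀ v ∈ V, v ^ 2 = 1)
    (hinv : ∀ x : H, x ^ 2 = 1 → x ∈ V)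
    (S : Sylow 2 H) (hQS : Q ≤ (S : Subgroup H)) (hne : Q ≠ (S : Subgroup H))
    (hSC : (S : Subgroup H) ≤ centralizer (V : Set H))
    (htrans : ∀ v ∈ V, ∀ w ∈ V, v ≠ 1 → w ≠ 1 →
      ∃ g ∈ normalizer ((S : Subgroup H) : Set H), g * v * g⁻¹ = w)
    (y : H) (hyN : y ∈ normalizer ((S : Subgroup H) : Set H)) (hyodd : Odd (orderOf y))
    (hyfpf : ∀ i : ℕ, 0 < i → i ≤ n →
      ∀ s ∈ (S : Subgroup H), y ^ i * s = s * y ^ i → s = 1) :
    False := by
  classical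
  haveI : Fact (Nat.Prime 2) := ⟨Nat.prime_two⟩
  set π : H →* H ⧸ Q := QuotientGroup.mk' Q with hπ
  have hπs : Function.Surjective π := QuotientGroup.mk'_surjective Q
  have hker : ∀ g : H, π g = 1 ↔ g ∈ Q := fun g => QuotientGroup.eq_one_iff g
  set NS := normalizer ((S : Subgroup H) : Set H) with hNS
  set Sb := (S : Subgroup H).map π with hSb
  set A := omegaZ Sb with hA
  set W := NS.map π with hW
  have hSNS : (S : Subgroup H) ≤ NS := le_normalizer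
  have hNS1 : ∀ g ∈ NS, ∀ s ∈ (S : Subgroup H), g * s * g⁻¹ ∈ (S : Subgroup H) :=
    fun g hg s hs => (mem_normalizer_iff.mp hg s).mp hs
  have hNS2 : ∀ g ∈ NS, ∀ s ∈ (S : Subgroup H), g⁻¹ * s * g ∈ (S : Subgroup H) := by
    intro g hg s hs
    have := hNS1 g⁻¹ (inv_mem hg) s hs
    simpa using this
  -- the quotient Sylow is a nontrivial 2-group
  have hSb2 : IsPGroup 2 Sb := S.isPGroup'.map π
  have hSbne : Sb ≠ ⊥ := by
    intro h
    apply hne
    apply le_antisymm hQS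
    intro s hs
    have : π s ∈ Sb := mem_map_of_mem π hs
    rw [h, mem_bot] at this
    exact (hker s).mp this
  obtain ⟨a0, ha0A, ha01⟩ := omegaZ_ne_bot hSb2 hSbne
  have hASb : A ≤ Sb := omegaZ_le Sb
  have hSbW : Sb ≤ W := map_mono hSNS
  have hAW : A ≤ W := hASb.trans hSbW
  have hWSb1 : ∀ w ∈ W, ∀ s ∈ Sb, w * s * w⁻¹ ∈ Sb := by
    rintro w ⟨g, hg, rfl⟩ s ⟨t, ht, rfl⟩
    exact ⟨g * t * g⁻¹, hNS1 g hg t ht, by simp⟩
  have hWSb2 : ∀ w ∈ W, ∀ s ∈ Sb, w⁻¹ * s * w ∈ Sb := by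
    rintro w ⟨g, hg, rfl⟩ s ⟨t, ht, rfl⟩
    exact ⟨g⁻¹ * t * g, hNS2 g hg t ht, by simp⟩
  have hWA : ∀ w ∈ W, ∀ a ∈ A, w * a * w⁻¹ ∈ A := fun w hw a ha =>
    omegaZ_conj_mem (hWSb1 w hw) (hWSb2 w hw) ha
  have hWO : ∀ w ∈ W, ∀ x ∈ O, w * x * w⁻¹ ∈ O := fun w _ x hx => hOn.conj_mem x hx w
  have hA2 : IsPGroup 2 A := hSb2.to_le hASb
  have hAsq : ∀ a ∈ A, a ^ 2 = 1 := fun a ha => ha.2.2
  have hsolX : Group.IsSolvable (H ⧸ Q) := inferInstance
  -- A does not centralize O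
  have hnt : ∃ x ∈ O, ∃ a ∈ A, a * x ≠ x * a := by
    by_contra hcon
    push Not at hcon
    have ha0C : a0 ∈ centralizer (O : Set (H ⧸ Q)) := by
      rw [mem_centralizer_iff]
      intro x hx
      exact (hcon x hx a0 ha0A).symm
    have ha0O : a0 ∈ O := hCO ha0C
    have h2 : orderOf a0 = 2 := by
      apply orderOf_eq_prime (hAsq a0 ha0A) ha01
    have hdvd : orderOf (⟨a0, ha0O⟩ : O) ∣ Nat.card O := orderOf_dvd_natCard _
    rw [Subgroup.orderOf_mk, h2] at hdvd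
    exact (Nat.not_even_iff_odd.mpr hOodd) (even_iff_two_dvd.mpr hdvd)
  obtain ⟨r, R, hrp, hr2, hRO, hRr, hWR, hmin, hntR, hRM⟩ :=
    Cfsg.Agent.Helper9.Th.exists_minimal_rgroup hsolX O A W hOodd hA2 hAW hWA hWO hnt
  haveI : Fact r.Prime := ⟨hrp⟩
  -- the element y in the quotient
  have hyW : π y ∈ W := mem_map_of_mem π hyN
  have hyodd' : Odd (orderOf (π y)) := Odd.of_dvd_nat hyodd (orderOf_map_dvd π y)
  have hym : ∀ i : ℕ, 0 < i → i ≤ n → ∀ a ∈ A, (π y) ^ i * a = a * (π y) ^ i → a = 1 := by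
    intro i hi hin a ha hc
    obtain ⟨s, hs, rfl⟩ := hASb ha
    rw [← map_pow] at hc
    have hsQ : s ∈ Q := fpf_quotient Q S hQS y hyN hyodd i (hyfpf i hi hin) s hs hc
    exact (hker s).mpr hsQ
  obtain ⟨E, Φ, hΦE, hER, hEcomm, hEexp, hEidx, hEK⟩ :=
    Cfsg.Agent.Helper20.Th.exists_abelian_eigen r hr2 R A W hRr hAsq hAW hWA hWR hmin hntR
      (π y) hyW hyodd' n hym
  -- back in H
  set RH := R.comap π with hRH
  set T : Set H := {t : H | t ∈ RH ∧ ∃ j : ℕ, t ^ (r ^ j) = 1} with hT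
  set N := closure T with hN
  set H1 := RH ⊔ NS with hH1
  have hQRH : Q ≤ RH := by
    intro q hq
    show π q ∈ R
    rw [(hker q).mpr hq]; exact R.one_mem
  have hNRH : N ≤ RH := rclosure_le RH r
  have hRH1 : RH ≤ H1 := le_sup_left
  have hNSH1 : NS ≤ H1 := le_sup_right
  -- H1 normalizes RH
  have hH1RH : ∀ g ∈ H1, ∀ x ∈ RH, g * x * g⁻¹ ∈ RH := by
    have hle : H1 ≤ normalizer (RH : Set H) := by
      apply sup_le le_normalizer
      intro g hg
      rw [mem_normalizer_iff]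
      intro x
      constructor
      · intro hx
        show π (g * x * g⁻¹) ∈ R
        have := hWR (π g) (mem_map_of_mem π hg) (π x) hx
        simpa using this
      · intro hx
        have h1 : π (g * x * g⁻¹) ∈ R := hx
        have := hWR (π g⁻¹) (mem_map_of_mem π (inv_mem hg)) _ h1
        have h2 : π g⁻¹ * π (g * x * g⁻¹) * (π g⁻¹)⁻¹ = π x := by
          simp only [map_mul, map_inv]; group
        rw [h2] at this
        exact this
    intro g hg x hx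
    exact (mem_normalizer_iff.mp (hle hg) x).mp hx
  have hQn' : ∀ g ∈ H1, ∀ x ∈ Q, g * x * g⁻¹ ∈ Q := fun g _ x hx => hQn.conj_mem x hx g
  have hVn' : ∀ g ∈ H1, ∀ x ∈ V, g * x * g⁻¹ ∈ V := fun g _ x hx => hVn.conj_mem x hx g
  have hNn' : ∀ g ∈ H1, ∀ x ∈ N, g * x * g⁻¹ ∈ N := fun g hg x hx =>
    conj_mem_rclosure RH r (hH1RH g hg) hx
  have hirr : ∀ V0 : Subgroup H, V0 ≤ V → (∀ g ∈ H1, ∀ x ∈ V0, g * x * g⁻¹ ∈ V0) →
      V0 = ⊥ ∨ V0 = V := by
    intro V0 hV0 hinvt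
    by_cases hbot : V0 = ⊥
    · exact Or.inl hbot
    · right
      obtain ⟨v0, hv01⟩ := (Subgroup.ne_bot_iff_exists_ne_one).mp hbot
      have hv0' : (v0 : H) ≠ 1 := fun h => hv01 (Subtype.ext h)
      apply le_antisymm hV0
      intro w hw
      by_cases hw1 : w = 1
      · rw [hw1]; exact V0.one_mem
      · obtain ⟨g, hg, hgw⟩ := htrans v0 (hV0 v0.2) w hw hv0' hw1
        rw [← hgw]
        exact hinvt g (hNSH1 hg) v0 v0.2
  -- R_H centralizes V
  have hCVn : (centralizer (V : Set H)).Normal := inferInstance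
  have hQCV : Q ≤ centralizer (V : Set H) := by
    intro q hq
    rw [mem_centralizer_iff]
    intro v hv
    exact hVZ v hv q hq
  have hRHC : RH ≤ centralizer (V : Set H) := by
    have hMn : ((centralizer (V : Set H)).map π).Normal := hCVn.map π hπs
    have hAM : A ≤ (centralizer (V : Set H)).map π := hASb.trans (map_mono hSC)
    have hRM' := hRM _ hMn hAM
    intro g hg
    obtain ⟨c, hc, hcg⟩ := hRM' hg
    have : c⁻¹ * g ∈ Q := by
      rw [← hker]; simp [hcg]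
    have h2 : g = c * (c⁻¹ * g) := by group
    rw [h2]
    exact mul_mem hc (hQCV this)
  have hNV : ∀ g ∈ N, ∀ v ∈ V, g * v = v * g := by
    intro g hg v hv
    have := hRHC (hNRH hg)
    rw [mem_centralizer_iff] at this
    exact (this v hv).symm
  -- N does not centralize Q
  have hNQ : ∃ g ∈ N, ∃ x ∈ Q, g * x ≠ x * g := by
    obtain ⟨x, hxR, a, haA, hax⟩ := hntR
    have hx1 : x ≠ 1 := by
      rintro rfl
      exact hax (by rw [mul_one, one_mul])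
    obtain ⟨g0, rfl⟩ := hπs x
    obtain ⟨j, hj⟩ := hRr ⟨π g0, hxR⟩
    have hj' : (π g0) ^ (r ^ j) = 1 := by
      have := congrArg (fun t : R => (t : H ⧸ Q)) hj
      simpa using this
    have hg0Q : g0 ^ (r ^ j) ∈ Q := by rw [← hker, map_pow]; exact hj'
    obtain ⟨q, hq⟩ := hQ2 ⟨g0 ^ (r ^ j), hg0Q⟩
    have hq' : (g0 ^ (r ^ j)) ^ (2 ^ q) = 1 := by
      have := congrArg (fun t : Q => (t : H)) hq
      simpa using this
    set g := g0 ^ (2 ^ q) with hg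
    have hgr : g ^ (r ^ j) = 1 := by
      rw [hg, ← pow_mul, mul_comm, pow_mul]; exact hq'
    have hgRH : g ∈ RH := pow_mem (show g0 ∈ RH from hxR) _
    have hgN : g ∈ N := Subgroup.subset_closure ⟨hgRH, j, hgr⟩
    have hgQ : g ∉ Q := by
      intro hgQ
      have h1 : (π g0) ^ (2 ^ q) = 1 := by rw [← map_pow]; exact (hker _).mpr hgQ
      have hd1 : orderOf (π g0) ∣ 2 ^ q := orderOf_dvd_of_pow_eq_one h1
      have hd2 : orderOf (π g0) ∣ r ^ j := orderOf_dvd_of_pow_eq_one hj'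
      have hcop : Nat.Coprime (2 ^ q) (r ^ j) := by
        apply Nat.Coprime.pow
        exact (Nat.coprime_primes Nat.prime_two hrp).mpr (Ne.symm hr2)
      have : orderOf (π g0) = 1 := Nat.eq_one_of_dvd_coprimes hcop hd1 hd2
      exact hx1 (orderOf_eq_one_iff.mp this)
    by_contra hcon
    push Not at hcon
    apply hgQ
    apply hCQ
    rw [mem_centralizer_iff]
    intro x hx
    exact (hcon g hgN x hx).symm
  obtain ⟨Qm, hQmQ, hVQm, hQmn, hQmc, hQmsq, hQmQ', g1, hg1N, x1, hx1Qm, hg1x1⟩ :=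
    Cfsg.Agent.Helper12.Th.exists_section H1 Q V N (hQRH.trans hRH1) (hNRH.trans hRH1)
      hQn' hVn' hNn' hQ2 hVQ hV2 (fun x _ hx => hinv x hx) hirr r hr2 (rclosure_gen RH r) hNV hNQ
  -- upper bound
  have hup : V.relIndex Qm ≤ 4 ^ n :=
    Cfsg.Agent.Helper13.Th.relIndex_le_of_anisotropic Qm V hVQm n hcard hQmc hQmsq
      (fun x _ hx => hinv x hx)
  -- the kernel of the action of R_H on Qm / V
  have hact_mul : ∀ g h : H, (∀ x ∈ Qm, g * x * g⁻¹ * x⁻¹ ∈ V) → (∀ x ∈ Qm, h * x * h⁻¹ * x⁻¹ ∈ V) →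
      ∀ x ∈ Qm, (g * h) * x * (g * h)⁻¹ * x⁻¹ ∈ V := by
    intro g h hg hh x hx
    have h1 : (g * h) * x * (g * h)⁻¹ * x⁻¹ =
        (g * (h * x * h⁻¹ * x⁻¹) * g⁻¹) * (g * x * g⁻¹ * x⁻¹) := by group
    rw [h1]
    exact mul_mem (hVn.conj_mem _ (hh x hx) g) (hg x hx)
  have hQact : ∀ q ∈ Q, ∀ x ∈ Qm, q * x * q⁻¹ * x⁻¹ ∈ V := by
    intro q hq x hx
    have := hQmQ' x hx q hq
    have h1 : q * x * q⁻¹ * x⁻¹ = (x * q * x⁻¹ * q⁻¹)⁻¹ := by group
    rw [h1]; exact inv_mem this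
  let KH : Subgroup H :=
    { carrier := {g | g ∈ RH ∧ ∀ x ∈ Qm, g * x * g⁻¹ * x⁻¹ ∈ V}
      one_mem' := ⟨RH.one_mem, fun x _ => by simp⟩
      mul_mem' := fun {g h} hg hh => ⟨RH.mul_mem hg.1 hh.1, hact_mul g h hg.2 hh.2⟩
      inv_mem' := by
        rintro g ⟨hgR, hg⟩
        refine ⟨RH.inv_mem hgR, ?_⟩
        intro x hx
        have hx' : g⁻¹ * x * g ∈ Qm := by
          have := hQmn g⁻¹ (hRH1 (RH.inv_mem hgR)) x hx
          simpa using this
        have := hg _ hx'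
        have h1 : g⁻¹ * x * g⁻¹⁻¹ * x⁻¹ = (g * (g⁻¹ * x * g) * g⁻¹ * (g⁻¹ * x * g)⁻¹)⁻¹ := by group
        rw [h1]; exact inv_mem this }
  have hKHmem : ∀ g, g ∈ KH ↔ g ∈ RH ∧ ∀ x ∈ Qm, g * x * g⁻¹ * x⁻¹ ∈ V := fun g => Iff.rfl
  have hQKH : Q ≤ KH := fun q hq => ⟨hQRH hq, hQact q hq⟩
  set K := KH.map π with hK
  have hKR : K ≤ R := by
    rintro _ ⟨g, hg, rfl⟩
    exact hg.1
  have hKne : K ≠ R := by
    intro hKR'
    have hg1R : π g1 ∈ R := hNRH hg1N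
    rw [← hKR'] at hg1R
    obtain ⟨k, hk, hkg⟩ := hg1R
    have : k⁻¹ * g1 ∈ Q := by rw [← hker]; simp [hkg]
    have h2 : g1 = k * (k⁻¹ * g1) := by group
    have hg1KH : g1 ∈ KH := by rw [h2]; exact mul_mem hk (hQKH this)
    exact hg1x1 (hg1KH.2 x1 hx1Qm)
  have hKW : ∀ w ∈ W, ∀ x ∈ K, w * x * w⁻¹ ∈ K := by
    rintro w ⟨h, hh, rfl⟩ x ⟨k, hk, rfl⟩
    refine ⟨h * k * h⁻¹, ⟨hH1RH h (hNSH1 hh) k hk.1, ?_⟩, by simp⟩
    intro x hx
    have hx' : h⁻¹ * x * h ∈ Qm := by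
      have := hQmn h⁻¹ (hNSH1 (inv_mem hh)) x hx
      simpa using this
    have := hk.2 _ hx'
    have h1 : h * k * h⁻¹ * x * (h * k * h⁻¹)⁻¹ * x⁻¹ =
        h * (k * (h⁻¹ * x * h) * k⁻¹ * (h⁻¹ * x * h)⁻¹) * h⁻¹ := by group
    rw [h1]
    exact hVn.conj_mem _ this h
  have hKE : K ⊓ E ≤ Φ := hEK K hKR hKne hKW
  -- apply FAITH
  set EH := E.comap π with hEH
  set ΦH := Φ.comap π with hΦH
  have hEHRH : EH ≤ RH := comap_mono hER
  have hlow : 4 ^ (n + 1) ≤ V.relIndex Qm := by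
    apply Cfsg.Agent.Helper16.Th.le_relIndex_of_faithful Qm V EH ΦH hVQm hQmc hQmsq
      (fun a ha x hx => hQmn a (hRH1 (hEHRH ha)) x hx)
      (fun a _ v hv => hVn.conj_mem v hv a) r hr2
    · -- hcomm
      intro a ha b hb x hx
      apply hQact _ _ x hx
      rw [← hker]
      have : π a * π b = π b * π a := hEcomm _ ha _ hb
      simp only [map_mul, map_inv]
      rw [this]; group
    · -- hrpow
      intro a ha
      obtain ⟨j, hj⟩ := hRr ⟨π a, hER ha⟩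
      have hj' : (π a) ^ (r ^ j) = 1 := by
        have := congrArg (fun t : R => (t : H ⧸ Q)) hj
        simpa using this
      refine ⟨j, fun x hx => hQact _ ?_ x hx⟩
      rw [← hker, map_pow]; exact hj'
    · exact comap_mono hΦE
    · -- hker
      intro a ha hact
      have haK : π a ∈ K := mem_map_of_mem π (⟨hEHRH ha, hact⟩ : a ∈ KH)
      exact hKE ⟨haK, ha⟩
    · -- hexp
      intro a ha
      show π (a ^ r) ∈ Φ
      rw [map_pow]; exact hEexp _ ha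
    · -- index
      have : ΦH.relIndex EH = Φ.relIndex E := by
        rw [hΦH, hEH, relIndex_comap, map_comap_eq_self_of_surjective hπs]
      rw [this]; exact hEidx
  have : (4 : ℕ) ^ (n + 1) ≤ 4 ^ n := hlow.trans hup
  have h4 : (4 : ℕ) ^ n < 4 ^ (n + 1) := Nat.pow_lt_pow_right (by norm_num) (Nat.lt_succ_self n)
  omega

end Cfsg.Agent.Helper25.Th
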