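import Mathlib
import Cfsg.Prelude.Def_Local
import Cfsg.Agent.Helper25.ThCoreC
import Cfsg.Agent.Helper18.ThGL1
import Cfsg.Agent.Helper28.ThCENT
import Cfsg.Agent.Helper23.ThYEX
import Cfsg.Agent.Helper14.PCore
import Cfsg.Agent.Helper14.Irreducible4
import Cfsg.Agent.Helper7.Fitting
import Cfsg.Agent.Helper7.FStar
import Cfsg.Agent.Helper7.FStarComm
import Cfsg.Agent.Helper7.SL23
import Cfsg.Agent.Helper23.HallHigman
import Cfsg.Agent.Helper10.SolvPSolv

set_option autoImplicit false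
set_option linter.style.haveILetI false
set_option maxHeartbeats 1600000

/-! S3797 (Thompson): the main theorem for `H = G / O(G)`. -/

namespace Cfsg.Agent.Helper25.Th

open Subgroup

theorem main_core {H : Type*} [Group H] [Finite H] (hsol : Group.IsSolvable H)
    (hO : Cfsg.pPrimeCore 2 H = ⊥)
    (htwo : ∃ x y : H, x ≠ y ∧ x ≠ 1 ∧ x ^ 2 = 1 ∧ y ≠ 1 ∧ y ^ 2 = 1)
    (hconj : ∀ x y : H, x ≠ 1 → x ^ 2 = 1 → y ≠ 1 → y ^ 2 = 1 → IsConj x y) :
    (Cfsg.pCore 2 H).index.Coprime 2 ∧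
    ∀ S : Sylow 2 H, ∀ x ∈ (S : Subgroup H), x ^ 2 = 1 →
      ∀ s ∈ (S : Subgroup H), x * s = s * x := by
  classical
  haveI : Fact (Nat.Prime 2) := ⟨Nat.prime_two⟩
  obtain ⟨x0, y0, hxy0, hx01, hx02, hy01, hy02⟩ := htwo
  set Q := Cfsg.pCore 2 H with hQ
  haveI hQn : Q.Normal := Cfsg.Agent.Helper14.pCore_normal 2
  have hQ2 : IsPGroup 2 Q := Cfsg.Agent.Helper14.pCore_isPGroup 2
  have hCQ : centralizer (Q : Set H) ≤ Q :=
    Cfsg.Agent.Helper23.centralizer_pCore_le_of_isPSolvable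
      (Cfsg.Agent.Helper10.isPSolvable_of_isSolvable 2 hsol) hO
  have hQne : Q ≠ ⊥ := by
    intro h
    have : x0 ∈ Q := hCQ (by rw [h]; simp [mem_centralizer_iff])
    rw [h, mem_bot] at this
    exact hx01 this
  set V := omegaZ Q with hV
  have hVQ : V ≤ Q := omegaZ_le Q
  haveI hVn : V.Normal := by
    constructor
    intro a ha g
    exact omegaZ_conj_mem (fun s hs => hQn.conj_mem s hs g)
      (fun s hs => by simpa using hQn.conj_mem s hs g⁻¹) ha
  have hVZ : ∀ v ∈ V, ∀ q ∈ Q, v * q = q * v := fun v hv q hq => hv.2.1 q hq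
  have hV2 : ∀ v ∈ V, v ^ 2 = 1 := fun v hv => hv.2.2
  obtain ⟨a0, ha0V, ha01⟩ := omegaZ_ne_bot hQ2 hQne
  have hinv : ∀ x : H, x ^ 2 = 1 → x ∈ V := by
    intro x hx
    by_cases hx1 : x = 1
    · rw [hx1]; exact V.one_mem
    · obtain ⟨c, hc⟩ := isConj_iff.mp (hconj a0 x ha01 (hV2 a0 ha0V) hx1 hx)
      rw [← hc]; exact hVn.conj_mem a0 ha0V c
  have hV2g : IsPGroup 2 V := hQ2.to_le hVQ
  obtain ⟨n, hcard⟩ := IsPGroup.iff_card.mp hV2g
  have hx0V : x0 ∈ V := hinv x0 hx02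
  have hy0V : y0 ∈ V := hinv y0 hy02
  have hn : 2 ≤ n := by
    by_contra hlt
    push Not at hlt
    have hox : orderOf x0 = 2 := orderOf_eq_prime hx02 hx01
    have hzc : Nat.card (zpowers x0) = 2 := by rw [Nat.card_zpowers, hox]
    have hzle : zpowers x0 ≤ V := by rw [zpowers_le]; exact hx0V
    have hcle : Nat.card V ≤ 2 := by
      rw [hcard]
      calc 2 ^ n ≤ 2 ^ 1 := Nat.pow_le_pow_right (by norm_num) (by omega)
        _ = 2 := by norm_num
    have heq : zpowers x0 = V := Subgroup.eq_of_le_of_card_ge hzle (by rw [hzc]; exact hcle)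
    have hy : y0 ∈ zpowers x0 := by rw [heq]; exact hy0V
    obtain ⟨k, hk⟩ := mem_zpowers_iff.mp hy
    rcases Int.even_or_odd' k with ⟨m, hm | hm⟩
    · apply hy01
      rw [← hk, hm, zpow_mul, zpow_ofNat, hx02, one_zpow]
    · apply hxy0
      rw [← hk, hm, zpow_add, zpow_mul, zpow_ofNat, hx02, one_zpow, one_mul, zpow_one]
  have htransH : ∀ v ∈ V, ∀ w ∈ V, v ≠ 1 → w ≠ 1 → ∃ g : H, g * v * g⁻¹ = w := by
    intro v hv w hw hv1 hw1
    exact isConj_iff.mp (hconj v w hv1 (hV2 v hv) hw1 (hV2 w hw))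
  have hGLtop : SemilinearData V n ⊤ := by
    apply Cfsg.Agent.Helper18.Th.semilinear_data V n hcard hn hV2 ⊤ inferInstance
    intro v hv w hw hv1 hw1
    obtain ⟨g, hg⟩ := htransH v hv w hw hv1 hw1
    exact ⟨g, mem_top g, hg⟩
  have hSCall : ∀ S : Sylow 2 H, (S : Subgroup H) ≤ centralizer (V : Set H) := fun S =>
    Cfsg.Agent.Helper28.Th.sylow_le_centralizer hsol V n hcard hn hV2 hinv htransH hGLtop S
  have hpart2 : ∀ S : Sylow 2 H, ∀ x ∈ (S : Subgroup H), x ^ 2 = 1 →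
      ∀ s ∈ (S : Subgroup H), x * s = s * x := by
    intro S x _ hx2 s hs
    have h1 := hSCall S hs
    rw [mem_centralizer_iff] at h1
    exact h1 x (hinv x hx2)
  refine ⟨?_, hpart2⟩
  by_contra hidx
  obtain ⟨S⟩ : Nonempty (Sylow 2 H) := inferInstance
  have hQS : Q ≤ (S : Subgroup H) := Cfsg.Agent.Helper14.pCore_le_sylow 2 S
  have hne : Q ≠ (S : Subgroup H) := by
    intro h
    apply hidx
    rw [h]
    have h1 := S.card_coprime_index
    obtain ⟨k, hk⟩ := IsPGroup.iff_card.mp S.isPGroup'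
    rw [hk] at h1
    by_cases hk0 : k = 0
    · -- S trivial: impossible as Q ≠ ⊥
      exfalso
      apply hQne
      rw [h]
      rw [hk0, pow_zero] at hk
      exact (Subgroup.card_eq_one).mp hk
    · exact Nat.Coprime.symm ((Nat.coprime_pow_left_iff (Nat.pos_of_ne_zero hk0) 2 _).mp h1)
  have hSC := hSCall S
  have hVS : V ≤ (S : Subgroup H) := hVQ.trans hQS
  have hVcent : ∀ v ∈ V, v ∈ centralizer ((S : Subgroup H) : Set H) := by
    intro v hv
    rw [mem_centralizer_iff]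
    intro s hs
    have h1 := hSC hs
    rw [mem_centralizer_iff] at h1
    exact (h1 v hv).symm
  have htransN : ∀ v ∈ V, ∀ w ∈ V, v ≠ 1 → w ≠ 1 →
      ∃ g ∈ normalizer ((S : Subgroup H) : Set H), g * v * g⁻¹ = w := by
    intro v hv w hw hv1 hw1
    obtain ⟨g, hg⟩ := htransH v hv w hw hv1 hw1
    have h1 : g⁻¹⁻¹ * v * g⁻¹ ∈ centralizer ((S : Subgroup H) : Set H) := by
      rw [inv_inv, hg]; exact hVcent w hw
    obtain ⟨m, hm, hmv⟩ := S.conj_eq_normalizer_conj_of_mem_centralizer v g⁻¹ (hVcent v hv) h1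
    refine ⟨m⁻¹, inv_mem hm, ?_⟩
    rw [inv_inv, ← hmv, inv_inv, hg]
  have hGLN : SemilinearData V n (normalizer ((S : Subgroup H) : Set H)) :=
    Cfsg.Agent.Helper18.Th.semilinear_data V n hcard hn hV2 _ inferInstance htransN
  obtain ⟨y, hyN, hyodd, hyfpf⟩ :=
    Cfsg.Agent.Helper23.Th.exists_fpf_element V n hcard hn hV2 hinv S hSC htransN hGLN
  -- the Fitting subgroup of H / Q
  have hpX : Cfsg.pCore 2 (H ⧸ Q) = ⊥ := by
    rw [Cfsg.Agent.Helper14.pCore_quotient Q hQ2, ← hQ]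
    rw [eq_bot_iff]
    rintro _ ⟨q, hq, rfl⟩
    rw [mem_bot]
    exact (QuotientGroup.eq_one_iff q).mpr hq
  set O := Cfsg.fittingSubgroup (H ⧸ Q) with hOdef
  haveI hOn : O.Normal := Cfsg.Agent.Helper7.fittingSubgroup_normal _
  have hOodd : Odd (Nat.card O) := by
    have := Cfsg.Agent.Helper7.fitting_coprime_of_pCore_eq_bot hpX
    exact Nat.coprime_two_right.mp this
  haveI : Group.IsSolvable (H ⧸ Q) := inferInstance
  have hCO : centralizer (O : Set (H ⧸ Q)) ≤ O :=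
    Cfsg.Agent.Helper7.centralizer_fitting_le_iff_layer_eq_bot.mpr
      Cfsg.Agent.Helper7.layer_eq_bot_of_isSolvable
  exact core_contra hsol Q V hQ2 hCQ O hOodd hCO n hcard hVQ hVZ hV2 hinv S hQS hne hSC htransN
    y hyN hyodd hyfpf

end Cfsg.Agent.Helper25.Th
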