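import Mathlib
import Cfsg.Agent.Helper20.BG16Tc
import Cfsg.Agent.Helper10.BG16D
import Cfsg.Agent.Helper24.PF8D

/-!
# Peterfalvi (8.9) = S1538 from the `σ`-language statements of B&G §14–16

For `M` of Type II the sets `A₀(M)`, `A(M)`, `A₁(M)` are TI-subsets with normaliser `M`.
-/

set_option autoImplicit false
set_option linter.unusedSectionVars false
set_option linter.unusedVariables false

namespace Cfsg.Agent.Helper25.TypeII

open Subgroup Cfsg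
open Cfsg.Agent.Helper20.BG16T
open Cfsg.Agent.Helper14 (cj cj_apply mem_map_cj)

universe u

variable {G : Type u} [Group G] [Finite G]

/-- the set of `M`-conjugates of `(K × K*) ∖ (K ∪ K*)` appearing in S1371 -/
def Yset (M K : Subgroup G) : Set G :=
  {a : G | ∃ m ∈ M, ∃ z ∈ ((↑(K ⊔ (Cfsg.sigmaCore M ⊓ Subgroup.centralizer (K : Set G))) : Set G) \
    ((K : Set G) ∪ ↑(Cfsg.sigmaCore M ⊓ Subgroup.centralizer (K : Set G)))), a = m * z * m⁻¹}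

/-- the facts about a maximal subgroup with `K ≠ 1`, `U ≠ 1` used below -/
structure Cfg (M K U : Subgroup G) : Prop where
  hM : IsCoatom M
  hKU : Cfsg.IsSigmaDecomposition M K U
  hK1 : K ≠ ⊥
  h1350 : St1350 G
  hsolv : Group.IsSolvable M
  hσM' : Cfsg.sigmaCore M ≤ ⁅M, M⁆
  hM'eq : ⁅M, M⁆ = U ⊔ Cfsg.sigmaCore M
  hTIF : Cfsg.IsTISubset (Cfsg.fittingOf M : Set G)
  hσF : Cfsg.sigmaCore M ≤ Cfsg.fittingOf M
  hσ1 : Cfsg.sigmaCore M ≠ ⊥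
  h1354 : ∀ k ∈ K, k ≠ 1 → M ⊓ Subgroup.centralizer ({k} : Set G) =
    K ⊔ (Cfsg.sigmaCore M ⊓ Subgroup.centralizer (K : Set G))
  h1362 : Cfsg.IsTISubset (Cfsg.sigmaA M U \ (Cfsg.sigmaCore M : Set G))
  h1371 : Yset M K = Cfsg.sigmaA0 M K \ Cfsg.sigmaA M U ∧
    Cfsg.IsTISubset (Cfsg.sigmaA0 M K \ Cfsg.sigmaA M U)

theorem ti_of_normalizer_eq {M : Subgroup G} {X : Set G} (hN : normalizer X = M)
    (hP : ∀ g : G, g ∉ M → ∀ x ∈ X, g * x * g⁻¹ ∈ X → False) : Cfsg.IsTISubset X := by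
  intro g hg x hx hgx
  rw [hN] at hg
  exact (hP g hg x hx hgx).elim

theorem orderOf_conj_eq (g x : G) : orderOf (g * x * g⁻¹) = orderOf x := by
  have := (MulAut.conj g).orderOf_eq x
  rwa [MulAut.conj_apply] at this

/-- a `G`-conjugate of an element of `M_σ` lying in `M` lies in `M_σ` -/
theorem conj_mem_sigmaCore_of_mem (h1350 : St1350 G) {M : Subgroup G} (hM : IsCoatom M) {x g : G}
    (hx : x ∈ Cfsg.sigmaCore M) (hgx : g * x * g⁻¹ ∈ M) : g * x * g⁻¹ ∈ Cfsg.sigmaCore M := by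
  obtain ⟨hHall, -, -⟩ := h1350 M hM
  have hY : zpowers (g * x * g⁻¹) ≤ Cfsg.sigmaCore M := by
    apply Cfsg.Agent.Helper10.BG16.le_sigmaCore_of_pi h1350 hM ((zpowers_le).mpr hgx)
    intro p hp hpd
    apply hHall.2.1 p hp
    rw [Nat.card_zpowers, orderOf_conj_eq] at hpd
    exact dvd_trans hpd (Subgroup.orderOf_dvd_natCard _ hx)
  exact hY (mem_zpowers _)

section cfg

variable {M K U : Subgroup G}

theorem Cfg.normalizer_fittingOf [IsSimpleGroup G] (c : Cfg M K U) :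
    normalizer (Cfsg.fittingOf M : Set G) = M := by
  apply Cfsg.Agent.Helper24.PF8.normalizer_subgroup_eq c.hM _ (Cfsg.Agent.Helper24.PF8.fittingOf_le M)
    (fun m hm a ha => Cfsg.Agent.Helper24.PF8.conj_mem_fittingOf hm ha)
  intro h
  apply c.hσ1
  rw [eq_bot_iff, ← h]
  exact c.hσF

/-- (P) for two elements of `M_σ` -/
theorem Cfg.false_of_sigma [IsSimpleGroup G] (c : Cfg M K U) {g x : G} (hg : g ∉ M)
    (hx : x ∈ Cfsg.sigmaCore M) (hx1 : x ≠ 1) (hgx : g * x * g⁻¹ ∈ Cfsg.sigmaCore M) : False := by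
  apply hx1
  apply c.hTIF g _ x (c.hσF hx) (c.hσF hgx)
  rw [c.normalizer_fittingOf]
  exact hg

theorem Cfg.commutator_inf_K (c : Cfg M K U) : ⁅M, M⁆ ⊓ K = ⊥ := by
  rw [c.hM'eq]
  exact Cfsg.Agent.Helper10.BG16.sd_sup_inf_K c.h1350 c.hM c.hKU

theorem Cfg.card_commutator (c : Cfg M K U) :
    Nat.card ↥⁅M, M⁆ = Nat.card U * Nat.card (Cfsg.sigmaCore M) := by
  rw [c.hM'eq]
  exact Cfsg.Agent.Helper10.BG16.sd_card_U_sup_sigma c.hKU

theorem Cfg.coprime_commutator_K (c : Cfg M K U) :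
    (Nat.card ↥⁅M, M⁆).Coprime (Nat.card K) := by
  rw [c.card_commutator, ← Cfsg.Agent.Helper10.BG16.sd_relIndex_K c.h1350 c.hM c.hKU]
  exact (Cfsg.Agent.Helper10.BG16.sd_coprime_K c.hKU).symm

theorem Cfg.isComplIn_K (c : Cfg M K U) : Cfsg.IsComplIn ⁅M, M⁆ K M := by
  apply Cfsg.Agent.Helper10.BG16.isComplIn_of_card (Subgroup.commutator_le_self M) c.hKU.hall.1
    c.commutator_inf_K
  rw [c.card_commutator, Cfsg.Agent.Helper10.BG16.sd_card c.h1350 c.hM c.hKU]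
  ring

/-- the set `A(M) ∖ M_σ` in `σ`-language -/
theorem Cfg.normalizer_X2 [IsSimpleGroup G] (c : Cfg M K U) {a : G}
    (ha : a ∈ Cfsg.sigmaA M U \ (Cfsg.sigmaCore M : Set G)) :
    normalizer (Cfsg.sigmaA M U \ (Cfsg.sigmaCore M : Set G)) = M := by
  apply Cfsg.Agent.Helper24.PF8.normalizer_eq_of_invariant c.hM ⟨a, ha⟩
  · intro h
    exact h.2 (one_mem _)
  · intro x hx
    exact hx.1.1.1
  · intro m hm x hx
    obtain ⟨⟨⟨hxM, y, hy, hy1, hxy⟩, hxU⟩, hxσ⟩ := hx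
    refine ⟨⟨⟨M.mul_mem (M.mul_mem hm hxM) (M.inv_mem hm), m * y * m⁻¹,
      conj_mem_sigmaCore hm hy, Cfsg.Agent.Helper24.PF8.conj_ne_one hy1,
      Cfsg.Agent.Helper24.PF8.conj_comm hxy⟩, ?_⟩, ?_⟩
    · have hxU' : x ∈ U ⊔ Cfsg.sigmaCore M := hxU
      show m * x * m⁻¹ ∈ U ⊔ Cfsg.sigmaCore M
      rw [← c.hM'eq] at hxU' ⊢
      exact Cfsg.Agent.Helper24.PF8.conj_mem_commutator hm hxU'
    · intro h
      apply hxσ
      have := conj_mem_sigmaCore (M.inv_mem hm) h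
      have e : m⁻¹ * (m * x * m⁻¹) * m⁻¹⁻¹ = x := by group
      rw [e] at this
      exact this

/-- the `M`-conjugates of the elements of `W₁W₂ ∖ (W₁ ∪ W₂)`, for any type P data, lie in the set
of S1371 -/
theorem Cfg.mem_Yset_of_typeP (c : Cfg M K U) {W₁ U' W₂ : Subgroup G}
    (hP : Cfsg.IsTypePWith M W₁ U' W₂) {m w : G} (hm : m ∈ M) (hw : w ∈ W₁ ⊔ W₂) (hw1 : w ∉ W₁)
    (hw2 : w ∉ W₂) : m * w * m⁻¹ ∈ Yset M K := by
  have hcop : (Nat.card ↥⁅M, M⁆).Coprime ((⁅M, M⁆ : Subgroup G).relIndex M) := by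
    rw [relIndex_eq_of_isComplIn c.isComplIn_K]
    exact c.coprime_commutator_K
  obtain ⟨m₀, hm₀, hKW⟩ := compl_conj c.hsolv hcop c.isComplIn_K hP.W₁_compl
  obtain ⟨Ks, hKs⟩ : ∃ Ks : Subgroup G,
    Ks = Cfsg.sigmaCore M ⊓ Subgroup.centralizer (K : Set G) := ⟨_, rfl⟩
  obtain ⟨k, hk, hk1⟩ : ∃ k ∈ K, k ≠ 1 := by
    obtain ⟨k, hk⟩ := (Subgroup.ne_bot_iff_exists_ne_one).mp c.hK1
    exact ⟨k.1, k.2, fun h => hk (Subtype.ext h)⟩
  have hxW : m₀ * k * m₀⁻¹ ∈ W₁ := by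
    rw [← hKW]
    exact ⟨k, hk, rfl⟩
  have hx1 : m₀ * k * m₀⁻¹ ≠ 1 := Cfsg.Agent.Helper24.PF8.conj_ne_one hk1
  have hW₂ := hP.W₂_centralizer _ hxW hx1
  have hCk : ⁅M, M⁆ ⊓ Subgroup.centralizer ({k} : Set G) = Ks := by
    have h1 : ⁅M, M⁆ ⊓ Subgroup.centralizer ({k} : Set G) =
        ⁅M, M⁆ ⊓ (M ⊓ Subgroup.centralizer ({k} : Set G)) := by
      rw [← inf_assoc, inf_eq_left.mpr (Subgroup.commutator_le_self M)]
    rw [h1, c.h1354 k hk hk1, hKs]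
    exact Cfsg.Agent.Helper10.BG16.inf_sup_eq_right_of_disjoint (inf_le_left.trans c.hσM')
      c.commutator_inf_K (inf_le_right.trans (Subgroup.centralizer_le_normalizer _))
  have hW₂mem : ∀ y, y ∈ W₂ ↔ m₀⁻¹ * y * m₀ ∈ Ks := by
    intro y
    rw [← hW₂, ← hCk, mem_inf, mem_inf, mem_centralizer_iff, mem_centralizer_iff]
    constructor
    · rintro ⟨h1, h2⟩
      refine ⟨?_, ?_⟩
      · have := Cfsg.Agent.Helper24.PF8.conj_mem_commutator (M.inv_mem hm₀) h1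
        rwa [inv_inv] at this
      · intro h hh
        rw [Set.mem_singleton_iff] at hh
        rw [hh]
        have := h2 _ rfl
        calc k * (m₀⁻¹ * y * m₀) = m₀⁻¹ * ((m₀ * k * m₀⁻¹) * y) * m₀ := by group
          _ = m₀⁻¹ * (y * (m₀ * k * m₀⁻¹)) * m₀ := by rw [this]
          _ = (m₀⁻¹ * y * m₀) * k := by group
    · rintro ⟨h1, h2⟩
      refine ⟨?_, ?_⟩
      · have := Cfsg.Agent.Helper24.PF8.conj_mem_commutator hm₀ h1
        have e : m₀ * (m₀⁻¹ * y * m₀) * m₀⁻¹ = y := by group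
        rwa [e] at this
      · intro h hh
        rw [Set.mem_singleton_iff] at hh
        rw [hh]
        have := h2 k rfl
        calc (m₀ * k * m₀⁻¹) * y = m₀ * (k * (m₀⁻¹ * y * m₀)) * m₀⁻¹ := by group
          _ = m₀ * ((m₀⁻¹ * y * m₀) * k) * m₀⁻¹ := by rw [this]
          _ = y * (m₀ * k * m₀⁻¹) := by group
  have hW₁mem : ∀ y, y ∈ W₁ ↔ m₀⁻¹ * y * m₀ ∈ K := by
    intro y
    rw [← hKW, mem_map_cj]
  have hsup : W₁ ⊔ W₂ = (K ⊔ Ks).map (cj m₀) := by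
    rw [Subgroup.map_sup, hKW]
    congr 1
    ext y
    rw [hW₂mem, mem_map_cj]
  rw [hsup, mem_map_cj] at hw
  rw [hKs] at hw hW₂mem
  refine ⟨m * m₀, M.mul_mem hm hm₀, m₀⁻¹ * w * m₀, ⟨hw, ?_⟩, by group⟩
  rintro (h | h)
  · exact hw1 ((hW₁mem w).mpr h)
  · exact hw2 ((hW₂mem w).mpr h)

/-- no element of `M'` is `G`-conjugate to an element of the set of S1371 -/
theorem Cfg.false_of_mixed (c : Cfg M K U) {g a : G} (ha : a ∈ ⁅M, M⁆)
    (hb : g * a * g⁻¹ ∈ Yset M K) : False := by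
  obtain ⟨m, hm, z, ⟨hz, hznot⟩, hbz⟩ := hb
  obtain ⟨n, hn⟩ : ∃ n, n = Nat.card ↥⁅M, M⁆ := ⟨_, rfl⟩
  have han : a ^ n = 1 := by
    have := pow_card_eq_one' (G := ↥⁅M, M⁆) (x := ⟨a, ha⟩)
    have h2 := congrArg Subtype.val this
    rw [Subgroup.coe_pow] at h2
    rw [hn]
    exact h2
  have hzn : z ^ n = 1 := by
    have e : z = (m⁻¹ * g) * a * (m⁻¹ * g)⁻¹ := by
      have : z = m⁻¹ * (m * z * m⁻¹) * m := by group
      rw [this, ← hbz]; group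
    rw [e, conj_pow, han]; group
  obtain ⟨k, hk, s, hs, rfl⟩ := (Cfsg.Agent.Helper7.mem_sup_of_le_normalizer
    (inf_le_right.trans (Subgroup.centralizer_le_normalizer _))).mp hz
  have hks : k * s = s * k := (mem_centralizer_iff.mp hs.2) k hk
  have hpow : (k * s) ^ n = k ^ n * s ^ n := Commute.mul_pow hks n
  rw [hpow] at hzn
  have hkn : k ^ n = 1 := by
    have h1 : k ^ n = (s ^ n)⁻¹ := eq_inv_of_mul_eq_one_left hzn
    have h2 : k ^ n ∈ K ⊓ Cfsg.sigmaCore M :=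
      Subgroup.mem_inf.mpr ⟨K.pow_mem hk n, by
        rw [h1]; exact (Cfsg.sigmaCore M).inv_mem ((Cfsg.sigmaCore M).pow_mem hs.1 n)⟩
    rw [Cfsg.Agent.Helper10.BG16.sd_K_inf_sigma c.h1350 c.hM c.hKU, mem_bot] at h2
    exact h2
  have hk1 : k = 1 := by
    have hkK : k ^ Nat.card K = 1 := by
      have := pow_card_eq_one' (G := ↥K) (x := ⟨k, hk⟩)
      have h2 := congrArg Subtype.val this
      rw [Subgroup.coe_pow] at h2
      exact h2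
    have h1 : orderOf k ∣ n := orderOf_dvd_of_pow_eq_one hkn
    have h2 : orderOf k ∣ Nat.card K := orderOf_dvd_of_pow_eq_one hkK
    have h3 : orderOf k ∣ 1 := by
      have h4 := Nat.dvd_gcd h1 h2
      have h5 : Nat.gcd n (Nat.card K) = 1 := by rw [hn]; exact c.coprime_commutator_K
      rwa [h5] at h4
    exact orderOf_eq_one_iff.mp (Nat.dvd_one.mp h3)
  apply hznot
  right
  rw [hk1, one_mul]
  exact hs

theorem Cfg.normalizer_Yset [IsSimpleGroup G] (c : Cfg M K U) {a : G} (ha : a ∈ Yset M K) :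
    (1 : G) ∉ Yset M K ∧ normalizer (Yset M K) = M := by
  have h1 : (1 : G) ∉ Yset M K := by
    rintro ⟨m, hm, z, ⟨hz, hznot⟩, h⟩
    apply hznot
    left
    have : z = 1 := by
      have : z = m⁻¹ * (m * z * m⁻¹) * m := by group
      rw [this, ← h]; group
    rw [this]
    exact K.one_mem
  refine ⟨h1, ?_⟩
  apply Cfsg.Agent.Helper24.PF8.normalizer_eq_of_invariant c.hM ⟨a, ha⟩ h1
  · rintro _ ⟨m, hm, z, ⟨hz, -⟩, rfl⟩
    have hle : K ⊔ (Cfsg.sigmaCore M ⊓ Subgroup.centralizer (K : Set G)) ≤ M :=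
      sup_le c.hKU.hall.1 (inf_le_left.trans (Cfsg.Agent.H9.BG12.sigmaCore_le M))
    exact M.mul_mem (M.mul_mem hm (hle hz)) (M.inv_mem hm)
  · rintro m' hm' _ ⟨m, hm, z, hz, rfl⟩
    exact ⟨m' * m, M.mul_mem hm' hm, z, hz, by group⟩

/-- Peterfalvi (8.9) in `σ`-language -/
theorem Cfg.typeII_sets [IsSimpleGroup G] (c : Cfg M K U) (hnotI : ¬ Cfsg.IsOfTypeI M)
    (hcore : Cfsg.typeCore M = Cfsg.sigmaCore M) :
    (Cfsg.IsTISubset (Cfsg.typeA0 M) ∧ Subgroup.normalizer (Cfsg.typeA0 M) = M) ∧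
    (Cfsg.IsTISubset (Cfsg.typeA M) ∧ Subgroup.normalizer (Cfsg.typeA M) = M) ∧
    (Cfsg.IsTISubset (Cfsg.typeA1 M) ∧ Subgroup.normalizer (Cfsg.typeA1 M) = M) := by
  have hA1mem : ∀ x, x ∈ Cfsg.typeA1 M ↔ x ∈ Cfsg.sigmaCore M ∧ x ≠ 1 := by
    intro x
    unfold Cfsg.typeA1
    rw [hcore]
    rfl
  have hAmem : ∀ a, a ∈ Cfsg.typeA M ↔ a ∈ ⁅M, M⁆ ∧ a ≠ 1 ∧
      ∃ x ∈ Cfsg.sigmaCore M, x ≠ 1 ∧ a * x = x * a := by
    intro a
    unfold Cfsg.typeA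
    rw [if_neg hnotI, hcore]
    rfl
  obtain ⟨x0, hx0, hx01⟩ : ∃ x ∈ Cfsg.sigmaCore M, x ≠ 1 := by
    obtain ⟨x, hx⟩ := (Subgroup.ne_bot_iff_exists_ne_one).mp c.hσ1
    exact ⟨x.1, x.2, fun h => hx (Subtype.ext h)⟩
  have hx0A1 : x0 ∈ Cfsg.typeA1 M := (hA1mem x0).mpr ⟨hx0, hx01⟩
  have hx0A : x0 ∈ Cfsg.typeA M := (hAmem x0).mpr ⟨c.hσM' hx0, hx01, x0, hx0, hx01, rfl⟩
  have hx0A0 : x0 ∈ Cfsg.typeA0 M := Or.inl hx0A
  -- normalisers
  have hN1 : normalizer (Cfsg.typeA1 M) = M :=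
    Cfsg.Agent.Helper24.PF8.normalizer_eq_of_invariant c.hM ⟨x0, hx0A1⟩
      (Cfsg.Agent.Helper24.PF8.one_not_mem_typeA1 M) (Cfsg.Agent.Helper24.PF8.typeA1_subset M)
      (fun m hm a ha => Cfsg.Agent.Helper24.PF8.conj_mem_typeA1 hm ha)
  have hN : normalizer (Cfsg.typeA M) = M :=
    Cfsg.Agent.Helper24.PF8.normalizer_eq_of_invariant c.hM ⟨x0, hx0A⟩
      (Cfsg.Agent.Helper24.PF8.one_not_mem_typeA M) (Cfsg.Agent.Helper24.PF8.typeA_subset M)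
      (fun m hm a ha => Cfsg.Agent.Helper24.PF8.conj_mem_typeA hm ha)
  have hN0 : normalizer (Cfsg.typeA0 M) = M :=
    Cfsg.Agent.Helper24.PF8.normalizer_eq_of_invariant c.hM ⟨x0, hx0A0⟩
      (Cfsg.Agent.Helper24.PF8.one_not_mem_typeA0 M) (Cfsg.Agent.Helper24.PF8.typeA0_subset M)
      (fun m hm a ha => Cfsg.Agent.Helper24.PF8.conj_mem_typeA0 hm ha)
  -- (P) for `A(M)`
  have hPA : ∀ g : G, g ∉ M → ∀ a ∈ Cfsg.typeA M, g * a * g⁻¹ ∈ Cfsg.typeA M → False := by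
    intro g hg a ha hb
    obtain ⟨haM', ha1, x, hx, hx1, hax⟩ := (hAmem a).mp ha
    obtain ⟨hbM', hb1, y, hy, hy1, hby⟩ := (hAmem _).mp hb
    have haM : a ∈ M := Subgroup.commutator_le_self M haM'
    have hbM : g * a * g⁻¹ ∈ M := Subgroup.commutator_le_self M hbM'
    by_cases haσ : a ∈ Cfsg.sigmaCore M
    · exact c.false_of_sigma hg haσ ha1 (conj_mem_sigmaCore_of_mem c.h1350 c.hM haσ hbM)
    · by_cases hbσ : g * a * g⁻¹ ∈ Cfsg.sigmaCore M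
      · apply haσ
        have e : g⁻¹ * (g * a * g⁻¹) * g⁻¹⁻¹ = a := by group
        have := conj_mem_sigmaCore_of_mem c.h1350 c.hM hbσ (g := g⁻¹) (by rw [e]; exact haM)
        rwa [e] at this
      · have haX : a ∈ Cfsg.sigmaA M U \ (Cfsg.sigmaCore M : Set G) := by
          refine ⟨⟨⟨haM, x, hx, hx1, hax⟩, ?_⟩, haσ⟩
          show a ∈ U ⊔ Cfsg.sigmaCore M
          rw [← c.hM'eq]
          exact haM'
        have hbX : g * a * g⁻¹ ∈ Cfsg.sigmaA M U \ (Cfsg.sigmaCore M : Set G) := by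
          refine ⟨⟨⟨hbM, y, hy, hy1, hby⟩, ?_⟩, hbσ⟩
          show g * a * g⁻¹ ∈ U ⊔ Cfsg.sigmaCore M
          rw [← c.hM'eq]
          exact hbM'
        have hNX := c.normalizer_X2 haX
        exact ha1 (c.h1362 g (by rw [hNX]; exact hg) a haX hbX)
  -- (P) for `A₀(M)`
  have hA0 : ∀ v ∈ Cfsg.typeA0 M, v ∈ Cfsg.typeA M ∨ v ∈ Yset M K := by
    intro v hv
    rcases hv with h | ⟨_, W₁, U', W₂, hP, m, hm, w, hw, hw1, hw2, rfl⟩
    · exact Or.inl h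
    · exact Or.inr (c.mem_Yset_of_typeP hP hm hw hw1 hw2)
  have hTIY : Cfsg.IsTISubset (Yset M K) := by
    rw [c.h1371.1]
    exact c.h1371.2
  have hPA0 : ∀ g : G, g ∉ M → ∀ a ∈ Cfsg.typeA0 M, g * a * g⁻¹ ∈ Cfsg.typeA0 M → False := by
    intro g hg a ha hb
    rcases hA0 a ha with ha' | ha' <;> rcases hA0 _ hb with hb' | hb'
    · exact hPA g hg a ha' hb'
    · exact c.false_of_mixed ((hAmem a).mp ha').1 hb'
    · have e : g⁻¹ * (g * a * g⁻¹) * g⁻¹⁻¹ = a := by group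
      exact c.false_of_mixed (g := g⁻¹) ((hAmem _).mp hb').1 (by rw [e]; exact ha')
    · obtain ⟨h1, hNY⟩ := c.normalizer_Yset ha'
      have := hTIY g (by rw [hNY]; exact hg) a ha' hb'
      rw [this] at ha'
      exact h1 ha'
  refine ⟨⟨ti_of_normalizer_eq hN0 hPA0, hN0⟩, ⟨ti_of_normalizer_eq hN hPA, hN⟩,
    ⟨ti_of_normalizer_eq hN1 ?_, hN1⟩⟩
  intro g hg x hx hgx
  obtain ⟨hxσ, hx1⟩ := (hA1mem x).mp hx
  exact c.false_of_sigma hg hxσ hx1 ((hA1mem _).mp hgx).1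

end cfg

end Cfsg.Agent.Helper25.TypeII
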