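import Mathlib
import Cfsg.Agent.S3559

set_option autoImplicit false

/-!
# Wielandt `2p`, piece SCH: a Sylow `p`-subgroup of order `p` that is not self-centralizing
gives a regular cyclic subgroup of order `2p`, hence (Schur, S3559) 2-transitivity.
-/

namespace Cfsg.Agent.Helper25.W2p

open MulAction

/-- Permutation-level core: `f` of prime order `q ≠ p` commuting with a permutation `g` with
`g ^ p = 1` all of whose non-trivial powers are fixed-point-free, on `2p` points:
then `q = 2` and `f` is fixed-point-free. -/
theorem perm_core {α : Type*} [Fintype α] [DecidableEq α] {p q : ℕ} [hp : Fact p.Prime]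
    [hq : Fact q.Prime] (hqp : q ≠ p) (hα : Fintype.card α = 2 * p)
    (f g : Equiv.Perm α) (hfg : f * g = g * f) (hf : f ^ q = 1) (hf1 : f ≠ 1)
    (hg : g ^ p = 1) (hgfix : ∀ a : α, g a ≠ a) :
    q = 2 ∧ ∀ a : α, f a ≠ a := by
  classical
  -- the fixed point set of `f`
  have hinv : ∀ a : α, (f (g a) = g a) ↔ (f a = a) := by
    intro a
    have h1 : f (g a) = g (f a) := by
      have := congrArg (fun σ : Equiv.Perm α => σ a) hfg
      simpa [Equiv.Perm.mul_apply] using this
    rw [h1]
    exact g.injective.eq_iff
  let g' : Equiv.Perm {a : α // f a = a} := g.subtypePerm hinv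
  have hg' : g' ^ p ^ 1 = 1 := by
    rw [pow_one]
    ext a
    simp only [g', Equiv.Perm.subtypePerm_pow, Equiv.Perm.subtypePerm_apply, hg]
    simp
  have hcard1 : Fintype.card {a : α // f a = a} ≡
      Fintype.card (Function.fixedPoints (g' : {a : α // f a = a} → {a : α // f a = a}))
        [MOD p] := by
    have := Equiv.Perm.card_fixedPoints_modEq (α := {a : α // f a = a})
      (f := (id (DFunLike.coe g') : Function.End {a : α // f a = a})) (p := p) (n := 1) (by
        have h2 := congrArg (fun σ : Equiv.Perm {a : α // f a = a} =>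
          (σ : {a : α // f a = a} → {a : α // f a = a})) hg'
        simp only [Equiv.Perm.coe_pow, Equiv.Perm.coe_one] at h2
        funext a
        have h3 := congrFun h2 a
        show ((id (DFunLike.coe g') : Function.End {a : α // f a = a}) ^ p ^ 1) a = a
        rw [pow_one] at h3 ⊢
        have h4 : ∀ n : ℕ, ∀ b, ((id (DFunLike.coe g') : Function.End {a : α // f a = a}) ^ n) b = (g' : _ → _)^[n] b := by
          intro n
          induction n with
          | zero => intro b; rfl
          | succ n ih =>
            intro b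
            rw [pow_succ, Function.iterate_succ_apply]
            show ((id (DFunLike.coe g') : Function.End {a : α // f a = a}) ^ n) (g' b) = _
            rw [ih]
        rw [h4]
        exact h3)
    exact this
  have hempty : Fintype.card (Function.fixedPoints
      (g' : {a : α // f a = a} → {a : α // f a = a})) = 0 := by
    rw [Fintype.card_eq_zero_iff]
    constructor
    rintro ⟨⟨a, ha⟩, hfix⟩
    have : g a = a := by
      have h5 := congrArg Subtype.val hfix
      simpa [g'] using h5
    exact hgfix a this
  rw [hempty] at hcard1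
  have hpF : p ∣ Fintype.card {a : α // f a = a} := (Nat.modEq_zero_iff_dvd).mp hcard1
  -- mod q
  have hcard2 : Fintype.card α ≡ Fintype.card (Function.fixedPoints (f : α → α)) [MOD q] := by
    have := Equiv.Perm.card_fixedPoints_modEq (α := α)
      (f := (id (DFunLike.coe f) : Function.End α)) (p := q) (n := 1) (by
        funext a
        rw [pow_one]
        have h4 : ∀ n : ℕ, ∀ b, ((id (DFunLike.coe f) : Function.End α) ^ n) b = (f ^ n) b := by
          intro n
          induction n with
          | zero => intro b; rfl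
          | succ n ih =>
            intro b
            rw [pow_succ, pow_succ]
            show ((id (DFunLike.coe f) : Function.End α) ^ n) (f b) = (f ^ n) (f b)
            rw [ih]
        rw [h4, hf]
        rfl)
    exact this
  have hFeq : Fintype.card (Function.fixedPoints (f : α → α)) =
      Fintype.card {a : α // f a = a} := by
    apply Fintype.card_congr
    exact Equiv.subtypeEquivRight (fun a => Iff.rfl)
  rw [hFeq, hα] at hcard2
  have hle : Fintype.card {a : α // f a = a} ≤ 2 * p := by
    rw [← hα]; exact Fintype.card_subtype_le _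
  obtain ⟨k, hk⟩ := hpF
  have hp0 : 0 < p := hp.out.pos
  have hk2 : k ≤ 2 := by
    rw [hk] at hle
    by_contra hcon
    push Not at hcon
    have : 3 * p ≤ p * k := by
      calc 3 * p = p * 3 := by ring
        _ ≤ p * k := Nat.mul_le_mul_left _ hcon
    omega
  have hcop : Nat.Coprime q p := (Nat.coprime_primes hq.out hp.out).mpr hqp
  interval_cases k
  · -- no fixed points
    rw [hk] at hcard2
    have hq2p : q ∣ 2 * p := by
      have := (Nat.modEq_zero_iff_dvd).mp (by simpa using hcard2)
      exact this
    have hq2 : q ∣ 2 := (Nat.Coprime.dvd_mul_right hcop).mp hq2p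
    refine ⟨(Nat.prime_dvd_prime_iff_eq hq.out Nat.prime_two).mp hq2, ?_⟩
    intro a ha
    have h0 : Fintype.card {a : α // f a = a} = 0 := by simpa using hk
    rw [Fintype.card_eq_zero_iff] at h0
    exact h0.false ⟨a, ha⟩
  · -- `p` fixed points: `q ∣ p`
    exfalso
    rw [hk, mul_one] at hcard2
    have h6 : q ∣ 2 * p - p := (Nat.modEq_iff_dvd' (by omega)).mp hcard2.symm
    have h7 : 2 * p - p = p := by omega
    rw [h7] at h6
    exact hqp ((Nat.prime_dvd_prime_iff_eq hq.out hp.out).mp h6)
  · -- everything fixed: `f = 1`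
    exfalso
    apply hf1
    have hall : Fintype.card {a : α // f a = a} = Fintype.card α := by rw [hk, hα]; ring
    ext a
    by_contra hne
    have hlt : Fintype.card {a : α // f a = a} < Fintype.card α :=
      Fintype.card_subtype_lt (x := a) hne
    omega

/-- Piece SCH of Wielandt's `2p` theorem. -/
theorem two_trans_of_centralizer_ne {α : Type*} [Fintype α] [DecidableEq α] {p : ℕ}
    [Fact p.Prime] (hp2 : p ≠ 2) (hα : Fintype.card α = 2 * p) (G : Subgroup (Equiv.Perm α))
    (hG : IsPreprimitive G α)
    (hfpf : ∀ g : G, p ∣ orderOf g → ∀ x : α, g • x ≠ x)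
    (P : Sylow p G) (hP : Nat.card P = p)
    (hC : Subgroup.centralizer ((P : Subgroup G) : Set G) ≠ (P : Subgroup G)) :
    IsMultiplyPretransitive G α 2 := by
  classical
  have hpp : p.Prime := Fact.out
  have hcycP : IsCyclic (P : Subgroup G) := isCyclic_of_prime_card hP
  obtain ⟨⟨x, hxP⟩, hxgen⟩ := IsCyclic.exists_generator (α := (P : Subgroup G))
  have hxord : orderOf x = p := by
    have h1 : orderOf (⟨x, hxP⟩ : (P : Subgroup G)) = Nat.card (P : Subgroup G) :=
      orderOf_eq_card_of_forall_mem_zpowers hxgen
    rw [hP, Subgroup.orderOf_mk] at h1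
    exact h1
  -- every element of `P` is a power of `x`
  have hPx : ∀ b ∈ (P : Subgroup G), ∃ n : ℤ, x ^ n = b := by
    intro b hb
    obtain ⟨n, hn⟩ := Subgroup.mem_zpowers_iff.mp (hxgen ⟨b, hb⟩)
    refine ⟨n, ?_⟩
    have := congrArg Subtype.val hn
    simpa using this
  have hPle : (P : Subgroup G) ≤ Subgroup.centralizer ((P : Subgroup G) : Set G) := by
    intro a ha
    rw [Subgroup.mem_centralizer_iff]
    intro b hb
    obtain ⟨m, rfl⟩ := hPx a ha
    obtain ⟨n, rfl⟩ := hPx b hb
    exact ((Commute.refl x).zpow_zpow n m).eq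
  set A := Subgroup.centralizer ((P : Subgroup G) : Set G) with hA
  have hpA : p ∣ Nat.card A := hP ▸ Subgroup.card_dvd_of_le hPle
  obtain ⟨k, hk⟩ := hpA
  have hk1 : k ≠ 1 := by
    intro h1
    apply hC
    symm
    apply Subgroup.eq_of_le_of_card_ge hPle
    rw [hk, h1, hP, mul_one]
  have hqprime : k.minFac.Prime := Nat.minFac_prime hk1
  have hqk : k.minFac ∣ k := Nat.minFac_dvd k
  have hqp : k.minFac ≠ p := by
    intro h
    have h2 : p ^ 2 ∣ Nat.card G := by
      have h3 : p * p ∣ Nat.card A := by
        rw [hk]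
        exact Nat.mul_dvd_mul_left p (h ▸ hqk)
      rw [sq]
      exact h3.trans A.card_subgroup_dvd_card
    have h3 := P.card_eq_multiplicity
    rw [hP] at h3
    have he : (Nat.card G).factorization p = 1 := by
      have h4 : p ^ 1 = p ^ (Nat.card G).factorization p := by rw [pow_one]; exact h3
      exact (Nat.pow_right_injective hpp.two_le h4).symm
    have h5 := Nat.pow_succ_factorization_not_dvd (Nat.card_pos (α := G)).ne' hpp
    rw [he] at h5
    exact h5 h2
  have : Fact k.minFac.Prime := ⟨hqprime⟩
  obtain ⟨⟨v, hvA⟩, hvord⟩ := exists_prime_orderOf_dvd_card' (G := A) k.minFac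
    (hk ▸ (hqk.trans (dvd_mul_left k p)))
  have hvord' : orderOf v = k.minFac := by rwa [Subgroup.orderOf_mk] at hvord
  have hvx : v * x = x * v := by
    have := (Subgroup.mem_centralizer_iff.mp hvA) x hxP
    exact this.symm
  -- permutation-level facts
  have hxfix : ∀ a : α, (x : Equiv.Perm α) a ≠ a := by
    intro a
    exact hfpf x (by rw [hxord]) a
  have hcore := perm_core (p := p) (q := k.minFac) hqp hα (v : Equiv.Perm α) (x : Equiv.Perm α)
    (by exact_mod_cast congrArg Subtype.val hvx)
    (by
      have := pow_orderOf_eq_one v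
      rw [hvord'] at this
      exact_mod_cast congrArg Subtype.val this)
    (by
      intro h1
      have hv1 : v = 1 := Subtype.ext h1
      rw [hv1, orderOf_one] at hvord'
      exact hqprime.one_lt.ne' hvord'.symm)
    (by
      have := pow_orderOf_eq_one x
      rw [hxord] at this
      exact_mod_cast congrArg Subtype.val this)
    hxfix
  obtain ⟨hq2, hvfix⟩ := hcore
  rw [hq2] at hvord'
  -- the element `y = x * v` of order `2p`
  have hcomm : Commute x v := hvx.symm
  have hyord : orderOf (x * v) = 2 * p := by
    rw [hcomm.orderOf_mul_eq_mul_orderOf_of_coprime, hxord, hvord', mul_comm]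
    rw [hxord, hvord']
    exact (Nat.coprime_primes hpp Nat.prime_two).mpr hp2
  set y := x * v with hy
  have hv2 : v ^ (2 : ℤ) = 1 := by
    have := pow_orderOf_eq_one v
    rw [hvord'] at this
    exact_mod_cast this
  -- the stabilizers in `zpowers y` are trivial
  have hstab : ∀ a : α, ∀ c ∈ Subgroup.zpowers y, c • a = a → c = 1 := by
    intro a c hc hca
    obtain ⟨n, rfl⟩ := Subgroup.mem_zpowers_iff.mp hc
    have hyn : y ^ n = x ^ n * v ^ n := hcomm.mul_zpow n
    -- the square is `x ^ (2n)`
    have hsq : (y ^ n) ^ (2 : ℤ) = x ^ (2 * n) := by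
      rw [hyn, (hcomm.zpow_zpow n n).mul_zpow, ← zpow_mul, ← zpow_mul, mul_comm n 2, zpow_mul v,
        hv2, one_zpow, mul_one]
    have hsqfix : ((y ^ n) ^ (2 : ℤ)) • a = a := by
      have : ((y ^ n) ^ (2 : ℤ)) = y ^ n * y ^ n := by
        rw [show (2 : ℤ) = 1 + 1 by norm_num, zpow_add, zpow_one]
      rw [this, mul_smul, hca, hca]
    rw [hsq] at hsqfix
    have hx2n : x ^ (2 * n) = 1 := by
      by_contra hne
      have hord : orderOf (x ^ (2 * n)) = p := by
        apply orderOf_eq_prime
        · rw [← zpow_natCast, ← zpow_mul, mul_comm, zpow_mul, zpow_natCast, ← hxord,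
            pow_orderOf_eq_one, one_zpow]
        · exact hne
      exact hfpf _ (by rw [hord]) a hsqfix
    have hxn : x ^ n = 1 := by
      have h1 : orderOf (x ^ n) ∣ 2 := by
        apply orderOf_dvd_of_pow_eq_one
        rw [← zpow_natCast, ← zpow_mul, mul_comm]
        exact_mod_cast hx2n
      have h2 : orderOf (x ^ n) ∣ p := by
        apply orderOf_dvd_of_pow_eq_one
        rw [← zpow_natCast, ← zpow_mul, mul_comm, zpow_mul, zpow_natCast, ← hxord,
          pow_orderOf_eq_one, one_zpow]
      have h3 : orderOf (x ^ n) ∣ Nat.gcd 2 p := Nat.dvd_gcd h1 h2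
      rw [(Nat.coprime_primes Nat.prime_two hpp).mpr (Ne.symm hp2)] at h3
      exact orderOf_eq_one_iff.mp (Nat.dvd_one.mp h3)
    rw [hyn, hxn, one_mul] at hca ⊢
    have hmod : v ^ (n % 2) = v ^ n := by
      have := zpow_mod_orderOf v n
      rw [hvord'] at this
      exact_mod_cast this
    rcases Int.emod_two_eq_zero_or_one n with h0 | h1
    · rw [← hmod, h0, zpow_zero]
    · exfalso
      rw [← hmod, h1, zpow_one] at hca
      exact hvfix a hca
  -- `zpowers y` is regular
  have hcardC : Nat.card (Subgroup.zpowers y) = 2 * p := by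
    rw [Nat.card_zpowers, hyord]
  have hne : Nonempty α := by
    rw [← Fintype.card_pos_iff, hα]
    have := hpp.pos
    omega
  obtain ⟨a₀⟩ := hne
  have hinj : Function.Injective (fun c : Subgroup.zpowers y => (c : G) • a₀) := by
    intro c d hcd
    simp only at hcd
    have h1 : ((d : G)⁻¹ * (c : G)) • a₀ = a₀ := by
      rw [mul_smul, hcd, inv_smul_smul]
    have h2 := hstab a₀ ((d : G)⁻¹ * (c : G))
      (Subgroup.mul_mem _ (Subgroup.inv_mem _ d.2) c.2) h1
    apply Subtype.ext
    rw [inv_mul_eq_one] at h2
    exact h2.symm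
  have hbij : Function.Bijective (fun c : Subgroup.zpowers y => (c : G) • a₀) := by
    have : Fintype (Subgroup.zpowers y) := Fintype.ofFinite _
    rw [Fintype.bijective_iff_injective_and_card]
    refine ⟨hinj, ?_⟩
    rw [← Nat.card_eq_fintype_card, hcardC, hα]
  have htransC : IsPretransitive (Subgroup.zpowers y) α := by
    constructor
    intro b c
    obtain ⟨cb, hcb⟩ := hbij.2 b
    obtain ⟨cc, hcc⟩ := hbij.2 c
    refine ⟨cc * cb⁻¹, ?_⟩
    simp only at hcb hcc
    rw [Subgroup.smul_def, Subgroup.coe_mul, Subgroup.coe_inv, mul_smul, ← hcb, inv_smul_smul, hcc]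
  have hstabC : ∀ a : α, stabilizer (Subgroup.zpowers y) a = ⊥ := by
    intro a
    rw [eq_bot_iff]
    intro c hc
    rw [mem_stabilizer_iff] at hc
    rw [Subgroup.mem_bot]
    apply Subtype.ext
    exact hstab a (c : G) c.2 hc
  -- Schur's theorem
  have hnp : ¬ IsPrimePow (Nat.card α) := by
    rw [Nat.card_eq_fintype_card, hα]
    rintro ⟨r, m, hr, hm, hrm⟩
    have hr' : r.Prime := hr.nat_prime
    have h2 : 2 ∣ r ^ m := by rw [hrm]; exact dvd_mul_right 2 p
    have hp' : p ∣ r ^ m := by rw [hrm]; exact dvd_mul_left p 2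
    have e2 : 2 = r := (Nat.prime_dvd_prime_iff_eq Nat.prime_two hr').mp
      (Nat.Prime.dvd_of_dvd_pow Nat.prime_two h2)
    have ep : p = r := (Nat.prime_dvd_prime_iff_eq hpp hr').mp
      (Nat.Prime.dvd_of_dvd_pow hpp hp')
    exact hp2 (ep.trans e2.symm)
  have hn : 2 ≤ Nat.card α := by
    rw [Nat.card_eq_fintype_card, hα]
    have := hpp.pos
    omega
  have hres := Cfsg.Agent.S3559.result (G := G) (Ω := α) hG.toIsPretransitive hn hnp
    (Subgroup.zpowers y) inferInstance ⟨htransC, hstabC⟩
  rcases hres with h | h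
  · exact absurd hG h
  · exact h

end Cfsg.Agent.Helper25.W2p
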