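import Mathlib
import Cfsg.Agent.Helper29.WinterDefs

/-!
S4467 (Winter) piece CNT: `|E : Z| ≡ |fixSub E x : Z| (mod p)` when `x ^ p` centralises `E`
(fixed point count for the conjugation action of `x` on the cosets of `Z` in `E`).
-/

set_option autoImplicit false

namespace Cfsg.Agent.S4467P

open Cfsg Cfsg.Agent.Helper24
open scoped commutatorElement

universe u

namespace CNT

variable {G : Type u} [Group G]

theorem conj_pow_mem (E : Subgroup G) (x : G) (hxE : ∀ e ∈ E, x * e * x⁻¹ ∈ E) :
    ∀ j : ℕ, ∀ e ∈ E, x ^ j * e * x⁻¹ ^ j ∈ E := by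
  intro j
  induction j with
  | zero => intro e he; simpa using he
  | succ j ih =>
    intro e he
    have : x ^ (j+1) * e * x⁻¹ ^ (j+1) = x * (x ^ j * e * x⁻¹ ^ j) * x⁻¹ := by
      rw [pow_succ' x j, pow_succ x⁻¹ j]; group
    rw [this]
    exact hxE _ (ih e he)

/-- Conjugation by `x` as an endomorphism of `E`. -/
def conjHom (E : Subgroup G) (x : G) (hxE : ∀ e ∈ E, x * e * x⁻¹ ∈ E) : ↥E →* ↥E where
  toFun e := ⟨x * e * x⁻¹, hxE e e.2⟩
  map_one' := by ext; simp
  map_mul' a b := by ext; simp [mul_assoc]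

theorem conjHom_coe (E : Subgroup G) (x : G) (hxE : ∀ e ∈ E, x * e * x⁻¹ ∈ E) (e : ↥E) :
    ((conjHom E x hxE e : ↥E) : G) = x * e * x⁻¹ := rfl

theorem le_comap_conjHom (E : Subgroup G) (x : G) (hxE : ∀ e ∈ E, x * e * x⁻¹ ∈ E) :
    (Subgroup.center G).subgroupOf E ≤
      ((Subgroup.center G).subgroupOf E).comap (conjHom E x hxE) := by
  intro e he
  rw [Subgroup.mem_comap, Subgroup.mem_subgroupOf] at *
  rw [conjHom_coe]
  have := Subgroup.mem_center_iff.mp he x
  rw [this]; simpa using he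

theorem mem_eqLocus_iff {A B : Type*} [Group A] [Group B] (f g : A →* B) (a : A) :
    a ∈ f.eqLocus g ↔ f a = g a := Iff.rfl

end CNT

open CNT in
theorem relIndex_fixSub_modEq {G : Type u} [Group G] [Finite G] (E : Subgroup G)
    (hZE : Subgroup.center G ≤ E) (p : ℕ) (hp : p.Prime) (x : G)
    (hxE : ∀ e ∈ E, x * e * x⁻¹ ∈ E) (hxp : ∀ e ∈ E, x ^ p * e = e * x ^ p) :
    (Subgroup.center G).relIndex E ≡ (Subgroup.center G).relIndex (fixSub E x) [MOD p] := by
  classical
  have : Fact p.Prime := ⟨hp⟩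
  set N : Subgroup ↥E := (Subgroup.center G).subgroupOf E with hN
  let f : (↥E ⧸ N) →* (↥E ⧸ N) :=
    QuotientGroup.map N N (conjHom E x hxE) (le_comap_conjHom E x hxE)
  have hf_mk : ∀ e : ↥E, f (QuotientGroup.mk e) = QuotientGroup.mk (conjHom E x hxE e) :=
    fun e => QuotientGroup.map_mk _ _ _ _ _
  let f' : Function.End (↥E ⧸ N) := (f : (↥E ⧸ N) → (↥E ⧸ N))
  -- iterate
  have hiter : ∀ j : ℕ, ∀ e e' : ↥E, (e' : G) = x ^ j * e * x⁻¹ ^ j →
      (f' ^ j) (QuotientGroup.mk e) = QuotientGroup.mk e' := by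
    intro j
    induction j with
    | zero =>
      intro e e' h
      have : e' = e := by ext; simpa using h
      rw [this]; rfl
    | succ j ih =>
      intro e e' h
      have hm := conj_pow_mem E x hxE j e e.2
      rw [pow_succ']
      show f' ((f' ^ j) _) = _
      rw [ih e ⟨_, hm⟩ rfl]
      show f _ = _
      rw [hf_mk]
      congr 1
      ext
      rw [conjHom_coe, h, pow_succ' x j, pow_succ x⁻¹ j]; group
  have hfp : f' ^ p ^ 1 = 1 := by
    rw [pow_one]
    funext q
    induction q using QuotientGroup.induction_on with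
    | H e =>
      rw [hiter p e e]
      · rfl
      · rw [hxp e e.2]; simp [mul_assoc]
  let _ : Fintype (↥E ⧸ N) := Fintype.ofFinite _
  have key := Equiv.Perm.card_fixedPoints_modEq (f := f') (p := p) (n := 1) hfp
  -- the fixed points form the subgroup F
  let F : Subgroup (↥E ⧸ N) := (MonoidHom.eqLocus f (MonoidHom.id _))
  have hFfix : (Function.fixedPoints f' : Set (↥E ⧸ N)) = (F : Set (↥E ⧸ N)) := by
    ext q
    rw [SetLike.mem_coe, mem_eqLocus_iff]
    rfl
  -- comap of F to E
  have hFcomap : F.comap (QuotientGroup.mk' N) = (fixSub E x).subgroupOf E := by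
    ext e
    rw [Subgroup.mem_comap, Subgroup.mem_subgroupOf, mem_fixSub]
    rw [mem_eqLocus_iff, MonoidHom.id_apply, QuotientGroup.mk'_apply]
    rw [hf_mk, QuotientGroup.eq, hN, Subgroup.mem_subgroupOf]
    simp only [Subgroup.coe_mul, Subgroup.coe_inv, conjHom_coe]
    constructor
    · intro h
      refine ⟨e.2, ?_⟩
      -- (x e x⁻¹)⁻¹ * e ∈ Z → ⁅e, x⁆ ∈ Z
      have h2 := Subgroup.inv_mem _ h
      have : ⁅(e : G), x⁆ = (e : G) * ((x * (e : G) * x⁻¹)⁻¹ * (e : G))⁻¹⁻¹ * (e : G)⁻¹ := by
        rw [commutatorElement_def]; group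
      rw [this]
      have hc := Subgroup.mem_center_iff.mp (Subgroup.inv_mem _ h2) (e : G)
      rw [hc]
      simpa using Subgroup.inv_mem _ h2
    · rintro ⟨-, h⟩
      have : (x * (e : G) * x⁻¹)⁻¹ * e = (e : G)⁻¹ * ⁅(e : G), x⁆ * e := by
        rw [commutatorElement_def]; group
      rw [this]
      have hc := Subgroup.mem_center_iff.mp h ((e : G)⁻¹)
      rw [hc]
      simpa using h
  -- indices
  have hidx : F.index = (fixSub E x).relIndex E := by
    rw [Subgroup.relIndex, ← hFcomap]
    exact (Subgroup.index_comap_of_surjective F (QuotientGroup.mk'_surjective N)).symm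
  have hcardQ : Nat.card (↥E ⧸ N) = (Subgroup.center G).relIndex E := rfl
  have hlag : (Subgroup.center G).relIndex (fixSub E x) * (fixSub E x).relIndex E
      = (Subgroup.center G).relIndex E :=
    Subgroup.relIndex_mul_relIndex _ _ _ (center_le_fixSub E x hZE) (fixSub_le E x)
  have hlagQ : Nat.card F * F.index = Nat.card (↥E ⧸ N) := Subgroup.card_mul_index F
  have hpos : 0 < F.index := Nat.pos_of_ne_zero Subgroup.index_ne_zero_of_finite
  have hcardF : Nat.card F = (Subgroup.center G).relIndex (fixSub E x) := by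
    apply Nat.eq_of_mul_eq_mul_right hpos
    rw [hlagQ, hcardQ, hidx, hlag]
  have h1 : Fintype.card (↥E ⧸ N) = (Subgroup.center G).relIndex E := by
    rw [← hcardQ, Nat.card_eq_fintype_card]
  have h2 : Fintype.card (Function.fixedPoints f') = (Subgroup.center G).relIndex (fixSub E x) := by
    rw [← hcardF, ← Nat.card_eq_fintype_card]
    exact Nat.card_congr (Equiv.setCongr hFfix)
  rw [h1, h2] at key
  exact key
end Cfsg.Agent.S4467P
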