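import Mathlib
import Cfsg.Agent.Helper29.WinterDefs

/-!
S4467 (Winter) piece ZC: the centre of `fixSub E x` is the centre of `G`
(norm-map commutator computation).
-/

set_option autoImplicit false

namespace Cfsg.Agent.S4467P

open Cfsg Cfsg.Agent.Helper24
open scoped commutatorElement

universe u

namespace ZC

variable {G : Type u} [Group G]

/-- Partial norm products `e * (x e x⁻¹) * ... * (x^(j-1) e x^-(j-1))`. -/
def nrm (x e : G) : ℕ → G
  | 0 => 1
  | (j+1) => nrm x e j * (x ^ j * e * x⁻¹ ^ j)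

theorem nrm_succ (x e : G) (j : ℕ) :
    nrm x e (j+1) = nrm x e j * (x ^ j * e * x⁻¹ ^ j) := rfl

theorem conj_nrm (x e : G) (j : ℕ) : x * nrm x e j * x⁻¹ = e⁻¹ * nrm x e (j+1) := by
  induction j with
  | zero => simp [nrm]
  | succ j ih =>
    have h1 : x * nrm x e (j+1) * x⁻¹
        = (x * nrm x e j * x⁻¹) * (x * (x ^ j * e * x⁻¹ ^ j) * x⁻¹) := by
      rw [nrm_succ]; group
    rw [h1, ih, nrm_succ x e (j+1), pow_succ' x j, pow_succ x⁻¹ j]
    group

/-- `⁅u, ·⁆` is multiplicative when its values are central. -/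
theorem comm_mul (u e f : G) (hf : ⁅u, f⁆ ∈ Subgroup.center G) :
    ⁅u, e * f⁆ = ⁅u, e⁆ * ⁅u, f⁆ := by
  have h := (Subgroup.mem_center_iff.mp hf) e
  -- e * ⁅u,f⁆ = ⁅u,f⁆ * e
  have : ⁅u, e * f⁆ = ⁅u, e⁆ * (e * ⁅u, f⁆) * e⁻¹ := by
    simp only [commutatorElement_def]; group
  rw [this, h]; group

theorem comm_one (u : G) : ⁅u, (1 : G)⁆ = 1 := by
  simp [commutatorElement_def]

end ZC

open ZC in
theorem center_fixSub {G : Type u} [Group G] (E : Subgroup G)
    (hZE : Subgroup.center G ≤ E) (hcomm : ⁅E, E⁆ ≤ Subgroup.center G)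
    (hcen : ∀ e ∈ E, (∀ f ∈ E, f * e = e * f) → e ∈ Subgroup.center G)
    (r : ℕ) (hrE : ∀ e ∈ E, ∃ k : ℕ, e ^ r ^ k ∈ Subgroup.center G)
    (p : ℕ) (hpr : Nat.Coprime p r) (x : G) (hxE : ∀ e ∈ E, x * e * x⁻¹ ∈ E)
    (hxp : ∀ e ∈ E, x ^ p * e = e * x ^ p) :
    ∀ u ∈ fixSub E x, (∀ c ∈ fixSub E x, c * u = u * c) → u ∈ Subgroup.center G := by
  intro u hu hcu
  obtain ⟨huE, hux⟩ := (mem_fixSub E x u).mp hu
  -- (a) commutators with u are central
  have ha : ∀ e ∈ E, ⁅u, e⁆ ∈ Subgroup.center G := fun e he =>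
    hcomm (Subgroup.commutator_mem_commutator huE he)
  -- (b) multiplicativity
  have hb : ∀ e f : G, f ∈ E → ⁅u, e * f⁆ = ⁅u, e⁆ * ⁅u, f⁆ := fun e f hf =>
    comm_mul u e f (ha f hf)
  -- (c) invariance under conjugation by x
  have hc : ∀ e ∈ E, ⁅u, x * e * x⁻¹⁆ = ⁅u, e⁆ := by
    intro e he
    set z := ⁅u, x⁆ with hz
    have hzc := Subgroup.mem_center_iff.mp hux
    -- x⁻¹ u x = z u   (z central)
    have h1 : x⁻¹ * u * x = z * u := by
      have : u * x = z * x * u := by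
        rw [hz, commutatorElement_def]; group
      calc x⁻¹ * u * x = x⁻¹ * (u * x) := by group
        _ = x⁻¹ * (z * x * u) := by rw [this]
        _ = x⁻¹ * (z * x) * u := by group
        _ = x⁻¹ * (x * z) * u := by rw [hzc x]
        _ = z * u := by group
    have h2 : ⁅u, x * e * x⁻¹⁆ = x * ⁅x⁻¹ * u * x, e⁆ * x⁻¹ := by
      simp only [commutatorElement_def]; group
    have h3 : ⁅z * u, e⁆ = ⁅u, e⁆ := by
      simp only [commutatorElement_def]
      have hze : z * (u * e * u⁻¹) = (u * e * u⁻¹) * z := (hzc _).symm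
      calc z * u * e * (z * u)⁻¹ * e⁻¹ = z * (u * e * u⁻¹) * z⁻¹ * e⁻¹ := by group
        _ = (u * e * u⁻¹) * z * z⁻¹ * e⁻¹ := by rw [hze]
        _ = u * e * u⁻¹ * e⁻¹ := by group
    rw [h2, h1, h3]
    have := Subgroup.mem_center_iff.mp (ha e he) x
    calc x * ⁅u, e⁆ * x⁻¹ = ⁅u, e⁆ * x * x⁻¹ := by rw [this]
      _ = ⁅u, e⁆ := by group
  -- (d) iterated conjugation
  have hd : ∀ j : ℕ, ∀ e ∈ E, x ^ j * e * x⁻¹ ^ j ∈ E ∧ ⁅u, x ^ j * e * x⁻¹ ^ j⁆ = ⁅u, e⁆ := by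
    intro j
    induction j with
    | zero => intro e he; simpa using he
    | succ j ih =>
      intro e he
      obtain ⟨h1, h2⟩ := ih e he
      have : x ^ (j+1) * e * x⁻¹ ^ (j+1) = x * (x ^ j * e * x⁻¹ ^ j) * x⁻¹ := by
        rw [pow_succ' x j, pow_succ x⁻¹ j]; group
      rw [this]
      exact ⟨hxE _ h1, (hc _ h1).trans h2⟩
  -- (e) the norm
  have he' : ∀ e ∈ E, ∀ j : ℕ, nrm x e j ∈ E ∧ ⁅u, nrm x e j⁆ = ⁅u, e⁆ ^ j := by
    intro e he j
    induction j with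
    | zero => exact ⟨E.one_mem, by simp [nrm]⟩
    | succ j ih =>
      obtain ⟨h1, h2⟩ := ih
      obtain ⟨h3, h4⟩ := hd j e he
      refine ⟨by rw [nrm_succ]; exact E.mul_mem h1 h3, ?_⟩
      rw [nrm_succ, hb _ _ h3, h2, h4, pow_succ]
  -- (f) powers
  have hf : ∀ e ∈ E, ∀ n : ℕ, ⁅u, e ^ n⁆ = ⁅u, e⁆ ^ n := by
    intro e he n
    induction n with
    | zero => simp
    | succ n ih => rw [pow_succ, hb _ _ he, ih, pow_succ]
  -- main: u commutes with all of E
  have hmain : ∀ e ∈ E, ⁅u, e⁆ = 1 := by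
    intro e he
    -- the norm lies in fixSub E x
    have hN : nrm x e p ∈ fixSub E x := by
      rw [mem_fixSub]
      obtain ⟨hNE, -⟩ := he' e he p
      refine ⟨hNE, ?_⟩
      have h1 := conj_nrm x e p
      rw [nrm_succ] at h1
      have h2 : x ^ p * e * x⁻¹ ^ p = e := by
        rw [hxp e he]; simp [mul_assoc]
      rw [h2] at h1
      have h3 : ⁅nrm x e p, x⁆ = ⁅nrm x e p, e⁻¹⁆ := by
        have : ⁅nrm x e p, x⁆ = nrm x e p * (x * nrm x e p * x⁻¹)⁻¹ := by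
          simp only [commutatorElement_def]; group
        rw [this, h1]
        simp only [commutatorElement_def]; group
      rw [h3]
      exact hcomm (Subgroup.commutator_mem_commutator hNE (E.inv_mem he))
    have h1 : ⁅u, e⁆ ^ p = 1 := by
      rw [← (he' e he p).2, commutatorElement_def, ← hcu _ hN]; group
    obtain ⟨k, hk⟩ := hrE e he
    have h2 : ⁅u, e⁆ ^ (r ^ k) = 1 := by
      rw [← hf e he, commutatorElement_def, Subgroup.mem_center_iff.mp hk u]; group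
    have h3 := pow_gcd_eq_one.mpr ⟨h1, h2⟩
    rwa [Nat.Coprime.gcd_eq_one (Nat.Coprime.pow_right k hpr), pow_one] at h3
  apply hcen u huE
  intro f hf'
  have := hmain f hf'
  rw [commutatorElement_def] at this
  calc f * u = (u * f * u⁻¹ * f⁻¹)⁻¹ * (u * f) := by group
    _ = u * f := by rw [this]; group
end Cfsg.Agent.S4467P
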